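-- Double coset enumeration FqDC; generated, checked by the kernel.
import Cfsg.Agent.Lib.Compute.BlockAct
import Cfsg.Agent.Lib.Compute.TC.FqU0.Data
import Cfsg.Agent.Lib.Compute.TC.FqDC.DataP0
import Cfsg.Agent.Lib.Compute.TC.FqDC.DataT0
import Cfsg.Agent.Lib.Compute.TC.FqDC.DataA0
import Cfsg.Agent.Lib.Compute.TC.FqDC.DataR0
import Cfsg.Agent.Lib.Compute.TC.FqDC.DataR1
import Cfsg.Agent.Lib.Compute.TC.FqDC.DataR2
set_option autoImplicit false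
set_option maxRecDepth 1000000


open Cfsg.Agent.Lib.Compute.ToddCoxeterCore Cfsg.Agent.Lib.Compute.ToddCoxeterPresented Cfsg.Agent.Lib.Compute.TCFast Cfsg.Agent.Lib.Compute.TCChain Cfsg.Agent.Lib.Compute.DCoset Cfsg.Agent.Lib.Compute.BlockAct

namespace Cfsg.Agent.Lib.Compute.TC.FqDC

/-- the tables of the tabulated elements -/
noncomputable def Rb : ℕ := nat_lit 0x86713da8f6a770a9fa9f67328f95b46ab589561bd6a431a159c1dce39dde3c8de1c9e4bcd887dad7ead5d4d3b1cb2790ac7611d146ddc7c80ac27a1fc5e560693953dbbb7855b7b8b6eef0b36bd252584385ce8c66f7fbf95d81e9497ce765f545e29c9a9b5a4a3096f19420925ccff202dfab1e2fed07d9fead037e28a5732a831aa244c425ba18cd3f268047fdf823226d21b2efbf33f4aaa006512d4ec03850a6915499e6af29ecb95bbdb0635e0861424c1798a33e72ca9e7bae4d0b1c7548fce01315be5f0e16091068f3e8978a01620c0d7f5782d07479146f6e6c93c38b1940eb7d1d774b363a243b05cc340437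2b2c41c6354f8864120f848e2e0048c5d1d364d744f7bd1bf480aa77f037ad82a9eb9742e82a0a98969de22252df2336dc05af756cf973d5b9fb13fcd08d4bcdc4cbca5a7bc758fdcc560e7e926b66f6bc19bad4b8b74630121c6ab1b0da4fee5420f2eca8a74d3b5d5ea2a1862c2ee38b616806e5eae42d943ec090918f29cf0b9c8a898824a0322118ed81f327c17d7cc87a3c3df134d943d67269706f6e04d8bfb2719a11be41fa494a9b605fa3a45c17c903c615c355ac16e05051ae4ea64cce6263fe10b645f874e965403f937879a53a3938efdd3576338528b52f9e959f00e78e317f082587dee184ab1f1e1db3f51abb835b535714d2b467470fc20d0c8ce601260799db6d5902092bf3e22cc5ef6eda7badf1b706f298103a20862d1a501b9c1908154b439b3573298dbd053e75fabc23629ff76b72eb2ac41e7ff99ad4f846e3c29da7b9f068a684baea82d02fc3fcde70a954bee812aa14fb65cd483983907d040e32fed796a11c22ae5864a449025e174d34b15d210ad526f4d8037c2e0089277833528c8836714ecf8aca4479e5180dc9537e5fac56874c77b4afedcee937d151fdee60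165701ab30a293c7dcb2d655b647dfb5f6dda8e00fcc8bc080976cc894e65a0c63b8e1a595b069d93c138e99282b11cb241fb36f4240451d743f6a676d315c9e6141923bbb8fc166e725a09185d3765bbfc63ddb38ec594f817a07a30b4ae4f5d209a364b8aed9ccc9d451028dfef2f5c2fa636a0cd1bd68b219447803c7fd3f4e53b750590ef83a8ca2578fca140166bb7d69ac4c327b75465a10fbcfb9c61b4a11b3ddd81dbec340f455526c2f58933c6b9df6715eb0b54fc4c03e9a065ca017d522c5e8e2cb36f148a13d455b1f16a81c37de824b7c87816fed15bfa9bc0949cd73a78af70879856d13da29e0d27fb62ef92547d3273bc1261aad9b41d621627297922312430b9c607056b4748365ea0a7e956ee40499ab54c82b7ae32d202c28db0f391eefaa0d6780e19484a4245dba89ecfc34d0df35868e1831d79e91ee30ce2a9fe9ebe7779661e5af38b133f04da57642059000e607f3dca68b985f88933632c771feb5cdd18b2e528c81c9616c884fd928d85b9824dfa5d7f908fc332ae3d2f775c40a6da6a1eecbba22a0ccddbc9e765c9cd492427f1d72408de1aaf862a9fd64ca1e82d5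3fb196296a3eebc319fac66b2370daf594862d5e659d013be8bb57c0595a1b80f6efbf276f60ab481618e5a31c45ae4a7d874c17d3774db6551aea3d386eec7c53f421b84ee726977869544734305de9519fa8d00dbe7ab7f106f2e6202ce207ad9bc80bc5c1394b4900accf7e5ff01f8ace913158569a128e50b2af83dc66b413a715841141edf373b06763047414e405deb93a093568e0958f442ba2bd853c2599fb460e89c2104379030f2f9037dbd6a47b0c02b3f9bbe013ace2bedb95a6742e5b5d4794d42f77af7b669d705a8b26dd57c01ee524ce3806a7ebe9e305b6c881dcf6624a44f7cfd3b9f053fbab51d9ae0f509a936018cd9cd223725e7ef836003bb42c3a87554b8fbfbc6334d6e4048a19d5d064cca0c9543f14e76eb31da5fec743081c3dc1f2f54510ed84a4173239b7f196c5498576035f0c6d80cbda282dc3faa89178d7eeaab16c1f2b37a1ba2abdef9048a267cae89899419b407d6b75f3653cec717f834e864d8e6a12881b0dc630c2b5b07a169e224f7907fd2069dffc426809f4a3581adeb2ea926f15e6a9d1735946b8c489977cad8c828d3327353e310e0a11610252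d821e1565c25290b019f4cfecbcdded2e1f8f7f6caf1f3e8f4eaefeebde9ebf0ecf2e7e6ade09ce2f9e4a9fbdd9fd686d9d8d7db96d4d3fa7173a37cfc75fdf58183c7c0bebc5c8f67c6bfc5edc46dba4baeac4cb57ab353b158afb8e5b7593bdf9b9a61a590cf43a140dc459de3a8a7898830d585944f9291a4c28e8d8c338a999838da9525c872c9273f7e64ce7bb479782928cc2bd082d12d5e5dbb5b5a6a6950c166547d6362a6205f6f6ec36c6babb04a491765b252516893194db6b957561b3d3c9e12a24241a07f3e4746aa1531870e2e35348b3239971036700b74247776800d842a1e1d1c601f23222148164e07551a3a111344142f0f37260c2c08090a1801050403020600ecead9e6d2d8f8e0faaef0f3eefdcbd6e8bde9ebf1fef2edde71f7d7c0f9e4b8fbc95cef9bcde19cdb92d4bbf6ad89a88dfc3bf4df817ec7e2bee59f9978c69eb5e7d16d855ecadc4cc56ab639b152afa9bcc39075f586ab6fa559da436b4dac455be3a3a473cc30d5ba944296a2a7d0977c56224a8faa64cf9525c887dd31348338ce47b48467291a8850c27dc4624b74d39d5a7a692bc1776382542db92036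6168b76ca19ab08a491d658058606e930d40b3a6578c3e3d1fbf16914f2ca07f1b7b4698322772092e353f5515538e145f700b5d136644b219792a26170f513c4e3321481223118b283a07247610181c371e0c41040e0a2f01060803020500e9f1cddef6e1f8e4d2a9cbf3e8eaf4dbf2e7feebfdeceebdfbc4e09cc6d8f7cae681b7d6a3fcf9e3ef96d46dfabc8f867cd998f0b8dd83c7c0b571ac7367e245c5edadd39561df5cb3be7a4c27b158aff5d19fa788aecf904ba59a9b915a40c3bf6cd7da59c23b8e9285944fd543ab8930ce491757d07582a8ba797e64c9533fc8728d3d6a25c16612aa6e9938e52da650bb5ba1b4695d7829548765705e512eb92bdc9d6ba4524a8c336331b02074421ea0b66f8a561b7b3c9e28a2930b4d3448471fcc15b27d0e5f357f1d3a8097073662416824771639238413198b1c60460d550f3e7626102244322f2a1a181121094e0c2c0837041405010a03020600e41fb9f056f17cfba2dd3198a17880918dc2d230b2f26bc3f9b5db963df6f8cafab8e527a7aae9d467d34cd53cdf5c8353a6558cbccf90b76589eda885ef25776ad0d1d7a92881a5b6ab7194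eade0ef3bdc5bedc13a395b4419b998f62d86ec936fc9cc7c8731d18b3e7e3336d467eba1643ce58667a4d44acc4329f26f5f7e29a0f2d12ad37e6085b8b115960daec202192c6e886cd4ed605221c2ae12384870b0caeebfda41517b1823ecb357f2c1b6f57bb07405abf1ec1243b39296979c04551705f64ee2f4a5e06d96172f4767b42e0971a74049dfecc0954936c0a6849b0af038e4b5250884f755d3438638a01477d029ea03f482b19102e3a140d00275a9df7dee6e080e18131afe9f9fbc139c4705bb2d86b9578dcfe947f622dd1b1f5abe47134a1bb67d3d7d5ecbcbdc98c692653df9f9a9b6cad85e7ed463f48acaeca4c8ffcddc7b6e5a796ea561e1d5c7a86b5d9bac3dacdb759a9f6f20a830b289ca57ea4f32ce3a8b3236defc8a31beecb7510c5175f6ac260cf55b8f051900df82f8940f1bf30152a9932b43c4ea09222e8be4120d68ac63a11a233723b3614d07649738b4dfacc24ce193d18166888d41a371f080e913e878d2ea64a0954e2d244034312799e52139384f4eb38047c50076342b9db82c04561656e6ffd4798644f2b0697578e5802aa7b74057db0015d5e212577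4b3566291c0c0f00f9e1f3efd8cbf7e4fec5f1e2f8fad2ece0bef4ebdbfdf2f5e9a5eed7c6d6e8caeadab5f6a8c0fb94f096d5e3e69bb8ada1fc69ded086a9dfd999e5aebdb1cdb983c8dd9ccf6f89ed929f81d45a8c58b073b4e7a35edc6ad1755971ba6b3c5fc24b93d37ac47ecc42b6c96d384cce85c79d464924a68fbf4fa7bc52c397ab7c455c30b25b95af562a2e7f61b7829a8d34aabb8753902b3bc18b7b3d6c1f8a361c3f98ac7262a4849e6733647025a04a471321b36e88783e7d27744080654876570c8e315d4d2d54172855502f0f39631d32911b680e373aa22279116610124443771416411518294e1a51071960091e2026230b2c050d063501080a03040200f6e9cdd8f1fef2f8dbe7ecfce8f4d6fbe4b7efebdee6e0acd2c4f7d3f3fdeec7cbbca9eaddc6fae3e1d4b39cf0a7caba91c098f9df95bd8fe2f59a839f67d988edc2856da3bfd07396dcad4c7cc1af79c3cf5c816ec8da868ae559ab27ce51b5578ebbd171c55d82d57ad79db62d6a893d70b16661b84a6cc99058be72b44375994780659b25491e40a645ae5ba453b94b9463a2a8cc2b56234254305a7412a0aa3b7e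7bb2a5b03f7835386b84153487173a929e508c414f8d7f201f971b445e4864a1682831932960076f552e3c7d3376390b69771836460e528b0d264d0f62102f5f2c161319371c1a1d4e212422322a093e0c04110514080a0203010600e8f7fcfbf0e9dbf4f1d1e0f3d2faf6e6fecfeec6e1f9ecdad6c9e4e3d9cbfdc4efe5a4f8edc0ea92ded4d5b6f2dfc3e7cee27dd8a8bc95b4ebb8f5c2b770cd9781a5ddb3abaab5d0bba9c7d3a25a6c93a39ba785a6c5aedc98bdacca808d486a8e879671ba7eb99ed7c86daf9cb27383bf6b31775490825bad9a6899ccbe91578f88a15d9f6e1f5526427b599d86c1528494b07c5c45793c8b254b8a3958181d64477a72b1896f7f27664a62612f3f752c134c386349a07443691e463b4e242b223d784f3a2d5e351737503e095630602e532334292a118c44654d411b0b0c67763616330714515f0f0e0d401c1a191232102021031506280408050a020100eee0fcfbf1e9dbfdf0c4f7f3d2f6fadeecdae8c6d8f9fecfefdde4e3cdeaf4d1d6bca7f8e7e2cb96e6d4d5b3f2f5b7edcec082e1a3e595b4eba9dfd0c370d98e81a5c9b69a98c5c2d3b8c7bb915a6c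93a886a4bab9b5caacaabddcaeb27c487a977292ad8583a6bf9cc86dafd780897e9ea1276663597d9d71ab6e8f88bea25799cc6b745c683c8b1e4f47905b9bc1587994b08d9f45841f55255e4a53522f17387b6a87b173617f31778a2d6f18343b41244c645449a05d4369264675231350333d67423a624b351d372b1b0e8c30512e394e3f292a07567665402c3e0b0c78445f1222111060361c09194d0f280d16151420210332051a0804060a020100f9e6fceaded6ece4e0d0f1e2d2faf8f7feb4eec6f2e8dbdae9c8f4b6ebcbfda7eff5c2f6dcc0fb94f0d3d5e3e1abc3bab2f37fd8c59ab7cfd999e5a49570cdb983a5ddb3df846ad1bb59c7d4c13c6e937abec4ac54a889ed479f85ad808c2fb563b09673e77e9774d7c96d8a4cce71819d464976a68f825dcabc68b8cc9b9157903da15bbd6c1f373a6979a9bf86a234aa9287535c2b7b5a8b3b30af5638181c3f98a37262ae6f7d27414ab165486475440c9c588e314e9e67421e6b25a024452188784f262d5e510e55505f0f394b60117c2352282a2e8d2c61326610121343771416330736353e091715191d1a400b4d1b2022050d06290208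030a040100eee0fcd8f1fef0efdbdde4cdeaf4d6deeca7f8e2fbe6e99afdc4f7d3f3d2f6bafabcdae8e7c6cb96f9d4b3d5f2b7f5c791c082e18695e5b4ebcaacd0dcb2d972ad7a85b6cfbf83c8e39fedbbce539d6359a3abd16e73a9df8abdc35c707c41a5478e4c81c9c55d989cc2d7af6d807e894a27a16693a83d6c71a4b9be888fa2cc99572d68ae743c1e8b4f979b5b90c158b0947943b87584462352509e5a252f3338876a7b67b54b7f6235aa6b2b37343b480e9230548c51a68d3f4e1f4555105e177db1657631617719186f1b244964a02839266929072a563a42402c0b3e0c7844125f0d111360151c141d20212e223236094d0f0316051a080a0204060100c0cd6ff2faaff8e6f6eced97fb9ebfeeeff4f584e1b08a98f7dbdce3b9ea74a69d57e4e5c3aa75d287686e6cd7d0d151acfdcc5e457f7d82c6b844da66bcfef05258c19347e2c555b64035b3859ce9f9692bce54d936992cdf20418f9a5ca038f1deb134a2a8e7f31a3729bb281e7aa33a737160e84288d678b2eb22c72118c933c8122f9048867677d8e08d4a8c70fcd42ad30f19aed517c2111c264c2e8b4dcb5ba15d4914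bddd13b7ab0bbecf24164e5f623b725a79ba09cac40e89a4b51d323d314b8e0c9f95a9b49b7e3e3c257b6100a7ad6d949208633050238381a506913f6415966a80674f1b59567c650d6b431039530746270a1f04050203012dd1daf3dbf6e9d2a9fae8cfc6fbf1f0e7b5e0c4fcb7f9c5f7dfa3f2e398c2b8eef596bce4d8a6d0b3ed81a5ddf8cbfde15ab98ec3a792d4d5ebdeeafef4ceaa8295b4a8c98dcdd6ec9ce6bdd79b706c93a431e5a1c0ef8fcad96dae99ad6a48a27d1db63c6bace26183bec7457e7167dc6f59ab4277b297241f7c88d3589486afbb52904056ccba3887268b801327b179bfc8697a8c579e85642512362d849d542f55911749786eb09a4f5f53685b510f1b474c1866c12e4d437f72461c337b440730891ea0391629632a760e239f655e3a6222600b0c415c753d343e093537733b2b74112c054b508a4e043f4a15085d28062021031a10320d1914010a0200c3d0ebf2f6e9d2e7fadec2fce4f1f0a9dfd6b7c6c4f9f5efb5acdbe398cfede6c5d38ffbfda6dab3b8c7c883f8fed8f4c1b979d1a7bb6d94f3e8eccbe149aa6e95b4dc7e78cde0ea9ceebdd78970577fa4a2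998cc0f7bccad9d4aee59fab3a316860b6b256a3e288ddbe81afc95c7ca8ccba6a74163c847680676196bfd57345929e85406b6f598a34261c1f4491b18e58a5b09aa16c52904a3066362d972b542f0f2751ce8d82697a5d5f537d50175515474c18125aa04d43933f468b287b1323259b1e2e3977206321244107ad3d5e48621a1d35370e71756587322c0b0c863b9d424e09054b5b38110472641b084f3306292a0222103e0d19140a010300e1eaccdcf6c9b6fdfa6b9bf3e4d5d4bafe7cad97e8ddd1c5ab5aa8e39de0dab8efca8ffbe787edb1e6bdbe46d7df80f7a3e261f596ae3953fcc4ee91c349d92a81a5f2433c55cfd070ecc7f8679c22339286993166f4bcd3aaf0bbe556b52e8c2924d2719fc1b948f9c895afe97ad6dbeba927403f786f1dd88979a7bff1902ca49ea174de841f36085f505975cbb3a037b4b08d856c35734f3dc08a2dc606174d146a5ece9a82415c6426947d1c54cd0a134c3819ac8e2f7e9316835b284b471b11c2423a6d72203b21606903b7305188621a7652580eb24432a665450b0ca263981e3e09107b8b18250d775d23344a7f2b686e0157054e04120f1502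0700eef7c6dbf696b3cffacba9f3bc81a5dec4d8b58efd92eadad6a3f2e3cdfee1d17ae9fb8fe0c086d290f1f0a79ce8b7b85a4ffc71ddf995b461e7c5c23c996482d4d5a8a4ef98df31f8a16d7027d76c93c9ec49e6a68de48324bd7ece1f7c6f9a7de2b1f459ac1debca945345aec380dc486b9f1763852ed9ad6a794358bed00e4652ed18918489132b727b67389bb6880b3969f55c330cb2aa23551e2dcc34755b125642e5732909a2b950c72a2f7466075e4c400fc1973fd32226bb3b578b8a1b65ba363ac84b6e776810af25ab3047a0627f0dbf9e418c54159d11b03537781c87513e2c4a165f44035d4d053d1904281420214e1a760160080632020a00fbf288dff8d4e3ecf643bdcdfec7ddf5f453ca98e9d3c48fed27a9b3bff1b7a3e8736ad89aafbc2dde865c789c85a2e059eb65ac83718d8cfca7d6b2cf1ff320966dcba1493595c270e4d5fa464c2928819fb55a41dbbac88ef7c9e7399007563312d2adbe80791eefbbda72ee99f9fdc07a3c10346b6117eaae54d05de6a877d15b679ef0a6310d051542c54be1b62360c34a7ce5828b892bccd9b062c6040e1b4db83b91dc6e769b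38487e6c0faae20a0bd7585fab473a925713949d2125b9192ea44518a58a2a301a555008b475373db12244643f1cc12c367b6f4f2416ce84632f401d329751265e3e66744e528768697d7f019302a0030c0914061100f28fc6feb390faa5f6efeec0fde17a9692e6f7cd86eadea3816ab5f84f71cffbd6f059a99464db4cc4b4f9e99c7e83c21ff365bceca4a7f16173e86db7278ee29af4d895a83f5ce070ac31e3c32d63d9859bcb4950e480c579393cdfd0bb07ad7b42d256da91eb18beb84309465aa1e7a6c8c7683867fc0fd5d11eca69ae990b530c6b248d98d37f573012dd93c9b62358bd5289dc0d0e7c13cc2a1d62886e4a1582d47dabce4b459f3484ed10173322115db1726cba5448b23b2bf574aa1b29142e8c5b47a2552f25b98a9e1978361c3dd7266637b0afe51640216f2c41bfc1971a285e353e3a87207503449d018b515f77054d4e0432a002766006080a00fbf2ccf5f8d4e3fefa43bdd9ecc7c9dffd39aeaae9bbd199e731b8b69ef0c3a8ee897ae1abafe562e69b9f67d7ba91f790eb65dc7ead7c56fca4ef80da3cf320926dea6b493595d070e4d5f6464c291a815cc55a2c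db85c897e0dded5359118c2216d271beb28426d6d3cf87e88ff9f4e26a1f143fa16f1dcbca63c274dea366c49d78bff1b9271906324fb55ed8b34e51b78a8dbc7d55735088cdb02dc608093e40a975a2ac6844866448836c1c98c00a0b9c52369a7b3a965724945b2125a60d2ea7452fa54a2a30288b2b04b43b373db1337638340fc1415f4761421312ce7954184d17158e601e4b1b775d2358726e69827f019302a0030c0e10050700f7eec6fef690facfb3fb8fc0fd7ae1c4dea3f2cdbcea92e6d6d8b5f88edba5ef81a4cba9c2f371d296b4f9959ce8b7941f64fc8685f0a7f161ac7ee083274f7b9af46ae9d179e46de3733170992d63d9ecc959daeb5cdf3c3f39c5805a8907d4e27d4cd549e750a646b84309bed0ce91186b9f346cdd659356a898530caec30bca69c848dc1e7c132b5b82670f9bb6880ebd52bb8d0d58d37fcc5584d72317257212ad42aba11045c7681da24b6e66746f1bb11538ba5424b23b57f522265d8a5e2ec13047ed2a2f4ab9292c75e5363a3d62aa3337b03578974044119e41bf8c16875114af771c1a9d198b2120a00328043e054d4e5f600176023206080a00f2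fbccedf8d3e3fefa53cae2f4ddc8dffd46beb9f1d5d0a8e73cc5b6b0f9da99ef9b90eaabbfdc62f789ad7cd7ba91e67af365e5a59f676bfcb4ee80c331eb339496e1565a41a7d170dbbbf6394c282a8386b84937e49ac984d6c7f54359118d2124d273aea2972fe0d4c274dea3f0ecd96a1f1464786f1ccbbd7bcf87e88f51b78aa1afe9aa2719063e50b55ed8b34e66c49d8cac7f44714f88cd9e2dc6080c3240a975b2bc93555c3f3a816e1d98c00a0e9c69368563486d8216925d2230a6102e9558267e721a2529603805a44b2c3db120772b4213ce354d4761340f17c18e54185f121b798b1e3b15765b23454a6c52577d016803a002090b0d040700f7eec6fdf6e1fad6b3a3f2cdfeea90dec4fb8fc0db7a81e6cfcba9f8f3bc96ef92f1d8b5e08e71d2a5e995f99cb7e8832764fc86f4a7f0a461e46dc2941f4fd9ec8559b4d1ebac7ee373c5705a2de27b9ad46ada795ce7b83fca3191997c07c9636c4cdda8df5098bd3cbe5843d0dc801e9f6b177dd56582ad49a6ae4553c369390bd384ce18892b135b939b3867b68852460ec78d4b09c86ecc8a48d723341b72425612baa13b0cbb571df5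0d7f74666f25b1300fab4724ed1068a229b95d55752ee51554b233aa4a2622bf5ec140973d622f2aaf35b0783a369d11419e2c8c1651871937771c2044148b281aa03e214d035f044e05600176320208060a00577bf324e03a5ad426f9da3ce218eebe741e79ef9df1e7e8065d4168babbbcfa9bed051a4e9ebfacd7c93d8691ec1537ced38872cc8aca0366a276a120d29adc8785df080c77c60db580653f818bab5bc7d6ad1cdbc16c2b55d0b8b634a6b21fafc0b0f8ea69a095b49290b98ea9368f97a738c21349c8eb4811946d9398a3646fb37d5653617e8259e92efc70e60e474542b7aa22e39958a40a353362d1527ff7fb31d9de4dcf6a4fc3391b638321fd3ec4892f1d27cd78406e7a8c512d547cf45e73f617462367845f14608d02dd4bf0292a322ce4104c00aee543fe28b19f304a9c446ba575f50419c5d5710f50bdcba8f209961607e112d80b25015c3b224f735ddff59b5e3b173efc0ce92eebf0ddd1879a75e7e871242969f207fabc5a30bfaaf45b05d6ad13f7cdc161a558ce48ca0ec8d588aeb8144d558ba99dd8ef0fe0e1e293a46ca3b6967da0209c9e25acd7b06b910d8d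a1196680c5c3981fd9ea1cdec068818e0a97848295d2948f923243b1c94cccbed3bd365177b2b55f787c3ffd44ec47b9c418ee3ccb12727e4583a81a5799e337c6b47f52627933353de501aff87667fe7ba6407a60421056da59272f1d89866f396e1b236de446b34ed4f300f9548ccf9064a2632b5c1e4b74412aa72c2d2149f603fb386a50c29fed4aab53db15f13a09d0348a0685281170b7ba04650bbb08e6dc16c7310226a3d2fa08bc882ff6ee306106bdeb5b26f74b64aecad972ea3a3b4fecbeade286dce10099f49b17c07071f21166e44ec61b13cd75e79c031c55a98e76b2785edfe0d4fc0516b581c36045a2848c82e8c9f1dd3c04923396d05258c17c626c9374f9d5afe931342aa529b66a69380a141a6b98c27d8a189ef0bf492b56224032599442fe192120a4a6b75a1eabb09d01ce673936c47ea08337fd63e328b4da953ed7bac887cb46974368cf6d2c77417bd1a75fbb2ed30cd8537fb957448b35b8794dc7091d0e54aa6ea151dbc52d0f240bed8047b38da8658912fbf591b1153f1f9fe53d6f0d5027485d7a10ccef4a909ae68f85f823ac25f3074c735c02d6de7c66bc25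fc9e0beef724da07d4ae8712f62ee3f1e79bb0ca0e1dd164e0ddbebf00adde3461e9485e019dbd4afd4fa7556fcc135aeaaf5c3dcf336bb78ca4d786e2f2fa4c5d45407695b9622bc222729cebe1097338c5294e779778feb436691e8871c9d90fdb8d58a8607ea0aa23100dc42ab2428a27f95bdf0cb368b1b82d466a8ba350153fc152c3cb9f04e8d5d61b3754a18e9493566ed228ec65a2f4b64dc01603f0757fa54483c63947a63519e4d03e05ed1185172c59b543577d5181205f1cace5e66d92676c4199a9809af5f84b32538498966318ef08300a827a791f743bc7ce8f7b89d8ba2190cd26d314313a1a492f913cfb06f3bbabc80270dc9984ee05fc7407defa75fe03f5898a13d65efde5d39fccfb1725db6fbac8d7f300d8bc1b2babd91c01cdcb18d034c4c632eb11e1cac01f1eb621d2cf2dcef2adbfbedc2748142823b3b96b0a913f9d9bb073025a19c55f55976e7cf48069655b874ce65d06a2a83e836681477f8e290de458a4428871f83df908c16c5994a3a992548c4022159538c23c9c09e8f1704f987d6a769037b5776250b436d1dab7332f0f0be04b7b46a68d4e8f3541a052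a7e32a1ddd128530794353b12c8b517a45102ec9d5ac39a167634478a5ecd49adf2464566093966826e73b0e61827e57313a0ce9b26daa4986f04db8724aef205c9e1aaeafc3bdea16e2bbc7ed04f6f7f4ecfae7f686880001f2a3dfc0711611fc0332cd081c72269ceb8e4e06cb5b2ff74bbce461d8dde0ee3b31eac462d2c3c1d5e8d4ca3ce104cfa9d00a7684c9bebd09dc05e2b51460c66864b61b44ae0b0cbf3ad9197f984f57338c80993851e90eb074af30fe6ea62978812a7eb26a5491567c42f0f18a9e1749fd962294a292216da459404734676bf5f9ad138970e3a51a83b46ca1283795a02d3666232ba8ed9b0f9fab828d202ca77d455041656f55159d5a1218ba93583f35468b527bb1978775251e3977696353d15fce1f485e3dc243da4d90b8bb27e52eb77ac510c8c74cd7db0daad3e60779b9ef4acc3e5d248f1d5cb37385f89afb02f3acd6deb3cf0008dec9ddf7eec8f4c01685dfe7f6abe47211acd5efd4bbecb4881c9af0faf870c4c25b0675d6e8e6d332a4a2fd80cd18021df9f5ba8e58dbc1dac3f35d0b2ebce5c72c38a7b220e3feb633b03d1224e9ed444d45b79319d1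0ad040685e874a040ee01b63373e953fa62891211ac62964541e25e29e03f18469795fce77657d6f6c1482617f76d74809eb05dc7c35427b2b5083a02a237e8c984f784e819fbf0fd91752c55110558b3659576a6260a90c319d3b744115a8aa226d47a19496af30492f0db897536e2db1d24b3c3abd34b96b678d92132689ad664390b5078acae1998fa5cc5af2467a27aeea565c9b394cbea373fb1fd8719c86cb01fcfedb0013d6edbaeef6f0c38a03bbf5d3f7f9d0eb05c8e5e7c7e8b6b7d904abacded4dcfd95e20706fa85ddef1ba7eccecfcccd170c9ae9e6842a80f4c2c174af240970f1f85722e3e465a491a2194abf1d0fdfe06e3836d1a03fb432b228a6025d9d302ec90a444758da337750b352428e204f7df3083a3d4bd5c6102c45c468298b344169516493601fc00e263bbc6baa0d376f407a7f3e66b57835616276535a9e0b2f5e1596b91423545f9079928c4e431286b0111e972181984d8f7b6aa567871c71881aa96ca8637c94a3169c5b9b2b822dc57ea1257227be55b8468d7548ae3cd239b118cb315956fb4c4983ad736dca5c99bd89d8d7eae1f29f01fc0ebf470d4cd187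46830f55bd7e781f3fe5aa051dbcdfecebc00698dd514390257d2149ce993b898b1a93cc7a1cf919675b3ec8e88811f4e0a5e9c4720af084910720509f8c7b8fa034f5af042d14a9716c4839da173cc90b375915e3d4d9d7e7efc2cd03f6e26960fe8e32fceefda666182bd5a72327b66b106d95973d736a9bb06e097016ac62f276e16194ca9db975de0c339e6568b25cb8dc5f92f14f5e5a9a24fadb00c622c5f7a2cbcf2e29967463a453c1541236ba56015731353ad6f89c4b77aea3ed4502ad52c3a11308b3bb5de42c8dd0ab5828b144428ad841f382862fd281302ae679d34d7f1b80a81eb5ea6485b7b47c6fbe4e4a4026c738fb969193005cd13f569ab5c8207762c19e9239e8e70ec5cb9f18ee2da39975c7e96ee3655baba122a0408ca2161cf92a53db9cd45472a8cc025957c4349d4be6fd07f3ea2f4770660b880f0a3068267eb43b367929edb0118b90c64d3a5533b7bb6b713e7f5edae483508473d563bfe0b8952bbad723d8caf81e0cc0f61f1b1214f2de09b9d317f13c766f4f81c3af7b087d85ae87809869cf8f6a0d4e78749764602e67ce5fa5284446f44a4c35e2bc610615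fa3d05dcadfcf73825e1242104efcd82a9d941ac01a64842b66c94431a1d52b22c8d1951278903df5d8a58ddbdf010ebd213d6d08eaa7aa4b13249c986f5fefb6da7c27c31bee5ecb39b37455a68aa1669d663f088e4cf70b761825db08edfc1d0d2bfef2c93cd84ba60f2e977deb4e2571e263fb5fadac8b349512f8587e36e5809f5c4acd959d476ab5bc2e01d1a4ee7f37d9fe5c31018c9ee6bf8fe4d9435c09e331248ce90441bf442418fdb9800c5a71c80f981a06a975c3dae2ab25e6495b9a9727911d3f6a854bd9d6c89cc468a92913bc7b6cb7f0bf732a2527bd774a10f5aaf2d662b8c47e105dc0efbe820ec062e1f4a7c23f165b18b673c3a28834ffd04d5e6385637256fd1ad276da6314bbc7534a44ced45179978eaeb2253bb5007402402c6d8a555150c5f089abea37121b8dd149c9b7e3e0dfc13297a36967330ca39198d030a62430186af4a115ed697b07284c9a2bae154f8e8b2355b2f30e05dbb47b7f6cddc62bfedde18609ed5c6256dfa48c485ea41ebf5a6e57d7509b3d477269bc8b6c0ecabe91d813a2ce38a19f376d7ddd38e52ef689040c7c2fd89839a3d24371c706b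95b8aa8016151e329d930c8bade67a79a59fee0664517b7ef7ce00cfe44cf196987414b9566e0e8731dfc3396c0b881bf442cc3e7fb194fbfe5066538cf903f2e2208df092c169c5cbdb4523822d6fd12b4bbcae363b57d2a7637c34a402a1a029d813914f784e0846440dac38a9713c0ad05967e7658f0f4d3fd94328552e1a5c58dabe99a3bd07b433fc221710a886b56a5f12217304ca1f2a5a61490527019c8c78dc30f6af87ded60f3411d8bf4a3dfa2e6f9ffb5d9ebe9d122bb7d7cbb0aef7730062e3893b3aee5cca0c84c266606116884bc8bd0924c6a97623956b1cf1bbf5fc1d0e568fa75520d14e2da6e9e6edd39b0bb128b5da524da4997c79512feff9cdc74c1b69675fb481501a4f1419d29880a072268af0f3ad0a963f2164399045f4383e42ce44c4e15babccc001c1467a58ec92688d93d047fe6591fdb340eae0e57449a57fa17dc34363aa4197dbcf15ba75f8069c537bb93582578b835436e80225136c6e776d37a2c5a3085e07dfe42cb2b894333c17f2acb67e29103186e718320d2a71d9485922e2d51ea8c99a6a85dd8ed405eb041f5a270370bc6461bceaee9d4adefabd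7c8625bf879ed6ae6b075eb03d1daf5c2dda13755d2ef70bfc4fa717f2e2f61209ad8eb4664e789c72e1d40fca9bc6337655d16f71f1e7c900be4c452ae323a895602baae0f9df85247352c510b7b159a43234578bebe8e648ac0ea38d5083c229676a627eb80a68fe4188d9ccf81e0cd24043948c582256a2466da1fd37c44b5bdd8a1801ec383639c10d986997d0638053dbcecf9630e9d57404156c42b9b63f47a6a09391b3a59acbf05a16656e7d775479515f827aef27d8d77f7b353e44f4281b1ffb9fedb22ce41921a903893bc7c31481b50511bbc099928f1c26cd4d903ae5f320f5ba1ad3ab84c8312f490806023c70dc80ce005ed6e6f0f7eec9a21e3bf1f8e8f6dfc12f30e0efbbf9d5b2a73a4be9eddeabbc91b7262513fae5c8850a95d0b3fd488a7509f5d4acc628c4b6b4ec18bf1d0fdce79a7d19dac310c2cfe4525d9d2e0cc7dda63320e3aa15a41bf44241073daf1624ba32689340d121970ddb222a84696451cc17724a11d38e5f5429fe6c14b9346e3657613576cb740b881c706b7b3e7f6f1a8d985066538c474f784e83fbb0125b064d397945238265b18b676260590ee187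04cd633856373fa1a096436d9e03f2e25846447a777ca99905eaebae2b2c2d8f81c502d9d89b559094a808f3be71a36ab8c0899ca57ed75c86b5bd4c92ad73d2ca1f9f5a31493c2701fcfedbf0f9d6fb28008a9fd2f632cb757d13fc2b208e2518f3a20155c6939148c08d0292310ab27ca339081fa4276bc9cecfa1a52db35ad1773cbc8026090546b4c466702c3fd51e1d4b07bfe1d906da8b233422582f175e5d0ccce6d8d3cd04f537501b6f6ed0243b74f194afdeca4376eadc8ce2e7c82a4584f4b7c54afa738f5fefd762645169c767edacbe57fd83c3a921e9897b7e407fbd03534235606178bb9c1cec996cb815b95c54294d79eb4f4e525bae12b06d970d1a9890633e68ba41870b1688818214aa6aad33f27172119e95a84c107af8859b590eb696e09dd4ab86e4a73d0fe59a47302edd38363a6544dfa0e349c256b5b1c1a619eee8f7fe71edf981fb2800f39f85e73295fc7d02755b508e6c018aa4181c0b8bb3210d92138dfdb0b2a37cfab91fa2f4c899cecfa1a5f191d08977e383be6f0905dfb47366c55e3f5658842307bfcad90649934b34741e366e2c1b04ccd3d7e6cd0cf52e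205d26175a4447222d94e2dce1437feade8caff66b3a3d1d2786703839c46769efd86a29515fc78ff096803031bc9b9a4859d135784076bd0f7a427b60617ea8a7554cc925ab7208e454644d799d4f4e522bb6820ae016c0870e90633e68ba411ac69710d6129e1162ad33f2db15aa14cbbbec8853f8d2c3e998aeac6debd4b8b75c9c4503e8a93b5737ee4a2f2a192446a63cdac2d5b5b1c1a065dde5f7ce71029fc5d4dff7e5f9cb18496bf0d5eddd9b3d3ca9e8f6f1e7ae864a7396b8bceefae19c2627898da8f5c9d35ad8fecf741ea431d27ce909dcbeade3e4285db35c81b5e007f8eabd56dac4ec59322fc14ca1a503c7eff24746f42dd16d441f653ab4b2b1c80c04bad7905783fd436a84398c378a952050c2a30b700fdeca76782c997f7e517a6e7bfc21db1991925b25ac06e66269636723385f418f616029b90ab634a29ac011bb0579533354454f4e52c35515a73f16ab870e9440683e224210b7981ad69e1272356f4d1b808214aa8508d9886458d02b77971c48cd2afb0dc666b09d36016ca6e2af138b93eb30a0cc3b8ebf1d7d5e174b242e75f300cf91751fdcf5b8f7e7d4a401a7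e6f0a8ddeeb210b7c7e8e56bf6c1c215dbbaf881edc573b42bd09539eff9d2c9a227cefe210df480d399a91dfab34c86ae580ac4b6de56965edf3c5cbb9cbe9b9a1b14e4c36d462ee9d54916abcb855aac0efb381adaec597c3b24e0894311707194620bd68c128ad72a45e32d8e9230bc317b7a08c87678547e257f02cde136fd833477a117f18f6941671c9e29686a61606407bfbd6fd1b12893b54b51534d79874f4e33ad05e2f222a6a550a0903e63424840ebea0c9d8d658b19355b52b0ca0faf03a37d26205fc0d8d96e04663f74889fcc0923323a72f306474a2f1337573d82441e98845dc62cb96c5597aafc1800cfb3fc1fdef5bbf7eed4a21886d3e5abf6e7c1729cbaedf0c8ddb2b48871c7efd6e870c4c25b5acbfaf8f98599a4f4cefe48c027bee6c9ac843991e4a7c31eb0739bdcdf9a2c56daecb8b780b6965d874caee9d5446d46e3aaa895d2d0a982fb3d9e3c5ce0a3573759d14397c5db947ec6818c98f3d82f4a49f18e8d4783fd3567b96b7f6a68626c7613cdca3a31bc3477b16e2d535f517a551a6454784f4e2907bfad2689a128a0a523418f3e6314616040bd059dea748b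b51993904d79522133aff203e29220a6507b2b420ae104eb0c7c7d6f65690dd7d9170f663f22159fcc094b3236108a0630452a02243b380e2e58121d1b0b5e08251c1116750100ce80fc9fd6d4d5f7eef9d08a3c85e7dff6e8b62f49acddedc9f0c3a73a319abbfae5bc91b7268927deabf5f1a395a2fecf741ed773c8e6e08e92dbc1daeccc5dca4c70f8e97db5b4b246e3fde46dbf3dad5cc7efa6a1a5c23756d199f459571f9d4aeabdbad28b93b1a4904439c4435384838c47185ae2aff2d3c681a08db37b8f2c2d356741626e760248beebe1dc2b6ca9777c7a29797e232a6451784f4e6908b09bd9d8960d98b866636a406836616042ae1c8786cd82a815aa9433544d22529e9c1172c510971a7f6f3e1b7116880e6bb934145f58cb5b061255213f38fbc00b050a6545f325032050750c0419240f282e09321d075e174b303b13010043d317fea3cedff7f294a41be3d7b1d5eab47e42dae5a1c7bec26af652c5ed5381badb2dee7d71d6f1679f7027e1c9f51fbf07f480919949f3d18daee94c29328956deb63c69b8969bece06b5c59014eab46acc39386a8a933e4cb5a856d79900360b7bb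9a7cafa69cc4cf40d2d0d4adcd958c636ee66504a773c6d89dbc316fb566c84bbd88b23f2c5d0ba25083fdc048e87539a55e97ef053e5872c1981a260d21787bfaf0552e7a76aaf8870e4d821416621c37e713248f3657fb9e1210771144dd2f30b32a474a1ed91506ca3a3b38dc2b643d2334925b8a4508251854f9b96c5f0a0f681db08b190c22e2a0204feb3561fc028e7fcc09284151847400fb700b435a1f53f7e3cfcbc6f6d65967dae0b50eeec26d4989e9a5f212d1b4f8bc3c2ddcea3483f1d7ef90fd92c59194f98e07a431d07ce784e195abe5626fcde67a819bdd1eb89cbb7eed3978f01798c38facae54a7a886976af4fa73e811d4428296b69ac86168b78df5aa27c99f4609c48c1625be7952a9a202714fdeca08ecd9995b56a05c3f556c018563d8d37f8aa11db3e4b919d57d882b8b4c0c9d1c6975b226a3b16444bd5820dfe203720faf50c17b36c76e37ad243dfeeb049377652aba2f306b2e4a450d28a6bf803a3b57db762c38c005d25f224729135d10ce35184bf3601521fc4d334e48413e401a515e14741b0623cc3266879e0ab000fe898afb9906ad5004074875ba55f035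ceed5ceb296d340cb532c67290c2c0824ecf54382da03e42302720b147aab7ddee6a623dc19eac7be4a94622e1cae0a69c643c1df2152cd0abe6797f51d3124326f8c8b6d1c59b2ebf618d699240d99fc99dbea836fa21113a856667a276e28b8ca48e8ffcfd1c1444957408df714bb37e7d5fc700b4787791f3840ae381585e5ae90b5dcda34d939465bd13cca5527c6f6bec0d6e2b704a0ef1dc1f60b2f718de6825805710f4d2c43b86afd702a103d8cbbc45961adb239aefe801e516d61ea7dab8591bea0fd5ae4c1737c398d4532fbb882a39194f2431b98763b0974928565be76c730983f5f905f63f41337aede0a6ddc9d0c4be9cacb477ec91788df0fb39b0b559b7c5dac8b3a5fcfdb27cf8fea2d6e488d3c2bbd1a9bc9aa3e79f7e60f370e9a1f9f22cf731cb2d3c47b9e5ca4caed5938694f56da4adba89664d5afa67f62262e8db1cc146e127e615cf389890d4c3e3068ea78fab8a9992a881525c9568ebf40c8b808cc0ef2643d2231f12b117ce2453212fbf9edc3d6ab8727f7304968557659b75973b9db65e0574485149076bde4e1aea1d37ee281b33d91e0fc77b2bd73079df0a69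71847d456c4a76f11040d835c63e2a18a041bd54aa6483615d826f87565f3a551629e2137a2542cc084b5b090e2e32cd0350af6e1444206334580d36024f11010b3f1900dde1e2edadc8dec5abb689ccc73cee8353fef28a56caa8d0a1beda9921a3fd4659fb73a7e64f3949dbba9bd880d5f99f7a141cc3bdfae54c37e7f89ad7a58475f731d3d6b2bf70e862eaf4e4e07ceb11bbb3f5942fd49096fce3b4d1dcc933cf7463f667d2929d656b8cb7b991f19c9597ef858793b1d928b86a422d2a8f866ece41df4b1f47f0f33d665f6d6f43cb2910b53f5a71448bacb0682e0ca92ccd26612b8d19aee90a69272430788e5d120658afbc1a3e5c5ec0a4400e811d323a023672c16425ec9e5408380b5015c4487616c2c64a352252a2821e797faa770d7e4e55a6515701347b23a00f207d053b4d1709880345181b5b98606c13070400edb477dd91a9d3acc5be31a6f84cf0e978feb360bcb2c89cb5b7e439b98dd159fafbeca7a5fcd5c4807cd0cadbe0629f7e98b0c3f2c990fd2694a39ae1b13d4d67daa170c206d643f7ad5c8999920c88bba26ae52c8fe7965227c13ce64675cf47f38cf96bef04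93d2e87121a46d959b15baa812bfdc0766b8d44e831df5866fce8a2d741f45ee683beb7b5630f65a7f08de8ecbb62ad9811c182f28851ba017510ec78baedf163573224a539d5e8765847df12554493882ea790aab1e0f24333755d77610e3c63e1a575b0597f4aa642bd8726e692313bd48444029c0326c7a429e50615d41035f3a20e20934cc580236cd11af4b632e0b14010d4f193f00edc7d9ddde9bf2b67181319dca4cf09978fedc7546ef95a8a2abe43914c2d1596dfb89d2bd682d3cb8d885f896e0d49f7e0d116bd3c9e85c38f6d7cbbaa4228af527eaae8de286e56ae6fdece9c1cc0b5ab5f74330f98cdbf3da92c4adbc60cf1d52e78fc3b2cd32a790c597b1fac8a96ce19c5b7db3af5080624e834767d66fce4dd5741f45eefc3ba07b562c94bb7f2b91209aac2a77be874f2f09d01beb17511ab43470df1035733d4a53a65e1c0384bff10a5449269ea17925b71e19240137c0a37616e3483e0e57123f21f47264087caa2e692363a5c64b40295593157a428266613602655f588e06288b0c3a415d04b00744136e88b93398180f0500fe468afb3cf5b1d4e7f95975c14cf0a5eeed2d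a6b427e5f68de883398ba27331a3dd7cbb997db391c389f792ae56accfce668eb8a449b7a1169c6dd6adf21a77a9b25cdbb512cbc885baead8bdf81593d2c2d09525be7170ebefcadee1c79d9f2ba0c58180da1c0b5aab8cafd3d74367cce694e2fcd5210d6bb637e4089b9a697ed9dc647a6178bf5ff32fe00aa8a72a47c41186627f4d8fcd0f7b336a795276243dbc1496f43823d10e4253604004413e68f1301ec9106efd1b2c90544f51094e5dfa1726e358842229066307df4b741dec449e6f3505e93aaa5e5736880c1f4a2e9845c003023bc6b05b01b96c486555872097723f823234285019181300fefd60fbfa678d628c8f494da256f0efeeedecebeae94394b190317332c13983dedddcdbdad9d8d7d6d56ab5d24c9ccfce2050cbc259a9c716acc4c3cae11abfb7bdbcbb92b9b8be71d3b4b3b2e6b034aea4c58125c885a7a6a5ada3f2a1a09f2b9dd0959a999897969be706ba91e5f504f8f6075289888786a83bdf08ab807f7e7d7c7b7a797877766845e30ab6704a6e6d6c6bd46975f90c656402f761fc5f575d5c5b5ac9585ef10e54538a51cc014ef3d14b6ff41047467444e84213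403f3e3d3c843ae038173635af18e2e4301b2e2d2c9e1e29282726aa23242221cd1f2a1d1c2fc0193337c61514411211480f550d660b7209828b93058e03634f00fef1f3fbf4f6d8e8f7e7e9fcdeeceef2f0dde0cdf8e4f9d4eaf5fabcebeffdc4e1edcacbdfe2e6d3d2e3e5bdd6d59ccfced9bfdbc7daa9adc0acc986a37cc6afb7bad196d7889a71beb3b592b191989da7dc81c57285c8ae8ec2a5a4a1c1669f82cc95d0b8735bb0bb9b8fa6b48d6a907db267a075836cb9c3a84b5c9eab5a617a93a2427e64538b408a586daab66b5d3b4c877094794f43773454528c7b33516e45599780894a3027486978632965685f419957382d555e493d17627f4d3550766f56471b3c742e1e3e3f6028468436233124253a4e20392a2b441d2f12191f223715260e32132c100b1c180d2116071a110f14080c0a0905040306010200fee0f3fbe4e8eaf6f9e5fafceffdeee1f0ddf1e2e6f4f7f5d8d4e9d5d9deecdaf2edadcbc9cdf8bad2d1e7d7d6bc9bcfceeb9ddbdcc4a8cac0abdf86a5a1c6ccb6d3e396bd879abe71b492b58db297bfa7c7c58172c885ae93a4a3c27ca28b9f82afd095b84cb05bbb9c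6a7db3b18f94a69162777559b96cc3a930899eac5a427a8ec1617e6953663e8a3899aab76b3d5e73887090544f8ca0507952437f334e476f8398805c744b3c486478635f3f6829416d845846553b315d24677b4d76343545396e2a274a1d2f406560192d572237491725265132561b2b2c2e1e11281f3623143a0e201344101c0b18210d160c1a12091508070a0f03060504010200fefdfcfbfae8a2f6f7e5e4f38de0f0b2eeedec77a1e9f9d4c1f5f4d18bb1f1c991ddb370daa07ca380d5e7c25ae3accfce668e6bb5dfb7b4489cc49ad3e655a6a9a5bca7a48886c885cac7dcefe198939692d09572be71bbbfbdbad7f8ead99f827dc581c399b05baeab6aafadde8f90ccf262e28a89b96cb8b684599e9bd6547e9dd8797a7b78eb4e75744caaa8db6f476d87cb94426843cd0561638c64603e5e3d5c97d283385739c07f535235044f764d73304a31c66e46452c67694129035f5d3c3b265658372251063307494b2f1d2d44082a400f273a0a242336120c1f1e2e151b0e091817101c0b13210d16281a11201425192b323465503f020100feec63fbe990c1946a434c4fb159f0bdeeedfd05c7fa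8f62a2677331668d8339d7ddd8b8c403dcdeaebc8ca4c349abcfce8b93bb9256b6ea489bdad2baf8550fa8efd5cbc221db85c8ada17ca5f21c8ed6b595d07271be6b28b2d391e6b43f9f820981c55a6d151480acf7cccaa3f9e8afe1d4cd335c121170b717e09e9c96797e19b3547a7f786551411be4aaa9861e6e990da7f66113e5e27742fce7690240235d890b9af15824c9c07b53187606f33501f44b2ad1c6472d2f44f564755fa0293d27373adf383b364e048a0ce330452e462c084a3ea63c260a575e22b9071f6f1db0740e7d528410989768888716bf1a6c325b259d2b2050eb34d9604d00feecfcfbe9f6c1e8f9e7f4f3b1f1f091eeedfda07cfaf7f5a2d4e4e3668de0dfb2ddb470c477a1a580bce5a45ad1abcfce8b936b92c9b6b3489bda9abaf8557da8a3d5a7c2878685c8addcc7def2978e96b595d07271bebb9dd7d3bde6d8eb9f82a681c5c36d5bb0aeac8fcccaef6a94afe167cd8a5c6cb9b8b757839e9cd6797ebfea547a7f78d951754a73aaa9db456e9988cb9061688ce2034263436960403b5d8998d259588456c07b535276064f354d4c4b7449c6472d6f446264415f0529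3d275e3a393823364e04330c31301e2e462c081b3e093c260a17372211071f2f1d142a0e0f1824100b1c130d2116191a12321525282b20503f3465020100feecfcfbe9f6f8e8f9e7f4f3f2f1f0deeeedfdebd8faf7f5e6d4e4e3cde1e0dfefddc7dbc4d9eabdd6bce5d3d2d1b7cfcee2afcbcac9acdcc6a9dac3c2c1c0bf9cd7d5bbba98b8d095b5b3b491b188ccaeadc885aac581a7a6a3a4a5a27ca09f9e9dbe719a6db96c96b68f8e92b26a94938d67668a5cb05b86ab578382a880797e7da1547a7f787751754a73729b70456e99976b9061688c8b654263436960403b5d89875a59588456557b535276344f354d4c4b744948472d6f446264415f3f293d275e3a393823364e50332031301e2e462c2b1b3e283c262517372215321f2f1d122a1a19182416210d131c0b100f0e1407110a09080c04050603020100fe5c68fb6d90b5946a43e452c2e0f0efeeed89d9ea998f629267f4d134a4f1c9dedddcae27ebd8d7b82d8c8dbbe3b6cfce5020c3a2dfabc7c6a83ccbf2adc09d9bbd46d2b10bd695d0f8b4b3b2ba0d32dbc185c8aa81c55a7da5e1a3caa1779f9ebf71be6be9111270b7f707e6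91f9e80cd3d4064dec141580ac845982a986547ea67c797a7b78a04e60744c729c966f1dfa1c9af642fce5043f6113e764753e5e22fd21a783265739557f53f335cd18768a732c4a31482ebc4530f5690229655f36c43b38563a373d51e201af49442f47d54b2b2a4019da582524235d5bcc1f1e6e6c1b1a284f1716878863979810090eb08eb90a0f08938b036605413300ebf30804f8fbf6f4d265fce905f2dbece13dc6f10ae4e630ea63d94cfe01ee25ef4f7be27acb02b1f73f7264009a907310d64703c15d505bc0a086855c0de038ce494b4a8e592e71b3488f9c07e32b9d5a783b79ba3a4da39f77ac2623ed198c8a82708d615fada760bc8b831d1b112fcab8f50e6ca1756ea28895769616156d24d3c3e74ebdc5410b5657b258312d36811cddd13e55c7d0331409a9d71835df6b453cbfaa3244d4da28b7dc13290c2c1eb56280afb953c4e50f20992217c237ae98cc1f43a81a12cf662abbbe6f3927a6b65121c97ec88491469e4092d594977c52b0a4a589676869b49b7d7f5eab93746a8734cd42e854ded8fdf9f006fae204f4f90003fad6f88cf7fdf1eb02dee0a1effee6f3087be8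46e9b1dbeec05f066c53f056e40562cd21577df66b6736be0a3cd98e2a2868ec78477c40cac65b32799533aa498d542d4d15b673d71c4a3e98a4105a6339972e1a1ba78689c5a624afb314d1433d1f8284200f2226d0b4ba9b9f949e19850cc4c327939d6e4b1229131edcdaabada583880ecfd4b79c31877f8a5e0d16171835f5d3e54c9a969911c9c2c7aeb97274756907481d2cc8dd7aa8e3bcbbbdb5cc255d583a097723d56aed5caca930bf3f6f600b665971e78fb8704fb03451552fa3df7ea2422b443b4e926d9138a06141818065523790ce458bc15076ea64fcb201f2fbcbd8e1d2ecea05f9d2f2fad6f871f706f1e4fbdee05cef08e6dbcb85e8bde94c02eefe90d8d4aef0ad03e19cfd81c7c9f69f9b5943012ff4bc6d92bb0486ba896a390a1ca3ac957eed3a73abd77aa8b68d2d76248fe7a4b8489acae5a09699a7787cb9df8b0cb3a9d1be2e18dddca54483a2d0b436676b7f0eb55f37c4c31ed50fd331519455911bda4056936e1141cf21b7622612c81327c5606680690d2215b14d82844e28c22a53f516171fb023ce7758291a6397e3323346a6075a1dbfc12c3f6f205410a13e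9849095dcc4f3534478c1479aa70720b74422bb28e19684b878a383c617d575e9d6588526c753d9e457b25af50304a64e25bc63bfcebf3c0cdd900e0d606f0f8fbf6f4d259cb04f9f2dbece1bafe05fde4e6adeaa7f14c0ad8ee9fef9695e97a01deb6f783dd81fa9a9073530236e8a8d36dd4086a86855c43034499e5cac7c4a0ab71b3898f9c2762550fdcdabdb72e9bb4a34894acbe913ca6d1131ad7d0a9a43a4da5bc7e77c87cdfae26b2319e21c31822c5e75f9260d5678bbb1da111b52fa252b0152ab82cf52d4076c9168cc266248d68190b4e701e69881b37ed0946cf511c787d3e5a177f0e355e61e3230c39aa32491293ce297479413b141f07b9c120878e34334a4b800dcc98b142285b505d6b6f10af5464723f568445bf7b4f2597575863306c6e753d828a659d2bc038eb47f3fcc6d9e2cd00ded6ebe4faf1d2eaf6d0e6c6f2f9e9ece1c3effcf7f0cbc2f499fbe3e2eed8b7fe94dcdbc5d9e0b6fd837ec8f8b8f5a949c084e8b46dd3bbf3dab5ede7c1cd7fa7a48fc789b9d1dfd7c4ca9c8c706e68956aac9faacfa8be9896bda3783c3aab5734b35973e5a66fa5aedd58815671bc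6131b21c74ba792b7a5cccd5699267bfd4451f3b8688a21676548a9a3f90b197b0c95227ad82af800f30644b628e602f475d85505a9b939e911275466c445b4f32264c634ace2e5e537d5139382118721125a17ba04342281e1a9d0c4e8d655f482d20870e09376b4d3d24150b412c7c361d8b073514401377231917553e10662a0d33220229061b080504010a0300d8cbc6ecfad6f6eef899fbe2f4dee0f7e6a8f2d9e4e8f16aefc5e1b6ebdbf959e994b8ead0f3fed7f083a57ed2dac3a73cc06ffd89966d92fcdcb4d19531cd349f9b7a81b584e5a4e3bab7b349622b42adbe90a997abf5c247d3c49a5a8c11ae38694cca8fed54b9c8cfc76edd1fbc8563a1781c52bd655873a3aabb7fd52757d482468eac7b8d24165e455c3f8670cc68c99353e78a6c390c887279b13d1d327550714fb2df747d430e98569d095b5d2e3e9c2564a22fa667870b6bbf0f144a5f61c130267cb0121913af214dce4b3a4e2d179e282a1a80483b760733202291188b601029361e37770d40412ca01535441b51550166062308020305040a00d8cbc6f4fae0f6eff8a8f2d9ece8d6e6f799fbe2dbdee96aeeb8eab6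f3e4f059f192c5e1d1ebfed7f9817ea5d2c3da9531c06ffd9b6d9694fce5a4d0a73ccd42ad899083b597dcb4e3bac4b35a6238349fae7aa984abedcf47d4b785498d11be2b524cbda3f554aac9c2dd6cc71fac9a7b78a11d69ca6545718fb9d57dbb2782d3573979bc638c16245e5886645c70cc93c86843e79d6e4609884a8eb13d1c3e754f7350a2df877f530b986b8a0c5d5b2e329c303fb226a67c740e56af1314724d61ce252f679e17190fbf225fc13b484e2d12b0291a2a803a4b77072033219118608b0d28361e2c7610403537a01b41551566440151062308030204050a00e6efebf2f6e9d2fdfab7d6fce4f1f0d8fec2dec6e8f9ecd0cbacdbe3cde0f4c3ead38ffbe7c0f7b3e1c7c883f8dfa9edc1e279eea7bb6d94f3c4f5b5b849d96e95b4dc7e7398cfc59cd1bdd76770577fa49a995ca6dabccaaad4aee556913a7a685db6859fa3b988ddbe81afc98c9ba8cc8027513f90844aba896196bfd57845929eb25ead6f1f44126350598aabb18e58a5b0a2716c523c763087752d970f1e7b2b6a74ce86826931603b537d1c429d15184c47345aa04b439316465b282f3823257c542e3972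2026216441076b3d4048621a4f35370ea1366566322c0b0c8d5f55174e09104d8b13110d77241b191d3314292a0222053e0408060a010300eef7f3dbf6e9d2d8fac4e0c6fbf1f0fdcbcfe8fcdef9eadafea3f2e3cdd6e1d1ec96bce4a9c0efb3f481a5ddf8b5e7b85ae28ee6a792d4d5ebb7c5dfedced98295b4a8c98698c2f59cc3bdd77c706c93a47ae571a6d08fcaaa6dae996b27489a7d4fb690adacb96183bec7457ea189dc6f1f911772859764599b88d358948dafbb523c5e9fcc801366635bba386ab179bfc869315c579eb2242534752d84551e7b9dab4249736eb0a21d3b53688b742b1b184c4787c12e4b437f774650332f8a07306754a0393f29262a4a0e235665403a62225d0b0c418c363d123e093537785f0f51112c104d1c444e0d167615196028142021031a0532040806010a0200cbd8c6dbfaf9f8f7f6c5e1f3e4f1f0efeeb8eaebece9e8a9e6a8f2e3e2f4e0b5de9699fbdad9fdd7d6a58183d2d1d0cf5acd6ffeca92946dfcf5c4c3c249c058bebda37e59b9edb7b6dfb4b33cb16945aead8f6aaae7e5a7a6d5a4bc31a12e9f52389c9b7adc9897dd95c893c92785ac8e8d8c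242b896142869084d382d41f7fbb7d7c7b9a79781d1c7534734f7170cc6ec76c6babb06867173d5b636288165f5e3f5c64cebabf57561354539e124a72114d4c4b50c1484746af0f43870e405d3e65b23b3a399d0c360b743332a2302fa02d098a2a29289126258b07222120801e77761b1a19186660151455514e1044410d3735012c082306050403020a00fefdfcf2faf0f8e6f6edecebfbe9f9eeeff5f4f3e1f1dee7f7dcdbe3d9ead6dfe8c7e5e4c3e2d8d7e0bbd3d4d2d0d1c2c1cdcccbbdc8c9ddc6b8b7dacfcec0afaecaacd5baaac5c4b6b5a4b3a2b19ebfbe9fbcabb9a99995a67eb48fb278a0adb08a9c8985a898846da7926894917aa3798c8d609d9b88745c9a97815783807da57f6763908ea176777587714a73706f6c966e566a52937c51653f7b62618b4d5e5b865d495945826b44544369664f504e5f4c3b725a3a473958555334354064323d314b48462b2c364142203e3c25262e2d37381a2829272f3016232122331f1e1c1d152a191812241b140f17110d130b10090e0a0c080706040502030100cbd8c6e4faf9f8eff6c5e1ebdbf1f0f7e6b8eaf3ece9dea9ee99fbe3e2f4d6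b5e883a8f2d0d9fdd7e0946d96d2c3dac249cd6ffeca7ea581fcf5b7d1cf5ac058bebd8f9259b9edc4b6dfb4b33cb16945ae9fa36aaae7dca7a6c8a4ac318c2ead522b9c897ae59884d395d57fbb2785bc7978a11c389b6134739097dd6ec71f93c968677b9a8e8d16247542863f5c70cc82d45756abb07d7c123d4a6362881d5f5e4f7150c1babf6c6b0f54539e175b5d114d4c4b64ce3a4746af1343740e40723265b23b48398a0c360b87283ea2252fa02d099d21203391263076071a2a29801e608b1522191851771b1444664e1055410d3735012c082306050402030a007660dc9cf60c2edefaad7c49cc090e12d69b6bf38a0b245d0f4c2de3cd741d4af7b0014eb7c08611ee9ebfbd0ac2344f623c3071f1afcaae1b44642bd12331c8e9f900be5c9851da6fa195615565bbd3f0e63d73a68da0a77a53a4c666423e16c7f507ef87d2907943b42ca5467856b18438c4193b1c02ed139d993792398c6c3596d0a9678fcf1480d94be00617fcc1824181c377337d50f415feb5b3db916ae2abe808888b29933fec7b522a4d36fdce59f81fbad73a6369225f451020b940a8e59f27fb580d28aa1a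a26e8e895ad8acb621b2577f7e72cbebdfe468946d5b2fe775a383b826055e97c5049a254785d554c9dd32d4e103ea181e48f2bc70644f703af6bd4cdefa9d66eb02caae9bd687552506be5c1dad3d23e35e087324f70bfc61b7752f49ee0e09af99c27c784ee2f226c80cbf9ea3148c6bd16fd9d4bbd301b04a4019da2d6395622b8fddc9c7f52e5d367b3ea7aa93a41b34b5a83cd585fbed1284b9157db421578260987932a98059ea315a9ad80f8e1a6e6c76292868f454a697916afe1ce1ab27cb00b633207fec5f46227aa2b1c447ceb3fd4416e7ba1f304d392a90b20da553b867cfdb51e574dff303109243c596a16d3f56a0accd8a48818d83507ed0690ac0cc1ef8e494c35258373b1811e8c1452c414b04e089c6358b05719f657786efd742e6f038f9e9d2f15b9c7217130788dcbc552bbcd7000ccaeef75cda5af9af0fadf64ce3c9e89d09b0bd73d18cdff0bf0b0187d66b62d50789fc129e24c478b4342d251fcc720e4a2efe5366c2769548e21688fa3d1d6d6764a43f4e7cb73904eb115bbe5d597743610d6560cfa756941703d9f11c9bb3b983a04f4115506fa18dfd46c36a7574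d405e0aedb52978b23575110c6b8b1c5b67eb2cd1886e7e9de992a42aa0a351a47588e81eca8d0f4c17a06ea9cdd9f6982362c326e381429a9e4a28f71edf2e6272244987f4521407d9690e1f8e585376c54283384a691eff5ac31d2681b19934d139ad849a320633e8a5e3cbbce795f1ec0ab927b084bc8b52630a53a3b802ff3cb02c7bad3fbdc70c68ed602bcf23cf6ee3061084a9ce131f74b64af5d71ea72493b4fecbf3d86e2705b0184f49d25fbdcd988032de462a31b75cb07f8eb11057c79d28cc36017e0ace6fc1c04987bb27810d099767ae7f185ef2f166c5063a2330db6234e90965ad4e95c9a266f45823fc1a02915323e4d668fe3811fd7bddd733a349758650a447740b3145f1ad1a9c28a89e5ca4c009154b938db8b592cb8c4a5b721daa7a4191eabf5adf3aa677fa1fe37c5837e9295b428ed12c824c0688d4346a86d9441b520bb1d0b0cb15339576acf35552e0e09c7ce56fd6e5136480fcdd380474222cc18ba9b2b692a749fbe935227d5ae7df0c9a6f9df6be813d85e87b09e06defab3cf011fdebabbf6eee7c17586e5d3c8f7d4a21671f5c7efabddb2b41c9cedf0fae6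70c4a41127cbd6f9f8df99c2e491fe5e085a4ce8acc91b56cef4dac3252e9b73dc85d53839a7ec6dd180d096121dbe5ce99a58b846952a83e3d2b6811ad80b243caef1a31045c5b7b12259fd6a7e0aa9622106fb3b0e31e032670da8db658d362d4094338c1461cc02ad4b49bc664243156ba1a63fa56f824e29786064548a0fca30895379697a2b50927d206c764f7fbdeb09ea1752907b4db593288b98680ce1d9048f635f41192377c6f2e205af7c3e5535a0479f0374bf3451976ed7139d3a8eb95707f32637aacd9e2f2c4ab0445d87843d48c01e885b7218fc00ce910189ded5d4eef7e9c317319adfe7f6e0b64b49acc9f5ddf1d0a4303c85d3fae5bc80c23b9f1fd6baedf0a3b4b2fdc41375d75cc7efe83296dbc1d1f40724ae4c70f8f91aa995a243e3fee4940e2e9b73c8e6148d81b76967da99ec6a2927121de1beabd23f21b1a77a4253cf46391b7e78405e5a050bf2bb0aa565a1b34d8f522d45565862334ff325bd03eadc6620b5506b90573e836f7f60388c766137cd0cad04cb92aa19c52b5f594722544e6444ca720f710828a8970d6d6e367b682c099c881cb8b9157d2a237984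865b11bf7c1055a66341d816c09d34938b51fb06afe2c6a0350248eb6c771eb0d9985d87823d9e8e4acc188a2f3a2674fc00cfb3fccbde85e7f7f6c8f4c09cc99addeebbec8886d5ace8d4abe4c27271dff8d6f070c4b45bfb1ffaeff9f5a3a4a2db80f318d8bee6d3ed8e39fdb2b7b6cdb073aebcc7e52c46e3c18fa7fec36a5d9e5c9be0ba37b556da797a95d2d07e545a4a87f24ce999a644a5d1436390ce81a9c6948c684827eb3deaf1848d93929135537b6b6c9698787f76131ecae2e1dc3477a17d2d670d41a8554064826261602107bfbdd989b1228b592351b81097334f4e1aad4baf4974a06d2a47c515aa4229149d3c3b3a83365765b92b520a31302f0f7c6e6f50695fd726170c663f284d9fcc09051b203e8a5e043819252e03451224580e1d320b0675021c1611080100b3c4fcd8d6d4dff7f6d3f4cd9c85ddd5eec7ec88869ae7f8c9bae4b77271ace0faef70cfa75bcb27dee9e6c8a395a2fe91c01efb73f1f5bb8e43dbb2e3b6f35dca5cbcedab3553c2c1a9dafdc359bf4abd4ce8e5418f67b49896d1d2d06d471faf3df2adf09979517aa48d82818092b5c6838c57185aeb9dea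f984396390ce77a16c2d7da5a6786e760748bee2e1dc2b2c467b7cb1298b6a233664936261602817b0aed99f560d37a866a07e33542a4f4e209b4b9e498a44b81097944068652219873c3b3ac515aa387f6f500a31302f126bb934453f218926130e55585f1ad7740b051b4d14cc2504423e750f03522e0c692409321d025e081c1611060100ce80fc27d6e9e8eef6d5b21e49eff1f9f7c9a23a31e6e0e5f0dfc1b7263cf8abfaf5bc91952f1f9fdec8edddd2a7c3c4fd188a5a5cbb9ad4c6a5b3d0e3e4484abd73dc85e79392c2b66ad1cff467af5dca4cbaac7da8b5a45494da99ec435189bf3d9cadd3a397a6c5b47a7f7efe6d598453783574d7889d71c78e96b9b8db6390682d5783478c416002ccae5b86702b8281aa7c8f457b5623424f6e6261762a089ebe72d8a9506cb1667939584469644e229b04b0f2cd988d3fa046382c3e523687e105eba1657714376f5f1bea03d9126b8b34214d33cbe2060b551a1029fbc00e16320d40f3071c1915170f11282e09201d0c0a242513753b4b305e010091cefc1fdeefe0eef6ddb21849f0e6f1f7d4a23a31f9f8bae9e7c1c2263ce8e5d6d3bc80a4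2f5a89faf5c79ad2b4c3b3fe487427aeedd585c696cfd0b7e41e9e5cbedcc9ac8281e3b6a895c4f4564ab0739babdf6c59a9d197c5a799ec3944d75d879c4cc8a3479883daa5b9b8db7e6a8446782ccc9f883d71bb8e7a6e6dfd9392aa6b6894548c3760068abd5b8670346390572db5507db155384f7f6261763302afca72cb8f527b6723a68d3fa058644e29ad04bff2c079436951a165771945409de105eb5342353e8b2b281bea03d90f7c416f5f2010fbe20809664d2a0dd8f30c16322215cd131c1436072e1121121d1a0b240a0e5e17253b4b307501008091fc5afae8e6f6f7acc14831e0f0efee9ab2263ce9f9c8f885a2d12f49f1d3debbbcceda3a27d7d6c7abdfd2e3b6cfdb1ecc1fadbae7d5c68fc4c3a4f4189d9bbddcddc9797a95d083b4b3ec8d87afaecaf5d4639490a76e6dc299e4a1779f9ebf71beeda37f7b7eb7a95759fda8c584b1628b8a895bb086e58eb5686afe9896477c97b8b978a04e08744c729c706fa6a5546b81428243663f61aa8c646015063d5c88fb92389339556c535235504f761073034ae1f37d46452c67694121650d5dea04d95658372851341a1bf205e2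1d2d442b201436d8eb02242319402acbcd2e11323322c017165f29130b1c4d090e3e0c120a0f75075e303b4b250100fe1af0e5168aad181ff3b8d4d8ae0203fc13a7ea079a9f009dfbaa820ccd9e72f875ba22c3e2dcde1dbb01eb459639cecfc7ef3bcc86310f6f6d10f4b5b15eaf5c060ef1f299da6e2c7c65c119a38904d5d75d26c43757d1a132a6b3a034a5e8bcbd2f4ac90d2384ec83542066c25167b48e4e50f70b1e74e9731481fd46587b618b91763e8c409335ed1171fa3c4b2ba8d02d2a6a60698fb28d6329627a5f68259bc827246cd2b7b91b904233942852434f5bcbacb0179795809879786453777e87857088c5c6b6557fa44da2bec0ab4821a938db417d1c9c30d6156b593ff6125a4c0ae392f908df4447dd3a3de4e1e056094936d92ed3e6bf05caeef5e7fe82eee57218de8a1f01c3f5babbfccc027596d3eb869f0006fb101ad90f0e16d713d82ab809f2ad24aef30758a76dcecfe1ca4b039a5ccd3839aada91b33005319d9ed5dc56f45737c28ea366c149bff1f84a2fe42c6eeca4a034b132a6a2e8e0e6265de9b94447d1465177197c54678d65797df9b03a3dc93c9795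e38345353e28b57f6143423f7bdd8785df733bc6b7c559226a685f8f92b44164627e6960c0acbe4c1d2180a80d3694404f908b4d8c331c709b0b2e1481d2154e532978207a1171cb12d02ba90a76a152a5c8259c086cb66f6b63505bab5e5a98db2d93f688d62755fdb2f748fa2384ed1e74c4c7bc99e2891b0c17eabd04afeff0d4e7cf3cedf96d9facfb8a00d5e7bbecfc9c75132fd6ae57f3011218243bcb16452a880287054a259e7228371f1106e9d9fecec048320eda7d9b0ccd5cd3b7b650088e8646a2abafdce1cac3a998a8a78b5a919a928defd8d7e6dbb815aa149680f7b470a37ca449bdeadebf8cd21a979476c610436be559a1a5b37773dfc7cc098f692b82675f79640a6add39e4b2663f89f13ae2077f7e403555d078617b683e7a2dd14793342efa5d300451294d54c5524e3338c42c36204b3d741d90604263214122442358e05e261762b94f6ce31b6e6f4cc90f1e530d56f4658431bc9d81f583fda027f895f699c2adf2f0b1b5bac8c1ebbea6031c19b05b0b7185eee8d4cf1df0f758fb1a9f181f26e8146e13aa02fcf10d97d101f3a78a73316cb739839675b8a6c9d0a9a8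ebf400c3935d65fecec581e2b62c0f828e504bb5160ecd950c9822f21034a5c2c1119e86721207b9ea15f8baa3b4b2b10b879a9cbb881cf9d821efc7ad17b391a119905bacae437fbeab94b0f66fdedcbd03241e7c20a06a69c89b625f7964858fee4584d7049d2e2ffa328b767e617b712578403563427a3857c406af893ae9276651294f54c0334e522d47da99cc5cbce03c8c413e68706046fde36d744cd549675a4dcb2356ec595e4a7ddf53d61b37d9e43b3d3f48d42a4409309208e536e1a4a2ede6d38d2bca28c6057780bf6bd2db550adde7f5fe9975fb89f0baeef6ed6d8aad5cf9d3f7f583ebca73e8e7c7e55956d9bd4c49dcd4ded239e2d7d8cb31ddefdb46b8cfcecdccd6ea3caee62bc32dc5c1c225afbbe127bef81ad0a9a8b1a291a4b516bfc8f29c9b21b7b681a68db27cb492a09f1c9dacab71fd151495967e7da1b37a8f8ea57877f3fa121185866fec0da76b609493a34190518c8b68fc5ee90b9a5a8445f410806a4d76676665333562407f52743bf10e70e45758e30a4e435f793f295469e04a4bdf0838d16e36533e7b61504230c95d2eda47224463346432d53d1d3ac42a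c62c4f20bc24c0261b37aa281f172f9e23b919011eb098970288876c0f5b820972550c480706040503131800fe2d13fb27e7d7e5eef65918dc4cd4f2f5f78306f873f0dde1ed466d0fe63c5cbdf9eaa73909c7ef9a31e8ca965695cfce040c86d34985adaa8199b77ca39e0571ba89acd8b9a9db8091b5a1b1b3b0039cded67097d26bb632c292b28dc1349f8707cb5aabc455c6a8d06765a4a5627a20a28f1901bc48c09bc86fe498c5c34e433fb4518c68902854025ee088bebb8436f46cb87e3e76535066403578527f42742ef15baeda4422ec8263945f60a6294169d53a1de97245d12c2a6a4f7b4d7d333bc92624e3575837798b6493df4a4b2ffd381a6e6177fa30165d1b4721a01f173d1c23148ef31e110a2bfc082515cc120deb0b10d90eafe2bf9dcd758a00fe2d13fb27ddeaedf5ee6d18ef5ce8d7f6e5560cdc49d4f9e1f7833906e67331ade7f2b75909baf8ac4cf0caa94695cfce030f9cd33c85d897819980a5a1870571de8970bdb96bc3a7b47cb1a3b2b0075ac7bb9ac6b896db509192c18db3209fc004ae86d6c482aad2d05332a4b5788c19a27a3401bc729ecbc86fec55c5b6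606a3fc2418f35622868025ee948beab842ae36ca8434d799465933354902951527424df5b9bf43738d1987667617b66427f40f12f30c98822e447587e5f4e647d691de03d4bda2c366e63a03ea6d5262e5dfd4514444f77fa3b113a1b57218e1f174a1c232b8bf31e25101afc0e160ae2080dcc0b15d9129debbfcdaf758a00febcfcfbc4f9c2f7edf5c9f3b5d1e7b4e5f6e0a6a5e4ddf091eee9d5937cecdaa2e8a4d0df668d92c8e3d4b3c5f1dbcfce777dbea3f4d6b2b9d2fac3f8bab08ecba1fdbbc1c6b8b7b6f2efd3c7adc08baeb1acabaaa9a8a7ebeadccadebd9d9f9ea09c9b9a279897968094e2d7e69078bfd88caf8a2d888786701e31826b957f67cce17b62608fcd76752339725a8517264c55815369517ed90f644e7a4d795f1b2c5948715c1d3d3c6c416a40680c3e63616d2247465b4a49302f43335452064f57563837733b3a24350542098345442a895d212e2907996e1c36744b2b041f8458255e1a03186f16151413121110650e0a50080d320b283f342019020100fefafcfbfdd4dcf5f6f7c9f3d7d1dde6edeed5cce1dae8e7efe5e0dfd9eae4e3baf0f8abe9e2adf2b6ecf9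c79bf1bbcfce9deba8bdf4c3d387aebcc891b397afb8cac4d0de9ebe70d67ca4c1a2a3aabfc5d880dbb05acb856692b4b1b28d8e9fb9cd6bd2958948c0719a437da5c28c8fa0a190778a9955c681a774315b86ac355393b57678797a8b7b7584396c96b75e263c729c6a294167a6325f60626163646f2c4682a94c1d2f4988547e33513f4d4e4f59223756983d5c243a94426840503e476d2a4473304a2e7f19526583385736275d113b69202d6e14451e4b16281f23581a171c34181b210825130a2b0b060d0e0910120c15030f040507020100fedaf3fcd5f7d7f9eed4e3fbccdff6cae8e7d1dcbfc9f0ddadedc4fdd39dbcfabde5ea6bf4baafe25af1f5f255e4c5cfcec7ef48ebe0bee180b9eca87ca370f8b0d9e99bd8d097b896668da1928ec8e687cdae86b6aa82a99177b18bb57db375abde9e729c2ac3a7988164a2a0a5694fb2a629a49f24bb9a88714636b76cd29061c19394427a40c2438a3c2eac5bcb37562295c6527b8f33b4327f6a4d6367352f491d85c01b44396fdb7e3e795328547851173a315ed62d582c995f6862411960274b2689382383848c204e50301e737445590a6e76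653b4c085d6d47213f135c3d1c5714341f4a111a1018160e1506120d050b2b0325040c0f0907010002fee3fbf3dff7bff9f0d4dafcd3d5e8ccf6e5c4cadcbceeedafddd1f4d7c7c9f19de7eb55fdbdbaf848faf5e280ecb9cfceadf270efe9b0cd6bd0e498777d5aeac8dee088d9c5b782aaa266a08ea4bed8ace6729ea9a7c3978d918bc193b3928a9ce19abb874496b8b66c7b7cb2a67f68b1b435a3753a86aeab5b3637a895c66454a1c26979524ea5299f2e2f9b85c0562a2381db63904260b5289461417e3e4349241e71d62c461b6ed24f516a4d328f3362263c175dcb22842d58767a407820531d74274b57396f835f1967654a315e7347450a998c503d3b0889386d213418305c1c59153f134c12101a1f0e161405110d060b2b0425030f0c0709000201fefdf3fbfae8eaf6f5e5e4fcefe0dde1edeedae2e6d5d4f9d7f7d1f4d9dcc9f1adf0f2a8ecccbaf89be9e7d8b6e3d2cfce9debabdedfcbca97dbc4c5a5a187cdd6d3bcbebdc6d096b8b492b18db2c0bfc8c786aeb9a7c38193a47cc1a3a28b9fb0af9abb719982aa956b6a7d91b58f8ca0b362777589729e855a6f596c80a9425366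c261785f7a8e3e8a5e4c5b709c84384655b743543394a650794d90764f4e74303c48ac39472a8398297e41693f606463313d247388226d37586735527f327b1d5c2f4b562c456e4019686549263b5d2d3614575134272e114a1b442b281f173a25232120131e1c101a180e160d0c0b0a0908150612030f070504010200fefdf3fbfae7d7e5f7f6e3fcdcdfddf2edeedaccf8d5f9d4eaf5f4d1ebeff1c9caf0e1c5ece2d3e6bee9e8bdd0e4b8cfcebfd9c8c7e0aeadb9c3c4a87ca3b0afbbbabc9bd8aab66bd291b58db1b39e9dabde5acb9780dba966c2a5a2a1c18e9f87cd70d69c9955c6b79667a6b492629077b28fa0758948c0ac866f5698a781405393a43e78647a8b618a5e49889a718436468295945133437d324e4d8c7b4f79742e3c728583442a396c697e412965605f63733a24315b586d37226a7f523550764b5c2f1d596e452c4228683f4c5d3b262d382157542027301c4a1b471a191f173d16231434131e110a2b180825150612100f0e0d0c0b0509040307010200fed1fcfbc9f6dce8dde7daf3d7d5d4baf5f7fdccadfaedeee6f0e4e39de1e0dfeff9c7b6c4d9eabdabbce5d3a8ec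80cfcee2af9bcae970f8976bf4c391b387bf5af2f1bbde55b8d0957cc1b4c2a348ebaed8c885aac581a766b1a4a5a2b58e9f9ecdbe719a39b96c96db8fa092b26a53938d67a68a31b05b86d62c4682d2b779437da1548c4190775175263c72cbac223799c6a97861357a8b3242767e337b401d2f89c09c592a84569860942963195f68644c24744988472d6f44624d7f4f3f523d275e3a6d3823364e5069205c301e2e8357141b3e28734a11176e450a651f5d3b08581a34184b16210d131c0b10060e2b03251509120c04050f07020100feecfcfbe9ddc7edf9eec4f3bdbce5dee7e8d1afd8c9f7f5e6d4e4e3cde1e0dfbaf6f895f4d9adf285f1f0d381fdb7cfce9deb71cafaacdc6ca9dac3b2b45bbf9cd7d5bbef98b880dba1b3c191a588ccaeea70d6aa6bd2a78ba3a4b1a27c939f9ee25acb9a6d55c696b6538e92c27894a08d7a668a5c48c086ab572d82a8d041627db560677f6a7763754a27729bc845233997c590334e8ca6204d514369544f3b1e3187be591b2c56b97b8f3e76344035424c172649b0478322447e64795f3f293d731d3a99386e366819616589305d2e46840d5852283c74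0b4b376f15321f2f5e122a1a501824160a2b13082510040e14071121091c030f05060c020100fee3fcfbdfe8c7f6dde5c4f3bdbcf5d3d4f9ecafcae9edeef8f0f4d1bff2f1c9def7dcb7daebd8d7acd5e7baa9fd80cfcecdcc9cadfa70e6986be4c3b2b4889d5ae1e0bbef55b895d0a1a2b3a4a548d9aeea85c8aa81c5a78b8dc2a3c192939f9ee271be9a566cb996db6a77b5918f538eb1627d8a495bb086d6442d82d2b6548ca67c79434194a04e753a2772cbab36236dc6a87842767a662061357e337f3e2e1e5cc09b831b57399760905f632829686973174a31876e46452c674d7b4f65525d3c3b269958372251346432894b2f1d5984152a40194c741224476f0a3f1f3d5e08381a501830160d21130b1c10040e2b0525140f11070603090c020100fed1fcfbc9ede6ddf7f0e4f3e1e0e5bae7e8ecd9ade9f9d4c7f5c4fd9dbdbcfadef6dc95daafd8d785d5eeef81e3b6cfcecdcc71eadfabf86ca8f4c3a4a25be29bf2f1bbd397b8db8092c1b3c28d87ebaecad670aad26ba77db1b2a3b4b5779f9ebfcb5a9a39c65596b778a0a19153908ea57ea68a31c04886ac2c5982a9d060628b7c4167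7b6a936875264c729cc822476d98c5944d4e43663f33518c6454521d3d5c88be2d385799b97f8f3e351940764227304a89b0234645847a697929205f1e3c3b74561b376f6334613249172f5e83440d2a4f50733a0b246e3614651f5d2e11581a28184b162b0a13250810090e15031221041c07060c0f05020100fedafcfbd5f0d3eed4edc4f3cabce5bae7e8f4bfadf1f5f7eff9e4e39deae0dfdef6dca7d1e2d8d79ac9ddc796fd80cfcecdcc86bdfa70f8826becd0a2a472af5af2e9c8e655c5b7b68dc1b3c29248ebbee1acabb9a9a89577b1b4a3b2b57d9fb0d99c9b8546989781db7ea0a5917a438ea178a68a3c888771d6372d6cd2c36862937c6367356a8b60752f275bcbbb2a2383c6b88c524e9066284f519429544d241e73c0ae591b6e56aa768f3e7b19407f424c175d499e47395844535f796450693d314b3a99382c36413461328930262e6d84102233205c740e1d576f0a651f4a5e0845213f183b1c15141312110d050b2b03251a0c160706040f09020100fed1fcfbc9e5c7e7dde8ecf3bde9f9e6f7f5c4afe1bcedeebaf0e4e3d9ade0dfded4dc95fd9dd8d785faf6f881dac3cfce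cdcc71f2d5bbd36cb8f480b2b45bebaecaf170efaa6bb7b6a1a4b3a2a59ebf5aeaacab55a9a8db8b92c1a3c28d939f48e29c9bd6399897d2a7627db19167538eb56a778a318887cb9a2c6dc696d04e94a07c5190418ca65475265cc086c822572d82c5783e7f7a6620407b7e3376421d4a2772be59452356b9604369633f64685f4c3b1e49b047991b448f4d354f19523d89173a46388436793429323c30742e83370d6f6165732f0b5e6e2a1a281f5d2416580a50184b0815141312112b042510090e21031c07060f050c020100fed1fcfbc9f9c7f7ddf5c4f3bdbce5bae7e8ecafade9edeee6f0e4e39de1e0dfdef6dc95dad9d8d785d5d4d381fd80cfcecdcc71cafa70f86c6bf4c3b2b45bbf5af2f1bbef55b8b7b6a1c1b3c2a548ebaeeaacabaaa9a8a78bb1a4a3a2b5939f9ee29c9b9a39989796db94a0929190538e8d8ca68a31888786d62c2d82d2d07f627d7c7b67416a777675262772cbc822236dc6c578694e7a662064517e33545f1d1e5cc0be591b5756b9608f3e63194068424c174a49b047464544434d794f3f523d3c3b3a993837363534613289302f2e83840d2a292873740b246e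6f0a651f5d5e08581a50184b16151413121110040e2b032521091c0706050f0c0201000806fcfbfaf0f8eef61004f3f2e9f9e6f70d05ebe1f1e814ef1503e3d9eae019de211b02d1e2d823d6281a2a01dac3cf25cd2dcb3720332200b8c4d0c230c046412c322936aac5b7b6b5a4b34b3d533935443e40b9a9a895a692b4a33b5d4c5543564e515f99989781a77e7da55e7a8f8e4a72736b666267764d846d6c9675689493746390795b5c86807c8b8c60706f5783828a6a527f8789654f7b8861719a91a177785a59456e9d9f54b0699b3f649c85a0b28d494847bf58ad9e42beab50acb131a23aaf38cabaae34c8bc3cc1262eccbd2bd3bbd5272fce1dd7c7ddc91f1e2416dcd4df18171ce5e7131211f50f0bed090e0a0cfe07fdecf4e4dbd2c6fefdfbf8facdf7f6d9ccc6f2efc0f9eee2f5f4eae6f1f0bfebedecb9e1f3e9b0e8afe5e4aafcdedce09ee79ddbe397a6a0d8d7d68adf87ddd28498da938bcb7574d388d5d46fd082d17f7d8e77765ecac8c772c9c56ec36c6968cf79ce605fbabebd5dbb5bb658b857c45452c266b36361c14e4dadab4bae4abca84745b75542b4b551a37b4fb2b1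3e9f9b3d3bac489938a7a944a434a54140908f64a23fa13289309a9c3a952b963736923594337a508d8c8525862f2e812c832a917e2928657871267324806d22217c6a2062705c1d1c236b591a67191e5a4c161b5614531817491115464313123c10390f0e310d0c0b2d09270a1f080706000504030201fefdd9fcfaf0fbf8f7edece1f3e9e8f2efe5e4e6ebe0ded4eadcdbd1eee2d6c9d8c7d7d2c3f6cdcccbbbbabdc6b6b8a4a2f9f5c0afabaeadf4aa95a8928df1e79e9d859b9fe39781997d7e907877dfdd878a7189da6c846dcf686a7b6260ce75d5d35b745c6fc4d0575952c254436564b34e4dc1ca5ebcc84a4cc545b74739b542b4357a50a33eb2b1bfbe3bac3d31b9a938a72c34a6a529913f638f328ea1a0b09c309a262b989622809420937c4f798c8b2588861d70831a826b197f676661767316725a146e56555369515f115d49480d46584441400b3c4b3a2d37363309272f2e232a281f1e241b2118171c151312100f0e0a0c080706040302010005fefdf3f8fad8f7f6e1d7d2ebefcbf9eeeaf5f4e2e6f1f0caf2edecc5d9fbe9bee8bde5e4b8fcdedce0aee7addbe3a8b5b1cdccd6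9fdf9bddc699a9daa5a1c07589d39cd5d46fd096d19492a38d8c5ebfc8c786c9b983c381697ecf8fce785fbab0af73bb71b658aa6dc46a52c27cb37a61c1624d9dab4b9e5cbc975945b76b42b4a6678e904fb2a03e8a874c3bac5a8438a79856a4349353407b7964a23f8b3274309a8849952b8246367d437f33635077768525723c2e6c396e2a9168292865605b315d24805722216654204e704a1d1c2d55471a511927483d161b4414411f173a1115373513122f102c0f0e260d0c0b23091e0a18080706010504030200fefdd9e1faf0fbf8f7edecfce6e9e8f2efe5e4f3eee0ded4eadcdbd1ebf6d6c9d8c7d7d2c3e2f9f5cbbbbabdf4b6b8a4a2cdccf1e7abaeadc6e395a8928dc0afdfdd859b9faada8199cf7e9078ce9e9dd5d3718997c4d06d7dc26ab362c177ca878abcc85cc56c84b759b568b4437aa37bb2b16075be5b74ac4c6fa957a73952a55491658f64a14e4dbf5e9c4a9a31b94596478094a6427c353f63508c8e3ea0b03b863d708398386b2c346793294f79328b7388305a262b568222537f206661762549721d466e1a551969515f3c5d16482d145844414027114b3a0d373633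1f0b2f2e232a28091e241b2118171c151312100f0e0a0c080706040302010500faf1fcfbf9f6f8e4ece3e9f3f2f0f4dbf7f5feebd2fdeeedefdae0dfc6eae8e7e6d1d0d6cfe2e1c5dec4e5c3cbd5c2bcced9b9d8b8ddb7dcc0b5c9c8acc1cdaaa9d7d4d3b6a6bebbb49cb38570b198cccaa8c7a7b0aea5a488a39a71b25aa099bf97bd9695949e9392ab8f8e86a24c5c5ba149488483af8281ba7f7e7d9b917973728d3d904a8c8b3a6f6e6d6cad80696889877c7a615d787765307b3c3b762e58579f9d6b6a5274676663314b6025642f5f59458a565554275e51624f264d5024471f754453421e404e3f1d1c46381836434134173e1639372b13353312322d2c2a0f292811232221200e1b1a0c0b15091907140810060d05040a03020100ece9fcfbfefaf8eef9edf0f3f2fdf1e6e8e7f6ebe1f4e0dfded4f7f5d9d8e4e3d6c9c7efe5cdcbbddbd1bcbbeadddcdacec0afd2aec4c3ace2d7d5d3d0c1c69eb89ccfb785cccac8bac5b6b4a2b1aa88a971c295bfbeadabb9a8a7a5918da05c985bb581a49fb09d9b9a999796807a94937c78774a6da66c92b38a898786708483826b636a7f6766603b57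7e7da3b2757473725a596f6e5655654f544369514d45688f8ea14c5e5d4948473958443f4235409052798c8b3d314b3a2d382c3634297b6261762730262e232b222053644e5f1f1e251d1b1a4641503e181716153c37333213120d2f2a280f0b242119091c14071110040e0a0c08060503020100fefdfcf2fadef7f6e6dcdbebead6f9eeeff5f4e2e1f1f0d3f8edecd0d9fbe9c8e8c7e5e4c3f3d8d7e0bbe7bad2e3b6c2c1cdcccb9fdfabddc699b7dab4b2c08a89caacd5d484c5a7d194a4b3a28c74bfbebd9ac9b983b8957f7ecf8fce7876adb0af73ae85a86eaa6dc46a68b591a37a79b162609d9b5d9e5cbc975957a98054a5a6678e9063a1a04e75874c4a9c706f47969856923493535164617b8d3f8b325e3d868849812b8246447d4369414f50775f7125723c3a6c3958377c523528654d5b314b2f6b452c216642203e5a3b261c2d55381a401927483016233614331f1e2e11152a2918122410220f0e1d0d0c0b1b09170a13080706020504030100fefdfce1faf0e6f8f7edecd9fbe9e8eeefe5e4f3f2e0ded4f6dcdbd1ebead6c9f9c7f5f4c3e2d8d7f1bbbae7d2b6e3a4a2cdcccbbdabdf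ddc6b895dacfcec0afaead85d5d3aaa8c4d092c2b3c18d9e9d9b9fbcc8978199b77d7eb490b27877ca878a7189acc56c846da7b5686a917aa37b62b160bfbe5b745c9ab9a9575980a6a55443638f8ea14ea075b09c4a4c706f989647399452937c353f65798c648b4d5e88863d318345826b2c7f6742664f50763e733b725a266e5638555334512961325d493048462b44224169205f3c253a1d2d37581a1940272f4b16231436331f1e112e0d2a28180b241b2109171c151312100f0e0a0c080706040302050100fdf4fcfbf9f6f8e0e9dfecf3f2f0f1d6f7f5feebcbfaeeedefd5e4e3c0eae8e7e6c9c8dbcfe2e1bedebce5bbd2dac2c4ced9b0d8aeddacdcc6b5d1d0b7c1cd9e9cd7d4d3aba6c5c3b4a9b39580b188ccca9bc79ab9b8a5a498a3a781b26ba089bf87bd868594aa9392b68f8e96a2596d6ca156557473af7271ba7f7e7da8917983828d4790578c8b445e5d5c5bad70696899977c7a616e787765387b464576364b4a9f9d5a6a52846766633958602b64375f4c3b8a4948542d6f51624f2c4d502a3d1f753a534223404e3f22213c30182e4341341b3e1a312f251335331532272624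0f2928141e1d1c201017160c0d12091907110a0e060b05040803020100ecfefcfbe9faf8eef9edfdf3f2f0f1e6e8e7f4ebe1f6e0dfded4e4e3d9d8f7f5d6c9c7dbd1cdcbbdefe5bcbbd2c4c3dacec0afeaaedddcacc6b8cfb7d0c1e29ed79cd5d385aaa9c295c5b6b4a2b1cc88ca71c8ba98b581a4b9a8a7a5918da05cbf5bbeadab6da66c92b3999796807a94937c78774a9fb09d9b9a577e7da3b28483826b636a7f6766603b8a8987867045688f8ea1596f6e5655654f544369514d757473725a9052798c8b473958443f4235404c5e5d49487b6261762d382c3634293d314b3a53644e5f232b22202730262e4641503e1b1a1f1e251d373332153c1817162a280d2f13122119240f0b141c091011070a0e040c08060503020100fefdfcfbfae8eff6eee5e4f3eae0f9e6f7f5f4e2e1f1f0ddf8edecdad9f2e9d5ded4dcdbd1ebd8d7d6c9e7bad2e3b6cfcecdcccbaddfabd3c6a8c4d0b4b2c09d9bcabcc8c797c5a7c3a5a4b3a2a187bfbebd9abbb996b8959392c2a3c18d8b9fb0af86ae859982aa81b76a7db5918f7a8eb162778a89729e71ac84596ca9805494a67c7990638ca04e75744c5b9c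706f4783986b7e427f536650617b784f763e5e3d73885a6d386e4655684369413f64605f5c305d3c485739583767523533654d4a314b2f56452c2a51342932493b26242d442b224019273a251d233614281f1e2e111b212018171c101a130e160d0c0b1509120a0f080706030504020100fefdfcfbfaf0e6eef7edecf3e1e9e8f8f6e5e4d9f2e0f9d4eff5f4d1ebeaf1c9dee7dcdbe3e2d8d7d6dfddc7d2dac3cfcecdcccbbdd5bbbac6b8c4b6a4a2c0afaeadbcabd3aaa895d092c2b3c18d9e9d9bca85c89781c5b77db5b4a3b2b1779f87bf71beac996cb9a9a77ea6a5917a908ea178a08a895bb09c9a846d989680686a937c638f7b628b6075745c8886706f5759826b94525443663f4f798c644e4d5e4a4c725a83454739557f6742356561763e733b3d31486e56382c53695129505f5d49302646584422413440323c4b3a1d2d372b363320272f252e232a1a191f1e24161b14281817110d21130b1c150912100f0e0a0c080706040305020100fef4fcfbf1f6f8e8f0e7ecf3f2e9f9def7f5fdebd8faeeedefdde4e3cdeae0dfe6d4d3dbc4e2e1cad6bce5c7d2dab7cfced9bfcbbdd5acdcc6a9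d1d0c2c1c0af9cd7c9c8ba98c5c3a7b5b3a491b188ccbeadbb9ab9b89695a6a3b492b27ca09fb09dae868583aa8281b68f8ea5a26a7e7da167668a739e7271ab6e6d6ca8807994938d5490688c8b51755d5c5b9b70585799976b7a617f787765427b535276404b4a89875a5945845655634369603464415f4c3b744948472d6f44624f354d50333d275e3a463823364e3f29283c301e2e39372b1b3e20312f25172c2a15321f262412222119181d1c1a1013160e0d0f0b1407110a0c080905040603020100feecfcfbe9f0f8eef9edfdf3f2faf6e6e8e7f4ebe1f1f7f5ded4e4e3d9d8e0dfefe5c7dbd1cdeabdd6c9dddcd2c4c3cfcee2afcbd7bcbbd3c6b8dab7c2c1c0ccaecad5acbaaaa9d095b5a4b4a2b19ebf9cadc88598c581b6a692b3a5918da09f889dbe71ab6db96ca8a77e7da3b27a94937c78778a5cb05b9b9a5799979680688f8ea1636a7f676660754a89878670458483826b9052798c8b654f544369514d3b7473725a596f6e56557b6261763f4235404c5e5d49484739584453644e5f34293d314b3a2d382c3641503e202730262e46232b2233323c1e251d371b1a281f2f17162a15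19182412210d131c0b140f1110090e0a07080c04060503020100fea89dba9bf99fbdf6f596f3f286f0efcaed8175d471d7e7e6d8e46be2dde05adee1dc59dad9e5e84cd5ead3d2d146b1b5cdcccbeec93cc738c5c439c2c130bfbef7bc31fb2ab82db6ce8c6794cf24afaead27ab22a9fda7a6a578a37ea1a0f81dfc9cfa9a991b97f495b25f928f9091408db4698a891787f185148382ec807fa24d7c207a79a45276eb117372e9706f106d6ce36a8b68b361656428626660935e0e5c5bdfdb580d565532537751354f347dd64b0b494847d0450a43423f8e413e3dc83b08c3c63736504e3354bbc02f2eb72c2bb92963ac2625b023aa217b1f1e9e1c981a1903881615841312746e015d570c4a44093a0706050418020f00fedafcfbd5e5d3e7d4e8f4f3caf1f0efeeedc4bfeabcf5f7baf9e4e3e2ade0dfdedddca7fd9dd8d79afaf6f896d1d0cfcecdcc86f2c9c8c782c5ec80a2a472ebbebde970e6b96bb7b68db4b3b292b0af5ae1acab55a9a8db77a5c1a3c2a17d9f48d99c9bd6469897d2956293b19167438eb56a8b8a3c8887cb853783c681c34e7ea07c517a3578a654752f73c071bb2a6e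2d6cb88c3e68906628406394296042245d275bae59582356aa7653527b504f7f4d4c4b1e499e47991b448f5f416419693d89173a39388436793433323130742e6d2c106f61655c260e5e572221201f4a1d1c450a3f183b0815141312112b05250d0c0b1a031607060f0409020100fe8693b496f994b592f59bf3f2a8a3efee7cec69cfe9e88d6ae5bee3e2e1c5df7add53dbcb42d8d7d6d2b162d5d1d0eabd4f33dacac9c8c7c6e0c427c2c1c03ee4cebc2d8cb9b831b6f7fbb39fd4b0afaead39ab17a9f1a7a6a5a4f0a2a1a0b21b5f9cf49a991d97fa49f8fcf691908f8ee7ba758a892287fd560e8382815c7f7e7ded0fde097877768b107372716d6f11702e6be6eb076766656463d361069d5e1480365a595857853b54dc520518cd4e4d4c4b4a95451c46484443d941403fbf213c553aac38255b0334cc32b7302b6cbb2c2f2a2928c326372423883d011f1e98479e1a1950aa16155d13126e747b840d0c0b0a79086860510435022000fefdd9e6fad8f8f7ead7d2f3eecbf0eff2edecebf6e9e8bdfbe5e4b8e2e1e0aedeaddcdba8fcf9f5d69bd49ff4d199928dcdccf1cac989c7c6c581c37e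78c075bee771bbba6fe36db6b56a9062b15eafdfdd5cabaaa9da5952a5a4a3a2a14dd39e9d9cd54cd0459796959442cf43b38f64ce8c3e8ac83b878685848338c43934c27d7c7b7a50c17732bf747330bc31b92bb76c6bb469686729638e65b261605fb025ac5b5aa7585756225453a620794f4ea09a4b4a491d4746981a919319403f8b3d3c881680821436357f33767072112e2d2c6e2a662827265d240d5521511f0b481c1b444109173a153713122f100f0e230c1e0a18080706010403020500fafdfcfbfef4f8f7f6f5f9f3f2f1ecefeeedf0ebeae9e4e3e6e5e8e7e2e1e0dfdbdadcdeddd9d2d7d6d5d1d0d8d4d3bccec6cccbc5c9c8c3cdcac4c7acc1c0b9beb8cfbbb6bfbdb7ba9c9ab3b2b1b0aaaea8c2abafa9ada7888685a3a2a1a0999e97b59bb49f989d969573727170908f8e8d8c8b8489a687a5a48a838281805d5c5b5a7b7a797877766f7494939291756e6d6c6b4c4b4a49486564636261605f5e7f7e7d7c59585756553d3c3b3a504f4e4d6a696867664746454431302f2e3f3e545352513938373626252432434241401f2c2b2a1d1c27353433182221162d1e2928131a112317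200f141b12190c150e09100b060d08070a050403020100f4fdfcfbf9faf8f7e9f5fef3f2f1f0efe0dfecebeaf6e8e7d6d5e4e3e2cbeeeddeddc8dbdac0d8bee6e5bcd3d2cfd0d1cecdb0e1cac9dcacc6c5c4c2c3c1d9bfd79cd4bb9ab9b5b7b4b8b695b2b1cc88ae86c7aba6a9a5a7aaa8a48180a1a0739e72bd9bba94989396b399979291906d6c6b8c8b5d89af87ad857f8382a3a2847e7d7c7b59575655764b749f9d7170696e8f8e8d6a6f6867666564474645445f5e8a5c5b5a7a5879787754535251503837364c754a4948636261602d4241402b2a3d3c3b3a394f4e4d233433211f302f2e432c3f3e1b282718252435223215311e131c291a1026170f20141d120c19160e0d11070a09050b06080403020100fef15f8cf4f9b2ce7cf5faf3f2fd8defd8926b8bb15ae1a353cacb81e2e8d27162d76a46be33eedd3cc5cf7ae0d159d4f73e42e4e5c94cc72ad5c4acc2c1244fdab5bcb7b438b8bbb6bdba7ef8ea30afaeadc3ab88a986a7a6a58fe767a1a09498939c969a999e979b5c9f9ded7890a452f0fbeb8a89aa87a86d5d8382e3497fb361f601d306914076696e7372df566f74853bec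dc7505a24d656434de7d09fc5e849545e9d0580a702e3fe68e0703bf2866c84b08803625db5b0d43cc327754cd2bd66c0b27b91c481863d9412db02155312c3dc6294e392647c023172f0f1f1e1b371d1a19352216150e131210112014440c3a57604a5179680450027b00fee4fcfbe0eedef0f6ddf4f3d8f1f7eff9d4eccdeae9e8e7e6e5fdc4e2e1fabcf8f5badbdad9f2add6d5edd3d2d1a7cfceeb9dcbcac99ac7c696e395b391c0bf86bddf85dc8281b7b6a3b4c2b27c72af71d7acab6ca9a8d08ea5a4b5a2a1669f5bcc9c9bc8599897c5c37a9392c17e8fa68d538b8a4c8887bebb4783b9b88063907db1689479437741753d73b0ae70386e6daa6b6a4f7b67a034527f62613533305d5c9e5a9958572d55548c645150694e29894b4a274884464523784276403f3e743c3b1e396f371b60655f19315e2f17562c2b2a4d2849262524442210201f3a1d0e360d32182e0b151413121121071c1a0c160a09080f03050406020100fefd8bb2faf98cb18df5f4f3f2f17cefeea35a5fce6be89262e5e471e2e1e08153dd7a3cda3ed8d746d5b56ad29c4cbdea334fcbcaa959c724c5aec3c2c12a42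becfb8bb9430bcb773d49fb3fbf738afc4adac83aac9a889a6a5a4eda2a1a0b49e69d19b999a984b9695ba75e791908f8ef6f8fc8aa78858868584ab5edf807f7e7df003dc057877769374b66fe370726e6d6ce9d39d066766656463e66107eb825d5c5becc88708565554de520901cc4e4dd0970a494847d6450b43bf41403fd93ddb3b0d39b037360f34cd3231b92f2e2d122bc02928271525c6162221181f1a1d1c1b1e192017232614132c1110350e3a0c444a5157606879047b025000fefdfcfbfae8e6f6f7e5e4f3e1e0f0efeeedecd9eae9f9d4f8f5f4d1e2f2f1c9dedddcdbdaebd8d7d6d5e7bad2e3b6cfcecdcccbaddfabc7c6a8c4c3a4a2c09d9bbdbcbbd397b895d092b4b3b28d87afaeca85c8aa81c5a77da5c2a3c1a1779f9ebf71be9a996cb996b76a93b5918f908eb1628b8a895bb086ac845982a980547ea67c797a7b78a04e75744c729c706f476d986b94426843663f61638c64603e5e3d5c885a83385739557f535235504f764d73304a31486e46452c67694129655f5d3c3b265658372251343332494b2f1d2d442b2a4019273a2524233614201f1e2e111b1a281817160d21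130b1c10090e150c120a0f080706030405020100fefdebf8faf9fbeaf6f5f4f3f2f1f0efe1edecfcf7e9d8e7e6d7d2e3e2eecbdfdecadcdbc5d9e8e5d6bebdd3e4b8d0b5b1cdcce0ddaec8c7c6daa9c3c2c1c0bfd5d49cbb9fb9d1b799cf948f8cceb0afc9adac89aac4a883a6a57ea378a1a0ba9e75bc9b73b6986f966db469926790b3618db25f8aab885e865c84a75881567fa4527c507a79a24d769d749a4b7149976e95456b6a9368914065643f628e608b875d853b5a598257803634537d517b4f32774c724a702e2b466c4443422866633e253c5b3a393821552054334e31301c482d1a472a294127163d24152237351f121d2f1b2c190f17262314131e1110180e0d0c0b0a09080706050401020300fefdfcfbfaf9f8f7edf5f4f3f2f1e7efe5f6e3ebeadfddf0dceedaece2d7d5e9d3e8e6d0e4cccae1c8e0d4dec5d1dbcfcebfd9bed8c9d6c7b9d2c4c3c2c1b0cdcbbdbcbbbac6b8b7b6b5b4a2b2b1c0afaeadacabaaa9a8a7a6a5918db3a1a09f9e9d9c9b9a999897968094937ca4907877a38c8b8a89888786708483826b957f6766927b62608f8e76757473725a856f6e565581536951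7e7d65644e7a4d795f5e5d4948714658446d6c416a4068503e63613c4b3a5c5b3759365743335452324f2f4c2e4a392a47453528423f31243d3b2d2c2138293427261c3023222b201f1e1d251b1a191817161514131211100f0e0a0c080d060b0509070403020100fefdfcf3faf9f8f7f6f5f4fbebf1f0efeeedecf2e2e9e8e7e6e5e4e3ead9e0dfdedddcdbdae1cdccd6d5d4d3c6d1d0cfced8d7c0bfc9c8c7d2b9c4c3c2c1cbcab0afbcbbbac5aab7b6a6b4b3b2a0bebd9e9dacabb89897a7b593a48ea28bb18aaead88879a84a9a882957fa57d917b79a37776a19f749c9b7285996e966c809468926690638f608d8c75895d865b706f8357815554697e517c65647a4e61785f5e734a714847586d446b6a415267504f624d3d4b5c3a5a59374556354253403f3e4c2f3b492c3846364334333226303c2e23392b2a29281e3125242d22212018271d1c1b1a191f17161514131211100f0e0d0c0b0a09080706050403020001fefdf3fbfaf9f2f7f6f5f4fcf8f1f0eaeeedecebefe9e8e7e1e5e4e3e2e6e0dfd8ddd7d2dad9dedccbd5d4cadbd1c5cfcecdccd6d3c9bebdc6d0c4b8b5b1c0bfc8c7bc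aeadb9c3a9a8c2a5a3a1c1b0afbbba9c9baab7b696a6b492b38db2a09f9e9dacab86999897a7819493a47c908f8ea28c8b758988879a716f8382956b697e7d91647a6178775f8a5e7372855a84586d6c806a7f526766657b4f62794d76744b5c5b70596e4556554253684050633e604c5d3b494838465736435433513f4e303c4a2e39472a4429344132313d243a2d222b373528271d252f1b2c21201f17261c231a19131e161514181211100f0e0d0c0b0a09080706050403010200fefdfcf2faf9f8eff6f5f4ebfbf1f0f7e6edecf3eae9dee7eedcdbe3e2e1d6dfe8d3e5e4d0d9d8d7e0c8c7ddd2c3dac2c1cdcccbcabbd5d4c6c5b7d1cfcec0bfbebdacc9bab9b8c4b6b5b4b3b2b1b0afae9fbcabaaa999a7a694a48fa28ca0ad9e8a9c899aa898848395a57f7e9190a37978a1769d9b8874738597966e6d80939268677b7a8e8d608b7587865d5c706f828157566a697d7c516550636261775f5e72714a4959586c6b4454535266643f4e4d4c4b5b5a3a47464555433441404f323d3c3b48392b37363542283e31252f2e2d2c382120332726301c231a2a291f1e162415221918121d1b140f1711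10130e0d0c0b0a09080706050402030100fefdfcfbfaf9eff7eef5f4f3eaf1e8f8f6e5e4e2f2e0f0dde6edecdaebe1e9d5dee7dcdbe3d9d8d7d6dfd4d3d2d1d0cfcecdcccbcac9c8bac6c5c4b6b4b2c0bfbeadbcabc7b9a8a7c3a5c2b3c1a1b09d9bbd9abb9796b8b793b5a4a3a2b18b9f87af86aeac9982aaa99594a69291907a8e8d8ca08a89729e9c8584839881807f6a7d7c7b8f636277767574738871706f6e596c6b7e69545366506479784f4e5f5e5d4c5b5a6d58474655686742416561603e5c4b3d3c4857563837435251333f4d4a49302f3945442a35344032313b3a242d2c2b3629282726252e232221191f1e1d1c1b1420181711101a130e16150c120d0f0b0a09080706050304020100fefdfcfbfaf0f8eef6edecf3f2e9f9e6f7f5f4ebe1f1e8e7efe5e4e3d9eae0dfded4dcdbd1e2d8d7d6c9ddc7d2dac3cfcecdcccbbdd5bbd3c6b8c4d0c2c1c0afaecabcc8baaac5b7b6b5a4b3a2b19ebfbeadacabb9a9a895a692b4a3b28da09fb09d9c9b8599989781a77e7da5917a8f8ea178778a898887719a846d6c96806894937c6390798c8b6075745c5b86706f5783826b6a527f676665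4f7b6261764d5e4a73725a59456e5655544369513f644e5f4c3b5d49484739584453423540503e3d314b3a46382c36413429323c30262e2d372b223320272f251d232a1a281f1e24161b211918171c15141312110d0f0b10090e0a0c080706040503020100fef4fcfbf1f9f8f7f0f5fdf3f2faf6efe8e7ecebeae9eeeddedde4e3e2d8e0dfe6e5d3dbdacde1cad6d5d4dcd2c4d0cfced9bfcbd7bcc8c7c6c5d1b7c2c1c0ccbebdc9acbab9a9c3a7b5b4a4b2b1b0af9cadbb9a98b896b6a6a5b39291a1a09f889dae86ab83aa82a8959493a3a2907e7d7c8c8b8a739e729b856e999781807f8f8e8d7b6a68676676755d8987717058846d6c6b7a697978776564545352515f4b745c5b5a596f57565563626160504241404c5e4a494847464544434f4e4d34333d3c3b3a2d383736353f3e2827302f2e39232b2a2932311e25242c1b21201f26171c221519181d121a1013160e140f110d0c0b0a07080905060403020100fdfefcfbfaf1f8f7f6f5f4f3f2f9e9efeeedecebeaf0e0dfe6e5e4e3e2e1e8e7d6d5dcdbdad9cbd7deddc9c8d2d1d0c4cec0ccd8bed4d3bbc6c5cfc3b7c1cdb0caaebcc7abb9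b8c2b6a9a7b3b2b1bf9ebd9bacbaaab5a8b4989695a3a2a1a089af879cad9a99a697a5a483828180908f8e8d8c8b749f889d868584949392916e6d6c6b7b7a797877765e8a737271706f7f7e7d7c59585756556564636261605f755d5c5b5a6a6968676647464544504f4e4d4c4b4a494854535251393837363f3e3d3c3b3a434241402c2b2a3231302f2e2d35343322211f2625242329281a27181d1c1b20141e13161519170f1110120c0d0e090a0b060708050403020100fefafcfbfdf9f8f7f6f5f1f3f2f4f0efeeede9ebeaece8e7e6e5e0dfe2e1e4e3dedddcd6d5d9d8d7dbdad4d3cbc9c8cfcecdccd2cad1d0c7c0bebcbbc2c1c6bfc5bdc4c3bab0aeacabb5b4b3b2b1b9afb8adb7b69e9c9b9aa6a5a4a3a2a1a09faa9da9a8a7898887868594939291908f8e8d8c8b8a999897969574737271707f7e7d7c7b7a797877767584838281805e5d5c5b5a6a696867666564636261605f6f6e6d6c6b4c4b4a494854535251504f4e4d59585756553d3c3b3a434241403f3e4746454431302f2e35343332393837362726252429282d2c2b2a1e1d1c201f232221171619181b1a12111315140e0f100b0c0d08090a0706050403020100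

/-- the number of tabulated elements -/
def M : ℕ := nat_lit 143

/-- reading the tables -/
noncomputable def R (j a : ℕ) : ℕ :=
  Bool.rec (motive := fun _ => ℕ) a (Nat.land (Nat.shiftRight Rb (Nat.mul (Nat.add (Nat.mul j (nat_lit 255)) a) (nat_lit 8))) (nat_lit 255)) (blt j M)

/-- the tabulated elements -/
def Es : List SE := [.lt (nat_lit 0), .lt (nat_lit 1), .lt (nat_lit 2), .lt (nat_lit 3), .lt (nat_lit 4), .lt (nat_lit 5), .lt (nat_lit 6), .lt (nat_lit 7), .lt (nat_lit 8), .prod [nat_lit 5, nat_lit 4, nat_lit 3, nat_lit 2, nat_lit 1, nat_lit 0, nat_lit 8, nat_lit 3, nat_lit 2, nat_lit 4, nat_lit 3, nat_lit 8, nat_lit 6, nat_lit 8, nat_lit 3, nat_lit 4, nat_lit 2, nat_lit 3, nat_lit 8, nat_lit 0, nat_lit 1, nat_lit 2, nat_lit 3, nat_lit 4, nat_lit 5], .prod [nat_lit 3, nat_lit 8, nat_lit 2, nat_lit 3, nat_lit 4, nat_lit 9, nat_lit 1,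 nat_lit 2, nat_lit 3, nat_lit 8, nat_lit 2, nat_lit 8, nat_lit 3, nat_lit 2, nat_lit 1, nat_lit 9, nat_lit 4, nat_lit 3, nat_lit 2, nat_lit 8, nat_lit 3], .prod [nat_lit 3, nat_lit 8, nat_lit 2, nat_lit 3, nat_lit 4, nat_lit 9, nat_lit 1, nat_lit 0, nat_lit 2, nat_lit 3, nat_lit 8, nat_lit 1, nat_lit 2, nat_lit 3, nat_lit 4, nat_lit 3, nat_lit 2, nat_lit 1, nat_lit 8, nat_lit 3, nat_lit 2, nat_lit 0, nat_lit 1, nat_lit 9, nat_lit 4, nat_lit 3, nat_lit 2, nat_lit 8, nat_lit 3], .prod [nat_lit 2, nat_lit 0, nat_lit 10, nat_lit 0, nat_lit 2], .prod [nat_lit 2, nat_lit 11, nat_lit 9, nat_lit 0], .prod [nat_lit 9, nat_lit 1, nat_lit 2, nat_lit 1, nat_lit 9], .prod [nat_lit 1, nat_lit 10, nat_lit 8, nat_lit 2, nat_lit 10, nat_lit 9, nat_lit 0, nat_lit 9, nat_lit 10, nat_lit 2, nat_lit 8, nat_lit 10, nat_lit 1], .prod [nat_lit 9, nat_lit 10, nat_lit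 9], .prod [nat_lit 15, nat_lit 12, nat_lit 8, nat_lit 16, nat_lit 14, nat_lit 16, nat_lit 8, nat_lit 12, nat_lit 15], .prod [nat_lit 12, nat_lit 17, nat_lit 8, nat_lit 17, nat_lit 12], .prod [nat_lit 8, nat_lit 16, nat_lit 17, nat_lit 13, nat_lit 12], .prod [nat_lit 3, nat_lit 2], .inv (nat_lit 20), .prod [nat_lit 4, nat_lit 10], .inv (nat_lit 22), .prod [nat_lit 3, nat_lit 1, nat_lit 14], .inv (nat_lit 24), .prod [nat_lit 3, nat_lit 4, nat_lit 5], .inv (nat_lit 26), .prod [nat_lit 3, nat_lit 0, nat_lit 2, nat_lit 15], .inv (nat_lit 28), .prod [nat_lit 6, nat_lit 4, nat_lit 9, nat_lit 16], .inv (nat_lit 30), .prod [nat_lit 3, nat_lit 4, nat_lit 5, nat_lit 6, nat_lit 7], .inv (nat_lit 32), .prod [nat_lit 8, nat_lit 3, nat_lit 4, nat_lit 2, nat_lit 3, nat_lit 8, nat_lit 5, nat_lit 6, nat_lit 4, nat_lit 5, nat_lit 3, nat_lit 4, nat_lit 2, nat_lit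 3, nat_lit 8, nat_lit 0, nat_lit 1, nat_lit 2, nat_lit 3, nat_lit 4, nat_lit 5, nat_lit 6, nat_lit 7, nat_lit 6, nat_lit 5, nat_lit 4, nat_lit 3, nat_lit 8, nat_lit 1, nat_lit 2, nat_lit 3, nat_lit 4, nat_lit 5, nat_lit 1, nat_lit 4, nat_lit 3, nat_lit 2, nat_lit 8, nat_lit 3, nat_lit 0, nat_lit 16, nat_lit 8, nat_lit 19, nat_lit 16], .prod [nat_lit 4, nat_lit 3, nat_lit 2, nat_lit 8, nat_lit 3, nat_lit 8, nat_lit 10, nat_lit 12, nat_lit 18], .prod [nat_lit 3, nat_lit 18], .inv (nat_lit 36), .prod [nat_lit 4, nat_lit 3, nat_lit 2, nat_lit 8, nat_lit 3, nat_lit 2, nat_lit 8, nat_lit 18], .inv (nat_lit 38), .prod [nat_lit 2, nat_lit 3, nat_lit 8, nat_lit 10, nat_lit 8, nat_lit 18], .inv (nat_lit 40), .prod [nat_lit 6, nat_lit 4, nat_lit 8, nat_lit 10], .inv (nat_lit 42), .prod [nat_lit 7, nat_lit 6, nat_lit 8, nat_lit 3, nat_lit 10, nat_lit 8,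 nat_lit 18], .inv (nat_lit 44), .prod [nat_lit 3, nat_lit 8, nat_lit 10, nat_lit 0, nat_lit 8], .prod [nat_lit 1, nat_lit 2, nat_lit 0, nat_lit 1, nat_lit 4, nat_lit 3, nat_lit 2, nat_lit 8, nat_lit 3, nat_lit 8, nat_lit 10, nat_lit 8, nat_lit 12, nat_lit 15, nat_lit 14, nat_lit 8], .prod [nat_lit 1, nat_lit 2, nat_lit 3, nat_lit 8, nat_lit 4, nat_lit 5, nat_lit 3, nat_lit 4, nat_lit 2, nat_lit 3, nat_lit 8, nat_lit 1, nat_lit 2, nat_lit 3, nat_lit 4, nat_lit 5, nat_lit 4, nat_lit 3, nat_lit 2, nat_lit 1, nat_lit 9, nat_lit 4, nat_lit 3, nat_lit 2, nat_lit 8, nat_lit 3, nat_lit 10, nat_lit 2, nat_lit 8, nat_lit 10, nat_lit 1, nat_lit 12, nat_lit 8, nat_lit 16, nat_lit 14, nat_lit 8], .inv (nat_lit 48), .prod [nat_lit 5, nat_lit 4, nat_lit 3, nat_lit 8, nat_lit 2, nat_lit 3, nat_lit 4, nat_lit 5, nat_lit 3, nat_lit 10, nat_lit 9, nat_lit 2,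 nat_lit 8, nat_lit 18, nat_lit 16], .prod [nat_lit 3, nat_lit 4, nat_lit 5, nat_lit 2, nat_lit 3, nat_lit 4, nat_lit 1, nat_lit 2, nat_lit 3, nat_lit 8, nat_lit 6, nat_lit 7, nat_lit 5, nat_lit 6, nat_lit 4, nat_lit 5, nat_lit 3, nat_lit 4, nat_lit 2, nat_lit 3, nat_lit 8, nat_lit 1, nat_lit 2, nat_lit 3, nat_lit 4, nat_lit 5, nat_lit 6, nat_lit 7, nat_lit 5, nat_lit 3, nat_lit 4, nat_lit 2, nat_lit 3, nat_lit 8, nat_lit 1, nat_lit 2, nat_lit 3, nat_lit 4, nat_lit 5, nat_lit 2, nat_lit 1, nat_lit 3, nat_lit 2, nat_lit 0, nat_lit 1, nat_lit 4, nat_lit 3, nat_lit 2, nat_lit 8, nat_lit 3, nat_lit 8, nat_lit 10, nat_lit 16, nat_lit 15, nat_lit 14, nat_lit 13, nat_lit 19], .inv (nat_lit 51), .prod [nat_lit 4, nat_lit 5, nat_lit 3, nat_lit 4, nat_lit 1, nat_lit 2, nat_lit 3, nat_lit 8, nat_lit 6, nat_lit 7, nat_lit 5, nat_lit 6, nat_lit 4, nat_lit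 5, nat_lit 3, nat_lit 4, nat_lit 2, nat_lit 3, nat_lit 8, nat_lit 1, nat_lit 2, nat_lit 3, nat_lit 4, nat_lit 5, nat_lit 6, nat_lit 7, nat_lit 4, nat_lit 5, nat_lit 3, nat_lit 4, nat_lit 2, nat_lit 3, nat_lit 8, nat_lit 1, nat_lit 2, nat_lit 3, nat_lit 4, nat_lit 5, nat_lit 1, nat_lit 2, nat_lit 3, nat_lit 8, nat_lit 10, nat_lit 1, nat_lit 14, nat_lit 12, nat_lit 18, nat_lit 16], .inv (nat_lit 53), .prod [nat_lit 8, nat_lit 3, nat_lit 4, nat_lit 2, nat_lit 3, nat_lit 8, nat_lit 1, nat_lit 2, nat_lit 3, nat_lit 4, nat_lit 5, nat_lit 1, nat_lit 4, nat_lit 3, nat_lit 2, nat_lit 8, nat_lit 3, nat_lit 8, nat_lit 10, nat_lit 1, nat_lit 8, nat_lit 18], .prod [nat_lit 1, nat_lit 2, nat_lit 3, nat_lit 8, nat_lit 4, nat_lit 5, nat_lit 3, nat_lit 4, nat_lit 2, nat_lit 3, nat_lit 8, nat_lit 1, nat_lit 2, nat_lit 3, nat_lit 4, nat_lit 5, nat_lit 3, nat_lit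 2, nat_lit 1, nat_lit 4, nat_lit 3, nat_lit 2, nat_lit 8, nat_lit 3, nat_lit 1, nat_lit 18], .inv (nat_lit 56), .prod [nat_lit 2, nat_lit 3, nat_lit 4, nat_lit 5, nat_lit 1, nat_lit 3, nat_lit 2, nat_lit 8, nat_lit 3, nat_lit 8, nat_lit 10, nat_lit 14, nat_lit 12], .inv (nat_lit 58), .prod [nat_lit 2, nat_lit 3, nat_lit 8, nat_lit 6, nat_lit 4, nat_lit 5, nat_lit 3, nat_lit 4, nat_lit 2, nat_lit 3, nat_lit 8, nat_lit 1, nat_lit 2, nat_lit 3, nat_lit 4, nat_lit 5, nat_lit 2, nat_lit 1, nat_lit 3, nat_lit 2, nat_lit 8, nat_lit 3, nat_lit 9, nat_lit 8, nat_lit 16, nat_lit 14, nat_lit 16, nat_lit 8, nat_lit 18, nat_lit 16], .inv (nat_lit 60), .prod [nat_lit 2, nat_lit 3, nat_lit 8, nat_lit 4, nat_lit 5, nat_lit 3, nat_lit 4, nat_lit 2, nat_lit 3, nat_lit 8, nat_lit 6, nat_lit 7, nat_lit 5, nat_lit 6, nat_lit 4, nat_lit 5, nat_lit 3, nat_lit 4,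 nat_lit 2, nat_lit 3, nat_lit 8, nat_lit 1, nat_lit 2, nat_lit 3, nat_lit 4, nat_lit 5, nat_lit 6, nat_lit 7, nat_lit 6, nat_lit 9, nat_lit 4, nat_lit 3, nat_lit 2, nat_lit 8, nat_lit 3, nat_lit 12, nat_lit 8, nat_lit 16, nat_lit 14, nat_lit 12, nat_lit 18, nat_lit 16], .inv (nat_lit 62), .prod [nat_lit 5, nat_lit 4, nat_lit 3, nat_lit 8, nat_lit 6, nat_lit 7, nat_lit 5, nat_lit 6, nat_lit 4, nat_lit 5, nat_lit 3, nat_lit 4, nat_lit 2, nat_lit 3, nat_lit 8, nat_lit 1, nat_lit 2, nat_lit 3, nat_lit 4, nat_lit 5, nat_lit 6, nat_lit 7, nat_lit 6, nat_lit 5, nat_lit 4, nat_lit 3, nat_lit 8, nat_lit 2, nat_lit 3, nat_lit 4, nat_lit 5, nat_lit 3, nat_lit 2, nat_lit 16, nat_lit 14, nat_lit 8, nat_lit 18, nat_lit 16], .inv (nat_lit 64), .prod [nat_lit 5, nat_lit 11, nat_lit 10, nat_lit 1, nat_lit 16, nat_lit 15, nat_lit 14, nat_lit 13, nat_lit 16],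 .prod [nat_lit 5, nat_lit 3], .prod [nat_lit 11, nat_lit 10, nat_lit 1, nat_lit 16, nat_lit 15, nat_lit 14, nat_lit 13, nat_lit 16], .prod [nat_lit 0, nat_lit 1, nat_lit 2, nat_lit 3, nat_lit 4, nat_lit 5, nat_lit 1, nat_lit 2, nat_lit 3, nat_lit 11, nat_lit 1, nat_lit 15, nat_lit 14, nat_lit 13], .inv (nat_lit 69), .prod [nat_lit 3, nat_lit 4, nat_lit 5, nat_lit 4, nat_lit 11, nat_lit 16, nat_lit 15, nat_lit 14, nat_lit 13, nat_lit 16], .inv (nat_lit 71), .prod [nat_lit 0, nat_lit 1, nat_lit 2, nat_lit 3, nat_lit 4, nat_lit 5, nat_lit 3, nat_lit 10, nat_lit 9, nat_lit 2, nat_lit 15], .prod [nat_lit 3, nat_lit 8, nat_lit 2, nat_lit 3, nat_lit 4, nat_lit 1, nat_lit 2, nat_lit 3, nat_lit 8, nat_lit 5, nat_lit 6, nat_lit 4, nat_lit 5, nat_lit 3, nat_lit 4, nat_lit 2, nat_lit 3, nat_lit 8, nat_lit 1, nat_lit 2, nat_lit 3, nat_lit 4, nat_lit 5,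 nat_lit 0, nat_lit 1, nat_lit 2, nat_lit 3, nat_lit 16, nat_lit 15, nat_lit 14, nat_lit 13], .inv (nat_lit 74), .prod [nat_lit 8, nat_lit 3, nat_lit 4, nat_lit 2, nat_lit 3, nat_lit 8, nat_lit 7, nat_lit 5, nat_lit 6, nat_lit 4, nat_lit 5, nat_lit 3, nat_lit 4, nat_lit 2, nat_lit 3, nat_lit 8, nat_lit 0, nat_lit 1, nat_lit 2, nat_lit 3, nat_lit 4, nat_lit 5, nat_lit 6, nat_lit 7, nat_lit 8, nat_lit 3, nat_lit 4, nat_lit 2, nat_lit 3, nat_lit 8, nat_lit 1, nat_lit 2, nat_lit 3, nat_lit 4, nat_lit 5, nat_lit 3, nat_lit 2, nat_lit 1, nat_lit 4, nat_lit 3, nat_lit 2, nat_lit 8, nat_lit 3, nat_lit 10, nat_lit 9, nat_lit 2, nat_lit 15, nat_lit 14, nat_lit 12, nat_lit 19, nat_lit 16], .inv (nat_lit 76), .prod [nat_lit 6, nat_lit 5, nat_lit 3, nat_lit 4, nat_lit 1, nat_lit 2, nat_lit 3, nat_lit 8, nat_lit 0, nat_lit 1, nat_lit 2, nat_lit 3, nat_lit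 4, nat_lit 5, nat_lit 1, nat_lit 9, nat_lit 4, nat_lit 3, nat_lit 2, nat_lit 8, nat_lit 3, nat_lit 15, nat_lit 14, nat_lit 16], .prod [nat_lit 2, nat_lit 3, nat_lit 2], .prod [nat_lit 1, nat_lit 8, nat_lit 3, nat_lit 2, nat_lit 0, nat_lit 1, nat_lit 4, nat_lit 3, nat_lit 2, nat_lit 8, nat_lit 3, nat_lit 2, nat_lit 10, nat_lit 1, nat_lit 8, nat_lit 12, nat_lit 15, nat_lit 14, nat_lit 18], .prod [nat_lit 6, nat_lit 4, nat_lit 5, nat_lit 2, nat_lit 3, nat_lit 4, nat_lit 1, nat_lit 2, nat_lit 3, nat_lit 8, nat_lit 0, nat_lit 1, nat_lit 2, nat_lit 3, nat_lit 4, nat_lit 5, nat_lit 1, nat_lit 2, nat_lit 0, nat_lit 1, nat_lit 4, nat_lit 3, nat_lit 2, nat_lit 8, nat_lit 3, nat_lit 11, nat_lit 8, nat_lit 10, nat_lit 1, nat_lit 12, nat_lit 15, nat_lit 16, nat_lit 8, nat_lit 18], .prod [nat_lit 3, nat_lit 2, nat_lit 1, nat_lit 8, nat_lit 3, nat_lit 2,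 nat_lit 0, nat_lit 1, nat_lit 4, nat_lit 3, nat_lit 2, nat_lit 8, nat_lit 3, nat_lit 10, nat_lit 8, nat_lit 12, nat_lit 15, nat_lit 14, nat_lit 18], .prod [nat_lit 6, nat_lit 3, nat_lit 0, nat_lit 2, nat_lit 12], .inv (nat_lit 83), .prod [nat_lit 8, nat_lit 6, nat_lit 5, nat_lit 2, nat_lit 3, nat_lit 4, nat_lit 1, nat_lit 2, nat_lit 3, nat_lit 8, nat_lit 0, nat_lit 1, nat_lit 2, nat_lit 3, nat_lit 4, nat_lit 5, nat_lit 1, nat_lit 9, nat_lit 4, nat_lit 3, nat_lit 2, nat_lit 8, nat_lit 3, nat_lit 11, nat_lit 10, nat_lit 1, nat_lit 12, nat_lit 15, nat_lit 17, nat_lit 19], .prod [nat_lit 6, nat_lit 5, nat_lit 4, nat_lit 3, nat_lit 8, nat_lit 2, nat_lit 3, nat_lit 4, nat_lit 5, nat_lit 1, nat_lit 2, nat_lit 0, nat_lit 1, nat_lit 4, nat_lit 3, nat_lit 2, nat_lit 8, nat_lit 3, nat_lit 11, nat_lit 10, nat_lit 8, nat_lit 12, nat_lit 15, nat_lit 14,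 nat_lit 17], .prod [nat_lit 4, nat_lit 3, nat_lit 8, nat_lit 2, nat_lit 3, nat_lit 4, nat_lit 5, nat_lit 4, nat_lit 3, nat_lit 2, nat_lit 0, nat_lit 1, nat_lit 9, nat_lit 4, nat_lit 3, nat_lit 2, nat_lit 8, nat_lit 3, nat_lit 11, nat_lit 2, nat_lit 16, nat_lit 15, nat_lit 14, nat_lit 17, nat_lit 18, nat_lit 16], .inv (nat_lit 87), .prod [nat_lit 8, nat_lit 3, nat_lit 4, nat_lit 5, nat_lit 4, nat_lit 3, nat_lit 2, nat_lit 0, nat_lit 1, nat_lit 9, nat_lit 4, nat_lit 3, nat_lit 2, nat_lit 8, nat_lit 3, nat_lit 10, nat_lit 0, nat_lit 16, nat_lit 12, nat_lit 15, nat_lit 14, nat_lit 8], .inv (nat_lit 89), .prod [nat_lit 8, nat_lit 7, nat_lit 6, nat_lit 5, nat_lit 2, nat_lit 3, nat_lit 4, nat_lit 1, nat_lit 2, nat_lit 3, nat_lit 8, nat_lit 0, nat_lit 1, nat_lit 2, nat_lit 3, nat_lit 4, nat_lit 5, nat_lit 6, nat_lit 7, nat_lit 6, nat_lit 5, nat_lit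 4, nat_lit 1, nat_lit 2, nat_lit 3, nat_lit 8, nat_lit 0, nat_lit 1, nat_lit 2, nat_lit 3, nat_lit 4, nat_lit 5, nat_lit 4, nat_lit 3, nat_lit 2, nat_lit 0, nat_lit 1, nat_lit 9, nat_lit 4, nat_lit 3, nat_lit 2, nat_lit 8, nat_lit 3, nat_lit 9, nat_lit 2, nat_lit 16, nat_lit 15, nat_lit 14, nat_lit 19, nat_lit 16], .prod [nat_lit 0, nat_lit 1, nat_lit 2, nat_lit 3, nat_lit 4, nat_lit 5, nat_lit 8, nat_lit 4, nat_lit 3, nat_lit 2, nat_lit 0, nat_lit 1, nat_lit 9, nat_lit 4, nat_lit 3, nat_lit 2, nat_lit 8, nat_lit 3, nat_lit 15, nat_lit 17, nat_lit 16], .inv (nat_lit 92), .prod [nat_lit 5, nat_lit 4, nat_lit 3, nat_lit 8, nat_lit 2, nat_lit 3, nat_lit 4, nat_lit 5, nat_lit 2, nat_lit 1, nat_lit 3, nat_lit 2, nat_lit 8, nat_lit 3, nat_lit 8, nat_lit 10, nat_lit 14, nat_lit 12, nat_lit 18], .inv (nat_lit 94), .prod [nat_lit 6, nat_lit 5, nat_lit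 4, nat_lit 3, nat_lit 8, nat_lit 2, nat_lit 3, nat_lit 4, nat_lit 1, nat_lit 2, nat_lit 3, nat_lit 8, nat_lit 5, nat_lit 6, nat_lit 4, nat_lit 5, nat_lit 3, nat_lit 4, nat_lit 2, nat_lit 3, nat_lit 8, nat_lit 1, nat_lit 2, nat_lit 3, nat_lit 4, nat_lit 5, nat_lit 2, nat_lit 0, nat_lit 1, nat_lit 3, nat_lit 2, nat_lit 8, nat_lit 3, nat_lit 0, nat_lit 2, nat_lit 8, nat_lit 12, nat_lit 15, nat_lit 8, nat_lit 18], .inv (nat_lit 96), .prod [nat_lit 3, nat_lit 8, nat_lit 5, nat_lit 2, nat_lit 3, nat_lit 4, nat_lit 1, nat_lit 2, nat_lit 3, nat_lit 8, nat_lit 6, nat_lit 7, nat_lit 5, nat_lit 6, nat_lit 4, nat_lit 5, nat_lit 3, nat_lit 4, nat_lit 2, nat_lit 3, nat_lit 8, nat_lit 1, nat_lit 2, nat_lit 3, nat_lit 4, nat_lit 5, nat_lit 6, nat_lit 7, nat_lit 5, nat_lit 3, nat_lit 4, nat_lit 2, nat_lit 3, nat_lit 8, nat_lit 1, nat_lit 2, nat_lit 3, nat_lit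 4, nat_lit 5, nat_lit 2, nat_lit 1, nat_lit 3, nat_lit 2, nat_lit 0, nat_lit 1, nat_lit 9, nat_lit 4, nat_lit 3, nat_lit 2, nat_lit 8, nat_lit 3, nat_lit 11, nat_lit 8, nat_lit 10, nat_lit 8, nat_lit 16, nat_lit 15, nat_lit 14, nat_lit 8], .inv (nat_lit 98), .prod [nat_lit 6, nat_lit 5, nat_lit 4, nat_lit 3, nat_lit 8, nat_lit 2, nat_lit 3, nat_lit 4, nat_lit 1, nat_lit 2, nat_lit 3, nat_lit 8, nat_lit 5, nat_lit 6, nat_lit 4, nat_lit 5, nat_lit 3, nat_lit 4, nat_lit 2, nat_lit 3, nat_lit 8, nat_lit 1, nat_lit 2, nat_lit 3, nat_lit 4, nat_lit 5, nat_lit 6, nat_lit 7, nat_lit 4, nat_lit 3, nat_lit 8, nat_lit 2, nat_lit 3, nat_lit 4, nat_lit 1, nat_lit 2, nat_lit 3, nat_lit 8, nat_lit 5, nat_lit 6, nat_lit 4, nat_lit 5, nat_lit 3, nat_lit 4, nat_lit 2, nat_lit 3, nat_lit 8, nat_lit 1, nat_lit 2, nat_lit 3, nat_lit 4, nat_lit 5, nat_lit 8, nat_lit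 3, nat_lit 2, nat_lit 1, nat_lit 9, nat_lit 4, nat_lit 3, nat_lit 2, nat_lit 8, nat_lit 3, nat_lit 2, nat_lit 8, nat_lit 16, nat_lit 14, nat_lit 8, nat_lit 19], .prod [nat_lit 2, nat_lit 3, nat_lit 4, nat_lit 1, nat_lit 2, nat_lit 3, nat_lit 8, nat_lit 6, nat_lit 7, nat_lit 5, nat_lit 6, nat_lit 4, nat_lit 5, nat_lit 3, nat_lit 4, nat_lit 2, nat_lit 3, nat_lit 8, nat_lit 1, nat_lit 2, nat_lit 3, nat_lit 4, nat_lit 5, nat_lit 6, nat_lit 7, nat_lit 8, nat_lit 1, nat_lit 2, nat_lit 3, nat_lit 4, nat_lit 5, nat_lit 4, nat_lit 9, nat_lit 14, nat_lit 8, nat_lit 16], .inv (nat_lit 101), .prod [nat_lit 4, nat_lit 3, nat_lit 8, nat_lit 7, nat_lit 5, nat_lit 6, nat_lit 4, nat_lit 5, nat_lit 3, nat_lit 4, nat_lit 2, nat_lit 3, nat_lit 8, nat_lit 1, nat_lit 2, nat_lit 3, nat_lit 4, nat_lit 5, nat_lit 6, nat_lit 7, nat_lit 8, nat_lit 1, nat_lit 2, nat_lit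 3, nat_lit 4, nat_lit 5, nat_lit 2, nat_lit 8, nat_lit 3, nat_lit 0, nat_lit 2, nat_lit 12, nat_lit 15, nat_lit 14], .inv (nat_lit 103), .prod [nat_lit 7, nat_lit 5, nat_lit 6, nat_lit 4, nat_lit 5, nat_lit 3, nat_lit 4, nat_lit 2, nat_lit 3, nat_lit 8, nat_lit 1, nat_lit 2, nat_lit 3, nat_lit 4, nat_lit 5, nat_lit 6, nat_lit 7, nat_lit 8, nat_lit 6, nat_lit 4, nat_lit 5, nat_lit 2, nat_lit 3, nat_lit 4, nat_lit 1, nat_lit 2, nat_lit 3, nat_lit 8, nat_lit 0, nat_lit 1, nat_lit 2, nat_lit 3, nat_lit 4, nat_lit 5, nat_lit 1, nat_lit 2, nat_lit 8, nat_lit 3, nat_lit 11, nat_lit 1, nat_lit 16, nat_lit 8, nat_lit 12, nat_lit 15, nat_lit 16], .inv (nat_lit 105), .prod [nat_lit 6, nat_lit 5, nat_lit 4, nat_lit 3, nat_lit 8, nat_lit 2, nat_lit 3, nat_lit 4, nat_lit 1, nat_lit 2, nat_lit 3, nat_lit 8, nat_lit 5, nat_lit 6, nat_lit 4, nat_lit 5, nat_lit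 3, nat_lit 4, nat_lit 2, nat_lit 3, nat_lit 8, nat_lit 1, nat_lit 2, nat_lit 3, nat_lit 4, nat_lit 5, nat_lit 6, nat_lit 7, nat_lit 1, nat_lit 2, nat_lit 3, nat_lit 8, nat_lit 6, nat_lit 4, nat_lit 5, nat_lit 3, nat_lit 4, nat_lit 2, nat_lit 3, nat_lit 8, nat_lit 1, nat_lit 2, nat_lit 3, nat_lit 4, nat_lit 5, nat_lit 1, nat_lit 3, nat_lit 2, nat_lit 8, nat_lit 3, nat_lit 9, nat_lit 2, nat_lit 8, nat_lit 16, nat_lit 14, nat_lit 8, nat_lit 18, nat_lit 16], .prod [nat_lit 6, nat_lit 5, nat_lit 4, nat_lit 3, nat_lit 8, nat_lit 2, nat_lit 3, nat_lit 4, nat_lit 1, nat_lit 2, nat_lit 3, nat_lit 8, nat_lit 5, nat_lit 6, nat_lit 4, nat_lit 5, nat_lit 3, nat_lit 4, nat_lit 2, nat_lit 3, nat_lit 8, nat_lit 1, nat_lit 2, nat_lit 3, nat_lit 4, nat_lit 5, nat_lit 6, nat_lit 7, nat_lit 5, nat_lit 6, nat_lit 4, nat_lit 5, nat_lit 3, nat_lit 4, nat_lit 2, nat_lit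 3, nat_lit 8, nat_lit 1, nat_lit 2, nat_lit 3, nat_lit 4, nat_lit 5, nat_lit 2, nat_lit 1, nat_lit 9, nat_lit 4, nat_lit 3, nat_lit 2, nat_lit 8, nat_lit 3, nat_lit 1, nat_lit 9, nat_lit 12, nat_lit 8, nat_lit 16, nat_lit 14, nat_lit 18, nat_lit 16], .prod [nat_lit 8, nat_lit 3, nat_lit 4, nat_lit 1, nat_lit 2, nat_lit 3, nat_lit 8, nat_lit 6, nat_lit 7, nat_lit 5, nat_lit 6, nat_lit 4, nat_lit 5, nat_lit 3, nat_lit 4, nat_lit 2, nat_lit 3, nat_lit 8, nat_lit 1, nat_lit 2, nat_lit 3, nat_lit 4, nat_lit 5, nat_lit 6, nat_lit 7, nat_lit 3, nat_lit 4, nat_lit 2, nat_lit 3, nat_lit 8, nat_lit 1, nat_lit 2, nat_lit 3, nat_lit 4, nat_lit 5, nat_lit 9, nat_lit 4, nat_lit 8, nat_lit 10, nat_lit 1, nat_lit 12, nat_lit 8, nat_lit 16, nat_lit 14, nat_lit 19, nat_lit 16], .inv (nat_lit 109), .prod [nat_lit 2, nat_lit 3, nat_lit 4, nat_lit 1, nat_lit 2,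 nat_lit 3, nat_lit 8, nat_lit 6, nat_lit 7, nat_lit 5, nat_lit 6, nat_lit 4, nat_lit 5, nat_lit 3, nat_lit 4, nat_lit 2, nat_lit 3, nat_lit 8, nat_lit 1, nat_lit 2, nat_lit 3, nat_lit 4, nat_lit 5, nat_lit 6, nat_lit 7, nat_lit 6, nat_lit 2, nat_lit 1, nat_lit 4, nat_lit 3, nat_lit 2, nat_lit 8, nat_lit 3, nat_lit 2, nat_lit 8, nat_lit 10, nat_lit 1, nat_lit 14, nat_lit 16, nat_lit 8, nat_lit 19, nat_lit 16], .inv (nat_lit 111), .prod [nat_lit 6, nat_lit 5, nat_lit 4, nat_lit 2, nat_lit 3, nat_lit 8, nat_lit 1, nat_lit 2, nat_lit 3, nat_lit 4, nat_lit 5, nat_lit 6, nat_lit 7, nat_lit 6, nat_lit 5, nat_lit 4, nat_lit 3, nat_lit 8, nat_lit 2, nat_lit 3, nat_lit 4, nat_lit 5, nat_lit 4, nat_lit 3, nat_lit 2, nat_lit 8, nat_lit 3, nat_lit 2, nat_lit 8, nat_lit 10, nat_lit 1, nat_lit 14, nat_lit 8, nat_lit 18], .inv (nat_lit 113), .prod [nat_lit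 2, nat_lit 3, nat_lit 4, nat_lit 5, nat_lit 4, nat_lit 0, nat_lit 12, nat_lit 15, nat_lit 14, nat_lit 16, nat_lit 8, nat_lit 18], .inv (nat_lit 115), .prod [nat_lit 1, nat_lit 2, nat_lit 3, nat_lit 4, nat_lit 5, nat_lit 1, nat_lit 2, nat_lit 0, nat_lit 1, nat_lit 3, nat_lit 2, nat_lit 8, nat_lit 3, nat_lit 10, nat_lit 15, nat_lit 16, nat_lit 8, nat_lit 16], .inv (nat_lit 117), .prod [nat_lit 1, nat_lit 2, nat_lit 3, nat_lit 4, nat_lit 5, nat_lit 1, nat_lit 3, nat_lit 2, nat_lit 0, nat_lit 1, nat_lit 9, nat_lit 4, nat_lit 3, nat_lit 2, nat_lit 8, nat_lit 3, nat_lit 11, nat_lit 8, nat_lit 10, nat_lit 15, nat_lit 13, nat_lit 12, nat_lit 18], .inv (nat_lit 119), .prod [nat_lit 2, nat_lit 3, nat_lit 8, nat_lit 10, nat_lit 1, nat_lit 8, nat_lit 12, nat_lit 15, nat_lit 16, nat_lit 8, nat_lit 19], .inv (nat_lit 121), .prod [nat_lit 6, nat_lit 2, nat_lit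 0, nat_lit 1, nat_lit 3, nat_lit 2, nat_lit 8, nat_lit 3, nat_lit 11, nat_lit 1, nat_lit 8, nat_lit 16, nat_lit 15, nat_lit 14, nat_lit 13], .inv (nat_lit 123), .prod [nat_lit 7, nat_lit 6, nat_lit 5, nat_lit 4, nat_lit 3, nat_lit 8, nat_lit 0, nat_lit 1, nat_lit 2, nat_lit 3, nat_lit 4, nat_lit 5, nat_lit 6, nat_lit 7, nat_lit 5, nat_lit 3, nat_lit 0, nat_lit 15], .prod [nat_lit 2, nat_lit 3, nat_lit 4, nat_lit 5, nat_lit 4, nat_lit 0, nat_lit 2, nat_lit 12, nat_lit 15, nat_lit 14], .inv (nat_lit 126), .prod [nat_lit 2, nat_lit 3, nat_lit 1, nat_lit 12, nat_lit 15, nat_lit 12], .inv (nat_lit 128), .prod [nat_lit 6, nat_lit 9, nat_lit 4, nat_lit 11, nat_lit 10, nat_lit 12, nat_lit 15, nat_lit 14, nat_lit 13], .inv (nat_lit 130), .prod [nat_lit 3, nat_lit 8, nat_lit 2, nat_lit 3, nat_lit 4, nat_lit 5, nat_lit 3, nat_lit 2, nat_lit 1, nat_lit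 8, nat_lit 3, nat_lit 2, nat_lit 0, nat_lit 1, nat_lit 4, nat_lit 3, nat_lit 2, nat_lit 8, nat_lit 3, nat_lit 11, nat_lit 1, nat_lit 16, nat_lit 14, nat_lit 17, nat_lit 19], .inv (nat_lit 132), .prod [nat_lit 0, nat_lit 1, nat_lit 2, nat_lit 3, nat_lit 14, nat_lit 16], .inv (nat_lit 134), .prod [nat_lit 11, nat_lit 10, nat_lit 13, nat_lit 12, nat_lit 16], .prod [nat_lit 8, nat_lit 7, nat_lit 6, nat_lit 5, nat_lit 3, nat_lit 4, nat_lit 2, nat_lit 3, nat_lit 8, nat_lit 1, nat_lit 2, nat_lit 3, nat_lit 4, nat_lit 5, nat_lit 6, nat_lit 7, nat_lit 6, nat_lit 2, nat_lit 1, nat_lit 3, nat_lit 2, nat_lit 0, nat_lit 1, nat_lit 9, nat_lit 4, nat_lit 3, nat_lit 2, nat_lit 8, nat_lit 3, nat_lit 13, nat_lit 16], .inv (nat_lit 137), .prod [nat_lit 4, nat_lit 3, nat_lit 8, nat_lit 5, nat_lit 6, nat_lit 4, nat_lit 5, nat_lit 3, nat_lit 4, nat_lit 2, nat_lit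 3, nat_lit 8, nat_lit 1, nat_lit 2, nat_lit 3, nat_lit 4, nat_lit 5, nat_lit 6, nat_lit 7, nat_lit 0, nat_lit 1, nat_lit 2, nat_lit 3, nat_lit 4, nat_lit 5, nat_lit 8, nat_lit 3, nat_lit 11, nat_lit 2, nat_lit 8, nat_lit 12, nat_lit 15, nat_lit 17, nat_lit 12, nat_lit 16], .inv (nat_lit 139), .prod [nat_lit 8, nat_lit 3, nat_lit 4, nat_lit 2, nat_lit 3, nat_lit 8, nat_lit 0, nat_lit 1, nat_lit 2, nat_lit 3, nat_lit 4, nat_lit 5, nat_lit 6, nat_lit 7, nat_lit 5, nat_lit 1, nat_lit 9, nat_lit 4, nat_lit 3, nat_lit 2, nat_lit 8, nat_lit 3, nat_lit 11, nat_lit 2, nat_lit 14, nat_lit 17, nat_lit 12, nat_lit 18, nat_lit 16], .prod [nat_lit 8, nat_lit 5, nat_lit 6, nat_lit 4, nat_lit 5, nat_lit 2, nat_lit 3, nat_lit 4, nat_lit 1, nat_lit 2, nat_lit 3, nat_lit 8, nat_lit 0, nat_lit 1, nat_lit 2, nat_lit 3, nat_lit 4, nat_lit 5, nat_lit 3, nat_lit 2,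 nat_lit 1, nat_lit 8, nat_lit 3, nat_lit 2, nat_lit 0, nat_lit 1, nat_lit 9, nat_lit 4, nat_lit 3, nat_lit 2, nat_lit 8, nat_lit 3, nat_lit 1, nat_lit 0, nat_lit 2, nat_lit 12, nat_lit 15, nat_lit 14, nat_lit 8, nat_lit 19, nat_lit 16]]

/-- the points of the letters -/
noncomputable def tPt : TT := tPp0
/-- the points of a letter -/
noncomputable def pt (a : ℕ) : ℕ := TT.fld tPt (nat_lit 72) (nat_lit 255) (nat_lit 4722366482869645213695) a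
/-- the images of the letters -/
noncomputable def tTT : TT := tTp0
/-- the image of a letter -/
noncomputable def T (s a : ℕ) : ℕ := TT.fld tTT (nat_lit 32) (nat_lit 255) (nat_lit 4294967295) (Nat.add (Nat.mul s (nat_lit 130560)) a)
/-- the tree of the letters -/
noncomputable def tPa : TT := tAp0
/-- the tree of the letters -/
noncomputable def pa (a : ℕ) : ℕ := TT.fld tPa (nat_lit 64) (nat_lit 255) (nat_lit 18446744073709551615) a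
/-- the coverage tables -/
noncomputable def tTr : TT := .node (nat_lit 740352) (tRp0) (.node (nat_lit 1480448) (tRp1) (tRp2))
/-- the coverage table of a name, by position -/
noncomputable def TrF (s _r c : ℕ) : ℕ := TT.fld tTr (nat_lit 64) (nat_lit 255) (nat_lit 18446744073709551615) (Nat.add (Nat.mul s (nat_lit 130560)) c)

/-- the names -/
def pathL : List (List ℕ) := [[], [nat_lit 0], [nat_lit 19, nat_lit 0], [nat_lit 50, nat_lit 0], [nat_lit 54, nat_lit 0], [nat_lit 116, nat_lit 0], [nat_lit 1227, nat_lit 0], [nat_lit 2009, nat_lit 0], [nat_lit 7913, nat_lit 0], [nat_lit 10109, nat_lit 0], [nat_lit 10131, nat_lit 0], [nat_lit 10160, nat_lit 0], [nat_lit 12674, nat_lit 0], [nat_lit 12675, nat_lit 0], [nat_lit 12677, nat_lit 0], [nat_lit 12701, nat_lit 0], [nat_lit 12706, nat_lit 0], [nat_lit 23261, nat_lit 0], [nat_lit 23266, nat_lit 0],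 [nat_lit 23480, nat_lit 0], [], [nat_lit 39669, nat_lit 0], [], [nat_lit 50, nat_lit 19, nat_lit 0], [nat_lit 54, nat_lit 19, nat_lit 0], [nat_lit 62, nat_lit 19, nat_lit 0], [nat_lit 80, nat_lit 19, nat_lit 0], [nat_lit 278, nat_lit 19, nat_lit 0], [nat_lit 320, nat_lit 19, nat_lit 0], [nat_lit 321, nat_lit 19, nat_lit 0], [nat_lit 431, nat_lit 19, nat_lit 0], [nat_lit 434, nat_lit 19, nat_lit 0], [nat_lit 437, nat_lit 19, nat_lit 0], [nat_lit 412, nat_lit 54, nat_lit 0], [nat_lit 2102, nat_lit 54, nat_lit 0], [nat_lit 0, nat_lit 116, nat_lit 0], [nat_lit 7, nat_lit 116, nat_lit 0], [nat_lit 220, nat_lit 116, nat_lit 0], [nat_lit 1491, nat_lit 412, nat_lit 54, nat_lit 0]]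

/-- the relators -/
def relsL : List (List ℕ × List ℕ) := [([nat_lit 1, nat_lit 0, nat_lit 1], [nat_lit 8]), ([nat_lit 0, nat_lit 1, nat_lit 0], [nat_lit 8]), ([nat_lit 0, nat_lit 0], [])]

/-- some facts -/
noncomputable def ftc0 : FT := FT.node (nat_lit 25) (FT.node (nat_lit 12) (FT.node (nat_lit 6) (FT.node (nat_lit 3) (FT.node (nat_lit 1) (FT.leaf (Fct.mk false (nat_lit 0) (nat_lit 0) (nat_lit 0) [nat_lit 0] (Rl.gn))) (FT.node (nat_lit 2) (FT.leaf (Fct.mk false (nat_lit 0) (nat_lit 0) (nat_lit 0) [nat_lit 1] (Rl.gn))) (FT.leaf (Fct.mk false (nat_lit 0) (nat_lit 0) (nat_lit 0) [nat_lit 2] (Rl.gn))))) (FT.node (nat_lit 4) (FT.leaf (Fct.mk false (nat_lit 0) (nat_lit 0) (nat_lit 0) [nat_lit 3] (Rl.gn))) (FT.node (nat_lit 5) (FT.leaf (Fct.mk false (nat_lit 0) (nat_lit 0) (nat_lit 0) [nat_lit 4] (Rl.gn))) (FT.leaf (Fct.mk false (nat_lit 0) (nat_lit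 0) (nat_lit 0) [nat_lit 5] (Rl.gn)))))) (FT.node (nat_lit 9) (FT.node (nat_lit 7) (FT.leaf (Fct.mk false (nat_lit 0) (nat_lit 0) (nat_lit 0) [nat_lit 6] (Rl.gn))) (FT.node (nat_lit 8) (FT.leaf (Fct.mk false (nat_lit 0) (nat_lit 0) (nat_lit 0) [nat_lit 7] (Rl.gn))) (FT.leaf (Fct.mk false (nat_lit 0) (nat_lit 0) (nat_lit 0) [nat_lit 8] (Rl.gn))))) (FT.node (nat_lit 10) (FT.leaf (Fct.mk true (nat_lit 0) (nat_lit 0) (nat_lit 1) [] (Rl.df))) (FT.node (nat_lit 11) (FT.leaf (Fct.mk true (nat_lit 1) (nat_lit 0) (nat_lit 0) [] (Rl.inv (nat_lit 9)))) (FT.leaf (Fct.mk true (nat_lit 1) (nat_lit 1) (nat_lit 1) [] (Rl.rel (nat_lit 0) [nat_lit 8] (nat_lit 1) (nat_lit 2) [nat_lit 10, nat_lit 8, nat_lit 9] []))))))) (FT.node (nat_lit 18) (FT.node (nat_lit 15) (FT.node (nat_lit 13) (FT.leaf (Fct.mk false (nat_lit 0) (nat_lit 0) (nat_lit 0) [nat_lit 3, nat_lit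 8] (Rl.cmp (nat_lit 3) (nat_lit 8)))) (FT.node (nat_lit 14) (FT.leaf (Fct.mk false (nat_lit 1) (nat_lit 0) (nat_lit 1) [nat_lit 3] (Rl.rel (nat_lit 0) [nat_lit 8, nat_lit 3] (nat_lit 1) (nat_lit 3) [nat_lit 10, nat_lit 12, nat_lit 9, nat_lit 11] []))) (FT.leaf (Fct.mk false (nat_lit 0) (nat_lit 0) (nat_lit 0) [nat_lit 2, nat_lit 3, nat_lit 8] (Rl.cmp (nat_lit 2) (nat_lit 12)))))) (FT.node (nat_lit 16) (FT.leaf (Fct.mk false (nat_lit 1) (nat_lit 0) (nat_lit 1) [nat_lit 20] (Rl.rel (nat_lit 0) [nat_lit 8, nat_lit 3, nat_lit 2] (nat_lit 1) (nat_lit 3) [nat_lit 10, nat_lit 14, nat_lit 9, nat_lit 11] []))) (FT.node (nat_lit 17) (FT.leaf (Fct.mk false (nat_lit 0) (nat_lit 0) (nat_lit 0) [nat_lit 3, nat_lit 10, nat_lit 8] (Rl.cmp (nat_lit 4) (nat_lit 12)))) (FT.leaf (Fct.mk false (nat_lit 1) (nat_lit 0) (nat_lit 1) [nat_lit 22] (Rl.rel (nat_lit 0)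 [nat_lit 4, nat_lit 8, nat_lit 10] (nat_lit 1) (nat_lit 3) [nat_lit 10, nat_lit 16, nat_lit 9, nat_lit 11] [])))))) (FT.node (nat_lit 21) (FT.node (nat_lit 19) (FT.leaf (Fct.mk false (nat_lit 0) (nat_lit 0) (nat_lit 0) [nat_lit 1, nat_lit 2, nat_lit 3, nat_lit 8] (Rl.cmp (nat_lit 1) (nat_lit 14)))) (FT.node (nat_lit 20) (FT.leaf (Fct.mk false (nat_lit 1) (nat_lit 0) (nat_lit 1) [nat_lit 24] (Rl.rel (nat_lit 0) [nat_lit 8, nat_lit 3, nat_lit 1, nat_lit 14] (nat_lit 1) (nat_lit 3) [nat_lit 10, nat_lit 18, nat_lit 9, nat_lit 11] []))) (FT.leaf (Fct.mk false (nat_lit 0) (nat_lit 0) (nat_lit 0) [nat_lit 5, nat_lit 3, nat_lit 10, nat_lit 8] (Rl.cmp (nat_lit 5) (nat_lit 16)))))) (FT.node (nat_lit 23) (FT.node (nat_lit 22) (FT.leaf (Fct.mk false (nat_lit 1) (nat_lit 0) (nat_lit 1) [nat_lit 26] (Rl.rel (nat_lit 0) [nat_lit 8, nat_lit 3, nat_lit 4, nat_lit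 5] (nat_lit 1) (nat_lit 3) [nat_lit 10, nat_lit 20, nat_lit 9, nat_lit 11] []))) (FT.leaf (Fct.mk false (nat_lit 0) (nat_lit 0) (nat_lit 0) [nat_lit 0, nat_lit 1, nat_lit 2, nat_lit 3, nat_lit 8] (Rl.cmp (nat_lit 0) (nat_lit 18))))) (FT.node (nat_lit 24) (FT.leaf (Fct.mk false (nat_lit 1) (nat_lit 0) (nat_lit 1) [nat_lit 28] (Rl.rel (nat_lit 0) [nat_lit 8, nat_lit 3, nat_lit 0, nat_lit 2, nat_lit 15] (nat_lit 1) (nat_lit 3) [nat_lit 10, nat_lit 22, nat_lit 9, nat_lit 11] []))) (FT.leaf (Fct.mk false (nat_lit 0) (nat_lit 0) (nat_lit 0) [nat_lit 5, nat_lit 3, nat_lit 10, nat_lit 16, nat_lit 8] (Rl.cmp (nat_lit 6) (nat_lit 20))))))))) (FT.node (nat_lit 37) (FT.node (nat_lit 31) (FT.node (nat_lit 28) (FT.node (nat_lit 26) (FT.leaf (Fct.mk false (nat_lit 1) (nat_lit 0) (nat_lit 1) [nat_lit 30] (Rl.rel (nat_lit 0) [nat_lit 6, nat_lit 4, nat_lit 9,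 nat_lit 8, nat_lit 16] (nat_lit 1) (nat_lit 3) [nat_lit 10, nat_lit 24, nat_lit 9, nat_lit 11] []))) (FT.node (nat_lit 27) (FT.leaf (Fct.mk false (nat_lit 0) (nat_lit 0) (nat_lit 0) [nat_lit 7, nat_lit 5, nat_lit 3, nat_lit 10, nat_lit 16, nat_lit 8] (Rl.cmp (nat_lit 7) (nat_lit 24)))) (FT.leaf (Fct.mk false (nat_lit 1) (nat_lit 0) (nat_lit 1) [nat_lit 32] (Rl.rel (nat_lit 0) [nat_lit 8, nat_lit 3, nat_lit 4, nat_lit 5, nat_lit 6, nat_lit 7] (nat_lit 1) (nat_lit 3) [nat_lit 10, nat_lit 26, nat_lit 9, nat_lit 11] []))))) (FT.node (nat_lit 29) (FT.leaf (Fct.mk false (nat_lit 1) (nat_lit 0) (nat_lit 1) [nat_lit 79] (Rl.cmp (nat_lit 15) (nat_lit 13)))) (FT.node (nat_lit 30) (FT.leaf (Fct.mk false (nat_lit 1) (nat_lit 0) (nat_lit 1) [nat_lit 10] (Rl.cmp (nat_lit 17) (nat_lit 13)))) (FT.leaf (Fct.mk false (nat_lit 1) (nat_lit 0) (nat_lit 1) [nat_lit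 3, nat_lit 4, nat_lit 5, nat_lit 10] (Rl.cmp (nat_lit 21) (nat_lit 29))))))) (FT.node (nat_lit 34) (FT.node (nat_lit 32) (FT.leaf (Fct.mk false (nat_lit 1) (nat_lit 0) (nat_lit 1) [nat_lit 1, nat_lit 14] (Rl.cmp (nat_lit 13) (nat_lit 19)))) (FT.node (nat_lit 33) (FT.leaf (Fct.mk false (nat_lit 1) (nat_lit 0) (nat_lit 1) [nat_lit 3, nat_lit 1] (Rl.cmp (nat_lit 15) (nat_lit 31)))) (FT.leaf (Fct.mk false (nat_lit 1) (nat_lit 0) (nat_lit 1) [nat_lit 4, nat_lit 5] (Rl.cmp (nat_lit 13) (nat_lit 21)))))) (FT.node (nat_lit 35) (FT.leaf (Fct.mk false (nat_lit 1) (nat_lit 0) (nat_lit 1) [nat_lit 67] (Rl.cmp (nat_lit 17) (nat_lit 33)))) (FT.node (nat_lit 36) (FT.leaf (Fct.mk false (nat_lit 1) (nat_lit 0) (nat_lit 1) [nat_lit 2, nat_lit 3, nat_lit 2, nat_lit 15, nat_lit 14] (Rl.cmp (nat_lit 23) (nat_lit 19)))) (FT.leaf (Fct.mk false (nat_lit 1) (nat_lit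 0) (nat_lit 1) [nat_lit 2, nat_lit 15, nat_lit 14] (Rl.cmp (nat_lit 15) (nat_lit 35)))))))) (FT.node (nat_lit 43) (FT.node (nat_lit 40) (FT.node (nat_lit 38) (FT.leaf (Fct.mk false (nat_lit 1) (nat_lit 0) (nat_lit 1) [nat_lit 3, nat_lit 15] (Rl.cmp (nat_lit 19) (nat_lit 36)))) (FT.node (nat_lit 39) (FT.leaf (Fct.mk false (nat_lit 1) (nat_lit 0) (nat_lit 1) [nat_lit 3, nat_lit 4, nat_lit 5, nat_lit 3, nat_lit 1, nat_lit 14] (Rl.cmp (nat_lit 21) (nat_lit 19)))) (FT.leaf (Fct.mk false (nat_lit 1) (nat_lit 0) (nat_lit 1) [nat_lit 4, nat_lit 5, nat_lit 3, nat_lit 1, nat_lit 14] (Rl.cmp (nat_lit 13) (nat_lit 38)))))) (FT.node (nat_lit 41) (FT.leaf (Fct.mk false (nat_lit 1) (nat_lit 0) (nat_lit 1) [nat_lit 5, nat_lit 1, nat_lit 14] (Rl.cmp (nat_lit 17) (nat_lit 39)))) (FT.node (nat_lit 42) (FT.leaf (Fct.mk false (nat_lit 1) (nat_lit 0) (nat_lit 1)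 [nat_lit 5, nat_lit 3, nat_lit 1] (Rl.cmp (nat_lit 15) (nat_lit 40)))) (FT.leaf (Fct.mk false (nat_lit 1) (nat_lit 0) (nat_lit 1) [nat_lit 4, nat_lit 5, nat_lit 4, nat_lit 9, nat_lit 16] (Rl.cmp (nat_lit 25) (nat_lit 21))))))) (FT.node (nat_lit 46) (FT.node (nat_lit 44) (FT.leaf (Fct.mk false (nat_lit 1) (nat_lit 0) (nat_lit 1) [nat_lit 5, nat_lit 4, nat_lit 9] (Rl.cmp (nat_lit 17) (nat_lit 42)))) (FT.node (nat_lit 45) (FT.leaf (Fct.mk false (nat_lit 1) (nat_lit 0) (nat_lit 1) [nat_lit 3, nat_lit 9] (Rl.cmp (nat_lit 21) (nat_lit 43)))) (FT.leaf (Fct.mk false (nat_lit 1) (nat_lit 0) (nat_lit 1) [nat_lit 3, nat_lit 2, nat_lit 15, nat_lit 14] (Rl.cmp (nat_lit 23) (nat_lit 31)))))) (FT.node (nat_lit 48) (FT.node (nat_lit 47) (FT.leaf (Fct.mk false (nat_lit 1) (nat_lit 0) (nat_lit 1) [nat_lit 5, nat_lit 4, nat_lit 9, nat_lit 16] (Rl.cmp (nat_lit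 25) (nat_lit 33)))) (FT.leaf (Fct.mk false (nat_lit 1) (nat_lit 0) (nat_lit 1) [nat_lit 3, nat_lit 9, nat_lit 16] (Rl.cmp (nat_lit 21) (nat_lit 46))))) (FT.node (nat_lit 49) (FT.leaf (Fct.mk false (nat_lit 1) (nat_lit 0) (nat_lit 1) [nat_lit 3, nat_lit 4, nat_lit 5, nat_lit 6, nat_lit 7, nat_lit 4, nat_lit 5, nat_lit 4, nat_lit 9, nat_lit 16] (Rl.cmp (nat_lit 27) (nat_lit 42)))) (FT.leaf (Fct.mk false (nat_lit 1) (nat_lit 0) (nat_lit 1) [nat_lit 4, nat_lit 5, nat_lit 6, nat_lit 7, nat_lit 5, nat_lit 4, nat_lit 9] (Rl.cmp (nat_lit 21) (nat_lit 48)))))))))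

/-- some facts -/
noncomputable def ftc1 : FT := FT.node (nat_lit 75) (FT.node (nat_lit 62) (FT.node (nat_lit 56) (FT.node (nat_lit 53) (FT.node (nat_lit 51) (FT.leaf (Fct.mk false (nat_lit 1) (nat_lit 0) (nat_lit 1) [nat_lit 5, nat_lit 6, nat_lit 7, nat_lit 3, nat_lit 9] (Rl.cmp (nat_lit 25) (nat_lit 49)))) (FT.node (nat_lit 52) (FT.leaf (Fct.mk false (nat_lit 1) (nat_lit 0) (nat_lit 1) [nat_lit 3, nat_lit 4, nat_lit 5, nat_lit 3, nat_lit 2, nat_lit 15, nat_lit 14] (Rl.cmp (nat_lit 21) (nat_lit 45)))) (FT.leaf (Fct.mk false (nat_lit 1) (nat_lit 0) (nat_lit 1) [nat_lit 4, nat_lit 5, nat_lit 10, nat_lit 9, nat_lit 2, nat_lit 15, nat_lit 14] (Rl.cmp (nat_lit 25) (nat_lit 51)))))) (FT.node (nat_lit 54) (FT.leaf (Fct.mk false (nat_lit 1) (nat_lit 0) (nat_lit 1) [nat_lit 5, nat_lit 3, nat_lit 10, nat_lit 9, nat_lit 2, nat_lit 15, nat_lit 14] (Rl.cmp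 (nat_lit 17) (nat_lit 52)))) (FT.node (nat_lit 55) (FT.leaf (Fct.mk false (nat_lit 1) (nat_lit 0) (nat_lit 1) [nat_lit 9, nat_lit 2, nat_lit 15, nat_lit 14] (Rl.cmp (nat_lit 21) (nat_lit 53)))) (FT.leaf (Fct.mk false (nat_lit 1) (nat_lit 0) (nat_lit 1) [nat_lit 3, nat_lit 9, nat_lit 15] (Rl.cmp (nat_lit 19) (nat_lit 54))))))) (FT.node (nat_lit 59) (FT.node (nat_lit 57) (FT.leaf (Fct.mk false (nat_lit 1) (nat_lit 0) (nat_lit 1) [nat_lit 3, nat_lit 4, nat_lit 5, nat_lit 6, nat_lit 7, nat_lit 5, nat_lit 4, nat_lit 9, nat_lit 16] (Rl.cmp (nat_lit 27) (nat_lit 46)))) (FT.node (nat_lit 58) (FT.leaf (Fct.mk false (nat_lit 1) (nat_lit 0) (nat_lit 1) [nat_lit 4, nat_lit 5, nat_lit 6, nat_lit 7, nat_lit 3, nat_lit 9, nat_lit 16] (Rl.cmp (nat_lit 25) (nat_lit 56)))) (FT.leaf (Fct.mk false (nat_lit 1) (nat_lit 0) (nat_lit 1) [nat_lit 2, nat_lit 3, nat_lit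 4, nat_lit 5, nat_lit 0, nat_lit 2, nat_lit 15] (Rl.cmp (nat_lit 23) (nat_lit 21)))))) (FT.node (nat_lit 60) (FT.leaf (Fct.mk false (nat_lit 1) (nat_lit 0) (nat_lit 1) [nat_lit 2, nat_lit 3, nat_lit 2, nat_lit 15] (Rl.cmp (nat_lit 23) (nat_lit 32)))) (FT.node (nat_lit 61) (FT.leaf (Fct.mk false (nat_lit 1) (nat_lit 0) (nat_lit 1) [nat_lit 6, nat_lit 11, nat_lit 10, nat_lit 14, nat_lit 13] (Rl.cmp (nat_lit 25) (nat_lit 23)))) (FT.leaf (Fct.mk false (nat_lit 1) (nat_lit 0) (nat_lit 1) [nat_lit 6, nat_lit 3, nat_lit 11, nat_lit 10, nat_lit 14, nat_lit 13] (Rl.cmp (nat_lit 13) (nat_lit 60)))))))) (FT.node (nat_lit 68) (FT.node (nat_lit 65) (FT.node (nat_lit 63) (FT.leaf (Fct.mk false (nat_lit 1) (nat_lit 0) (nat_lit 1) [nat_lit 6, nat_lit 11, nat_lit 14, nat_lit 13] (Rl.cmp (nat_lit 17) (nat_lit 61)))) (FT.node (nat_lit 64) (FT.leaf (Fct.mk false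 (nat_lit 1) (nat_lit 0) (nat_lit 1) [nat_lit 6, nat_lit 3, nat_lit 11, nat_lit 2, nat_lit 14, nat_lit 13] (Rl.cmp (nat_lit 15) (nat_lit 62)))) (FT.leaf (Fct.mk false (nat_lit 1) (nat_lit 0) (nat_lit 1) [nat_lit 3, nat_lit 4, nat_lit 5, nat_lit 3, nat_lit 11, nat_lit 2, nat_lit 14, nat_lit 13] (Rl.cmp (nat_lit 25) (nat_lit 63)))))) (FT.node (nat_lit 66) (FT.leaf (Fct.mk false (nat_lit 1) (nat_lit 0) (nat_lit 1) [nat_lit 3, nat_lit 4, nat_lit 5, nat_lit 6, nat_lit 7, nat_lit 6, nat_lit 11, nat_lit 10, nat_lit 14, nat_lit 13] (Rl.cmp (nat_lit 27) (nat_lit 60)))) (FT.node (nat_lit 67) (FT.leaf (Fct.mk false (nat_lit 1) (nat_lit 0) (nat_lit 1) [nat_lit 4, nat_lit 5, nat_lit 6, nat_lit 7, nat_lit 6, nat_lit 3, nat_lit 11, nat_lit 10, nat_lit 14, nat_lit 13] (Rl.cmp (nat_lit 17) (nat_lit 65)))) (FT.leaf (Fct.mk false (nat_lit 1) (nat_lit 0) (nat_lit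 1) [nat_lit 5, nat_lit 6, nat_lit 7, nat_lit 6, nat_lit 11, nat_lit 14, nat_lit 13] (Rl.cmp (nat_lit 21) (nat_lit 66))))))) (FT.node (nat_lit 71) (FT.node (nat_lit 69) (FT.leaf (Fct.mk false (nat_lit 1) (nat_lit 0) (nat_lit 1) [nat_lit 5, nat_lit 6, nat_lit 7, nat_lit 6, nat_lit 3, nat_lit 11, nat_lit 2, nat_lit 14, nat_lit 13] (Rl.cmp (nat_lit 15) (nat_lit 67)))) (FT.node (nat_lit 70) (FT.leaf (Fct.mk false (nat_lit 1) (nat_lit 0) (nat_lit 1) [nat_lit 6, nat_lit 7, nat_lit 3, nat_lit 4, nat_lit 5, nat_lit 3, nat_lit 11, nat_lit 2, nat_lit 14, nat_lit 13] (Rl.cmp (nat_lit 27) (nat_lit 68)))) (FT.leaf (Fct.mk false (nat_lit 1) (nat_lit 0) (nat_lit 1) [nat_lit 4, nat_lit 5, nat_lit 4, nat_lit 9, nat_lit 16] (Rl.cmp (nat_lit 25) (nat_lit 21)))))) (FT.node (nat_lit 73) (FT.node (nat_lit 72) (FT.leaf (Fct.mk false (nat_lit 1) (nat_lit 0) (nat_lit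 1) [nat_lit 6, nat_lit 4, nat_lit 11, nat_lit 10, nat_lit 14, nat_lit 13, nat_lit 16] (Rl.cmp (nat_lit 23) (nat_lit 25)))) (FT.leaf (Fct.mk false (nat_lit 1) (nat_lit 0) (nat_lit 1) [nat_lit 6, nat_lit 4, nat_lit 11, nat_lit 2, nat_lit 10, nat_lit 1, nat_lit 13, nat_lit 16] (Rl.cmp (nat_lit 19) (nat_lit 71))))) (FT.node (nat_lit 74) (FT.leaf (Fct.mk false (nat_lit 1) (nat_lit 0) (nat_lit 1) [nat_lit 6, nat_lit 4, nat_lit 11, nat_lit 1, nat_lit 13, nat_lit 16] (Rl.cmp (nat_lit 15) (nat_lit 72)))) (FT.leaf (Fct.mk false (nat_lit 1) (nat_lit 0) (nat_lit 1) [nat_lit 6, nat_lit 4, nat_lit 11, nat_lit 2, nat_lit 13] (Rl.cmp (nat_lit 19) (nat_lit 73))))))))) (FT.node (nat_lit 87) (FT.node (nat_lit 81) (FT.node (nat_lit 78) (FT.node (nat_lit 76) (FT.leaf (Fct.mk false (nat_lit 1) (nat_lit 0) (nat_lit 1) [nat_lit 6, nat_lit 3, nat_lit 11, nat_lit 2,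 nat_lit 13] (Rl.cmp (nat_lit 17) (nat_lit 74)))) (FT.node (nat_lit 77) (FT.leaf (Fct.mk false (nat_lit 1) (nat_lit 0) (nat_lit 1) [nat_lit 4, nat_lit 12] (Rl.cmp (nat_lit 15) (nat_lit 17)))) (FT.leaf (Fct.mk false (nat_lit 1) (nat_lit 0) (nat_lit 1) [nat_lit 6, nat_lit 9, nat_lit 4, nat_lit 9, nat_lit 12, nat_lit 16] (Rl.cmp (nat_lit 25) (nat_lit 76)))))) (FT.node (nat_lit 79) (FT.leaf (Fct.mk false (nat_lit 1) (nat_lit 0) (nat_lit 1) [nat_lit 4, nat_lit 5, nat_lit 6, nat_lit 7, nat_lit 4, nat_lit 10] (Rl.cmp (nat_lit 21) (nat_lit 27)))) (FT.node (nat_lit 80) (FT.leaf (Fct.mk false (nat_lit 1) (nat_lit 0) (nat_lit 1) [nat_lit 5, nat_lit 6, nat_lit 7, nat_lit 6, nat_lit 9, nat_lit 4, nat_lit 16] (Rl.cmp (nat_lit 27) (nat_lit 78)))) (FT.leaf (Fct.mk false (nat_lit 1) (nat_lit 0) (nat_lit 1) [nat_lit 2, nat_lit 3, nat_lit 4, nat_lit 5, nat_lit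 10, nat_lit 12] (Rl.cmp (nat_lit 15) (nat_lit 30))))))) (FT.node (nat_lit 84) (FT.node (nat_lit 82) (FT.leaf (Fct.mk false (nat_lit 1) (nat_lit 0) (nat_lit 1) [nat_lit 2, nat_lit 3, nat_lit 4, nat_lit 5, nat_lit 4, nat_lit 2, nat_lit 12, nat_lit 16] (Rl.cmp (nat_lit 25) (nat_lit 80)))) (FT.node (nat_lit 83) (FT.leaf (Fct.mk true (nat_lit 1) (nat_lit 19) (nat_lit 2) [] (Rl.df))) (FT.leaf (Fct.mk true (nat_lit 2) (nat_lit 19) (nat_lit 1) [] (Rl.inv (nat_lit 82)))))) (FT.node (nat_lit 85) (FT.leaf (Fct.mk false (nat_lit 2) (nat_lit 0) (nat_lit 2) [nat_lit 35] (Rl.rel (nat_lit 0) [nat_lit 2, nat_lit 3, nat_lit 10, nat_lit 8, nat_lit 18] (nat_lit 2) (nat_lit 3) [nat_lit 83, nat_lit 11, nat_lit 82] []))) (FT.node (nat_lit 86) (FT.leaf (Fct.mk true (nat_lit 2) (nat_lit 1) (nat_lit 1) [nat_lit 35] (Rl.t1 (nat_lit 83) (nat_lit 84)))) (FT.leaf (Fct.mk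 false (nat_lit 2) (nat_lit 0) (nat_lit 2) [nat_lit 36] (Rl.rel (nat_lit 0) [nat_lit 3, nat_lit 2, nat_lit 8, nat_lit 3, nat_lit 10, nat_lit 8] (nat_lit 2) (nat_lit 3) [nat_lit 84, nat_lit 85, nat_lit 13, nat_lit 11, nat_lit 82] []))))))) (FT.node (nat_lit 93) (FT.node (nat_lit 90) (FT.node (nat_lit 88) (FT.leaf (Fct.mk false (nat_lit 2) (nat_lit 0) (nat_lit 2) [nat_lit 38] (Rl.rel (nat_lit 0) [nat_lit 3, nat_lit 8, nat_lit 10, nat_lit 8, nat_lit 18] (nat_lit 2) (nat_lit 3) [nat_lit 84, nat_lit 85, nat_lit 29, nat_lit 11, nat_lit 82] []))) (FT.node (nat_lit 89) (FT.leaf (Fct.mk false (nat_lit 2) (nat_lit 0) (nat_lit 2) [nat_lit 40] (Rl.rel (nat_lit 0) [nat_lit 3, nat_lit 2, nat_lit 8, nat_lit 3, nat_lit 2, nat_lit 8, nat_lit 18] (nat_lit 2) (nat_lit 3) [nat_lit 84, nat_lit 85, nat_lit 28, nat_lit 11, nat_lit 82] []))) (FT.leaf (Fct.mk false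 (nat_lit 2) (nat_lit 0) (nat_lit 2) [nat_lit 2, nat_lit 8, nat_lit 3, nat_lit 2, nat_lit 8] (Rl.cmp (nat_lit 87) (nat_lit 84)))))) (FT.node (nat_lit 91) (FT.leaf (Fct.mk false (nat_lit 2) (nat_lit 0) (nat_lit 2) [nat_lit 2, nat_lit 8, nat_lit 3, nat_lit 8, nat_lit 10, nat_lit 8, nat_lit 18] (Rl.cmp (nat_lit 88) (nat_lit 89)))) (FT.node (nat_lit 92) (FT.leaf (Fct.mk false (nat_lit 2) (nat_lit 0) (nat_lit 2) [nat_lit 2, nat_lit 8, nat_lit 3, nat_lit 2] (Rl.cmp (nat_lit 84) (nat_lit 90)))) (FT.leaf (Fct.mk true (nat_lit 2) (nat_lit 0) (nat_lit 1) [nat_lit 4, nat_lit 3, nat_lit 2, nat_lit 8, nat_lit 3, nat_lit 8, nat_lit 18] (Rl.t1 (nat_lit 85) (nat_lit 91))))))) (FT.node (nat_lit 96) (FT.node (nat_lit 94) (FT.leaf (Fct.mk false (nat_lit 2) (nat_lit 0) (nat_lit 2) [nat_lit 8, nat_lit 10, nat_lit 8] (Rl.cmp (nat_lit 88) (nat_lit 84)))) (FT.node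 (nat_lit 95) (FT.leaf (Fct.mk true (nat_lit 2) (nat_lit 27) (nat_lit 2) [nat_lit 3] (Rl.rel (nat_lit 0) [nat_lit 1, nat_lit 3, nat_lit 2, nat_lit 8, nat_lit 3, nat_lit 2, nat_lit 10, nat_lit 1, nat_lit 8, nat_lit 18] (nat_lit 2) (nat_lit 2) [nat_lit 90, nat_lit 92, nat_lit 32, nat_lit 82] []))) (FT.leaf (Fct.mk true (nat_lit 2) (nat_lit 5) (nat_lit 2) [nat_lit 3, nat_lit 8, nat_lit 10, nat_lit 8] (Rl.t1 (nat_lit 94) (nat_lit 93)))))) (FT.node (nat_lit 98) (FT.node (nat_lit 97) (FT.leaf (Fct.mk false (nat_lit 2) (nat_lit 0) (nat_lit 2) [nat_lit 2, nat_lit 8, nat_lit 3, nat_lit 2, nat_lit 8] (Rl.cmp (nat_lit 87) (nat_lit 84)))) (FT.leaf (Fct.mk true (nat_lit 2) (nat_lit 33) (nat_lit 2) [nat_lit 3] (Rl.rel (nat_lit 0) [nat_lit 8, nat_lit 3, nat_lit 4, nat_lit 5, nat_lit 2, nat_lit 8, nat_lit 3, nat_lit 10, nat_lit 8, nat_lit 18] (nat_lit 2) (nat_lit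 2) [nat_lit 90, nat_lit 92, nat_lit 34, nat_lit 82] [])))) (FT.node (nat_lit 99) (FT.leaf (Fct.mk true (nat_lit 2) (nat_lit 8) (nat_lit 2) [nat_lit 3, nat_lit 2, nat_lit 8, nat_lit 3, nat_lit 2, nat_lit 8] (Rl.t1 (nat_lit 97) (nat_lit 96)))) (FT.leaf (Fct.mk false (nat_lit 2) (nat_lit 0) (nat_lit 2) [nat_lit 8, nat_lit 10, nat_lit 8] (Rl.cmp (nat_lit 88) (nat_lit 84)))))))))

/-- some facts -/
noncomputable def ftc2 : FT := FT.node (nat_lit 125) (FT.node (nat_lit 112) (FT.node (nat_lit 106) (FT.node (nat_lit 103) (FT.node (nat_lit 101) (FT.leaf (Fct.mk true (nat_lit 2) (nat_lit 28) (nat_lit 2) [nat_lit 3] (Rl.rel (nat_lit 0) [nat_lit 1, nat_lit 3, nat_lit 2, nat_lit 8, nat_lit 3, nat_lit 10, nat_lit 0, nat_lit 12, nat_lit 15, nat_lit 8, nat_lit 18] (nat_lit 2) (nat_lit 2) [nat_lit 90, nat_lit 92, nat_lit 37, nat_lit 82] []))) (FT.node (nat_lit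 102) (FT.leaf (Fct.mk true (nat_lit 2) (nat_lit 6) (nat_lit 2) [nat_lit 3, nat_lit 8, nat_lit 10, nat_lit 8] (Rl.t1 (nat_lit 100) (nat_lit 99)))) (FT.leaf (Fct.mk false (nat_lit 2) (nat_lit 0) (nat_lit 2) [nat_lit 2, nat_lit 8, nat_lit 3, nat_lit 2, nat_lit 8] (Rl.cmp (nat_lit 87) (nat_lit 84)))))) (FT.node (nat_lit 104) (FT.leaf (Fct.mk true (nat_lit 2) (nat_lit 146) (nat_lit 2) [nat_lit 6, nat_lit 3] (Rl.rel (nat_lit 0) [nat_lit 8, nat_lit 3, nat_lit 4, nat_lit 5, nat_lit 6, nat_lit 7, nat_lit 2, nat_lit 8, nat_lit 3, nat_lit 10, nat_lit 8, nat_lit 18] (nat_lit 2) (nat_lit 2) [nat_lit 90, nat_lit 92, nat_lit 50, nat_lit 82] []))) (FT.node (nat_lit 105) (FT.leaf (Fct.mk true (nat_lit 2) (nat_lit 21) (nat_lit 2) [nat_lit 6, nat_lit 3, nat_lit 2, nat_lit 8, nat_lit 3, nat_lit 2, nat_lit 8] (Rl.t1 (nat_lit 103) (nat_lit 102)))) (FT.leaf (Fct.mk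 false (nat_lit 1) (nat_lit 0) (nat_lit 1) [nat_lit 10, nat_lit 1, nat_lit 14] (Rl.cmp (nat_lit 17) (nat_lit 19))))))) (FT.node (nat_lit 109) (FT.node (nat_lit 107) (FT.leaf (Fct.mk false (nat_lit 1) (nat_lit 0) (nat_lit 1) [nat_lit 4, nat_lit 5] (Rl.cmp (nat_lit 13) (nat_lit 21)))) (FT.node (nat_lit 108) (FT.leaf (Fct.mk false (nat_lit 1) (nat_lit 0) (nat_lit 1) [nat_lit 2, nat_lit 3, nat_lit 12, nat_lit 15] (Rl.cmp (nat_lit 17) (nat_lit 59)))) (FT.leaf (Fct.mk false (nat_lit 1) (nat_lit 0) (nat_lit 1) [nat_lit 3, nat_lit 4, nat_lit 5, nat_lit 3, nat_lit 2] (Rl.cmp (nat_lit 21) (nat_lit 15)))))) (FT.node (nat_lit 110) (FT.leaf (Fct.mk false (nat_lit 1) (nat_lit 0) (nat_lit 1) [nat_lit 2, nat_lit 3, nat_lit 4, nat_lit 5, nat_lit 2, nat_lit 3, nat_lit 2] (Rl.cmp (nat_lit 15) (nat_lit 108)))) (FT.node (nat_lit 111) (FT.leaf (Fct.mk false (nat_lit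 1) (nat_lit 0) (nat_lit 1) [nat_lit 2] (Rl.cmp (nat_lit 13) (nat_lit 15)))) (FT.leaf (Fct.mk false (nat_lit 1) (nat_lit 0) (nat_lit 1) [nat_lit 3, nat_lit 4, nat_lit 5, nat_lit 4, nat_lit 10] (Rl.cmp (nat_lit 21) (nat_lit 17)))))))) (FT.node (nat_lit 118) (FT.node (nat_lit 115) (FT.node (nat_lit 113) (FT.leaf (Fct.mk false (nat_lit 1) (nat_lit 0) (nat_lit 1) [nat_lit 2, nat_lit 3, nat_lit 1, nat_lit 0, nat_lit 2, nat_lit 15] (Rl.cmp (nat_lit 23) (nat_lit 15)))) (FT.node (nat_lit 114) (FT.leaf (Fct.mk false (nat_lit 1) (nat_lit 0) (nat_lit 1) [nat_lit 2, nat_lit 3, nat_lit 1, nat_lit 0, nat_lit 2, nat_lit 12, nat_lit 15, nat_lit 12] (Rl.cmp (nat_lit 17) (nat_lit 112)))) (FT.leaf (Fct.mk false (nat_lit 1) (nat_lit 0) (nat_lit 1) [nat_lit 1, nat_lit 2, nat_lit 3, nat_lit 0, nat_lit 12, nat_lit 15, nat_lit 14, nat_lit 12] (Rl.cmp (nat_lit 23) (nat_lit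 113)))))) (FT.node (nat_lit 116) (FT.leaf (Fct.mk false (nat_lit 1) (nat_lit 0) (nat_lit 1) [nat_lit 6, nat_lit 7, nat_lit 2, nat_lit 3, nat_lit 4, nat_lit 5, nat_lit 2, nat_lit 3, nat_lit 11, nat_lit 2, nat_lit 13] (Rl.cmp (nat_lit 19) (nat_lit 69)))) (FT.node (nat_lit 117) (FT.leaf (Fct.mk false (nat_lit 1) (nat_lit 0) (nat_lit 1) [nat_lit 6, nat_lit 9, nat_lit 4, nat_lit 16] (Rl.cmp (nat_lit 25) (nat_lit 17)))) (FT.leaf (Fct.mk false (nat_lit 1) (nat_lit 0) (nat_lit 1) [nat_lit 6, nat_lit 9, nat_lit 4, nat_lit 10, nat_lit 1, nat_lit 14, nat_lit 16] (Rl.cmp (nat_lit 19) (nat_lit 116))))))) (FT.node (nat_lit 121) (FT.node (nat_lit 119) (FT.leaf (Fct.mk false (nat_lit 1) (nat_lit 0) (nat_lit 1) [nat_lit 6, nat_lit 9, nat_lit 4, nat_lit 1, nat_lit 14, nat_lit 16] (Rl.cmp (nat_lit 13) (nat_lit 117)))) (FT.node (nat_lit 120) (FT.leaf (Fct.mk false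 (nat_lit 1) (nat_lit 0) (nat_lit 1) [nat_lit 6, nat_lit 9, nat_lit 4, nat_lit 2, nat_lit 14, nat_lit 12, nat_lit 16] (Rl.cmp (nat_lit 19) (nat_lit 118)))) (FT.leaf (Fct.mk false (nat_lit 1) (nat_lit 0) (nat_lit 1) [nat_lit 6, nat_lit 9, nat_lit 4, nat_lit 1, nat_lit 0, nat_lit 2, nat_lit 12, nat_lit 15, nat_lit 14, nat_lit 12, nat_lit 16] (Rl.cmp (nat_lit 23) (nat_lit 119)))))) (FT.node (nat_lit 123) (FT.node (nat_lit 122) (FT.leaf (Fct.mk false (nat_lit 1) (nat_lit 0) (nat_lit 1) [nat_lit 3, nat_lit 4, nat_lit 5, nat_lit 9, nat_lit 4, nat_lit 1, nat_lit 0, nat_lit 2, nat_lit 12, nat_lit 15, nat_lit 14, nat_lit 12, nat_lit 16] (Rl.cmp (nat_lit 25) (nat_lit 120)))) (FT.leaf (Fct.mk false (nat_lit 1) (nat_lit 0) (nat_lit 1) [nat_lit 4, nat_lit 5, nat_lit 6, nat_lit 7] (Rl.cmp (nat_lit 13) (nat_lit 27))))) (FT.node (nat_lit 124) (FT.leaf (Fct.mk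 false (nat_lit 1) (nat_lit 0) (nat_lit 1) [nat_lit 5, nat_lit 6, nat_lit 7, nat_lit 3] (Rl.cmp (nat_lit 17) (nat_lit 122)))) (FT.leaf (Fct.mk false (nat_lit 1) (nat_lit 0) (nat_lit 1) [nat_lit 6, nat_lit 7, nat_lit 10] (Rl.cmp (nat_lit 21) (nat_lit 123))))))))) (FT.node (nat_lit 137) (FT.node (nat_lit 131) (FT.node (nat_lit 128) (FT.node (nat_lit 126) (FT.leaf (Fct.mk false (nat_lit 1) (nat_lit 0) (nat_lit 1) [nat_lit 7, nat_lit 3, nat_lit 4, nat_lit 5, nat_lit 10] (Rl.cmp (nat_lit 25) (nat_lit 124)))) (FT.node (nat_lit 127) (FT.leaf (Fct.mk false (nat_lit 1) (nat_lit 0) (nat_lit 1) [nat_lit 2, nat_lit 3, nat_lit 14] (Rl.cmp (nat_lit 19) (nat_lit 15)))) (FT.leaf (Fct.mk false (nat_lit 1) (nat_lit 0) (nat_lit 1) [nat_lit 1, nat_lit 2, nat_lit 3, nat_lit 0, nat_lit 2, nat_lit 15, nat_lit 14] (Rl.cmp (nat_lit 23) (nat_lit 126)))))) (FT.node (nat_lit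 129) (FT.leaf (Fct.mk false (nat_lit 1) (nat_lit 0) (nat_lit 1) [nat_lit 6, nat_lit 2, nat_lit 3, nat_lit 11, nat_lit 2, nat_lit 10, nat_lit 1, nat_lit 14, nat_lit 13] (Rl.cmp (nat_lit 25) (nat_lit 112)))) (FT.node (nat_lit 130) (FT.leaf (Fct.mk false (nat_lit 1) (nat_lit 0) (nat_lit 1) [nat_lit 6, nat_lit 2, nat_lit 3, nat_lit 11, nat_lit 10, nat_lit 1, nat_lit 14, nat_lit 13] (Rl.cmp (nat_lit 13) (nat_lit 128)))) (FT.leaf (Fct.mk false (nat_lit 1) (nat_lit 0) (nat_lit 1) [nat_lit 6, nat_lit 2, nat_lit 3, nat_lit 11, nat_lit 1, nat_lit 16, nat_lit 14, nat_lit 13, nat_lit 12] (Rl.cmp (nat_lit 21) (nat_lit 129))))))) (FT.node (nat_lit 134) (FT.node (nat_lit 132) (FT.leaf (Fct.mk false (nat_lit 1) (nat_lit 0) (nat_lit 1) [nat_lit 6, nat_lit 1, nat_lit 2, nat_lit 3, nat_lit 11, nat_lit 2, nat_lit 16, nat_lit 15, nat_lit 14, nat_lit 13, nat_lit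 12] (Rl.cmp (nat_lit 23) (nat_lit 130)))) (FT.node (nat_lit 133) (FT.leaf (Fct.mk false (nat_lit 1) (nat_lit 0) (nat_lit 1) [nat_lit 6, nat_lit 9, nat_lit 4, nat_lit 2, nat_lit 12, nat_lit 16] (Rl.cmp (nat_lit 15) (nat_lit 116)))) (FT.leaf (Fct.mk false (nat_lit 1) (nat_lit 0) (nat_lit 1) [nat_lit 6, nat_lit 9, nat_lit 4, nat_lit 1, nat_lit 0, nat_lit 2, nat_lit 12, nat_lit 15, nat_lit 12, nat_lit 16] (Rl.cmp (nat_lit 23) (nat_lit 132)))))) (FT.node (nat_lit 135) (FT.leaf (Fct.mk false (nat_lit 1) (nat_lit 0) (nat_lit 1) [nat_lit 3, nat_lit 4, nat_lit 5, nat_lit 9, nat_lit 4, nat_lit 1, nat_lit 0, nat_lit 2, nat_lit 12, nat_lit 15, nat_lit 12, nat_lit 16] (Rl.cmp (nat_lit 25) (nat_lit 133)))) (FT.node (nat_lit 136) (FT.leaf (Fct.mk false (nat_lit 1) (nat_lit 0) (nat_lit 1) [nat_lit 3, nat_lit 4, nat_lit 5, nat_lit 4, nat_lit 10] (Rl.cmp (nat_lit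 21) (nat_lit 17)))) (FT.leaf (Fct.mk false (nat_lit 1) (nat_lit 0) (nat_lit 1) [nat_lit 4, nat_lit 5, nat_lit 9, nat_lit 4, nat_lit 16] (Rl.cmp (nat_lit 25) (nat_lit 135)))))))) (FT.node (nat_lit 143) (FT.node (nat_lit 140) (FT.node (nat_lit 138) (FT.leaf (Fct.mk false (nat_lit 1) (nat_lit 0) (nat_lit 1) [nat_lit 3, nat_lit 4, nat_lit 5, nat_lit 9, nat_lit 4, nat_lit 1, nat_lit 14, nat_lit 16] (Rl.cmp (nat_lit 19) (nat_lit 136)))) (FT.node (nat_lit 139) (FT.leaf (Fct.mk false (nat_lit 1) (nat_lit 0) (nat_lit 1) [nat_lit 4, nat_lit 5, nat_lit 9, nat_lit 4, nat_lit 1, nat_lit 14, nat_lit 16] (Rl.cmp (nat_lit 13) (nat_lit 137)))) (FT.leaf (Fct.mk false (nat_lit 1) (nat_lit 0) (nat_lit 1) [nat_lit 3, nat_lit 4, nat_lit 5, nat_lit 9, nat_lit 4, nat_lit 2, nat_lit 14, nat_lit 16] (Rl.cmp (nat_lit 19) (nat_lit 138)))))) (FT.node (nat_lit 141) (FT.leaf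 (Fct.mk false (nat_lit 1) (nat_lit 0) (nat_lit 1) [nat_lit 2, nat_lit 3, nat_lit 4, nat_lit 5, nat_lit 9, nat_lit 4, nat_lit 1, nat_lit 0, nat_lit 2, nat_lit 15, nat_lit 14, nat_lit 16] (Rl.cmp (nat_lit 23) (nat_lit 139)))) (FT.node (nat_lit 142) (FT.leaf (Fct.mk false (nat_lit 1) (nat_lit 0) (nat_lit 1) [nat_lit 3, nat_lit 4, nat_lit 5, nat_lit 6, nat_lit 7, nat_lit 3, nat_lit 1, nat_lit 14] (Rl.cmp (nat_lit 27) (nat_lit 19)))) (FT.leaf (Fct.mk false (nat_lit 1) (nat_lit 0) (nat_lit 1) [nat_lit 4, nat_lit 5, nat_lit 6, nat_lit 7, nat_lit 1, nat_lit 14] (Rl.cmp (nat_lit 17) (nat_lit 141))))))) (FT.node (nat_lit 146) (FT.node (nat_lit 144) (FT.leaf (Fct.mk false (nat_lit 1) (nat_lit 0) (nat_lit 1) [nat_lit 5, nat_lit 6, nat_lit 7, nat_lit 6, nat_lit 4, nat_lit 1, nat_lit 9, nat_lit 16, nat_lit 14] (Rl.cmp (nat_lit 27) (nat_lit 142)))) (FT.node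 (nat_lit 145) (FT.leaf (Fct.mk false (nat_lit 1) (nat_lit 0) (nat_lit 1) [nat_lit 5, nat_lit 6, nat_lit 7, nat_lit 6, nat_lit 4, nat_lit 1, nat_lit 9, nat_lit 14, nat_lit 16] (Rl.cmp (nat_lit 15) (nat_lit 143)))) (FT.leaf (Fct.mk false (nat_lit 1) (nat_lit 0) (nat_lit 1) [nat_lit 5, nat_lit 6, nat_lit 7, nat_lit 6, nat_lit 4, nat_lit 10, nat_lit 9, nat_lit 2, nat_lit 15, nat_lit 14, nat_lit 16] (Rl.cmp (nat_lit 23) (nat_lit 144)))))) (FT.node (nat_lit 148) (FT.node (nat_lit 147) (FT.leaf (Fct.mk false (nat_lit 1) (nat_lit 0) (nat_lit 1) [nat_lit 6, nat_lit 7, nat_lit 6, nat_lit 9, nat_lit 4, nat_lit 9, nat_lit 2, nat_lit 12, nat_lit 15, nat_lit 14, nat_lit 16] (Rl.cmp (nat_lit 25) (nat_lit 145)))) (FT.leaf (Fct.mk false (nat_lit 1) (nat_lit 0) (nat_lit 1) [nat_lit 7, nat_lit 3, nat_lit 4, nat_lit 5, nat_lit 9, nat_lit 4, nat_lit 9, nat_lit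 2, nat_lit 12, nat_lit 15, nat_lit 14, nat_lit 16] (Rl.cmp (nat_lit 27) (nat_lit 146))))) (FT.node (nat_lit 149) (FT.leaf (Fct.mk false (nat_lit 1) (nat_lit 0) (nat_lit 1) [nat_lit 7, nat_lit 2, nat_lit 3, nat_lit 4, nat_lit 5, nat_lit 9, nat_lit 4, nat_lit 11, nat_lit 1, nat_lit 16, nat_lit 15, nat_lit 14, nat_lit 13, nat_lit 12, nat_lit 16] (Rl.cmp (nat_lit 23) (nat_lit 147)))) (FT.leaf (Fct.mk false (nat_lit 1) (nat_lit 0) (nat_lit 1) [nat_lit 6, nat_lit 1, nat_lit 2, nat_lit 3, nat_lit 11, nat_lit 10, nat_lit 12, nat_lit 15, nat_lit 14, nat_lit 13] (Rl.cmp (nat_lit 25) (nat_lit 127)))))))))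

/-- some facts -/
noncomputable def ftc3 : FT := FT.node (nat_lit 175) (FT.node (nat_lit 162) (FT.node (nat_lit 156) (FT.node (nat_lit 153) (FT.node (nat_lit 151) (FT.leaf (Fct.mk false (nat_lit 1) (nat_lit 0) (nat_lit 1) [nat_lit 3, nat_lit 4, nat_lit 5, nat_lit 6, nat_lit 7, nat_lit 6, nat_lit 2, nat_lit 3, nat_lit 11, nat_lit 2, nat_lit 10, nat_lit 1, nat_lit 14, nat_lit 13] (Rl.cmp (nat_lit 27) (nat_lit 128)))) (FT.node (nat_lit 152) (FT.leaf (Fct.mk false (nat_lit 1) (nat_lit 0) (nat_lit 1) [nat_lit 4, nat_lit 5, nat_lit 6, nat_lit 7, nat_lit 6, nat_lit 2, nat_lit 3, nat_lit 11, nat_lit 10, nat_lit 1, nat_lit 14, nat_lit 13] (Rl.cmp (nat_lit 17) (nat_lit 150)))) (FT.leaf (Fct.mk false (nat_lit 1) (nat_lit 0) (nat_lit 1) [nat_lit 5, nat_lit 6, nat_lit 7, nat_lit 6, nat_lit 2, nat_lit 3, nat_lit 11, nat_lit 1, nat_lit 16, nat_lit 14, nat_lit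 13, nat_lit 12] (Rl.cmp (nat_lit 25) (nat_lit 151)))))) (FT.node (nat_lit 154) (FT.leaf (Fct.mk false (nat_lit 1) (nat_lit 0) (nat_lit 1) [nat_lit 4, nat_lit 5, nat_lit 6, nat_lit 7] (Rl.cmp (nat_lit 13) (nat_lit 27)))) (FT.node (nat_lit 155) (FT.leaf (Fct.mk false (nat_lit 1) (nat_lit 0) (nat_lit 1) [nat_lit 5, nat_lit 6, nat_lit 7, nat_lit 4, nat_lit 10] (Rl.cmp (nat_lit 21) (nat_lit 153)))) (FT.leaf (Fct.mk false (nat_lit 1) (nat_lit 0) (nat_lit 1) [nat_lit 6, nat_lit 7, nat_lit 6, nat_lit 9, nat_lit 4, nat_lit 16] (Rl.cmp (nat_lit 27) (nat_lit 154))))))) (FT.node (nat_lit 159) (FT.node (nat_lit 157) (FT.leaf (Fct.mk false (nat_lit 1) (nat_lit 0) (nat_lit 1) [nat_lit 6, nat_lit 4, nat_lit 11, nat_lit 10, nat_lit 14, nat_lit 13, nat_lit 16] (Rl.cmp (nat_lit 23) (nat_lit 25)))) (FT.node (nat_lit 158) (FT.leaf (Fct.mk false (nat_lit 1) (nat_lit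 0) (nat_lit 1) [nat_lit 3, nat_lit 4, nat_lit 5, nat_lit 6, nat_lit 7, nat_lit 6, nat_lit 1, nat_lit 2, nat_lit 3, nat_lit 11, nat_lit 10, nat_lit 12, nat_lit 15, nat_lit 14, nat_lit 13] (Rl.cmp (nat_lit 27) (nat_lit 149)))) (FT.leaf (Fct.mk false (nat_lit 1) (nat_lit 0) (nat_lit 1) [nat_lit 3, nat_lit 4, nat_lit 5, nat_lit 6, nat_lit 7, nat_lit 3, nat_lit 0, nat_lit 2, nat_lit 15] (Rl.cmp (nat_lit 27) (nat_lit 23)))))) (FT.node (nat_lit 160) (FT.leaf (Fct.mk false (nat_lit 1) (nat_lit 0) (nat_lit 1) [nat_lit 4, nat_lit 5, nat_lit 6, nat_lit 7, nat_lit 0, nat_lit 2, nat_lit 12, nat_lit 15] (Rl.cmp (nat_lit 21) (nat_lit 158)))) (FT.node (nat_lit 161) (FT.leaf (Fct.mk false (nat_lit 1) (nat_lit 0) (nat_lit 1) [nat_lit 4, nat_lit 5, nat_lit 6, nat_lit 7, nat_lit 6, nat_lit 1, nat_lit 2, nat_lit 3, nat_lit 11, nat_lit 2, nat_lit 16, nat_lit 12,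 nat_lit 15, nat_lit 14, nat_lit 13] (Rl.cmp (nat_lit 25) (nat_lit 157)))) (FT.leaf (Fct.mk false (nat_lit 1) (nat_lit 0) (nat_lit 1) [nat_lit 5, nat_lit 6, nat_lit 7, nat_lit 6, nat_lit 1, nat_lit 2, nat_lit 3, nat_lit 11, nat_lit 16, nat_lit 15, nat_lit 14, nat_lit 13] (Rl.cmp (nat_lit 21) (nat_lit 160)))))))) (FT.node (nat_lit 168) (FT.node (nat_lit 165) (FT.node (nat_lit 163) (FT.leaf (Fct.mk false (nat_lit 1) (nat_lit 0) (nat_lit 1) [nat_lit 6, nat_lit 7, nat_lit 3, nat_lit 4, nat_lit 5, nat_lit 1, nat_lit 2, nat_lit 3, nat_lit 11, nat_lit 16, nat_lit 15, nat_lit 14, nat_lit 13] (Rl.cmp (nat_lit 27) (nat_lit 161)))) (FT.node (nat_lit 164) (FT.leaf (Fct.mk false (nat_lit 1) (nat_lit 0) (nat_lit 1) [nat_lit 0, nat_lit 2, nat_lit 15] (Rl.cmp (nat_lit 13) (nat_lit 23)))) (FT.leaf (Fct.mk false (nat_lit 1) (nat_lit 0) (nat_lit 1) [nat_lit 4,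 nat_lit 5, nat_lit 6, nat_lit 7, nat_lit 4, nat_lit 10] (Rl.cmp (nat_lit 21) (nat_lit 27)))))) (FT.node (nat_lit 166) (FT.leaf (Fct.mk false (nat_lit 1) (nat_lit 0) (nat_lit 1) [nat_lit 5, nat_lit 6, nat_lit 7, nat_lit 4] (Rl.cmp (nat_lit 17) (nat_lit 164)))) (FT.node (nat_lit 167) (FT.leaf (Fct.mk false (nat_lit 1) (nat_lit 0) (nat_lit 1) [nat_lit 5, nat_lit 6, nat_lit 7, nat_lit 4, nat_lit 0, nat_lit 2, nat_lit 15] (Rl.cmp (nat_lit 21) (nat_lit 159)))) (FT.leaf (Fct.mk false (nat_lit 1) (nat_lit 0) (nat_lit 1) [nat_lit 4, nat_lit 5, nat_lit 6, nat_lit 7, nat_lit 0, nat_lit 2, nat_lit 15] (Rl.cmp (nat_lit 17) (nat_lit 158))))))) (FT.node (nat_lit 171) (FT.node (nat_lit 169) (FT.leaf (Fct.mk false (nat_lit 2) (nat_lit 0) (nat_lit 2) [nat_lit 42] (Rl.rel (nat_lit 0) [nat_lit 3, nat_lit 8, nat_lit 2, nat_lit 3, nat_lit 4, nat_lit 5, nat_lit 6,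 nat_lit 7, nat_lit 2] (nat_lit 2) (nat_lit 3) [nat_lit 104, nat_lit 88, nat_lit 104, nat_lit 104] []))) (FT.node (nat_lit 170) (FT.leaf (Fct.mk false (nat_lit 2) (nat_lit 0) (nat_lit 2) [nat_lit 6, nat_lit 3, nat_lit 2, nat_lit 8, nat_lit 3, nat_lit 8, nat_lit 18] (Rl.cmp (nat_lit 84) (nat_lit 168)))) (FT.leaf (Fct.mk false (nat_lit 2) (nat_lit 0) (nat_lit 2) [nat_lit 6, nat_lit 4, nat_lit 2, nat_lit 12, nat_lit 18] (Rl.cmp (nat_lit 87) (nat_lit 169)))))) (FT.node (nat_lit 173) (FT.node (nat_lit 172) (FT.leaf (Fct.mk false (nat_lit 2) (nat_lit 0) (nat_lit 2) [nat_lit 2, nat_lit 8, nat_lit 3, nat_lit 2, nat_lit 8] (Rl.cmp (nat_lit 87) (nat_lit 84)))) (FT.leaf (Fct.mk false (nat_lit 2) (nat_lit 0) (nat_lit 2) [nat_lit 44] (Rl.rel (nat_lit 0) [nat_lit 3, nat_lit 4, nat_lit 5, nat_lit 6, nat_lit 7, nat_lit 8, nat_lit 3, nat_lit 4, nat_lit 5] (nat_lit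 2) (nat_lit 3) [nat_lit 104, nat_lit 170, nat_lit 98, nat_lit 171, nat_lit 104] [])))) (FT.node (nat_lit 174) (FT.leaf (Fct.mk false (nat_lit 2) (nat_lit 0) (nat_lit 2) [nat_lit 46] (Rl.rel (nat_lit 0) [nat_lit 3, nat_lit 2, nat_lit 8, nat_lit 3, nat_lit 15, nat_lit 14] (nat_lit 2) (nat_lit 3) [nat_lit 101, nat_lit 168, nat_lit 95, nat_lit 168, nat_lit 101] []))) (FT.leaf (Fct.mk false (nat_lit 2) (nat_lit 0) (nat_lit 2) [nat_lit 39] (Rl.cmp (nat_lit 87) (nat_lit 87))))))))) (FT.node (nat_lit 187) (FT.node (nat_lit 181) (FT.node (nat_lit 178) (FT.node (nat_lit 176) (FT.leaf (Fct.mk false (nat_lit 2) (nat_lit 0) (nat_lit 2) [nat_lit 2, nat_lit 8, nat_lit 3, nat_lit 10, nat_lit 8, nat_lit 18] (Rl.cmp (nat_lit 88) (nat_lit 174)))) (FT.node (nat_lit 177) (FT.leaf (Fct.mk false (nat_lit 2) (nat_lit 0) (nat_lit 2) [nat_lit 3, nat_lit 2, nat_lit 8,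 nat_lit 3, nat_lit 0, nat_lit 8, nat_lit 18] (Rl.cmp (nat_lit 87) (nat_lit 173)))) (FT.leaf (Fct.mk false (nat_lit 2) (nat_lit 0) (nat_lit 2) [nat_lit 6, nat_lit 3, nat_lit 2, nat_lit 18] (Rl.cmp (nat_lit 87) (nat_lit 168)))))) (FT.node (nat_lit 179) (FT.leaf (Fct.mk false (nat_lit 2) (nat_lit 0) (nat_lit 2) [nat_lit 7, nat_lit 3, nat_lit 2, nat_lit 8, nat_lit 3] (Rl.cmp (nat_lit 172) (nat_lit 177)))) (FT.node (nat_lit 180) (FT.leaf (Fct.mk false (nat_lit 2) (nat_lit 0) (nat_lit 2) [nat_lit 41] (Rl.cmp (nat_lit 88) (nat_lit 88)))) (FT.leaf (Fct.mk false (nat_lit 2) (nat_lit 0) (nat_lit 2) [nat_lit 8, nat_lit 3, nat_lit 8, nat_lit 10] (Rl.cmp (nat_lit 168) (nat_lit 168))))))) (FT.node (nat_lit 184) (FT.node (nat_lit 182) (FT.leaf (Fct.mk false (nat_lit 2) (nat_lit 0) (nat_lit 2) [nat_lit 8, nat_lit 3, nat_lit 10, nat_lit 18] (Rl.cmp (nat_lit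 86) (nat_lit 180)))) (FT.node (nat_lit 183) (FT.leaf (Fct.mk true (nat_lit 1) (nat_lit 50) (nat_lit 3) [] (Rl.df))) (FT.leaf (Fct.mk true (nat_lit 3) (nat_lit 50) (nat_lit 1) [] (Rl.inv (nat_lit 182)))))) (FT.node (nat_lit 185) (FT.leaf (Fct.mk false (nat_lit 3) (nat_lit 0) (nat_lit 3) [nat_lit 5, nat_lit 3, nat_lit 4, nat_lit 1, nat_lit 2, nat_lit 3, nat_lit 8, nat_lit 0, nat_lit 1, nat_lit 2, nat_lit 3, nat_lit 4, nat_lit 5, nat_lit 0, nat_lit 1, nat_lit 3, nat_lit 2, nat_lit 8, nat_lit 3, nat_lit 15, nat_lit 14] (Rl.rel (nat_lit 0) [nat_lit 3, nat_lit 4, nat_lit 5, nat_lit 2, nat_lit 3, nat_lit 15, nat_lit 14, nat_lit 19] (nat_lit 3) (nat_lit 3) [nat_lit 183, nat_lit 81, nat_lit 11, nat_lit 77, nat_lit 182] []))) (FT.node (nat_lit 186) (FT.leaf (Fct.mk true (nat_lit 3) (nat_lit 49) (nat_lit 1) [nat_lit 5, nat_lit 3, nat_lit 4, nat_lit 1,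 nat_lit 2, nat_lit 3, nat_lit 8, nat_lit 0, nat_lit 1, nat_lit 2, nat_lit 3, nat_lit 4, nat_lit 5, nat_lit 0, nat_lit 1, nat_lit 3, nat_lit 2, nat_lit 8, nat_lit 3, nat_lit 15, nat_lit 14] (Rl.t1 (nat_lit 183) (nat_lit 184)))) (FT.leaf (Fct.mk false (nat_lit 1) (nat_lit 0) (nat_lit 1) [nat_lit 2, nat_lit 12] (Rl.cmp (nat_lit 17) (nat_lit 15)))))))) (FT.node (nat_lit 193) (FT.node (nat_lit 190) (FT.node (nat_lit 188) (FT.leaf (Fct.mk false (nat_lit 1) (nat_lit 0) (nat_lit 1) [nat_lit 3, nat_lit 1, nat_lit 0, nat_lit 2, nat_lit 15, nat_lit 12] (Rl.cmp (nat_lit 23) (nat_lit 186)))) (FT.node (nat_lit 189) (FT.leaf (Fct.mk false (nat_lit 1) (nat_lit 0) (nat_lit 1) [nat_lit 4, nat_lit 5, nat_lit 6, nat_lit 7, nat_lit 6, nat_lit 4, nat_lit 9, nat_lit 16] (Rl.cmp (nat_lit 27) (nat_lit 27)))) (FT.leaf (Fct.mk false (nat_lit 1) (nat_lit 0) (nat_lit 1)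 [nat_lit 5, nat_lit 6, nat_lit 7, nat_lit 6, nat_lit 4, nat_lit 9] (Rl.cmp (nat_lit 17) (nat_lit 188)))))) (FT.node (nat_lit 191) (FT.leaf (Fct.mk false (nat_lit 1) (nat_lit 0) (nat_lit 1) [nat_lit 6, nat_lit 7, nat_lit 6, nat_lit 3, nat_lit 9] (Rl.cmp (nat_lit 21) (nat_lit 189)))) (FT.node (nat_lit 192) (FT.leaf (Fct.mk true (nat_lit 3) (nat_lit 277) (nat_lit 3) [nat_lit 3, nat_lit 9] (Rl.rel (nat_lit 0) [nat_lit 8, nat_lit 3, nat_lit 4, nat_lit 5, nat_lit 6, nat_lit 7, nat_lit 8, nat_lit 3, nat_lit 4, nat_lit 5, nat_lit 2, nat_lit 3, nat_lit 15, nat_lit 14, nat_lit 19] (nat_lit 3) (nat_lit 2) [nat_lit 184, nat_lit 185, nat_lit 190, nat_lit 182] []))) (FT.leaf (Fct.mk false (nat_lit 1) (nat_lit 0) (nat_lit 1) [nat_lit 3, nat_lit 0, nat_lit 15] (Rl.cmp (nat_lit 15) (nat_lit 163))))))) (FT.node (nat_lit 196) (FT.node (nat_lit 194) (FT.leaf (Fct.mk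 false (nat_lit 1) (nat_lit 0) (nat_lit 1) [nat_lit 3, nat_lit 4, nat_lit 5, nat_lit 6, nat_lit 7, nat_lit 6, nat_lit 4, nat_lit 9, nat_lit 16] (Rl.cmp (nat_lit 27) (nat_lit 25)))) (FT.node (nat_lit 195) (FT.leaf (Fct.mk false (nat_lit 1) (nat_lit 0) (nat_lit 1) [nat_lit 4, nat_lit 5, nat_lit 6, nat_lit 7, nat_lit 6, nat_lit 4, nat_lit 9] (Rl.cmp (nat_lit 17) (nat_lit 193)))) (FT.leaf (Fct.mk false (nat_lit 3) (nat_lit 0) (nat_lit 3) [nat_lit 3, nat_lit 4, nat_lit 5, nat_lit 4] (Rl.rel (nat_lit 0) [nat_lit 8, nat_lit 3, nat_lit 4, nat_lit 5, nat_lit 6, nat_lit 7, nat_lit 8, nat_lit 2, nat_lit 3, nat_lit 4, nat_lit 5, nat_lit 2, nat_lit 3, nat_lit 15, nat_lit 14, nat_lit 19] (nat_lit 3) (nat_lit 3) [nat_lit 184, nat_lit 185, nat_lit 194, nat_lit 182, nat_lit 191] []))))) (FT.node (nat_lit 198) (FT.node (nat_lit 197) (FT.leaf (Fct.mk false (nat_lit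 1) (nat_lit 0) (nat_lit 1) [nat_lit 3, nat_lit 4, nat_lit 5, nat_lit 4, nat_lit 10] (Rl.cmp (nat_lit 21) (nat_lit 17)))) (FT.leaf (Fct.mk false (nat_lit 1) (nat_lit 0) (nat_lit 1) [nat_lit 2, nat_lit 3, nat_lit 4, nat_lit 5, nat_lit 4, nat_lit 10, nat_lit 0, nat_lit 12, nat_lit 15] (Rl.cmp (nat_lit 23) (nat_lit 196))))) (FT.node (nat_lit 199) (FT.leaf (Fct.mk false (nat_lit 1) (nat_lit 0) (nat_lit 1) [nat_lit 6, nat_lit 4, nat_lit 9] (Rl.cmp (nat_lit 13) (nat_lit 25)))) (FT.leaf (Fct.mk false (nat_lit 1) (nat_lit 0) (nat_lit 1) [nat_lit 3, nat_lit 4, nat_lit 5, nat_lit 6, nat_lit 7, nat_lit 6, nat_lit 4, nat_lit 9] (Rl.cmp (nat_lit 27) (nat_lit 198)))))))))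

/-- some facts -/
noncomputable def ftc4 : FT := FT.node (nat_lit 225) (FT.node (nat_lit 212) (FT.node (nat_lit 206) (FT.node (nat_lit 203) (FT.node (nat_lit 201) (FT.leaf (Fct.mk false (nat_lit 3) (nat_lit 0) (nat_lit 3) [nat_lit 3, nat_lit 4, nat_lit 5, nat_lit 3, nat_lit 10] (Rl.rel (nat_lit 0) [nat_lit 8, nat_lit 3, nat_lit 4, nat_lit 5, nat_lit 6, nat_lit 7, nat_lit 8, nat_lit 2, nat_lit 3, nat_lit 4, nat_lit 5, nat_lit 1, nat_lit 2, nat_lit 3, nat_lit 15, nat_lit 14, nat_lit 19] (nat_lit 3) (nat_lit 3) [nat_lit 184, nat_lit 185, nat_lit 199, nat_lit 182, nat_lit 191] []))) (FT.node (nat_lit 202) (FT.leaf (Fct.mk false (nat_lit 3) (nat_lit 0) (nat_lit 3) [nat_lit 5, nat_lit 4, nat_lit 1, nat_lit 2, nat_lit 3, nat_lit 8, nat_lit 0, nat_lit 1, nat_lit 2, nat_lit 3, nat_lit 4, nat_lit 5, nat_lit 0, nat_lit 1, nat_lit 3, nat_lit 2, nat_lit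 8, nat_lit 3, nat_lit 0, nat_lit 15, nat_lit 14] (Rl.cmp (nat_lit 195) (nat_lit 184)))) (FT.leaf (Fct.mk false (nat_lit 1) (nat_lit 0) (nat_lit 1) [nat_lit 1, nat_lit 14] (Rl.cmp (nat_lit 13) (nat_lit 19)))))) (FT.node (nat_lit 204) (FT.leaf (Fct.mk false (nat_lit 1) (nat_lit 0) (nat_lit 1) [nat_lit 3, nat_lit 4, nat_lit 5, nat_lit 6, nat_lit 7, nat_lit 1, nat_lit 14] (Rl.cmp (nat_lit 27) (nat_lit 202)))) (FT.node (nat_lit 205) (FT.leaf (Fct.mk false (nat_lit 1) (nat_lit 0) (nat_lit 1) [nat_lit 2, nat_lit 3, nat_lit 4, nat_lit 5, nat_lit 6, nat_lit 7, nat_lit 2, nat_lit 15, nat_lit 14] (Rl.cmp (nat_lit 23) (nat_lit 203)))) (FT.leaf (Fct.mk false (nat_lit 3) (nat_lit 0) (nat_lit 3) [nat_lit 2, nat_lit 3, nat_lit 4, nat_lit 5, nat_lit 3, nat_lit 10] (Rl.cmp (nat_lit 184) (nat_lit 201))))))) (FT.node (nat_lit 209) (FT.node (nat_lit 207) (FT.leaf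 (Fct.mk false (nat_lit 3) (nat_lit 0) (nat_lit 3) [nat_lit 6, nat_lit 4, nat_lit 11, nat_lit 2, nat_lit 15, nat_lit 14, nat_lit 13] (Rl.rel (nat_lit 0) [nat_lit 8, nat_lit 3, nat_lit 4, nat_lit 5, nat_lit 6, nat_lit 7, nat_lit 8, nat_lit 2, nat_lit 3, nat_lit 4, nat_lit 5, nat_lit 1, nat_lit 2, nat_lit 3, nat_lit 0, nat_lit 15, nat_lit 14, nat_lit 19] (nat_lit 3) (nat_lit 2) [nat_lit 184, nat_lit 185, nat_lit 204, nat_lit 182] [nat_lit 205, nat_lit 191]))) (FT.node (nat_lit 208) (FT.leaf (Fct.mk false (nat_lit 3) (nat_lit 0) (nat_lit 3) [nat_lit 6, nat_lit 4, nat_lit 5, nat_lit 3, nat_lit 4, nat_lit 2, nat_lit 3, nat_lit 8, nat_lit 0, nat_lit 1, nat_lit 2, nat_lit 3, nat_lit 4, nat_lit 5, nat_lit 0, nat_lit 1, nat_lit 2, nat_lit 3, nat_lit 9, nat_lit 15, nat_lit 14] (Rl.cmp (nat_lit 206) (nat_lit 184)))) (FT.leaf (Fct.mk true (nat_lit 3) (nat_lit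 0) (nat_lit 1) [nat_lit 6, nat_lit 4, nat_lit 5, nat_lit 3, nat_lit 4, nat_lit 2, nat_lit 3, nat_lit 8, nat_lit 1, nat_lit 2, nat_lit 3, nat_lit 4, nat_lit 5, nat_lit 0, nat_lit 1, nat_lit 2, nat_lit 3, nat_lit 11, nat_lit 2, nat_lit 16, nat_lit 12, nat_lit 15, nat_lit 14, nat_lit 13, nat_lit 19] (Rl.t1 (nat_lit 185) (nat_lit 207)))))) (FT.node (nat_lit 210) (FT.leaf (Fct.mk false (nat_lit 3) (nat_lit 0) (nat_lit 3) [nat_lit 1, nat_lit 2, nat_lit 3, nat_lit 8, nat_lit 0, nat_lit 1, nat_lit 2, nat_lit 3, nat_lit 4, nat_lit 5, nat_lit 0, nat_lit 1, nat_lit 4, nat_lit 3, nat_lit 2, nat_lit 8, nat_lit 3, nat_lit 0, nat_lit 15, nat_lit 14] (Rl.cmp (nat_lit 200) (nat_lit 184)))) (FT.node (nat_lit 211) (FT.leaf (Fct.mk false (nat_lit 3) (nat_lit 0) (nat_lit 3) [nat_lit 4, nat_lit 3, nat_lit 8, nat_lit 2, nat_lit 3, nat_lit 4, nat_lit 5, nat_lit 1,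 nat_lit 9, nat_lit 4, nat_lit 3, nat_lit 2, nat_lit 8, nat_lit 3, nat_lit 11, nat_lit 2, nat_lit 15, nat_lit 14, nat_lit 13] (Rl.cmp (nat_lit 206) (nat_lit 209)))) (FT.leaf (Fct.mk false (nat_lit 3) (nat_lit 0) (nat_lit 3) [nat_lit 4, nat_lit 3, nat_lit 8, nat_lit 2, nat_lit 3, nat_lit 4, nat_lit 5, nat_lit 1, nat_lit 9, nat_lit 4, nat_lit 3, nat_lit 2, nat_lit 8, nat_lit 3, nat_lit 10, nat_lit 0, nat_lit 15, nat_lit 14] (Rl.cmp (nat_lit 195) (nat_lit 210)))))))) (FT.node (nat_lit 218) (FT.node (nat_lit 215) (FT.node (nat_lit 213) (FT.leaf (Fct.mk false (nat_lit 3) (nat_lit 0) (nat_lit 3) [nat_lit 4, nat_lit 3, nat_lit 8, nat_lit 2, nat_lit 3, nat_lit 4, nat_lit 5, nat_lit 1, nat_lit 9, nat_lit 4, nat_lit 3, nat_lit 2, nat_lit 8, nat_lit 3, nat_lit 11, nat_lit 10, nat_lit 15, nat_lit 14, nat_lit 13, nat_lit 19] (Rl.cmp (nat_lit 184) (nat_lit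 211)))) (FT.node (nat_lit 214) (FT.leaf (Fct.mk false (nat_lit 3) (nat_lit 0) (nat_lit 3) [nat_lit 5, nat_lit 4, nat_lit 1, nat_lit 2, nat_lit 3, nat_lit 8, nat_lit 0, nat_lit 1, nat_lit 2, nat_lit 3, nat_lit 4, nat_lit 5, nat_lit 1, nat_lit 3, nat_lit 2, nat_lit 8, nat_lit 3, nat_lit 11, nat_lit 10, nat_lit 12, nat_lit 15, nat_lit 14, nat_lit 13, nat_lit 19] (Rl.cmp (nat_lit 206) (nat_lit 212)))) (FT.leaf (Fct.mk false (nat_lit 1) (nat_lit 0) (nat_lit 1) [nat_lit 6, nat_lit 4, nat_lit 10, nat_lit 9, nat_lit 2, nat_lit 16] (Rl.cmp (nat_lit 15) (nat_lit 25)))))) (FT.node (nat_lit 216) (FT.leaf (Fct.mk false (nat_lit 3) (nat_lit 0) (nat_lit 3) [nat_lit 5, nat_lit 4, nat_lit 1, nat_lit 2, nat_lit 3, nat_lit 8, nat_lit 0, nat_lit 1, nat_lit 2, nat_lit 3, nat_lit 4, nat_lit 5, nat_lit 0, nat_lit 1, nat_lit 3, nat_lit 2, nat_lit 8, nat_lit 3, nat_lit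 0, nat_lit 15, nat_lit 14] (Rl.cmp (nat_lit 195) (nat_lit 184)))) (FT.node (nat_lit 217) (FT.leaf (Fct.mk false (nat_lit 3) (nat_lit 0) (nat_lit 3) [nat_lit 2, nat_lit 3, nat_lit 4, nat_lit 5, nat_lit 3, nat_lit 10] (Rl.cmp (nat_lit 184) (nat_lit 215)))) (FT.leaf (Fct.mk false (nat_lit 3) (nat_lit 0) (nat_lit 3) [nat_lit 2, nat_lit 3, nat_lit 4, nat_lit 5, nat_lit 4, nat_lit 2] (Rl.cmp (nat_lit 195) (nat_lit 216))))))) (FT.node (nat_lit 221) (FT.node (nat_lit 219) (FT.leaf (Fct.mk false (nat_lit 3) (nat_lit 0) (nat_lit 3) [nat_lit 5, nat_lit 4, nat_lit 1, nat_lit 2, nat_lit 3, nat_lit 8, nat_lit 0, nat_lit 1, nat_lit 2, nat_lit 3, nat_lit 4, nat_lit 5, nat_lit 1, nat_lit 3, nat_lit 2, nat_lit 8, nat_lit 3, nat_lit 15, nat_lit 14] (Rl.cmp (nat_lit 184) (nat_lit 217)))) (FT.node (nat_lit 220) (FT.leaf (Fct.mk false (nat_lit 1) (nat_lit 0) (nat_lit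 1) [nat_lit 2, nat_lit 3, nat_lit 4, nat_lit 5, nat_lit 6, nat_lit 7, nat_lit 1, nat_lit 14] (Rl.cmp (nat_lit 19) (nat_lit 27)))) (FT.leaf (Fct.mk false (nat_lit 3) (nat_lit 0) (nat_lit 3) [nat_lit 6, nat_lit 4, nat_lit 5, nat_lit 3, nat_lit 4, nat_lit 2, nat_lit 3, nat_lit 8, nat_lit 0, nat_lit 1, nat_lit 2, nat_lit 3, nat_lit 4, nat_lit 5, nat_lit 0, nat_lit 1, nat_lit 2, nat_lit 3, nat_lit 9, nat_lit 15, nat_lit 14] (Rl.cmp (nat_lit 206) (nat_lit 184)))))) (FT.node (nat_lit 223) (FT.node (nat_lit 222) (FT.leaf (Fct.mk false (nat_lit 3) (nat_lit 0) (nat_lit 3) [nat_lit 6, nat_lit 4, nat_lit 5, nat_lit 3, nat_lit 4, nat_lit 2, nat_lit 3, nat_lit 8, nat_lit 0, nat_lit 1, nat_lit 2, nat_lit 3, nat_lit 4, nat_lit 5, nat_lit 0, nat_lit 1, nat_lit 2, nat_lit 3, nat_lit 10, nat_lit 15, nat_lit 14] (Rl.cmp (nat_lit 195) (nat_lit 220)))) (FT.leaf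 (Fct.mk false (nat_lit 3) (nat_lit 0) (nat_lit 3) [nat_lit 6, nat_lit 4, nat_lit 5, nat_lit 3, nat_lit 4, nat_lit 2, nat_lit 3, nat_lit 8, nat_lit 0, nat_lit 1, nat_lit 2, nat_lit 3, nat_lit 4, nat_lit 5, nat_lit 0, nat_lit 1, nat_lit 2, nat_lit 3, nat_lit 10, nat_lit 9, nat_lit 2, nat_lit 15, nat_lit 14, nat_lit 19] (Rl.cmp (nat_lit 184) (nat_lit 221))))) (FT.node (nat_lit 224) (FT.leaf (Fct.mk false (nat_lit 3) (nat_lit 0) (nat_lit 3) [nat_lit 6, nat_lit 4, nat_lit 5, nat_lit 3, nat_lit 4, nat_lit 2, nat_lit 3, nat_lit 8, nat_lit 0, nat_lit 1, nat_lit 2, nat_lit 3, nat_lit 4, nat_lit 5, nat_lit 0, nat_lit 1, nat_lit 2, nat_lit 3, nat_lit 9, nat_lit 2, nat_lit 12, nat_lit 15, nat_lit 14, nat_lit 19] (Rl.cmp (nat_lit 195) (nat_lit 222)))) (FT.leaf (Fct.mk false (nat_lit 3) (nat_lit 0) (nat_lit 3) [nat_lit 6, nat_lit 4, nat_lit 5, nat_lit 3,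 nat_lit 4, nat_lit 2, nat_lit 3, nat_lit 8, nat_lit 0, nat_lit 1, nat_lit 2, nat_lit 3, nat_lit 4, nat_lit 5, nat_lit 0, nat_lit 1, nat_lit 2, nat_lit 3, nat_lit 2, nat_lit 15, nat_lit 14, nat_lit 19] (Rl.cmp (nat_lit 195) (nat_lit 223))))))))) (FT.node (nat_lit 237) (FT.node (nat_lit 231) (FT.node (nat_lit 228) (FT.node (nat_lit 226) (FT.leaf (Fct.mk false (nat_lit 3) (nat_lit 0) (nat_lit 3) [nat_lit 1, nat_lit 2, nat_lit 3, nat_lit 8, nat_lit 0, nat_lit 1, nat_lit 2, nat_lit 3, nat_lit 4, nat_lit 5, nat_lit 0, nat_lit 1, nat_lit 4, nat_lit 3, nat_lit 2, nat_lit 8, nat_lit 3, nat_lit 15, nat_lit 14] (Rl.cmp (nat_lit 195) (nat_lit 215)))) (FT.node (nat_lit 227) (FT.leaf (Fct.mk false (nat_lit 3) (nat_lit 0) (nat_lit 3) [nat_lit 5, nat_lit 2, nat_lit 3, nat_lit 4, nat_lit 1, nat_lit 2, nat_lit 3, nat_lit 8, nat_lit 0, nat_lit 1, nat_lit 2, nat_lit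 3, nat_lit 4, nat_lit 5, nat_lit 0, nat_lit 1, nat_lit 3, nat_lit 2, nat_lit 8, nat_lit 3, nat_lit 0, nat_lit 15, nat_lit 14, nat_lit 19] (Rl.cmp (nat_lit 206) (nat_lit 224)))) (FT.leaf (Fct.mk false (nat_lit 1) (nat_lit 0) (nat_lit 1) [nat_lit 4, nat_lit 12] (Rl.cmp (nat_lit 15) (nat_lit 17)))))) (FT.node (nat_lit 229) (FT.leaf (Fct.mk false (nat_lit 1) (nat_lit 0) (nat_lit 1) [nat_lit 2, nat_lit 3, nat_lit 4, nat_lit 5, nat_lit 6, nat_lit 7, nat_lit 2] (Rl.cmp (nat_lit 15) (nat_lit 27)))) (FT.node (nat_lit 230) (FT.leaf (Fct.mk false (nat_lit 3) (nat_lit 0) (nat_lit 3) [nat_lit 4, nat_lit 3, nat_lit 8, nat_lit 2, nat_lit 3, nat_lit 4, nat_lit 5, nat_lit 1, nat_lit 9, nat_lit 4, nat_lit 3, nat_lit 2, nat_lit 8, nat_lit 3, nat_lit 9, nat_lit 15, nat_lit 14] (Rl.cmp (nat_lit 206) (nat_lit 225)))) (FT.leaf (Fct.mk false (nat_lit 3) (nat_lit 0)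 (nat_lit 3) [nat_lit 4, nat_lit 3, nat_lit 8, nat_lit 2, nat_lit 3, nat_lit 4, nat_lit 5, nat_lit 1, nat_lit 9, nat_lit 4, nat_lit 3, nat_lit 2, nat_lit 8, nat_lit 3, nat_lit 10, nat_lit 15, nat_lit 14] (Rl.cmp (nat_lit 195) (nat_lit 229))))))) (FT.node (nat_lit 234) (FT.node (nat_lit 232) (FT.leaf (Fct.mk false (nat_lit 3) (nat_lit 0) (nat_lit 3) [nat_lit 1, nat_lit 2, nat_lit 3, nat_lit 8, nat_lit 0, nat_lit 1, nat_lit 2, nat_lit 3, nat_lit 4, nat_lit 5, nat_lit 4, nat_lit 3, nat_lit 2, nat_lit 8, nat_lit 3, nat_lit 11, nat_lit 10, nat_lit 12, nat_lit 15, nat_lit 14, nat_lit 13, nat_lit 19] (Rl.cmp (nat_lit 195) (nat_lit 213)))) (FT.node (nat_lit 233) (FT.leaf (Fct.mk true (nat_lit 1) (nat_lit 54) (nat_lit 4) [] (Rl.df))) (FT.leaf (Fct.mk true (nat_lit 4) (nat_lit 54) (nat_lit 1) [] (Rl.inv (nat_lit 232)))))) (FT.node (nat_lit 235) (FT.leaf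 (Fct.mk false (nat_lit 4) (nat_lit 0) (nat_lit 4) [nat_lit 55] (Rl.rel (nat_lit 0) [nat_lit 3, nat_lit 4, nat_lit 2, nat_lit 3, nat_lit 8, nat_lit 1, nat_lit 2, nat_lit 3, nat_lit 4, nat_lit 5, nat_lit 3, nat_lit 10, nat_lit 8] (nat_lit 4) (nat_lit 3) [nat_lit 233, nat_lit 30, nat_lit 11, nat_lit 21, nat_lit 232] []))) (FT.node (nat_lit 236) (FT.leaf (Fct.mk true (nat_lit 4) (nat_lit 8) (nat_lit 1) [nat_lit 55] (Rl.t1 (nat_lit 233) (nat_lit 234)))) (FT.leaf (Fct.mk true (nat_lit 2) (nat_lit 55) (nat_lit 4) [nat_lit 5, nat_lit 4, nat_lit 3, nat_lit 8, nat_lit 1, nat_lit 2, nat_lit 3, nat_lit 4, nat_lit 5, nat_lit 3, nat_lit 10, nat_lit 2, nat_lit 8, nat_lit 10, nat_lit 1] (Rl.rel (nat_lit 0) [nat_lit 3, nat_lit 4, nat_lit 2, nat_lit 3, nat_lit 8, nat_lit 1, nat_lit 2, nat_lit 3, nat_lit 4, nat_lit 5, nat_lit 2, nat_lit 3, nat_lit 10, nat_lit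 8] (nat_lit 4) (nat_lit 2) [nat_lit 234, nat_lit 235, nat_lit 34, nat_lit 82] []))))))) (FT.node (nat_lit 243) (FT.node (nat_lit 240) (FT.node (nat_lit 238) (FT.leaf (Fct.mk true (nat_lit 2) (nat_lit 16) (nat_lit 4) [nat_lit 5, nat_lit 3, nat_lit 4, nat_lit 2, nat_lit 3, nat_lit 8, nat_lit 1, nat_lit 2, nat_lit 3, nat_lit 4, nat_lit 5, nat_lit 8, nat_lit 10, nat_lit 1, nat_lit 8] (Rl.t1 (nat_lit 236) (nat_lit 179)))) (FT.node (nat_lit 239) (FT.leaf (Fct.mk true (nat_lit 4) (nat_lit 33) (nat_lit 2) [nat_lit 5, nat_lit 4, nat_lit 3, nat_lit 8, nat_lit 1, nat_lit 2, nat_lit 3, nat_lit 4, nat_lit 5, nat_lit 1, nat_lit 2, nat_lit 3, nat_lit 2, nat_lit 10, nat_lit 1, nat_lit 14, nat_lit 12] (Rl.inv (nat_lit 237)))) (FT.leaf (Fct.mk false (nat_lit 4) (nat_lit 0) (nat_lit 4) [nat_lit 22] (Rl.rel (nat_lit 0) [nat_lit 3, nat_lit 4, nat_lit 2, nat_lit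 3, nat_lit 8, nat_lit 1, nat_lit 2, nat_lit 3, nat_lit 4, nat_lit 5, nat_lit 10, nat_lit 8, nat_lit 18] (nat_lit 4) (nat_lit 3) [nat_lit 234, nat_lit 235, nat_lit 33, nat_lit 82, nat_lit 179, nat_lit 237] []))))) (FT.node (nat_lit 241) (FT.leaf (Fct.mk false (nat_lit 4) (nat_lit 0) (nat_lit 4) [nat_lit 1] (Rl.rel (nat_lit 0) [nat_lit 3, nat_lit 4, nat_lit 2, nat_lit 3, nat_lit 8, nat_lit 1, nat_lit 2, nat_lit 3, nat_lit 4, nat_lit 5, nat_lit 2, nat_lit 3, nat_lit 10, nat_lit 1, nat_lit 8] (nat_lit 4) (nat_lit 3) [nat_lit 234, nat_lit 235, nat_lit 41, nat_lit 82, nat_lit 179, nat_lit 237] []))) (FT.node (nat_lit 242) (FT.leaf (Fct.mk false (nat_lit 4) (nat_lit 0) (nat_lit 4) [nat_lit 10] (Rl.rel (nat_lit 0) [nat_lit 3, nat_lit 4, nat_lit 2, nat_lit 3, nat_lit 8, nat_lit 1, nat_lit 2, nat_lit 3, nat_lit 4, nat_lit 5, nat_lit 2, nat_lit 8, nat_lit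 3, nat_lit 8, nat_lit 10, nat_lit 8] (nat_lit 4) (nat_lit 3) [nat_lit 234, nat_lit 235, nat_lit 21, nat_lit 82, nat_lit 179, nat_lit 237] []))) (FT.leaf (Fct.mk false (nat_lit 1) (nat_lit 0) (nat_lit 1) [nat_lit 5, nat_lit 10, nat_lit 1, nat_lit 14] (Rl.cmp (nat_lit 21) (nat_lit 39))))))) (FT.node (nat_lit 246) (FT.node (nat_lit 244) (FT.leaf (Fct.mk false (nat_lit 4) (nat_lit 0) (nat_lit 4) [nat_lit 56] (Rl.rel (nat_lit 0) [nat_lit 3, nat_lit 8, nat_lit 4, nat_lit 5, nat_lit 3, nat_lit 4, nat_lit 2, nat_lit 3, nat_lit 8, nat_lit 1, nat_lit 2, nat_lit 3, nat_lit 4, nat_lit 5, nat_lit 3, nat_lit 8] (nat_lit 4) (nat_lit 3) [nat_lit 234, nat_lit 235, nat_lit 242, nat_lit 82, nat_lit 175, nat_lit 237] []))) (FT.node (nat_lit 245) (FT.leaf (Fct.mk true (nat_lit 4) (nat_lit 55) (nat_lit 4) [nat_lit 23] (Rl.rel (nat_lit 0) [nat_lit 3, nat_lit 4, nat_lit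 2, nat_lit 3, nat_lit 8, nat_lit 1, nat_lit 2, nat_lit 3, nat_lit 4, nat_lit 5, nat_lit 1, nat_lit 2, nat_lit 3, nat_lit 10, nat_lit 1, nat_lit 8, nat_lit 18] (nat_lit 4) (nat_lit 2) [nat_lit 234, nat_lit 235, nat_lit 21, nat_lit 232] []))) (FT.leaf (Fct.mk true (nat_lit 4) (nat_lit 1) (nat_lit 4) [nat_lit 8, nat_lit 3, nat_lit 4, nat_lit 2, nat_lit 3, nat_lit 8, nat_lit 1, nat_lit 2, nat_lit 3, nat_lit 4, nat_lit 5, nat_lit 4, nat_lit 3, nat_lit 2, nat_lit 8, nat_lit 3, nat_lit 10, nat_lit 1, nat_lit 8, nat_lit 18] (Rl.t1 (nat_lit 244) (nat_lit 234)))))) (FT.node (nat_lit 248) (FT.node (nat_lit 247) (FT.leaf (Fct.mk false (nat_lit 1) (nat_lit 0) (nat_lit 1) [nat_lit 5, nat_lit 4, nat_lit 9] (Rl.cmp (nat_lit 17) (nat_lit 70)))) (FT.leaf (Fct.mk false (nat_lit 1) (nat_lit 0) (nat_lit 1) [nat_lit 3, nat_lit 9] (Rl.cmp (nat_lit 21) (nat_lit 246)))))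 (FT.node (nat_lit 249) (FT.leaf (Fct.mk true (nat_lit 4) (nat_lit 631) (nat_lit 4) [nat_lit 3] (Rl.rel (nat_lit 0) [nat_lit 3, nat_lit 8, nat_lit 4, nat_lit 5, nat_lit 3, nat_lit 4, nat_lit 2, nat_lit 3, nat_lit 8, nat_lit 1, nat_lit 2, nat_lit 3, nat_lit 4, nat_lit 5, nat_lit 3, nat_lit 16, nat_lit 8] (nat_lit 4) (nat_lit 2) [nat_lit 234, nat_lit 235, nat_lit 247, nat_lit 232] []))) (FT.leaf (Fct.mk false (nat_lit 1) (nat_lit 0) (nat_lit 1) [nat_lit 3, nat_lit 4, nat_lit 5, nat_lit 10, nat_lit 1, nat_lit 14] (Rl.cmp (nat_lit 21) (nat_lit 105)))))))))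

/-- some facts -/
noncomputable def ftc5 : FT := FT.node (nat_lit 275) (FT.node (nat_lit 262) (FT.node (nat_lit 256) (FT.node (nat_lit 253) (FT.node (nat_lit 251) (FT.leaf (Fct.mk true (nat_lit 4) (nat_lit 497) (nat_lit 4) [nat_lit 1, nat_lit 3, nat_lit 2, nat_lit 0, nat_lit 1, nat_lit 4, nat_lit 3, nat_lit 2, nat_lit 8, nat_lit 3, nat_lit 1, nat_lit 0, nat_lit 2, nat_lit 8, nat_lit 12, nat_lit 15, nat_lit 14] (Rl.rel (nat_lit 0) [nat_lit 3, nat_lit 8, nat_lit 2, nat_lit 3, nat_lit 4, nat_lit 1, nat_lit 2, nat_lit 3, nat_lit 8, nat_lit 0, nat_lit 1, nat_lit 2, nat_lit 3, nat_lit 4, nat_lit 5, nat_lit 0, nat_lit 1, nat_lit 2, nat_lit 3, nat_lit 10, nat_lit 8] (nat_lit 4) (nat_lit 2) [nat_lit 234, nat_lit 235, nat_lit 114, nat_lit 232] []))) (FT.node (nat_lit 252) (FT.leaf (Fct.mk true (nat_lit 4) (nat_lit 46) (nat_lit 4) [nat_lit 8, nat_lit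 3, nat_lit 4, nat_lit 2, nat_lit 3, nat_lit 8, nat_lit 1, nat_lit 2, nat_lit 3, nat_lit 4, nat_lit 5, nat_lit 8, nat_lit 3, nat_lit 2, nat_lit 0, nat_lit 1, nat_lit 4, nat_lit 3, nat_lit 2, nat_lit 8, nat_lit 3, nat_lit 10, nat_lit 1, nat_lit 8, nat_lit 12, nat_lit 15, nat_lit 14, nat_lit 12, nat_lit 18] (Rl.t1 (nat_lit 250) (nat_lit 234)))) (FT.leaf (Fct.mk false (nat_lit 1) (nat_lit 0) (nat_lit 1) [nat_lit 2, nat_lit 3, nat_lit 4, nat_lit 5, nat_lit 2, nat_lit 3, nat_lit 0, nat_lit 2, nat_lit 15] (Rl.cmp (nat_lit 17) (nat_lit 58)))))) (FT.node (nat_lit 254) (FT.leaf (Fct.mk false (nat_lit 1) (nat_lit 0) (nat_lit 1) [nat_lit 2, nat_lit 3, nat_lit 2, nat_lit 15, nat_lit 14] (Rl.cmp (nat_lit 23) (nat_lit 19)))) (FT.node (nat_lit 255) (FT.leaf (Fct.mk true (nat_lit 3) (nat_lit 610) (nat_lit 4) [nat_lit 6, nat_lit 5, nat_lit 2, nat_lit 3, nat_lit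 4, nat_lit 1, nat_lit 2, nat_lit 3, nat_lit 8, nat_lit 0, nat_lit 1, nat_lit 2, nat_lit 3, nat_lit 4, nat_lit 5, nat_lit 8, nat_lit 3, nat_lit 11, nat_lit 8, nat_lit 10, nat_lit 16, nat_lit 14, nat_lit 17, nat_lit 19, nat_lit 16] (Rl.rel (nat_lit 0) [nat_lit 4, nat_lit 5, nat_lit 2, nat_lit 3, nat_lit 4, nat_lit 1, nat_lit 2, nat_lit 3, nat_lit 8, nat_lit 0, nat_lit 1, nat_lit 2, nat_lit 3, nat_lit 4, nat_lit 5, nat_lit 2, nat_lit 1, nat_lit 8, nat_lit 3, nat_lit 2, nat_lit 0, nat_lit 1, nat_lit 4, nat_lit 3, nat_lit 2, nat_lit 8, nat_lit 3, nat_lit 10, nat_lit 8, nat_lit 12, nat_lit 15, nat_lit 14, nat_lit 16, nat_lit 8, nat_lit 19] (nat_lit 4) (nat_lit 2) [nat_lit 234, nat_lit 235, nat_lit 253, nat_lit 182] []))) (FT.leaf (Fct.mk true (nat_lit 3) (nat_lit 4) (nat_lit 4) [nat_lit 5, nat_lit 6, nat_lit 3, nat_lit 4, nat_lit 5, nat_lit 2, nat_lit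 3, nat_lit 4, nat_lit 1, nat_lit 2, nat_lit 3, nat_lit 8, nat_lit 0, nat_lit 1, nat_lit 2, nat_lit 3, nat_lit 4, nat_lit 5, nat_lit 8, nat_lit 3, nat_lit 11, nat_lit 2, nat_lit 14, nat_lit 17, nat_lit 12, nat_lit 19] (Rl.t1 (nat_lit 254) (nat_lit 218))))))) (FT.node (nat_lit 259) (FT.node (nat_lit 257) (FT.leaf (Fct.mk true (nat_lit 4) (nat_lit 762) (nat_lit 3) [nat_lit 5, nat_lit 4, nat_lit 3, nat_lit 8, nat_lit 2, nat_lit 3, nat_lit 4, nat_lit 5, nat_lit 1, nat_lit 2, nat_lit 3, nat_lit 11, nat_lit 2, nat_lit 10, nat_lit 1, nat_lit 12, nat_lit 15, nat_lit 13, nat_lit 12, nat_lit 16] (Rl.inv (nat_lit 255)))) (FT.node (nat_lit 258) (FT.leaf (Fct.mk false (nat_lit 1) (nat_lit 0) (nat_lit 1) [nat_lit 2, nat_lit 3, nat_lit 1, nat_lit 0, nat_lit 2, nat_lit 15] (Rl.cmp (nat_lit 23) (nat_lit 15)))) (FT.leaf (Fct.mk false (nat_lit 1) (nat_lit 0) (nat_lit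 1) [nat_lit 2, nat_lit 3, nat_lit 1, nat_lit 0, nat_lit 2, nat_lit 12, nat_lit 15, nat_lit 12] (Rl.cmp (nat_lit 17) (nat_lit 257)))))) (FT.node (nat_lit 260) (FT.leaf (Fct.mk false (nat_lit 1) (nat_lit 0) (nat_lit 1) [nat_lit 5, nat_lit 6, nat_lit 7, nat_lit 4] (Rl.cmp (nat_lit 17) (nat_lit 78)))) (FT.node (nat_lit 261) (FT.leaf (Fct.mk false (nat_lit 1) (nat_lit 0) (nat_lit 1) [nat_lit 6, nat_lit 7, nat_lit 3] (Rl.cmp (nat_lit 21) (nat_lit 259)))) (FT.leaf (Fct.mk false (nat_lit 1) (nat_lit 0) (nat_lit 1) [nat_lit 7, nat_lit 6, nat_lit 9, nat_lit 16] (Rl.cmp (nat_lit 27) (nat_lit 260)))))))) (FT.node (nat_lit 268) (FT.node (nat_lit 265) (FT.node (nat_lit 263) (FT.leaf (Fct.mk false (nat_lit 1) (nat_lit 0) (nat_lit 1) [nat_lit 7, nat_lit 6, nat_lit 3, nat_lit 9, nat_lit 2, nat_lit 16] (Rl.cmp (nat_lit 15) (nat_lit 261)))) (FT.node (nat_lit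 264) (FT.leaf (Fct.mk false (nat_lit 4) (nat_lit 0) (nat_lit 4) [nat_lit 7] (Rl.rel (nat_lit 0) [nat_lit 8, nat_lit 3, nat_lit 4, nat_lit 5, nat_lit 6, nat_lit 7, nat_lit 8, nat_lit 2, nat_lit 3, nat_lit 4, nat_lit 1, nat_lit 2, nat_lit 3, nat_lit 8, nat_lit 0, nat_lit 1, nat_lit 2, nat_lit 3, nat_lit 4, nat_lit 5, nat_lit 3, nat_lit 10, nat_lit 8] (nat_lit 4) (nat_lit 3) [nat_lit 234, nat_lit 235, nat_lit 262, nat_lit 182, nat_lit 230, nat_lit 255] []))) (FT.leaf (Fct.mk false (nat_lit 4) (nat_lit 0) (nat_lit 4) [nat_lit 1, nat_lit 2, nat_lit 3, nat_lit 4, nat_lit 5, nat_lit 2, nat_lit 3, nat_lit 12] (Rl.cmp (nat_lit 243) (nat_lit 234)))))) (FT.node (nat_lit 266) (FT.leaf (Fct.mk false (nat_lit 4) (nat_lit 0) (nat_lit 4) [nat_lit 2, nat_lit 3, nat_lit 8, nat_lit 4, nat_lit 5, nat_lit 3, nat_lit 4, nat_lit 2, nat_lit 3, nat_lit 8, nat_lit 1,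 nat_lit 2, nat_lit 3, nat_lit 4, nat_lit 5, nat_lit 2, nat_lit 1, nat_lit 4, nat_lit 3, nat_lit 2, nat_lit 8, nat_lit 3, nat_lit 10, nat_lit 2, nat_lit 8, nat_lit 10, nat_lit 1, nat_lit 14, nat_lit 8, nat_lit 18] (Rl.cmp (nat_lit 243) (nat_lit 264)))) (FT.node (nat_lit 267) (FT.leaf (Fct.mk false (nat_lit 1) (nat_lit 0) (nat_lit 1) [nat_lit 2, nat_lit 3, nat_lit 14] (Rl.cmp (nat_lit 19) (nat_lit 15)))) (FT.leaf (Fct.mk false (nat_lit 1) (nat_lit 0) (nat_lit 1) [nat_lit 5, nat_lit 6, nat_lit 7, nat_lit 6, nat_lit 9, nat_lit 4, nat_lit 16] (Rl.cmp (nat_lit 27) (nat_lit 164))))))) (FT.node (nat_lit 271) (FT.node (nat_lit 269) (FT.leaf (Fct.mk false (nat_lit 1) (nat_lit 0) (nat_lit 1) [nat_lit 5, nat_lit 6, nat_lit 7, nat_lit 6, nat_lit 9, nat_lit 4, nat_lit 0, nat_lit 2, nat_lit 12, nat_lit 15, nat_lit 16] (Rl.cmp (nat_lit 23) (nat_lit 267))))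 (FT.node (nat_lit 270) (FT.leaf (Fct.mk false (nat_lit 1) (nat_lit 0) (nat_lit 1) [nat_lit 79] (Rl.cmp (nat_lit 15) (nat_lit 13)))) (FT.leaf (Fct.mk false (nat_lit 1) (nat_lit 0) (nat_lit 1) [nat_lit 1, nat_lit 2, nat_lit 3, nat_lit 14] (Rl.cmp (nat_lit 19) (nat_lit 269)))))) (FT.node (nat_lit 273) (FT.node (nat_lit 272) (FT.leaf (Fct.mk false (nat_lit 1) (nat_lit 0) (nat_lit 1) [nat_lit 0, nat_lit 1, nat_lit 2, nat_lit 3, nat_lit 0, nat_lit 2, nat_lit 15, nat_lit 14] (Rl.cmp (nat_lit 23) (nat_lit 270)))) (FT.leaf (Fct.mk false (nat_lit 1) (nat_lit 0) (nat_lit 1) [nat_lit 2, nat_lit 3, nat_lit 4, nat_lit 5, nat_lit 2, nat_lit 3, nat_lit 1, nat_lit 14] (Rl.cmp (nat_lit 15) (nat_lit 38))))) (FT.node (nat_lit 274) (FT.leaf (Fct.mk false (nat_lit 1) (nat_lit 0) (nat_lit 1) [nat_lit 1, nat_lit 2, nat_lit 3, nat_lit 4, nat_lit 5, nat_lit 1, nat_lit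 2, nat_lit 3, nat_lit 14] (Rl.cmp (nat_lit 19) (nat_lit 272)))) (FT.leaf (Fct.mk false (nat_lit 1) (nat_lit 0) (nat_lit 1) [nat_lit 0, nat_lit 1, nat_lit 2, nat_lit 3, nat_lit 4, nat_lit 5, nat_lit 0, nat_lit 1, nat_lit 2, nat_lit 3, nat_lit 0, nat_lit 15, nat_lit 14] (Rl.cmp (nat_lit 23) (nat_lit 273))))))))) (FT.node (nat_lit 287) (FT.node (nat_lit 281) (FT.node (nat_lit 278) (FT.node (nat_lit 276) (FT.leaf (Fct.mk false (nat_lit 4) (nat_lit 0) (nat_lit 4) [nat_lit 8, nat_lit 3, nat_lit 4, nat_lit 2, nat_lit 3, nat_lit 8, nat_lit 1, nat_lit 2, nat_lit 3, nat_lit 4, nat_lit 5, nat_lit 4, nat_lit 3, nat_lit 2, nat_lit 8, nat_lit 3, nat_lit 10, nat_lit 1, nat_lit 8, nat_lit 18] (Rl.cmp (nat_lit 239) (nat_lit 234)))) (FT.node (nat_lit 277) (FT.leaf (Fct.mk true (nat_lit 2) (nat_lit 197) (nat_lit 4) [nat_lit 8, nat_lit 5, nat_lit 3, nat_lit 4,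 nat_lit 1, nat_lit 2, nat_lit 3, nat_lit 8, nat_lit 0, nat_lit 1, nat_lit 2, nat_lit 3, nat_lit 4, nat_lit 5, nat_lit 8, nat_lit 3, nat_lit 2, nat_lit 1, nat_lit 4, nat_lit 3, nat_lit 2, nat_lit 8, nat_lit 3, nat_lit 10, nat_lit 0, nat_lit 8, nat_lit 12, nat_lit 15, nat_lit 14, nat_lit 18] (Rl.rel (nat_lit 0) [nat_lit 4, nat_lit 5, nat_lit 2, nat_lit 3, nat_lit 4, nat_lit 1, nat_lit 2, nat_lit 3, nat_lit 8, nat_lit 0, nat_lit 1, nat_lit 2, nat_lit 3, nat_lit 4, nat_lit 5, nat_lit 8, nat_lit 3, nat_lit 2, nat_lit 0, nat_lit 1, nat_lit 4, nat_lit 3, nat_lit 2, nat_lit 8, nat_lit 3, nat_lit 8, nat_lit 12, nat_lit 15, nat_lit 14, nat_lit 12] (nat_lit 4) (nat_lit 2) [nat_lit 234, nat_lit 235, nat_lit 274, nat_lit 82] []))) (FT.leaf (Fct.mk true (nat_lit 2) (nat_lit 37) (nat_lit 4) [nat_lit 8, nat_lit 5, nat_lit 2, nat_lit 3, nat_lit 4, nat_lit 1,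 nat_lit 2, nat_lit 3, nat_lit 8, nat_lit 0, nat_lit 1, nat_lit 2, nat_lit 3, nat_lit 4, nat_lit 5, nat_lit 3, nat_lit 2, nat_lit 0, nat_lit 1, nat_lit 4, nat_lit 3, nat_lit 2, nat_lit 8, nat_lit 3, nat_lit 0, nat_lit 8, nat_lit 12, nat_lit 15, nat_lit 14, nat_lit 12, nat_lit 18] (Rl.t1 (nat_lit 276) (nat_lit 176)))))) (FT.node (nat_lit 279) (FT.leaf (Fct.mk true (nat_lit 4) (nat_lit 177) (nat_lit 2) [nat_lit 3, nat_lit 8, nat_lit 4, nat_lit 5, nat_lit 3, nat_lit 4, nat_lit 2, nat_lit 3, nat_lit 8, nat_lit 1, nat_lit 2, nat_lit 3, nat_lit 4, nat_lit 5, nat_lit 1, nat_lit 2, nat_lit 8, nat_lit 3, nat_lit 8, nat_lit 10, nat_lit 1, nat_lit 15, nat_lit 12, nat_lit 18] (Rl.inv (nat_lit 277)))) (FT.node (nat_lit 280) (FT.leaf (Fct.mk true (nat_lit 4) (nat_lit 17) (nat_lit 2) [nat_lit 3, nat_lit 4, nat_lit 5, nat_lit 1, nat_lit 4, nat_lit 3, nat_lit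 2, nat_lit 8, nat_lit 3, nat_lit 1, nat_lit 12, nat_lit 15, nat_lit 14, nat_lit 12] (Rl.t1 (nat_lit 278) (nat_lit 275)))) (FT.leaf (Fct.mk false (nat_lit 1) (nat_lit 0) (nat_lit 1) [nat_lit 2, nat_lit 3, nat_lit 0, nat_lit 15, nat_lit 14, nat_lit 12] (Rl.cmp (nat_lit 23) (nat_lit 187))))))) (FT.node (nat_lit 284) (FT.node (nat_lit 282) (FT.leaf (Fct.mk false (nat_lit 1) (nat_lit 0) (nat_lit 1) [nat_lit 6, nat_lit 7, nat_lit 3, nat_lit 4, nat_lit 5, nat_lit 4] (Rl.cmp (nat_lit 25) (nat_lit 165)))) (FT.node (nat_lit 283) (FT.leaf (Fct.mk false (nat_lit 1) (nat_lit 0) (nat_lit 1) [nat_lit 5, nat_lit 6, nat_lit 7, nat_lit 3, nat_lit 4, nat_lit 5, nat_lit 4, nat_lit 10] (Rl.cmp (nat_lit 25) (nat_lit 164)))) (FT.leaf (Fct.mk false (nat_lit 1) (nat_lit 0) (nat_lit 1) [nat_lit 6, nat_lit 7, nat_lit 4, nat_lit 5, nat_lit 4] (Rl.cmp (nat_lit 21) (nat_lit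 282)))))) (FT.node (nat_lit 285) (FT.leaf (Fct.mk false (nat_lit 1) (nat_lit 0) (nat_lit 1) [nat_lit 3, nat_lit 4, nat_lit 5, nat_lit 2, nat_lit 3, nat_lit 1, nat_lit 0, nat_lit 2, nat_lit 12, nat_lit 15, nat_lit 12] (Rl.cmp (nat_lit 21) (nat_lit 113)))) (FT.node (nat_lit 286) (FT.leaf (Fct.mk false (nat_lit 1) (nat_lit 0) (nat_lit 1) [nat_lit 4, nat_lit 5, nat_lit 2, nat_lit 3, nat_lit 11, nat_lit 2, nat_lit 10, nat_lit 1, nat_lit 16, nat_lit 14, nat_lit 13, nat_lit 12] (Rl.cmp (nat_lit 25) (nat_lit 284)))) (FT.leaf (Fct.mk false (nat_lit 1) (nat_lit 0) (nat_lit 1) [nat_lit 3, nat_lit 4, nat_lit 5, nat_lit 1, nat_lit 2, nat_lit 3, nat_lit 11, nat_lit 2, nat_lit 10, nat_lit 1, nat_lit 16, nat_lit 12, nat_lit 15, nat_lit 14, nat_lit 13, nat_lit 12] (Rl.cmp (nat_lit 23) (nat_lit 285)))))))) (FT.node (nat_lit 293) (FT.node (nat_lit 290) (FT.node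 (nat_lit 288) (FT.leaf (Fct.mk false (nat_lit 1) (nat_lit 0) (nat_lit 1) [nat_lit 2, nat_lit 3, nat_lit 4, nat_lit 5, nat_lit 3, nat_lit 11, nat_lit 2, nat_lit 10, nat_lit 1, nat_lit 16, nat_lit 12, nat_lit 15, nat_lit 14, nat_lit 13, nat_lit 12] (Rl.cmp (nat_lit 19) (nat_lit 286)))) (FT.node (nat_lit 289) (FT.leaf (Fct.mk false (nat_lit 1) (nat_lit 0) (nat_lit 1) [nat_lit 1, nat_lit 2, nat_lit 3, nat_lit 4, nat_lit 5, nat_lit 2, nat_lit 3, nat_lit 11, nat_lit 2, nat_lit 10, nat_lit 1, nat_lit 16, nat_lit 15, nat_lit 14, nat_lit 13, nat_lit 12, nat_lit 16] (Rl.cmp (nat_lit 23) (nat_lit 287)))) (FT.leaf (Fct.mk true (nat_lit 4) (nat_lit 434) (nat_lit 4) [nat_lit 2, nat_lit 3, nat_lit 4, nat_lit 5, nat_lit 2, nat_lit 3, nat_lit 10, nat_lit 1, nat_lit 14] (Rl.rel (nat_lit 0) [nat_lit 4, nat_lit 3, nat_lit 8, nat_lit 5, nat_lit 6, nat_lit 4, nat_lit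 5, nat_lit 3, nat_lit 4, nat_lit 1, nat_lit 2, nat_lit 3, nat_lit 8, nat_lit 0, nat_lit 1, nat_lit 2, nat_lit 3, nat_lit 4, nat_lit 5, nat_lit 2, nat_lit 0, nat_lit 1, nat_lit 9, nat_lit 4, nat_lit 3, nat_lit 2, nat_lit 8, nat_lit 3, nat_lit 9, nat_lit 8, nat_lit 12, nat_lit 15, nat_lit 14, nat_lit 12] (nat_lit 4) (nat_lit 2) [nat_lit 234, nat_lit 235, nat_lit 288, nat_lit 232] []))))) (FT.node (nat_lit 291) (FT.leaf (Fct.mk true (nat_lit 4) (nat_lit 432) (nat_lit 4) [nat_lit 2, nat_lit 3, nat_lit 8, nat_lit 4, nat_lit 5, nat_lit 3, nat_lit 4, nat_lit 2, nat_lit 3, nat_lit 8, nat_lit 1, nat_lit 2, nat_lit 3, nat_lit 4, nat_lit 5, nat_lit 1, nat_lit 4, nat_lit 3, nat_lit 2, nat_lit 8, nat_lit 3, nat_lit 10, nat_lit 2, nat_lit 8, nat_lit 10, nat_lit 1, nat_lit 14, nat_lit 8, nat_lit 18] (Rl.t1 (nat_lit 289) (nat_lit 234)))) (FT.node (nat_lit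 292) (FT.leaf (Fct.mk false (nat_lit 4) (nat_lit 0) (nat_lit 4) [nat_lit 2, nat_lit 3, nat_lit 4, nat_lit 5, nat_lit 3, nat_lit 10, nat_lit 1, nat_lit 14] (Rl.cmp (nat_lit 243) (nat_lit 243)))) (FT.leaf (Fct.mk true (nat_lit 4) (nat_lit 194) (nat_lit 4) [nat_lit 7, nat_lit 8, nat_lit 3, nat_lit 4, nat_lit 2, nat_lit 3, nat_lit 8, nat_lit 1, nat_lit 2, nat_lit 3, nat_lit 4, nat_lit 5, nat_lit 4, nat_lit 3, nat_lit 2, nat_lit 8, nat_lit 3, nat_lit 2, nat_lit 10, nat_lit 1, nat_lit 8, nat_lit 18] (Rl.rel (nat_lit 0) [nat_lit 3, nat_lit 8, nat_lit 2, nat_lit 3, nat_lit 4, nat_lit 5, nat_lit 2, nat_lit 8, nat_lit 3, nat_lit 0, nat_lit 2, nat_lit 8, nat_lit 12, nat_lit 15] (nat_lit 4) (nat_lit 2) [nat_lit 279, nat_lit 178, nat_lit 277] [])))))) (FT.node (nat_lit 296) (FT.node (nat_lit 294) (FT.leaf (Fct.mk true (nat_lit 4) (nat_lit 23) (nat_lit 4)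 [nat_lit 7, nat_lit 1, nat_lit 2, nat_lit 3, nat_lit 8, nat_lit 4, nat_lit 5, nat_lit 3, nat_lit 4, nat_lit 2, nat_lit 3, nat_lit 8, nat_lit 1, nat_lit 2, nat_lit 3, nat_lit 4, nat_lit 5, nat_lit 1, nat_lit 4, nat_lit 3, nat_lit 2, nat_lit 8, nat_lit 3, nat_lit 2, nat_lit 8, nat_lit 10, nat_lit 1, nat_lit 14, nat_lit 8, nat_lit 18] (Rl.t1 (nat_lit 292) (nat_lit 291)))) (FT.node (nat_lit 295) (FT.leaf (Fct.mk false (nat_lit 4) (nat_lit 0) (nat_lit 4) [nat_lit 8, nat_lit 3, nat_lit 4, nat_lit 2, nat_lit 3, nat_lit 8, nat_lit 1, nat_lit 2, nat_lit 3, nat_lit 4, nat_lit 5, nat_lit 4, nat_lit 3, nat_lit 2, nat_lit 8, nat_lit 3, nat_lit 10, nat_lit 1, nat_lit 8, nat_lit 18] (Rl.cmp (nat_lit 239) (nat_lit 234)))) (FT.leaf (Fct.mk true (nat_lit 4) (nat_lit 263) (nat_lit 4) [nat_lit 5, nat_lit 4, nat_lit 3, nat_lit 8, nat_lit 2, nat_lit 3, nat_lit 4,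 nat_lit 5, nat_lit 2, nat_lit 1, nat_lit 4, nat_lit 3, nat_lit 2, nat_lit 8, nat_lit 3, nat_lit 8, nat_lit 10, nat_lit 14, nat_lit 12, nat_lit 18] (Rl.rel (nat_lit 0) [nat_lit 8, nat_lit 3, nat_lit 4, nat_lit 2, nat_lit 3, nat_lit 8, nat_lit 1, nat_lit 2, nat_lit 3, nat_lit 4, nat_lit 5, nat_lit 3, nat_lit 1, nat_lit 0, nat_lit 2, nat_lit 12, nat_lit 15, nat_lit 14, nat_lit 8] (nat_lit 4) (nat_lit 2) [nat_lit 279, nat_lit 181, nat_lit 277] []))))) (FT.node (nat_lit 298) (FT.node (nat_lit 297) (FT.leaf (Fct.mk true (nat_lit 4) (nat_lit 239) (nat_lit 4) [nat_lit 5, nat_lit 4, nat_lit 3, nat_lit 8, nat_lit 2, nat_lit 3, nat_lit 4, nat_lit 5, nat_lit 4, nat_lit 1] (Rl.t1 (nat_lit 295) (nat_lit 294)))) (FT.leaf (Fct.mk true (nat_lit 4) (nat_lit 513) (nat_lit 4) [nat_lit 2, nat_lit 3, nat_lit 4, nat_lit 5, nat_lit 10, nat_lit 1, nat_lit 14] (Rl.rel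 (nat_lit 0) [nat_lit 3, nat_lit 8, nat_lit 4, nat_lit 5, nat_lit 3, nat_lit 4, nat_lit 2, nat_lit 3, nat_lit 8, nat_lit 1, nat_lit 2, nat_lit 3, nat_lit 4, nat_lit 5, nat_lit 1, nat_lit 4, nat_lit 3, nat_lit 2, nat_lit 8, nat_lit 3, nat_lit 0, nat_lit 2, nat_lit 12, nat_lit 15, nat_lit 14, nat_lit 8, nat_lit 18] (nat_lit 4) (nat_lit 2) [nat_lit 296, nat_lit 294, nat_lit 296] [])))) (FT.node (nat_lit 299) (FT.leaf (Fct.mk true (nat_lit 4) (nat_lit 329) (nat_lit 4) [nat_lit 1, nat_lit 2, nat_lit 3, nat_lit 8, nat_lit 4, nat_lit 5, nat_lit 3, nat_lit 4, nat_lit 2, nat_lit 3, nat_lit 8, nat_lit 1, nat_lit 2, nat_lit 3, nat_lit 4, nat_lit 5, nat_lit 1, nat_lit 4, nat_lit 3, nat_lit 2, nat_lit 8, nat_lit 3, nat_lit 10, nat_lit 1, nat_lit 18] (Rl.t1 (nat_lit 297) (nat_lit 243)))) (FT.leaf (Fct.mk false (nat_lit 4) (nat_lit 0) (nat_lit 4) [nat_lit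 8, nat_lit 3, nat_lit 4, nat_lit 2, nat_lit 3, nat_lit 8, nat_lit 1, nat_lit 2, nat_lit 3, nat_lit 4, nat_lit 5, nat_lit 4, nat_lit 3, nat_lit 2, nat_lit 8, nat_lit 3, nat_lit 10, nat_lit 1, nat_lit 8, nat_lit 18] (Rl.cmp (nat_lit 239) (nat_lit 234)))))))))

/-- some facts -/
noncomputable def ftc6 : FT := FT.node (nat_lit 325) (FT.node (nat_lit 312) (FT.node (nat_lit 306) (FT.node (nat_lit 303) (FT.node (nat_lit 301) (FT.leaf (Fct.mk false (nat_lit 2) (nat_lit 0) (nat_lit 2) [nat_lit 47] (Rl.rel (nat_lit 0) [nat_lit 3, nat_lit 4, nat_lit 2, nat_lit 3, nat_lit 8, nat_lit 1, nat_lit 2, nat_lit 3, nat_lit 4, nat_lit 5, nat_lit 4, nat_lit 10, nat_lit 1, nat_lit 15, nat_lit 8, nat_lit 18] (nat_lit 4) (nat_lit 2) [nat_lit 298, nat_lit 265, nat_lit 238] [nat_lit 299, nat_lit 238]))) (FT.node (nat_lit 302) (FT.leaf (Fct.mk false (nat_lit 2) (nat_lit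 0) (nat_lit 2) [nat_lit 6, nat_lit 2, nat_lit 3, nat_lit 8, nat_lit 10, nat_lit 12, nat_lit 18] (Rl.cmp (nat_lit 168) (nat_lit 84)))) (FT.leaf (Fct.mk false (nat_lit 2) (nat_lit 0) (nat_lit 2) [nat_lit 2, nat_lit 8, nat_lit 3, nat_lit 2, nat_lit 8] (Rl.cmp (nat_lit 87) (nat_lit 84)))))) (FT.node (nat_lit 304) (FT.leaf (Fct.mk false (nat_lit 2) (nat_lit 0) (nat_lit 2) [nat_lit 3, nat_lit 2, nat_lit 8, nat_lit 3, nat_lit 2, nat_lit 8] (Rl.cmp (nat_lit 87) (nat_lit 86)))) (FT.node (nat_lit 305) (FT.leaf (Fct.mk false (nat_lit 2) (nat_lit 0) (nat_lit 2) [nat_lit 3] (Rl.cmp (nat_lit 84) (nat_lit 86)))) (FT.leaf (Fct.mk false (nat_lit 2) (nat_lit 0) (nat_lit 2) [nat_lit 6, nat_lit 2, nat_lit 3, nat_lit 8, nat_lit 10, nat_lit 12, nat_lit 18] (Rl.cmp (nat_lit 168) (nat_lit 84))))))) (FT.node (nat_lit 309) (FT.node (nat_lit 307) (FT.leaf (Fct.mk false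 (nat_lit 2) (nat_lit 0) (nat_lit 2) [nat_lit 4, nat_lit 3, nat_lit 2, nat_lit 8, nat_lit 3, nat_lit 8, nat_lit 10, nat_lit 0, nat_lit 12] (Rl.cmp (nat_lit 173) (nat_lit 88)))) (FT.node (nat_lit 308) (FT.leaf (Fct.mk false (nat_lit 2) (nat_lit 0) (nat_lit 2) [nat_lit 6, nat_lit 2, nat_lit 8, nat_lit 3, nat_lit 0, nat_lit 8, nat_lit 18] (Rl.cmp (nat_lit 306) (nat_lit 168)))) (FT.leaf (Fct.mk false (nat_lit 2) (nat_lit 0) (nat_lit 2) [nat_lit 6, nat_lit 2, nat_lit 1, nat_lit 8, nat_lit 3, nat_lit 2, nat_lit 0, nat_lit 1, nat_lit 4, nat_lit 3, nat_lit 2, nat_lit 8, nat_lit 3, nat_lit 10, nat_lit 8, nat_lit 12, nat_lit 15, nat_lit 14, nat_lit 12] (Rl.cmp (nat_lit 307) (nat_lit 300)))))) (FT.node (nat_lit 310) (FT.leaf (Fct.mk false (nat_lit 2) (nat_lit 0) (nat_lit 2) [nat_lit 6, nat_lit 1, nat_lit 2, nat_lit 0, nat_lit 1, nat_lit 4, nat_lit 3, nat_lit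 2, nat_lit 8, nat_lit 3, nat_lit 8, nat_lit 10, nat_lit 1, nat_lit 8, nat_lit 12, nat_lit 15, nat_lit 14, nat_lit 18] (Rl.cmp (nat_lit 308) (nat_lit 173)))) (FT.node (nat_lit 311) (FT.leaf (Fct.mk false (nat_lit 2) (nat_lit 0) (nat_lit 2) [nat_lit 6, nat_lit 3, nat_lit 10, nat_lit 12, nat_lit 18] (Rl.einv (nat_lit 305)))) (FT.leaf (Fct.mk false (nat_lit 2) (nat_lit 0) (nat_lit 2) [nat_lit 1, nat_lit 3, nat_lit 2, nat_lit 0, nat_lit 1, nat_lit 4, nat_lit 3, nat_lit 2, nat_lit 8, nat_lit 3, nat_lit 8, nat_lit 10, nat_lit 0, nat_lit 8, nat_lit 12, nat_lit 15, nat_lit 14] (Rl.cmp (nat_lit 310) (nat_lit 309)))))))) (FT.node (nat_lit 318) (FT.node (nat_lit 315) (FT.node (nat_lit 313) (FT.leaf (Fct.mk false (nat_lit 4) (nat_lit 0) (nat_lit 4) [nat_lit 58] (Rl.sk (nat_lit 277) (nat_lit 311)))) (FT.node (nat_lit 314) (FT.leaf (Fct.mk false (nat_lit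 4) (nat_lit 0) (nat_lit 4) [nat_lit 5, nat_lit 4, nat_lit 3, nat_lit 8, nat_lit 2, nat_lit 3, nat_lit 4, nat_lit 5, nat_lit 2, nat_lit 1, nat_lit 4, nat_lit 3, nat_lit 2, nat_lit 8, nat_lit 3, nat_lit 8, nat_lit 10, nat_lit 1, nat_lit 14, nat_lit 12, nat_lit 18] (Rl.cmp (nat_lit 312) (nat_lit 234)))) (FT.leaf (Fct.mk false (nat_lit 4) (nat_lit 0) (nat_lit 4) [nat_lit 5, nat_lit 4, nat_lit 3, nat_lit 8, nat_lit 2, nat_lit 3, nat_lit 4, nat_lit 5, nat_lit 1] (Rl.cmp (nat_lit 234) (nat_lit 313)))))) (FT.node (nat_lit 316) (FT.leaf (Fct.mk true (nat_lit 4) (nat_lit 0) (nat_lit 1) [nat_lit 1, nat_lit 2, nat_lit 3, nat_lit 8, nat_lit 4, nat_lit 5, nat_lit 3, nat_lit 4, nat_lit 2, nat_lit 3, nat_lit 8, nat_lit 1, nat_lit 2, nat_lit 3, nat_lit 4, nat_lit 5, nat_lit 2, nat_lit 8, nat_lit 3, nat_lit 8, nat_lit 10, nat_lit 8, nat_lit 18] (Rl.t1 (nat_lit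 235) (nat_lit 314)))) (FT.node (nat_lit 317) (FT.leaf (Fct.mk false (nat_lit 4) (nat_lit 0) (nat_lit 4) [nat_lit 8, nat_lit 3, nat_lit 4, nat_lit 5, nat_lit 8, nat_lit 3, nat_lit 2, nat_lit 1, nat_lit 4, nat_lit 3, nat_lit 2, nat_lit 8, nat_lit 3, nat_lit 10, nat_lit 1, nat_lit 14, nat_lit 18] (Rl.cmp (nat_lit 312) (nat_lit 243)))) (FT.leaf (Fct.mk true (nat_lit 4) (nat_lit 3) (nat_lit 2) [nat_lit 1, nat_lit 2, nat_lit 3, nat_lit 4, nat_lit 5, nat_lit 1, nat_lit 2, nat_lit 3, nat_lit 14, nat_lit 8] (Rl.t1 (nat_lit 238) (nat_lit 316))))))) (FT.node (nat_lit 321) (FT.node (nat_lit 319) (FT.leaf (Fct.mk false (nat_lit 4) (nat_lit 0) (nat_lit 4) [nat_lit 8, nat_lit 3, nat_lit 4, nat_lit 5, nat_lit 8, nat_lit 3, nat_lit 2, nat_lit 1, nat_lit 4, nat_lit 3, nat_lit 2, nat_lit 8, nat_lit 3, nat_lit 10, nat_lit 1, nat_lit 14, nat_lit 18] (Rl.cmp (nat_lit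 312) (nat_lit 243)))) (FT.node (nat_lit 320) (FT.leaf (Fct.mk true (nat_lit 4) (nat_lit 69) (nat_lit 4) [nat_lit 8, nat_lit 3, nat_lit 4, nat_lit 2, nat_lit 3, nat_lit 8, nat_lit 1, nat_lit 2, nat_lit 3, nat_lit 4, nat_lit 5, nat_lit 1, nat_lit 3, nat_lit 2, nat_lit 8, nat_lit 3, nat_lit 10, nat_lit 1, nat_lit 8, nat_lit 18] (Rl.t1 (nat_lit 248) (nat_lit 318)))) (FT.leaf (Fct.mk false (nat_lit 4) (nat_lit 0) (nat_lit 4) [nat_lit 8, nat_lit 3, nat_lit 4, nat_lit 2, nat_lit 3, nat_lit 8, nat_lit 1, nat_lit 2, nat_lit 3, nat_lit 4, nat_lit 5, nat_lit 1, nat_lit 4, nat_lit 3, nat_lit 2, nat_lit 8, nat_lit 3, nat_lit 10, nat_lit 1, nat_lit 8, nat_lit 18] (Rl.cmp (nat_lit 241) (nat_lit 234)))))) (FT.node (nat_lit 323) (FT.node (nat_lit 322) (FT.leaf (Fct.mk false (nat_lit 4) (nat_lit 0) (nat_lit 4) [nat_lit 5, nat_lit 4, nat_lit 3, nat_lit 8, nat_lit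 2, nat_lit 3, nat_lit 4, nat_lit 5, nat_lit 2, nat_lit 1, nat_lit 4, nat_lit 3, nat_lit 2, nat_lit 8, nat_lit 3, nat_lit 8, nat_lit 10, nat_lit 14, nat_lit 12, nat_lit 18] (Rl.cmp (nat_lit 312) (nat_lit 320)))) (FT.leaf (Fct.mk false (nat_lit 4) (nat_lit 0) (nat_lit 4) [nat_lit 8, nat_lit 3, nat_lit 4, nat_lit 5, nat_lit 8, nat_lit 3, nat_lit 10, nat_lit 8] (Rl.cmp (nat_lit 243) (nat_lit 321))))) (FT.node (nat_lit 324) (FT.leaf (Fct.mk true (nat_lit 4) (nat_lit 6) (nat_lit 4) [nat_lit 8, nat_lit 3, nat_lit 4, nat_lit 2, nat_lit 3, nat_lit 8, nat_lit 1, nat_lit 2, nat_lit 3, nat_lit 4, nat_lit 5, nat_lit 8, nat_lit 3, nat_lit 2, nat_lit 0, nat_lit 1, nat_lit 4, nat_lit 3, nat_lit 2, nat_lit 8, nat_lit 3, nat_lit 8, nat_lit 12, nat_lit 15, nat_lit 14, nat_lit 12, nat_lit 18] (Rl.t1 (nat_lit 251) (nat_lit 322)))) (FT.leaf (Fct.mk false (nat_lit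 4) (nat_lit 0) (nat_lit 4) [nat_lit 5, nat_lit 4, nat_lit 3, nat_lit 8, nat_lit 2, nat_lit 3, nat_lit 4, nat_lit 5, nat_lit 2, nat_lit 1, nat_lit 4, nat_lit 3, nat_lit 2, nat_lit 8, nat_lit 3, nat_lit 8, nat_lit 10, nat_lit 1, nat_lit 14, nat_lit 12, nat_lit 18] (Rl.cmp (nat_lit 312) (nat_lit 234))))))))) (FT.node (nat_lit 337) (FT.node (nat_lit 331) (FT.node (nat_lit 328) (FT.node (nat_lit 326) (FT.leaf (Fct.mk true (nat_lit 4) (nat_lit 761) (nat_lit 3) [nat_lit 2, nat_lit 3, nat_lit 11, nat_lit 1, nat_lit 12, nat_lit 15, nat_lit 14, nat_lit 13, nat_lit 12, nat_lit 18, nat_lit 16] (Rl.t1 (nat_lit 256) (nat_lit 324)))) (FT.node (nat_lit 327) (FT.leaf (Fct.mk false (nat_lit 4) (nat_lit 0) (nat_lit 4) [nat_lit 2, nat_lit 3, nat_lit 4, nat_lit 5, nat_lit 1, nat_lit 3, nat_lit 2, nat_lit 8, nat_lit 3, nat_lit 8, nat_lit 10, nat_lit 1, nat_lit 14,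 nat_lit 12] (Rl.cmp (nat_lit 312) (nat_lit 241)))) (FT.leaf (Fct.mk false (nat_lit 4) (nat_lit 0) (nat_lit 4) [nat_lit 2, nat_lit 3, nat_lit 4, nat_lit 5, nat_lit 1, nat_lit 2, nat_lit 8, nat_lit 3, nat_lit 8, nat_lit 10, nat_lit 1, nat_lit 14, nat_lit 12] (Rl.cmp (nat_lit 312) (nat_lit 239)))))) (FT.node (nat_lit 329) (FT.leaf (Fct.mk false (nat_lit 4) (nat_lit 0) (nat_lit 4) [nat_lit 2, nat_lit 3, nat_lit 4, nat_lit 5, nat_lit 1, nat_lit 3, nat_lit 2, nat_lit 8, nat_lit 3, nat_lit 8, nat_lit 10, nat_lit 1, nat_lit 14, nat_lit 12] (Rl.cmp (nat_lit 312) (nat_lit 241)))) (FT.node (nat_lit 330) (FT.leaf (Fct.mk false (nat_lit 2) (nat_lit 0) (nat_lit 2) [nat_lit 8, nat_lit 3, nat_lit 8, nat_lit 10] (Rl.cmp (nat_lit 168) (nat_lit 168)))) (FT.leaf (Fct.mk false (nat_lit 2) (nat_lit 0) (nat_lit 2) [nat_lit 8, nat_lit 3, nat_lit 10, nat_lit 18] (Rl.cmp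 (nat_lit 86) (nat_lit 329))))))) (FT.node (nat_lit 334) (FT.node (nat_lit 332) (FT.leaf (Fct.mk false (nat_lit 4) (nat_lit 0) (nat_lit 4) [nat_lit 4, nat_lit 10, nat_lit 1] (Rl.cmp (nat_lit 240) (nat_lit 239)))) (FT.node (nat_lit 333) (FT.leaf (Fct.mk false (nat_lit 4) (nat_lit 0) (nat_lit 4) [nat_lit 1, nat_lit 2, nat_lit 3, nat_lit 8, nat_lit 4, nat_lit 5, nat_lit 3, nat_lit 4, nat_lit 2, nat_lit 3, nat_lit 8, nat_lit 1, nat_lit 2, nat_lit 3, nat_lit 4, nat_lit 5, nat_lit 1, nat_lit 4, nat_lit 3, nat_lit 2, nat_lit 8, nat_lit 3, nat_lit 2, nat_lit 8, nat_lit 10, nat_lit 1, nat_lit 14, nat_lit 8, nat_lit 18] (Rl.cmp (nat_lit 243) (nat_lit 331)))) (FT.leaf (Fct.mk false (nat_lit 4) (nat_lit 0) (nat_lit 4) [nat_lit 8, nat_lit 3, nat_lit 4, nat_lit 5, nat_lit 8, nat_lit 3, nat_lit 2, nat_lit 1, nat_lit 4, nat_lit 3, nat_lit 2, nat_lit 8, nat_lit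 3, nat_lit 10, nat_lit 1, nat_lit 14, nat_lit 18] (Rl.cmp (nat_lit 312) (nat_lit 243)))))) (FT.node (nat_lit 335) (FT.leaf (Fct.mk false (nat_lit 4) (nat_lit 0) (nat_lit 4) [nat_lit 2, nat_lit 3, nat_lit 4, nat_lit 5, nat_lit 1, nat_lit 3, nat_lit 2, nat_lit 8, nat_lit 3, nat_lit 14, nat_lit 12, nat_lit 18] (Rl.cmp (nat_lit 312) (nat_lit 240)))) (FT.node (nat_lit 336) (FT.leaf (Fct.mk false (nat_lit 4) (nat_lit 0) (nat_lit 4) [nat_lit 8, nat_lit 3, nat_lit 4, nat_lit 2, nat_lit 3, nat_lit 8, nat_lit 1, nat_lit 2, nat_lit 3, nat_lit 4, nat_lit 5, nat_lit 1, nat_lit 4, nat_lit 3, nat_lit 2, nat_lit 8, nat_lit 3, nat_lit 2, nat_lit 8, nat_lit 10, nat_lit 1, nat_lit 8, nat_lit 18] (Rl.cmp (nat_lit 240) (nat_lit 234)))) (FT.leaf (Fct.mk false (nat_lit 4) (nat_lit 0) (nat_lit 4) [nat_lit 2, nat_lit 3, nat_lit 4, nat_lit 5, nat_lit 1, nat_lit 2, nat_lit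 8, nat_lit 3, nat_lit 8, nat_lit 10, nat_lit 1, nat_lit 14, nat_lit 12] (Rl.cmp (nat_lit 312) (nat_lit 239)))))))) (FT.node (nat_lit 343) (FT.node (nat_lit 340) (FT.node (nat_lit 338) (FT.leaf (Fct.mk false (nat_lit 4) (nat_lit 0) (nat_lit 4) [nat_lit 2, nat_lit 3, nat_lit 4, nat_lit 5, nat_lit 1, nat_lit 2, nat_lit 8, nat_lit 3, nat_lit 8, nat_lit 10, nat_lit 1, nat_lit 14, nat_lit 12] (Rl.cmp (nat_lit 312) (nat_lit 239)))) (FT.node (nat_lit 339) (FT.leaf (Fct.mk false (nat_lit 2) (nat_lit 0) (nat_lit 2) [nat_lit 2, nat_lit 3, nat_lit 8, nat_lit 10, nat_lit 0, nat_lit 8] (Rl.cmp (nat_lit 173) (nat_lit 84)))) (FT.leaf (Fct.mk false (nat_lit 2) (nat_lit 0) (nat_lit 2) [nat_lit 37] (Rl.cmp (nat_lit 86) (nat_lit 86)))))) (FT.node (nat_lit 341) (FT.leaf (Fct.mk true (nat_lit 2) (nat_lit 299) (nat_lit 4) [nat_lit 1, nat_lit 2, nat_lit 3, nat_lit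 8, nat_lit 0, nat_lit 1, nat_lit 2, nat_lit 3, nat_lit 4, nat_lit 5, nat_lit 2, nat_lit 1, nat_lit 4, nat_lit 3, nat_lit 2, nat_lit 8, nat_lit 3, nat_lit 0, nat_lit 12, nat_lit 15, nat_lit 14, nat_lit 12] (Rl.rel (nat_lit 0) [nat_lit 3, nat_lit 2, nat_lit 8, nat_lit 3, nat_lit 0, nat_lit 12, nat_lit 15, nat_lit 8] (nat_lit 4) (nat_lit 2) [nat_lit 323, nat_lit 326, nat_lit 279] []))) (FT.node (nat_lit 342) (FT.leaf (Fct.mk true (nat_lit 2) (nat_lit 106) (nat_lit 4) [nat_lit 3, nat_lit 8, nat_lit 2, nat_lit 3, nat_lit 4, nat_lit 1, nat_lit 2, nat_lit 3, nat_lit 8, nat_lit 0, nat_lit 1, nat_lit 2, nat_lit 3, nat_lit 4, nat_lit 5, nat_lit 0, nat_lit 1, nat_lit 4, nat_lit 3, nat_lit 2, nat_lit 8, nat_lit 3, nat_lit 12, nat_lit 15, nat_lit 14, nat_lit 12] (Rl.t1 (nat_lit 340) (nat_lit 339)))) (FT.leaf (Fct.mk false (nat_lit 4) (nat_lit 0) (nat_lit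 4) [nat_lit 1, nat_lit 2, nat_lit 3, nat_lit 8, nat_lit 4, nat_lit 5, nat_lit 3, nat_lit 4, nat_lit 2, nat_lit 3, nat_lit 8, nat_lit 1, nat_lit 2, nat_lit 3, nat_lit 4, nat_lit 5, nat_lit 3, nat_lit 2, nat_lit 1, nat_lit 4, nat_lit 3, nat_lit 2, nat_lit 8, nat_lit 3, nat_lit 2, nat_lit 8, nat_lit 10, nat_lit 1, nat_lit 14, nat_lit 8, nat_lit 18] (Rl.cmp (nat_lit 243) (nat_lit 240))))))) (FT.node (nat_lit 346) (FT.node (nat_lit 344) (FT.leaf (Fct.mk false (nat_lit 4) (nat_lit 0) (nat_lit 4) [nat_lit 8, nat_lit 3, nat_lit 4, nat_lit 5, nat_lit 8, nat_lit 3, nat_lit 2, nat_lit 1, nat_lit 4, nat_lit 3, nat_lit 2, nat_lit 8, nat_lit 3, nat_lit 8, nat_lit 10, nat_lit 1, nat_lit 14, nat_lit 18] (Rl.cmp (nat_lit 312) (nat_lit 342)))) (FT.node (nat_lit 345) (FT.leaf (Fct.mk false (nat_lit 4) (nat_lit 0) (nat_lit 4) [nat_lit 1, nat_lit 2, nat_lit 3,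 nat_lit 8, nat_lit 4, nat_lit 5, nat_lit 3, nat_lit 4, nat_lit 2, nat_lit 3, nat_lit 8, nat_lit 1, nat_lit 2, nat_lit 3, nat_lit 4, nat_lit 5, nat_lit 1, nat_lit 4, nat_lit 3, nat_lit 2, nat_lit 8, nat_lit 3, nat_lit 1, nat_lit 18] (Rl.cmp (nat_lit 243) (nat_lit 239)))) (FT.leaf (Fct.mk false (nat_lit 4) (nat_lit 0) (nat_lit 4) [nat_lit 8, nat_lit 3, nat_lit 4, nat_lit 5, nat_lit 2, nat_lit 1, nat_lit 4, nat_lit 3, nat_lit 2, nat_lit 8, nat_lit 3, nat_lit 10, nat_lit 1, nat_lit 14, nat_lit 18] (Rl.cmp (nat_lit 312) (nat_lit 344)))))) (FT.node (nat_lit 348) (FT.node (nat_lit 347) (FT.leaf (Fct.mk true (nat_lit 4) (nat_lit 189) (nat_lit 4) [nat_lit 8, nat_lit 3, nat_lit 4, nat_lit 5, nat_lit 0, nat_lit 1, nat_lit 2, nat_lit 8, nat_lit 3, nat_lit 8, nat_lit 10, nat_lit 1, nat_lit 12, nat_lit 15, nat_lit 18] (Rl.rel (nat_lit 0) [nat_lit 3, nat_lit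 2, nat_lit 8, nat_lit 3, nat_lit 1, nat_lit 0, nat_lit 2, nat_lit 12, nat_lit 15, nat_lit 8, nat_lit 18] (nat_lit 4) (nat_lit 2) [nat_lit 323, nat_lit 327, nat_lit 323] []))) (FT.leaf (Fct.mk true (nat_lit 4) (nat_lit 39) (nat_lit 4) [nat_lit 4, nat_lit 3, nat_lit 2, nat_lit 1, nat_lit 8, nat_lit 3, nat_lit 2, nat_lit 0, nat_lit 1, nat_lit 4, nat_lit 3, nat_lit 2, nat_lit 8, nat_lit 3, nat_lit 8, nat_lit 10, nat_lit 15, nat_lit 8] (Rl.t1 (nat_lit 346) (nat_lit 345))))) (FT.node (nat_lit 349) (FT.leaf (Fct.mk false (nat_lit 4) (nat_lit 0) (nat_lit 4) [nat_lit 1, nat_lit 2, nat_lit 3, nat_lit 8, nat_lit 4, nat_lit 5, nat_lit 3, nat_lit 4, nat_lit 2, nat_lit 3, nat_lit 8, nat_lit 1, nat_lit 2, nat_lit 3, nat_lit 4, nat_lit 5, nat_lit 1, nat_lit 4, nat_lit 3, nat_lit 2, nat_lit 8, nat_lit 3, nat_lit 1, nat_lit 18] (Rl.cmp (nat_lit 243) (nat_lit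 239)))) (FT.leaf (Fct.mk false (nat_lit 4) (nat_lit 0) (nat_lit 4) [nat_lit 8, nat_lit 3, nat_lit 4, nat_lit 5, nat_lit 2, nat_lit 1, nat_lit 4, nat_lit 3, nat_lit 2, nat_lit 8, nat_lit 3, nat_lit 10, nat_lit 1, nat_lit 14, nat_lit 18] (Rl.cmp (nat_lit 312) (nat_lit 348)))))))))

/-- some facts -/
noncomputable def ftc7 : FT := FT.node (nat_lit 375) (FT.node (nat_lit 362) (FT.node (nat_lit 356) (FT.node (nat_lit 353) (FT.node (nat_lit 351) (FT.leaf (Fct.mk false (nat_lit 4) (nat_lit 0) (nat_lit 4) [nat_lit 8, nat_lit 3, nat_lit 4, nat_lit 5, nat_lit 8, nat_lit 3, nat_lit 2, nat_lit 1, nat_lit 4, nat_lit 3, nat_lit 2, nat_lit 8, nat_lit 3, nat_lit 10, nat_lit 1, nat_lit 14, nat_lit 18] (Rl.cmp (nat_lit 312) (nat_lit 243)))) (FT.node (nat_lit 352) (FT.leaf (Fct.mk false (nat_lit 4) (nat_lit 0) (nat_lit 4) [nat_lit 10, nat_lit 1] (Rl.cmp (nat_lit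 241) (nat_lit 240)))) (FT.leaf (Fct.mk false (nat_lit 4) (nat_lit 0) (nat_lit 4) [nat_lit 1, nat_lit 2, nat_lit 3, nat_lit 8, nat_lit 4, nat_lit 5, nat_lit 3, nat_lit 4, nat_lit 2, nat_lit 3, nat_lit 8, nat_lit 1, nat_lit 2, nat_lit 3, nat_lit 4, nat_lit 5, nat_lit 3, nat_lit 2, nat_lit 1, nat_lit 4, nat_lit 3, nat_lit 2, nat_lit 8, nat_lit 3, nat_lit 10, nat_lit 2, nat_lit 8, nat_lit 10, nat_lit 1, nat_lit 14, nat_lit 8, nat_lit 18] (Rl.cmp (nat_lit 243) (nat_lit 351)))))) (FT.node (nat_lit 354) (FT.leaf (Fct.mk true (nat_lit 4) (nat_lit 205) (nat_lit 4) [nat_lit 8, nat_lit 3, nat_lit 4, nat_lit 5, nat_lit 1, nat_lit 4, nat_lit 3, nat_lit 2, nat_lit 8, nat_lit 3, nat_lit 8, nat_lit 10, nat_lit 1, nat_lit 8, nat_lit 12, nat_lit 15, nat_lit 14, nat_lit 12] (Rl.rel (nat_lit 0) [nat_lit 8, nat_lit 3, nat_lit 4, nat_lit 5, nat_lit 2, nat_lit 1,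 nat_lit 3, nat_lit 2, nat_lit 8, nat_lit 3, nat_lit 0, nat_lit 2, nat_lit 12, nat_lit 15, nat_lit 8] (nat_lit 4) (nat_lit 1) [nat_lit 323] [nat_lit 352, nat_lit 347]))) (FT.node (nat_lit 355) (FT.leaf (Fct.mk true (nat_lit 4) (nat_lit 76) (nat_lit 4) [nat_lit 1, nat_lit 2, nat_lit 3, nat_lit 8, nat_lit 4, nat_lit 5, nat_lit 3, nat_lit 4, nat_lit 2, nat_lit 3, nat_lit 8, nat_lit 1, nat_lit 2, nat_lit 3, nat_lit 4, nat_lit 5, nat_lit 8, nat_lit 3, nat_lit 2, nat_lit 1, nat_lit 4, nat_lit 3, nat_lit 2, nat_lit 8, nat_lit 3, nat_lit 10, nat_lit 2, nat_lit 8, nat_lit 10, nat_lit 1, nat_lit 12, nat_lit 15, nat_lit 14, nat_lit 12] (Rl.t1 (nat_lit 353) (nat_lit 328)))) (FT.leaf (Fct.mk false (nat_lit 2) (nat_lit 0) (nat_lit 2) [nat_lit 3] (Rl.cmp (nat_lit 84) (nat_lit 86))))))) (FT.node (nat_lit 359) (FT.node (nat_lit 357) (FT.leaf (Fct.mk false (nat_lit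 2) (nat_lit 0) (nat_lit 2) [nat_lit 3, nat_lit 8, nat_lit 10, nat_lit 8, nat_lit 18] (Rl.cmp (nat_lit 88) (nat_lit 355)))) (FT.node (nat_lit 358) (FT.leaf (Fct.mk true (nat_lit 4) (nat_lit 305) (nat_lit 2) [nat_lit 8, nat_lit 4, nat_lit 5, nat_lit 2, nat_lit 3, nat_lit 4, nat_lit 1, nat_lit 2, nat_lit 3, nat_lit 8, nat_lit 0, nat_lit 1, nat_lit 2, nat_lit 3, nat_lit 4, nat_lit 5, nat_lit 4, nat_lit 3, nat_lit 2, nat_lit 8, nat_lit 3, nat_lit 12, nat_lit 15, nat_lit 8] (Rl.rel (nat_lit 0) [nat_lit 3, nat_lit 4, nat_lit 5, nat_lit 2, nat_lit 8, nat_lit 3, nat_lit 1, nat_lit 0, nat_lit 2, nat_lit 8] (nat_lit 4) (nat_lit 1) [nat_lit 354] [nat_lit 317]))) (FT.leaf (Fct.mk true (nat_lit 4) (nat_lit 257) (nat_lit 2) [nat_lit 3, nat_lit 8, nat_lit 5, nat_lit 2, nat_lit 3, nat_lit 4, nat_lit 1, nat_lit 2, nat_lit 3, nat_lit 8, nat_lit 0, nat_lit 1,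 nat_lit 2, nat_lit 3, nat_lit 4, nat_lit 5, nat_lit 1, nat_lit 2, nat_lit 0, nat_lit 1, nat_lit 3, nat_lit 2, nat_lit 8, nat_lit 3, nat_lit 10, nat_lit 1, nat_lit 15, nat_lit 14, nat_lit 12] (Rl.t1 (nat_lit 357) (nat_lit 234)))))) (FT.node (nat_lit 360) (FT.leaf (Fct.mk true (nat_lit 2) (nat_lit 257) (nat_lit 4) [nat_lit 8, nat_lit 4, nat_lit 5, nat_lit 3, nat_lit 4, nat_lit 2, nat_lit 3, nat_lit 8, nat_lit 0, nat_lit 1, nat_lit 2, nat_lit 3, nat_lit 4, nat_lit 5, nat_lit 4, nat_lit 3, nat_lit 2, nat_lit 8, nat_lit 3, nat_lit 10, nat_lit 2, nat_lit 8, nat_lit 10, nat_lit 1, nat_lit 8, nat_lit 12, nat_lit 15, nat_lit 18] (Rl.inv (nat_lit 358)))) (FT.node (nat_lit 361) (FT.leaf (Fct.mk true (nat_lit 2) (nat_lit 67) (nat_lit 4) [nat_lit 2, nat_lit 3, nat_lit 8, nat_lit 4, nat_lit 5, nat_lit 3, nat_lit 4, nat_lit 2, nat_lit 3, nat_lit 8, nat_lit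 0, nat_lit 1, nat_lit 2, nat_lit 3, nat_lit 4, nat_lit 5, nat_lit 8, nat_lit 3, nat_lit 2, nat_lit 8, nat_lit 10, nat_lit 1, nat_lit 8, nat_lit 12, nat_lit 15, nat_lit 14, nat_lit 18] (Rl.t1 (nat_lit 359) (nat_lit 356)))) (FT.leaf (Fct.mk false (nat_lit 4) (nat_lit 0) (nat_lit 4) [nat_lit 2, nat_lit 3, nat_lit 4, nat_lit 5, nat_lit 1, nat_lit 3, nat_lit 2, nat_lit 8, nat_lit 3, nat_lit 14, nat_lit 12, nat_lit 18] (Rl.cmp (nat_lit 312) (nat_lit 240)))))))) (FT.node (nat_lit 368) (FT.node (nat_lit 365) (FT.node (nat_lit 363) (FT.leaf (Fct.mk false (nat_lit 4) (nat_lit 0) (nat_lit 4) [nat_lit 2, nat_lit 3, nat_lit 8, nat_lit 4, nat_lit 5, nat_lit 3, nat_lit 4, nat_lit 2, nat_lit 3, nat_lit 8, nat_lit 1, nat_lit 2, nat_lit 3, nat_lit 4, nat_lit 5, nat_lit 2, nat_lit 8, nat_lit 3, nat_lit 8, nat_lit 10, nat_lit 8, nat_lit 18] (Rl.cmp (nat_lit 234)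 (nat_lit 361)))) (FT.node (nat_lit 364) (FT.leaf (Fct.mk false (nat_lit 4) (nat_lit 0) (nat_lit 4) [nat_lit 2, nat_lit 3, nat_lit 4, nat_lit 5, nat_lit 1, nat_lit 3, nat_lit 2, nat_lit 8, nat_lit 3, nat_lit 8, nat_lit 10, nat_lit 1, nat_lit 14, nat_lit 12] (Rl.cmp (nat_lit 312) (nat_lit 241)))) (FT.leaf (Fct.mk false (nat_lit 4) (nat_lit 0) (nat_lit 4) [nat_lit 5, nat_lit 4, nat_lit 3, nat_lit 8, nat_lit 2, nat_lit 3, nat_lit 4, nat_lit 5, nat_lit 2, nat_lit 1, nat_lit 4, nat_lit 3, nat_lit 2, nat_lit 8, nat_lit 3, nat_lit 8, nat_lit 10, nat_lit 1, nat_lit 14, nat_lit 12, nat_lit 18] (Rl.cmp (nat_lit 312) (nat_lit 234)))))) (FT.node (nat_lit 366) (FT.leaf (Fct.mk false (nat_lit 4) (nat_lit 0) (nat_lit 4) [nat_lit 8, nat_lit 3, nat_lit 4, nat_lit 2, nat_lit 3, nat_lit 8, nat_lit 1, nat_lit 2, nat_lit 3, nat_lit 4, nat_lit 5, nat_lit 4, nat_lit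 3, nat_lit 2, nat_lit 8, nat_lit 3, nat_lit 10, nat_lit 1, nat_lit 8, nat_lit 18] (Rl.cmp (nat_lit 239) (nat_lit 234)))) (FT.node (nat_lit 367) (FT.leaf (Fct.mk false (nat_lit 4) (nat_lit 0) (nat_lit 4) [nat_lit 5, nat_lit 4, nat_lit 3, nat_lit 8, nat_lit 1, nat_lit 2, nat_lit 3, nat_lit 4, nat_lit 5, nat_lit 2, nat_lit 1, nat_lit 4, nat_lit 3, nat_lit 2, nat_lit 8, nat_lit 3, nat_lit 8, nat_lit 10, nat_lit 1, nat_lit 14, nat_lit 12, nat_lit 18] (Rl.cmp (nat_lit 240) (nat_lit 364)))) (FT.leaf (Fct.mk false (nat_lit 4) (nat_lit 0) (nat_lit 4) [nat_lit 1, nat_lit 2, nat_lit 3, nat_lit 8, nat_lit 4, nat_lit 5, nat_lit 3, nat_lit 4, nat_lit 2, nat_lit 3, nat_lit 8, nat_lit 1, nat_lit 2, nat_lit 3, nat_lit 4, nat_lit 5, nat_lit 3, nat_lit 2, nat_lit 1, nat_lit 4, nat_lit 3, nat_lit 2, nat_lit 8, nat_lit 3, nat_lit 2, nat_lit 8, nat_lit 10, nat_lit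 1, nat_lit 14, nat_lit 8, nat_lit 18] (Rl.cmp (nat_lit 243) (nat_lit 240))))))) (FT.node (nat_lit 371) (FT.node (nat_lit 369) (FT.leaf (Fct.mk false (nat_lit 4) (nat_lit 0) (nat_lit 4) [nat_lit 8, nat_lit 3, nat_lit 4, nat_lit 2, nat_lit 3, nat_lit 8, nat_lit 1, nat_lit 2, nat_lit 3, nat_lit 4, nat_lit 5, nat_lit 1, nat_lit 4, nat_lit 3, nat_lit 2, nat_lit 8, nat_lit 3, nat_lit 2, nat_lit 8, nat_lit 10, nat_lit 1, nat_lit 8, nat_lit 18] (Rl.cmp (nat_lit 240) (nat_lit 234)))) (FT.node (nat_lit 370) (FT.leaf (Fct.mk false (nat_lit 4) (nat_lit 0) (nat_lit 4) [nat_lit 2, nat_lit 3, nat_lit 8, nat_lit 4, nat_lit 5, nat_lit 3, nat_lit 4, nat_lit 2, nat_lit 3, nat_lit 8, nat_lit 1, nat_lit 2, nat_lit 3, nat_lit 4, nat_lit 5, nat_lit 2, nat_lit 8, nat_lit 3, nat_lit 2, nat_lit 8, nat_lit 10, nat_lit 1, nat_lit 8] (Rl.cmp (nat_lit 234) (nat_lit 312))))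 (FT.leaf (Fct.mk false (nat_lit 2) (nat_lit 0) (nat_lit 2) [nat_lit 7, nat_lit 2, nat_lit 8, nat_lit 3, nat_lit 2] (Rl.cmp (nat_lit 172) (nat_lit 168)))))) (FT.node (nat_lit 373) (FT.node (nat_lit 372) (FT.leaf (Fct.mk true (nat_lit 2) (nat_lit 704) (nat_lit 2) [nat_lit 3, nat_lit 2, nat_lit 1, nat_lit 8, nat_lit 3, nat_lit 2, nat_lit 0, nat_lit 1, nat_lit 4, nat_lit 3, nat_lit 2, nat_lit 8, nat_lit 3, nat_lit 8, nat_lit 10, nat_lit 1, nat_lit 8, nat_lit 12, nat_lit 15, nat_lit 14, nat_lit 8] (Rl.rel (nat_lit 0) [nat_lit 3, nat_lit 8, nat_lit 2, nat_lit 3, nat_lit 4, nat_lit 1, nat_lit 2, nat_lit 3, nat_lit 8, nat_lit 0, nat_lit 1, nat_lit 2, nat_lit 3, nat_lit 4, nat_lit 5, nat_lit 3, nat_lit 1, nat_lit 0, nat_lit 2, nat_lit 12, nat_lit 15] (nat_lit 2) (nat_lit 2) [nat_lit 360, nat_lit 312, nat_lit 358] []))) (FT.leaf (Fct.mk true (nat_lit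 2) (nat_lit 696) (nat_lit 2) [nat_lit 7, nat_lit 1, nat_lit 8, nat_lit 3, nat_lit 2, nat_lit 0, nat_lit 1, nat_lit 4, nat_lit 3, nat_lit 2, nat_lit 8, nat_lit 3, nat_lit 2, nat_lit 8, nat_lit 10, nat_lit 1, nat_lit 8, nat_lit 12, nat_lit 15, nat_lit 14, nat_lit 8, nat_lit 18] (Rl.t1 (nat_lit 371) (nat_lit 370))))) (FT.node (nat_lit 374) (FT.leaf (Fct.mk false (nat_lit 2) (nat_lit 0) (nat_lit 2) [nat_lit 6, nat_lit 3, nat_lit 2, nat_lit 8, nat_lit 3, nat_lit 12] (Rl.cmp (nat_lit 86) (nat_lit 168)))) (FT.leaf (Fct.mk false (nat_lit 4) (nat_lit 0) (nat_lit 4) [nat_lit 8, nat_lit 3, nat_lit 4, nat_lit 2, nat_lit 3, nat_lit 8, nat_lit 1, nat_lit 2, nat_lit 3, nat_lit 4, nat_lit 5, nat_lit 2, nat_lit 1, nat_lit 4, nat_lit 3, nat_lit 2, nat_lit 8, nat_lit 3, nat_lit 10, nat_lit 1, nat_lit 8, nat_lit 18] (Rl.cmp (nat_lit 234) (nat_lit 239)))))))))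 (FT.node (nat_lit 387) (FT.node (nat_lit 381) (FT.node (nat_lit 378) (FT.node (nat_lit 376) (FT.leaf (Fct.mk false (nat_lit 4) (nat_lit 0) (nat_lit 4) [nat_lit 5, nat_lit 4, nat_lit 3, nat_lit 8, nat_lit 1, nat_lit 2, nat_lit 3, nat_lit 4, nat_lit 5] (Rl.cmp (nat_lit 243) (nat_lit 333)))) (FT.node (nat_lit 377) (FT.leaf (Fct.mk false (nat_lit 2) (nat_lit 0) (nat_lit 2) [nat_lit 18] (Rl.cmp (nat_lit 86) (nat_lit 84)))) (FT.leaf (Fct.mk false (nat_lit 2) (nat_lit 0) (nat_lit 2) [nat_lit 6, nat_lit 4, nat_lit 2, nat_lit 18] (Rl.cmp (nat_lit 87) (nat_lit 373)))))) (FT.node (nat_lit 379) (FT.leaf (Fct.mk false (nat_lit 2) (nat_lit 0) (nat_lit 2) [nat_lit 4, nat_lit 3, nat_lit 2, nat_lit 1, nat_lit 8, nat_lit 3, nat_lit 2, nat_lit 0, nat_lit 1, nat_lit 4, nat_lit 3, nat_lit 2, nat_lit 8, nat_lit 3, nat_lit 8, nat_lit 10, nat_lit 0, nat_lit 8, nat_lit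 12, nat_lit 15, nat_lit 14, nat_lit 12] (Rl.cmp (nat_lit 87) (nat_lit 300)))) (FT.node (nat_lit 380) (FT.leaf (Fct.mk false (nat_lit 2) (nat_lit 0) (nat_lit 2) [nat_lit 6, nat_lit 3, nat_lit 2, nat_lit 8, nat_lit 3, nat_lit 8, nat_lit 18] (Rl.cmp (nat_lit 84) (nat_lit 168)))) (FT.leaf (Fct.mk false (nat_lit 2) (nat_lit 0) (nat_lit 2) [nat_lit 2, nat_lit 3, nat_lit 8, nat_lit 10, nat_lit 0, nat_lit 8] (Rl.cmp (nat_lit 173) (nat_lit 84))))))) (FT.node (nat_lit 384) (FT.node (nat_lit 382) (FT.leaf (Fct.mk false (nat_lit 2) (nat_lit 0) (nat_lit 2) [nat_lit 2, nat_lit 8, nat_lit 3, nat_lit 2, nat_lit 8] (Rl.cmp (nat_lit 87) (nat_lit 84)))) (FT.node (nat_lit 383) (FT.leaf (Fct.mk false (nat_lit 2) (nat_lit 0) (nat_lit 2) [nat_lit 2, nat_lit 8, nat_lit 3, nat_lit 8, nat_lit 10, nat_lit 8, nat_lit 18] (Rl.cmp (nat_lit 88) (nat_lit 381)))) (FT.leaf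 (Fct.mk false (nat_lit 2) (nat_lit 0) (nat_lit 2) [nat_lit 7, nat_lit 2, nat_lit 8, nat_lit 3, nat_lit 2] (Rl.cmp (nat_lit 172) (nat_lit 168)))))) (FT.node (nat_lit 385) (FT.leaf (Fct.mk false (nat_lit 2) (nat_lit 0) (nat_lit 2) [nat_lit 7, nat_lit 4, nat_lit 10, nat_lit 12, nat_lit 18] (Rl.cmp (nat_lit 86) (nat_lit 383)))) (FT.node (nat_lit 386) (FT.leaf (Fct.mk false (nat_lit 2) (nat_lit 0) (nat_lit 2) [nat_lit 7, nat_lit 6, nat_lit 1, nat_lit 8, nat_lit 3, nat_lit 2, nat_lit 0, nat_lit 1, nat_lit 4, nat_lit 3, nat_lit 2, nat_lit 8, nat_lit 3, nat_lit 8, nat_lit 10, nat_lit 1, nat_lit 8, nat_lit 12, nat_lit 15, nat_lit 14, nat_lit 12] (Rl.cmp (nat_lit 172) (nat_lit 300)))) (FT.leaf (Fct.mk false (nat_lit 2) (nat_lit 0) (nat_lit 2) [nat_lit 7, nat_lit 6, nat_lit 1, nat_lit 2, nat_lit 0, nat_lit 1, nat_lit 3, nat_lit 2, nat_lit 8, nat_lit 3,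 nat_lit 8, nat_lit 10, nat_lit 8, nat_lit 12, nat_lit 15, nat_lit 14, nat_lit 18] (Rl.cmp (nat_lit 88) (nat_lit 385)))))))) (FT.node (nat_lit 393) (FT.node (nat_lit 390) (FT.node (nat_lit 388) (FT.leaf (Fct.mk false (nat_lit 2) (nat_lit 0) (nat_lit 2) [nat_lit 6, nat_lit 3, nat_lit 2, nat_lit 8, nat_lit 3, nat_lit 8, nat_lit 18] (Rl.cmp (nat_lit 84) (nat_lit 168)))) (FT.node (nat_lit 389) (FT.leaf (Fct.mk false (nat_lit 2) (nat_lit 0) (nat_lit 2) [nat_lit 6, nat_lit 4, nat_lit 2, nat_lit 12, nat_lit 18] (Rl.cmp (nat_lit 87) (nat_lit 387)))) (FT.leaf (Fct.mk false (nat_lit 2) (nat_lit 0) (nat_lit 2) [nat_lit 7, nat_lit 2, nat_lit 8, nat_lit 3] (Rl.cmp (nat_lit 172) (nat_lit 388)))))) (FT.node (nat_lit 391) (FT.leaf (Fct.mk false (nat_lit 2) (nat_lit 0) (nat_lit 2) [nat_lit 7, nat_lit 2, nat_lit 1, nat_lit 3, nat_lit 2, nat_lit 0, nat_lit 1,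 nat_lit 4, nat_lit 3, nat_lit 2, nat_lit 8, nat_lit 3, nat_lit 8, nat_lit 10, nat_lit 8, nat_lit 12, nat_lit 15, nat_lit 14] (Rl.cmp (nat_lit 300) (nat_lit 389)))) (FT.node (nat_lit 392) (FT.leaf (Fct.mk false (nat_lit 2) (nat_lit 0) (nat_lit 2) [nat_lit 6, nat_lit 2, nat_lit 3, nat_lit 8, nat_lit 10, nat_lit 12, nat_lit 18] (Rl.cmp (nat_lit 168) (nat_lit 84)))) (FT.leaf (Fct.mk false (nat_lit 2) (nat_lit 0) (nat_lit 2) [nat_lit 6, nat_lit 4, nat_lit 3, nat_lit 2, nat_lit 8, nat_lit 3, nat_lit 8, nat_lit 10, nat_lit 0, nat_lit 8] (Rl.cmp (nat_lit 173) (nat_lit 391))))))) (FT.node (nat_lit 396) (FT.node (nat_lit 394) (FT.leaf (Fct.mk false (nat_lit 2) (nat_lit 0) (nat_lit 2) [nat_lit 3, nat_lit 2, nat_lit 8, nat_lit 3, nat_lit 2, nat_lit 8] (Rl.cmp (nat_lit 87) (nat_lit 86)))) (FT.node (nat_lit 395) (FT.leaf (Fct.mk false (nat_lit 2) (nat_lit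 0) (nat_lit 2) [nat_lit 8, nat_lit 10, nat_lit 8] (Rl.cmp (nat_lit 88) (nat_lit 84)))) (FT.leaf (Fct.mk false (nat_lit 4) (nat_lit 0) (nat_lit 4) [nat_lit 8, nat_lit 3, nat_lit 4, nat_lit 2, nat_lit 3, nat_lit 8, nat_lit 1, nat_lit 2, nat_lit 3, nat_lit 4, nat_lit 5, nat_lit 1, nat_lit 4, nat_lit 3, nat_lit 2, nat_lit 8, nat_lit 3, nat_lit 2, nat_lit 8, nat_lit 10, nat_lit 1, nat_lit 8, nat_lit 18] (Rl.cmp (nat_lit 240) (nat_lit 234)))))) (FT.node (nat_lit 398) (FT.node (nat_lit 397) (FT.leaf (Fct.mk false (nat_lit 4) (nat_lit 0) (nat_lit 4) [nat_lit 5, nat_lit 4, nat_lit 3, nat_lit 8, nat_lit 2, nat_lit 3, nat_lit 4, nat_lit 5, nat_lit 2, nat_lit 1, nat_lit 4, nat_lit 3, nat_lit 2, nat_lit 8, nat_lit 3, nat_lit 10, nat_lit 1, nat_lit 14, nat_lit 12, nat_lit 18] (Rl.cmp (nat_lit 312) (nat_lit 395)))) (FT.leaf (Fct.mk false (nat_lit 4) (nat_lit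 0) (nat_lit 4) [nat_lit 5, nat_lit 4, nat_lit 3, nat_lit 8, nat_lit 1, nat_lit 2, nat_lit 3, nat_lit 4, nat_lit 5, nat_lit 2, nat_lit 1, nat_lit 4, nat_lit 3, nat_lit 2, nat_lit 8, nat_lit 3, nat_lit 10, nat_lit 1, nat_lit 14, nat_lit 12, nat_lit 18] (Rl.cmp (nat_lit 240) (nat_lit 396))))) (FT.node (nat_lit 399) (FT.leaf (Fct.mk false (nat_lit 2) (nat_lit 0) (nat_lit 2) [nat_lit 39] (Rl.cmp (nat_lit 87) (nat_lit 87)))) (FT.leaf (Fct.mk false (nat_lit 2) (nat_lit 0) (nat_lit 2) [nat_lit 3, nat_lit 2, nat_lit 8, nat_lit 3, nat_lit 8, nat_lit 10, nat_lit 0, nat_lit 8, nat_lit 18] (Rl.cmp (nat_lit 173) (nat_lit 398)))))))))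

/-- some facts -/
noncomputable def ftc8 : FT := FT.node (nat_lit 425) (FT.node (nat_lit 412) (FT.node (nat_lit 406) (FT.node (nat_lit 403) (FT.node (nat_lit 401) (FT.leaf (Fct.mk false (nat_lit 2) (nat_lit 0) (nat_lit 2) [nat_lit 3, nat_lit 2, nat_lit 1, nat_lit 8, nat_lit 3, nat_lit 2, nat_lit 0, nat_lit 1, nat_lit 4, nat_lit 3, nat_lit 2, nat_lit 8, nat_lit 3, nat_lit 2, nat_lit 10, nat_lit 1, nat_lit 8, nat_lit 12, nat_lit 15, nat_lit 14, nat_lit 8] (Rl.cmp (nat_lit 300) (nat_lit 399)))) (FT.node (nat_lit 402) (FT.leaf (Fct.mk false (nat_lit 2) (nat_lit 0) (nat_lit 2) [nat_lit 2, nat_lit 8, nat_lit 3, nat_lit 2, nat_lit 8] (Rl.cmp (nat_lit 87) (nat_lit 84)))) (FT.leaf (Fct.mk false (nat_lit 2) (nat_lit 0) (nat_lit 2) [nat_lit 39] (Rl.cmp (nat_lit 87) (nat_lit 87)))))) (FT.node (nat_lit 404) (FT.leaf (Fct.mk false (nat_lit 4) (nat_lit 0)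 (nat_lit 4) [nat_lit 8, nat_lit 3, nat_lit 4, nat_lit 2, nat_lit 3, nat_lit 8, nat_lit 1, nat_lit 2, nat_lit 3, nat_lit 4, nat_lit 5, nat_lit 4, nat_lit 3, nat_lit 2, nat_lit 8, nat_lit 3, nat_lit 10, nat_lit 1, nat_lit 8, nat_lit 18] (Rl.cmp (nat_lit 239) (nat_lit 234)))) (FT.node (nat_lit 405) (FT.leaf (Fct.mk false (nat_lit 4) (nat_lit 0) (nat_lit 4) [nat_lit 8, nat_lit 3, nat_lit 4, nat_lit 2, nat_lit 3, nat_lit 8, nat_lit 1, nat_lit 2, nat_lit 3, nat_lit 4, nat_lit 5, nat_lit 4, nat_lit 3, nat_lit 2, nat_lit 8, nat_lit 3, nat_lit 2, nat_lit 10, nat_lit 1, nat_lit 8, nat_lit 18] (Rl.cmp (nat_lit 240) (nat_lit 403)))) (FT.leaf (Fct.mk false (nat_lit 4) (nat_lit 0) (nat_lit 4) [nat_lit 5, nat_lit 4, nat_lit 3, nat_lit 8, nat_lit 2, nat_lit 3, nat_lit 4, nat_lit 5, nat_lit 2, nat_lit 1, nat_lit 3, nat_lit 2, nat_lit 8, nat_lit 3, nat_lit 10,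 nat_lit 14, nat_lit 12, nat_lit 18] (Rl.cmp (nat_lit 312) (nat_lit 404))))))) (FT.node (nat_lit 409) (FT.node (nat_lit 407) (FT.leaf (Fct.mk false (nat_lit 2) (nat_lit 0) (nat_lit 2) [nat_lit 6, nat_lit 7, nat_lit 4, nat_lit 2] (Rl.cmp (nat_lit 172) (nat_lit 172)))) (FT.node (nat_lit 408) (FT.leaf (Fct.mk false (nat_lit 4) (nat_lit 0) (nat_lit 4) [nat_lit 1, nat_lit 2, nat_lit 3, nat_lit 8, nat_lit 4, nat_lit 5, nat_lit 3, nat_lit 4, nat_lit 2, nat_lit 3, nat_lit 8, nat_lit 1, nat_lit 2, nat_lit 3, nat_lit 4, nat_lit 5, nat_lit 3, nat_lit 2, nat_lit 1, nat_lit 4, nat_lit 3, nat_lit 2, nat_lit 8, nat_lit 3, nat_lit 2, nat_lit 8, nat_lit 10, nat_lit 1, nat_lit 14, nat_lit 8, nat_lit 18] (Rl.cmp (nat_lit 243) (nat_lit 240)))) (FT.leaf (Fct.mk false (nat_lit 4) (nat_lit 0) (nat_lit 4) [nat_lit 8, nat_lit 3, nat_lit 4, nat_lit 5, nat_lit 8, nat_lit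 3, nat_lit 2, nat_lit 1, nat_lit 4, nat_lit 3, nat_lit 2, nat_lit 8, nat_lit 3, nat_lit 8, nat_lit 10, nat_lit 1, nat_lit 14, nat_lit 18] (Rl.cmp (nat_lit 312) (nat_lit 407)))))) (FT.node (nat_lit 410) (FT.leaf (Fct.mk false (nat_lit 4) (nat_lit 0) (nat_lit 4) [nat_lit 8, nat_lit 3, nat_lit 4, nat_lit 5, nat_lit 8, nat_lit 3, nat_lit 2, nat_lit 1, nat_lit 4, nat_lit 3, nat_lit 2, nat_lit 8, nat_lit 3, nat_lit 10, nat_lit 1, nat_lit 14, nat_lit 18] (Rl.cmp (nat_lit 312) (nat_lit 243)))) (FT.node (nat_lit 411) (FT.leaf (Fct.mk false (nat_lit 4) (nat_lit 0) (nat_lit 4) [nat_lit 8, nat_lit 3, nat_lit 4, nat_lit 2, nat_lit 3, nat_lit 8, nat_lit 1, nat_lit 2, nat_lit 3, nat_lit 4, nat_lit 5, nat_lit 4, nat_lit 3, nat_lit 2, nat_lit 8, nat_lit 3, nat_lit 10, nat_lit 1, nat_lit 8, nat_lit 18] (Rl.cmp (nat_lit 239) (nat_lit 234)))) (FT.leaf (Fct.mk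 false (nat_lit 4) (nat_lit 0) (nat_lit 4) [nat_lit 94] (Rl.cmp (nat_lit 312) (nat_lit 410)))))))) (FT.node (nat_lit 418) (FT.node (nat_lit 415) (FT.node (nat_lit 413) (FT.leaf (Fct.mk false (nat_lit 4) (nat_lit 0) (nat_lit 4) [nat_lit 5, nat_lit 4, nat_lit 3, nat_lit 8, nat_lit 2, nat_lit 3, nat_lit 4, nat_lit 5, nat_lit 2, nat_lit 1, nat_lit 4, nat_lit 3, nat_lit 2, nat_lit 8, nat_lit 3, nat_lit 10, nat_lit 1, nat_lit 14, nat_lit 12, nat_lit 18] (Rl.cmp (nat_lit 312) (nat_lit 335)))) (FT.node (nat_lit 414) (FT.leaf (Fct.mk false (nat_lit 4) (nat_lit 0) (nat_lit 4) [nat_lit 8, nat_lit 3, nat_lit 4, nat_lit 2, nat_lit 3, nat_lit 8, nat_lit 1, nat_lit 2, nat_lit 3, nat_lit 4, nat_lit 5, nat_lit 1, nat_lit 4, nat_lit 3, nat_lit 2, nat_lit 8, nat_lit 3, nat_lit 10, nat_lit 1, nat_lit 8, nat_lit 18] (Rl.cmp (nat_lit 241) (nat_lit 234)))) (FT.leaf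 (Fct.mk false (nat_lit 4) (nat_lit 0) (nat_lit 4) [nat_lit 8, nat_lit 3, nat_lit 4, nat_lit 2, nat_lit 3, nat_lit 8, nat_lit 1, nat_lit 2, nat_lit 3, nat_lit 4, nat_lit 5, nat_lit 2, nat_lit 1, nat_lit 4, nat_lit 3, nat_lit 2, nat_lit 8, nat_lit 3, nat_lit 10, nat_lit 1, nat_lit 8, nat_lit 18] (Rl.cmp (nat_lit 234) (nat_lit 239)))))) (FT.node (nat_lit 416) (FT.leaf (Fct.mk false (nat_lit 4) (nat_lit 0) (nat_lit 4) [nat_lit 5, nat_lit 4, nat_lit 3, nat_lit 8, nat_lit 2, nat_lit 3, nat_lit 4, nat_lit 5, nat_lit 3, nat_lit 2, nat_lit 1, nat_lit 4, nat_lit 3, nat_lit 2, nat_lit 8, nat_lit 3, nat_lit 8, nat_lit 10, nat_lit 14, nat_lit 12, nat_lit 18] (Rl.cmp (nat_lit 312) (nat_lit 414)))) (FT.node (nat_lit 417) (FT.leaf (Fct.mk false (nat_lit 4) (nat_lit 0) (nat_lit 4) [nat_lit 8, nat_lit 3, nat_lit 4, nat_lit 5, nat_lit 8, nat_lit 3, nat_lit 2,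 nat_lit 1, nat_lit 4, nat_lit 3, nat_lit 2, nat_lit 8, nat_lit 3, nat_lit 10, nat_lit 1, nat_lit 14, nat_lit 18] (Rl.cmp (nat_lit 312) (nat_lit 243)))) (FT.leaf (Fct.mk false (nat_lit 4) (nat_lit 0) (nat_lit 4) [nat_lit 8, nat_lit 3, nat_lit 4, nat_lit 2, nat_lit 3, nat_lit 8, nat_lit 1, nat_lit 2, nat_lit 3, nat_lit 4, nat_lit 5, nat_lit 2, nat_lit 1, nat_lit 3, nat_lit 2, nat_lit 8, nat_lit 3, nat_lit 10, nat_lit 1, nat_lit 8, nat_lit 18] (Rl.cmp (nat_lit 243) (nat_lit 312))))))) (FT.node (nat_lit 421) (FT.node (nat_lit 419) (FT.leaf (Fct.mk false (nat_lit 2) (nat_lit 0) (nat_lit 2) [nat_lit 7, nat_lit 8, nat_lit 3, nat_lit 2] (Rl.cmp (nat_lit 168) (nat_lit 406)))) (FT.node (nat_lit 420) (FT.leaf (Fct.mk false (nat_lit 2) (nat_lit 0) (nat_lit 2) [nat_lit 2, nat_lit 8, nat_lit 3, nat_lit 10, nat_lit 0, nat_lit 8, nat_lit 18] (Rl.cmp (nat_lit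 173) (nat_lit 303)))) (FT.leaf (Fct.mk false (nat_lit 2) (nat_lit 0) (nat_lit 2) [nat_lit 6, nat_lit 2, nat_lit 3, nat_lit 8, nat_lit 10, nat_lit 12, nat_lit 18] (Rl.cmp (nat_lit 168) (nat_lit 84)))))) (FT.node (nat_lit 423) (FT.node (nat_lit 422) (FT.leaf (Fct.mk false (nat_lit 4) (nat_lit 0) (nat_lit 4) [nat_lit 2, nat_lit 3, nat_lit 4, nat_lit 5, nat_lit 1, nat_lit 3, nat_lit 2, nat_lit 8, nat_lit 3, nat_lit 14, nat_lit 12, nat_lit 18] (Rl.cmp (nat_lit 312) (nat_lit 240)))) (FT.leaf (Fct.mk false (nat_lit 2) (nat_lit 0) (nat_lit 2) [nat_lit 2, nat_lit 3, nat_lit 2, nat_lit 18] (Rl.cmp (nat_lit 86) (nat_lit 88))))) (FT.node (nat_lit 424) (FT.leaf (Fct.mk false (nat_lit 4) (nat_lit 0) (nat_lit 4) [nat_lit 1, nat_lit 2, nat_lit 3, nat_lit 8, nat_lit 4, nat_lit 5, nat_lit 3, nat_lit 4, nat_lit 2, nat_lit 3, nat_lit 8, nat_lit 1, nat_lit 2, nat_lit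 3, nat_lit 4, nat_lit 5, nat_lit 1, nat_lit 4, nat_lit 3, nat_lit 2, nat_lit 8, nat_lit 3, nat_lit 1, nat_lit 18] (Rl.cmp (nat_lit 243) (nat_lit 239)))) (FT.leaf (Fct.mk true (nat_lit 1) (nat_lit 723) (nat_lit 1) [nat_lit 2, nat_lit 3, nat_lit 4, nat_lit 5, nat_lit 3, nat_lit 10, nat_lit 1, nat_lit 14] (Rl.rel (nat_lit 0) [nat_lit 8, nat_lit 3, nat_lit 4, nat_lit 5] (nat_lit 4) (nat_lit 1) [nat_lit 315] [nat_lit 314, nat_lit 315])))))))) (FT.node (nat_lit 437) (FT.node (nat_lit 431) (FT.node (nat_lit 428) (FT.node (nat_lit 426) (FT.leaf (Fct.mk true (nat_lit 1) (nat_lit 329) (nat_lit 1) [nat_lit 2, nat_lit 3, nat_lit 4, nat_lit 5, nat_lit 0, nat_lit 1, nat_lit 2, nat_lit 3, nat_lit 10, nat_lit 0, nat_lit 15, nat_lit 14] (Rl.t1 (nat_lit 424) (nat_lit 271)))) (FT.node (nat_lit 427) (FT.leaf (Fct.mk false (nat_lit 4) (nat_lit 0) (nat_lit 4) [nat_lit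 1, nat_lit 2, nat_lit 3, nat_lit 4, nat_lit 5, nat_lit 2, nat_lit 3, nat_lit 12] (Rl.cmp (nat_lit 243) (nat_lit 234)))) (FT.leaf (Fct.mk false (nat_lit 4) (nat_lit 0) (nat_lit 4) [nat_lit 8, nat_lit 3, nat_lit 4, nat_lit 2, nat_lit 3, nat_lit 8, nat_lit 1, nat_lit 2, nat_lit 3, nat_lit 4, nat_lit 5, nat_lit 1, nat_lit 4, nat_lit 3, nat_lit 2, nat_lit 8, nat_lit 3, nat_lit 2, nat_lit 8, nat_lit 10, nat_lit 1, nat_lit 8, nat_lit 18] (Rl.cmp (nat_lit 240) (nat_lit 234)))))) (FT.node (nat_lit 429) (FT.leaf (Fct.mk false (nat_lit 1) (nat_lit 0) (nat_lit 1) [nat_lit 2, nat_lit 3, nat_lit 4, nat_lit 5, nat_lit 10, nat_lit 12, nat_lit 15, nat_lit 14] (Rl.cmp (nat_lit 23) (nat_lit 249)))) (FT.node (nat_lit 430) (FT.leaf (Fct.mk false (nat_lit 1) (nat_lit 0) (nat_lit 1) [nat_lit 2, nat_lit 3, nat_lit 4, nat_lit 5, nat_lit 10, nat_lit 15, nat_lit 14]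 (Rl.cmp (nat_lit 13) (nat_lit 428)))) (FT.leaf (Fct.mk false (nat_lit 1) (nat_lit 0) (nat_lit 1) [nat_lit 1, nat_lit 2, nat_lit 3, nat_lit 4, nat_lit 5, nat_lit 2, nat_lit 10, nat_lit 1, nat_lit 15, nat_lit 14] (Rl.cmp (nat_lit 19) (nat_lit 429))))))) (FT.node (nat_lit 434) (FT.node (nat_lit 432) (FT.leaf (Fct.mk false (nat_lit 1) (nat_lit 0) (nat_lit 1) [nat_lit 0, nat_lit 1, nat_lit 2, nat_lit 3, nat_lit 4, nat_lit 5, nat_lit 10, nat_lit 1, nat_lit 14, nat_lit 12] (Rl.cmp (nat_lit 23) (nat_lit 430)))) (FT.node (nat_lit 433) (FT.leaf (Fct.mk false (nat_lit 1) (nat_lit 0) (nat_lit 1) [nat_lit 10, nat_lit 1, nat_lit 14] (Rl.cmp (nat_lit 17) (nat_lit 19)))) (FT.leaf (Fct.mk false (nat_lit 1) (nat_lit 0) (nat_lit 1) [nat_lit 3, nat_lit 4, nat_lit 5, nat_lit 6, nat_lit 7, nat_lit 3, nat_lit 1, nat_lit 14] (Rl.cmp (nat_lit 27) (nat_lit 19))))))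 (FT.node (nat_lit 435) (FT.leaf (Fct.mk false (nat_lit 1) (nat_lit 0) (nat_lit 1) [nat_lit 4, nat_lit 2, nat_lit 10, nat_lit 1, nat_lit 14] (Rl.cmp (nat_lit 19) (nat_lit 17)))) (FT.node (nat_lit 436) (FT.leaf (Fct.mk false (nat_lit 1) (nat_lit 0) (nat_lit 1) [nat_lit 4, nat_lit 2, nat_lit 10, nat_lit 1] (Rl.cmp (nat_lit 13) (nat_lit 434)))) (FT.leaf (Fct.mk false (nat_lit 1) (nat_lit 0) (nat_lit 1) [nat_lit 79] (Rl.cmp (nat_lit 15) (nat_lit 13)))))))) (FT.node (nat_lit 443) (FT.node (nat_lit 440) (FT.node (nat_lit 438) (FT.leaf (Fct.mk false (nat_lit 1) (nat_lit 0) (nat_lit 1) [nat_lit 3, nat_lit 4, nat_lit 5, nat_lit 4, nat_lit 10] (Rl.cmp (nat_lit 21) (nat_lit 17)))) (FT.node (nat_lit 439) (FT.leaf (Fct.mk false (nat_lit 1) (nat_lit 0) (nat_lit 1) [nat_lit 4, nat_lit 1] (Rl.cmp (nat_lit 15) (nat_lit 435)))) (FT.leaf (Fct.mk false (nat_lit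 1) (nat_lit 0) (nat_lit 1) [nat_lit 4, nat_lit 2, nat_lit 12, nat_lit 15] (Rl.cmp (nat_lit 23) (nat_lit 438)))))) (FT.node (nat_lit 441) (FT.leaf (Fct.mk false (nat_lit 1) (nat_lit 0) (nat_lit 1) [nat_lit 2, nat_lit 3, nat_lit 4, nat_lit 5, nat_lit 2] (Rl.cmp (nat_lit 15) (nat_lit 21)))) (FT.node (nat_lit 442) (FT.leaf (Fct.mk false (nat_lit 1) (nat_lit 0) (nat_lit 1) [nat_lit 1, nat_lit 2, nat_lit 3, nat_lit 4, nat_lit 5, nat_lit 14] (Rl.cmp (nat_lit 19) (nat_lit 440)))) (FT.leaf (Fct.mk false (nat_lit 1) (nat_lit 0) (nat_lit 1) [nat_lit 0, nat_lit 1, nat_lit 2, nat_lit 3, nat_lit 4, nat_lit 5, nat_lit 0, nat_lit 2, nat_lit 15, nat_lit 14] (Rl.cmp (nat_lit 23) (nat_lit 441))))))) (FT.node (nat_lit 446) (FT.node (nat_lit 444) (FT.leaf (Fct.mk false (nat_lit 4) (nat_lit 0) (nat_lit 4) [nat_lit 2, nat_lit 3, nat_lit 8, nat_lit 4, nat_lit 5, nat_lit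 3, nat_lit 4, nat_lit 2, nat_lit 3, nat_lit 8, nat_lit 1, nat_lit 2, nat_lit 3, nat_lit 4, nat_lit 5, nat_lit 2, nat_lit 8, nat_lit 3, nat_lit 2, nat_lit 8, nat_lit 10, nat_lit 1, nat_lit 8] (Rl.cmp (nat_lit 234) (nat_lit 312)))) (FT.node (nat_lit 445) (FT.leaf (Fct.mk false (nat_lit 4) (nat_lit 0) (nat_lit 4) [nat_lit 2, nat_lit 3, nat_lit 8, nat_lit 4, nat_lit 5, nat_lit 3, nat_lit 4, nat_lit 2, nat_lit 3, nat_lit 8, nat_lit 1, nat_lit 2, nat_lit 3, nat_lit 4, nat_lit 5, nat_lit 3, nat_lit 2, nat_lit 8, nat_lit 3, nat_lit 2, nat_lit 10, nat_lit 1, nat_lit 8] (Rl.cmp (nat_lit 234) (nat_lit 336)))) (FT.leaf (Fct.mk false (nat_lit 2) (nat_lit 0) (nat_lit 2) [nat_lit 8, nat_lit 3, nat_lit 8, nat_lit 10] (Rl.cmp (nat_lit 168) (nat_lit 168)))))) (FT.node (nat_lit 448) (FT.node (nat_lit 447) (FT.leaf (Fct.mk false (nat_lit 2) (nat_lit 0) (nat_lit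 2) [nat_lit 8, nat_lit 3, nat_lit 10, nat_lit 18] (Rl.cmp (nat_lit 86) (nat_lit 445)))) (FT.leaf (Fct.mk false (nat_lit 4) (nat_lit 0) (nat_lit 4) [nat_lit 5, nat_lit 4, nat_lit 3, nat_lit 8, nat_lit 1, nat_lit 2, nat_lit 3, nat_lit 4, nat_lit 5, nat_lit 2, nat_lit 1, nat_lit 4, nat_lit 3, nat_lit 2, nat_lit 8, nat_lit 3, nat_lit 10, nat_lit 1, nat_lit 14, nat_lit 12, nat_lit 18] (Rl.cmp (nat_lit 240) (nat_lit 412))))) (FT.node (nat_lit 449) (FT.leaf (Fct.mk false (nat_lit 4) (nat_lit 0) (nat_lit 4) [nat_lit 5, nat_lit 4, nat_lit 3, nat_lit 8, nat_lit 2, nat_lit 3, nat_lit 4, nat_lit 5, nat_lit 2, nat_lit 1, nat_lit 4, nat_lit 3, nat_lit 2, nat_lit 8, nat_lit 3, nat_lit 8, nat_lit 10, nat_lit 1, nat_lit 14, nat_lit 12, nat_lit 18] (Rl.cmp (nat_lit 312) (nat_lit 234)))) (FT.leaf (Fct.mk false (nat_lit 4) (nat_lit 0) (nat_lit 4) [nat_lit 8, nat_lit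 3, nat_lit 4, nat_lit 5, nat_lit 8, nat_lit 3, nat_lit 8, nat_lit 10, nat_lit 8] (Rl.cmp (nat_lit 243) (nat_lit 448)))))))))

/-- some facts -/
noncomputable def ftc9 : FT := FT.node (nat_lit 475) (FT.node (nat_lit 462) (FT.node (nat_lit 456) (FT.node (nat_lit 453) (FT.node (nat_lit 451) (FT.leaf (Fct.mk false (nat_lit 4) (nat_lit 0) (nat_lit 4) [nat_lit 8, nat_lit 3, nat_lit 4, nat_lit 5, nat_lit 3, nat_lit 10, nat_lit 8] (Rl.cmp (nat_lit 239) (nat_lit 449)))) (FT.node (nat_lit 452) (FT.leaf (Fct.mk false (nat_lit 4) (nat_lit 0) (nat_lit 4) [nat_lit 2, nat_lit 3, nat_lit 8, nat_lit 4, nat_lit 5, nat_lit 3, nat_lit 4, nat_lit 2, nat_lit 3, nat_lit 8, nat_lit 1, nat_lit 2, nat_lit 3, nat_lit 4, nat_lit 5, nat_lit 3, nat_lit 2, nat_lit 1, nat_lit 4, nat_lit 3, nat_lit 2, nat_lit 8, nat_lit 3, nat_lit 1, nat_lit 18] (Rl.cmp (nat_lit 240) (nat_lit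 243)))) (FT.leaf (Fct.mk false (nat_lit 4) (nat_lit 0) (nat_lit 4) [nat_lit 8, nat_lit 3, nat_lit 4, nat_lit 2, nat_lit 3, nat_lit 8, nat_lit 1, nat_lit 2, nat_lit 3, nat_lit 4, nat_lit 5, nat_lit 1, nat_lit 4, nat_lit 3, nat_lit 2, nat_lit 8, nat_lit 3, nat_lit 2, nat_lit 10, nat_lit 1, nat_lit 8, nat_lit 18] (Rl.cmp (nat_lit 241) (nat_lit 368)))))) (FT.node (nat_lit 454) (FT.leaf (Fct.mk false (nat_lit 4) (nat_lit 0) (nat_lit 4) [nat_lit 5, nat_lit 4, nat_lit 3, nat_lit 8, nat_lit 2, nat_lit 3, nat_lit 4, nat_lit 5, nat_lit 2, nat_lit 1, nat_lit 4, nat_lit 3, nat_lit 2, nat_lit 8, nat_lit 3, nat_lit 10, nat_lit 14, nat_lit 12, nat_lit 18] (Rl.cmp (nat_lit 312) (nat_lit 452)))) (FT.node (nat_lit 455) (FT.leaf (Fct.mk false (nat_lit 4) (nat_lit 0) (nat_lit 4) [nat_lit 8, nat_lit 3, nat_lit 4, nat_lit 5, nat_lit 2, nat_lit 1, nat_lit 4, nat_lit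 3, nat_lit 2, nat_lit 8, nat_lit 3, nat_lit 10, nat_lit 1, nat_lit 14, nat_lit 18] (Rl.cmp (nat_lit 312) (nat_lit 423)))) (FT.leaf (Fct.mk false (nat_lit 4) (nat_lit 0) (nat_lit 4) [nat_lit 5, nat_lit 4, nat_lit 3, nat_lit 8, nat_lit 1, nat_lit 2, nat_lit 3, nat_lit 4, nat_lit 5, nat_lit 4, nat_lit 10] (Rl.cmp (nat_lit 243) (nat_lit 454))))))) (FT.node (nat_lit 459) (FT.node (nat_lit 457) (FT.leaf (Fct.mk false (nat_lit 4) (nat_lit 0) (nat_lit 4) [nat_lit 5, nat_lit 4, nat_lit 3, nat_lit 8, nat_lit 2, nat_lit 3, nat_lit 4, nat_lit 5, nat_lit 2, nat_lit 1, nat_lit 4, nat_lit 3, nat_lit 2, nat_lit 8, nat_lit 3, nat_lit 8, nat_lit 10, nat_lit 1, nat_lit 14, nat_lit 12, nat_lit 18] (Rl.cmp (nat_lit 312) (nat_lit 234)))) (FT.node (nat_lit 458) (FT.leaf (Fct.mk false (nat_lit 4) (nat_lit 0) (nat_lit 4) [nat_lit 5, nat_lit 4, nat_lit 3, nat_lit 8,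 nat_lit 1, nat_lit 2, nat_lit 3, nat_lit 4, nat_lit 5, nat_lit 2, nat_lit 1, nat_lit 4, nat_lit 3, nat_lit 2, nat_lit 8, nat_lit 3, nat_lit 8, nat_lit 10, nat_lit 1, nat_lit 14, nat_lit 12, nat_lit 18] (Rl.cmp (nat_lit 240) (nat_lit 448)))) (FT.leaf (Fct.mk false (nat_lit 4) (nat_lit 0) (nat_lit 4) [nat_lit 5, nat_lit 4, nat_lit 3, nat_lit 8, nat_lit 2, nat_lit 3, nat_lit 4, nat_lit 5, nat_lit 2, nat_lit 1, nat_lit 4, nat_lit 3, nat_lit 2, nat_lit 8, nat_lit 3, nat_lit 10, nat_lit 1, nat_lit 14, nat_lit 12, nat_lit 18] (Rl.cmp (nat_lit 312) (nat_lit 427)))))) (FT.node (nat_lit 460) (FT.leaf (Fct.mk false (nat_lit 4) (nat_lit 0) (nat_lit 4) [nat_lit 8, nat_lit 3, nat_lit 4, nat_lit 5, nat_lit 8, nat_lit 3, nat_lit 2, nat_lit 1, nat_lit 4, nat_lit 3, nat_lit 2, nat_lit 8, nat_lit 3, nat_lit 10, nat_lit 1, nat_lit 14, nat_lit 18] (Rl.cmp (nat_lit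 312) (nat_lit 243)))) (FT.node (nat_lit 461) (FT.leaf (Fct.mk true (nat_lit 1) (nat_lit 116) (nat_lit 5) [] (Rl.df))) (FT.leaf (Fct.mk true (nat_lit 5) (nat_lit 116) (nat_lit 1) [] (Rl.inv (nat_lit 460)))))))) (FT.node (nat_lit 468) (FT.node (nat_lit 465) (FT.node (nat_lit 463) (FT.leaf (Fct.mk false (nat_lit 2) (nat_lit 0) (nat_lit 2) [nat_lit 8, nat_lit 10, nat_lit 8] (Rl.cmp (nat_lit 88) (nat_lit 84)))) (FT.node (nat_lit 464) (FT.leaf (Fct.mk false (nat_lit 2) (nat_lit 0) (nat_lit 2) [nat_lit 4, nat_lit 3, nat_lit 2, nat_lit 8, nat_lit 3, nat_lit 8, nat_lit 18] (Rl.cmp (nat_lit 87) (nat_lit 462)))) (FT.leaf (Fct.mk true (nat_lit 2) (nat_lit 2391) (nat_lit 5) [nat_lit 6, nat_lit 5, nat_lit 2, nat_lit 3, nat_lit 4, nat_lit 1, nat_lit 2, nat_lit 3, nat_lit 8, nat_lit 0, nat_lit 1, nat_lit 2, nat_lit 3, nat_lit 4, nat_lit 5, nat_lit 0, nat_lit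 1, nat_lit 9, nat_lit 4, nat_lit 3, nat_lit 2, nat_lit 8, nat_lit 3, nat_lit 0, nat_lit 12, nat_lit 15, nat_lit 14, nat_lit 12] (Rl.rel (nat_lit 0) [nat_lit 3, nat_lit 4, nat_lit 5, nat_lit 2, nat_lit 1, nat_lit 3, nat_lit 2, nat_lit 8, nat_lit 3, nat_lit 1, nat_lit 0, nat_lit 2, nat_lit 12, nat_lit 15, nat_lit 14, nat_lit 16, nat_lit 8, nat_lit 16] (nat_lit 5) (nat_lit 2) [nat_lit 461, nat_lit 55, nat_lit 82] []))))) (FT.node (nat_lit 466) (FT.leaf (Fct.mk true (nat_lit 2) (nat_lit 811) (nat_lit 5) [nat_lit 6, nat_lit 5, nat_lit 4, nat_lit 1, nat_lit 2, nat_lit 3, nat_lit 8, nat_lit 0, nat_lit 1, nat_lit 2, nat_lit 3, nat_lit 4, nat_lit 5, nat_lit 2, nat_lit 1, nat_lit 9, nat_lit 4, nat_lit 3, nat_lit 2, nat_lit 8, nat_lit 3, nat_lit 0, nat_lit 12, nat_lit 15, nat_lit 14, nat_lit 16, nat_lit 8, nat_lit 18, nat_lit 16] (Rl.t1 (nat_lit 464)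 (nat_lit 463)))) (FT.node (nat_lit 467) (FT.leaf (Fct.mk true (nat_lit 5) (nat_lit 115) (nat_lit 2) [nat_lit 2, nat_lit 3, nat_lit 4, nat_lit 1, nat_lit 2, nat_lit 3, nat_lit 8, nat_lit 0, nat_lit 1, nat_lit 2, nat_lit 3, nat_lit 4, nat_lit 5, nat_lit 2, nat_lit 1, nat_lit 3, nat_lit 2, nat_lit 0, nat_lit 1, nat_lit 9, nat_lit 4, nat_lit 3, nat_lit 2, nat_lit 8, nat_lit 3, nat_lit 8, nat_lit 10, nat_lit 9, nat_lit 2, nat_lit 13, nat_lit 19, nat_lit 16] (Rl.inv (nat_lit 465)))) (FT.leaf (Fct.mk false (nat_lit 1) (nat_lit 0) (nat_lit 1) [nat_lit 6, nat_lit 10, nat_lit 0] (Rl.cmp (nat_lit 21) (nat_lit 75))))))) (FT.node (nat_lit 471) (FT.node (nat_lit 469) (FT.leaf (Fct.mk true (nat_lit 4) (nat_lit 781) (nat_lit 5) [nat_lit 3, nat_lit 8, nat_lit 4, nat_lit 5, nat_lit 3, nat_lit 4, nat_lit 1, nat_lit 2, nat_lit 3, nat_lit 8, nat_lit 0, nat_lit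 1, nat_lit 2, nat_lit 3, nat_lit 4, nat_lit 5, nat_lit 2, nat_lit 1, nat_lit 9, nat_lit 4, nat_lit 3, nat_lit 2, nat_lit 8, nat_lit 3, nat_lit 9, nat_lit 2, nat_lit 15, nat_lit 14, nat_lit 16, nat_lit 8] (Rl.rel (nat_lit 0) [nat_lit 3, nat_lit 4, nat_lit 5, nat_lit 2, nat_lit 1, nat_lit 3, nat_lit 2, nat_lit 8, nat_lit 3, nat_lit 1, nat_lit 0, nat_lit 2, nat_lit 12, nat_lit 15, nat_lit 14, nat_lit 16, nat_lit 8, nat_lit 18, nat_lit 16] (nat_lit 5) (nat_lit 2) [nat_lit 461, nat_lit 467, nat_lit 232] []))) (FT.node (nat_lit 470) (FT.leaf (Fct.mk true (nat_lit 4) (nat_lit 70) (nat_lit 5) [nat_lit 2, nat_lit 3, nat_lit 8, nat_lit 0, nat_lit 1, nat_lit 2, nat_lit 3, nat_lit 4, nat_lit 5, nat_lit 3, nat_lit 2, nat_lit 0, nat_lit 1, nat_lit 9, nat_lit 4, nat_lit 3, nat_lit 2, nat_lit 8, nat_lit 3, nat_lit 11, nat_lit 8, nat_lit 16, nat_lit 15, nat_lit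 14, nat_lit 17, nat_lit 12, nat_lit 19, nat_lit 16] (Rl.t1 (nat_lit 468) (nat_lit 447)))) (FT.leaf (Fct.mk false (nat_lit 5) (nat_lit 0) (nat_lit 5) [nat_lit 66] (Rl.rel (nat_lit 0) [nat_lit 3, nat_lit 8, nat_lit 2, nat_lit 3, nat_lit 4, nat_lit 5, nat_lit 1, nat_lit 3, nat_lit 2, nat_lit 8, nat_lit 3, nat_lit 1, nat_lit 0, nat_lit 2, nat_lit 12, nat_lit 15, nat_lit 14, nat_lit 16, nat_lit 8, nat_lit 16] (nat_lit 5) (nat_lit 3) [nat_lit 461, nat_lit 75, nat_lit 232, nat_lit 343, nat_lit 469] []))))) (FT.node (nat_lit 473) (FT.node (nat_lit 472) (FT.leaf (Fct.mk false (nat_lit 1) (nat_lit 0) (nat_lit 1) [nat_lit 6, nat_lit 10, nat_lit 0, nat_lit 15] (Rl.cmp (nat_lit 21) (nat_lit 63)))) (FT.leaf (Fct.mk false (nat_lit 5) (nat_lit 0) (nat_lit 5) [nat_lit 1] (Rl.rel (nat_lit 0) [nat_lit 3, nat_lit 4, nat_lit 5, nat_lit 2, nat_lit 1, nat_lit 3,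 nat_lit 2, nat_lit 8, nat_lit 3, nat_lit 0, nat_lit 12, nat_lit 15, nat_lit 14, nat_lit 16, nat_lit 8, nat_lit 16] (nat_lit 5) (nat_lit 3) [nat_lit 461, nat_lit 471, nat_lit 232, nat_lit 447, nat_lit 469] [])))) (FT.node (nat_lit 474) (FT.leaf (Fct.mk false (nat_lit 1) (nat_lit 0) (nat_lit 1) [nat_lit 6, nat_lit 2, nat_lit 3, nat_lit 9, nat_lit 2, nat_lit 16, nat_lit 14] (Rl.cmp (nat_lit 25) (nat_lit 126)))) (FT.leaf (Fct.mk false (nat_lit 1) (nat_lit 0) (nat_lit 1) [nat_lit 6, nat_lit 2, nat_lit 3, nat_lit 9, nat_lit 16, nat_lit 14] (Rl.cmp (nat_lit 13) (nat_lit 473))))))))) (FT.node (nat_lit 487) (FT.node (nat_lit 481) (FT.node (nat_lit 478) (FT.node (nat_lit 476) (FT.leaf (Fct.mk false (nat_lit 1) (nat_lit 0) (nat_lit 1) [nat_lit 6, nat_lit 2, nat_lit 3, nat_lit 10, nat_lit 16, nat_lit 14, nat_lit 12] (Rl.cmp (nat_lit 21) (nat_lit 474))))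 (FT.node (nat_lit 477) (FT.leaf (Fct.mk false (nat_lit 1) (nat_lit 0) (nat_lit 1) [nat_lit 6, nat_lit 1, nat_lit 2, nat_lit 3, nat_lit 10, nat_lit 0, nat_lit 16, nat_lit 12, nat_lit 15, nat_lit 14, nat_lit 12] (Rl.cmp (nat_lit 23) (nat_lit 475)))) (FT.leaf (Fct.mk false (nat_lit 1) (nat_lit 0) (nat_lit 1) [nat_lit 6, nat_lit 1, nat_lit 2, nat_lit 3, nat_lit 0, nat_lit 2, nat_lit 12, nat_lit 15, nat_lit 14, nat_lit 12] (Rl.cmp (nat_lit 21) (nat_lit 476)))))) (FT.node (nat_lit 479) (FT.leaf (Fct.mk true (nat_lit 4) (nat_lit 1174) (nat_lit 5) [nat_lit 3, nat_lit 4, nat_lit 5, nat_lit 2, nat_lit 3, nat_lit 4, nat_lit 1, nat_lit 2, nat_lit 3, nat_lit 8, nat_lit 0, nat_lit 1, nat_lit 2, nat_lit 3, nat_lit 4, nat_lit 5, nat_lit 11, nat_lit 10, nat_lit 8, nat_lit 16, nat_lit 14, nat_lit 17, nat_lit 19, nat_lit 16] (Rl.rel (nat_lit 0) [nat_lit 3, nat_lit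 4, nat_lit 5, nat_lit 8, nat_lit 3, nat_lit 2, nat_lit 1, nat_lit 4, nat_lit 3, nat_lit 2, nat_lit 8, nat_lit 3, nat_lit 1, nat_lit 0, nat_lit 2, nat_lit 12, nat_lit 15, nat_lit 14, nat_lit 16, nat_lit 8, nat_lit 16] (nat_lit 5) (nat_lit 2) [nat_lit 461, nat_lit 477, nat_lit 232] []))) (FT.node (nat_lit 480) (FT.leaf (Fct.mk true (nat_lit 4) (nat_lit 30) (nat_lit 5) [nat_lit 8, nat_lit 0, nat_lit 1, nat_lit 2, nat_lit 3, nat_lit 4, nat_lit 5, nat_lit 8, nat_lit 3, nat_lit 2, nat_lit 0, nat_lit 1, nat_lit 4, nat_lit 3, nat_lit 2, nat_lit 8, nat_lit 3, nat_lit 11, nat_lit 16, nat_lit 15, nat_lit 14, nat_lit 17, nat_lit 12, nat_lit 18] (Rl.t1 (nat_lit 478) (nat_lit 349)))) (FT.leaf (Fct.mk true (nat_lit 5) (nat_lit 768) (nat_lit 4) [nat_lit 2, nat_lit 3, nat_lit 4, nat_lit 1, nat_lit 2, nat_lit 3, nat_lit 8, nat_lit 0, nat_lit 1, nat_lit 2, nat_lit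 3, nat_lit 4, nat_lit 5, nat_lit 1, nat_lit 2, nat_lit 0, nat_lit 1, nat_lit 9, nat_lit 4, nat_lit 3, nat_lit 2, nat_lit 8, nat_lit 3, nat_lit 11, nat_lit 8, nat_lit 10, nat_lit 16, nat_lit 12, nat_lit 15, nat_lit 14, nat_lit 12, nat_lit 18, nat_lit 16] (Rl.inv (nat_lit 479))))))) (FT.node (nat_lit 484) (FT.node (nat_lit 482) (FT.leaf (Fct.mk true (nat_lit 5) (nat_lit 392) (nat_lit 4) [nat_lit 5, nat_lit 2, nat_lit 3, nat_lit 4, nat_lit 1, nat_lit 2, nat_lit 3, nat_lit 8, nat_lit 0, nat_lit 1, nat_lit 2, nat_lit 3, nat_lit 4, nat_lit 5, nat_lit 1, nat_lit 2, nat_lit 0, nat_lit 1, nat_lit 9, nat_lit 4, nat_lit 3, nat_lit 2, nat_lit 8, nat_lit 3, nat_lit 11, nat_lit 2, nat_lit 8, nat_lit 10, nat_lit 1, nat_lit 16, nat_lit 15, nat_lit 14, nat_lit 12, nat_lit 18, nat_lit 16] (Rl.t1 (nat_lit 480) (nat_lit 470)))) (FT.node (nat_lit 483) (FT.leaf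 (Fct.mk false (nat_lit 1) (nat_lit 0) (nat_lit 1) [nat_lit 4, nat_lit 2, nat_lit 10, nat_lit 1, nat_lit 14] (Rl.cmp (nat_lit 19) (nat_lit 17)))) (FT.leaf (Fct.mk false (nat_lit 1) (nat_lit 0) (nat_lit 1) [nat_lit 4, nat_lit 1, nat_lit 14] (Rl.cmp (nat_lit 15) (nat_lit 482)))))) (FT.node (nat_lit 485) (FT.leaf (Fct.mk false (nat_lit 1) (nat_lit 0) (nat_lit 1) [nat_lit 4, nat_lit 10, nat_lit 1] (Rl.cmp (nat_lit 15) (nat_lit 483)))) (FT.node (nat_lit 486) (FT.leaf (Fct.mk true (nat_lit 3) (nat_lit 980) (nat_lit 5) [nat_lit 2, nat_lit 0, nat_lit 1, nat_lit 4, nat_lit 3, nat_lit 2, nat_lit 8, nat_lit 3, nat_lit 1, nat_lit 0, nat_lit 2, nat_lit 15, nat_lit 8] (Rl.rel (nat_lit 0) [nat_lit 3, nat_lit 8, nat_lit 2, nat_lit 3, nat_lit 4, nat_lit 5, nat_lit 1, nat_lit 3, nat_lit 2, nat_lit 8, nat_lit 3, nat_lit 0, nat_lit 2, nat_lit 12, nat_lit 15, nat_lit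 14, nat_lit 16, nat_lit 8, nat_lit 18, nat_lit 16] (nat_lit 5) (nat_lit 2) [nat_lit 461, nat_lit 76, nat_lit 182] []))) (FT.leaf (Fct.mk true (nat_lit 3) (nat_lit 1) (nat_lit 5) [nat_lit 1, nat_lit 2, nat_lit 3, nat_lit 8, nat_lit 0, nat_lit 1, nat_lit 2, nat_lit 3, nat_lit 4, nat_lit 5, nat_lit 2, nat_lit 1, nat_lit 4, nat_lit 3, nat_lit 2, nat_lit 8, nat_lit 3, nat_lit 11, nat_lit 2, nat_lit 16, nat_lit 15, nat_lit 14, nat_lit 17, nat_lit 12, nat_lit 18] (Rl.t1 (nat_lit 485) (nat_lit 231)))))))) (FT.node (nat_lit 493) (FT.node (nat_lit 490) (FT.node (nat_lit 488) (FT.leaf (Fct.mk true (nat_lit 5) (nat_lit 195) (nat_lit 3) [nat_lit 2, nat_lit 3, nat_lit 4, nat_lit 1, nat_lit 2, nat_lit 3, nat_lit 8, nat_lit 0, nat_lit 1, nat_lit 2, nat_lit 3, nat_lit 4, nat_lit 5, nat_lit 4, nat_lit 3, nat_lit 2, nat_lit 8, nat_lit 3, nat_lit 10, nat_lit 9,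 nat_lit 2, nat_lit 16, nat_lit 15, nat_lit 14, nat_lit 8, nat_lit 19] (Rl.inv (nat_lit 486)))) (FT.node (nat_lit 489) (FT.leaf (Fct.mk false (nat_lit 5) (nat_lit 0) (nat_lit 5) [nat_lit 67] (Rl.rel (nat_lit 0) [nat_lit 3, nat_lit 8, nat_lit 2, nat_lit 3, nat_lit 4, nat_lit 5, nat_lit 3, nat_lit 2, nat_lit 1, nat_lit 4, nat_lit 3, nat_lit 2, nat_lit 8, nat_lit 3, nat_lit 1, nat_lit 0, nat_lit 2, nat_lit 15, nat_lit 14, nat_lit 16, nat_lit 8, nat_lit 16] (nat_lit 5) (nat_lit 3) [nat_lit 461, nat_lit 131, nat_lit 232, nat_lit 349, nat_lit 479] []))) (FT.leaf (Fct.mk true (nat_lit 5) (nat_lit 391) (nat_lit 4) [nat_lit 2, nat_lit 3, nat_lit 4, nat_lit 1, nat_lit 2, nat_lit 3, nat_lit 8, nat_lit 0, nat_lit 1, nat_lit 2, nat_lit 3, nat_lit 4, nat_lit 5, nat_lit 1, nat_lit 2, nat_lit 0, nat_lit 1, nat_lit 9, nat_lit 4, nat_lit 3, nat_lit 2, nat_lit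 8, nat_lit 3, nat_lit 11, nat_lit 2, nat_lit 10, nat_lit 1, nat_lit 16, nat_lit 15, nat_lit 14, nat_lit 12, nat_lit 18, nat_lit 16] (Rl.t1 (nat_lit 481) (nat_lit 488)))))) (FT.node (nat_lit 491) (FT.leaf (Fct.mk false (nat_lit 1) (nat_lit 0) (nat_lit 1) [nat_lit 6, nat_lit 2, nat_lit 3, nat_lit 11, nat_lit 10, nat_lit 1, nat_lit 13] (Rl.cmp (nat_lit 17) (nat_lit 128)))) (FT.node (nat_lit 492) (FT.leaf (Fct.mk false (nat_lit 1) (nat_lit 0) (nat_lit 1) [nat_lit 6, nat_lit 2, nat_lit 3, nat_lit 11, nat_lit 1, nat_lit 14, nat_lit 13] (Rl.cmp (nat_lit 17) (nat_lit 490)))) (FT.leaf (Fct.mk false (nat_lit 1) (nat_lit 0) (nat_lit 1) [nat_lit 3, nat_lit 4, nat_lit 5, nat_lit 2, nat_lit 3, nat_lit 11, nat_lit 1, nat_lit 14, nat_lit 13] (Rl.cmp (nat_lit 25) (nat_lit 491))))))) (FT.node (nat_lit 496) (FT.node (nat_lit 494) (FT.leaf (Fct.mk false (nat_lit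 5) (nat_lit 0) (nat_lit 5) [nat_lit 68] (Rl.rel (nat_lit 0) [nat_lit 3, nat_lit 4, nat_lit 5, nat_lit 8, nat_lit 3, nat_lit 2, nat_lit 1, nat_lit 4, nat_lit 3, nat_lit 2, nat_lit 8, nat_lit 3, nat_lit 11, nat_lit 1, nat_lit 16, nat_lit 15, nat_lit 14, nat_lit 17, nat_lit 12, nat_lit 19, nat_lit 16] (nat_lit 5) (nat_lit 3) [nat_lit 461, nat_lit 492, nat_lit 232, nat_lit 457, nat_lit 479] []))) (FT.node (nat_lit 495) (FT.leaf (Fct.mk true (nat_lit 5) (nat_lit 145) (nat_lit 5) [nat_lit 3, nat_lit 1] (Rl.rel (nat_lit 0) [nat_lit 3, nat_lit 8, nat_lit 2, nat_lit 3, nat_lit 4, nat_lit 5, nat_lit 3, nat_lit 2, nat_lit 1, nat_lit 4, nat_lit 3, nat_lit 2, nat_lit 8, nat_lit 3, nat_lit 1, nat_lit 0, nat_lit 2, nat_lit 15, nat_lit 14, nat_lit 16, nat_lit 8, nat_lit 18, nat_lit 16] (nat_lit 5) (nat_lit 2) [nat_lit 461, nat_lit 192, nat_lit 460] []))) (FT.leaf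 (Fct.mk false (nat_lit 1) (nat_lit 0) (nat_lit 1) [nat_lit 3, nat_lit 4, nat_lit 5, nat_lit 6, nat_lit 7, nat_lit 6, nat_lit 4, nat_lit 9, nat_lit 16] (Rl.cmp (nat_lit 27) (nat_lit 25)))))) (FT.node (nat_lit 498) (FT.node (nat_lit 497) (FT.leaf (Fct.mk false (nat_lit 1) (nat_lit 0) (nat_lit 1) [nat_lit 4, nat_lit 5, nat_lit 6, nat_lit 7, nat_lit 6, nat_lit 9, nat_lit 4, nat_lit 10, nat_lit 16] (Rl.cmp (nat_lit 25) (nat_lit 495)))) (FT.leaf (Fct.mk false (nat_lit 1) (nat_lit 0) (nat_lit 1) [nat_lit 5, nat_lit 6, nat_lit 7, nat_lit 6, nat_lit 9, nat_lit 4] (Rl.cmp (nat_lit 21) (nat_lit 496))))) (FT.node (nat_lit 499) (FT.leaf (Fct.mk false (nat_lit 1) (nat_lit 0) (nat_lit 1) [nat_lit 6, nat_lit 7, nat_lit 6, nat_lit 3] (Rl.cmp (nat_lit 25) (nat_lit 497)))) (FT.leaf (Fct.mk true (nat_lit 5) (nat_lit 654) (nat_lit 5) [nat_lit 3] (Rl.rel (nat_lit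 0) [nat_lit 8, nat_lit 3, nat_lit 4, nat_lit 5, nat_lit 6, nat_lit 7, nat_lit 8, nat_lit 3, nat_lit 4, nat_lit 5, nat_lit 2, nat_lit 1, nat_lit 3, nat_lit 2, nat_lit 8, nat_lit 3, nat_lit 1, nat_lit 0, nat_lit 2, nat_lit 12, nat_lit 15, nat_lit 14, nat_lit 16, nat_lit 8, nat_lit 16] (nat_lit 5) (nat_lit 2) [nat_lit 461, nat_lit 498, nat_lit 460] []))))))))

/-- some facts -/
noncomputable def ftc10 : FT := FT.node (nat_lit 525) (FT.node (nat_lit 512) (FT.node (nat_lit 506) (FT.node (nat_lit 503) (FT.node (nat_lit 501) (FT.leaf (Fct.mk false (nat_lit 1) (nat_lit 0) (nat_lit 1) [nat_lit 4, nat_lit 5, nat_lit 9, nat_lit 4, nat_lit 16] (Rl.cmp (nat_lit 25) (nat_lit 196)))) (FT.node (nat_lit 502) (FT.leaf (Fct.mk false (nat_lit 5) (nat_lit 0) (nat_lit 5) [nat_lit 5, nat_lit 11, nat_lit 10, nat_lit 16, nat_lit 15, nat_lit 14, nat_lit 13, nat_lit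 16] (Rl.cmp (nat_lit 472) (nat_lit 470)))) (FT.leaf (Fct.mk false (nat_lit 5) (nat_lit 0) (nat_lit 5) [nat_lit 3, nat_lit 11, nat_lit 10, nat_lit 16, nat_lit 15, nat_lit 14, nat_lit 13, nat_lit 16] (Rl.cmp (nat_lit 488) (nat_lit 501)))))) (FT.node (nat_lit 504) (FT.leaf (Fct.mk false (nat_lit 5) (nat_lit 0) (nat_lit 5) [nat_lit 3, nat_lit 1] (Rl.cmp (nat_lit 493) (nat_lit 502)))) (FT.node (nat_lit 505) (FT.leaf (Fct.mk true (nat_lit 5) (nat_lit 779) (nat_lit 5) [nat_lit 1, nat_lit 2, nat_lit 3, nat_lit 10, nat_lit 0, nat_lit 15, nat_lit 14, nat_lit 12, nat_lit 18] (Rl.rel (nat_lit 0) [nat_lit 3, nat_lit 8, nat_lit 2, nat_lit 3, nat_lit 4, nat_lit 5, nat_lit 3, nat_lit 2, nat_lit 1, nat_lit 4, nat_lit 3, nat_lit 2, nat_lit 8, nat_lit 3, nat_lit 1, nat_lit 0, nat_lit 2, nat_lit 8, nat_lit 12, nat_lit 15, nat_lit 14, nat_lit 16, nat_lit 8, nat_lit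 19] (nat_lit 5) (nat_lit 2) [nat_lit 461, nat_lit 280, nat_lit 460] []))) (FT.leaf (Fct.mk true (nat_lit 5) (nat_lit 571) (nat_lit 5) [nat_lit 2, nat_lit 3, nat_lit 10, nat_lit 0, nat_lit 12, nat_lit 15, nat_lit 14, nat_lit 12, nat_lit 18] (Rl.t1 (nat_lit 504) (nat_lit 503))))))) (FT.node (nat_lit 509) (FT.node (nat_lit 507) (FT.leaf (Fct.mk false (nat_lit 1) (nat_lit 0) (nat_lit 1) [nat_lit 14] (Rl.cmp (nat_lit 15) (nat_lit 266)))) (FT.node (nat_lit 508) (FT.leaf (Fct.mk false (nat_lit 1) (nat_lit 0) (nat_lit 1) [nat_lit 3, nat_lit 0, nat_lit 2, nat_lit 15, nat_lit 14] (Rl.cmp (nat_lit 23) (nat_lit 506)))) (FT.leaf (Fct.mk false (nat_lit 1) (nat_lit 0) (nat_lit 1) [nat_lit 6, nat_lit 4, nat_lit 9, nat_lit 2, nat_lit 16] (Rl.cmp (nat_lit 13) (nat_lit 214)))))) (FT.node (nat_lit 510) (FT.leaf (Fct.mk false (nat_lit 1) (nat_lit 0) (nat_lit 1)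 [nat_lit 6, nat_lit 4, nat_lit 11, nat_lit 10, nat_lit 1, nat_lit 14, nat_lit 13, nat_lit 16] (Rl.cmp (nat_lit 23) (nat_lit 508)))) (FT.node (nat_lit 511) (FT.leaf (Fct.mk false (nat_lit 1) (nat_lit 0) (nat_lit 1) [nat_lit 6, nat_lit 9, nat_lit 4, nat_lit 11, nat_lit 1, nat_lit 16, nat_lit 14, nat_lit 13, nat_lit 16] (Rl.cmp (nat_lit 21) (nat_lit 509)))) (FT.leaf (Fct.mk false (nat_lit 5) (nat_lit 0) (nat_lit 5) [nat_lit 69] (Rl.rel (nat_lit 0) [nat_lit 8, nat_lit 3, nat_lit 4, nat_lit 2, nat_lit 3, nat_lit 8, nat_lit 1, nat_lit 2, nat_lit 3, nat_lit 4, nat_lit 5, nat_lit 2, nat_lit 1, nat_lit 4, nat_lit 3, nat_lit 2, nat_lit 8, nat_lit 3, nat_lit 1, nat_lit 0, nat_lit 2, nat_lit 12, nat_lit 15, nat_lit 14, nat_lit 16, nat_lit 8, nat_lit 16] (nat_lit 5) (nat_lit 3) [nat_lit 461, nat_lit 510, nat_lit 460, nat_lit 493, nat_lit 505] [])))))))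 (FT.node (nat_lit 518) (FT.node (nat_lit 515) (FT.node (nat_lit 513) (FT.leaf (Fct.mk true (nat_lit 5) (nat_lit 56) (nat_lit 2) [nat_lit 8, nat_lit 3, nat_lit 4, nat_lit 5, nat_lit 4, nat_lit 3, nat_lit 2, nat_lit 1, nat_lit 8, nat_lit 3, nat_lit 2, nat_lit 0, nat_lit 1, nat_lit 4, nat_lit 3, nat_lit 2, nat_lit 8, nat_lit 3, nat_lit 10, nat_lit 9, nat_lit 2, nat_lit 17, nat_lit 16] (Rl.t1 (nat_lit 466) (nat_lit 511)))) (FT.node (nat_lit 514) (FT.leaf (Fct.mk true (nat_lit 5) (nat_lit 54) (nat_lit 4) [nat_lit 8, nat_lit 3, nat_lit 4, nat_lit 5, nat_lit 3, nat_lit 2, nat_lit 1, nat_lit 4, nat_lit 3, nat_lit 2, nat_lit 8, nat_lit 3, nat_lit 11, nat_lit 10, nat_lit 16, nat_lit 15, nat_lit 14, nat_lit 12, nat_lit 18, nat_lit 16] (Rl.t1 (nat_lit 489) (nat_lit 511)))) (FT.leaf (Fct.mk true (nat_lit 5) (nat_lit 518) (nat_lit 5) [nat_lit 6, nat_lit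 1, nat_lit 2, nat_lit 3, nat_lit 9, nat_lit 2, nat_lit 12, nat_lit 15, nat_lit 14, nat_lit 12] (Rl.t1 (nat_lit 499) (nat_lit 511)))))) (FT.node (nat_lit 516) (FT.leaf (Fct.mk false (nat_lit 5) (nat_lit 0) (nat_lit 5) [nat_lit 5, nat_lit 11, nat_lit 10, nat_lit 16, nat_lit 15, nat_lit 14, nat_lit 13, nat_lit 16] (Rl.cmp (nat_lit 472) (nat_lit 470)))) (FT.node (nat_lit 517) (FT.leaf (Fct.mk false (nat_lit 5) (nat_lit 0) (nat_lit 5) [nat_lit 5, nat_lit 1] (Rl.cmp (nat_lit 493) (nat_lit 515)))) (FT.leaf (Fct.mk false (nat_lit 5) (nat_lit 0) (nat_lit 5) [nat_lit 0, nat_lit 1, nat_lit 2, nat_lit 3, nat_lit 4, nat_lit 5, nat_lit 1, nat_lit 2, nat_lit 3, nat_lit 11, nat_lit 15, nat_lit 14, nat_lit 13] (Rl.cmp (nat_lit 511) (nat_lit 472))))))) (FT.node (nat_lit 521) (FT.node (nat_lit 519) (FT.leaf (Fct.mk false (nat_lit 1) (nat_lit 0) (nat_lit 1) [nat_lit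 3, nat_lit 4, nat_lit 5, nat_lit 4, nat_lit 10] (Rl.cmp (nat_lit 21) (nat_lit 17)))) (FT.node (nat_lit 520) (FT.leaf (Fct.mk false (nat_lit 1) (nat_lit 0) (nat_lit 1) [nat_lit 6, nat_lit 9, nat_lit 4, nat_lit 11, nat_lit 16, nat_lit 14, nat_lit 13, nat_lit 16] (Rl.cmp (nat_lit 21) (nat_lit 156)))) (FT.leaf (Fct.mk false (nat_lit 1) (nat_lit 0) (nat_lit 1) [nat_lit 2, nat_lit 12] (Rl.cmp (nat_lit 17) (nat_lit 15)))))) (FT.node (nat_lit 523) (FT.node (nat_lit 522) (FT.leaf (Fct.mk false (nat_lit 1) (nat_lit 0) (nat_lit 1) [nat_lit 2, nat_lit 3, nat_lit 4, nat_lit 5, nat_lit 6, nat_lit 7, nat_lit 1, nat_lit 14] (Rl.cmp (nat_lit 19) (nat_lit 27)))) (FT.leaf (Fct.mk false (nat_lit 1) (nat_lit 0) (nat_lit 1) [nat_lit 3, nat_lit 4, nat_lit 5, nat_lit 6, nat_lit 7, nat_lit 3, nat_lit 2] (Rl.cmp (nat_lit 27) (nat_lit 15))))) (FT.node (nat_lit 524) (FT.leaf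 (Fct.mk false (nat_lit 1) (nat_lit 0) (nat_lit 1) [nat_lit 3, nat_lit 4, nat_lit 5, nat_lit 3, nat_lit 1, nat_lit 14] (Rl.cmp (nat_lit 21) (nat_lit 19)))) (FT.leaf (Fct.mk false (nat_lit 1) (nat_lit 0) (nat_lit 1) [nat_lit 79] (Rl.cmp (nat_lit 15) (nat_lit 13))))))))) (FT.node (nat_lit 537) (FT.node (nat_lit 531) (FT.node (nat_lit 528) (FT.node (nat_lit 526) (FT.leaf (Fct.mk true (nat_lit 5) (nat_lit 1006) (nat_lit 5) [nat_lit 6, nat_lit 2, nat_lit 3, nat_lit 12, nat_lit 15, nat_lit 14, nat_lit 12] (Rl.rel (nat_lit 0) [nat_lit 3, nat_lit 8, nat_lit 4, nat_lit 5, nat_lit 3, nat_lit 4, nat_lit 2, nat_lit 3, nat_lit 8, nat_lit 1, nat_lit 2, nat_lit 3, nat_lit 4, nat_lit 5, nat_lit 1, nat_lit 4, nat_lit 3, nat_lit 2, nat_lit 8, nat_lit 3, nat_lit 10, nat_lit 1, nat_lit 8, nat_lit 18] (nat_lit 5) (nat_lit 2) [nat_lit 513, nat_lit 450, nat_lit 479]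 []))) (FT.node (nat_lit 527) (FT.leaf (Fct.mk true (nat_lit 5) (nat_lit 723) (nat_lit 5) [nat_lit 5, nat_lit 1] (Rl.t1 (nat_lit 525) (nat_lit 511)))) (FT.leaf (Fct.mk false (nat_lit 5) (nat_lit 0) (nat_lit 5) [nat_lit 3, nat_lit 11, nat_lit 10, nat_lit 1, nat_lit 16, nat_lit 15, nat_lit 14, nat_lit 13, nat_lit 16] (Rl.cmp (nat_lit 488) (nat_lit 470)))))) (FT.node (nat_lit 529) (FT.leaf (Fct.mk false (nat_lit 5) (nat_lit 0) (nat_lit 5) [nat_lit 3, nat_lit 11, nat_lit 10, nat_lit 1, nat_lit 16, nat_lit 15, nat_lit 14, nat_lit 13, nat_lit 16] (Rl.cmp (nat_lit 488) (nat_lit 470)))) (FT.node (nat_lit 530) (FT.leaf (Fct.mk false (nat_lit 5) (nat_lit 0) (nat_lit 5) [nat_lit 6, nat_lit 1, nat_lit 2, nat_lit 3, nat_lit 2, nat_lit 12, nat_lit 15, nat_lit 14, nat_lit 12] (Rl.cmp (nat_lit 511) (nat_lit 488)))) (FT.leaf (Fct.mk true (nat_lit 5) (nat_lit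 6) (nat_lit 5) [nat_lit 69] (Rl.rel (nat_lit 0) [nat_lit 3, nat_lit 4, nat_lit 5, nat_lit 2, nat_lit 1, nat_lit 3, nat_lit 2, nat_lit 8, nat_lit 3, nat_lit 1, nat_lit 0, nat_lit 2, nat_lit 12, nat_lit 15, nat_lit 14] (nat_lit 5) (nat_lit 2) [nat_lit 512, nat_lit 84, nat_lit 465] [])))))) (FT.node (nat_lit 534) (FT.node (nat_lit 532) (FT.leaf (Fct.mk false (nat_lit 2) (nat_lit 0) (nat_lit 2) [nat_lit 3, nat_lit 2, nat_lit 8, nat_lit 3, nat_lit 2, nat_lit 8] (Rl.cmp (nat_lit 87) (nat_lit 86)))) (FT.node (nat_lit 533) (FT.leaf (Fct.mk false (nat_lit 5) (nat_lit 0) (nat_lit 5) [nat_lit 70] (Rl.cmp (nat_lit 511) (nat_lit 470)))) (FT.leaf (Fct.mk false (nat_lit 5) (nat_lit 0) (nat_lit 5) [nat_lit 6, nat_lit 1, nat_lit 2, nat_lit 3, nat_lit 2, nat_lit 12, nat_lit 15, nat_lit 14, nat_lit 12] (Rl.cmp (nat_lit 511) (nat_lit 488)))))) (FT.node (nat_lit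 535) (FT.leaf (Fct.mk false (nat_lit 5) (nat_lit 0) (nat_lit 5) [nat_lit 3, nat_lit 11, nat_lit 10, nat_lit 1, nat_lit 16, nat_lit 15, nat_lit 14, nat_lit 13, nat_lit 16] (Rl.cmp (nat_lit 488) (nat_lit 470)))) (FT.node (nat_lit 536) (FT.leaf (Fct.mk false (nat_lit 3) (nat_lit 0) (nat_lit 3) [nat_lit 4, nat_lit 5, nat_lit 4, nat_lit 11, nat_lit 13] (Rl.cmp (nat_lit 206) (nat_lit 206)))) (FT.leaf (Fct.mk false (nat_lit 3) (nat_lit 0) (nat_lit 3) [nat_lit 3, nat_lit 11, nat_lit 13] (Rl.cmp (nat_lit 195) (nat_lit 535)))))))) (FT.node (nat_lit 543) (FT.node (nat_lit 540) (FT.node (nat_lit 538) (FT.leaf (Fct.mk true (nat_lit 1) (nat_lit 1227) (nat_lit 6) [] (Rl.df))) (FT.node (nat_lit 539) (FT.leaf (Fct.mk true (nat_lit 6) (nat_lit 1227) (nat_lit 1) [] (Rl.inv (nat_lit 537)))) (FT.leaf (Fct.mk false (nat_lit 2) (nat_lit 0) (nat_lit 2) [nat_lit 2,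 nat_lit 3, nat_lit 2, nat_lit 8] (Rl.cmp (nat_lit 87) (nat_lit 88)))))) (FT.node (nat_lit 541) (FT.leaf (Fct.mk false (nat_lit 2) (nat_lit 0) (nat_lit 2) [nat_lit 6, nat_lit 2, nat_lit 8, nat_lit 3, nat_lit 8, nat_lit 18] (Rl.cmp (nat_lit 168) (nat_lit 539)))) (FT.node (nat_lit 542) (FT.leaf (Fct.mk true (nat_lit 2) (nat_lit 16438) (nat_lit 6) [nat_lit 5, nat_lit 6, nat_lit 7, nat_lit 3, nat_lit 4, nat_lit 5, nat_lit 1, nat_lit 8, nat_lit 3, nat_lit 2, nat_lit 0, nat_lit 1, nat_lit 4, nat_lit 3, nat_lit 2, nat_lit 8, nat_lit 3, nat_lit 8, nat_lit 10, nat_lit 8, nat_lit 12, nat_lit 15, nat_lit 14, nat_lit 13, nat_lit 12, nat_lit 19] (Rl.rel (nat_lit 0) [nat_lit 3, nat_lit 4, nat_lit 5, nat_lit 2, nat_lit 3, nat_lit 4, nat_lit 1, nat_lit 2, nat_lit 3, nat_lit 8, nat_lit 0, nat_lit 1, nat_lit 2, nat_lit 3, nat_lit 4, nat_lit 5, nat_lit 6, nat_lit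 7, nat_lit 5, nat_lit 4, nat_lit 3, nat_lit 8, nat_lit 2, nat_lit 3, nat_lit 4, nat_lit 5, nat_lit 3, nat_lit 10, nat_lit 16, nat_lit 8] (nat_lit 6) (nat_lit 2) [nat_lit 538, nat_lit 57, nat_lit 82] []))) (FT.leaf (Fct.mk true (nat_lit 2) (nat_lit 16187) (nat_lit 6) [nat_lit 8, nat_lit 2, nat_lit 3, nat_lit 4, nat_lit 5, nat_lit 6, nat_lit 7, nat_lit 8, nat_lit 2, nat_lit 3, nat_lit 4, nat_lit 5, nat_lit 1, nat_lit 3, nat_lit 2, nat_lit 0, nat_lit 1, nat_lit 4, nat_lit 3, nat_lit 2, nat_lit 8, nat_lit 3, nat_lit 8, nat_lit 10, nat_lit 1, nat_lit 8, nat_lit 12, nat_lit 15, nat_lit 14, nat_lit 13, nat_lit 12, nat_lit 19] (Rl.t1 (nat_lit 541) (nat_lit 540))))))) (FT.node (nat_lit 546) (FT.node (nat_lit 544) (FT.leaf (Fct.mk true (nat_lit 6) (nat_lit 1220) (nat_lit 2) [nat_lit 8, nat_lit 6, nat_lit 4, nat_lit 5, nat_lit 3, nat_lit 4, nat_lit 1,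 nat_lit 2, nat_lit 3, nat_lit 8, nat_lit 0, nat_lit 1, nat_lit 2, nat_lit 3, nat_lit 4, nat_lit 5, nat_lit 6, nat_lit 7, nat_lit 4, nat_lit 3, nat_lit 8, nat_lit 1, nat_lit 2, nat_lit 3, nat_lit 4, nat_lit 5, nat_lit 1, nat_lit 2, nat_lit 0, nat_lit 1, nat_lit 4, nat_lit 3, nat_lit 2, nat_lit 8, nat_lit 3, nat_lit 10, nat_lit 9, nat_lit 2, nat_lit 8, nat_lit 18] (Rl.inv (nat_lit 542)))) (FT.node (nat_lit 545) (FT.leaf (Fct.mk false (nat_lit 1) (nat_lit 0) (nat_lit 1) [nat_lit 6, nat_lit 7, nat_lit 3, nat_lit 4, nat_lit 5, nat_lit 9, nat_lit 4, nat_lit 0, nat_lit 2, nat_lit 12, nat_lit 15, nat_lit 16] (Rl.cmp (nat_lit 27) (nat_lit 268)))) (FT.leaf (Fct.mk false (nat_lit 1) (nat_lit 0) (nat_lit 1) [nat_lit 7, nat_lit 4, nat_lit 5, nat_lit 9, nat_lit 4, nat_lit 11, nat_lit 10, nat_lit 16, nat_lit 14, nat_lit 13, nat_lit 16] (Rl.cmp (nat_lit 25)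 (nat_lit 544)))))) (FT.node (nat_lit 548) (FT.node (nat_lit 547) (FT.leaf (Fct.mk true (nat_lit 5) (nat_lit 6382) (nat_lit 6) [nat_lit 7, nat_lit 6, nat_lit 5, nat_lit 4, nat_lit 3, nat_lit 8, nat_lit 0, nat_lit 1, nat_lit 2, nat_lit 3, nat_lit 4, nat_lit 5, nat_lit 6, nat_lit 7, nat_lit 8, nat_lit 3, nat_lit 4, nat_lit 5, nat_lit 4, nat_lit 8, nat_lit 10, nat_lit 9, nat_lit 2, nat_lit 12, nat_lit 16] (Rl.rel (nat_lit 0) [nat_lit 8, nat_lit 4, nat_lit 5, nat_lit 2, nat_lit 3, nat_lit 4, nat_lit 1, nat_lit 2, nat_lit 3, nat_lit 8, nat_lit 0, nat_lit 1, nat_lit 2, nat_lit 3, nat_lit 4, nat_lit 5, nat_lit 6, nat_lit 7, nat_lit 5, nat_lit 4, nat_lit 3, nat_lit 8, nat_lit 0, nat_lit 1, nat_lit 2, nat_lit 3, nat_lit 4, nat_lit 5, nat_lit 1, nat_lit 3, nat_lit 2, nat_lit 0, nat_lit 1, nat_lit 4, nat_lit 3, nat_lit 2, nat_lit 8, nat_lit 3, nat_lit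 8, nat_lit 10, nat_lit 1, nat_lit 8, nat_lit 12, nat_lit 15, nat_lit 14, nat_lit 16, nat_lit 8] (nat_lit 6) (nat_lit 2) [nat_lit 538, nat_lit 545, nat_lit 460] []))) (FT.leaf (Fct.mk true (nat_lit 5) (nat_lit 5367) (nat_lit 6) [nat_lit 7, nat_lit 6, nat_lit 5, nat_lit 2, nat_lit 3, nat_lit 4, nat_lit 1, nat_lit 2, nat_lit 3, nat_lit 8, nat_lit 0, nat_lit 1, nat_lit 2, nat_lit 3, nat_lit 4, nat_lit 5, nat_lit 6, nat_lit 7, nat_lit 9, nat_lit 4, nat_lit 10, nat_lit 9, nat_lit 2, nat_lit 12, nat_lit 18, nat_lit 16] (Rl.t1 (nat_lit 546) (nat_lit 511))))) (FT.node (nat_lit 549) (FT.leaf (Fct.mk false (nat_lit 1) (nat_lit 0) (nat_lit 1) [nat_lit 3, nat_lit 4, nat_lit 5, nat_lit 6, nat_lit 7, nat_lit 4, nat_lit 10] (Rl.cmp (nat_lit 27) (nat_lit 17)))) (FT.leaf (Fct.mk false (nat_lit 1) (nat_lit 0) (nat_lit 1) [nat_lit 4, nat_lit 5, nat_lit 6, nat_lit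 7, nat_lit 6, nat_lit 9, nat_lit 4, nat_lit 16] (Rl.cmp (nat_lit 27) (nat_lit 548)))))))))

/-- some facts -/
noncomputable def ftc11 : FT := FT.node (nat_lit 575) (FT.node (nat_lit 562) (FT.node (nat_lit 556) (FT.node (nat_lit 553) (FT.node (nat_lit 551) (FT.leaf (Fct.mk false (nat_lit 1) (nat_lit 0) (nat_lit 1) [nat_lit 3, nat_lit 4, nat_lit 5, nat_lit 6, nat_lit 7, nat_lit 6, nat_lit 9, nat_lit 4, nat_lit 0, nat_lit 2, nat_lit 15, nat_lit 16] (Rl.cmp (nat_lit 23) (nat_lit 549)))) (FT.node (nat_lit 552) (FT.leaf (Fct.mk false (nat_lit 1) (nat_lit 0) (nat_lit 1) [nat_lit 4, nat_lit 5, nat_lit 6, nat_lit 7, nat_lit 3, nat_lit 4, nat_lit 5, nat_lit 9, nat_lit 4, nat_lit 0, nat_lit 2, nat_lit 15, nat_lit 16] (Rl.cmp (nat_lit 27) (nat_lit 550)))) (FT.leaf (Fct.mk false (nat_lit 1) (nat_lit 0) (nat_lit 1) [nat_lit 5, nat_lit 6, nat_lit 7, nat_lit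 4, nat_lit 5, nat_lit 9, nat_lit 4, nat_lit 11, nat_lit 10, nat_lit 14, nat_lit 13, nat_lit 16] (Rl.cmp (nat_lit 25) (nat_lit 551)))))) (FT.node (nat_lit 554) (FT.leaf (Fct.mk false (nat_lit 6) (nat_lit 0) (nat_lit 6) [nat_lit 9] (Rl.rel (nat_lit 0) [nat_lit 8, nat_lit 4, nat_lit 5, nat_lit 2, nat_lit 3, nat_lit 4, nat_lit 1, nat_lit 2, nat_lit 3, nat_lit 8, nat_lit 0, nat_lit 1, nat_lit 2, nat_lit 3, nat_lit 4, nat_lit 5, nat_lit 6, nat_lit 7, nat_lit 5, nat_lit 4, nat_lit 3, nat_lit 8, nat_lit 0, nat_lit 1, nat_lit 2, nat_lit 3, nat_lit 4, nat_lit 5, nat_lit 1, nat_lit 3, nat_lit 2, nat_lit 0, nat_lit 1, nat_lit 4, nat_lit 3, nat_lit 2, nat_lit 8, nat_lit 3, nat_lit 8, nat_lit 10, nat_lit 8, nat_lit 12, nat_lit 15, nat_lit 14, nat_lit 16, nat_lit 8] (nat_lit 6) (nat_lit 3) [nat_lit 538, nat_lit 552, nat_lit 460, nat_lit 511, nat_lit 547]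 []))) (FT.node (nat_lit 555) (FT.leaf (Fct.mk false (nat_lit 1) (nat_lit 0) (nat_lit 1) [nat_lit 5, nat_lit 6, nat_lit 7, nat_lit 4, nat_lit 10, nat_lit 0, nat_lit 15] (Rl.cmp (nat_lit 15) (nat_lit 166)))) (FT.leaf (Fct.mk false (nat_lit 1) (nat_lit 0) (nat_lit 1) [nat_lit 6, nat_lit 7, nat_lit 3, nat_lit 4, nat_lit 5, nat_lit 4, nat_lit 10, nat_lit 0, nat_lit 15] (Rl.cmp (nat_lit 25) (nat_lit 554))))))) (FT.node (nat_lit 559) (FT.node (nat_lit 557) (FT.leaf (Fct.mk false (nat_lit 1) (nat_lit 0) (nat_lit 1) [nat_lit 7, nat_lit 4, nat_lit 5, nat_lit 3, nat_lit 10, nat_lit 0, nat_lit 15] (Rl.cmp (nat_lit 25) (nat_lit 555)))) (FT.node (nat_lit 558) (FT.leaf (Fct.mk false (nat_lit 6) (nat_lit 0) (nat_lit 6) [nat_lit 2, nat_lit 3, nat_lit 4, nat_lit 5, nat_lit 6, nat_lit 7, nat_lit 6, nat_lit 3, nat_lit 2, nat_lit 12] (Rl.rel (nat_lit 0) [nat_lit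 4, nat_lit 5, nat_lit 6, nat_lit 3, nat_lit 4, nat_lit 5, nat_lit 2, nat_lit 3, nat_lit 4, nat_lit 1, nat_lit 2, nat_lit 3, nat_lit 8, nat_lit 0, nat_lit 1, nat_lit 2, nat_lit 3, nat_lit 4, nat_lit 5, nat_lit 6, nat_lit 7, nat_lit 1, nat_lit 2, nat_lit 3, nat_lit 8, nat_lit 0, nat_lit 1, nat_lit 2, nat_lit 3, nat_lit 4, nat_lit 5, nat_lit 2, nat_lit 0, nat_lit 1, nat_lit 4, nat_lit 3, nat_lit 2, nat_lit 8, nat_lit 3, nat_lit 8, nat_lit 10, nat_lit 1, nat_lit 12, nat_lit 15, nat_lit 16, nat_lit 8, nat_lit 18] (nat_lit 6) (nat_lit 3) [nat_lit 538, nat_lit 556, nat_lit 460, nat_lit 517, nat_lit 547] []))) (FT.leaf (Fct.mk false (nat_lit 1) (nat_lit 0) (nat_lit 1) [nat_lit 3, nat_lit 4, nat_lit 5, nat_lit 9, nat_lit 4, nat_lit 0, nat_lit 2, nat_lit 15, nat_lit 16] (Rl.cmp (nat_lit 23) (nat_lit 500)))))) (FT.node (nat_lit 560) (FT.leaf (Fct.mk false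 (nat_lit 1) (nat_lit 0) (nat_lit 1) [nat_lit 3, nat_lit 4, nat_lit 5, nat_lit 6, nat_lit 7, nat_lit 3, nat_lit 4, nat_lit 5, nat_lit 9, nat_lit 4, nat_lit 0, nat_lit 2, nat_lit 15, nat_lit 16] (Rl.cmp (nat_lit 27) (nat_lit 558)))) (FT.node (nat_lit 561) (FT.leaf (Fct.mk false (nat_lit 1) (nat_lit 0) (nat_lit 1) [nat_lit 4, nat_lit 5, nat_lit 6, nat_lit 7, nat_lit 4, nat_lit 5, nat_lit 9, nat_lit 4, nat_lit 11, nat_lit 10, nat_lit 14, nat_lit 13, nat_lit 16] (Rl.cmp (nat_lit 25) (nat_lit 559)))) (FT.leaf (Fct.mk false (nat_lit 6) (nat_lit 0) (nat_lit 6) [nat_lit 9, nat_lit 4] (Rl.rel (nat_lit 0) [nat_lit 8, nat_lit 4, nat_lit 5, nat_lit 2, nat_lit 3, nat_lit 4, nat_lit 1, nat_lit 2, nat_lit 3, nat_lit 8, nat_lit 0, nat_lit 1, nat_lit 2, nat_lit 3, nat_lit 4, nat_lit 5, nat_lit 6, nat_lit 7, nat_lit 5, nat_lit 4, nat_lit 3, nat_lit 8, nat_lit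 0, nat_lit 1, nat_lit 2, nat_lit 3, nat_lit 4, nat_lit 5, nat_lit 1, nat_lit 2, nat_lit 0, nat_lit 1, nat_lit 3, nat_lit 2, nat_lit 8, nat_lit 3, nat_lit 8, nat_lit 10, nat_lit 1, nat_lit 8, nat_lit 12, nat_lit 15, nat_lit 14, nat_lit 16, nat_lit 8] (nat_lit 6) (nat_lit 3) [nat_lit 538, nat_lit 560, nat_lit 460, nat_lit 511, nat_lit 547] []))))))) (FT.node (nat_lit 568) (FT.node (nat_lit 565) (FT.node (nat_lit 563) (FT.leaf (Fct.mk false (nat_lit 1) (nat_lit 0) (nat_lit 1) [nat_lit 5, nat_lit 6, nat_lit 7, nat_lit 4, nat_lit 0, nat_lit 2, nat_lit 12, nat_lit 15] (Rl.cmp (nat_lit 21) (nat_lit 167)))) (FT.node (nat_lit 564) (FT.leaf (Fct.mk false (nat_lit 1) (nat_lit 0) (nat_lit 1) [nat_lit 6, nat_lit 7, nat_lit 3, nat_lit 4, nat_lit 5, nat_lit 4, nat_lit 0, nat_lit 2, nat_lit 12, nat_lit 15] (Rl.cmp (nat_lit 25) (nat_lit 562)))) (FT.leaf (Fct.mk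 false (nat_lit 1) (nat_lit 0) (nat_lit 1) [nat_lit 7, nat_lit 4, nat_lit 5, nat_lit 3, nat_lit 0, nat_lit 2, nat_lit 12, nat_lit 15] (Rl.cmp (nat_lit 25) (nat_lit 563)))))) (FT.node (nat_lit 566) (FT.leaf (Fct.mk false (nat_lit 6) (nat_lit 0) (nat_lit 6) [nat_lit 2, nat_lit 3, nat_lit 4, nat_lit 5, nat_lit 6, nat_lit 7, nat_lit 5, nat_lit 3, nat_lit 9, nat_lit 2, nat_lit 12] (Rl.rel (nat_lit 0) [nat_lit 4, nat_lit 5, nat_lit 6, nat_lit 3, nat_lit 4, nat_lit 5, nat_lit 2, nat_lit 3, nat_lit 4, nat_lit 1, nat_lit 2, nat_lit 3, nat_lit 8, nat_lit 0, nat_lit 1, nat_lit 2, nat_lit 3, nat_lit 4, nat_lit 5, nat_lit 6, nat_lit 7, nat_lit 6, nat_lit 5, nat_lit 4, nat_lit 3, nat_lit 8, nat_lit 2, nat_lit 3, nat_lit 4, nat_lit 5, nat_lit 1, nat_lit 3, nat_lit 2, nat_lit 0, nat_lit 1, nat_lit 9, nat_lit 4, nat_lit 3, nat_lit 2, nat_lit 8, nat_lit 3, nat_lit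 8, nat_lit 10, nat_lit 1, nat_lit 8, nat_lit 12, nat_lit 15, nat_lit 14, nat_lit 8] (nat_lit 6) (nat_lit 3) [nat_lit 538, nat_lit 564, nat_lit 460, nat_lit 517, nat_lit 547] []))) (FT.node (nat_lit 567) (FT.leaf (Fct.mk false (nat_lit 1) (nat_lit 0) (nat_lit 1) [nat_lit 3, nat_lit 4, nat_lit 5, nat_lit 9, nat_lit 4, nat_lit 11, nat_lit 16, nat_lit 14, nat_lit 13, nat_lit 16] (Rl.cmp (nat_lit 25) (nat_lit 519)))) (FT.leaf (Fct.mk false (nat_lit 6) (nat_lit 0) (nat_lit 6) [nat_lit 9, nat_lit 4, nat_lit 9] (Rl.cmp (nat_lit 561) (nat_lit 553))))))) (FT.node (nat_lit 571) (FT.node (nat_lit 569) (FT.leaf (Fct.mk true (nat_lit 5) (nat_lit 17627) (nat_lit 6) [nat_lit 8, nat_lit 5, nat_lit 3, nat_lit 4, nat_lit 2, nat_lit 3, nat_lit 8, nat_lit 1, nat_lit 2, nat_lit 3, nat_lit 4, nat_lit 5, nat_lit 6, nat_lit 7, nat_lit 4, nat_lit 3, nat_lit 8, nat_lit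 2, nat_lit 3, nat_lit 4, nat_lit 1, nat_lit 2, nat_lit 3, nat_lit 8, nat_lit 0, nat_lit 1, nat_lit 2, nat_lit 3, nat_lit 4, nat_lit 5, nat_lit 4, nat_lit 3, nat_lit 2, nat_lit 1, nat_lit 8, nat_lit 3, nat_lit 2, nat_lit 0, nat_lit 1, nat_lit 4, nat_lit 3, nat_lit 2, nat_lit 8, nat_lit 3, nat_lit 2, nat_lit 8, nat_lit 10, nat_lit 1, nat_lit 8, nat_lit 12, nat_lit 15, nat_lit 14, nat_lit 13, nat_lit 12, nat_lit 19, nat_lit 16] (Rl.rel (nat_lit 0) [nat_lit 0, nat_lit 1, nat_lit 2, nat_lit 3, nat_lit 4, nat_lit 5, nat_lit 6, nat_lit 7, nat_lit 5, nat_lit 4, nat_lit 3, nat_lit 8, nat_lit 2, nat_lit 3, nat_lit 4, nat_lit 5, nat_lit 2, nat_lit 1, nat_lit 3, nat_lit 2, nat_lit 0, nat_lit 1, nat_lit 4, nat_lit 3, nat_lit 2, nat_lit 8, nat_lit 3, nat_lit 8, nat_lit 10, nat_lit 1, nat_lit 8, nat_lit 12, nat_lit 15, nat_lit 14, nat_lit 16, nat_lit 8] (nat_lit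 6) (nat_lit 2) [nat_lit 538, nat_lit 566, nat_lit 460] []))) (FT.node (nat_lit 570) (FT.leaf (Fct.mk true (nat_lit 5) (nat_lit 11092) (nat_lit 6) [nat_lit 8, nat_lit 3, nat_lit 4, nat_lit 2, nat_lit 3, nat_lit 8, nat_lit 1, nat_lit 2, nat_lit 3, nat_lit 4, nat_lit 5, nat_lit 6, nat_lit 7, nat_lit 4, nat_lit 2, nat_lit 8, nat_lit 10, nat_lit 1, nat_lit 8, nat_lit 12, nat_lit 15, nat_lit 14, nat_lit 13, nat_lit 12, nat_lit 19, nat_lit 16] (Rl.t1 (nat_lit 568) (nat_lit 470)))) (FT.leaf (Fct.mk true (nat_lit 6) (nat_lit 2894) (nat_lit 5) [nat_lit 8, nat_lit 6, nat_lit 4, nat_lit 5, nat_lit 3, nat_lit 4, nat_lit 1, nat_lit 2, nat_lit 3, nat_lit 8, nat_lit 0, nat_lit 1, nat_lit 2, nat_lit 3, nat_lit 4, nat_lit 5, nat_lit 6, nat_lit 7, nat_lit 5, nat_lit 9, nat_lit 4, nat_lit 3, nat_lit 2, nat_lit 8, nat_lit 3, nat_lit 8, nat_lit 10, nat_lit 1, nat_lit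 8, nat_lit 18] (Rl.inv (nat_lit 569)))))) (FT.node (nat_lit 573) (FT.node (nat_lit 572) (FT.leaf (Fct.mk true (nat_lit 6) (nat_lit 779) (nat_lit 5) [nat_lit 8, nat_lit 3, nat_lit 4, nat_lit 1, nat_lit 2, nat_lit 3, nat_lit 8, nat_lit 0, nat_lit 1, nat_lit 2, nat_lit 3, nat_lit 4, nat_lit 5, nat_lit 6, nat_lit 7, nat_lit 1, nat_lit 9, nat_lit 4, nat_lit 3, nat_lit 2, nat_lit 8, nat_lit 3, nat_lit 8, nat_lit 10, nat_lit 1, nat_lit 8, nat_lit 18] (Rl.t1 (nat_lit 570) (nat_lit 567)))) (FT.leaf (Fct.mk false (nat_lit 1) (nat_lit 0) (nat_lit 1) [nat_lit 4, nat_lit 2, nat_lit 10, nat_lit 1, nat_lit 14] (Rl.cmp (nat_lit 19) (nat_lit 17))))) (FT.node (nat_lit 574) (FT.leaf (Fct.mk false (nat_lit 1) (nat_lit 0) (nat_lit 1) [nat_lit 10, nat_lit 1, nat_lit 14] (Rl.cmp (nat_lit 17) (nat_lit 19)))) (FT.leaf (Fct.mk false (nat_lit 1) (nat_lit 0) (nat_lit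 1) [nat_lit 3, nat_lit 4, nat_lit 5, nat_lit 6, nat_lit 7, nat_lit 10, nat_lit 1, nat_lit 14] (Rl.cmp (nat_lit 27) (nat_lit 573))))))))) (FT.node (nat_lit 587) (FT.node (nat_lit 581) (FT.node (nat_lit 578) (FT.node (nat_lit 576) (FT.leaf (Fct.mk false (nat_lit 1) (nat_lit 0) (nat_lit 1) [nat_lit 2, nat_lit 3, nat_lit 4, nat_lit 5, nat_lit 6, nat_lit 7, nat_lit 2, nat_lit 10, nat_lit 1, nat_lit 14] (Rl.cmp (nat_lit 15) (nat_lit 574)))) (FT.node (nat_lit 577) (FT.leaf (Fct.mk false (nat_lit 1) (nat_lit 0) (nat_lit 1) [nat_lit 1, nat_lit 2, nat_lit 3, nat_lit 4, nat_lit 5, nat_lit 6, nat_lit 7, nat_lit 10, nat_lit 1, nat_lit 12, nat_lit 15, nat_lit 14] (Rl.cmp (nat_lit 23) (nat_lit 575)))) (FT.leaf (Fct.mk true (nat_lit 4) (nat_lit 17627) (nat_lit 6) [nat_lit 6, nat_lit 5, nat_lit 4, nat_lit 3, nat_lit 8, nat_lit 0, nat_lit 1, nat_lit 2, nat_lit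 3, nat_lit 4, nat_lit 5, nat_lit 6, nat_lit 7, nat_lit 6, nat_lit 5, nat_lit 4, nat_lit 3, nat_lit 8, nat_lit 2, nat_lit 3, nat_lit 4, nat_lit 5, nat_lit 10, nat_lit 16] (Rl.rel (nat_lit 0) [nat_lit 3, nat_lit 4, nat_lit 5, nat_lit 6, nat_lit 7, nat_lit 2, nat_lit 3, nat_lit 4, nat_lit 5, nat_lit 1, nat_lit 3, nat_lit 2, nat_lit 0, nat_lit 1, nat_lit 4, nat_lit 3, nat_lit 2, nat_lit 8, nat_lit 3, nat_lit 8, nat_lit 10, nat_lit 1, nat_lit 8, nat_lit 12, nat_lit 15, nat_lit 14, nat_lit 16, nat_lit 8] (nat_lit 6) (nat_lit 2) [nat_lit 538, nat_lit 64, nat_lit 232] []))))) (FT.node (nat_lit 579) (FT.leaf (Fct.mk true (nat_lit 4) (nat_lit 2283) (nat_lit 6) [nat_lit 6, nat_lit 5, nat_lit 4, nat_lit 3, nat_lit 8, nat_lit 0, nat_lit 1, nat_lit 2, nat_lit 3, nat_lit 4, nat_lit 5, nat_lit 6, nat_lit 7, nat_lit 6, nat_lit 5, nat_lit 4, nat_lit 3, nat_lit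 8, nat_lit 2, nat_lit 3, nat_lit 4, nat_lit 5, nat_lit 1, nat_lit 3, nat_lit 2, nat_lit 0, nat_lit 1, nat_lit 4, nat_lit 3, nat_lit 2, nat_lit 8, nat_lit 3, nat_lit 8, nat_lit 10, nat_lit 1, nat_lit 8, nat_lit 12, nat_lit 15, nat_lit 14, nat_lit 16, nat_lit 8] (Rl.t1 (nat_lit 577) (nat_lit 459)))) (FT.node (nat_lit 580) (FT.leaf (Fct.mk true (nat_lit 6) (nat_lit 775) (nat_lit 4) [nat_lit 5, nat_lit 4, nat_lit 3, nat_lit 8, nat_lit 2, nat_lit 3, nat_lit 4, nat_lit 5, nat_lit 6, nat_lit 7, nat_lit 2, nat_lit 3, nat_lit 4, nat_lit 5, nat_lit 3, nat_lit 2, nat_lit 1, nat_lit 8, nat_lit 3, nat_lit 2, nat_lit 0, nat_lit 1, nat_lit 4, nat_lit 3, nat_lit 2, nat_lit 8, nat_lit 3, nat_lit 11, nat_lit 10, nat_lit 16, nat_lit 14, nat_lit 12, nat_lit 18] (Rl.inv (nat_lit 578)))) (FT.leaf (Fct.mk false (nat_lit 1) (nat_lit 0) (nat_lit 1) [nat_lit 2, nat_lit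 3, nat_lit 14] (Rl.cmp (nat_lit 19) (nat_lit 15))))))) (FT.node (nat_lit 584) (FT.node (nat_lit 582) (FT.leaf (Fct.mk false (nat_lit 1) (nat_lit 0) (nat_lit 1) [nat_lit 2, nat_lit 3, nat_lit 2, nat_lit 14] (Rl.cmp (nat_lit 19) (nat_lit 19)))) (FT.node (nat_lit 583) (FT.leaf (Fct.mk false (nat_lit 1) (nat_lit 0) (nat_lit 1) [nat_lit 1, nat_lit 2, nat_lit 3, nat_lit 1, nat_lit 0, nat_lit 2, nat_lit 15, nat_lit 14] (Rl.cmp (nat_lit 23) (nat_lit 581)))) (FT.leaf (Fct.mk false (nat_lit 1) (nat_lit 0) (nat_lit 1) [nat_lit 1, nat_lit 0, nat_lit 2, nat_lit 15, nat_lit 14] (Rl.cmp (nat_lit 19) (nat_lit 582)))))) (FT.node (nat_lit 585) (FT.leaf (Fct.mk true (nat_lit 6) (nat_lit 4170) (nat_lit 6) [] (Rl.rel (nat_lit 0) [nat_lit 7, nat_lit 6, nat_lit 5, nat_lit 4, nat_lit 3, nat_lit 8, nat_lit 2, nat_lit 3, nat_lit 4, nat_lit 5, nat_lit 6, nat_lit 7, nat_lit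 1, nat_lit 2, nat_lit 3, nat_lit 4, nat_lit 5, nat_lit 2, nat_lit 1, nat_lit 4, nat_lit 3, nat_lit 2, nat_lit 0, nat_lit 1, nat_lit 9, nat_lit 4, nat_lit 3, nat_lit 2, nat_lit 8, nat_lit 3, nat_lit 1, nat_lit 8, nat_lit 12, nat_lit 15, nat_lit 14, nat_lit 13, nat_lit 12, nat_lit 19] (nat_lit 6) (nat_lit 2) [nat_lit 538, nat_lit 583, nat_lit 537] []))) (FT.node (nat_lit 586) (FT.leaf (Fct.mk false (nat_lit 6) (nat_lit 0) (nat_lit 6) [nat_lit 4, nat_lit 11, nat_lit 2, nat_lit 13] (Rl.rel (nat_lit 0) [nat_lit 3, nat_lit 4, nat_lit 5, nat_lit 6, nat_lit 7, nat_lit 2, nat_lit 3, nat_lit 4, nat_lit 5, nat_lit 1, nat_lit 3, nat_lit 2, nat_lit 0, nat_lit 1, nat_lit 4, nat_lit 3, nat_lit 2, nat_lit 8, nat_lit 3, nat_lit 1, nat_lit 9, nat_lit 8, nat_lit 12, nat_lit 15, nat_lit 14, nat_lit 13, nat_lit 12, nat_lit 19] (nat_lit 6) (nat_lit 3) [nat_lit 584,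 nat_lit 579, nat_lit 426, nat_lit 578] []))) (FT.leaf (Fct.mk false (nat_lit 6) (nat_lit 0) (nat_lit 6) [nat_lit 2, nat_lit 3, nat_lit 4, nat_lit 5, nat_lit 6, nat_lit 7, nat_lit 5, nat_lit 3, nat_lit 10, nat_lit 9, nat_lit 2, nat_lit 12] (Rl.cmp (nat_lit 565) (nat_lit 553)))))))) (FT.node (nat_lit 593) (FT.node (nat_lit 590) (FT.node (nat_lit 588) (FT.leaf (Fct.mk false (nat_lit 6) (nat_lit 0) (nat_lit 6) [nat_lit 2, nat_lit 3, nat_lit 4, nat_lit 5, nat_lit 6, nat_lit 7, nat_lit 5, nat_lit 11, nat_lit 13, nat_lit 12] (Rl.cmp (nat_lit 585) (nat_lit 586)))) (FT.node (nat_lit 589) (FT.leaf (Fct.mk true (nat_lit 1) (nat_lit 2009) (nat_lit 7) [] (Rl.df))) (FT.leaf (Fct.mk true (nat_lit 7) (nat_lit 2009) (nat_lit 1) [] (Rl.inv (nat_lit 588)))))) (FT.node (nat_lit 591) (FT.leaf (Fct.mk true (nat_lit 5) (nat_lit 2779) (nat_lit 7) [nat_lit 5, nat_lit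 6, nat_lit 4, nat_lit 5, nat_lit 3, nat_lit 4, nat_lit 2, nat_lit 3, nat_lit 8, nat_lit 1, nat_lit 2, nat_lit 3, nat_lit 4, nat_lit 5, nat_lit 8, nat_lit 10, nat_lit 9, nat_lit 2, nat_lit 12, nat_lit 8, nat_lit 16, nat_lit 14, nat_lit 16] (Rl.rel (nat_lit 0) [nat_lit 3, nat_lit 4, nat_lit 2, nat_lit 3, nat_lit 8, nat_lit 0, nat_lit 1, nat_lit 2, nat_lit 3, nat_lit 4, nat_lit 5, nat_lit 1, nat_lit 4, nat_lit 3, nat_lit 2, nat_lit 0, nat_lit 1, nat_lit 9, nat_lit 4, nat_lit 3, nat_lit 2, nat_lit 8, nat_lit 3, nat_lit 8, nat_lit 12, nat_lit 15, nat_lit 16, nat_lit 8, nat_lit 18] (nat_lit 7) (nat_lit 2) [nat_lit 589, nat_lit 25, nat_lit 460] []))) (FT.node (nat_lit 592) (FT.leaf (Fct.mk false (nat_lit 1) (nat_lit 0) (nat_lit 1) [nat_lit 6, nat_lit 4, nat_lit 9] (Rl.cmp (nat_lit 13) (nat_lit 25)))) (FT.leaf (Fct.mk false (nat_lit 7) (nat_lit 0)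 (nat_lit 7) [nat_lit 3] (Rl.rel (nat_lit 0) [nat_lit 3, nat_lit 4, nat_lit 2, nat_lit 3, nat_lit 8, nat_lit 0, nat_lit 1, nat_lit 2, nat_lit 3, nat_lit 4, nat_lit 5, nat_lit 2, nat_lit 1, nat_lit 4, nat_lit 3, nat_lit 2, nat_lit 0, nat_lit 1, nat_lit 9, nat_lit 4, nat_lit 3, nat_lit 2, nat_lit 8, nat_lit 3, nat_lit 8, nat_lit 12, nat_lit 15, nat_lit 16, nat_lit 8, nat_lit 18] (nat_lit 7) (nat_lit 3) [nat_lit 589, nat_lit 591, nat_lit 460, nat_lit 590] [])))))) (FT.node (nat_lit 596) (FT.node (nat_lit 594) (FT.leaf (Fct.mk false (nat_lit 1) (nat_lit 0) (nat_lit 1) [nat_lit 3, nat_lit 4, nat_lit 5, nat_lit 2, nat_lit 3, nat_lit 1, nat_lit 0, nat_lit 2, nat_lit 12, nat_lit 15, nat_lit 12] (Rl.cmp (nat_lit 21) (nat_lit 258)))) (FT.node (nat_lit 595) (FT.leaf (Fct.mk false (nat_lit 7) (nat_lit 0) (nat_lit 7) [nat_lit 0, nat_lit 1, nat_lit 2, nat_lit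 3, nat_lit 4, nat_lit 5, nat_lit 4, nat_lit 1, nat_lit 14, nat_lit 12, nat_lit 16] (Rl.rel (nat_lit 0) [nat_lit 3, nat_lit 4, nat_lit 2, nat_lit 3, nat_lit 8, nat_lit 0, nat_lit 1, nat_lit 2, nat_lit 3, nat_lit 4, nat_lit 5, nat_lit 2, nat_lit 1, nat_lit 4, nat_lit 3, nat_lit 2, nat_lit 0, nat_lit 1, nat_lit 9, nat_lit 4, nat_lit 3, nat_lit 2, nat_lit 8, nat_lit 3, nat_lit 9, nat_lit 8, nat_lit 12, nat_lit 15, nat_lit 16, nat_lit 8, nat_lit 18] (nat_lit 7) (nat_lit 3) [nat_lit 589, nat_lit 593, nat_lit 460, nat_lit 590] []))) (FT.leaf (Fct.mk false (nat_lit 1) (nat_lit 0) (nat_lit 1) [nat_lit 6, nat_lit 3, nat_lit 9] (Rl.cmp (nat_lit 17) (nat_lit 591)))))) (FT.node (nat_lit 598) (FT.node (nat_lit 597) (FT.leaf (Fct.mk false (nat_lit 7) (nat_lit 0) (nat_lit 7) [nat_lit 10] (Rl.rel (nat_lit 0) [nat_lit 3, nat_lit 4, nat_lit 2, nat_lit 3, nat_lit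 8, nat_lit 0, nat_lit 1, nat_lit 2, nat_lit 3, nat_lit 4, nat_lit 5, nat_lit 4, nat_lit 3, nat_lit 2, nat_lit 0, nat_lit 1, nat_lit 9, nat_lit 4, nat_lit 3, nat_lit 2, nat_lit 8, nat_lit 3, nat_lit 10, nat_lit 8, nat_lit 12, nat_lit 15, nat_lit 16, nat_lit 8, nat_lit 18] (nat_lit 7) (nat_lit 3) [nat_lit 589, nat_lit 595, nat_lit 460, nat_lit 590] []))) (FT.leaf (Fct.mk false (nat_lit 1) (nat_lit 0) (nat_lit 1) [nat_lit 4, nat_lit 0, nat_lit 12, nat_lit 15] (Rl.cmp (nat_lit 23) (nat_lit 17))))) (FT.node (nat_lit 599) (FT.leaf (Fct.mk false (nat_lit 1) (nat_lit 0) (nat_lit 1) [nat_lit 1, nat_lit 14] (Rl.cmp (nat_lit 13) (nat_lit 19)))) (FT.leaf (Fct.mk false (nat_lit 7) (nat_lit 0) (nat_lit 7) [nat_lit 1, nat_lit 2, nat_lit 3, nat_lit 4, nat_lit 5, nat_lit 0, nat_lit 1, nat_lit 2, nat_lit 3, nat_lit 10, nat_lit 15, nat_lit 14] (Rl.cmp (nat_lit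 594) (nat_lit 594)))))))))

/-- some facts -/
noncomputable def ftc12 : FT := FT.node (nat_lit 625) (FT.node (nat_lit 612) (FT.node (nat_lit 606) (FT.node (nat_lit 603) (FT.node (nat_lit 601) (FT.leaf (Fct.mk false (nat_lit 7) (nat_lit 0) (nat_lit 7) [nat_lit 1, nat_lit 2, nat_lit 3, nat_lit 4, nat_lit 5, nat_lit 0, nat_lit 1, nat_lit 2, nat_lit 3, nat_lit 10, nat_lit 1, nat_lit 15, nat_lit 14] (Rl.cmp (nat_lit 592) (nat_lit 599)))) (FT.node (nat_lit 602) (FT.leaf (Fct.mk false (nat_lit 1) (nat_lit 0) (nat_lit 1) [nat_lit 2, nat_lit 3, nat_lit 1] (Rl.cmp (nat_lit 15) (nat_lit 19)))) (FT.leaf (Fct.mk false (nat_lit 1) (nat_lit 0) (nat_lit 1) [nat_lit 1] (Rl.cmp (nat_lit 15) (nat_lit 601)))))) (FT.node (nat_lit 604) (FT.leaf (Fct.mk false (nat_lit 1) (nat_lit 0) (nat_lit 1) [nat_lit 2, nat_lit 3, nat_lit 1, nat_lit 14] (Rl.cmp (nat_lit 19) (nat_lit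 13)))) (FT.node (nat_lit 605) (FT.leaf (Fct.mk false (nat_lit 1) (nat_lit 0) (nat_lit 1) [nat_lit 4, nat_lit 1, nat_lit 12, nat_lit 15, nat_lit 14] (Rl.cmp (nat_lit 23) (nat_lit 572)))) (FT.leaf (Fct.mk false (nat_lit 1) (nat_lit 0) (nat_lit 1) [nat_lit 1, nat_lit 2, nat_lit 3, nat_lit 4, nat_lit 5, nat_lit 6, nat_lit 7, nat_lit 2, nat_lit 15, nat_lit 14] (Rl.cmp (nat_lit 23) (nat_lit 521))))))) (FT.node (nat_lit 609) (FT.node (nat_lit 607) (FT.leaf (Fct.mk false (nat_lit 5) (nat_lit 0) (nat_lit 5) [nat_lit 70] (Rl.cmp (nat_lit 511) (nat_lit 470)))) (FT.node (nat_lit 608) (FT.leaf (Fct.mk true (nat_lit 1) (nat_lit 7913) (nat_lit 8) [] (Rl.df))) (FT.leaf (Fct.mk true (nat_lit 8) (nat_lit 7913) (nat_lit 1) [] (Rl.inv (nat_lit 607)))))) (FT.node (nat_lit 610) (FT.leaf (Fct.mk false (nat_lit 1) (nat_lit 0) (nat_lit 1) [nat_lit 10, nat_lit 1, nat_lit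 14] (Rl.cmp (nat_lit 17) (nat_lit 19)))) (FT.node (nat_lit 611) (FT.leaf (Fct.mk false (nat_lit 1) (nat_lit 0) (nat_lit 1) [nat_lit 3, nat_lit 10, nat_lit 12, nat_lit 15, nat_lit 14] (Rl.cmp (nat_lit 23) (nat_lit 609)))) (FT.leaf (Fct.mk false (nat_lit 1) (nat_lit 0) (nat_lit 1) [nat_lit 3, nat_lit 4, nat_lit 5, nat_lit 3, nat_lit 10, nat_lit 12, nat_lit 15, nat_lit 14] (Rl.cmp (nat_lit 21) (nat_lit 610)))))))) (FT.node (nat_lit 618) (FT.node (nat_lit 615) (FT.node (nat_lit 613) (FT.leaf (Fct.mk false (nat_lit 1) (nat_lit 0) (nat_lit 1) [nat_lit 4, nat_lit 5, nat_lit 16, nat_lit 12, nat_lit 15, nat_lit 14] (Rl.cmp (nat_lit 25) (nat_lit 611)))) (FT.node (nat_lit 614) (FT.leaf (Fct.mk false (nat_lit 1) (nat_lit 0) (nat_lit 1) [nat_lit 3, nat_lit 4, nat_lit 5, nat_lit 6, nat_lit 7, nat_lit 4, nat_lit 5, nat_lit 16, nat_lit 12, nat_lit 15, nat_lit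 14] (Rl.cmp (nat_lit 27) (nat_lit 612)))) (FT.leaf (Fct.mk false (nat_lit 1) (nat_lit 0) (nat_lit 1) [nat_lit 4, nat_lit 5, nat_lit 6, nat_lit 7, nat_lit 5, nat_lit 4, nat_lit 10, nat_lit 16, nat_lit 12, nat_lit 15, nat_lit 14] (Rl.cmp (nat_lit 25) (nat_lit 613)))))) (FT.node (nat_lit 616) (FT.leaf (Fct.mk false (nat_lit 1) (nat_lit 0) (nat_lit 1) [nat_lit 3, nat_lit 4, nat_lit 5, nat_lit 6, nat_lit 7, nat_lit 5, nat_lit 4, nat_lit 10, nat_lit 0, nat_lit 16, nat_lit 15, nat_lit 14, nat_lit 12] (Rl.cmp (nat_lit 23) (nat_lit 614)))) (FT.node (nat_lit 617) (FT.leaf (Fct.mk true (nat_lit 6) (nat_lit 88165) (nat_lit 8) [nat_lit 3, nat_lit 8, nat_lit 4, nat_lit 5, nat_lit 3, nat_lit 4, nat_lit 2, nat_lit 3, nat_lit 8, nat_lit 6, nat_lit 7, nat_lit 5, nat_lit 6, nat_lit 4, nat_lit 5, nat_lit 3, nat_lit 4, nat_lit 2, nat_lit 3, nat_lit 8, nat_lit 1,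 nat_lit 2, nat_lit 3, nat_lit 4, nat_lit 5, nat_lit 6, nat_lit 7, nat_lit 3, nat_lit 8, nat_lit 4, nat_lit 5, nat_lit 3, nat_lit 4, nat_lit 2, nat_lit 3, nat_lit 8, nat_lit 1, nat_lit 2, nat_lit 3, nat_lit 4, nat_lit 5, nat_lit 4, nat_lit 3, nat_lit 2, nat_lit 8, nat_lit 3, nat_lit 9, nat_lit 2, nat_lit 8, nat_lit 12, nat_lit 15, nat_lit 17] (Rl.rel (nat_lit 0) [nat_lit 8, nat_lit 3, nat_lit 4, nat_lit 2, nat_lit 3, nat_lit 8, nat_lit 5, nat_lit 6, nat_lit 4, nat_lit 5, nat_lit 3, nat_lit 4, nat_lit 2, nat_lit 3, nat_lit 8, nat_lit 0, nat_lit 1, nat_lit 2, nat_lit 3, nat_lit 4, nat_lit 5, nat_lit 6, nat_lit 7, nat_lit 6, nat_lit 4, nat_lit 5, nat_lit 3, nat_lit 4, nat_lit 2, nat_lit 3, nat_lit 8, nat_lit 0, nat_lit 1, nat_lit 2, nat_lit 3, nat_lit 4, nat_lit 5, nat_lit 1, nat_lit 9, nat_lit 4, nat_lit 3, nat_lit 2, nat_lit 8, nat_lit 3, nat_lit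 11, nat_lit 8, nat_lit 12, nat_lit 15, nat_lit 13, nat_lit 19, nat_lit 16] (nat_lit 8) (nat_lit 2) [nat_lit 608, nat_lit 615, nat_lit 537] []))) (FT.leaf (Fct.mk false (nat_lit 1) (nat_lit 0) (nat_lit 1) [nat_lit 2, nat_lit 3, nat_lit 1] (Rl.cmp (nat_lit 15) (nat_lit 19))))))) (FT.node (nat_lit 621) (FT.node (nat_lit 619) (FT.leaf (Fct.mk false (nat_lit 1) (nat_lit 0) (nat_lit 1) [nat_lit 1, nat_lit 2, nat_lit 3, nat_lit 2] (Rl.cmp (nat_lit 19) (nat_lit 617)))) (FT.node (nat_lit 620) (FT.leaf (Fct.mk false (nat_lit 1) (nat_lit 0) (nat_lit 1) [nat_lit 3, nat_lit 4, nat_lit 5, nat_lit 6, nat_lit 7, nat_lit 3, nat_lit 1, nat_lit 14] (Rl.cmp (nat_lit 27) (nat_lit 19)))) (FT.leaf (Fct.mk false (nat_lit 1) (nat_lit 0) (nat_lit 1) [nat_lit 79] (Rl.cmp (nat_lit 15) (nat_lit 13)))))) (FT.node (nat_lit 623) (FT.node (nat_lit 622) (FT.leaf (Fct.mk false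 (nat_lit 1) (nat_lit 0) (nat_lit 1) [nat_lit 2, nat_lit 3, nat_lit 12] (Rl.cmp (nat_lit 17) (nat_lit 620)))) (FT.leaf (Fct.mk false (nat_lit 1) (nat_lit 0) (nat_lit 1) [nat_lit 2, nat_lit 3, nat_lit 1, nat_lit 14] (Rl.cmp (nat_lit 19) (nat_lit 13))))) (FT.node (nat_lit 624) (FT.leaf (Fct.mk false (nat_lit 1) (nat_lit 0) (nat_lit 1) [nat_lit 3, nat_lit 4, nat_lit 5, nat_lit 6, nat_lit 7, nat_lit 2, nat_lit 3, nat_lit 1, nat_lit 14] (Rl.cmp (nat_lit 27) (nat_lit 622)))) (FT.leaf (Fct.mk false (nat_lit 1) (nat_lit 0) (nat_lit 1) [nat_lit 2, nat_lit 3, nat_lit 4, nat_lit 5, nat_lit 6, nat_lit 7, nat_lit 1, nat_lit 2, nat_lit 3, nat_lit 14] (Rl.cmp (nat_lit 19) (nat_lit 623))))))))) (FT.node (nat_lit 637) (FT.node (nat_lit 631) (FT.node (nat_lit 628) (FT.node (nat_lit 626) (FT.leaf (Fct.mk false (nat_lit 1) (nat_lit 0) (nat_lit 1) [nat_lit 2, nat_lit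 3, nat_lit 4, nat_lit 5, nat_lit 6, nat_lit 7, nat_lit 1, nat_lit 2, nat_lit 3, nat_lit 10, nat_lit 1, nat_lit 14, nat_lit 12] (Rl.cmp (nat_lit 21) (nat_lit 624)))) (FT.node (nat_lit 627) (FT.leaf (Fct.mk false (nat_lit 1) (nat_lit 0) (nat_lit 1) [nat_lit 1, nat_lit 2, nat_lit 3, nat_lit 4, nat_lit 5, nat_lit 6, nat_lit 7, nat_lit 0, nat_lit 1, nat_lit 2, nat_lit 3, nat_lit 10, nat_lit 15, nat_lit 14, nat_lit 12] (Rl.cmp (nat_lit 23) (nat_lit 625)))) (FT.leaf (Fct.mk false (nat_lit 8) (nat_lit 0) (nat_lit 8) [nat_lit 5, nat_lit 6, nat_lit 7, nat_lit 6, nat_lit 2, nat_lit 3, nat_lit 11, nat_lit 16, nat_lit 15, nat_lit 14, nat_lit 13] (Rl.rel (nat_lit 0) [nat_lit 6, nat_lit 5, nat_lit 3, nat_lit 4, nat_lit 2, nat_lit 3, nat_lit 8, nat_lit 0, nat_lit 1, nat_lit 2, nat_lit 3, nat_lit 4, nat_lit 5, nat_lit 6, nat_lit 7, nat_lit 2, nat_lit 3, nat_lit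 8, nat_lit 6, nat_lit 4, nat_lit 5, nat_lit 3, nat_lit 4, nat_lit 2, nat_lit 3, nat_lit 8, nat_lit 0, nat_lit 1, nat_lit 2, nat_lit 3, nat_lit 4, nat_lit 5, nat_lit 1, nat_lit 9, nat_lit 4, nat_lit 3, nat_lit 2, nat_lit 8, nat_lit 3, nat_lit 11, nat_lit 8, nat_lit 12, nat_lit 15, nat_lit 13, nat_lit 19, nat_lit 16] (nat_lit 8) (nat_lit 3) [nat_lit 608, nat_lit 626, nat_lit 537, nat_lit 616] []))))) (FT.node (nat_lit 629) (FT.leaf (Fct.mk false (nat_lit 1) (nat_lit 0) (nat_lit 1) [nat_lit 10] (Rl.cmp (nat_lit 17) (nat_lit 13)))) (FT.node (nat_lit 630) (FT.leaf (Fct.mk false (nat_lit 1) (nat_lit 0) (nat_lit 1) [nat_lit 3, nat_lit 2, nat_lit 10, nat_lit 1] (Rl.cmp (nat_lit 19) (nat_lit 628)))) (FT.leaf (Fct.mk false (nat_lit 1) (nat_lit 0) (nat_lit 1) [nat_lit 2, nat_lit 3, nat_lit 10, nat_lit 14, nat_lit 12] (Rl.cmp (nat_lit 17) (nat_lit 580)))))))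 (FT.node (nat_lit 634) (FT.node (nat_lit 632) (FT.leaf (Fct.mk false (nat_lit 1) (nat_lit 0) (nat_lit 1) [nat_lit 3, nat_lit 4, nat_lit 5, nat_lit 6, nat_lit 7, nat_lit 2, nat_lit 3, nat_lit 10, nat_lit 14, nat_lit 12] (Rl.cmp (nat_lit 27) (nat_lit 630)))) (FT.node (nat_lit 633) (FT.leaf (Fct.mk false (nat_lit 1) (nat_lit 0) (nat_lit 1) [nat_lit 2, nat_lit 3, nat_lit 4, nat_lit 5, nat_lit 6, nat_lit 7, nat_lit 1, nat_lit 2, nat_lit 3, nat_lit 10, nat_lit 0, nat_lit 15, nat_lit 14, nat_lit 12] (Rl.cmp (nat_lit 23) (nat_lit 631)))) (FT.leaf (Fct.mk false (nat_lit 1) (nat_lit 0) (nat_lit 1) [nat_lit 1, nat_lit 2, nat_lit 3, nat_lit 4, nat_lit 5, nat_lit 6, nat_lit 7, nat_lit 0, nat_lit 1, nat_lit 2, nat_lit 3, nat_lit 10, nat_lit 1, nat_lit 15, nat_lit 14, nat_lit 12] (Rl.cmp (nat_lit 23) (nat_lit 632)))))) (FT.node (nat_lit 635) (FT.leaf (Fct.mk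 false (nat_lit 8) (nat_lit 0) (nat_lit 8) [nat_lit 5, nat_lit 6, nat_lit 7, nat_lit 6, nat_lit 0, nat_lit 1, nat_lit 2, nat_lit 3, nat_lit 9, nat_lit 2, nat_lit 12, nat_lit 15, nat_lit 14] (Rl.rel (nat_lit 0) [nat_lit 6, nat_lit 5, nat_lit 3, nat_lit 4, nat_lit 2, nat_lit 3, nat_lit 8, nat_lit 0, nat_lit 1, nat_lit 2, nat_lit 3, nat_lit 4, nat_lit 5, nat_lit 6, nat_lit 7, nat_lit 2, nat_lit 3, nat_lit 8, nat_lit 6, nat_lit 4, nat_lit 5, nat_lit 3, nat_lit 4, nat_lit 2, nat_lit 3, nat_lit 8, nat_lit 0, nat_lit 1, nat_lit 2, nat_lit 3, nat_lit 4, nat_lit 5, nat_lit 2, nat_lit 3, nat_lit 8, nat_lit 4, nat_lit 3, nat_lit 2, nat_lit 0, nat_lit 1, nat_lit 9, nat_lit 4, nat_lit 3, nat_lit 2, nat_lit 8, nat_lit 3, nat_lit 0, nat_lit 15, nat_lit 13, nat_lit 12, nat_lit 19] (nat_lit 8) (nat_lit 3) [nat_lit 608, nat_lit 633, nat_lit 537, nat_lit 616]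 []))) (FT.node (nat_lit 636) (FT.leaf (Fct.mk false (nat_lit 8) (nat_lit 0) (nat_lit 8) [nat_lit 4, nat_lit 5, nat_lit 6, nat_lit 7, nat_lit 4, nat_lit 5, nat_lit 4, nat_lit 1, nat_lit 0, nat_lit 2, nat_lit 12, nat_lit 15, nat_lit 12] (Rl.cmp (nat_lit 627) (nat_lit 634)))) (FT.leaf (Fct.mk false (nat_lit 8) (nat_lit 0) (nat_lit 8) [nat_lit 2, nat_lit 3, nat_lit 4, nat_lit 5, nat_lit 6, nat_lit 7, nat_lit 3, nat_lit 4, nat_lit 5, nat_lit 1, nat_lit 9, nat_lit 16, nat_lit 12, nat_lit 15, nat_lit 14] (Rl.cmp (nat_lit 627) (nat_lit 635)))))))) (FT.node (nat_lit 643) (FT.node (nat_lit 640) (FT.node (nat_lit 638) (FT.leaf (Fct.mk false (nat_lit 8) (nat_lit 0) (nat_lit 8) [nat_lit 1, nat_lit 2, nat_lit 3, nat_lit 4, nat_lit 5, nat_lit 6, nat_lit 7, nat_lit 0, nat_lit 1, nat_lit 2, nat_lit 3, nat_lit 4, nat_lit 5, nat_lit 9, nat_lit 4, nat_lit 11,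 nat_lit 12, nat_lit 15, nat_lit 14, nat_lit 13, nat_lit 12] (Rl.cmp (nat_lit 634) (nat_lit 636)))) (FT.node (nat_lit 639) (FT.leaf (Fct.mk false (nat_lit 8) (nat_lit 0) (nat_lit 8) [nat_lit 3, nat_lit 4, nat_lit 5, nat_lit 6, nat_lit 7, nat_lit 2, nat_lit 16, nat_lit 15, nat_lit 14, nat_lit 12] (Rl.cmp (nat_lit 627) (nat_lit 637)))) (FT.leaf (Fct.mk false (nat_lit 1) (nat_lit 0) (nat_lit 1) [nat_lit 79] (Rl.cmp (nat_lit 15) (nat_lit 13)))))) (FT.node (nat_lit 641) (FT.leaf (Fct.mk false (nat_lit 1) (nat_lit 0) (nat_lit 1) [nat_lit 10] (Rl.cmp (nat_lit 17) (nat_lit 13)))) (FT.node (nat_lit 642) (FT.leaf (Fct.mk false (nat_lit 1) (nat_lit 0) (nat_lit 1) [nat_lit 4, nat_lit 5, nat_lit 1, nat_lit 9, nat_lit 16, nat_lit 14] (Rl.cmp (nat_lit 25) (nat_lit 523)))) (FT.leaf (Fct.mk true (nat_lit 1) (nat_lit 10109) (nat_lit 9) [] (Rl.df)))))) (FT.node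 (nat_lit 646) (FT.node (nat_lit 644) (FT.leaf (Fct.mk true (nat_lit 9) (nat_lit 10109) (nat_lit 1) [] (Rl.inv (nat_lit 642)))) (FT.node (nat_lit 645) (FT.leaf (Fct.mk false (nat_lit 1) (nat_lit 0) (nat_lit 1) [nat_lit 3, nat_lit 4, nat_lit 5, nat_lit 2, nat_lit 3, nat_lit 12, nat_lit 15] (Rl.cmp (nat_lit 21) (nat_lit 107)))) (FT.leaf (Fct.mk false (nat_lit 1) (nat_lit 0) (nat_lit 1) [nat_lit 4, nat_lit 5, nat_lit 2, nat_lit 3, nat_lit 9, nat_lit 2, nat_lit 12, nat_lit 15, nat_lit 16] (Rl.cmp (nat_lit 25) (nat_lit 644)))))) (FT.node (nat_lit 648) (FT.node (nat_lit 647) (FT.leaf (Fct.mk false (nat_lit 2) (nat_lit 0) (nat_lit 2) [nat_lit 2, nat_lit 8, nat_lit 3, nat_lit 8, nat_lit 10] (Rl.cmp (nat_lit 168) (nat_lit 420)))) (FT.leaf (Fct.mk false (nat_lit 2) (nat_lit 0) (nat_lit 2) [nat_lit 2, nat_lit 8, nat_lit 3, nat_lit 10, nat_lit 18] (Rl.cmp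 (nat_lit 88) (nat_lit 646))))) (FT.node (nat_lit 649) (FT.leaf (Fct.mk true (nat_lit 2) (nat_lit 10195) (nat_lit 9) [nat_lit 3, nat_lit 4, nat_lit 2, nat_lit 3, nat_lit 8, nat_lit 5, nat_lit 6, nat_lit 4, nat_lit 5, nat_lit 3, nat_lit 4, nat_lit 2, nat_lit 3, nat_lit 8, nat_lit 1, nat_lit 2, nat_lit 3, nat_lit 4, nat_lit 5, nat_lit 1, nat_lit 9, nat_lit 4, nat_lit 3, nat_lit 2, nat_lit 8, nat_lit 3, nat_lit 11, nat_lit 2, nat_lit 10, nat_lit 1, nat_lit 8, nat_lit 16, nat_lit 15, nat_lit 14, nat_lit 8, nat_lit 19, nat_lit 16] (Rl.rel (nat_lit 0) [nat_lit 3, nat_lit 4, nat_lit 2, nat_lit 3, nat_lit 8, nat_lit 1, nat_lit 2, nat_lit 3, nat_lit 4, nat_lit 5, nat_lit 11, nat_lit 10, nat_lit 1, nat_lit 8, nat_lit 16, nat_lit 15, nat_lit 14, nat_lit 17, nat_lit 18] (nat_lit 9) (nat_lit 2) [nat_lit 643, nat_lit 645, nat_lit 82] []))) (FT.leaf (Fct.mk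 true (nat_lit 2) (nat_lit 430) (nat_lit 9) [nat_lit 3, nat_lit 8, nat_lit 5, nat_lit 6, nat_lit 4, nat_lit 5, nat_lit 3, nat_lit 4, nat_lit 2, nat_lit 3, nat_lit 8, nat_lit 1, nat_lit 2, nat_lit 3, nat_lit 4, nat_lit 5, nat_lit 1, nat_lit 2, nat_lit 8, nat_lit 3, nat_lit 11, nat_lit 2, nat_lit 10, nat_lit 1, nat_lit 8, nat_lit 16, nat_lit 15, nat_lit 14, nat_lit 8, nat_lit 18] (Rl.t1 (nat_lit 648) (nat_lit 647)))))))))

/-- some facts -/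
noncomputable def ftc13 : FT := FT.node (nat_lit 675) (FT.node (nat_lit 662) (FT.node (nat_lit 656) (FT.node (nat_lit 653) (FT.node (nat_lit 651) (FT.leaf (Fct.mk true (nat_lit 9) (nat_lit 2818) (nat_lit 2) [nat_lit 8, nat_lit 4, nat_lit 5, nat_lit 3, nat_lit 4, nat_lit 2, nat_lit 3, nat_lit 8, nat_lit 1, nat_lit 2, nat_lit 3, nat_lit 4, nat_lit 5, nat_lit 8, nat_lit 3, nat_lit 2, nat_lit 0, nat_lit 1, nat_lit 9, nat_lit 4, nat_lit 3, nat_lit 2, nat_lit 8, nat_lit 3, nat_lit 2, nat_lit 16, nat_lit 14, nat_lit 13, nat_lit 19, nat_lit 16] (Rl.inv (nat_lit 649)))) (FT.node (nat_lit 652) (FT.leaf (Fct.mk false (nat_lit 1) (nat_lit 0) (nat_lit 1) [nat_lit 4, nat_lit 5, nat_lit 4, nat_lit 1, nat_lit 16, nat_lit 14] (Rl.cmp (nat_lit 25) (nat_lit 249)))) (FT.leaf (Fct.mk false (nat_lit 1) (nat_lit 0) (nat_lit 1) [nat_lit 3, nat_lit 4, nat_lit 5, nat_lit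 4, nat_lit 2, nat_lit 16, nat_lit 15, nat_lit 14] (Rl.cmp (nat_lit 23) (nat_lit 651)))))) (FT.node (nat_lit 654) (FT.leaf (Fct.mk false (nat_lit 1) (nat_lit 0) (nat_lit 1) [nat_lit 2, nat_lit 3, nat_lit 4, nat_lit 5, nat_lit 4, nat_lit 16, nat_lit 15, nat_lit 14, nat_lit 16] (Rl.cmp (nat_lit 19) (nat_lit 652)))) (FT.node (nat_lit 655) (FT.leaf (Fct.mk false (nat_lit 1) (nat_lit 0) (nat_lit 1) [nat_lit 1, nat_lit 2, nat_lit 3, nat_lit 4, nat_lit 5, nat_lit 4, nat_lit 0, nat_lit 2, nat_lit 16, nat_lit 14, nat_lit 16] (Rl.cmp (nat_lit 23) (nat_lit 653)))) (FT.leaf (Fct.mk false (nat_lit 1) (nat_lit 0) (nat_lit 1) [nat_lit 4, nat_lit 5, nat_lit 4, nat_lit 0, nat_lit 2, nat_lit 16, nat_lit 14, nat_lit 16] (Rl.cmp (nat_lit 19) (nat_lit 654))))))) (FT.node (nat_lit 659) (FT.node (nat_lit 657) (FT.leaf (Fct.mk false (nat_lit 2) (nat_lit 0) (nat_lit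 2) [nat_lit 6, nat_lit 2, nat_lit 8, nat_lit 3, nat_lit 12, nat_lit 18] (Rl.cmp (nat_lit 168) (nat_lit 422)))) (FT.node (nat_lit 658) (FT.leaf (Fct.mk false (nat_lit 2) (nat_lit 0) (nat_lit 2) [nat_lit 6, nat_lit 3, nat_lit 2, nat_lit 8, nat_lit 3, nat_lit 0, nat_lit 18] (Rl.cmp (nat_lit 173) (nat_lit 656)))) (FT.leaf (Fct.mk false (nat_lit 9) (nat_lit 0) (nat_lit 9) [nat_lit 3, nat_lit 1, nat_lit 0, nat_lit 2, nat_lit 15, nat_lit 14, nat_lit 12] (Rl.rel (nat_lit 0) [nat_lit 3, nat_lit 4, nat_lit 2, nat_lit 3, nat_lit 8, nat_lit 1, nat_lit 2, nat_lit 3, nat_lit 4, nat_lit 5, nat_lit 11, nat_lit 2, nat_lit 10, nat_lit 1, nat_lit 8, nat_lit 16, nat_lit 15, nat_lit 14, nat_lit 17, nat_lit 18] (nat_lit 9) (nat_lit 3) [nat_lit 643, nat_lit 655, nat_lit 82, nat_lit 657, nat_lit 649] []))))) (FT.node (nat_lit 660) (FT.leaf (Fct.mk false (nat_lit 1)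 (nat_lit 0) (nat_lit 1) [nat_lit 0, nat_lit 1, nat_lit 2, nat_lit 3, nat_lit 4, nat_lit 5, nat_lit 4, nat_lit 1, nat_lit 16, nat_lit 14, nat_lit 12, nat_lit 16] (Rl.cmp (nat_lit 25) (nat_lit 431)))) (FT.node (nat_lit 661) (FT.leaf (Fct.mk false (nat_lit 2) (nat_lit 0) (nat_lit 2) [nat_lit 3, nat_lit 2, nat_lit 8, nat_lit 3, nat_lit 0, nat_lit 8, nat_lit 18] (Rl.cmp (nat_lit 87) (nat_lit 173)))) (FT.leaf (Fct.mk false (nat_lit 9) (nat_lit 0) (nat_lit 9) [nat_lit 0, nat_lit 1, nat_lit 2, nat_lit 3, nat_lit 0, nat_lit 2, nat_lit 15] (Rl.rel (nat_lit 0) [nat_lit 3, nat_lit 4, nat_lit 2, nat_lit 3, nat_lit 8, nat_lit 1, nat_lit 2, nat_lit 3, nat_lit 4, nat_lit 5, nat_lit 2, nat_lit 3, nat_lit 11, nat_lit 10, nat_lit 1, nat_lit 8, nat_lit 16, nat_lit 15, nat_lit 14, nat_lit 17, nat_lit 18] (nat_lit 9) (nat_lit 3) [nat_lit 643, nat_lit 659, nat_lit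 82, nat_lit 660, nat_lit 649] []))))))) (FT.node (nat_lit 668) (FT.node (nat_lit 665) (FT.node (nat_lit 663) (FT.leaf (Fct.mk false (nat_lit 1) (nat_lit 0) (nat_lit 1) [nat_lit 3, nat_lit 1, nat_lit 0, nat_lit 2, nat_lit 15] (Rl.cmp (nat_lit 23) (nat_lit 110)))) (FT.node (nat_lit 664) (FT.leaf (Fct.mk false (nat_lit 1) (nat_lit 0) (nat_lit 1) [nat_lit 6, nat_lit 11, nat_lit 10, nat_lit 1, nat_lit 14, nat_lit 13] (Rl.cmp (nat_lit 25) (nat_lit 662)))) (FT.leaf (Fct.mk false (nat_lit 1) (nat_lit 0) (nat_lit 1) [nat_lit 3, nat_lit 4, nat_lit 5, nat_lit 11, nat_lit 10, nat_lit 1, nat_lit 14, nat_lit 13] (Rl.cmp (nat_lit 25) (nat_lit 663)))))) (FT.node (nat_lit 666) (FT.leaf (Fct.mk false (nat_lit 1) (nat_lit 0) (nat_lit 1) [nat_lit 2, nat_lit 3, nat_lit 4, nat_lit 5, nat_lit 11, nat_lit 10, nat_lit 12, nat_lit 15, nat_lit 14, nat_lit 13] (Rl.cmp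 (nat_lit 23) (nat_lit 664)))) (FT.node (nat_lit 667) (FT.leaf (Fct.mk false (nat_lit 1) (nat_lit 0) (nat_lit 1) [nat_lit 2, nat_lit 3, nat_lit 4, nat_lit 5, nat_lit 4, nat_lit 11, nat_lit 2, nat_lit 16, nat_lit 12, nat_lit 15, nat_lit 14, nat_lit 13] (Rl.cmp (nat_lit 25) (nat_lit 665)))) (FT.leaf (Fct.mk true (nat_lit 4) (nat_lit 15549) (nat_lit 9) [nat_lit 6, nat_lit 5, nat_lit 4, nat_lit 3, nat_lit 8, nat_lit 1, nat_lit 2, nat_lit 3, nat_lit 4, nat_lit 5, nat_lit 3, nat_lit 2, nat_lit 8, nat_lit 3, nat_lit 11, nat_lit 1, nat_lit 15, nat_lit 14, nat_lit 13, nat_lit 12, nat_lit 16] (Rl.rel (nat_lit 0) [nat_lit 3, nat_lit 4, nat_lit 2, nat_lit 3, nat_lit 8, nat_lit 1, nat_lit 2, nat_lit 3, nat_lit 4, nat_lit 5, nat_lit 11, nat_lit 10, nat_lit 8, nat_lit 16, nat_lit 15, nat_lit 14, nat_lit 18] (nat_lit 9) (nat_lit 2) [nat_lit 643, nat_lit 666,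 nat_lit 232] [])))))) (FT.node (nat_lit 671) (FT.node (nat_lit 669) (FT.leaf (Fct.mk true (nat_lit 4) (nat_lit 20) (nat_lit 9) [nat_lit 2, nat_lit 3, nat_lit 8, nat_lit 6, nat_lit 4, nat_lit 5, nat_lit 3, nat_lit 4, nat_lit 2, nat_lit 3, nat_lit 8, nat_lit 1, nat_lit 2, nat_lit 3, nat_lit 4, nat_lit 5, nat_lit 11, nat_lit 8, nat_lit 10, nat_lit 1, nat_lit 8, nat_lit 16, nat_lit 15, nat_lit 14, nat_lit 13, nat_lit 18, nat_lit 16] (Rl.t1 (nat_lit 667) (nat_lit 408)))) (FT.node (nat_lit 670) (FT.leaf (Fct.mk true (nat_lit 9) (nat_lit 244) (nat_lit 4) [nat_lit 6, nat_lit 4, nat_lit 5, nat_lit 3, nat_lit 4, nat_lit 2, nat_lit 3, nat_lit 8, nat_lit 0, nat_lit 1, nat_lit 2, nat_lit 3, nat_lit 4, nat_lit 5, nat_lit 1, nat_lit 8, nat_lit 3, nat_lit 2, nat_lit 0, nat_lit 1, nat_lit 9, nat_lit 4, nat_lit 3, nat_lit 2, nat_lit 8, nat_lit 3, nat_lit 9,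 nat_lit 2, nat_lit 16, nat_lit 14, nat_lit 19, nat_lit 16] (Rl.inv (nat_lit 668)))) (FT.leaf (Fct.mk true (nat_lit 9) (nat_lit 100) (nat_lit 4) [nat_lit 6, nat_lit 5, nat_lit 4, nat_lit 3, nat_lit 8, nat_lit 0, nat_lit 1, nat_lit 2, nat_lit 3, nat_lit 4, nat_lit 5, nat_lit 1, nat_lit 3, nat_lit 8, nat_lit 4, nat_lit 3, nat_lit 2, nat_lit 0, nat_lit 1, nat_lit 9, nat_lit 4, nat_lit 3, nat_lit 2, nat_lit 8, nat_lit 3, nat_lit 16, nat_lit 14, nat_lit 19, nat_lit 16] (Rl.t1 (nat_lit 669) (nat_lit 658)))))) (FT.node (nat_lit 673) (FT.node (nat_lit 672) (FT.leaf (Fct.mk false (nat_lit 1) (nat_lit 0) (nat_lit 1) [nat_lit 3, nat_lit 4, nat_lit 5, nat_lit 3, nat_lit 1, nat_lit 0, nat_lit 2, nat_lit 15] (Rl.cmp (nat_lit 21) (nat_lit 662)))) (FT.leaf (Fct.mk false (nat_lit 1) (nat_lit 0) (nat_lit 1) [nat_lit 2, nat_lit 3, nat_lit 4, nat_lit 5, nat_lit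 2, nat_lit 3, nat_lit 0, nat_lit 2, nat_lit 15, nat_lit 14] (Rl.cmp (nat_lit 23) (nat_lit 671))))) (FT.node (nat_lit 674) (FT.leaf (Fct.mk false (nat_lit 1) (nat_lit 0) (nat_lit 1) [nat_lit 2, nat_lit 3, nat_lit 4, nat_lit 5, nat_lit 3, nat_lit 11, nat_lit 10, nat_lit 12, nat_lit 15, nat_lit 14, nat_lit 13] (Rl.cmp (nat_lit 25) (nat_lit 672)))) (FT.leaf (Fct.mk false (nat_lit 1) (nat_lit 0) (nat_lit 1) [nat_lit 2, nat_lit 3, nat_lit 4, nat_lit 5, nat_lit 11, nat_lit 2, nat_lit 16, nat_lit 12, nat_lit 15, nat_lit 14, nat_lit 13] (Rl.cmp (nat_lit 25) (nat_lit 673))))))))) (FT.node (nat_lit 687) (FT.node (nat_lit 681) (FT.node (nat_lit 678) (FT.node (nat_lit 676) (FT.leaf (Fct.mk false (nat_lit 9) (nat_lit 0) (nat_lit 9) [nat_lit 5] (Rl.rel (nat_lit 0) [nat_lit 3, nat_lit 8, nat_lit 4, nat_lit 5, nat_lit 3, nat_lit 4, nat_lit 2, nat_lit 3, nat_lit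 8, nat_lit 1, nat_lit 2, nat_lit 3, nat_lit 4, nat_lit 5, nat_lit 4, nat_lit 11, nat_lit 10, nat_lit 1, nat_lit 8, nat_lit 16, nat_lit 15, nat_lit 14, nat_lit 17, nat_lit 18] (nat_lit 9) (nat_lit 3) [nat_lit 643, nat_lit 674, nat_lit 232, nat_lit 408, nat_lit 668] []))) (FT.node (nat_lit 677) (FT.leaf (Fct.mk false (nat_lit 9) (nat_lit 0) (nat_lit 9) [nat_lit 2, nat_lit 3, nat_lit 4, nat_lit 5, nat_lit 2, nat_lit 3, nat_lit 1, nat_lit 0, nat_lit 2, nat_lit 14] (Rl.cmp (nat_lit 658) (nat_lit 675)))) (FT.leaf (Fct.mk false (nat_lit 1) (nat_lit 0) (nat_lit 1) [nat_lit 4, nat_lit 12, nat_lit 15] (Rl.cmp (nat_lit 23) (nat_lit 484)))))) (FT.node (nat_lit 679) (FT.leaf (Fct.mk true (nat_lit 5) (nat_lit 15527) (nat_lit 9) [nat_lit 1, nat_lit 2, nat_lit 3, nat_lit 8, nat_lit 6, nat_lit 4, nat_lit 5, nat_lit 3, nat_lit 4, nat_lit 2, nat_lit 3, nat_lit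 8, nat_lit 1, nat_lit 2, nat_lit 3, nat_lit 4, nat_lit 5, nat_lit 4, nat_lit 3, nat_lit 2, nat_lit 1, nat_lit 8, nat_lit 3, nat_lit 2, nat_lit 0, nat_lit 1, nat_lit 4, nat_lit 3, nat_lit 2, nat_lit 8, nat_lit 3, nat_lit 13, nat_lit 12] (Rl.rel (nat_lit 0) [nat_lit 4, nat_lit 5, nat_lit 2, nat_lit 3, nat_lit 4, nat_lit 1, nat_lit 2, nat_lit 3, nat_lit 8, nat_lit 0, nat_lit 1, nat_lit 2, nat_lit 3, nat_lit 4, nat_lit 5, nat_lit 3, nat_lit 2, nat_lit 1, nat_lit 8, nat_lit 3, nat_lit 2, nat_lit 0, nat_lit 1, nat_lit 4, nat_lit 3, nat_lit 2, nat_lit 8, nat_lit 3, nat_lit 11, nat_lit 10, nat_lit 8, nat_lit 16, nat_lit 15, nat_lit 14, nat_lit 17, nat_lit 12, nat_lit 19, nat_lit 16] (nat_lit 9) (nat_lit 2) [nat_lit 643, nat_lit 507, nat_lit 460] []))) (FT.node (nat_lit 680) (FT.leaf (Fct.mk true (nat_lit 5) (nat_lit 10109) (nat_lit 9) [nat_lit 2, nat_lit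 3, nat_lit 8, nat_lit 6, nat_lit 4, nat_lit 5, nat_lit 3, nat_lit 4, nat_lit 2, nat_lit 3, nat_lit 8, nat_lit 1, nat_lit 2, nat_lit 3, nat_lit 4, nat_lit 5, nat_lit 4, nat_lit 3, nat_lit 2, nat_lit 1, nat_lit 8, nat_lit 3, nat_lit 2, nat_lit 0, nat_lit 1, nat_lit 4, nat_lit 3, nat_lit 2, nat_lit 8, nat_lit 3, nat_lit 13, nat_lit 12] (Rl.t1 (nat_lit 678) (nat_lit 472)))) (FT.leaf (Fct.mk true (nat_lit 9) (nat_lit 251) (nat_lit 5) [nat_lit 8, nat_lit 6, nat_lit 4, nat_lit 5, nat_lit 3, nat_lit 4, nat_lit 1, nat_lit 2, nat_lit 3, nat_lit 8, nat_lit 0, nat_lit 1, nat_lit 2, nat_lit 3, nat_lit 4, nat_lit 5, nat_lit 2, nat_lit 1, nat_lit 9, nat_lit 4, nat_lit 3, nat_lit 2, nat_lit 8, nat_lit 3, nat_lit 10, nat_lit 9, nat_lit 2, nat_lit 8, nat_lit 12, nat_lit 15, nat_lit 17] (Rl.inv (nat_lit 679))))))) (FT.node (nat_lit 684) (FT.node (nat_lit 682)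 (FT.leaf (Fct.mk true (nat_lit 9) (nat_lit 116) (nat_lit 5) [nat_lit 2, nat_lit 3, nat_lit 8, nat_lit 6, nat_lit 4, nat_lit 5, nat_lit 3, nat_lit 4, nat_lit 2, nat_lit 3, nat_lit 8, nat_lit 1, nat_lit 2, nat_lit 3, nat_lit 4, nat_lit 5, nat_lit 3, nat_lit 2, nat_lit 1, nat_lit 9, nat_lit 4, nat_lit 3, nat_lit 2, nat_lit 8, nat_lit 3, nat_lit 10, nat_lit 9, nat_lit 2, nat_lit 14, nat_lit 12, nat_lit 19, nat_lit 16] (Rl.t1 (nat_lit 680) (nat_lit 661)))) (FT.node (nat_lit 683) (FT.leaf (Fct.mk false (nat_lit 1) (nat_lit 0) (nat_lit 1) [nat_lit 3, nat_lit 4, nat_lit 5, nat_lit 3, nat_lit 1, nat_lit 14] (Rl.cmp (nat_lit 21) (nat_lit 19)))) (FT.leaf (Fct.mk false (nat_lit 1) (nat_lit 0) (nat_lit 1) [nat_lit 2, nat_lit 3, nat_lit 4, nat_lit 5, nat_lit 2, nat_lit 3, nat_lit 15, nat_lit 14] (Rl.cmp (nat_lit 23) (nat_lit 682)))))) (FT.node (nat_lit 685)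 (FT.leaf (Fct.mk false (nat_lit 9) (nat_lit 0) (nat_lit 9) [nat_lit 0, nat_lit 1, nat_lit 2, nat_lit 3, nat_lit 0, nat_lit 15] (Rl.cmp (nat_lit 658) (nat_lit 658)))) (FT.node (nat_lit 686) (FT.leaf (Fct.mk false (nat_lit 9) (nat_lit 0) (nat_lit 9) [nat_lit 5, nat_lit 3, nat_lit 1, nat_lit 0, nat_lit 2, nat_lit 15, nat_lit 14, nat_lit 12] (Rl.cmp (nat_lit 675) (nat_lit 658)))) (FT.leaf (Fct.mk false (nat_lit 1) (nat_lit 0) (nat_lit 1) [nat_lit 3, nat_lit 4, nat_lit 5, nat_lit 4, nat_lit 2, nat_lit 12, nat_lit 15] (Rl.cmp (nat_lit 21) (nat_lit 439)))))))) (FT.node (nat_lit 693) (FT.node (nat_lit 690) (FT.node (nat_lit 688) (FT.leaf (Fct.mk false (nat_lit 1) (nat_lit 0) (nat_lit 1) [nat_lit 3, nat_lit 4, nat_lit 5, nat_lit 6, nat_lit 7, nat_lit 2, nat_lit 3, nat_lit 2] (Rl.cmp (nat_lit 27) (nat_lit 639)))) (FT.node (nat_lit 689) (FT.leaf (Fct.mk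 false (nat_lit 1) (nat_lit 0) (nat_lit 1) [nat_lit 2, nat_lit 3, nat_lit 4, nat_lit 5, nat_lit 6, nat_lit 7, nat_lit 1, nat_lit 2, nat_lit 3, nat_lit 2, nat_lit 14] (Rl.cmp (nat_lit 19) (nat_lit 687)))) (FT.leaf (Fct.mk false (nat_lit 1) (nat_lit 0) (nat_lit 1) [nat_lit 1, nat_lit 2, nat_lit 3, nat_lit 4, nat_lit 5, nat_lit 6, nat_lit 7, nat_lit 0, nat_lit 1, nat_lit 2, nat_lit 3, nat_lit 1, nat_lit 0, nat_lit 2, nat_lit 14] (Rl.cmp (nat_lit 23) (nat_lit 688)))))) (FT.node (nat_lit 691) (FT.leaf (Fct.mk false (nat_lit 9) (nat_lit 0) (nat_lit 9) [nat_lit 2, nat_lit 3, nat_lit 4, nat_lit 5, nat_lit 0, nat_lit 1, nat_lit 2, nat_lit 3, nat_lit 0, nat_lit 2, nat_lit 12] (Rl.cmp (nat_lit 658) (nat_lit 685)))) (FT.node (nat_lit 692) (FT.leaf (Fct.mk false (nat_lit 9) (nat_lit 0) (nat_lit 9) [nat_lit 1, nat_lit 0, nat_lit 2, nat_lit 15, nat_lit 14,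 nat_lit 12] (Rl.cmp (nat_lit 658) (nat_lit 661)))) (FT.leaf (Fct.mk false (nat_lit 9) (nat_lit 0) (nat_lit 9) [nat_lit 2, nat_lit 3, nat_lit 4, nat_lit 5, nat_lit 2, nat_lit 3, nat_lit 1, nat_lit 0, nat_lit 2, nat_lit 14] (Rl.cmp (nat_lit 658) (nat_lit 675))))))) (FT.node (nat_lit 696) (FT.node (nat_lit 694) (FT.leaf (Fct.mk false (nat_lit 9) (nat_lit 0) (nat_lit 9) [nat_lit 5, nat_lit 0, nat_lit 1, nat_lit 2, nat_lit 3, nat_lit 0, nat_lit 2, nat_lit 15] (Rl.cmp (nat_lit 675) (nat_lit 661)))) (FT.node (nat_lit 695) (FT.leaf (Fct.mk false (nat_lit 9) (nat_lit 0) (nat_lit 9) [nat_lit 1, nat_lit 0, nat_lit 2, nat_lit 15, nat_lit 14, nat_lit 12] (Rl.cmp (nat_lit 658) (nat_lit 661)))) (FT.leaf (Fct.mk false (nat_lit 9) (nat_lit 0) (nat_lit 9) [nat_lit 5, nat_lit 0, nat_lit 1, nat_lit 2, nat_lit 3, nat_lit 0, nat_lit 2, nat_lit 15] (Rl.cmp (nat_lit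 675) (nat_lit 661)))))) (FT.node (nat_lit 698) (FT.node (nat_lit 697) (FT.leaf (Fct.mk false (nat_lit 9) (nat_lit 0) (nat_lit 9) [nat_lit 2, nat_lit 3, nat_lit 4, nat_lit 5, nat_lit 3, nat_lit 1, nat_lit 0, nat_lit 2, nat_lit 14] (Rl.cmp (nat_lit 658) (nat_lit 695)))) (FT.leaf (Fct.mk false (nat_lit 9) (nat_lit 0) (nat_lit 9) [nat_lit 5, nat_lit 3, nat_lit 1, nat_lit 0, nat_lit 2, nat_lit 15, nat_lit 14, nat_lit 12] (Rl.cmp (nat_lit 675) (nat_lit 658))))) (FT.node (nat_lit 699) (FT.leaf (Fct.mk false (nat_lit 9) (nat_lit 0) (nat_lit 9) [nat_lit 0, nat_lit 1, nat_lit 2, nat_lit 3, nat_lit 0, nat_lit 15, nat_lit 12] (Rl.cmp (nat_lit 661) (nat_lit 694)))) (FT.leaf (Fct.mk false (nat_lit 4) (nat_lit 0) (nat_lit 4) [nat_lit 2, nat_lit 3, nat_lit 4, nat_lit 5, nat_lit 1, nat_lit 3, nat_lit 2, nat_lit 8, nat_lit 3, nat_lit 14, nat_lit 12, nat_lit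 18] (Rl.cmp (nat_lit 312) (nat_lit 240)))))))))

/-- some facts -/
noncomputable def ftc14 : FT := FT.node (nat_lit 725) (FT.node (nat_lit 712) (FT.node (nat_lit 706) (FT.node (nat_lit 703) (FT.node (nat_lit 701) (FT.leaf (Fct.mk false (nat_lit 9) (nat_lit 0) (nat_lit 9) [nat_lit 3] (Rl.cmp (nat_lit 658) (nat_lit 691)))) (FT.node (nat_lit 702) (FT.leaf (Fct.mk false (nat_lit 2) (nat_lit 0) (nat_lit 2) [nat_lit 6, nat_lit 4, nat_lit 10] (Rl.cmp (nat_lit 168) (nat_lit 394)))) (FT.leaf (Fct.mk false (nat_lit 2) (nat_lit 0) (nat_lit 2) [nat_lit 6, nat_lit 1, nat_lit 2, nat_lit 0, nat_lit 1, nat_lit 3, nat_lit 2, nat_lit 8, nat_lit 3, nat_lit 2, nat_lit 8, nat_lit 10, nat_lit 1, nat_lit 8, nat_lit 12, nat_lit 15, nat_lit 14, nat_lit 8] (Rl.cmp (nat_lit 168) (nat_lit 300)))))) (FT.node (nat_lit 704) (FT.leaf (Fct.mk false (nat_lit 2) (nat_lit 0)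 (nat_lit 2) [nat_lit 4, nat_lit 3, nat_lit 2, nat_lit 1, nat_lit 8, nat_lit 3, nat_lit 2, nat_lit 0, nat_lit 1, nat_lit 4, nat_lit 3, nat_lit 2, nat_lit 8, nat_lit 3, nat_lit 2, nat_lit 8, nat_lit 10, nat_lit 1, nat_lit 8, nat_lit 12, nat_lit 15, nat_lit 14, nat_lit 18] (Rl.cmp (nat_lit 300) (nat_lit 84)))) (FT.node (nat_lit 705) (FT.leaf (Fct.mk false (nat_lit 2) (nat_lit 0) (nat_lit 2) [nat_lit 1, nat_lit 2, nat_lit 0, nat_lit 1, nat_lit 4, nat_lit 3, nat_lit 2, nat_lit 8, nat_lit 3, nat_lit 2, nat_lit 8, nat_lit 10, nat_lit 1, nat_lit 8, nat_lit 12, nat_lit 15, nat_lit 14] (Rl.cmp (nat_lit 88) (nat_lit 703)))) (FT.leaf (Fct.mk false (nat_lit 2) (nat_lit 0) (nat_lit 2) [nat_lit 3, nat_lit 8, nat_lit 10, nat_lit 8] (Rl.cmp (nat_lit 88) (nat_lit 86))))))) (FT.node (nat_lit 709) (FT.node (nat_lit 707) (FT.leaf (Fct.mk false (nat_lit 2) (nat_lit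 0) (nat_lit 2) [nat_lit 2, nat_lit 3, nat_lit 8, nat_lit 10, nat_lit 0, nat_lit 8] (Rl.cmp (nat_lit 173) (nat_lit 84)))) (FT.node (nat_lit 708) (FT.leaf (Fct.mk false (nat_lit 2) (nat_lit 0) (nat_lit 2) [nat_lit 4, nat_lit 3, nat_lit 2, nat_lit 8, nat_lit 3, nat_lit 0, nat_lit 12, nat_lit 18] (Rl.cmp (nat_lit 88) (nat_lit 706)))) (FT.leaf (Fct.mk false (nat_lit 9) (nat_lit 0) (nat_lit 9) [nat_lit 2, nat_lit 3, nat_lit 4, nat_lit 5, nat_lit 0, nat_lit 1, nat_lit 2, nat_lit 3, nat_lit 0, nat_lit 2, nat_lit 12] (Rl.cmp (nat_lit 658) (nat_lit 697)))))) (FT.node (nat_lit 710) (FT.leaf (Fct.mk false (nat_lit 2) (nat_lit 0) (nat_lit 2) [nat_lit 3] (Rl.cmp (nat_lit 84) (nat_lit 86)))) (FT.node (nat_lit 711) (FT.leaf (Fct.mk true (nat_lit 1) (nat_lit 10131) (nat_lit 10) [] (Rl.df))) (FT.leaf (Fct.mk true (nat_lit 10) (nat_lit 10131) (nat_lit 1) [] (Rl.inv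 (nat_lit 710)))))))) (FT.node (nat_lit 718) (FT.node (nat_lit 715) (FT.node (nat_lit 713) (FT.leaf (Fct.mk false (nat_lit 1) (nat_lit 0) (nat_lit 1) [nat_lit 6, nat_lit 7, nat_lit 3, nat_lit 4, nat_lit 5, nat_lit 2, nat_lit 3, nat_lit 11, nat_lit 1, nat_lit 16, nat_lit 14, nat_lit 13, nat_lit 12] (Rl.cmp (nat_lit 27) (nat_lit 152)))) (FT.node (nat_lit 714) (FT.leaf (Fct.mk true (nat_lit 4) (nat_lit 85792) (nat_lit 10) [nat_lit 0, nat_lit 1, nat_lit 2, nat_lit 3, nat_lit 4, nat_lit 5, nat_lit 6, nat_lit 7, nat_lit 8, nat_lit 4, nat_lit 5, nat_lit 2, nat_lit 3, nat_lit 4, nat_lit 1, nat_lit 2, nat_lit 3, nat_lit 8, nat_lit 0, nat_lit 1, nat_lit 2, nat_lit 3, nat_lit 4, nat_lit 5, nat_lit 4, nat_lit 10, nat_lit 2, nat_lit 8, nat_lit 10, nat_lit 1, nat_lit 8, nat_lit 12, nat_lit 15, nat_lit 14, nat_lit 13, nat_lit 12, nat_lit 19] (Rl.rel (nat_lit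 0) [nat_lit 5, nat_lit 6, nat_lit 7, nat_lit 4, nat_lit 5, nat_lit 6, nat_lit 3, nat_lit 4, nat_lit 5, nat_lit 2, nat_lit 3, nat_lit 4, nat_lit 1, nat_lit 2, nat_lit 3, nat_lit 8, nat_lit 0, nat_lit 1, nat_lit 2, nat_lit 3, nat_lit 4, nat_lit 5, nat_lit 6, nat_lit 7, nat_lit 4, nat_lit 5, nat_lit 3, nat_lit 2, nat_lit 1, nat_lit 8, nat_lit 3, nat_lit 2, nat_lit 0, nat_lit 1, nat_lit 4, nat_lit 3, nat_lit 2, nat_lit 8, nat_lit 3, nat_lit 11, nat_lit 10, nat_lit 1, nat_lit 8, nat_lit 12, nat_lit 15, nat_lit 8, nat_lit 18] (nat_lit 10) (nat_lit 2) [nat_lit 711, nat_lit 712, nat_lit 232] []))) (FT.leaf (Fct.mk true (nat_lit 4) (nat_lit 4070) (nat_lit 10) [nat_lit 5, nat_lit 4, nat_lit 3, nat_lit 8, nat_lit 0, nat_lit 1, nat_lit 2, nat_lit 3, nat_lit 4, nat_lit 5, nat_lit 6, nat_lit 7, nat_lit 3, nat_lit 8, nat_lit 5, nat_lit 2, nat_lit 3, nat_lit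 4, nat_lit 1, nat_lit 2, nat_lit 3, nat_lit 8, nat_lit 0, nat_lit 1, nat_lit 2, nat_lit 3, nat_lit 4, nat_lit 5, nat_lit 4, nat_lit 3, nat_lit 2, nat_lit 8, nat_lit 3, nat_lit 2, nat_lit 10, nat_lit 1, nat_lit 8, nat_lit 12, nat_lit 15, nat_lit 13, nat_lit 12, nat_lit 18, nat_lit 16] (Rl.t1 (nat_lit 713) (nat_lit 411)))))) (FT.node (nat_lit 716) (FT.leaf (Fct.mk false (nat_lit 1) (nat_lit 0) (nat_lit 1) [nat_lit 4, nat_lit 5, nat_lit 6, nat_lit 7, nat_lit 6, nat_lit 4, nat_lit 11, nat_lit 16, nat_lit 14, nat_lit 13] (Rl.cmp (nat_lit 25) (nat_lit 65)))) (FT.node (nat_lit 717) (FT.leaf (Fct.mk false (nat_lit 1) (nat_lit 0) (nat_lit 1) [nat_lit 3, nat_lit 4, nat_lit 5, nat_lit 6, nat_lit 7, nat_lit 6, nat_lit 4, nat_lit 11, nat_lit 1, nat_lit 16, nat_lit 14, nat_lit 13, nat_lit 12] (Rl.cmp (nat_lit 19) (nat_lit 715)))) (FT.leaf (Fct.mk false (nat_lit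 1) (nat_lit 0) (nat_lit 1) [nat_lit 4, nat_lit 5, nat_lit 6, nat_lit 7, nat_lit 3, nat_lit 4, nat_lit 5, nat_lit 4, nat_lit 11, nat_lit 1, nat_lit 16, nat_lit 14, nat_lit 13, nat_lit 12] (Rl.cmp (nat_lit 27) (nat_lit 716))))))) (FT.node (nat_lit 721) (FT.node (nat_lit 719) (FT.leaf (Fct.mk false (nat_lit 10) (nat_lit 0) (nat_lit 10) [nat_lit 6, nat_lit 9, nat_lit 4, nat_lit 10, nat_lit 9, nat_lit 2, nat_lit 16] (Rl.rel (nat_lit 0) [nat_lit 5, nat_lit 6, nat_lit 7, nat_lit 4, nat_lit 5, nat_lit 6, nat_lit 3, nat_lit 4, nat_lit 5, nat_lit 2, nat_lit 3, nat_lit 4, nat_lit 1, nat_lit 2, nat_lit 3, nat_lit 8, nat_lit 0, nat_lit 1, nat_lit 2, nat_lit 3, nat_lit 4, nat_lit 5, nat_lit 6, nat_lit 7, nat_lit 5, nat_lit 11, nat_lit 14, nat_lit 12] (nat_lit 10) (nat_lit 3) [nat_lit 711, nat_lit 717, nat_lit 232, nat_lit 411, nat_lit 714] []))) (FT.node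 (nat_lit 720) (FT.leaf (Fct.mk true (nat_lit 10) (nat_lit 15558) (nat_lit 10) [] (Rl.rel (nat_lit 0) [nat_lit 5, nat_lit 6, nat_lit 7, nat_lit 4, nat_lit 5, nat_lit 6, nat_lit 3, nat_lit 4, nat_lit 5, nat_lit 2, nat_lit 3, nat_lit 4, nat_lit 1, nat_lit 2, nat_lit 3, nat_lit 8, nat_lit 0, nat_lit 1, nat_lit 2, nat_lit 3, nat_lit 4, nat_lit 5, nat_lit 6, nat_lit 7, nat_lit 8, nat_lit 5, nat_lit 2, nat_lit 3, nat_lit 4, nat_lit 1, nat_lit 2, nat_lit 3, nat_lit 8, nat_lit 0, nat_lit 1, nat_lit 2, nat_lit 3, nat_lit 4, nat_lit 5, nat_lit 1, nat_lit 4, nat_lit 3, nat_lit 2, nat_lit 8, nat_lit 3, nat_lit 9, nat_lit 2, nat_lit 14, nat_lit 13, nat_lit 18] (nat_lit 10) (nat_lit 2) [nat_lit 711, nat_lit 602, nat_lit 710] []))) (FT.leaf (Fct.mk false (nat_lit 1) (nat_lit 0) (nat_lit 1) [nat_lit 3, nat_lit 4, nat_lit 5, nat_lit 2, nat_lit 3, nat_lit 1,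 nat_lit 14] (Rl.cmp (nat_lit 21) (nat_lit 603)))))) (FT.node (nat_lit 723) (FT.node (nat_lit 722) (FT.leaf (Fct.mk false (nat_lit 1) (nat_lit 0) (nat_lit 1) [nat_lit 4, nat_lit 5, nat_lit 2, nat_lit 3, nat_lit 2, nat_lit 10, nat_lit 1, nat_lit 14] (Rl.cmp (nat_lit 21) (nat_lit 720)))) (FT.leaf (Fct.mk false (nat_lit 10) (nat_lit 0) (nat_lit 10) [nat_lit 2, nat_lit 3, nat_lit 4, nat_lit 5, nat_lit 4, nat_lit 10, nat_lit 12] (Rl.rel (nat_lit 0) [nat_lit 5, nat_lit 6, nat_lit 7, nat_lit 4, nat_lit 5, nat_lit 6, nat_lit 3, nat_lit 4, nat_lit 5, nat_lit 2, nat_lit 3, nat_lit 4, nat_lit 1, nat_lit 2, nat_lit 3, nat_lit 8, nat_lit 0, nat_lit 1, nat_lit 2, nat_lit 3, nat_lit 4, nat_lit 5, nat_lit 6, nat_lit 7, nat_lit 2, nat_lit 3, nat_lit 4, nat_lit 1, nat_lit 2, nat_lit 3, nat_lit 8, nat_lit 5, nat_lit 6, nat_lit 4, nat_lit 5, nat_lit 3, nat_lit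 4, nat_lit 2, nat_lit 3, nat_lit 8, nat_lit 1, nat_lit 2, nat_lit 3, nat_lit 4, nat_lit 5, nat_lit 1, nat_lit 8, nat_lit 4, nat_lit 3, nat_lit 2, nat_lit 0, nat_lit 1, nat_lit 9, nat_lit 4, nat_lit 3, nat_lit 2, nat_lit 8, nat_lit 3, nat_lit 1, nat_lit 14, nat_lit 16, nat_lit 8, nat_lit 18, nat_lit 16] (nat_lit 10) (nat_lit 3) [nat_lit 711, nat_lit 721, nat_lit 710, nat_lit 719] [])))) (FT.node (nat_lit 724) (FT.leaf (Fct.mk false (nat_lit 1) (nat_lit 0) (nat_lit 1) [nat_lit 5, nat_lit 6, nat_lit 7, nat_lit 3] (Rl.cmp (nat_lit 17) (nat_lit 153)))) (FT.leaf (Fct.mk false (nat_lit 1) (nat_lit 0) (nat_lit 1) [nat_lit 6, nat_lit 7, nat_lit 10] (Rl.cmp (nat_lit 21) (nat_lit 723))))))))) (FT.node (nat_lit 737) (FT.node (nat_lit 731) (FT.node (nat_lit 728) (FT.node (nat_lit 726) (FT.leaf (Fct.mk false (nat_lit 1) (nat_lit 0) (nat_lit 1) [nat_lit 4,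 nat_lit 5, nat_lit 10, nat_lit 1, nat_lit 14] (Rl.cmp (nat_lit 21) (nat_lit 523)))) (FT.node (nat_lit 727) (FT.leaf (Fct.mk false (nat_lit 1) (nat_lit 0) (nat_lit 1) [nat_lit 5, nat_lit 4, nat_lit 1, nat_lit 16, nat_lit 14] (Rl.cmp (nat_lit 25) (nat_lit 725)))) (FT.leaf (Fct.mk false (nat_lit 1) (nat_lit 0) (nat_lit 1) [nat_lit 2] (Rl.cmp (nat_lit 13) (nat_lit 15)))))) (FT.node (nat_lit 729) (FT.leaf (Fct.mk false (nat_lit 1) (nat_lit 0) (nat_lit 1) [nat_lit 3, nat_lit 14] (Rl.cmp (nat_lit 19) (nat_lit 727)))) (FT.node (nat_lit 730) (FT.leaf (Fct.mk true (nat_lit 7) (nat_lit 25660) (nat_lit 10) [nat_lit 8, nat_lit 2, nat_lit 3, nat_lit 4, nat_lit 1, nat_lit 2, nat_lit 3, nat_lit 8, nat_lit 5, nat_lit 6, nat_lit 4, nat_lit 5, nat_lit 3, nat_lit 4, nat_lit 2, nat_lit 3, nat_lit 8, nat_lit 1, nat_lit 2, nat_lit 3, nat_lit 4, nat_lit 5, nat_lit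 6, nat_lit 7, nat_lit 6, nat_lit 5, nat_lit 4, nat_lit 3, nat_lit 8, nat_lit 1, nat_lit 2, nat_lit 3, nat_lit 4, nat_lit 5, nat_lit 1, nat_lit 9, nat_lit 4, nat_lit 3, nat_lit 2, nat_lit 8, nat_lit 3, nat_lit 16, nat_lit 8, nat_lit 19, nat_lit 16] (Rl.rel (nat_lit 0) [nat_lit 0, nat_lit 1, nat_lit 2, nat_lit 3, nat_lit 4, nat_lit 5, nat_lit 6, nat_lit 7, nat_lit 3, nat_lit 8, nat_lit 2, nat_lit 3, nat_lit 4, nat_lit 1, nat_lit 2, nat_lit 3, nat_lit 8, nat_lit 0, nat_lit 1, nat_lit 2, nat_lit 3, nat_lit 4, nat_lit 5, nat_lit 4, nat_lit 3, nat_lit 2, nat_lit 8, nat_lit 3, nat_lit 11, nat_lit 2, nat_lit 8, nat_lit 10, nat_lit 1, nat_lit 12, nat_lit 15, nat_lit 14, nat_lit 8] (nat_lit 10) (nat_lit 2) [nat_lit 711, nat_lit 728, nat_lit 588] []))) (FT.leaf (Fct.mk true (nat_lit 7) (nat_lit 12357) (nat_lit 10) [nat_lit 8, nat_lit 3, nat_lit 4, nat_lit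 2, nat_lit 3, nat_lit 8, nat_lit 5, nat_lit 6, nat_lit 4, nat_lit 5, nat_lit 3, nat_lit 4, nat_lit 2, nat_lit 3, nat_lit 8, nat_lit 0, nat_lit 1, nat_lit 2, nat_lit 3, nat_lit 4, nat_lit 5, nat_lit 6, nat_lit 7, nat_lit 8, nat_lit 3, nat_lit 4, nat_lit 2, nat_lit 3, nat_lit 8, nat_lit 5, nat_lit 6, nat_lit 4, nat_lit 5, nat_lit 3, nat_lit 4, nat_lit 2, nat_lit 3, nat_lit 8, nat_lit 0, nat_lit 1, nat_lit 2, nat_lit 3, nat_lit 4, nat_lit 5, nat_lit 8, nat_lit 3, nat_lit 2, nat_lit 0, nat_lit 1, nat_lit 4, nat_lit 3, nat_lit 2, nat_lit 8, nat_lit 3, nat_lit 11, nat_lit 2, nat_lit 8, nat_lit 10, nat_lit 1, nat_lit 12, nat_lit 15, nat_lit 14, nat_lit 18] (Rl.t1 (nat_lit 729) (nat_lit 600))))))) (FT.node (nat_lit 734) (FT.node (nat_lit 732) (FT.leaf (Fct.mk true (nat_lit 1) (nat_lit 10160) (nat_lit 11) [] (Rl.df))) (FT.node (nat_lit 733) (FT.leaf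 (Fct.mk true (nat_lit 11) (nat_lit 10160) (nat_lit 1) [] (Rl.inv (nat_lit 731)))) (FT.leaf (Fct.mk true (nat_lit 4) (nat_lit 42015) (nat_lit 11) [nat_lit 5, nat_lit 6, nat_lit 7, nat_lit 8, nat_lit 5, nat_lit 3, nat_lit 4, nat_lit 1, nat_lit 2, nat_lit 3, nat_lit 8, nat_lit 0, nat_lit 1, nat_lit 2, nat_lit 3, nat_lit 4, nat_lit 5, nat_lit 4, nat_lit 3, nat_lit 2, nat_lit 1, nat_lit 8, nat_lit 3, nat_lit 2, nat_lit 0, nat_lit 1, nat_lit 4, nat_lit 3, nat_lit 2, nat_lit 8, nat_lit 3, nat_lit 2, nat_lit 13, nat_lit 12] (Rl.rel (nat_lit 0) [nat_lit 3, nat_lit 4, nat_lit 5, nat_lit 2, nat_lit 3, nat_lit 4, nat_lit 1, nat_lit 2, nat_lit 3, nat_lit 8, nat_lit 0, nat_lit 1, nat_lit 2, nat_lit 3, nat_lit 4, nat_lit 5, nat_lit 6, nat_lit 7, nat_lit 4, nat_lit 5, nat_lit 2, nat_lit 1, nat_lit 4, nat_lit 3, nat_lit 2, nat_lit 8, nat_lit 3, nat_lit 10,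 nat_lit 0, nat_lit 16, nat_lit 8] (nat_lit 11) (nat_lit 2) [nat_lit 732, nat_lit 115, nat_lit 232] []))))) (FT.node (nat_lit 735) (FT.leaf (Fct.mk true (nat_lit 4) (nat_lit 4079) (nat_lit 11) [nat_lit 3, nat_lit 4, nat_lit 2, nat_lit 3, nat_lit 8, nat_lit 1, nat_lit 2, nat_lit 3, nat_lit 4, nat_lit 5, nat_lit 6, nat_lit 7, nat_lit 8, nat_lit 5, nat_lit 2, nat_lit 3, nat_lit 4, nat_lit 1, nat_lit 2, nat_lit 3, nat_lit 8, nat_lit 0, nat_lit 1, nat_lit 2, nat_lit 3, nat_lit 4, nat_lit 5, nat_lit 2, nat_lit 3, nat_lit 10, nat_lit 1, nat_lit 8, nat_lit 12, nat_lit 15, nat_lit 14, nat_lit 13, nat_lit 12, nat_lit 18, nat_lit 16] (Rl.t1 (nat_lit 733) (nat_lit 458)))) (FT.node (nat_lit 736) (FT.leaf (Fct.mk false (nat_lit 1) (nat_lit 0) (nat_lit 1) [nat_lit 7, nat_lit 6, nat_lit 4, nat_lit 16] (Rl.cmp (nat_lit 27) (nat_lit 724)))) (FT.leaf (Fct.mk false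 (nat_lit 1) (nat_lit 0) (nat_lit 1) [nat_lit 7, nat_lit 6, nat_lit 4, nat_lit 0, nat_lit 2, nat_lit 12, nat_lit 15, nat_lit 16] (Rl.cmp (nat_lit 23) (nat_lit 735)))))))) (FT.node (nat_lit 743) (FT.node (nat_lit 740) (FT.node (nat_lit 738) (FT.leaf (Fct.mk false (nat_lit 1) (nat_lit 0) (nat_lit 1) [nat_lit 7, nat_lit 6, nat_lit 4, nat_lit 1, nat_lit 0, nat_lit 2, nat_lit 15, nat_lit 12, nat_lit 16] (Rl.cmp (nat_lit 19) (nat_lit 736)))) (FT.node (nat_lit 739) (FT.leaf (Fct.mk true (nat_lit 9) (nat_lit 113641) (nat_lit 11) [nat_lit 7, nat_lit 6, nat_lit 5, nat_lit 3, nat_lit 4, nat_lit 2, nat_lit 3, nat_lit 8, nat_lit 1, nat_lit 2, nat_lit 3, nat_lit 4, nat_lit 5, nat_lit 6, nat_lit 7, nat_lit 4, nat_lit 5, nat_lit 3, nat_lit 0, nat_lit 2, nat_lit 8, nat_lit 16, nat_lit 15, nat_lit 14, nat_lit 17, nat_lit 12] (Rl.rel (nat_lit 0) [nat_lit 8, nat_lit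 4, nat_lit 5, nat_lit 2, nat_lit 3, nat_lit 4, nat_lit 1, nat_lit 2, nat_lit 3, nat_lit 8, nat_lit 0, nat_lit 1, nat_lit 2, nat_lit 3, nat_lit 4, nat_lit 5, nat_lit 6, nat_lit 7, nat_lit 3, nat_lit 8, nat_lit 2, nat_lit 3, nat_lit 4, nat_lit 1, nat_lit 2, nat_lit 3, nat_lit 8, nat_lit 0, nat_lit 1, nat_lit 2, nat_lit 3, nat_lit 4, nat_lit 5, nat_lit 1, nat_lit 8, nat_lit 3, nat_lit 2, nat_lit 0, nat_lit 1, nat_lit 4, nat_lit 3, nat_lit 2, nat_lit 8, nat_lit 3, nat_lit 16, nat_lit 8, nat_lit 19] (nat_lit 11) (nat_lit 2) [nat_lit 732, nat_lit 737, nat_lit 642] []))) (FT.leaf (Fct.mk true (nat_lit 9) (nat_lit 40700) (nat_lit 11) [nat_lit 7, nat_lit 6, nat_lit 5, nat_lit 2, nat_lit 3, nat_lit 4, nat_lit 1, nat_lit 2, nat_lit 3, nat_lit 8, nat_lit 0, nat_lit 1, nat_lit 2, nat_lit 3, nat_lit 4, nat_lit 5, nat_lit 6, nat_lit 7, nat_lit 8, nat_lit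 3, nat_lit 4, nat_lit 5, nat_lit 4, nat_lit 2, nat_lit 8, nat_lit 16, nat_lit 15, nat_lit 14, nat_lit 12] (Rl.t1 (nat_lit 738) (nat_lit 690)))))) (FT.node (nat_lit 741) (FT.leaf (Fct.mk false (nat_lit 1) (nat_lit 0) (nat_lit 1) [nat_lit 6, nat_lit 7, nat_lit 6, nat_lit 9, nat_lit 4, nat_lit 0, nat_lit 2, nat_lit 12, nat_lit 15, nat_lit 16] (Rl.cmp (nat_lit 23) (nat_lit 155)))) (FT.node (nat_lit 742) (FT.leaf (Fct.mk false (nat_lit 1) (nat_lit 0) (nat_lit 1) [nat_lit 6, nat_lit 7, nat_lit 6, nat_lit 9, nat_lit 4, nat_lit 1, nat_lit 0, nat_lit 2, nat_lit 15, nat_lit 12, nat_lit 16] (Rl.cmp (nat_lit 19) (nat_lit 740)))) (FT.leaf (Fct.mk false (nat_lit 11) (nat_lit 0) (nat_lit 11) [nat_lit 6, nat_lit 2, nat_lit 3, nat_lit 10, nat_lit 12] (Rl.rel (nat_lit 0) [nat_lit 8, nat_lit 4, nat_lit 5, nat_lit 2, nat_lit 3, nat_lit 4, nat_lit 1, nat_lit 2,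 nat_lit 3, nat_lit 8, nat_lit 0, nat_lit 1, nat_lit 2, nat_lit 3, nat_lit 4, nat_lit 5, nat_lit 6, nat_lit 7, nat_lit 4, nat_lit 3, nat_lit 8, nat_lit 2, nat_lit 3, nat_lit 4, nat_lit 1, nat_lit 2, nat_lit 3, nat_lit 8, nat_lit 0, nat_lit 1, nat_lit 2, nat_lit 3, nat_lit 4, nat_lit 5, nat_lit 1, nat_lit 8, nat_lit 3, nat_lit 2, nat_lit 0, nat_lit 1, nat_lit 4, nat_lit 3, nat_lit 2, nat_lit 8, nat_lit 3, nat_lit 16, nat_lit 8, nat_lit 19] (nat_lit 11) (nat_lit 3) [nat_lit 732, nat_lit 741, nat_lit 642, nat_lit 685, nat_lit 739] [])))))) (FT.node (nat_lit 746) (FT.node (nat_lit 744) (FT.leaf (Fct.mk false (nat_lit 1) (nat_lit 0) (nat_lit 1) [nat_lit 7, nat_lit 5, nat_lit 9, nat_lit 4, nat_lit 9, nat_lit 16] (Rl.cmp (nat_lit 27) (nat_lit 283)))) (FT.node (nat_lit 745) (FT.leaf (Fct.mk false (nat_lit 1) (nat_lit 0) (nat_lit 1) [nat_lit 7, nat_lit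 5, nat_lit 9, nat_lit 4, nat_lit 11, nat_lit 10, nat_lit 14, nat_lit 13, nat_lit 16] (Rl.cmp (nat_lit 23) (nat_lit 743)))) (FT.leaf (Fct.mk true (nat_lit 5) (nat_lit 70682) (nat_lit 11) [nat_lit 5, nat_lit 4, nat_lit 3, nat_lit 8, nat_lit 6, nat_lit 7, nat_lit 5, nat_lit 6, nat_lit 4, nat_lit 5, nat_lit 3, nat_lit 4, nat_lit 1, nat_lit 2, nat_lit 3, nat_lit 8, nat_lit 0, nat_lit 1, nat_lit 2, nat_lit 3, nat_lit 4, nat_lit 5, nat_lit 6, nat_lit 7, nat_lit 6, nat_lit 8, nat_lit 3, nat_lit 2, nat_lit 1, nat_lit 9, nat_lit 4, nat_lit 3, nat_lit 2, nat_lit 8, nat_lit 3, nat_lit 8, nat_lit 10, nat_lit 0, nat_lit 15, nat_lit 18, nat_lit 16] (Rl.rel (nat_lit 0) [nat_lit 8, nat_lit 4, nat_lit 5, nat_lit 2, nat_lit 3, nat_lit 4, nat_lit 1, nat_lit 2, nat_lit 3, nat_lit 8, nat_lit 0, nat_lit 1, nat_lit 2, nat_lit 3, nat_lit 4, nat_lit 5, nat_lit 6, nat_lit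 7, nat_lit 3, nat_lit 8, nat_lit 2, nat_lit 3, nat_lit 4, nat_lit 1, nat_lit 2, nat_lit 3, nat_lit 8, nat_lit 0, nat_lit 1, nat_lit 2, nat_lit 3, nat_lit 4, nat_lit 5, nat_lit 1, nat_lit 3, nat_lit 2, nat_lit 0, nat_lit 1, nat_lit 4, nat_lit 3, nat_lit 2, nat_lit 8, nat_lit 3, nat_lit 16, nat_lit 8, nat_lit 19] (nat_lit 11) (nat_lit 2) [nat_lit 732, nat_lit 744, nat_lit 460] []))))) (FT.node (nat_lit 748) (FT.node (nat_lit 747) (FT.leaf (Fct.mk true (nat_lit 5) (nat_lit 51944) (nat_lit 11) [nat_lit 5, nat_lit 4, nat_lit 3, nat_lit 8, nat_lit 6, nat_lit 7, nat_lit 5, nat_lit 6, nat_lit 4, nat_lit 5, nat_lit 3, nat_lit 4, nat_lit 2, nat_lit 3, nat_lit 8, nat_lit 0, nat_lit 1, nat_lit 2, nat_lit 3, nat_lit 4, nat_lit 5, nat_lit 6, nat_lit 7, nat_lit 6, nat_lit 8, nat_lit 3, nat_lit 2, nat_lit 1, nat_lit 9, nat_lit 4, nat_lit 3, nat_lit 2, nat_lit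 8, nat_lit 3, nat_lit 8, nat_lit 10, nat_lit 0, nat_lit 15, nat_lit 18, nat_lit 16] (Rl.t1 (nat_lit 745) (nat_lit 472)))) (FT.leaf (Fct.mk false (nat_lit 1) (nat_lit 0) (nat_lit 1) [nat_lit 7, nat_lit 4, nat_lit 5, nat_lit 9, nat_lit 4, nat_lit 9, nat_lit 16] (Rl.cmp (nat_lit 27) (nat_lit 281))))) (FT.node (nat_lit 749) (FT.leaf (Fct.mk false (nat_lit 1) (nat_lit 0) (nat_lit 1) [nat_lit 7, nat_lit 3, nat_lit 4, nat_lit 5, nat_lit 9, nat_lit 4, nat_lit 11, nat_lit 14, nat_lit 13, nat_lit 16] (Rl.cmp (nat_lit 23) (nat_lit 747)))) (FT.leaf (Fct.mk false (nat_lit 11) (nat_lit 0) (nat_lit 11) [nat_lit 10] (Rl.rel (nat_lit 0) [nat_lit 8, nat_lit 4, nat_lit 5, nat_lit 2, nat_lit 3, nat_lit 4, nat_lit 1, nat_lit 2, nat_lit 3, nat_lit 8, nat_lit 0, nat_lit 1, nat_lit 2, nat_lit 3, nat_lit 4, nat_lit 5, nat_lit 6, nat_lit 7, nat_lit 3, nat_lit 8, nat_lit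 2, nat_lit 3, nat_lit 4, nat_lit 1, nat_lit 2, nat_lit 3, nat_lit 8, nat_lit 0, nat_lit 1, nat_lit 2, nat_lit 3, nat_lit 4, nat_lit 5, nat_lit 1, nat_lit 3, nat_lit 2, nat_lit 0, nat_lit 1, nat_lit 4, nat_lit 3, nat_lit 2, nat_lit 8, nat_lit 3, nat_lit 2, nat_lit 16, nat_lit 8, nat_lit 19] (nat_lit 11) (nat_lit 3) [nat_lit 732, nat_lit 748, nat_lit 460, nat_lit 472, nat_lit 746] []))))))))

/-- some facts -/
noncomputable def ftc15 : FT := FT.node (nat_lit 775) (FT.node (nat_lit 762) (FT.node (nat_lit 756) (FT.node (nat_lit 753) (FT.node (nat_lit 751) (FT.leaf (Fct.mk false (nat_lit 1) (nat_lit 0) (nat_lit 1) [nat_lit 3, nat_lit 4, nat_lit 5, nat_lit 6, nat_lit 7, nat_lit 2, nat_lit 12] (Rl.cmp (nat_lit 27) (nat_lit 520)))) (FT.node (nat_lit 752) (FT.leaf (Fct.mk false (nat_lit 1) (nat_lit 0) (nat_lit 1) [nat_lit 2, nat_lit 3, nat_lit 4, nat_lit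 5, nat_lit 6, nat_lit 7, nat_lit 14, nat_lit 12] (Rl.cmp (nat_lit 19) (nat_lit 750)))) (FT.leaf (Fct.mk false (nat_lit 1) (nat_lit 0) (nat_lit 1) [nat_lit 2, nat_lit 3, nat_lit 4, nat_lit 5, nat_lit 6, nat_lit 7, nat_lit 2, nat_lit 14, nat_lit 12] (Rl.cmp (nat_lit 13) (nat_lit 751)))))) (FT.node (nat_lit 754) (FT.leaf (Fct.mk false (nat_lit 1) (nat_lit 0) (nat_lit 1) [nat_lit 1, nat_lit 2, nat_lit 3, nat_lit 4, nat_lit 5, nat_lit 6, nat_lit 7, nat_lit 12] (Rl.cmp (nat_lit 19) (nat_lit 752)))) (FT.node (nat_lit 755) (FT.leaf (Fct.mk true (nat_lit 6) (nat_lit 118331) (nat_lit 11) [nat_lit 7, nat_lit 2, nat_lit 3, nat_lit 4, nat_lit 5, nat_lit 2, nat_lit 3, nat_lit 2, nat_lit 10, nat_lit 1, nat_lit 8, nat_lit 12, nat_lit 15, nat_lit 14, nat_lit 13, nat_lit 18, nat_lit 16] (Rl.rel (nat_lit 0) [nat_lit 4, nat_lit 5, nat_lit 6, nat_lit 3, nat_lit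 4, nat_lit 5, nat_lit 2, nat_lit 3, nat_lit 4, nat_lit 1, nat_lit 2, nat_lit 3, nat_lit 8, nat_lit 0, nat_lit 1, nat_lit 2, nat_lit 3, nat_lit 4, nat_lit 5, nat_lit 6, nat_lit 7, nat_lit 8, nat_lit 5, nat_lit 2, nat_lit 3, nat_lit 4, nat_lit 1, nat_lit 2, nat_lit 3, nat_lit 8, nat_lit 0, nat_lit 1, nat_lit 2, nat_lit 3, nat_lit 4, nat_lit 5, nat_lit 8, nat_lit 3, nat_lit 2, nat_lit 0, nat_lit 1, nat_lit 4, nat_lit 3, nat_lit 2, nat_lit 8, nat_lit 3, nat_lit 8, nat_lit 12, nat_lit 15, nat_lit 16, nat_lit 8, nat_lit 19, nat_lit 16] (nat_lit 11) (nat_lit 2) [nat_lit 732, nat_lit 753, nat_lit 537] []))) (FT.leaf (Fct.mk true (nat_lit 6) (nat_lit 24440) (nat_lit 11) [nat_lit 7, nat_lit 6, nat_lit 3, nat_lit 1, nat_lit 8, nat_lit 12, nat_lit 15, nat_lit 8] (Rl.t1 (nat_lit 754) (nat_lit 587))))))) (FT.node (nat_lit 759) (FT.node (nat_lit 757) (FT.leaf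 (Fct.mk true (nat_lit 11) (nat_lit 2416) (nat_lit 6) [nat_lit 6, nat_lit 7, nat_lit 0, nat_lit 1, nat_lit 4, nat_lit 3, nat_lit 2, nat_lit 8, nat_lit 3, nat_lit 2, nat_lit 8, nat_lit 10, nat_lit 1, nat_lit 15] (Rl.inv (nat_lit 755)))) (FT.node (nat_lit 758) (FT.leaf (Fct.mk true (nat_lit 11) (nat_lit 1989) (nat_lit 6) [nat_lit 7, nat_lit 2, nat_lit 0, nat_lit 1, nat_lit 3, nat_lit 2, nat_lit 8, nat_lit 3, nat_lit 10, nat_lit 2, nat_lit 8, nat_lit 10, nat_lit 1, nat_lit 12, nat_lit 15] (Rl.t1 (nat_lit 756) (nat_lit 742)))) (FT.leaf (Fct.mk false (nat_lit 1) (nat_lit 0) (nat_lit 1) [nat_lit 3, nat_lit 4, nat_lit 5, nat_lit 4, nat_lit 12] (Rl.cmp (nat_lit 21) (nat_lit 227)))))) (FT.node (nat_lit 760) (FT.leaf (Fct.mk false (nat_lit 11) (nat_lit 0) (nat_lit 11) [nat_lit 6, nat_lit 2, nat_lit 3, nat_lit 2] (Rl.cmp (nat_lit 749) (nat_lit 742))))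 (FT.node (nat_lit 761) (FT.leaf (Fct.mk false (nat_lit 1) (nat_lit 0) (nat_lit 1) [nat_lit 2, nat_lit 12] (Rl.cmp (nat_lit 17) (nat_lit 15)))) (FT.leaf (Fct.mk false (nat_lit 1) (nat_lit 0) (nat_lit 1) [nat_lit 6, nat_lit 4, nat_lit 10, nat_lit 9, nat_lit 2, nat_lit 12] (Rl.cmp (nat_lit 25) (nat_lit 760)))))))) (FT.node (nat_lit 768) (FT.node (nat_lit 765) (FT.node (nat_lit 763) (FT.leaf (Fct.mk false (nat_lit 1) (nat_lit 0) (nat_lit 1) [nat_lit 6, nat_lit 9, nat_lit 4, nat_lit 9, nat_lit 2] (Rl.cmp (nat_lit 21) (nat_lit 761)))) (FT.node (nat_lit 764) (FT.leaf (Fct.mk false (nat_lit 1) (nat_lit 0) (nat_lit 1) [nat_lit 6, nat_lit 9, nat_lit 4, nat_lit 11, nat_lit 10, nat_lit 1, nat_lit 14, nat_lit 13] (Rl.cmp (nat_lit 23) (nat_lit 762)))) (FT.leaf (Fct.mk true (nat_lit 8) (nat_lit 25979) (nat_lit 11) [nat_lit 5, nat_lit 3, nat_lit 4, nat_lit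 2, nat_lit 3, nat_lit 8, nat_lit 0, nat_lit 1, nat_lit 2, nat_lit 3, nat_lit 4, nat_lit 5, nat_lit 6, nat_lit 7, nat_lit 6, nat_lit 5, nat_lit 4, nat_lit 3, nat_lit 8, nat_lit 1, nat_lit 2, nat_lit 3, nat_lit 4, nat_lit 5, nat_lit 2, nat_lit 3, nat_lit 14, nat_lit 16] (Rl.rel (nat_lit 0) [nat_lit 8, nat_lit 6, nat_lit 7, nat_lit 5, nat_lit 6, nat_lit 4, nat_lit 5, nat_lit 3, nat_lit 4, nat_lit 2, nat_lit 3, nat_lit 8, nat_lit 0, nat_lit 1, nat_lit 2, nat_lit 3, nat_lit 4, nat_lit 5, nat_lit 6, nat_lit 7, nat_lit 8, nat_lit 6, nat_lit 4, nat_lit 5, nat_lit 2, nat_lit 3, nat_lit 4, nat_lit 1, nat_lit 2, nat_lit 3, nat_lit 8, nat_lit 0, nat_lit 1, nat_lit 2, nat_lit 3, nat_lit 4, nat_lit 5, nat_lit 2, nat_lit 3, nat_lit 10, nat_lit 1, nat_lit 8, nat_lit 12, nat_lit 15, nat_lit 14, nat_lit 13, nat_lit 12, nat_lit 18, nat_lit 16] (nat_lit 11) (nat_lit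 2) [nat_lit 732, nat_lit 763, nat_lit 607] []))))) (FT.node (nat_lit 766) (FT.leaf (Fct.mk true (nat_lit 8) (nat_lit 10385) (nat_lit 11) [nat_lit 8, nat_lit 1, nat_lit 2, nat_lit 3, nat_lit 4, nat_lit 5, nat_lit 6, nat_lit 7, nat_lit 0, nat_lit 1, nat_lit 2, nat_lit 3, nat_lit 4, nat_lit 5, nat_lit 3, nat_lit 0, nat_lit 16, nat_lit 14, nat_lit 12, nat_lit 16] (Rl.t1 (nat_lit 764) (nat_lit 638)))) (FT.node (nat_lit 767) (FT.leaf (Fct.mk true (nat_lit 11) (nat_lit 21990) (nat_lit 8) [nat_lit 1, nat_lit 2, nat_lit 3, nat_lit 4, nat_lit 5, nat_lit 6, nat_lit 7, nat_lit 2, nat_lit 3, nat_lit 4, nat_lit 5, nat_lit 3, nat_lit 1, nat_lit 0, nat_lit 2, nat_lit 16, nat_lit 15, nat_lit 14, nat_lit 8, nat_lit 18] (Rl.inv (nat_lit 765)))) (FT.leaf (Fct.mk true (nat_lit 1) (nat_lit 12674) (nat_lit 12) [] (Rl.df)))))) (FT.node (nat_lit 771) (FT.node (nat_lit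 769) (FT.leaf (Fct.mk true (nat_lit 12) (nat_lit 12674) (nat_lit 1) [] (Rl.inv (nat_lit 767)))) (FT.node (nat_lit 770) (FT.leaf (Fct.mk false (nat_lit 2) (nat_lit 0) (nat_lit 2) [nat_lit 6, nat_lit 3, nat_lit 2, nat_lit 8, nat_lit 3, nat_lit 8, nat_lit 18] (Rl.cmp (nat_lit 84) (nat_lit 168)))) (FT.leaf (Fct.mk true (nat_lit 2) (nat_lit 12674) (nat_lit 12) [nat_lit 6, nat_lit 5, nat_lit 4, nat_lit 3, nat_lit 8, nat_lit 2, nat_lit 3, nat_lit 4, nat_lit 5, nat_lit 10, nat_lit 9, nat_lit 2, nat_lit 8, nat_lit 18, nat_lit 16] (Rl.rel (nat_lit 0) [nat_lit 2, nat_lit 3, nat_lit 4, nat_lit 5, nat_lit 3, nat_lit 2, nat_lit 8, nat_lit 3, nat_lit 16, nat_lit 8, nat_lit 19, nat_lit 16] (nat_lit 12) (nat_lit 2) [nat_lit 768, nat_lit 82] []))))) (FT.node (nat_lit 773) (FT.node (nat_lit 772) (FT.leaf (Fct.mk true (nat_lit 2) (nat_lit 117) (nat_lit 12) [nat_lit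 5, nat_lit 4, nat_lit 3, nat_lit 8, nat_lit 2, nat_lit 3, nat_lit 4, nat_lit 5, nat_lit 3, nat_lit 2, nat_lit 8, nat_lit 3, nat_lit 9, nat_lit 16, nat_lit 8, nat_lit 19] (Rl.t1 (nat_lit 770) (nat_lit 769)))) (FT.leaf (Fct.mk false (nat_lit 12) (nat_lit 0) (nat_lit 12) [nat_lit 67] (Rl.rel (nat_lit 0) [nat_lit 3, nat_lit 8, nat_lit 2, nat_lit 3, nat_lit 4, nat_lit 5, nat_lit 3, nat_lit 2, nat_lit 8, nat_lit 3, nat_lit 16, nat_lit 8, nat_lit 18] (nat_lit 12) (nat_lit 3) [nat_lit 768, nat_lit 34, nat_lit 82, nat_lit 769, nat_lit 771] [])))) (FT.node (nat_lit 774) (FT.leaf (Fct.mk false (nat_lit 12) (nat_lit 0) (nat_lit 12) [nat_lit 3, nat_lit 9] (Rl.rel (nat_lit 0) [nat_lit 3, nat_lit 4, nat_lit 5, nat_lit 3, nat_lit 2, nat_lit 8, nat_lit 3, nat_lit 2, nat_lit 16, nat_lit 8, nat_lit 19, nat_lit 16] (nat_lit 12) (nat_lit 3) [nat_lit 768, nat_lit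 44, nat_lit 82, nat_lit 769, nat_lit 771] []))) (FT.leaf (Fct.mk false (nat_lit 12) (nat_lit 0) (nat_lit 12) [nat_lit 5, nat_lit 4] (Rl.rel (nat_lit 0) [nat_lit 3, nat_lit 8, nat_lit 2, nat_lit 3, nat_lit 4, nat_lit 5, nat_lit 8, nat_lit 3, nat_lit 16, nat_lit 8, nat_lit 19, nat_lit 16] (nat_lit 12) (nat_lit 3) [nat_lit 768, nat_lit 33, nat_lit 82, nat_lit 769, nat_lit 771] [])))))))) (FT.node (nat_lit 787) (FT.node (nat_lit 781) (FT.node (nat_lit 778) (FT.node (nat_lit 776) (FT.leaf (Fct.mk true (nat_lit 9) (nat_lit 118215) (nat_lit 12) [nat_lit 3, nat_lit 4, nat_lit 5, nat_lit 3, nat_lit 2, nat_lit 1, nat_lit 4, nat_lit 3, nat_lit 2, nat_lit 0, nat_lit 1, nat_lit 9, nat_lit 4, nat_lit 3, nat_lit 2, nat_lit 8, nat_lit 3, nat_lit 8, nat_lit 10, nat_lit 15, nat_lit 14, nat_lit 8] (Rl.rel (nat_lit 0) [nat_lit 3, nat_lit 8, nat_lit 1, nat_lit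 2, nat_lit 3, nat_lit 4, nat_lit 5, nat_lit 2, nat_lit 1, nat_lit 3, nat_lit 2, nat_lit 8, nat_lit 3, nat_lit 16, nat_lit 8, nat_lit 19, nat_lit 16] (nat_lit 12) (nat_lit 2) [nat_lit 768, nat_lit 121, nat_lit 642] []))) (FT.node (nat_lit 777) (FT.leaf (Fct.mk false (nat_lit 12) (nat_lit 0) (nat_lit 12) [nat_lit 9, nat_lit 4, nat_lit 10] (Rl.rel (nat_lit 0) [nat_lit 3, nat_lit 4, nat_lit 5, nat_lit 2, nat_lit 3, nat_lit 16, nat_lit 8, nat_lit 19, nat_lit 16] (nat_lit 12) (nat_lit 3) [nat_lit 768, nat_lit 47, nat_lit 82, nat_lit 769, nat_lit 771] []))) (FT.leaf (Fct.mk false (nat_lit 12) (nat_lit 0) (nat_lit 12) [nat_lit 0] (Rl.rel (nat_lit 0) [nat_lit 3, nat_lit 8, nat_lit 1, nat_lit 2, nat_lit 3, nat_lit 4, nat_lit 5, nat_lit 2, nat_lit 1, nat_lit 3, nat_lit 2, nat_lit 8, nat_lit 3, nat_lit 0, nat_lit 16, nat_lit 8, nat_lit 19, nat_lit 16]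 (nat_lit 12) (nat_lit 3) [nat_lit 768, nat_lit 134, nat_lit 642, nat_lit 775] []))))) (FT.node (nat_lit 779) (FT.leaf (Fct.mk false (nat_lit 12) (nat_lit 0) (nat_lit 12) [nat_lit 4, nat_lit 10, nat_lit 12] (Rl.rel (nat_lit 0) [nat_lit 3, nat_lit 8, nat_lit 1, nat_lit 2, nat_lit 3, nat_lit 4, nat_lit 5, nat_lit 1, nat_lit 2, nat_lit 8, nat_lit 3, nat_lit 1, nat_lit 16, nat_lit 8, nat_lit 19, nat_lit 16] (nat_lit 12) (nat_lit 3) [nat_lit 768, nat_lit 140, nat_lit 642, nat_lit 775] []))) (FT.node (nat_lit 780) (FT.leaf (Fct.mk false (nat_lit 1) (nat_lit 0) (nat_lit 1) [nat_lit 6, nat_lit 4, nat_lit 11, nat_lit 10, nat_lit 14, nat_lit 13, nat_lit 16] (Rl.cmp (nat_lit 23) (nat_lit 25)))) (FT.leaf (Fct.mk false (nat_lit 1) (nat_lit 0) (nat_lit 1) [nat_lit 6, nat_lit 4, nat_lit 11, nat_lit 2, nat_lit 10, nat_lit 1, nat_lit 13, nat_lit 16] (Rl.cmp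 (nat_lit 19) (nat_lit 779))))))) (FT.node (nat_lit 784) (FT.node (nat_lit 782) (FT.leaf (Fct.mk false (nat_lit 12) (nat_lit 0) (nat_lit 12) [nat_lit 4, nat_lit 5, nat_lit 3, nat_lit 10] (Rl.cmp (nat_lit 774) (nat_lit 772)))) (FT.node (nat_lit 783) (FT.leaf (Fct.mk false (nat_lit 12) (nat_lit 0) (nat_lit 12) [nat_lit 3, nat_lit 4, nat_lit 5, nat_lit 3] (Rl.cmp (nat_lit 772) (nat_lit 781)))) (FT.leaf (Fct.mk false (nat_lit 1) (nat_lit 0) (nat_lit 1) [nat_lit 4, nat_lit 5, nat_lit 9, nat_lit 4, nat_lit 9, nat_lit 12, nat_lit 16] (Rl.cmp (nat_lit 25) (nat_lit 758)))))) (FT.node (nat_lit 785) (FT.leaf (Fct.mk false (nat_lit 1) (nat_lit 0) (nat_lit 1) [nat_lit 6, nat_lit 4, nat_lit 9] (Rl.cmp (nat_lit 13) (nat_lit 25)))) (FT.node (nat_lit 786) (FT.leaf (Fct.mk false (nat_lit 1) (nat_lit 0) (nat_lit 1) [nat_lit 6, nat_lit 9, nat_lit 4, nat_lit 10]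 (Rl.cmp (nat_lit 21) (nat_lit 784)))) (FT.leaf (Fct.mk false (nat_lit 12) (nat_lit 0) (nat_lit 12) [nat_lit 9, nat_lit 4, nat_lit 2, nat_lit 16] (Rl.cmp (nat_lit 778) (nat_lit 776)))))))) (FT.node (nat_lit 793) (FT.node (nat_lit 790) (FT.node (nat_lit 788) (FT.leaf (Fct.mk false (nat_lit 12) (nat_lit 0) (nat_lit 12) [nat_lit 9, nat_lit 2, nat_lit 16] (Rl.cmp (nat_lit 778) (nat_lit 773)))) (FT.node (nat_lit 789) (FT.leaf (Fct.mk false (nat_lit 12) (nat_lit 0) (nat_lit 12) [nat_lit 9, nat_lit 4, nat_lit 10, nat_lit 9, nat_lit 2, nat_lit 16] (Rl.cmp (nat_lit 776) (nat_lit 787)))) (FT.leaf (Fct.mk false (nat_lit 12) (nat_lit 0) (nat_lit 12) [nat_lit 4, nat_lit 5, nat_lit 3, nat_lit 10] (Rl.cmp (nat_lit 774) (nat_lit 772)))))) (FT.node (nat_lit 791) (FT.leaf (Fct.mk false (nat_lit 2) (nat_lit 0) (nat_lit 2) [nat_lit 6, nat_lit 7, nat_lit 4, nat_lit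 2] (Rl.cmp (nat_lit 172) (nat_lit 172)))) (FT.node (nat_lit 792) (FT.leaf (Fct.mk false (nat_lit 2) (nat_lit 0) (nat_lit 2) [nat_lit 6, nat_lit 3, nat_lit 2, nat_lit 8, nat_lit 3, nat_lit 8] (Rl.cmp (nat_lit 88) (nat_lit 168)))) (FT.leaf (Fct.mk false (nat_lit 2) (nat_lit 0) (nat_lit 2) [nat_lit 6, nat_lit 2, nat_lit 3, nat_lit 8, nat_lit 10, nat_lit 12, nat_lit 18] (Rl.cmp (nat_lit 168) (nat_lit 84))))))) (FT.node (nat_lit 796) (FT.node (nat_lit 794) (FT.leaf (Fct.mk false (nat_lit 2) (nat_lit 0) (nat_lit 2) [nat_lit 6, nat_lit 1, nat_lit 2, nat_lit 0, nat_lit 1, nat_lit 3, nat_lit 2, nat_lit 8, nat_lit 3, nat_lit 8, nat_lit 10, nat_lit 1, nat_lit 8, nat_lit 12, nat_lit 15, nat_lit 14] (Rl.cmp (nat_lit 300) (nat_lit 168)))) (FT.node (nat_lit 795) (FT.leaf (Fct.mk false (nat_lit 12) (nat_lit 0) (nat_lit 12) [nat_lit 9, nat_lit 4, nat_lit 12]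 (Rl.cmp (nat_lit 773) (nat_lit 778)))) (FT.leaf (Fct.mk false (nat_lit 2) (nat_lit 0) (nat_lit 2) [nat_lit 18] (Rl.cmp (nat_lit 86) (nat_lit 84)))))) (FT.node (nat_lit 798) (FT.node (nat_lit 797) (FT.leaf (Fct.mk false (nat_lit 2) (nat_lit 0) (nat_lit 2) [nat_lit 1, nat_lit 2, nat_lit 0, nat_lit 1, nat_lit 4, nat_lit 3, nat_lit 2, nat_lit 8, nat_lit 3, nat_lit 8, nat_lit 10, nat_lit 8, nat_lit 12, nat_lit 15, nat_lit 14, nat_lit 8, nat_lit 18] (Rl.cmp (nat_lit 300) (nat_lit 795)))) (FT.leaf (Fct.mk false (nat_lit 2) (nat_lit 0) (nat_lit 2) [nat_lit 1, nat_lit 3, nat_lit 2, nat_lit 0, nat_lit 1, nat_lit 4, nat_lit 3, nat_lit 2, nat_lit 8, nat_lit 3, nat_lit 8, nat_lit 10, nat_lit 8, nat_lit 12, nat_lit 15, nat_lit 14, nat_lit 12] (Rl.cmp (nat_lit 86) (nat_lit 796))))) (FT.node (nat_lit 799) (FT.leaf (Fct.mk false (nat_lit 12) (nat_lit 0) (nat_lit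 12) [nat_lit 5, nat_lit 9, nat_lit 4, nat_lit 9, nat_lit 12] (Rl.cmp (nat_lit 774) (nat_lit 794)))) (FT.leaf (Fct.mk false (nat_lit 12) (nat_lit 0) (nat_lit 12) [nat_lit 4, nat_lit 5, nat_lit 9, nat_lit 4, nat_lit 12] (Rl.cmp (nat_lit 774) (nat_lit 798)))))))))

/-- some facts -/
noncomputable def ftc16 : FT := FT.node (nat_lit 825) (FT.node (nat_lit 812) (FT.node (nat_lit 806) (FT.node (nat_lit 803) (FT.node (nat_lit 801) (FT.leaf (Fct.mk false (nat_lit 2) (nat_lit 0) (nat_lit 2) [nat_lit 10, nat_lit 18] (Rl.cmp (nat_lit 86) (nat_lit 87)))) (FT.node (nat_lit 802) (FT.leaf (Fct.mk false (nat_lit 2) (nat_lit 0) (nat_lit 2) [nat_lit 23] (Rl.cmp (nat_lit 86) (nat_lit 800)))) (FT.leaf (Fct.mk false (nat_lit 2) (nat_lit 0) (nat_lit 2) [nat_lit 6, nat_lit 2, nat_lit 3, nat_lit 8, nat_lit 10, nat_lit 12, nat_lit 18] (Rl.cmp (nat_lit 168) (nat_lit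 84)))))) (FT.node (nat_lit 804) (FT.leaf (Fct.mk false (nat_lit 2) (nat_lit 0) (nat_lit 2) [nat_lit 6, nat_lit 2, nat_lit 3, nat_lit 2, nat_lit 12] (Rl.cmp (nat_lit 86) (nat_lit 802)))) (FT.node (nat_lit 805) (FT.leaf (Fct.mk false (nat_lit 12) (nat_lit 0) (nat_lit 12) [nat_lit 4] (Rl.cmp (nat_lit 773) (nat_lit 776)))) (FT.leaf (Fct.mk false (nat_lit 2) (nat_lit 0) (nat_lit 2) [nat_lit 10] (Rl.cmp (nat_lit 84) (nat_lit 87))))))) (FT.node (nat_lit 809) (FT.node (nat_lit 807) (FT.leaf (Fct.mk false (nat_lit 12) (nat_lit 0) (nat_lit 12) [nat_lit 6, nat_lit 9] (Rl.cmp (nat_lit 773) (nat_lit 772)))) (FT.node (nat_lit 808) (FT.leaf (Fct.mk false (nat_lit 12) (nat_lit 0) (nat_lit 12) [nat_lit 6, nat_lit 3] (Rl.cmp (nat_lit 772) (nat_lit 806)))) (FT.leaf (Fct.mk true (nat_lit 1) (nat_lit 12675) (nat_lit 13) [] (Rl.df))))) (FT.node (nat_lit 810) (FT.leaf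 (Fct.mk true (nat_lit 13) (nat_lit 12675) (nat_lit 1) [] (Rl.inv (nat_lit 808)))) (FT.node (nat_lit 811) (FT.leaf (Fct.mk true (nat_lit 4) (nat_lit 15882) (nat_lit 13) [nat_lit 8, nat_lit 6, nat_lit 5, nat_lit 3, nat_lit 4, nat_lit 2, nat_lit 3, nat_lit 8, nat_lit 1, nat_lit 2, nat_lit 3, nat_lit 4, nat_lit 5, nat_lit 4, nat_lit 3, nat_lit 2, nat_lit 1, nat_lit 8, nat_lit 3, nat_lit 2, nat_lit 0, nat_lit 1, nat_lit 4, nat_lit 3, nat_lit 2, nat_lit 8, nat_lit 3, nat_lit 9, nat_lit 2, nat_lit 12] (Rl.rel (nat_lit 0) [nat_lit 3, nat_lit 4, nat_lit 2, nat_lit 3, nat_lit 8, nat_lit 1, nat_lit 2, nat_lit 3, nat_lit 4, nat_lit 5, nat_lit 3, nat_lit 2, nat_lit 1, nat_lit 8, nat_lit 3, nat_lit 2, nat_lit 0, nat_lit 1, nat_lit 9, nat_lit 4, nat_lit 3, nat_lit 2, nat_lit 8, nat_lit 3, nat_lit 11] (nat_lit 13) (nat_lit 2) [nat_lit 809, nat_lit 58, nat_lit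 232] []))) (FT.leaf (Fct.mk true (nat_lit 4) (nat_lit 13) (nat_lit 13) [nat_lit 3, nat_lit 8, nat_lit 6, nat_lit 4, nat_lit 5, nat_lit 3, nat_lit 4, nat_lit 2, nat_lit 3, nat_lit 8, nat_lit 1, nat_lit 2, nat_lit 3, nat_lit 4, nat_lit 5, nat_lit 4, nat_lit 3, nat_lit 2, nat_lit 1, nat_lit 8, nat_lit 3, nat_lit 2, nat_lit 0, nat_lit 1, nat_lit 4, nat_lit 3, nat_lit 2, nat_lit 8, nat_lit 3, nat_lit 12] (Rl.t1 (nat_lit 810) (nat_lit 234)))))))) (FT.node (nat_lit 818) (FT.node (nat_lit 815) (FT.node (nat_lit 813) (FT.leaf (Fct.mk true (nat_lit 13) (nat_lit 325) (nat_lit 4) [nat_lit 6, nat_lit 3, nat_lit 2, nat_lit 1, nat_lit 8, nat_lit 3, nat_lit 2, nat_lit 0, nat_lit 1, nat_lit 9, nat_lit 4, nat_lit 3, nat_lit 2, nat_lit 8, nat_lit 3, nat_lit 10, nat_lit 1, nat_lit 16, nat_lit 14, nat_lit 16, nat_lit 8, nat_lit 19] (Rl.inv (nat_lit 811)))) (FT.node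 (nat_lit 814) (FT.leaf (Fct.mk false (nat_lit 1) (nat_lit 0) (nat_lit 1) [nat_lit 3, nat_lit 4, nat_lit 5, nat_lit 0, nat_lit 2, nat_lit 15] (Rl.cmp (nat_lit 23) (nat_lit 106)))) (FT.leaf (Fct.mk false (nat_lit 13) (nat_lit 0) (nat_lit 13) [nat_lit 2] (Rl.rel (nat_lit 0) [nat_lit 3, nat_lit 4, nat_lit 2, nat_lit 3, nat_lit 8, nat_lit 1, nat_lit 2, nat_lit 3, nat_lit 4, nat_lit 5, nat_lit 3, nat_lit 2, nat_lit 1, nat_lit 8, nat_lit 3, nat_lit 2, nat_lit 0, nat_lit 1, nat_lit 9, nat_lit 4, nat_lit 3, nat_lit 2, nat_lit 8, nat_lit 3, nat_lit 11, nat_lit 2] (nat_lit 13) (nat_lit 3) [nat_lit 809, nat_lit 813, nat_lit 232, nat_lit 234, nat_lit 811] []))))) (FT.node (nat_lit 816) (FT.leaf (Fct.mk true (nat_lit 13) (nat_lit 317) (nat_lit 4) [nat_lit 6, nat_lit 3, nat_lit 2, nat_lit 1, nat_lit 8, nat_lit 3, nat_lit 2, nat_lit 0, nat_lit 1, nat_lit 9,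 nat_lit 4, nat_lit 3, nat_lit 2, nat_lit 8, nat_lit 3, nat_lit 2, nat_lit 10, nat_lit 1, nat_lit 16, nat_lit 14, nat_lit 16, nat_lit 8, nat_lit 19] (Rl.t1 (nat_lit 812) (nat_lit 814)))) (FT.node (nat_lit 817) (FT.leaf (Fct.mk false (nat_lit 1) (nat_lit 0) (nat_lit 1) [nat_lit 6, nat_lit 9, nat_lit 4, nat_lit 11, nat_lit 2, nat_lit 16, nat_lit 14, nat_lit 13, nat_lit 16] (Rl.cmp (nat_lit 25) (nat_lit 597)))) (FT.leaf (Fct.mk false (nat_lit 1) (nat_lit 0) (nat_lit 1) [nat_lit 3, nat_lit 4, nat_lit 5, nat_lit 9, nat_lit 4, nat_lit 11, nat_lit 2, nat_lit 16, nat_lit 14, nat_lit 13, nat_lit 16] (Rl.cmp (nat_lit 25) (nat_lit 816))))))) (FT.node (nat_lit 821) (FT.node (nat_lit 819) (FT.leaf (Fct.mk true (nat_lit 9) (nat_lit 15885) (nat_lit 13) [nat_lit 6, nat_lit 5, nat_lit 4, nat_lit 1, nat_lit 2, nat_lit 3, nat_lit 8, nat_lit 0, nat_lit 1, nat_lit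 2, nat_lit 3, nat_lit 4, nat_lit 5, nat_lit 2, nat_lit 3, nat_lit 0, nat_lit 15, nat_lit 12, nat_lit 16] (Rl.rel (nat_lit 0) [nat_lit 3, nat_lit 4, nat_lit 2, nat_lit 3, nat_lit 8, nat_lit 1, nat_lit 2, nat_lit 3, nat_lit 4, nat_lit 5, nat_lit 1, nat_lit 8, nat_lit 3, nat_lit 2, nat_lit 0, nat_lit 1, nat_lit 9, nat_lit 4, nat_lit 3, nat_lit 2, nat_lit 8, nat_lit 3, nat_lit 11] (nat_lit 13) (nat_lit 2) [nat_lit 809, nat_lit 817, nat_lit 642] []))) (FT.node (nat_lit 820) (FT.leaf (Fct.mk true (nat_lit 9) (nat_lit 15882) (nat_lit 13) [nat_lit 6, nat_lit 5, nat_lit 4, nat_lit 1, nat_lit 2, nat_lit 3, nat_lit 8, nat_lit 0, nat_lit 1, nat_lit 2, nat_lit 3, nat_lit 4, nat_lit 5, nat_lit 3, nat_lit 2, nat_lit 8, nat_lit 3, nat_lit 0, nat_lit 2, nat_lit 15, nat_lit 12, nat_lit 16] (Rl.t1 (nat_lit 818) (nat_lit 661)))) (FT.leaf (Fct.mk false (nat_lit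 1) (nat_lit 0) (nat_lit 1) [nat_lit 1, nat_lit 2, nat_lit 3, nat_lit 4, nat_lit 5, nat_lit 1, nat_lit 2, nat_lit 3, nat_lit 1, nat_lit 0, nat_lit 2] (Rl.cmp (nat_lit 23) (nat_lit 109)))))) (FT.node (nat_lit 823) (FT.node (nat_lit 822) (FT.leaf (Fct.mk false (nat_lit 13) (nat_lit 0) (nat_lit 13) [nat_lit 9, nat_lit 4, nat_lit 3, nat_lit 2, nat_lit 8, nat_lit 3, nat_lit 11, nat_lit 10, nat_lit 13, nat_lit 12, nat_lit 18, nat_lit 16] (Rl.rel (nat_lit 0) [nat_lit 3, nat_lit 4, nat_lit 2, nat_lit 3, nat_lit 8, nat_lit 1, nat_lit 2, nat_lit 3, nat_lit 4, nat_lit 5, nat_lit 3, nat_lit 2, nat_lit 1, nat_lit 8, nat_lit 3, nat_lit 2, nat_lit 0, nat_lit 1, nat_lit 9, nat_lit 4, nat_lit 3, nat_lit 2, nat_lit 8, nat_lit 3, nat_lit 11, nat_lit 10, nat_lit 12] (nat_lit 13) (nat_lit 3) [nat_lit 809, nat_lit 820, nat_lit 232, nat_lit 456, nat_lit 811] [])))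 (FT.leaf (Fct.mk true (nat_lit 13) (nat_lit 329) (nat_lit 1) [nat_lit 9, nat_lit 4, nat_lit 3, nat_lit 2, nat_lit 8, nat_lit 3, nat_lit 11, nat_lit 10, nat_lit 13, nat_lit 12, nat_lit 18, nat_lit 16] (Rl.t1 (nat_lit 809) (nat_lit 821))))) (FT.node (nat_lit 824) (FT.leaf (Fct.mk false (nat_lit 13) (nat_lit 0) (nat_lit 13) [nat_lit 9, nat_lit 4, nat_lit 3, nat_lit 2, nat_lit 8, nat_lit 3, nat_lit 11, nat_lit 8, nat_lit 10, nat_lit 13, nat_lit 12, nat_lit 18, nat_lit 16] (Rl.cmp (nat_lit 814) (nat_lit 821)))) (FT.leaf (Fct.mk true (nat_lit 13) (nat_lit 248) (nat_lit 4) [nat_lit 3, nat_lit 8, nat_lit 2, nat_lit 3, nat_lit 4, nat_lit 5, nat_lit 1, nat_lit 8, nat_lit 3, nat_lit 2, nat_lit 0, nat_lit 1, nat_lit 4, nat_lit 3, nat_lit 2, nat_lit 8, nat_lit 3, nat_lit 2, nat_lit 8, nat_lit 10, nat_lit 1, nat_lit 14, nat_lit 16, nat_lit 8, nat_lit 19]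 (Rl.t1 (nat_lit 815) (nat_lit 823))))))))) (FT.node (nat_lit 837) (FT.node (nat_lit 831) (FT.node (nat_lit 828) (FT.node (nat_lit 826) (FT.leaf (Fct.mk false (nat_lit 1) (nat_lit 0) (nat_lit 1) [nat_lit 6, nat_lit 9, nat_lit 4, nat_lit 9, nat_lit 12, nat_lit 15, nat_lit 16] (Rl.cmp (nat_lit 25) (nat_lit 677)))) (FT.node (nat_lit 827) (FT.leaf (Fct.mk false (nat_lit 1) (nat_lit 0) (nat_lit 1) [nat_lit 3, nat_lit 4, nat_lit 5, nat_lit 9, nat_lit 4, nat_lit 9, nat_lit 12, nat_lit 15, nat_lit 16] (Rl.cmp (nat_lit 25) (nat_lit 825)))) (FT.leaf (Fct.mk false (nat_lit 13) (nat_lit 0) (nat_lit 13) [nat_lit 0] (Rl.rel (nat_lit 0) [nat_lit 3, nat_lit 4, nat_lit 2, nat_lit 3, nat_lit 8, nat_lit 1, nat_lit 2, nat_lit 3, nat_lit 4, nat_lit 5, nat_lit 1, nat_lit 8, nat_lit 3, nat_lit 2, nat_lit 0, nat_lit 1, nat_lit 9, nat_lit 4, nat_lit 3, nat_lit 2, nat_lit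 8, nat_lit 3, nat_lit 9, nat_lit 2, nat_lit 13] (nat_lit 13) (nat_lit 3) [nat_lit 821, nat_lit 822, nat_lit 826, nat_lit 642, nat_lit 661, nat_lit 819] []))))) (FT.node (nat_lit 829) (FT.leaf (Fct.mk false (nat_lit 1) (nat_lit 0) (nat_lit 1) [nat_lit 2, nat_lit 3, nat_lit 4, nat_lit 5, nat_lit 4, nat_lit 10, nat_lit 0, nat_lit 12, nat_lit 15] (Rl.cmp (nat_lit 23) (nat_lit 135)))) (FT.node (nat_lit 830) (FT.leaf (Fct.mk false (nat_lit 1) (nat_lit 0) (nat_lit 1) [nat_lit 2, nat_lit 3, nat_lit 4, nat_lit 5, nat_lit 9, nat_lit 4, nat_lit 0, nat_lit 2, nat_lit 12, nat_lit 15, nat_lit 16] (Rl.cmp (nat_lit 25) (nat_lit 828)))) (FT.leaf (Fct.mk false (nat_lit 1) (nat_lit 0) (nat_lit 1) [nat_lit 2, nat_lit 3, nat_lit 4, nat_lit 5, nat_lit 9, nat_lit 4, nat_lit 0, nat_lit 15, nat_lit 16] (Rl.cmp (nat_lit 17) (nat_lit 829))))))) (FT.node (nat_lit 834)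 (FT.node (nat_lit 832) (FT.leaf (Fct.mk false (nat_lit 13) (nat_lit 0) (nat_lit 13) [nat_lit 5, nat_lit 10, nat_lit 12] (Rl.rel (nat_lit 0) [nat_lit 3, nat_lit 4, nat_lit 2, nat_lit 3, nat_lit 8, nat_lit 1, nat_lit 2, nat_lit 3, nat_lit 4, nat_lit 5, nat_lit 1, nat_lit 8, nat_lit 3, nat_lit 2, nat_lit 0, nat_lit 1, nat_lit 9, nat_lit 4, nat_lit 3, nat_lit 2, nat_lit 8, nat_lit 3, nat_lit 11, nat_lit 10] (nat_lit 13) (nat_lit 3) [nat_lit 821, nat_lit 822, nat_lit 830, nat_lit 642, nat_lit 661, nat_lit 819] []))) (FT.node (nat_lit 833) (FT.leaf (Fct.mk true (nat_lit 5) (nat_lit 15882) (nat_lit 13) [nat_lit 4, nat_lit 5, nat_lit 0, nat_lit 1, nat_lit 2, nat_lit 3, nat_lit 8, nat_lit 18] (Rl.rel (nat_lit 0) [nat_lit 3, nat_lit 8, nat_lit 2, nat_lit 3, nat_lit 4, nat_lit 1, nat_lit 2, nat_lit 3, nat_lit 8, nat_lit 0, nat_lit 1, nat_lit 2, nat_lit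 3, nat_lit 4, nat_lit 5, nat_lit 3, nat_lit 2, nat_lit 1, nat_lit 8, nat_lit 3, nat_lit 2, nat_lit 0, nat_lit 1, nat_lit 9, nat_lit 4, nat_lit 3, nat_lit 2, nat_lit 8, nat_lit 3, nat_lit 11, nat_lit 8] (nat_lit 13) (nat_lit 2) [nat_lit 821, nat_lit 822, nat_lit 197, nat_lit 460] []))) (FT.leaf (Fct.mk true (nat_lit 13) (nat_lit 8409) (nat_lit 5) [nat_lit 8, nat_lit 2, nat_lit 3, nat_lit 4, nat_lit 5, nat_lit 4, nat_lit 10, nat_lit 0, nat_lit 12, nat_lit 15] (Rl.inv (nat_lit 832)))))) (FT.node (nat_lit 835) (FT.leaf (Fct.mk true (nat_lit 13) (nat_lit 106) (nat_lit 5) [nat_lit 8, nat_lit 2, nat_lit 3, nat_lit 4, nat_lit 5, nat_lit 4, nat_lit 10, nat_lit 8, nat_lit 12, nat_lit 15, nat_lit 16, nat_lit 8, nat_lit 16] (Rl.t1 (nat_lit 833) (nat_lit 821)))) (FT.node (nat_lit 836) (FT.leaf (Fct.mk true (nat_lit 9) (nat_lit 118226) (nat_lit 13) [nat_lit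 5, nat_lit 2, nat_lit 3, nat_lit 8, nat_lit 4, nat_lit 3, nat_lit 2, nat_lit 0, nat_lit 1, nat_lit 9, nat_lit 4, nat_lit 3, nat_lit 2, nat_lit 8, nat_lit 3, nat_lit 2, nat_lit 10, nat_lit 1, nat_lit 12, nat_lit 8, nat_lit 16, nat_lit 14, nat_lit 16, nat_lit 8, nat_lit 19, nat_lit 16] (Rl.rel (nat_lit 0) [nat_lit 3, nat_lit 8, nat_lit 2, nat_lit 3, nat_lit 4, nat_lit 1, nat_lit 2, nat_lit 3, nat_lit 8, nat_lit 0, nat_lit 1, nat_lit 2, nat_lit 3, nat_lit 4, nat_lit 5, nat_lit 8, nat_lit 3, nat_lit 2, nat_lit 1, nat_lit 9, nat_lit 4, nat_lit 3, nat_lit 2, nat_lit 8, nat_lit 3, nat_lit 11] (nat_lit 13) (nat_lit 2) [nat_lit 821, nat_lit 822, nat_lit 780, nat_lit 642] []))) (FT.leaf (Fct.mk true (nat_lit 9) (nat_lit 118224) (nat_lit 13) [nat_lit 2, nat_lit 3, nat_lit 4, nat_lit 5, nat_lit 8, nat_lit 4, nat_lit 3, nat_lit 2, nat_lit 0, nat_lit 1,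 nat_lit 9, nat_lit 4, nat_lit 3, nat_lit 2, nat_lit 8, nat_lit 3, nat_lit 2, nat_lit 8, nat_lit 10, nat_lit 1, nat_lit 12, nat_lit 8, nat_lit 16, nat_lit 14, nat_lit 8, nat_lit 19, nat_lit 16] (Rl.t1 (nat_lit 835) (nat_lit 658)))))))) (FT.node (nat_lit 843) (FT.node (nat_lit 840) (FT.node (nat_lit 838) (FT.leaf (Fct.mk true (nat_lit 13) (nat_lit 12554) (nat_lit 9) [nat_lit 8, nat_lit 3, nat_lit 4, nat_lit 2, nat_lit 3, nat_lit 8, nat_lit 1, nat_lit 2, nat_lit 3, nat_lit 4, nat_lit 5, nat_lit 3, nat_lit 2, nat_lit 1, nat_lit 9, nat_lit 4, nat_lit 3, nat_lit 2, nat_lit 8, nat_lit 3, nat_lit 11, nat_lit 10, nat_lit 2, nat_lit 8, nat_lit 10, nat_lit 1, nat_lit 14, nat_lit 13, nat_lit 12, nat_lit 19] (Rl.inv (nat_lit 836)))) (FT.node (nat_lit 839) (FT.leaf (Fct.mk true (nat_lit 13) (nat_lit 84) (nat_lit 9) [nat_lit 8, nat_lit 3, nat_lit 4, nat_lit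 2, nat_lit 3, nat_lit 8, nat_lit 0, nat_lit 1, nat_lit 2, nat_lit 3, nat_lit 4, nat_lit 5, nat_lit 8, nat_lit 3, nat_lit 11, nat_lit 2, nat_lit 10, nat_lit 1, nat_lit 16, nat_lit 14, nat_lit 13, nat_lit 12, nat_lit 19] (Rl.t1 (nat_lit 837) (nat_lit 821)))) (FT.leaf (Fct.mk false (nat_lit 1) (nat_lit 0) (nat_lit 1) [nat_lit 2, nat_lit 3, nat_lit 4, nat_lit 5, nat_lit 3, nat_lit 11, nat_lit 10, nat_lit 14, nat_lit 13, nat_lit 16] (Rl.cmp (nat_lit 25) (nat_lit 252)))))) (FT.node (nat_lit 841) (FT.leaf (Fct.mk false (nat_lit 1) (nat_lit 0) (nat_lit 1) [nat_lit 2, nat_lit 3, nat_lit 4, nat_lit 5, nat_lit 11, nat_lit 2, nat_lit 16, nat_lit 14, nat_lit 13, nat_lit 16] (Rl.cmp (nat_lit 25) (nat_lit 839)))) (FT.node (nat_lit 842) (FT.leaf (Fct.mk false (nat_lit 13) (nat_lit 0) (nat_lit 13) [nat_lit 3, nat_lit 4, nat_lit 5, nat_lit 9, nat_lit 4, nat_lit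 16] (Rl.rel (nat_lit 0) [nat_lit 4, nat_lit 5, nat_lit 2, nat_lit 3, nat_lit 4, nat_lit 1, nat_lit 2, nat_lit 3, nat_lit 8, nat_lit 0, nat_lit 1, nat_lit 2, nat_lit 3, nat_lit 4, nat_lit 5, nat_lit 11, nat_lit 10, nat_lit 1, nat_lit 8, nat_lit 12, nat_lit 15, nat_lit 14, nat_lit 18] (nat_lit 13) (nat_lit 3) [nat_lit 821, nat_lit 822, nat_lit 840, nat_lit 232, nat_lit 234, nat_lit 811] []))) (FT.leaf (Fct.mk false (nat_lit 13) (nat_lit 0) (nat_lit 13) [nat_lit 5, nat_lit 10] (Rl.cmp (nat_lit 814) (nat_lit 831))))))) (FT.node (nat_lit 846) (FT.node (nat_lit 844) (FT.leaf (Fct.mk false (nat_lit 1) (nat_lit 0) (nat_lit 1) [nat_lit 2, nat_lit 3, nat_lit 4, nat_lit 5, nat_lit 6, nat_lit 7, nat_lit 2, nat_lit 3, nat_lit 15, nat_lit 14] (Rl.cmp (nat_lit 23) (nat_lit 619)))) (FT.node (nat_lit 845) (FT.leaf (Fct.mk false (nat_lit 1) (nat_lit 0) (nat_lit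 1) [nat_lit 2, nat_lit 3, nat_lit 4, nat_lit 5, nat_lit 6, nat_lit 7, nat_lit 6, nat_lit 3, nat_lit 9, nat_lit 2, nat_lit 16, nat_lit 15, nat_lit 14] (Rl.cmp (nat_lit 27) (nat_lit 843)))) (FT.leaf (Fct.mk false (nat_lit 1) (nat_lit 0) (nat_lit 1) [nat_lit 2, nat_lit 3, nat_lit 4, nat_lit 5, nat_lit 6, nat_lit 7, nat_lit 6, nat_lit 16, nat_lit 12, nat_lit 15, nat_lit 14] (Rl.cmp (nat_lit 25) (nat_lit 844)))))) (FT.node (nat_lit 848) (FT.node (nat_lit 847) (FT.leaf (Fct.mk false (nat_lit 1) (nat_lit 0) (nat_lit 1) [nat_lit 1, nat_lit 2, nat_lit 3, nat_lit 4, nat_lit 5, nat_lit 6, nat_lit 7, nat_lit 6, nat_lit 1, nat_lit 16, nat_lit 12, nat_lit 15, nat_lit 14, nat_lit 16] (Rl.cmp (nat_lit 19) (nat_lit 845)))) (FT.leaf (Fct.mk false (nat_lit 1) (nat_lit 0) (nat_lit 1) [nat_lit 1, nat_lit 2, nat_lit 3, nat_lit 4, nat_lit 5, nat_lit 6, nat_lit 7,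 nat_lit 2, nat_lit 3, nat_lit 4, nat_lit 5, nat_lit 1, nat_lit 16, nat_lit 12, nat_lit 15, nat_lit 14, nat_lit 16] (Rl.cmp (nat_lit 27) (nat_lit 846))))) (FT.node (nat_lit 849) (FT.leaf (Fct.mk false (nat_lit 13) (nat_lit 0) (nat_lit 13) [nat_lit 2, nat_lit 3, nat_lit 4, nat_lit 5, nat_lit 3] (Rl.cmp (nat_lit 831) (nat_lit 842)))) (FT.leaf (Fct.mk true (nat_lit 12) (nat_lit 12675) (nat_lit 13) [nat_lit 4, nat_lit 1, nat_lit 2, nat_lit 3, nat_lit 8, nat_lit 0, nat_lit 1, nat_lit 2, nat_lit 3, nat_lit 4, nat_lit 5, nat_lit 8, nat_lit 10, nat_lit 8, nat_lit 12, nat_lit 15, nat_lit 14] (Rl.rel (nat_lit 0) [nat_lit 4, nat_lit 5, nat_lit 2, nat_lit 3, nat_lit 4, nat_lit 1, nat_lit 2, nat_lit 3, nat_lit 8, nat_lit 0, nat_lit 1, nat_lit 2, nat_lit 3, nat_lit 4, nat_lit 5, nat_lit 0, nat_lit 1, nat_lit 9, nat_lit 4, nat_lit 3, nat_lit 2, nat_lit 8,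 nat_lit 3, nat_lit 11, nat_lit 17] (nat_lit 13) (nat_lit 2) [nat_lit 821, nat_lit 822, nat_lit 767] []))))))))

/-- some facts -/
noncomputable def ftc17 : FT := FT.node (nat_lit 875) (FT.node (nat_lit 862) (FT.node (nat_lit 856) (FT.node (nat_lit 853) (FT.node (nat_lit 851) (FT.leaf (Fct.mk false (nat_lit 13) (nat_lit 0) (nat_lit 13) [nat_lit 3, nat_lit 4, nat_lit 5, nat_lit 2, nat_lit 8, nat_lit 3, nat_lit 11, nat_lit 13, nat_lit 18, nat_lit 16] (Rl.cmp (nat_lit 841) (nat_lit 821)))) (FT.node (nat_lit 852) (FT.leaf (Fct.mk true (nat_lit 1) (nat_lit 12677) (nat_lit 14) [] (Rl.df))) (FT.leaf (Fct.mk true (nat_lit 14) (nat_lit 12677) (nat_lit 1) [] (Rl.inv (nat_lit 851)))))) (FT.node (nat_lit 854) (FT.leaf (Fct.mk true (nat_lit 13) (nat_lit 12681) (nat_lit 14) [nat_lit 5, nat_lit 4, nat_lit 3, nat_lit 8, nat_lit 2, nat_lit 3, nat_lit 4, nat_lit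 5, nat_lit 6, nat_lit 7, nat_lit 4, nat_lit 5, nat_lit 3, nat_lit 10, nat_lit 9, nat_lit 2, nat_lit 8, nat_lit 18, nat_lit 16] (Rl.rel (nat_lit 0) [nat_lit 3, nat_lit 4, nat_lit 5, nat_lit 6, nat_lit 7, nat_lit 3, nat_lit 4, nat_lit 5, nat_lit 2, nat_lit 3, nat_lit 4, nat_lit 1, nat_lit 2, nat_lit 3, nat_lit 8, nat_lit 0, nat_lit 1, nat_lit 2, nat_lit 3, nat_lit 4, nat_lit 5, nat_lit 1, nat_lit 8, nat_lit 3, nat_lit 2, nat_lit 0, nat_lit 1, nat_lit 4, nat_lit 3, nat_lit 2, nat_lit 8, nat_lit 3, nat_lit 10, nat_lit 1, nat_lit 8, nat_lit 12, nat_lit 15, nat_lit 14, nat_lit 12, nat_lit 19, nat_lit 16] (nat_lit 14) (nat_lit 2) [nat_lit 852, nat_lit 785, nat_lit 808] []))) (FT.node (nat_lit 855) (FT.leaf (Fct.mk true (nat_lit 13) (nat_lit 852) (nat_lit 14) [nat_lit 5, nat_lit 4, nat_lit 3, nat_lit 8, nat_lit 2, nat_lit 3, nat_lit 4, nat_lit 5, nat_lit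 6, nat_lit 7, nat_lit 5, nat_lit 4, nat_lit 3, nat_lit 8, nat_lit 2, nat_lit 3, nat_lit 4, nat_lit 5, nat_lit 3, nat_lit 11, nat_lit 10, nat_lit 13, nat_lit 19] (Rl.t1 (nat_lit 853) (nat_lit 821)))) (FT.leaf (Fct.mk true (nat_lit 14) (nat_lit 12682) (nat_lit 13) [nat_lit 6, nat_lit 5, nat_lit 4, nat_lit 3, nat_lit 8, nat_lit 2, nat_lit 3, nat_lit 4, nat_lit 5, nat_lit 6, nat_lit 7, nat_lit 6, nat_lit 5, nat_lit 4, nat_lit 3, nat_lit 8, nat_lit 2, nat_lit 3, nat_lit 4, nat_lit 5, nat_lit 4, nat_lit 3, nat_lit 2, nat_lit 8, nat_lit 3, nat_lit 11, nat_lit 13, nat_lit 18, nat_lit 16] (Rl.inv (nat_lit 854))))))) (FT.node (nat_lit 859) (FT.node (nat_lit 857) (FT.leaf (Fct.mk false (nat_lit 1) (nat_lit 0) (nat_lit 1) [nat_lit 3, nat_lit 4, nat_lit 5, nat_lit 6, nat_lit 7, nat_lit 3, nat_lit 2] (Rl.cmp (nat_lit 27) (nat_lit 15)))) (FT.node (nat_lit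 858) (FT.leaf (Fct.mk false (nat_lit 1) (nat_lit 0) (nat_lit 1) [nat_lit 4, nat_lit 5, nat_lit 6, nat_lit 7, nat_lit 3, nat_lit 2] (Rl.cmp (nat_lit 13) (nat_lit 856)))) (FT.leaf (Fct.mk false (nat_lit 1) (nat_lit 0) (nat_lit 1) [nat_lit 5, nat_lit 6, nat_lit 7, nat_lit 2, nat_lit 12] (Rl.cmp (nat_lit 21) (nat_lit 857)))))) (FT.node (nat_lit 860) (FT.leaf (Fct.mk true (nat_lit 6) (nat_lit 19696) (nat_lit 14) [nat_lit 7, nat_lit 2, nat_lit 3, nat_lit 4, nat_lit 5, nat_lit 3, nat_lit 2, nat_lit 8, nat_lit 3, nat_lit 9, nat_lit 2, nat_lit 8] (Rl.rel (nat_lit 0) [nat_lit 3, nat_lit 8, nat_lit 2, nat_lit 3, nat_lit 4, nat_lit 5, nat_lit 6, nat_lit 7, nat_lit 3, nat_lit 8, nat_lit 5, nat_lit 2, nat_lit 3, nat_lit 4, nat_lit 1, nat_lit 2, nat_lit 3, nat_lit 8, nat_lit 0, nat_lit 1, nat_lit 2, nat_lit 3, nat_lit 4, nat_lit 5, nat_lit 3, nat_lit 8, nat_lit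 19] (nat_lit 14) (nat_lit 2) [nat_lit 852, nat_lit 858, nat_lit 537] []))) (FT.node (nat_lit 861) (FT.leaf (Fct.mk false (nat_lit 14) (nat_lit 0) (nat_lit 14) [nat_lit 6, nat_lit 9] (Rl.rel (nat_lit 0) [nat_lit 3, nat_lit 4, nat_lit 5, nat_lit 6, nat_lit 7, nat_lit 8, nat_lit 2, nat_lit 3, nat_lit 4, nat_lit 1, nat_lit 2, nat_lit 3, nat_lit 8, nat_lit 0, nat_lit 1, nat_lit 2, nat_lit 3, nat_lit 4, nat_lit 5, nat_lit 0, nat_lit 1, nat_lit 2, nat_lit 3, nat_lit 8, nat_lit 19] (nat_lit 14) (nat_lit 3) [nat_lit 852, nat_lit 17, nat_lit 808, nat_lit 821, nat_lit 854] []))) (FT.leaf (Fct.mk false (nat_lit 14) (nat_lit 0) (nat_lit 14) [nat_lit 5, nat_lit 9] (Rl.cmp (nat_lit 860) (nat_lit 860)))))))) (FT.node (nat_lit 868) (FT.node (nat_lit 865) (FT.node (nat_lit 863) (FT.leaf (Fct.mk true (nat_lit 14) (nat_lit 12676) (nat_lit 13) [nat_lit 4, nat_lit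 3, nat_lit 8, nat_lit 2, nat_lit 3, nat_lit 4, nat_lit 5, nat_lit 6, nat_lit 7, nat_lit 6, nat_lit 5, nat_lit 4, nat_lit 3, nat_lit 8, nat_lit 2, nat_lit 3, nat_lit 4, nat_lit 5, nat_lit 4, nat_lit 3, nat_lit 2, nat_lit 8, nat_lit 3, nat_lit 11, nat_lit 13, nat_lit 18, nat_lit 16] (Rl.t1 (nat_lit 855) (nat_lit 861)))) (FT.node (nat_lit 864) (FT.leaf (Fct.mk false (nat_lit 1) (nat_lit 0) (nat_lit 1) [nat_lit 3, nat_lit 4, nat_lit 5, nat_lit 6, nat_lit 7, nat_lit 2, nat_lit 3, nat_lit 2] (Rl.cmp (nat_lit 27) (nat_lit 524)))) (FT.leaf (Fct.mk false (nat_lit 1) (nat_lit 0) (nat_lit 1) [nat_lit 4, nat_lit 5, nat_lit 6, nat_lit 7, nat_lit 2, nat_lit 3, nat_lit 12] (Rl.cmp (nat_lit 21) (nat_lit 863)))))) (FT.node (nat_lit 866) (FT.leaf (Fct.mk false (nat_lit 1) (nat_lit 0) (nat_lit 1) [nat_lit 5, nat_lit 6, nat_lit 7, nat_lit 2, nat_lit 3, nat_lit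 2, nat_lit 12] (Rl.cmp (nat_lit 17) (nat_lit 864)))) (FT.node (nat_lit 867) (FT.leaf (Fct.mk false (nat_lit 14) (nat_lit 0) (nat_lit 14) [nat_lit 20] (Rl.rel (nat_lit 0) [nat_lit 3, nat_lit 8, nat_lit 2, nat_lit 3, nat_lit 4, nat_lit 5, nat_lit 6, nat_lit 7, nat_lit 3, nat_lit 8, nat_lit 5, nat_lit 2, nat_lit 3, nat_lit 4, nat_lit 1, nat_lit 2, nat_lit 3, nat_lit 8, nat_lit 0, nat_lit 1, nat_lit 2, nat_lit 3, nat_lit 4, nat_lit 5, nat_lit 3, nat_lit 2, nat_lit 8, nat_lit 19] (nat_lit 14) (nat_lit 3) [nat_lit 852, nat_lit 865, nat_lit 537, nat_lit 859] []))) (FT.leaf (Fct.mk false (nat_lit 14) (nat_lit 0) (nat_lit 14) [nat_lit 5, nat_lit 3, nat_lit 9] (Rl.rel (nat_lit 0) [nat_lit 3, nat_lit 4, nat_lit 5, nat_lit 6, nat_lit 7, nat_lit 6, nat_lit 3, nat_lit 4, nat_lit 5, nat_lit 2, nat_lit 3, nat_lit 4, nat_lit 1, nat_lit 2, nat_lit 3, nat_lit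 8, nat_lit 0, nat_lit 1, nat_lit 2, nat_lit 3, nat_lit 4, nat_lit 5, nat_lit 1, nat_lit 8, nat_lit 3, nat_lit 2, nat_lit 0, nat_lit 1, nat_lit 4, nat_lit 3, nat_lit 2, nat_lit 8, nat_lit 3, nat_lit 11, nat_lit 2, nat_lit 8, nat_lit 10, nat_lit 1, nat_lit 8, nat_lit 12, nat_lit 15, nat_lit 14, nat_lit 17, nat_lit 18] (nat_lit 14) (nat_lit 3) [nat_lit 852, nat_lit 437, nat_lit 808, nat_lit 850, nat_lit 854] [])))))) (FT.node (nat_lit 871) (FT.node (nat_lit 869) (FT.leaf (Fct.mk false (nat_lit 1) (nat_lit 0) (nat_lit 1) [nat_lit 1, nat_lit 2, nat_lit 3, nat_lit 4, nat_lit 5, nat_lit 6, nat_lit 7, nat_lit 2, nat_lit 15, nat_lit 14] (Rl.cmp (nat_lit 23) (nat_lit 219)))) (FT.node (nat_lit 870) (FT.leaf (Fct.mk false (nat_lit 1) (nat_lit 0) (nat_lit 1) [nat_lit 1, nat_lit 2, nat_lit 3, nat_lit 4, nat_lit 5, nat_lit 6, nat_lit 7, nat_lit 4, nat_lit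 12, nat_lit 15, nat_lit 14] (Rl.cmp (nat_lit 21) (nat_lit 868)))) (FT.leaf (Fct.mk false (nat_lit 1) (nat_lit 0) (nat_lit 1) [nat_lit 4, nat_lit 5, nat_lit 6, nat_lit 7, nat_lit 6, nat_lit 4, nat_lit 9, nat_lit 16] (Rl.cmp (nat_lit 27) (nat_lit 27)))))) (FT.node (nat_lit 873) (FT.node (nat_lit 872) (FT.leaf (Fct.mk false (nat_lit 1) (nat_lit 0) (nat_lit 1) [nat_lit 5, nat_lit 6, nat_lit 7, nat_lit 6, nat_lit 4, nat_lit 9] (Rl.cmp (nat_lit 17) (nat_lit 870)))) (FT.leaf (Fct.mk false (nat_lit 1) (nat_lit 0) (nat_lit 1) [nat_lit 6, nat_lit 7, nat_lit 6, nat_lit 9, nat_lit 4, nat_lit 10] (Rl.cmp (nat_lit 25) (nat_lit 871))))) (FT.node (nat_lit 874) (FT.leaf (Fct.mk false (nat_lit 1) (nat_lit 0) (nat_lit 1) [nat_lit 6, nat_lit 7, nat_lit 6, nat_lit 9, nat_lit 4, nat_lit 0, nat_lit 12, nat_lit 15] (Rl.cmp (nat_lit 23) (nat_lit 872)))) (FT.leaf (Fct.mk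 false (nat_lit 1) (nat_lit 0) (nat_lit 1) [nat_lit 7, nat_lit 3, nat_lit 4, nat_lit 5, nat_lit 9, nat_lit 4, nat_lit 0, nat_lit 12, nat_lit 15] (Rl.cmp (nat_lit 27) (nat_lit 873))))))))) (FT.node (nat_lit 887) (FT.node (nat_lit 881) (FT.node (nat_lit 878) (FT.node (nat_lit 876) (FT.leaf (Fct.mk true (nat_lit 5) (nat_lit 72759) (nat_lit 14) [nat_lit 7, nat_lit 4, nat_lit 5, nat_lit 6, nat_lit 3, nat_lit 4, nat_lit 5, nat_lit 2, nat_lit 3, nat_lit 4, nat_lit 1, nat_lit 2, nat_lit 3, nat_lit 8, nat_lit 0, nat_lit 1, nat_lit 2, nat_lit 3, nat_lit 4, nat_lit 5, nat_lit 6, nat_lit 7, nat_lit 6, nat_lit 4, nat_lit 9, nat_lit 2, nat_lit 16, nat_lit 15, nat_lit 14, nat_lit 17] (Rl.rel (nat_lit 0) [nat_lit 8, nat_lit 3, nat_lit 4, nat_lit 2, nat_lit 3, nat_lit 8, nat_lit 1, nat_lit 2, nat_lit 3, nat_lit 4, nat_lit 5, nat_lit 6, nat_lit 7, nat_lit 3,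 nat_lit 8, nat_lit 5, nat_lit 2, nat_lit 3, nat_lit 4, nat_lit 1, nat_lit 2, nat_lit 3, nat_lit 8, nat_lit 0, nat_lit 1, nat_lit 2, nat_lit 3, nat_lit 4, nat_lit 5, nat_lit 1, nat_lit 8, nat_lit 3, nat_lit 2, nat_lit 0, nat_lit 1, nat_lit 4, nat_lit 3, nat_lit 2, nat_lit 8, nat_lit 3, nat_lit 10, nat_lit 1, nat_lit 8, nat_lit 12, nat_lit 15, nat_lit 14, nat_lit 12, nat_lit 19, nat_lit 16] (nat_lit 14) (nat_lit 2) [nat_lit 852, nat_lit 874, nat_lit 460] []))) (FT.node (nat_lit 877) (FT.leaf (Fct.mk false (nat_lit 1) (nat_lit 0) (nat_lit 1) [nat_lit 5, nat_lit 4, nat_lit 10, nat_lit 1, nat_lit 16, nat_lit 14] (Rl.cmp (nat_lit 25) (nat_lit 641)))) (FT.leaf (Fct.mk false (nat_lit 14) (nat_lit 0) (nat_lit 14) [nat_lit 21] (Rl.cmp (nat_lit 866) (nat_lit 866)))))) (FT.node (nat_lit 879) (FT.leaf (Fct.mk false (nat_lit 1) (nat_lit 0) (nat_lit 1) [nat_lit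 6, nat_lit 7, nat_lit 6, nat_lit 9, nat_lit 4, nat_lit 9] (Rl.cmp (nat_lit 21) (nat_lit 79)))) (FT.node (nat_lit 880) (FT.leaf (Fct.mk false (nat_lit 1) (nat_lit 0) (nat_lit 1) [nat_lit 7, nat_lit 6, nat_lit 3, nat_lit 9] (Rl.cmp (nat_lit 25) (nat_lit 878)))) (FT.leaf (Fct.mk true (nat_lit 3) (nat_lit 29139) (nat_lit 14) [nat_lit 6, nat_lit 7, nat_lit 5, nat_lit 2, nat_lit 1, nat_lit 8, nat_lit 3, nat_lit 2, nat_lit 0, nat_lit 1, nat_lit 9, nat_lit 4, nat_lit 3, nat_lit 2, nat_lit 8, nat_lit 3, nat_lit 11, nat_lit 2, nat_lit 8, nat_lit 10, nat_lit 1, nat_lit 8, nat_lit 12, nat_lit 15, nat_lit 14, nat_lit 17, nat_lit 12, nat_lit 19, nat_lit 16] (Rl.rel (nat_lit 0) [nat_lit 3, nat_lit 4, nat_lit 5, nat_lit 2, nat_lit 3, nat_lit 4, nat_lit 1, nat_lit 2, nat_lit 3, nat_lit 8, nat_lit 0, nat_lit 1, nat_lit 2, nat_lit 3, nat_lit 4, nat_lit 5, nat_lit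 6, nat_lit 7, nat_lit 5, nat_lit 2, nat_lit 3, nat_lit 4, nat_lit 1, nat_lit 2, nat_lit 3, nat_lit 8, nat_lit 0, nat_lit 1, nat_lit 2, nat_lit 3, nat_lit 4, nat_lit 5, nat_lit 2, nat_lit 1, nat_lit 3, nat_lit 2, nat_lit 0, nat_lit 1, nat_lit 4, nat_lit 3, nat_lit 2, nat_lit 8, nat_lit 3, nat_lit 8, nat_lit 10, nat_lit 8, nat_lit 12, nat_lit 15, nat_lit 14, nat_lit 8, nat_lit 19] (nat_lit 14) (nat_lit 2) [nat_lit 852, nat_lit 879, nat_lit 182] [])))))) (FT.node (nat_lit 884) (FT.node (nat_lit 882) (FT.leaf (Fct.mk true (nat_lit 3) (nat_lit 21) (nat_lit 14) [nat_lit 5, nat_lit 2, nat_lit 3, nat_lit 4, nat_lit 1, nat_lit 2, nat_lit 3, nat_lit 8, nat_lit 0, nat_lit 1, nat_lit 2, nat_lit 3, nat_lit 4, nat_lit 5, nat_lit 6, nat_lit 7, nat_lit 3, nat_lit 8, nat_lit 5, nat_lit 2, nat_lit 3, nat_lit 4, nat_lit 1, nat_lit 2, nat_lit 3, nat_lit 8, nat_lit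 0, nat_lit 1, nat_lit 2, nat_lit 3, nat_lit 4, nat_lit 5, nat_lit 1, nat_lit 3, nat_lit 2, nat_lit 0, nat_lit 1, nat_lit 9, nat_lit 4, nat_lit 3, nat_lit 2, nat_lit 8, nat_lit 3, nat_lit 8, nat_lit 10, nat_lit 1, nat_lit 8, nat_lit 12, nat_lit 15, nat_lit 14, nat_lit 12, nat_lit 19, nat_lit 16] (Rl.t1 (nat_lit 880) (nat_lit 226)))) (FT.node (nat_lit 883) (FT.leaf (Fct.mk false (nat_lit 14) (nat_lit 0) (nat_lit 14) [nat_lit 21] (Rl.cmp (nat_lit 866) (nat_lit 866)))) (FT.leaf (Fct.mk false (nat_lit 1) (nat_lit 0) (nat_lit 1) [nat_lit 3, nat_lit 4, nat_lit 5, nat_lit 6, nat_lit 7, nat_lit 5, nat_lit 4, nat_lit 10, nat_lit 1, nat_lit 16, nat_lit 14] (Rl.cmp (nat_lit 27) (nat_lit 876)))))) (FT.node (nat_lit 885) (FT.leaf (Fct.mk false (nat_lit 1) (nat_lit 0) (nat_lit 1) [nat_lit 2, nat_lit 3, nat_lit 4, nat_lit 5, nat_lit 6, nat_lit 7, nat_lit 5,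 nat_lit 4, nat_lit 10, nat_lit 16, nat_lit 12, nat_lit 15, nat_lit 14] (Rl.cmp (nat_lit 23) (nat_lit 883)))) (FT.node (nat_lit 886) (FT.leaf (Fct.mk true (nat_lit 4) (nat_lit 86740) (nat_lit 14) [nat_lit 0, nat_lit 1, nat_lit 2, nat_lit 3, nat_lit 4, nat_lit 5, nat_lit 6, nat_lit 7, nat_lit 5, nat_lit 4, nat_lit 1, nat_lit 2, nat_lit 3, nat_lit 8, nat_lit 0, nat_lit 1, nat_lit 2, nat_lit 3, nat_lit 4, nat_lit 5, nat_lit 8, nat_lit 3, nat_lit 9, nat_lit 2, nat_lit 8, nat_lit 18, nat_lit 16] (Rl.rel (nat_lit 0) [nat_lit 3, nat_lit 4, nat_lit 5, nat_lit 2, nat_lit 3, nat_lit 4, nat_lit 1, nat_lit 2, nat_lit 3, nat_lit 8, nat_lit 0, nat_lit 1, nat_lit 2, nat_lit 3, nat_lit 4, nat_lit 5, nat_lit 6, nat_lit 7, nat_lit 4, nat_lit 5, nat_lit 2, nat_lit 1, nat_lit 4, nat_lit 3, nat_lit 2, nat_lit 8, nat_lit 3, nat_lit 2, nat_lit 8, nat_lit 10, nat_lit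 1, nat_lit 12, nat_lit 15, nat_lit 19, nat_lit 16] (nat_lit 14) (nat_lit 2) [nat_lit 852, nat_lit 162, nat_lit 232] []))) (FT.leaf (Fct.mk true (nat_lit 4) (nat_lit 6777) (nat_lit 14) [nat_lit 5, nat_lit 4, nat_lit 3, nat_lit 8, nat_lit 0, nat_lit 1, nat_lit 2, nat_lit 3, nat_lit 4, nat_lit 5, nat_lit 6, nat_lit 7, nat_lit 5, nat_lit 2, nat_lit 3, nat_lit 4, nat_lit 1, nat_lit 2, nat_lit 3, nat_lit 8, nat_lit 0, nat_lit 1, nat_lit 2, nat_lit 3, nat_lit 4, nat_lit 5, nat_lit 1, nat_lit 8, nat_lit 3, nat_lit 2, nat_lit 0, nat_lit 1, nat_lit 4, nat_lit 3, nat_lit 2, nat_lit 8, nat_lit 3, nat_lit 11, nat_lit 8, nat_lit 10, nat_lit 1, nat_lit 8, nat_lit 12, nat_lit 15, nat_lit 14, nat_lit 17, nat_lit 18] (Rl.t1 (nat_lit 885) (nat_lit 416)))))))) (FT.node (nat_lit 893) (FT.node (nat_lit 890) (FT.node (nat_lit 888) (FT.leaf (Fct.mk false (nat_lit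 14) (nat_lit 0) (nat_lit 14) [nat_lit 21] (Rl.cmp (nat_lit 866) (nat_lit 866)))) (FT.node (nat_lit 889) (FT.leaf (Fct.mk true (nat_lit 1) (nat_lit 12701) (nat_lit 15) [] (Rl.df))) (FT.leaf (Fct.mk true (nat_lit 15) (nat_lit 12701) (nat_lit 1) [] (Rl.inv (nat_lit 888)))))) (FT.node (nat_lit 891) (FT.leaf (Fct.mk true (nat_lit 13) (nat_lit 12701) (nat_lit 15) [nat_lit 3, nat_lit 8, nat_lit 4, nat_lit 5, nat_lit 3, nat_lit 4, nat_lit 1, nat_lit 2, nat_lit 3, nat_lit 8, nat_lit 0, nat_lit 1, nat_lit 2, nat_lit 3, nat_lit 4, nat_lit 5, nat_lit 6, nat_lit 7, nat_lit 6, nat_lit 5, nat_lit 4, nat_lit 3, nat_lit 8, nat_lit 2, nat_lit 3, nat_lit 4, nat_lit 5, nat_lit 1, nat_lit 2, nat_lit 0, nat_lit 1, nat_lit 3, nat_lit 2, nat_lit 8, nat_lit 3, nat_lit 10] (Rl.rel (nat_lit 0) [nat_lit 3, nat_lit 4, nat_lit 5, nat_lit 6, nat_lit 7, nat_lit 2, nat_lit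 3, nat_lit 8, nat_lit 4, nat_lit 5, nat_lit 3, nat_lit 4, nat_lit 2, nat_lit 3, nat_lit 8, nat_lit 1, nat_lit 2, nat_lit 3, nat_lit 4, nat_lit 5, nat_lit 0, nat_lit 1, nat_lit 2, nat_lit 8, nat_lit 3, nat_lit 9, nat_lit 2, nat_lit 16, nat_lit 8, nat_lit 19] (nat_lit 15) (nat_lit 2) [nat_lit 889, nat_lit 436, nat_lit 808] []))) (FT.node (nat_lit 892) (FT.leaf (Fct.mk false (nat_lit 15) (nat_lit 0) (nat_lit 15) [nat_lit 20] (Rl.rel (nat_lit 0) [nat_lit 3, nat_lit 4, nat_lit 5, nat_lit 6, nat_lit 7, nat_lit 2, nat_lit 3, nat_lit 8, nat_lit 4, nat_lit 5, nat_lit 3, nat_lit 4, nat_lit 2, nat_lit 3, nat_lit 8, nat_lit 1, nat_lit 2, nat_lit 3, nat_lit 4, nat_lit 5, nat_lit 0, nat_lit 1, nat_lit 2, nat_lit 8, nat_lit 3, nat_lit 10, nat_lit 9, nat_lit 2, nat_lit 16, nat_lit 8, nat_lit 19] (nat_lit 15) (nat_lit 3) [nat_lit 889, nat_lit 13, nat_lit 808,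 nat_lit 890] []))) (FT.leaf (Fct.mk true (nat_lit 14) (nat_lit 24048) (nat_lit 15) [nat_lit 4, nat_lit 5, nat_lit 3, nat_lit 4, nat_lit 1, nat_lit 2, nat_lit 3, nat_lit 8, nat_lit 0, nat_lit 1, nat_lit 2, nat_lit 3, nat_lit 4, nat_lit 5, nat_lit 8, nat_lit 10, nat_lit 1, nat_lit 8, nat_lit 12, nat_lit 15, nat_lit 14, nat_lit 12] (Rl.rel (nat_lit 0) [nat_lit 3, nat_lit 8, nat_lit 2, nat_lit 3, nat_lit 4, nat_lit 5, nat_lit 6, nat_lit 7, nat_lit 3, nat_lit 8, nat_lit 4, nat_lit 5, nat_lit 3, nat_lit 4, nat_lit 2, nat_lit 3, nat_lit 8, nat_lit 1, nat_lit 2, nat_lit 3, nat_lit 4, nat_lit 5, nat_lit 0, nat_lit 1, nat_lit 2, nat_lit 8, nat_lit 3, nat_lit 9, nat_lit 2, nat_lit 16, nat_lit 8, nat_lit 19] (nat_lit 15) (nat_lit 2) [nat_lit 889, nat_lit 758, nat_lit 851] [])))))) (FT.node (nat_lit 896) (FT.node (nat_lit 894) (FT.leaf (Fct.mk true (nat_lit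 14) (nat_lit 14419) (nat_lit 15) [nat_lit 3, nat_lit 4, nat_lit 5, nat_lit 2, nat_lit 3, nat_lit 4, nat_lit 1, nat_lit 2, nat_lit 3, nat_lit 8, nat_lit 0, nat_lit 1, nat_lit 2, nat_lit 3, nat_lit 4, nat_lit 5, nat_lit 8, nat_lit 10, nat_lit 1, nat_lit 8, nat_lit 12, nat_lit 15, nat_lit 14, nat_lit 12] (Rl.t1 (nat_lit 892) (nat_lit 877)))) (FT.node (nat_lit 895) (FT.leaf (Fct.mk false (nat_lit 15) (nat_lit 0) (nat_lit 15) [nat_lit 5, nat_lit 2, nat_lit 3, nat_lit 2] (Rl.rel (nat_lit 0) [nat_lit 3, nat_lit 8, nat_lit 2, nat_lit 3, nat_lit 4, nat_lit 5, nat_lit 6, nat_lit 7, nat_lit 3, nat_lit 8, nat_lit 4, nat_lit 5, nat_lit 3, nat_lit 4, nat_lit 2, nat_lit 3, nat_lit 8, nat_lit 1, nat_lit 2, nat_lit 3, nat_lit 4, nat_lit 5, nat_lit 0, nat_lit 1, nat_lit 3, nat_lit 2, nat_lit 8, nat_lit 3, nat_lit 10, nat_lit 9, nat_lit 2, nat_lit 16, nat_lit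 8, nat_lit 19] (nat_lit 15) (nat_lit 3) [nat_lit 889, nat_lit 518, nat_lit 851, nat_lit 893] []))) (FT.leaf (Fct.mk false (nat_lit 1) (nat_lit 0) (nat_lit 1) [nat_lit 3, nat_lit 4, nat_lit 5, nat_lit 3] (Rl.cmp (nat_lit 21) (nat_lit 13)))))) (FT.node (nat_lit 898) (FT.node (nat_lit 897) (FT.leaf (Fct.mk true (nat_lit 10) (nat_lit 14417) (nat_lit 15) [nat_lit 5, nat_lit 1, nat_lit 4, nat_lit 3, nat_lit 2, nat_lit 8, nat_lit 3, nat_lit 10, nat_lit 1, nat_lit 14, nat_lit 8] (Rl.rel (nat_lit 0) [nat_lit 3, nat_lit 8, nat_lit 2, nat_lit 3, nat_lit 4, nat_lit 5, nat_lit 6, nat_lit 7, nat_lit 3, nat_lit 4, nat_lit 2, nat_lit 3, nat_lit 8, nat_lit 5, nat_lit 6, nat_lit 4, nat_lit 5, nat_lit 3, nat_lit 4, nat_lit 2, nat_lit 3, nat_lit 8, nat_lit 1, nat_lit 2, nat_lit 3, nat_lit 4, nat_lit 5, nat_lit 0, nat_lit 1, nat_lit 9, nat_lit 4, nat_lit 3, nat_lit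 2, nat_lit 8, nat_lit 3, nat_lit 9, nat_lit 2, nat_lit 14, nat_lit 16, nat_lit 8, nat_lit 19] (nat_lit 15) (nat_lit 2) [nat_lit 889, nat_lit 895, nat_lit 710] []))) (FT.leaf (Fct.mk false (nat_lit 1) (nat_lit 0) (nat_lit 1) [nat_lit 4, nat_lit 5, nat_lit 6, nat_lit 7, nat_lit 3, nat_lit 2] (Rl.cmp (nat_lit 13) (nat_lit 522))))) (FT.node (nat_lit 899) (FT.leaf (Fct.mk false (nat_lit 1) (nat_lit 0) (nat_lit 1) [nat_lit 5, nat_lit 6, nat_lit 7, nat_lit 2, nat_lit 12] (Rl.cmp (nat_lit 21) (nat_lit 897)))) (FT.leaf (Fct.mk false (nat_lit 1) (nat_lit 0) (nat_lit 1) [nat_lit 5, nat_lit 6, nat_lit 7, nat_lit 3, nat_lit 14, nat_lit 12] (Rl.cmp (nat_lit 19) (nat_lit 898)))))))))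

/-- some facts -/
noncomputable def ftc18 : FT := FT.node (nat_lit 925) (FT.node (nat_lit 912) (FT.node (nat_lit 906) (FT.node (nat_lit 903) (FT.node (nat_lit 901) (FT.leaf (Fct.mk false (nat_lit 1) (nat_lit 0) (nat_lit 1) [nat_lit 5, nat_lit 6, nat_lit 7, nat_lit 2, nat_lit 3, nat_lit 0, nat_lit 2, nat_lit 15, nat_lit 14, nat_lit 12] (Rl.cmp (nat_lit 23) (nat_lit 899)))) (FT.node (nat_lit 902) (FT.leaf (Fct.mk false (nat_lit 1) (nat_lit 0) (nat_lit 1) [nat_lit 6, nat_lit 7, nat_lit 3, nat_lit 4, nat_lit 5, nat_lit 2, nat_lit 3, nat_lit 0, nat_lit 2, nat_lit 15, nat_lit 14, nat_lit 12] (Rl.cmp (nat_lit 25) (nat_lit 900)))) (FT.leaf (Fct.mk false (nat_lit 1) (nat_lit 0) (nat_lit 1) [nat_lit 7, nat_lit 4, nat_lit 5, nat_lit 2, nat_lit 3, nat_lit 11, nat_lit 10, nat_lit 12, nat_lit 15, nat_lit 14, nat_lit 13, nat_lit 12] (Rl.cmp (nat_lit 27)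 (nat_lit 901)))))) (FT.node (nat_lit 904) (FT.leaf (Fct.mk true (nat_lit 11) (nat_lit 107083) (nat_lit 15) [nat_lit 5, nat_lit 6, nat_lit 4, nat_lit 5, nat_lit 3, nat_lit 4, nat_lit 2, nat_lit 3, nat_lit 8, nat_lit 0, nat_lit 1, nat_lit 2, nat_lit 3, nat_lit 4, nat_lit 5, nat_lit 6, nat_lit 7, nat_lit 8, nat_lit 3, nat_lit 4, nat_lit 5, nat_lit 1, nat_lit 2, nat_lit 3, nat_lit 10, nat_lit 15, nat_lit 14, nat_lit 12] (Rl.rel (nat_lit 0) [nat_lit 8, nat_lit 3, nat_lit 4, nat_lit 2, nat_lit 3, nat_lit 8, nat_lit 1, nat_lit 2, nat_lit 3, nat_lit 4, nat_lit 5, nat_lit 6, nat_lit 7, nat_lit 2, nat_lit 3, nat_lit 8, nat_lit 4, nat_lit 5, nat_lit 3, nat_lit 4, nat_lit 2, nat_lit 3, nat_lit 8, nat_lit 1, nat_lit 2, nat_lit 3, nat_lit 4, nat_lit 5, nat_lit 2, nat_lit 0, nat_lit 1, nat_lit 3, nat_lit 2, nat_lit 8, nat_lit 3, nat_lit 11, nat_lit 15, nat_lit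 17, nat_lit 12] (nat_lit 15) (nat_lit 2) [nat_lit 889, nat_lit 902, nat_lit 731] []))) (FT.node (nat_lit 905) (FT.leaf (Fct.mk true (nat_lit 11) (nat_lit 100014) (nat_lit 15) [nat_lit 5, nat_lit 6, nat_lit 4, nat_lit 5, nat_lit 3, nat_lit 4, nat_lit 2, nat_lit 3, nat_lit 8, nat_lit 0, nat_lit 1, nat_lit 2, nat_lit 3, nat_lit 4, nat_lit 5, nat_lit 6, nat_lit 7, nat_lit 8, nat_lit 3, nat_lit 4, nat_lit 5, nat_lit 3, nat_lit 2, nat_lit 8, nat_lit 3, nat_lit 12, nat_lit 15, nat_lit 14, nat_lit 12] (Rl.t1 (nat_lit 903) (nat_lit 742)))) (FT.leaf (Fct.mk true (nat_lit 15) (nat_lit 77350) (nat_lit 11) [nat_lit 7, nat_lit 6, nat_lit 3, nat_lit 4, nat_lit 5, nat_lit 2, nat_lit 3, nat_lit 4, nat_lit 1, nat_lit 2, nat_lit 3, nat_lit 8, nat_lit 0, nat_lit 1, nat_lit 2, nat_lit 3, nat_lit 4, nat_lit 5, nat_lit 4, nat_lit 3, nat_lit 2, nat_lit 8, nat_lit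 3, nat_lit 11, nat_lit 10, nat_lit 1, nat_lit 16, nat_lit 15, nat_lit 14, nat_lit 13, nat_lit 12, nat_lit 16] (Rl.inv (nat_lit 904))))))) (FT.node (nat_lit 909) (FT.node (nat_lit 907) (FT.leaf (Fct.mk true (nat_lit 1) (nat_lit 12706) (nat_lit 16) [] (Rl.df))) (FT.node (nat_lit 908) (FT.leaf (Fct.mk true (nat_lit 16) (nat_lit 12706) (nat_lit 1) [] (Rl.inv (nat_lit 906)))) (FT.leaf (Fct.mk false (nat_lit 1) (nat_lit 0) (nat_lit 1) [nat_lit 3, nat_lit 4, nat_lit 5, nat_lit 10, nat_lit 1, nat_lit 14] (Rl.cmp (nat_lit 21) (nat_lit 432)))))) (FT.node (nat_lit 910) (FT.leaf (Fct.mk false (nat_lit 1) (nat_lit 0) (nat_lit 1) [nat_lit 3, nat_lit 4, nat_lit 5, nat_lit 6, nat_lit 7, nat_lit 3, nat_lit 4, nat_lit 5, nat_lit 10, nat_lit 1, nat_lit 14] (Rl.cmp (nat_lit 27) (nat_lit 908)))) (FT.node (nat_lit 911) (FT.leaf (Fct.mk false (nat_lit 1) (nat_lit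 0) (nat_lit 1) [nat_lit 4, nat_lit 5, nat_lit 6, nat_lit 7, nat_lit 4, nat_lit 5, nat_lit 4, nat_lit 1, nat_lit 16, nat_lit 14] (Rl.cmp (nat_lit 27) (nat_lit 909)))) (FT.leaf (Fct.mk false (nat_lit 1) (nat_lit 0) (nat_lit 1) [nat_lit 3, nat_lit 4, nat_lit 5, nat_lit 6, nat_lit 7, nat_lit 4, nat_lit 5, nat_lit 4, nat_lit 2, nat_lit 16, nat_lit 15, nat_lit 14] (Rl.cmp (nat_lit 23) (nat_lit 910)))))))) (FT.node (nat_lit 918) (FT.node (nat_lit 915) (FT.node (nat_lit 913) (FT.leaf (Fct.mk false (nat_lit 1) (nat_lit 0) (nat_lit 1) [nat_lit 2, nat_lit 3, nat_lit 4, nat_lit 5, nat_lit 6, nat_lit 7, nat_lit 4, nat_lit 5, nat_lit 4, nat_lit 16, nat_lit 15, nat_lit 14, nat_lit 16] (Rl.cmp (nat_lit 19) (nat_lit 911)))) (FT.node (nat_lit 914) (FT.leaf (Fct.mk false (nat_lit 1) (nat_lit 0) (nat_lit 1) [nat_lit 1, nat_lit 2, nat_lit 3, nat_lit 4, nat_lit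 5, nat_lit 6, nat_lit 7, nat_lit 4, nat_lit 5, nat_lit 4, nat_lit 0, nat_lit 2, nat_lit 16, nat_lit 14, nat_lit 16] (Rl.cmp (nat_lit 23) (nat_lit 912)))) (FT.leaf (Fct.mk true (nat_lit 13) (nat_lit 47824) (nat_lit 16) [nat_lit 7, nat_lit 6, nat_lit 5, nat_lit 2, nat_lit 3, nat_lit 4, nat_lit 1, nat_lit 2, nat_lit 3, nat_lit 8, nat_lit 0, nat_lit 1, nat_lit 2, nat_lit 3, nat_lit 4, nat_lit 5, nat_lit 6, nat_lit 7, nat_lit 5, nat_lit 11, nat_lit 2, nat_lit 8, nat_lit 10, nat_lit 1, nat_lit 16, nat_lit 12, nat_lit 15, nat_lit 14, nat_lit 13] (Rl.rel (nat_lit 0) [nat_lit 8, nat_lit 5, nat_lit 2, nat_lit 3, nat_lit 4, nat_lit 1, nat_lit 2, nat_lit 3, nat_lit 8, nat_lit 6, nat_lit 7, nat_lit 5, nat_lit 6, nat_lit 4, nat_lit 5, nat_lit 3, nat_lit 4, nat_lit 2, nat_lit 3, nat_lit 8, nat_lit 1, nat_lit 2, nat_lit 3, nat_lit 4, nat_lit 5, nat_lit 6,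 nat_lit 7, nat_lit 3, nat_lit 8, nat_lit 6, nat_lit 4, nat_lit 5, nat_lit 3, nat_lit 4, nat_lit 1, nat_lit 2, nat_lit 3, nat_lit 8, nat_lit 0, nat_lit 1, nat_lit 2, nat_lit 3, nat_lit 4, nat_lit 5, nat_lit 3, nat_lit 2, nat_lit 1, nat_lit 4, nat_lit 3, nat_lit 2, nat_lit 8, nat_lit 3, nat_lit 10, nat_lit 1, nat_lit 8, nat_lit 12, nat_lit 15, nat_lit 14, nat_lit 17, nat_lit 12, nat_lit 19] (nat_lit 16) (nat_lit 2) [nat_lit 907, nat_lit 913, nat_lit 808] []))))) (FT.node (nat_lit 916) (FT.leaf (Fct.mk true (nat_lit 13) (nat_lit 21573) (nat_lit 16) [nat_lit 7, nat_lit 6, nat_lit 3, nat_lit 4, nat_lit 5, nat_lit 2, nat_lit 3, nat_lit 4, nat_lit 1, nat_lit 2, nat_lit 3, nat_lit 8, nat_lit 0, nat_lit 1, nat_lit 2, nat_lit 3, nat_lit 4, nat_lit 5, nat_lit 6, nat_lit 7, nat_lit 11, nat_lit 2, nat_lit 8, nat_lit 10, nat_lit 1, nat_lit 16, nat_lit 12,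 nat_lit 15, nat_lit 14, nat_lit 13, nat_lit 16] (Rl.t1 (nat_lit 914) (nat_lit 842)))) (FT.node (nat_lit 917) (FT.leaf (Fct.mk false (nat_lit 1) (nat_lit 0) (nat_lit 1) [nat_lit 4, nat_lit 5, nat_lit 4, nat_lit 1, nat_lit 16, nat_lit 14] (Rl.cmp (nat_lit 25) (nat_lit 908)))) (FT.leaf (Fct.mk false (nat_lit 1) (nat_lit 0) (nat_lit 1) [nat_lit 3, nat_lit 4, nat_lit 5, nat_lit 4, nat_lit 1, nat_lit 16, nat_lit 14, nat_lit 16] (Rl.cmp (nat_lit 15) (nat_lit 916))))))) (FT.node (nat_lit 921) (FT.node (nat_lit 919) (FT.leaf (Fct.mk false (nat_lit 1) (nat_lit 0) (nat_lit 1) [nat_lit 3, nat_lit 4, nat_lit 5, nat_lit 6, nat_lit 7, nat_lit 3, nat_lit 4, nat_lit 5, nat_lit 4, nat_lit 1, nat_lit 16, nat_lit 14, nat_lit 16] (Rl.cmp (nat_lit 27) (nat_lit 917)))) (FT.node (nat_lit 920) (FT.leaf (Fct.mk false (nat_lit 1) (nat_lit 0) (nat_lit 1) [nat_lit 2, nat_lit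 3, nat_lit 4, nat_lit 5, nat_lit 6, nat_lit 7, nat_lit 2, nat_lit 3, nat_lit 4, nat_lit 5, nat_lit 4, nat_lit 16, nat_lit 15, nat_lit 14, nat_lit 16] (Rl.cmp (nat_lit 23) (nat_lit 918)))) (FT.leaf (Fct.mk false (nat_lit 1) (nat_lit 0) (nat_lit 1) [nat_lit 1, nat_lit 2, nat_lit 3, nat_lit 4, nat_lit 5, nat_lit 6, nat_lit 7, nat_lit 1, nat_lit 2, nat_lit 3, nat_lit 4, nat_lit 5, nat_lit 4, nat_lit 0, nat_lit 16, nat_lit 14, nat_lit 16] (Rl.cmp (nat_lit 23) (nat_lit 919)))))) (FT.node (nat_lit 923) (FT.node (nat_lit 922) (FT.leaf (Fct.mk false (nat_lit 16) (nat_lit 0) (nat_lit 16) [nat_lit 5, nat_lit 4, nat_lit 2] (Rl.rel (nat_lit 0) [nat_lit 8, nat_lit 5, nat_lit 2, nat_lit 3, nat_lit 4, nat_lit 1, nat_lit 2, nat_lit 3, nat_lit 8, nat_lit 6, nat_lit 7, nat_lit 5, nat_lit 6, nat_lit 4, nat_lit 5, nat_lit 3, nat_lit 4, nat_lit 2, nat_lit 3, nat_lit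 8, nat_lit 1, nat_lit 2, nat_lit 3, nat_lit 4, nat_lit 5, nat_lit 6, nat_lit 7, nat_lit 3, nat_lit 8, nat_lit 6, nat_lit 4, nat_lit 5, nat_lit 3, nat_lit 4, nat_lit 1, nat_lit 2, nat_lit 3, nat_lit 8, nat_lit 0, nat_lit 1, nat_lit 2, nat_lit 3, nat_lit 4, nat_lit 5, nat_lit 3, nat_lit 2, nat_lit 1, nat_lit 4, nat_lit 3, nat_lit 2, nat_lit 8, nat_lit 3, nat_lit 10, nat_lit 8, nat_lit 12, nat_lit 15, nat_lit 14, nat_lit 17, nat_lit 12, nat_lit 19] (nat_lit 16) (nat_lit 3) [nat_lit 907, nat_lit 920, nat_lit 808, nat_lit 848, nat_lit 915] []))) (FT.leaf (Fct.mk false (nat_lit 1) (nat_lit 0) (nat_lit 1) [nat_lit 2, nat_lit 3, nat_lit 4, nat_lit 5, nat_lit 6, nat_lit 7, nat_lit 5, nat_lit 4, nat_lit 10, nat_lit 16, nat_lit 15, nat_lit 14] (Rl.cmp (nat_lit 13) (nat_lit 884))))) (FT.node (nat_lit 924) (FT.leaf (Fct.mk false (nat_lit 1) (nat_lit 0)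 (nat_lit 1) [nat_lit 1, nat_lit 2, nat_lit 3, nat_lit 4, nat_lit 5, nat_lit 6, nat_lit 7, nat_lit 5, nat_lit 4, nat_lit 2, nat_lit 10, nat_lit 1, nat_lit 16, nat_lit 15, nat_lit 14] (Rl.cmp (nat_lit 19) (nat_lit 922)))) (FT.leaf (Fct.mk true (nat_lit 11) (nat_lit 110175) (nat_lit 16) [nat_lit 1, nat_lit 2, nat_lit 3, nat_lit 4, nat_lit 5, nat_lit 6, nat_lit 7, nat_lit 5, nat_lit 3, nat_lit 4, nat_lit 2, nat_lit 3, nat_lit 8, nat_lit 0, nat_lit 1, nat_lit 2, nat_lit 3, nat_lit 4, nat_lit 5, nat_lit 3, nat_lit 8, nat_lit 10, nat_lit 8, nat_lit 16, nat_lit 14, nat_lit 12] (Rl.rel (nat_lit 0) [nat_lit 4, nat_lit 1, nat_lit 2, nat_lit 3, nat_lit 8, nat_lit 6, nat_lit 7, nat_lit 5, nat_lit 6, nat_lit 4, nat_lit 5, nat_lit 3, nat_lit 4, nat_lit 2, nat_lit 3, nat_lit 8, nat_lit 1, nat_lit 2, nat_lit 3, nat_lit 4, nat_lit 5, nat_lit 6, nat_lit 7, nat_lit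 8, nat_lit 6, nat_lit 5, nat_lit 3, nat_lit 4, nat_lit 1, nat_lit 2, nat_lit 3, nat_lit 8, nat_lit 0, nat_lit 1, nat_lit 2, nat_lit 3, nat_lit 4, nat_lit 5, nat_lit 3, nat_lit 2, nat_lit 1, nat_lit 4, nat_lit 3, nat_lit 2, nat_lit 8, nat_lit 3, nat_lit 10, nat_lit 1, nat_lit 8, nat_lit 12, nat_lit 15, nat_lit 14, nat_lit 17, nat_lit 12, nat_lit 19] (nat_lit 16) (nat_lit 2) [nat_lit 907, nat_lit 923, nat_lit 731] [])))))))) (FT.node (nat_lit 937) (FT.node (nat_lit 931) (FT.node (nat_lit 928) (FT.node (nat_lit 926) (FT.leaf (Fct.mk true (nat_lit 11) (nat_lit 53715) (nat_lit 16) [nat_lit 1, nat_lit 2, nat_lit 3, nat_lit 4, nat_lit 5, nat_lit 6, nat_lit 7, nat_lit 2, nat_lit 3, nat_lit 4, nat_lit 1, nat_lit 2, nat_lit 3, nat_lit 8, nat_lit 0, nat_lit 1, nat_lit 2, nat_lit 3, nat_lit 4, nat_lit 5, nat_lit 8, nat_lit 10, nat_lit 8, nat_lit 16, nat_lit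 14, nat_lit 12] (Rl.t1 (nat_lit 924) (nat_lit 759)))) (FT.node (nat_lit 927) (FT.leaf (Fct.mk false (nat_lit 1) (nat_lit 0) (nat_lit 1) [nat_lit 3, nat_lit 4, nat_lit 5, nat_lit 6, nat_lit 7, nat_lit 5, nat_lit 4, nat_lit 1, nat_lit 16, nat_lit 14] (Rl.cmp (nat_lit 27) (nat_lit 726)))) (FT.leaf (Fct.mk false (nat_lit 1) (nat_lit 0) (nat_lit 1) [nat_lit 2, nat_lit 3, nat_lit 4, nat_lit 5, nat_lit 6, nat_lit 7, nat_lit 5, nat_lit 4, nat_lit 2, nat_lit 16, nat_lit 15, nat_lit 14] (Rl.cmp (nat_lit 23) (nat_lit 926)))))) (FT.node (nat_lit 929) (FT.leaf (Fct.mk false (nat_lit 1) (nat_lit 0) (nat_lit 1) [nat_lit 1, nat_lit 2, nat_lit 3, nat_lit 4, nat_lit 5, nat_lit 6, nat_lit 7, nat_lit 5, nat_lit 4, nat_lit 16, nat_lit 15, nat_lit 14, nat_lit 16] (Rl.cmp (nat_lit 19) (nat_lit 927)))) (FT.node (nat_lit 930) (FT.leaf (Fct.mk false (nat_lit 1) (nat_lit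 0) (nat_lit 1) [nat_lit 1, nat_lit 2, nat_lit 3, nat_lit 4, nat_lit 5, nat_lit 6, nat_lit 7, nat_lit 5, nat_lit 4, nat_lit 1, nat_lit 16, nat_lit 15, nat_lit 14] (Rl.cmp (nat_lit 15) (nat_lit 928)))) (FT.leaf (Fct.mk false (nat_lit 16) (nat_lit 0) (nat_lit 16) [nat_lit 4] (Rl.rel (nat_lit 0) [nat_lit 4, nat_lit 1, nat_lit 2, nat_lit 3, nat_lit 8, nat_lit 6, nat_lit 7, nat_lit 5, nat_lit 6, nat_lit 4, nat_lit 5, nat_lit 3, nat_lit 4, nat_lit 2, nat_lit 3, nat_lit 8, nat_lit 1, nat_lit 2, nat_lit 3, nat_lit 4, nat_lit 5, nat_lit 6, nat_lit 7, nat_lit 8, nat_lit 6, nat_lit 5, nat_lit 3, nat_lit 4, nat_lit 1, nat_lit 2, nat_lit 3, nat_lit 8, nat_lit 0, nat_lit 1, nat_lit 2, nat_lit 3, nat_lit 4, nat_lit 5, nat_lit 0, nat_lit 1, nat_lit 2, nat_lit 8, nat_lit 3, nat_lit 13, nat_lit 16] (nat_lit 16) (nat_lit 3) [nat_lit 907, nat_lit 929, nat_lit 731,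 nat_lit 742, nat_lit 925] [])))))) (FT.node (nat_lit 934) (FT.node (nat_lit 932) (FT.leaf (Fct.mk false (nat_lit 1) (nat_lit 0) (nat_lit 1) [nat_lit 2, nat_lit 3, nat_lit 12] (Rl.cmp (nat_lit 17) (nat_lit 639)))) (FT.node (nat_lit 933) (FT.leaf (Fct.mk false (nat_lit 1) (nat_lit 0) (nat_lit 1) [nat_lit 4, nat_lit 5, nat_lit 6, nat_lit 7, nat_lit 3] (Rl.cmp (nat_lit 17) (nat_lit 27)))) (FT.leaf (Fct.mk false (nat_lit 1) (nat_lit 0) (nat_lit 1) [nat_lit 5, nat_lit 6, nat_lit 7, nat_lit 3, nat_lit 4, nat_lit 5, nat_lit 3] (Rl.cmp (nat_lit 25) (nat_lit 932)))))) (FT.node (nat_lit 935) (FT.leaf (Fct.mk false (nat_lit 1) (nat_lit 0) (nat_lit 1) [nat_lit 6, nat_lit 7, nat_lit 4, nat_lit 5] (Rl.cmp (nat_lit 21) (nat_lit 933)))) (FT.node (nat_lit 936) (FT.leaf (Fct.mk false (nat_lit 1) (nat_lit 0) (nat_lit 1) [nat_lit 7, nat_lit 5, nat_lit 4, nat_lit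 9, nat_lit 16] (Rl.cmp (nat_lit 27) (nat_lit 934)))) (FT.leaf (Fct.mk false (nat_lit 1) (nat_lit 0) (nat_lit 1) [nat_lit 7, nat_lit 5, nat_lit 4, nat_lit 11, nat_lit 10, nat_lit 14, nat_lit 13, nat_lit 16] (Rl.cmp (nat_lit 23) (nat_lit 935)))))))) (FT.node (nat_lit 943) (FT.node (nat_lit 940) (FT.node (nat_lit 938) (FT.leaf (Fct.mk false (nat_lit 1) (nat_lit 0) (nat_lit 1) [nat_lit 7, nat_lit 5, nat_lit 4, nat_lit 9, nat_lit 2, nat_lit 16, nat_lit 15, nat_lit 14, nat_lit 16] (Rl.cmp (nat_lit 23) (nat_lit 936)))) (FT.node (nat_lit 939) (FT.leaf (Fct.mk true (nat_lit 10) (nat_lit 79486) (nat_lit 16) [nat_lit 7, nat_lit 5, nat_lit 6, nat_lit 3, nat_lit 4, nat_lit 5, nat_lit 2, nat_lit 3, nat_lit 4, nat_lit 1, nat_lit 2, nat_lit 3, nat_lit 8, nat_lit 0, nat_lit 1, nat_lit 2, nat_lit 3, nat_lit 4, nat_lit 5, nat_lit 6, nat_lit 7, nat_lit 5, nat_lit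 4, nat_lit 3, nat_lit 8, nat_lit 0, nat_lit 1, nat_lit 2, nat_lit 3, nat_lit 4, nat_lit 5, nat_lit 3, nat_lit 2, nat_lit 16, nat_lit 15, nat_lit 14, nat_lit 12, nat_lit 16] (Rl.rel (nat_lit 0) [nat_lit 8, nat_lit 4, nat_lit 5, nat_lit 2, nat_lit 3, nat_lit 4, nat_lit 1, nat_lit 2, nat_lit 3, nat_lit 8, nat_lit 6, nat_lit 7, nat_lit 5, nat_lit 6, nat_lit 4, nat_lit 5, nat_lit 3, nat_lit 4, nat_lit 2, nat_lit 3, nat_lit 8, nat_lit 1, nat_lit 2, nat_lit 3, nat_lit 4, nat_lit 5, nat_lit 6, nat_lit 7, nat_lit 5, nat_lit 6, nat_lit 4, nat_lit 5, nat_lit 3, nat_lit 4, nat_lit 1, nat_lit 2, nat_lit 3, nat_lit 8, nat_lit 0, nat_lit 1, nat_lit 2, nat_lit 3, nat_lit 4, nat_lit 5, nat_lit 3, nat_lit 2, nat_lit 1, nat_lit 4, nat_lit 3, nat_lit 2, nat_lit 8, nat_lit 3, nat_lit 8, nat_lit 10, nat_lit 1, nat_lit 14, nat_lit 13] (nat_lit 16) (nat_lit 2) [nat_lit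 907, nat_lit 937, nat_lit 710] []))) (FT.leaf (Fct.mk true (nat_lit 10) (nat_lit 47202) (nat_lit 16) [nat_lit 7, nat_lit 6, nat_lit 5, nat_lit 3, nat_lit 4, nat_lit 1, nat_lit 2, nat_lit 3, nat_lit 8, nat_lit 0, nat_lit 1, nat_lit 2, nat_lit 3, nat_lit 4, nat_lit 5, nat_lit 6, nat_lit 7, nat_lit 3, nat_lit 8, nat_lit 0, nat_lit 1, nat_lit 2, nat_lit 3, nat_lit 4, nat_lit 5, nat_lit 3, nat_lit 2, nat_lit 16, nat_lit 12, nat_lit 15, nat_lit 14, nat_lit 12, nat_lit 16] (Rl.t1 (nat_lit 938) (nat_lit 722)))))) (FT.node (nat_lit 941) (FT.leaf (Fct.mk false (nat_lit 1) (nat_lit 0) (nat_lit 1) [nat_lit 3, nat_lit 4, nat_lit 5, nat_lit 2, nat_lit 3, nat_lit 12] (Rl.cmp (nat_lit 21) (nat_lit 931)))) (FT.node (nat_lit 942) (FT.leaf (Fct.mk false (nat_lit 1) (nat_lit 0) (nat_lit 1) [nat_lit 2, nat_lit 3, nat_lit 4, nat_lit 5, nat_lit 3, nat_lit 9, nat_lit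 2, nat_lit 16, nat_lit 15, nat_lit 14] (Rl.cmp (nat_lit 25) (nat_lit 683)))) (FT.leaf (Fct.mk false (nat_lit 1) (nat_lit 0) (nat_lit 1) [nat_lit 1, nat_lit 2, nat_lit 3, nat_lit 4, nat_lit 5, nat_lit 2, nat_lit 3, nat_lit 9, nat_lit 2, nat_lit 16, nat_lit 15, nat_lit 14, nat_lit 16] (Rl.cmp (nat_lit 19) (nat_lit 941))))))) (FT.node (nat_lit 946) (FT.node (nat_lit 944) (FT.leaf (Fct.mk false (nat_lit 1) (nat_lit 0) (nat_lit 1) [nat_lit 0, nat_lit 1, nat_lit 2, nat_lit 3, nat_lit 4, nat_lit 5, nat_lit 1, nat_lit 2, nat_lit 3, nat_lit 11, nat_lit 1, nat_lit 12, nat_lit 15, nat_lit 14, nat_lit 13, nat_lit 16] (Rl.cmp (nat_lit 23) (nat_lit 942)))) (FT.node (nat_lit 945) (FT.leaf (Fct.mk false (nat_lit 1) (nat_lit 0) (nat_lit 1) [nat_lit 3, nat_lit 4, nat_lit 5, nat_lit 6, nat_lit 7, nat_lit 0, nat_lit 1, nat_lit 2, nat_lit 3, nat_lit 4, nat_lit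 5, nat_lit 1, nat_lit 2, nat_lit 3, nat_lit 11, nat_lit 1, nat_lit 12, nat_lit 15, nat_lit 14, nat_lit 13, nat_lit 16] (Rl.cmp (nat_lit 27) (nat_lit 943)))) (FT.leaf (Fct.mk false (nat_lit 1) (nat_lit 0) (nat_lit 1) [nat_lit 4, nat_lit 5, nat_lit 6, nat_lit 7, nat_lit 0, nat_lit 1, nat_lit 2, nat_lit 3, nat_lit 4, nat_lit 5, nat_lit 1, nat_lit 2, nat_lit 3, nat_lit 0, nat_lit 2, nat_lit 16, nat_lit 12, nat_lit 15, nat_lit 14, nat_lit 12, nat_lit 16] (Rl.cmp (nat_lit 27) (nat_lit 944)))))) (FT.node (nat_lit 948) (FT.node (nat_lit 947) (FT.leaf (Fct.mk false (nat_lit 16) (nat_lit 0) (nat_lit 16) [nat_lit 5, nat_lit 2] (Rl.cmp (nat_lit 921) (nat_lit 930)))) (FT.leaf (Fct.mk false (nat_lit 16) (nat_lit 0) (nat_lit 16) [nat_lit 4, nat_lit 5, nat_lit 2] (Rl.cmp (nat_lit 930) (nat_lit 946))))) (FT.node (nat_lit 949) (FT.leaf (Fct.mk true (nat_lit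 1) (nat_lit 23261) (nat_lit 17) [] (Rl.df))) (FT.leaf (Fct.mk true (nat_lit 17) (nat_lit 23261) (nat_lit 1) [] (Rl.inv (nat_lit 948)))))))))

/-- some facts -/
noncomputable def ftc19 : FT := FT.node (nat_lit 975) (FT.node (nat_lit 962) (FT.node (nat_lit 956) (FT.node (nat_lit 953) (FT.node (nat_lit 951) (FT.leaf (Fct.mk true (nat_lit 2) (nat_lit 23261) (nat_lit 17) [nat_lit 8, nat_lit 3, nat_lit 4, nat_lit 2, nat_lit 3, nat_lit 8, nat_lit 5, nat_lit 6, nat_lit 4, nat_lit 5, nat_lit 3, nat_lit 4, nat_lit 2, nat_lit 3, nat_lit 8, nat_lit 1, nat_lit 2, nat_lit 3, nat_lit 4, nat_lit 5, nat_lit 6, nat_lit 7, nat_lit 6, nat_lit 5, nat_lit 4, nat_lit 3, nat_lit 8, nat_lit 1, nat_lit 2, nat_lit 3, nat_lit 4, nat_lit 5, nat_lit 1, nat_lit 3, nat_lit 2, nat_lit 8, nat_lit 3, nat_lit 16, nat_lit 8, nat_lit 19, nat_lit 16] (Rl.rel (nat_lit 0) [nat_lit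 3, nat_lit 4, nat_lit 5, nat_lit 6, nat_lit 7, nat_lit 1, nat_lit 2, nat_lit 3, nat_lit 4, nat_lit 5, nat_lit 1, nat_lit 3, nat_lit 2, nat_lit 8, nat_lit 3, nat_lit 16, nat_lit 8, nat_lit 19, nat_lit 16] (nat_lit 17) (nat_lit 2) [nat_lit 949, nat_lit 82] []))) (FT.node (nat_lit 952) (FT.leaf (Fct.mk true (nat_lit 2) (nat_lit 16164) (nat_lit 17) [nat_lit 6, nat_lit 7, nat_lit 5, nat_lit 6, nat_lit 4, nat_lit 5, nat_lit 3, nat_lit 4, nat_lit 2, nat_lit 3, nat_lit 8, nat_lit 1, nat_lit 2, nat_lit 3, nat_lit 4, nat_lit 5, nat_lit 6, nat_lit 7, nat_lit 6, nat_lit 5, nat_lit 4, nat_lit 3, nat_lit 8, nat_lit 1, nat_lit 2, nat_lit 3, nat_lit 4, nat_lit 5, nat_lit 1, nat_lit 3, nat_lit 2, nat_lit 8, nat_lit 3, nat_lit 9, nat_lit 16, nat_lit 8, nat_lit 19, nat_lit 16] (Rl.t1 (nat_lit 950) (nat_lit 172)))) (FT.leaf (Fct.mk true (nat_lit 12) (nat_lit 23261)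 (nat_lit 17) [nat_lit 8, nat_lit 3, nat_lit 4, nat_lit 2, nat_lit 3, nat_lit 8, nat_lit 1, nat_lit 2, nat_lit 3, nat_lit 4, nat_lit 5, nat_lit 6, nat_lit 7, nat_lit 5, nat_lit 1, nat_lit 9, nat_lit 4, nat_lit 3, nat_lit 2, nat_lit 8, nat_lit 3, nat_lit 10, nat_lit 1, nat_lit 8, nat_lit 18] (Rl.rel (nat_lit 0) [nat_lit 3, nat_lit 4, nat_lit 5, nat_lit 6, nat_lit 7, nat_lit 8, nat_lit 1, nat_lit 2, nat_lit 3, nat_lit 4, nat_lit 5, nat_lit 1, nat_lit 3, nat_lit 2, nat_lit 8, nat_lit 3, nat_lit 16, nat_lit 8, nat_lit 19, nat_lit 16] (nat_lit 17) (nat_lit 2) [nat_lit 949, nat_lit 767] []))))) (FT.node (nat_lit 954) (FT.leaf (Fct.mk false (nat_lit 17) (nat_lit 0) (nat_lit 17) [nat_lit 7, nat_lit 3, nat_lit 10] (Rl.rel (nat_lit 0) [nat_lit 3, nat_lit 8, nat_lit 2, nat_lit 3, nat_lit 4, nat_lit 5, nat_lit 6, nat_lit 7, nat_lit 1, nat_lit 2, nat_lit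 3, nat_lit 4, nat_lit 5, nat_lit 3, nat_lit 2, nat_lit 8, nat_lit 3, nat_lit 16, nat_lit 8, nat_lit 19, nat_lit 16] (nat_lit 17) (nat_lit 3) [nat_lit 949, nat_lit 125, nat_lit 767, nat_lit 782, nat_lit 952] []))) (FT.node (nat_lit 955) (FT.leaf (Fct.mk true (nat_lit 9) (nat_lit 76213) (nat_lit 17) [nat_lit 6, nat_lit 5, nat_lit 4, nat_lit 3, nat_lit 8, nat_lit 2, nat_lit 3, nat_lit 4, nat_lit 5, nat_lit 6, nat_lit 7, nat_lit 3, nat_lit 4, nat_lit 5, nat_lit 8, nat_lit 3, nat_lit 10, nat_lit 15, nat_lit 12, nat_lit 19] (Rl.rel (nat_lit 0) [nat_lit 3, nat_lit 4, nat_lit 5, nat_lit 6, nat_lit 7, nat_lit 8, nat_lit 1, nat_lit 2, nat_lit 3, nat_lit 4, nat_lit 5, nat_lit 2, nat_lit 1, nat_lit 3, nat_lit 2, nat_lit 8, nat_lit 3, nat_lit 16, nat_lit 8, nat_lit 19, nat_lit 16] (nat_lit 17) (nat_lit 2) [nat_lit 949, nat_lit 121, nat_lit 642] []))) (FT.leaf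 (Fct.mk false (nat_lit 17) (nat_lit 0) (nat_lit 17) [nat_lit 7, nat_lit 6, nat_lit 10] (Rl.rel (nat_lit 0) [nat_lit 3, nat_lit 8, nat_lit 2, nat_lit 3, nat_lit 4, nat_lit 5, nat_lit 6, nat_lit 7, nat_lit 3, nat_lit 4, nat_lit 5, nat_lit 1, nat_lit 3, nat_lit 2, nat_lit 8, nat_lit 3, nat_lit 16, nat_lit 8, nat_lit 19, nat_lit 16] (nat_lit 17) (nat_lit 3) [nat_lit 949, nat_lit 124, nat_lit 767, nat_lit 952] [])))))) (FT.node (nat_lit 959) (FT.node (nat_lit 957) (FT.leaf (Fct.mk false (nat_lit 17) (nat_lit 0) (nat_lit 17) [nat_lit 6, nat_lit 7, nat_lit 2] (Rl.rel (nat_lit 0) [nat_lit 3, nat_lit 8, nat_lit 2, nat_lit 3, nat_lit 4, nat_lit 5, nat_lit 6, nat_lit 7, nat_lit 1, nat_lit 2, nat_lit 3, nat_lit 4, nat_lit 5, nat_lit 2, nat_lit 1, nat_lit 3, nat_lit 2, nat_lit 8, nat_lit 3, nat_lit 16, nat_lit 8, nat_lit 18] (nat_lit 17) (nat_lit 3) [nat_lit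 949, nat_lit 148, nat_lit 642, nat_lit 684, nat_lit 954] []))) (FT.node (nat_lit 958) (FT.leaf (Fct.mk false (nat_lit 17) (nat_lit 0) (nat_lit 17) [nat_lit 2, nat_lit 12] (Rl.cmp (nat_lit 955) (nat_lit 956)))) (FT.leaf (Fct.mk true (nat_lit 14) (nat_lit 111798) (nat_lit 17) [nat_lit 3, nat_lit 4, nat_lit 2, nat_lit 3, nat_lit 8, nat_lit 5, nat_lit 6, nat_lit 4, nat_lit 5, nat_lit 3, nat_lit 4, nat_lit 2, nat_lit 3, nat_lit 8, nat_lit 0, nat_lit 1, nat_lit 2, nat_lit 3, nat_lit 4, nat_lit 5, nat_lit 1, nat_lit 4, nat_lit 3, nat_lit 2, nat_lit 8, nat_lit 3, nat_lit 11, nat_lit 10, nat_lit 1, nat_lit 17, nat_lit 12, nat_lit 19, nat_lit 16] (Rl.rel (nat_lit 0) [nat_lit 3, nat_lit 8, nat_lit 2, nat_lit 3, nat_lit 4, nat_lit 5, nat_lit 6, nat_lit 7, nat_lit 2, nat_lit 3, nat_lit 8, nat_lit 0, nat_lit 1, nat_lit 2, nat_lit 3, nat_lit 4, nat_lit 5,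 nat_lit 0, nat_lit 1, nat_lit 3, nat_lit 2, nat_lit 8, nat_lit 3, nat_lit 16, nat_lit 8, nat_lit 19, nat_lit 16] (nat_lit 17) (nat_lit 2) [nat_lit 949, nat_lit 783, nat_lit 851] []))))) (FT.node (nat_lit 960) (FT.leaf (Fct.mk true (nat_lit 14) (nat_lit 76215) (nat_lit 17) [nat_lit 4, nat_lit 2, nat_lit 3, nat_lit 8, nat_lit 5, nat_lit 6, nat_lit 4, nat_lit 5, nat_lit 3, nat_lit 4, nat_lit 2, nat_lit 3, nat_lit 8, nat_lit 0, nat_lit 1, nat_lit 2, nat_lit 3, nat_lit 4, nat_lit 5, nat_lit 1, nat_lit 9, nat_lit 4, nat_lit 3, nat_lit 2, nat_lit 8, nat_lit 3, nat_lit 11, nat_lit 10, nat_lit 1, nat_lit 17, nat_lit 12, nat_lit 19, nat_lit 16] (Rl.t1 (nat_lit 958) (nat_lit 887)))) (FT.node (nat_lit 961) (FT.leaf (Fct.mk true (nat_lit 17) (nat_lit 16934) (nat_lit 14) [nat_lit 8, nat_lit 5, nat_lit 6, nat_lit 4, nat_lit 5, nat_lit 3, nat_lit 4, nat_lit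 2, nat_lit 3, nat_lit 8, nat_lit 0, nat_lit 1, nat_lit 2, nat_lit 3, nat_lit 4, nat_lit 5, nat_lit 1, nat_lit 4, nat_lit 3, nat_lit 2, nat_lit 8, nat_lit 3, nat_lit 11, nat_lit 1, nat_lit 13, nat_lit 12, nat_lit 19] (Rl.inv (nat_lit 959)))) (FT.leaf (Fct.mk true (nat_lit 17) (nat_lit 16924) (nat_lit 14) [nat_lit 4, nat_lit 2, nat_lit 3, nat_lit 8, nat_lit 5, nat_lit 6, nat_lit 4, nat_lit 5, nat_lit 3, nat_lit 4, nat_lit 2, nat_lit 3, nat_lit 8, nat_lit 0, nat_lit 1, nat_lit 2, nat_lit 3, nat_lit 4, nat_lit 5, nat_lit 1, nat_lit 9, nat_lit 4, nat_lit 3, nat_lit 2, nat_lit 8, nat_lit 3, nat_lit 11, nat_lit 1, nat_lit 13, nat_lit 12, nat_lit 19] (Rl.t1 (nat_lit 960) (nat_lit 957)))))))) (FT.node (nat_lit 968) (FT.node (nat_lit 965) (FT.node (nat_lit 963) (FT.leaf (Fct.mk false (nat_lit 1) (nat_lit 0) (nat_lit 1) [nat_lit 1, nat_lit 2, nat_lit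 3, nat_lit 4, nat_lit 5, nat_lit 6, nat_lit 7, nat_lit 2, nat_lit 3, nat_lit 4, nat_lit 5, nat_lit 4, nat_lit 12, nat_lit 15, nat_lit 14] (Rl.cmp (nat_lit 25) (nat_lit 869)))) (FT.node (nat_lit 964) (FT.leaf (Fct.mk false (nat_lit 1) (nat_lit 0) (nat_lit 1) [nat_lit 1, nat_lit 2, nat_lit 3, nat_lit 4, nat_lit 5, nat_lit 6, nat_lit 7, nat_lit 3, nat_lit 4, nat_lit 5, nat_lit 9, nat_lit 4, nat_lit 9, nat_lit 2, nat_lit 16, nat_lit 12, nat_lit 15, nat_lit 14] (Rl.cmp (nat_lit 27) (nat_lit 962)))) (FT.leaf (Fct.mk false (nat_lit 1) (nat_lit 0) (nat_lit 1) [nat_lit 1, nat_lit 2, nat_lit 3, nat_lit 4, nat_lit 5, nat_lit 6, nat_lit 7, nat_lit 4, nat_lit 5, nat_lit 2, nat_lit 3, nat_lit 9, nat_lit 2, nat_lit 16, nat_lit 12, nat_lit 15, nat_lit 14] (Rl.cmp (nat_lit 27) (nat_lit 963)))))) (FT.node (nat_lit 966) (FT.leaf (Fct.mk true (nat_lit 14) (nat_lit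 59049) (nat_lit 17) [nat_lit 5, nat_lit 4, nat_lit 3, nat_lit 8, nat_lit 6, nat_lit 7, nat_lit 5, nat_lit 6, nat_lit 4, nat_lit 5, nat_lit 3, nat_lit 4, nat_lit 2, nat_lit 3, nat_lit 8, nat_lit 1, nat_lit 2, nat_lit 3, nat_lit 4, nat_lit 5, nat_lit 6, nat_lit 7, nat_lit 6, nat_lit 2, nat_lit 0, nat_lit 1, nat_lit 3, nat_lit 2, nat_lit 8, nat_lit 3, nat_lit 0, nat_lit 15, nat_lit 12, nat_lit 18, nat_lit 16] (Rl.rel (nat_lit 0) [nat_lit 8, nat_lit 3, nat_lit 4, nat_lit 2, nat_lit 3, nat_lit 8, nat_lit 1, nat_lit 2, nat_lit 3, nat_lit 4, nat_lit 5, nat_lit 6, nat_lit 7, nat_lit 4, nat_lit 3, nat_lit 8, nat_lit 0, nat_lit 1, nat_lit 2, nat_lit 3, nat_lit 4, nat_lit 5, nat_lit 1, nat_lit 3, nat_lit 2, nat_lit 8, nat_lit 3, nat_lit 16, nat_lit 8, nat_lit 19, nat_lit 16] (nat_lit 17) (nat_lit 2) [nat_lit 949, nat_lit 964, nat_lit 851] []))) (FT.node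 (nat_lit 967) (FT.leaf (Fct.mk true (nat_lit 14) (nat_lit 57798) (nat_lit 17) [nat_lit 5, nat_lit 3, nat_lit 4, nat_lit 2, nat_lit 3, nat_lit 8, nat_lit 6, nat_lit 7, nat_lit 5, nat_lit 6, nat_lit 4, nat_lit 5, nat_lit 3, nat_lit 4, nat_lit 2, nat_lit 3, nat_lit 8, nat_lit 1, nat_lit 2, nat_lit 3, nat_lit 4, nat_lit 5, nat_lit 6, nat_lit 7, nat_lit 6, nat_lit 2, nat_lit 0, nat_lit 1, nat_lit 3, nat_lit 2, nat_lit 8, nat_lit 3, nat_lit 0, nat_lit 15, nat_lit 12, nat_lit 18, nat_lit 16] (Rl.t1 (nat_lit 965) (nat_lit 882)))) (FT.leaf (Fct.mk false (nat_lit 17) (nat_lit 0) (nat_lit 17) [nat_lit 6, nat_lit 2, nat_lit 3, nat_lit 10] (Rl.cmp (nat_lit 956) (nat_lit 953))))))) (FT.node (nat_lit 971) (FT.node (nat_lit 969) (FT.leaf (Fct.mk false (nat_lit 1) (nat_lit 0) (nat_lit 1) [nat_lit 6, nat_lit 9, nat_lit 4, nat_lit 1, nat_lit 9, nat_lit 16, nat_lit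 12, nat_lit 15, nat_lit 14] (Rl.cmp (nat_lit 25) (nat_lit 604)))) (FT.node (nat_lit 970) (FT.leaf (Fct.mk false (nat_lit 1) (nat_lit 0) (nat_lit 1) [nat_lit 6, nat_lit 3, nat_lit 1, nat_lit 9, nat_lit 16, nat_lit 12, nat_lit 15, nat_lit 14] (Rl.cmp (nat_lit 21) (nat_lit 968)))) (FT.leaf (Fct.mk false (nat_lit 1) (nat_lit 0) (nat_lit 1) [nat_lit 3, nat_lit 4, nat_lit 5, nat_lit 3, nat_lit 1, nat_lit 9, nat_lit 16, nat_lit 12, nat_lit 15, nat_lit 14] (Rl.cmp (nat_lit 25) (nat_lit 969)))))) (FT.node (nat_lit 973) (FT.node (nat_lit 972) (FT.leaf (Fct.mk false (nat_lit 1) (nat_lit 0) (nat_lit 1) [nat_lit 3, nat_lit 4, nat_lit 5, nat_lit 6, nat_lit 7, nat_lit 3, nat_lit 4, nat_lit 5, nat_lit 3, nat_lit 1, nat_lit 9, nat_lit 16, nat_lit 12, nat_lit 15, nat_lit 14] (Rl.cmp (nat_lit 27) (nat_lit 970)))) (FT.leaf (Fct.mk false (nat_lit 1) (nat_lit 0)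 (nat_lit 1) [nat_lit 2, nat_lit 3, nat_lit 4, nat_lit 5, nat_lit 6, nat_lit 7, nat_lit 2, nat_lit 3, nat_lit 4, nat_lit 5, nat_lit 3, nat_lit 1, nat_lit 9, nat_lit 16, nat_lit 12, nat_lit 15, nat_lit 14] (Rl.cmp (nat_lit 15) (nat_lit 971))))) (FT.node (nat_lit 974) (FT.leaf (Fct.mk false (nat_lit 1) (nat_lit 0) (nat_lit 1) [nat_lit 1, nat_lit 2, nat_lit 3, nat_lit 4, nat_lit 5, nat_lit 6, nat_lit 7, nat_lit 1, nat_lit 2, nat_lit 3, nat_lit 4, nat_lit 5, nat_lit 3, nat_lit 9, nat_lit 16, nat_lit 12, nat_lit 15, nat_lit 14, nat_lit 12] (Rl.cmp (nat_lit 23) (nat_lit 972)))) (FT.leaf (Fct.mk false (nat_lit 1) (nat_lit 0) (nat_lit 1) [nat_lit 3, nat_lit 2, nat_lit 10, nat_lit 1] (Rl.cmp (nat_lit 19) (nat_lit 640))))))))) (FT.node (nat_lit 987) (FT.node (nat_lit 981) (FT.node (nat_lit 978) (FT.node (nat_lit 976) (FT.leaf (Fct.mk false (nat_lit 1)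 (nat_lit 0) (nat_lit 1) [nat_lit 2, nat_lit 3, nat_lit 10, nat_lit 1, nat_lit 12] (Rl.cmp (nat_lit 19) (nat_lit 974)))) (FT.node (nat_lit 977) (FT.leaf (Fct.mk false (nat_lit 1) (nat_lit 0) (nat_lit 1) [nat_lit 1, nat_lit 2, nat_lit 3, nat_lit 10, nat_lit 12, nat_lit 15, nat_lit 12] (Rl.cmp (nat_lit 23) (nat_lit 975)))) (FT.leaf (Fct.mk false (nat_lit 1) (nat_lit 0) (nat_lit 1) [nat_lit 10, nat_lit 12, nat_lit 15, nat_lit 12] (Rl.cmp (nat_lit 19) (nat_lit 976)))))) (FT.node (nat_lit 979) (FT.leaf (Fct.mk true (nat_lit 1) (nat_lit 23266) (nat_lit 18) [] (Rl.df))) (FT.node (nat_lit 980) (FT.leaf (Fct.mk true (nat_lit 18) (nat_lit 23266) (nat_lit 1) [] (Rl.inv (nat_lit 978)))) (FT.leaf (Fct.mk false (nat_lit 18) (nat_lit 0) (nat_lit 18) [nat_lit 8, nat_lit 3, nat_lit 4, nat_lit 2, nat_lit 3, nat_lit 8, nat_lit 5, nat_lit 6, nat_lit 4, nat_lit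 5, nat_lit 3, nat_lit 4, nat_lit 2, nat_lit 3, nat_lit 8, nat_lit 1, nat_lit 2, nat_lit 3, nat_lit 4, nat_lit 5, nat_lit 6, nat_lit 7, nat_lit 6, nat_lit 5, nat_lit 4, nat_lit 3, nat_lit 8, nat_lit 1, nat_lit 2, nat_lit 3, nat_lit 4, nat_lit 5, nat_lit 1, nat_lit 3, nat_lit 2, nat_lit 8, nat_lit 3, nat_lit 8, nat_lit 19, nat_lit 16] (Rl.rel (nat_lit 0) [nat_lit 3, nat_lit 4, nat_lit 5, nat_lit 6, nat_lit 7, nat_lit 1, nat_lit 2, nat_lit 3, nat_lit 4, nat_lit 5, nat_lit 3, nat_lit 8, nat_lit 4, nat_lit 3, nat_lit 2, nat_lit 0, nat_lit 1, nat_lit 9, nat_lit 4, nat_lit 3, nat_lit 2, nat_lit 8, nat_lit 3, nat_lit 11, nat_lit 2, nat_lit 8, nat_lit 10, nat_lit 1, nat_lit 15, nat_lit 14, nat_lit 8, nat_lit 18] (nat_lit 18) (nat_lit 3) [nat_lit 979, nat_lit 111, nat_lit 425, nat_lit 442, nat_lit 978] [])))))) (FT.node (nat_lit 984) (FT.node (nat_lit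 982) (FT.leaf (Fct.mk true (nat_lit 18) (nat_lit 381) (nat_lit 1) [nat_lit 8, nat_lit 3, nat_lit 4, nat_lit 2, nat_lit 3, nat_lit 8, nat_lit 5, nat_lit 6, nat_lit 4, nat_lit 5, nat_lit 3, nat_lit 4, nat_lit 2, nat_lit 3, nat_lit 8, nat_lit 1, nat_lit 2, nat_lit 3, nat_lit 4, nat_lit 5, nat_lit 6, nat_lit 7, nat_lit 6, nat_lit 5, nat_lit 4, nat_lit 3, nat_lit 8, nat_lit 1, nat_lit 2, nat_lit 3, nat_lit 4, nat_lit 5, nat_lit 1, nat_lit 3, nat_lit 2, nat_lit 8, nat_lit 3, nat_lit 8, nat_lit 19, nat_lit 16] (Rl.t1 (nat_lit 979) (nat_lit 980)))) (FT.node (nat_lit 983) (FT.leaf (Fct.mk true (nat_lit 13) (nat_lit 52249) (nat_lit 18) [nat_lit 8, nat_lit 4, nat_lit 5, nat_lit 3, nat_lit 4, nat_lit 2, nat_lit 3, nat_lit 8, nat_lit 1, nat_lit 2, nat_lit 3, nat_lit 4, nat_lit 5, nat_lit 6, nat_lit 7, nat_lit 5, nat_lit 1, nat_lit 9, nat_lit 4, nat_lit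 3, nat_lit 2, nat_lit 8, nat_lit 3, nat_lit 8, nat_lit 10, nat_lit 1, nat_lit 12, nat_lit 15, nat_lit 12, nat_lit 18] (Rl.rel (nat_lit 0) [nat_lit 3, nat_lit 4, nat_lit 5, nat_lit 6, nat_lit 7, nat_lit 8, nat_lit 1, nat_lit 2, nat_lit 3, nat_lit 4, nat_lit 5, nat_lit 3, nat_lit 8, nat_lit 4, nat_lit 3, nat_lit 2, nat_lit 0, nat_lit 1, nat_lit 9, nat_lit 4, nat_lit 3, nat_lit 2, nat_lit 8, nat_lit 3, nat_lit 11, nat_lit 2, nat_lit 8, nat_lit 10, nat_lit 1, nat_lit 15, nat_lit 14, nat_lit 8, nat_lit 18] (nat_lit 18) (nat_lit 2) [nat_lit 980, nat_lit 981, nat_lit 686, nat_lit 808] []))) (FT.leaf (Fct.mk false (nat_lit 1) (nat_lit 0) (nat_lit 1) [nat_lit 3, nat_lit 4, nat_lit 5, nat_lit 4, nat_lit 1] (Rl.cmp (nat_lit 21) (nat_lit 438)))))) (FT.node (nat_lit 985) (FT.leaf (Fct.mk false (nat_lit 1) (nat_lit 0) (nat_lit 1) [nat_lit 2, nat_lit 3, nat_lit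 4, nat_lit 5, nat_lit 4, nat_lit 2, nat_lit 15] (Rl.cmp (nat_lit 23) (nat_lit 983)))) (FT.node (nat_lit 986) (FT.leaf (Fct.mk false (nat_lit 18) (nat_lit 0) (nat_lit 18) [nat_lit 4, nat_lit 2] (Rl.rel (nat_lit 0) [nat_lit 3, nat_lit 4, nat_lit 5, nat_lit 6, nat_lit 7, nat_lit 8, nat_lit 1, nat_lit 2, nat_lit 3, nat_lit 4, nat_lit 5, nat_lit 2, nat_lit 3, nat_lit 8, nat_lit 4, nat_lit 3, nat_lit 2, nat_lit 0, nat_lit 1, nat_lit 9, nat_lit 4, nat_lit 3, nat_lit 2, nat_lit 8, nat_lit 3, nat_lit 11, nat_lit 2, nat_lit 8, nat_lit 10, nat_lit 1, nat_lit 15, nat_lit 14, nat_lit 8, nat_lit 18] (nat_lit 18) (nat_lit 3) [nat_lit 980, nat_lit 981, nat_lit 984, nat_lit 808, nat_lit 982] []))) (FT.leaf (Fct.mk false (nat_lit 18) (nat_lit 0) (nat_lit 18) [nat_lit 12, nat_lit 15] (Rl.rel (nat_lit 0) [nat_lit 3, nat_lit 4, nat_lit 5, nat_lit 6, nat_lit 7,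 nat_lit 8, nat_lit 1, nat_lit 2, nat_lit 3, nat_lit 4, nat_lit 5, nat_lit 8, nat_lit 4, nat_lit 3, nat_lit 2, nat_lit 0, nat_lit 1, nat_lit 9, nat_lit 4, nat_lit 3, nat_lit 2, nat_lit 8, nat_lit 3, nat_lit 11, nat_lit 8, nat_lit 10, nat_lit 1, nat_lit 8, nat_lit 12, nat_lit 15, nat_lit 14, nat_lit 8, nat_lit 18] (nat_lit 18) (nat_lit 3) [nat_lit 980, nat_lit 981, nat_lit 437, nat_lit 808, nat_lit 982] []))))))) (FT.node (nat_lit 993) (FT.node (nat_lit 990) (FT.node (nat_lit 988) (FT.leaf (Fct.mk false (nat_lit 1) (nat_lit 0) (nat_lit 1) [nat_lit 10, nat_lit 1, nat_lit 14] (Rl.cmp (nat_lit 17) (nat_lit 19)))) (FT.node (nat_lit 989) (FT.leaf (Fct.mk false (nat_lit 1) (nat_lit 0) (nat_lit 1) [nat_lit 3, nat_lit 4, nat_lit 5, nat_lit 10, nat_lit 1, nat_lit 14] (Rl.cmp (nat_lit 21) (nat_lit 987)))) (FT.leaf (Fct.mk false (nat_lit 1) (nat_lit 0)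 (nat_lit 1) [nat_lit 4, nat_lit 5, nat_lit 4, nat_lit 1, nat_lit 16, nat_lit 14] (Rl.cmp (nat_lit 25) (nat_lit 988)))))) (FT.node (nat_lit 991) (FT.leaf (Fct.mk false (nat_lit 1) (nat_lit 0) (nat_lit 1) [nat_lit 1, nat_lit 2, nat_lit 3, nat_lit 4, nat_lit 5, nat_lit 6, nat_lit 7, nat_lit 0, nat_lit 1, nat_lit 2, nat_lit 3, nat_lit 0, nat_lit 2, nat_lit 15, nat_lit 14, nat_lit 12] (Rl.cmp (nat_lit 21) (nat_lit 689)))) (FT.node (nat_lit 992) (FT.leaf (Fct.mk false (nat_lit 1) (nat_lit 0) (nat_lit 1) [nat_lit 1, nat_lit 2, nat_lit 3, nat_lit 4, nat_lit 5, nat_lit 6, nat_lit 7, nat_lit 0, nat_lit 1, nat_lit 2, nat_lit 3, nat_lit 0, nat_lit 12, nat_lit 15, nat_lit 14] (Rl.cmp (nat_lit 21) (nat_lit 990)))) (FT.leaf (Fct.mk false (nat_lit 18) (nat_lit 0) (nat_lit 18) [nat_lit 8, nat_lit 3, nat_lit 4, nat_lit 2, nat_lit 3, nat_lit 8, nat_lit 5, nat_lit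 6, nat_lit 4, nat_lit 5, nat_lit 3, nat_lit 4, nat_lit 2, nat_lit 3, nat_lit 8, nat_lit 1, nat_lit 2, nat_lit 3, nat_lit 4, nat_lit 5, nat_lit 6, nat_lit 7, nat_lit 6, nat_lit 5, nat_lit 4, nat_lit 3, nat_lit 8, nat_lit 1, nat_lit 2, nat_lit 3, nat_lit 4, nat_lit 5, nat_lit 1, nat_lit 2, nat_lit 8, nat_lit 3, nat_lit 9, nat_lit 8, nat_lit 19, nat_lit 16] (Rl.cmp (nat_lit 985) (nat_lit 980))))))) (FT.node (nat_lit 996) (FT.node (nat_lit 994) (FT.leaf (Fct.mk false (nat_lit 18) (nat_lit 0) (nat_lit 18) [nat_lit 8, nat_lit 3, nat_lit 4, nat_lit 2, nat_lit 3, nat_lit 8, nat_lit 5, nat_lit 6, nat_lit 4, nat_lit 5, nat_lit 3, nat_lit 4, nat_lit 2, nat_lit 3, nat_lit 8, nat_lit 1, nat_lit 2, nat_lit 3, nat_lit 4, nat_lit 5, nat_lit 6, nat_lit 7, nat_lit 6, nat_lit 5, nat_lit 4, nat_lit 3, nat_lit 8, nat_lit 1, nat_lit 2, nat_lit 3, nat_lit 4, nat_lit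 5, nat_lit 1, nat_lit 9, nat_lit 4, nat_lit 3, nat_lit 2, nat_lit 8, nat_lit 3, nat_lit 11, nat_lit 8, nat_lit 10, nat_lit 1, nat_lit 8, nat_lit 16, nat_lit 15, nat_lit 14, nat_lit 13, nat_lit 18] (Rl.cmp (nat_lit 986) (nat_lit 992)))) (FT.node (nat_lit 995) (FT.leaf (Fct.mk true (nat_lit 15) (nat_lit 119446) (nat_lit 18) [nat_lit 8, nat_lit 7, nat_lit 6, nat_lit 5, nat_lit 3, nat_lit 4, nat_lit 2, nat_lit 3, nat_lit 8, nat_lit 1, nat_lit 2, nat_lit 3, nat_lit 4, nat_lit 5, nat_lit 6, nat_lit 7, nat_lit 6, nat_lit 0, nat_lit 1, nat_lit 2, nat_lit 8, nat_lit 3, nat_lit 11, nat_lit 8, nat_lit 10, nat_lit 14, nat_lit 13, nat_lit 12] (Rl.rel (nat_lit 0) [nat_lit 8, nat_lit 3, nat_lit 4, nat_lit 2, nat_lit 3, nat_lit 8, nat_lit 1, nat_lit 2, nat_lit 3, nat_lit 4, nat_lit 5, nat_lit 6, nat_lit 7, nat_lit 4, nat_lit 3, nat_lit 8, nat_lit 0, nat_lit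 1, nat_lit 2, nat_lit 3, nat_lit 4, nat_lit 5, nat_lit 3, nat_lit 8, nat_lit 4, nat_lit 3, nat_lit 2, nat_lit 0, nat_lit 1, nat_lit 9, nat_lit 4, nat_lit 3, nat_lit 2, nat_lit 8, nat_lit 3, nat_lit 11, nat_lit 2, nat_lit 8, nat_lit 10, nat_lit 1, nat_lit 15, nat_lit 14, nat_lit 8, nat_lit 18] (nat_lit 18) (nat_lit 2) [nat_lit 980, nat_lit 981, nat_lit 973, nat_lit 888] []))) (FT.leaf (Fct.mk true (nat_lit 18) (nat_lit 17175) (nat_lit 15) [nat_lit 2, nat_lit 3, nat_lit 4, nat_lit 1, nat_lit 2, nat_lit 3, nat_lit 8, nat_lit 6, nat_lit 7, nat_lit 5, nat_lit 6, nat_lit 4, nat_lit 5, nat_lit 3, nat_lit 4, nat_lit 2, nat_lit 3, nat_lit 8, nat_lit 1, nat_lit 2, nat_lit 3, nat_lit 4, nat_lit 5, nat_lit 6, nat_lit 7, nat_lit 2, nat_lit 1, nat_lit 4, nat_lit 3, nat_lit 2, nat_lit 8, nat_lit 3, nat_lit 10, nat_lit 1, nat_lit 8, nat_lit 12, nat_lit 15,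 nat_lit 14, nat_lit 12, nat_lit 18] (Rl.inv (nat_lit 994)))))) (FT.node (nat_lit 998) (FT.node (nat_lit 997) (FT.leaf (Fct.mk true (nat_lit 18) (nat_lit 87) (nat_lit 15) [nat_lit 5, nat_lit 2, nat_lit 3, nat_lit 4, nat_lit 1, nat_lit 2, nat_lit 3, nat_lit 8, nat_lit 0, nat_lit 1, nat_lit 2, nat_lit 3, nat_lit 4, nat_lit 5, nat_lit 6, nat_lit 7, nat_lit 3, nat_lit 4, nat_lit 2, nat_lit 3, nat_lit 8, nat_lit 5, nat_lit 6, nat_lit 4, nat_lit 5, nat_lit 3, nat_lit 4, nat_lit 2, nat_lit 3, nat_lit 8, nat_lit 1, nat_lit 2, nat_lit 3, nat_lit 4, nat_lit 5, nat_lit 8, nat_lit 3, nat_lit 2, nat_lit 1, nat_lit 9, nat_lit 4, nat_lit 3, nat_lit 2, nat_lit 8, nat_lit 3, nat_lit 8, nat_lit 10, nat_lit 1, nat_lit 8, nat_lit 12, nat_lit 15, nat_lit 14, nat_lit 17, nat_lit 12, nat_lit 19, nat_lit 16] (Rl.t1 (nat_lit 995) (nat_lit 993)))) (FT.leaf (Fct.mk false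 (nat_lit 1) (nat_lit 0) (nat_lit 1) [nat_lit 3, nat_lit 4, nat_lit 5, nat_lit 4, nat_lit 1, nat_lit 16, nat_lit 14, nat_lit 16] (Rl.cmp (nat_lit 15) (nat_lit 989))))) (FT.node (nat_lit 999) (FT.leaf (Fct.mk false (nat_lit 1) (nat_lit 0) (nat_lit 1) [nat_lit 2, nat_lit 3, nat_lit 4, nat_lit 5, nat_lit 4, nat_lit 2, nat_lit 16, nat_lit 14, nat_lit 16] (Rl.cmp (nat_lit 19) (nat_lit 997)))) (FT.leaf (Fct.mk false (nat_lit 1) (nat_lit 0) (nat_lit 1) [nat_lit 3, nat_lit 4, nat_lit 5, nat_lit 6, nat_lit 7, nat_lit 2, nat_lit 3, nat_lit 4, nat_lit 5, nat_lit 4, nat_lit 2, nat_lit 16, nat_lit 14, nat_lit 16] (Rl.cmp (nat_lit 27) (nat_lit 998)))))))))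

/-- some facts -/
noncomputable def ftc20 : FT := FT.node (nat_lit 1025) (FT.node (nat_lit 1012) (FT.node (nat_lit 1006) (FT.node (nat_lit 1003) (FT.node (nat_lit 1001) (FT.leaf (Fct.mk false (nat_lit 1) (nat_lit 0) (nat_lit 1) [nat_lit 2, nat_lit 3, nat_lit 4, nat_lit 5, nat_lit 6, nat_lit 7, nat_lit 1, nat_lit 2, nat_lit 3, nat_lit 4, nat_lit 5, nat_lit 4, nat_lit 1, nat_lit 0, nat_lit 2, nat_lit 16, nat_lit 14, nat_lit 16] (Rl.cmp (nat_lit 23) (nat_lit 999)))) (FT.node (nat_lit 1002) (FT.leaf (Fct.mk false (nat_lit 1) (nat_lit 0) (nat_lit 1) [nat_lit 2, nat_lit 3, nat_lit 2, nat_lit 12] (Rl.cmp (nat_lit 13) (nat_lit 621)))) (FT.leaf (Fct.mk true (nat_lit 17) (nat_lit 23266) (nat_lit 18) [nat_lit 1, nat_lit 2, nat_lit 0, nat_lit 1, nat_lit 4, nat_lit 3, nat_lit 2, nat_lit 8, nat_lit 3, nat_lit 8, nat_lit 10, nat_lit 8, nat_lit 12, nat_lit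 15, nat_lit 14] (Rl.rel (nat_lit 0) [nat_lit 3, nat_lit 4, nat_lit 5, nat_lit 2, nat_lit 3, nat_lit 4, nat_lit 1, nat_lit 2, nat_lit 3, nat_lit 8, nat_lit 0, nat_lit 1, nat_lit 2, nat_lit 3, nat_lit 4, nat_lit 5, nat_lit 6, nat_lit 7, nat_lit 5, nat_lit 4, nat_lit 3, nat_lit 8, nat_lit 1, nat_lit 2, nat_lit 3, nat_lit 4, nat_lit 5, nat_lit 2, nat_lit 1, nat_lit 9, nat_lit 4, nat_lit 3, nat_lit 2, nat_lit 8, nat_lit 3, nat_lit 1, nat_lit 16, nat_lit 8, nat_lit 19, nat_lit 16] (nat_lit 18) (nat_lit 2) [nat_lit 980, nat_lit 981, nat_lit 948] []))))) (FT.node (nat_lit 1004) (FT.leaf (Fct.mk false (nat_lit 1) (nat_lit 0) (nat_lit 1) [nat_lit 1, nat_lit 2, nat_lit 3, nat_lit 4, nat_lit 5, nat_lit 6, nat_lit 7, nat_lit 4, nat_lit 12, nat_lit 15, nat_lit 14] (Rl.cmp (nat_lit 21) (nat_lit 605)))) (FT.node (nat_lit 1005) (FT.leaf (Fct.mk false (nat_lit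 1) (nat_lit 0) (nat_lit 1) [nat_lit 1, nat_lit 2, nat_lit 3, nat_lit 4, nat_lit 5, nat_lit 6, nat_lit 7, nat_lit 2, nat_lit 3, nat_lit 12, nat_lit 15, nat_lit 14] (Rl.cmp (nat_lit 21) (nat_lit 1003)))) (FT.leaf (Fct.mk true (nat_lit 1) (nat_lit 23480) (nat_lit 19) [] (Rl.df)))))) (FT.node (nat_lit 1009) (FT.node (nat_lit 1007) (FT.leaf (Fct.mk true (nat_lit 19) (nat_lit 23480) (nat_lit 1) [] (Rl.inv (nat_lit 1005)))) (FT.node (nat_lit 1008) (FT.leaf (Fct.mk true (nat_lit 16) (nat_lit 48973) (nat_lit 19) [nat_lit 4, nat_lit 2, nat_lit 3, nat_lit 8, nat_lit 7, nat_lit 5, nat_lit 6, nat_lit 4, nat_lit 5, nat_lit 3, nat_lit 4, nat_lit 2, nat_lit 3, nat_lit 8, nat_lit 0, nat_lit 1, nat_lit 2, nat_lit 3, nat_lit 4, nat_lit 5, nat_lit 6, nat_lit 7, nat_lit 9, nat_lit 4, nat_lit 11, nat_lit 2, nat_lit 10, nat_lit 1, nat_lit 12, nat_lit 8, nat_lit 16,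 nat_lit 14, nat_lit 8, nat_lit 19] (Rl.rel (nat_lit 0) [nat_lit 3, nat_lit 4, nat_lit 2, nat_lit 3, nat_lit 8, nat_lit 1, nat_lit 2, nat_lit 3, nat_lit 4, nat_lit 5, nat_lit 6, nat_lit 7, nat_lit 4, nat_lit 2, nat_lit 3, nat_lit 8, nat_lit 1, nat_lit 2, nat_lit 3, nat_lit 4, nat_lit 5, nat_lit 8, nat_lit 3, nat_lit 2, nat_lit 0, nat_lit 1, nat_lit 9, nat_lit 4, nat_lit 3, nat_lit 2, nat_lit 8, nat_lit 3, nat_lit 10, nat_lit 9, nat_lit 2, nat_lit 14, nat_lit 13, nat_lit 12] (nat_lit 19) (nat_lit 2) [nat_lit 1006, nat_lit 847, nat_lit 906] []))) (FT.leaf (Fct.mk false (nat_lit 1) (nat_lit 0) (nat_lit 1) [nat_lit 1, nat_lit 2, nat_lit 3, nat_lit 4, nat_lit 5, nat_lit 6, nat_lit 7, nat_lit 6, nat_lit 0, nat_lit 1, nat_lit 2, nat_lit 3, nat_lit 11, nat_lit 1, nat_lit 16, nat_lit 12, nat_lit 15, nat_lit 14, nat_lit 13] (Rl.cmp (nat_lit 27) (nat_lit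 991)))))) (FT.node (nat_lit 1010) (FT.leaf (Fct.mk false (nat_lit 1) (nat_lit 0) (nat_lit 1) [nat_lit 1, nat_lit 2, nat_lit 3, nat_lit 4, nat_lit 5, nat_lit 6, nat_lit 7, nat_lit 2, nat_lit 3, nat_lit 4, nat_lit 5, nat_lit 0, nat_lit 1, nat_lit 2, nat_lit 3, nat_lit 11, nat_lit 1, nat_lit 16, nat_lit 12, nat_lit 15, nat_lit 14, nat_lit 13] (Rl.cmp (nat_lit 27) (nat_lit 1008)))) (FT.node (nat_lit 1011) (FT.leaf (Fct.mk false (nat_lit 19) (nat_lit 0) (nat_lit 19) [nat_lit 7, nat_lit 2, nat_lit 15] (Rl.rel (nat_lit 0) [nat_lit 3, nat_lit 4, nat_lit 2, nat_lit 3, nat_lit 8, nat_lit 1, nat_lit 2, nat_lit 3, nat_lit 4, nat_lit 5, nat_lit 6, nat_lit 7, nat_lit 4, nat_lit 2, nat_lit 3, nat_lit 8, nat_lit 1, nat_lit 2, nat_lit 3, nat_lit 4, nat_lit 5, nat_lit 8, nat_lit 3, nat_lit 2, nat_lit 0, nat_lit 1, nat_lit 9, nat_lit 4, nat_lit 3, nat_lit 2,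 nat_lit 8, nat_lit 3, nat_lit 10, nat_lit 9, nat_lit 2, nat_lit 16, nat_lit 14, nat_lit 13, nat_lit 12] (nat_lit 19) (nat_lit 3) [nat_lit 1006, nat_lit 1009, nat_lit 906, nat_lit 947, nat_lit 1007] []))) (FT.leaf (Fct.mk false (nat_lit 1) (nat_lit 0) (nat_lit 1) [nat_lit 1, nat_lit 2, nat_lit 3, nat_lit 4, nat_lit 5, nat_lit 6, nat_lit 7, nat_lit 6, nat_lit 4, nat_lit 1, nat_lit 16, nat_lit 12, nat_lit 15, nat_lit 14, nat_lit 16] (Rl.cmp (nat_lit 27) (nat_lit 576)))))))) (FT.node (nat_lit 1018) (FT.node (nat_lit 1015) (FT.node (nat_lit 1013) (FT.leaf (Fct.mk false (nat_lit 1) (nat_lit 0) (nat_lit 1) [nat_lit 1, nat_lit 2, nat_lit 3, nat_lit 4, nat_lit 5, nat_lit 6, nat_lit 7, nat_lit 2, nat_lit 3, nat_lit 4, nat_lit 5, nat_lit 4, nat_lit 1, nat_lit 16, nat_lit 12, nat_lit 15, nat_lit 14, nat_lit 16] (Rl.cmp (nat_lit 27) (nat_lit 1011)))) (FT.node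 (nat_lit 1014) (FT.leaf (Fct.mk false (nat_lit 19) (nat_lit 0) (nat_lit 19) [nat_lit 6] (Rl.rel (nat_lit 0) [nat_lit 3, nat_lit 4, nat_lit 2, nat_lit 3, nat_lit 8, nat_lit 1, nat_lit 2, nat_lit 3, nat_lit 4, nat_lit 5, nat_lit 6, nat_lit 7, nat_lit 4, nat_lit 3, nat_lit 8, nat_lit 2, nat_lit 3, nat_lit 4, nat_lit 5, nat_lit 3, nat_lit 2, nat_lit 0, nat_lit 1, nat_lit 9, nat_lit 4, nat_lit 3, nat_lit 2, nat_lit 8, nat_lit 3, nat_lit 10, nat_lit 9, nat_lit 2, nat_lit 14, nat_lit 13, nat_lit 12] (nat_lit 19) (nat_lit 3) [nat_lit 1006, nat_lit 1012, nat_lit 906, nat_lit 1007] []))) (FT.leaf (Fct.mk false (nat_lit 1) (nat_lit 0) (nat_lit 1) [nat_lit 3, nat_lit 4, nat_lit 5, nat_lit 6, nat_lit 7, nat_lit 3, nat_lit 2, nat_lit 10, nat_lit 1] (Rl.cmp (nat_lit 27) (nat_lit 629)))))) (FT.node (nat_lit 1016) (FT.leaf (Fct.mk false (nat_lit 1) (nat_lit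 0) (nat_lit 1) [nat_lit 2, nat_lit 3, nat_lit 4, nat_lit 5, nat_lit 6, nat_lit 7, nat_lit 2, nat_lit 3, nat_lit 2, nat_lit 10, nat_lit 1, nat_lit 12, nat_lit 15] (Rl.cmp (nat_lit 23) (nat_lit 1014)))) (FT.node (nat_lit 1017) (FT.leaf (Fct.mk false (nat_lit 1) (nat_lit 0) (nat_lit 1) [nat_lit 2, nat_lit 3, nat_lit 4, nat_lit 5, nat_lit 6, nat_lit 7, nat_lit 6, nat_lit 3, nat_lit 10, nat_lit 1, nat_lit 12, nat_lit 15, nat_lit 14, nat_lit 16] (Rl.cmp (nat_lit 27) (nat_lit 1015)))) (FT.leaf (Fct.mk false (nat_lit 1) (nat_lit 0) (nat_lit 1) [nat_lit 2, nat_lit 3, nat_lit 4, nat_lit 5, nat_lit 6, nat_lit 7, nat_lit 2, nat_lit 3, nat_lit 4, nat_lit 5, nat_lit 3, nat_lit 10, nat_lit 1, nat_lit 12, nat_lit 15, nat_lit 14, nat_lit 16] (Rl.cmp (nat_lit 27) (nat_lit 1016))))))) (FT.node (nat_lit 1021) (FT.node (nat_lit 1019) (FT.leaf (Fct.mk false (nat_lit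 1) (nat_lit 0) (nat_lit 1) [nat_lit 1, nat_lit 2, nat_lit 3, nat_lit 4, nat_lit 5, nat_lit 6, nat_lit 7, nat_lit 1, nat_lit 2, nat_lit 3, nat_lit 4, nat_lit 5, nat_lit 3, nat_lit 10, nat_lit 12, nat_lit 15, nat_lit 14, nat_lit 12, nat_lit 16] (Rl.cmp (nat_lit 23) (nat_lit 1017)))) (FT.node (nat_lit 1020) (FT.leaf (Fct.mk false (nat_lit 1) (nat_lit 0) (nat_lit 1) [nat_lit 1, nat_lit 2, nat_lit 3, nat_lit 4, nat_lit 5, nat_lit 6, nat_lit 7, nat_lit 1, nat_lit 2, nat_lit 3, nat_lit 4, nat_lit 5, nat_lit 2, nat_lit 16, nat_lit 12, nat_lit 15, nat_lit 14, nat_lit 12] (Rl.cmp (nat_lit 27) (nat_lit 1018)))) (FT.leaf (Fct.mk false (nat_lit 19) (nat_lit 0) (nat_lit 19) [nat_lit 1, nat_lit 0, nat_lit 2, nat_lit 15, nat_lit 14] (Rl.rel (nat_lit 0) [nat_lit 3, nat_lit 4, nat_lit 2, nat_lit 3, nat_lit 8, nat_lit 1, nat_lit 2, nat_lit 3, nat_lit 4, nat_lit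 5, nat_lit 6, nat_lit 7, nat_lit 4, nat_lit 2, nat_lit 3, nat_lit 8, nat_lit 1, nat_lit 2, nat_lit 3, nat_lit 4, nat_lit 5, nat_lit 8, nat_lit 3, nat_lit 2, nat_lit 0, nat_lit 1, nat_lit 9, nat_lit 4, nat_lit 3, nat_lit 2, nat_lit 8, nat_lit 3, nat_lit 9, nat_lit 14, nat_lit 13, nat_lit 12] (nat_lit 19) (nat_lit 3) [nat_lit 1006, nat_lit 1019, nat_lit 906, nat_lit 946, nat_lit 1007] []))))) (FT.node (nat_lit 1023) (FT.node (nat_lit 1022) (FT.leaf (Fct.mk true (nat_lit 19) (nat_lit 49113) (nat_lit 19) [nat_lit 1, nat_lit 0, nat_lit 2, nat_lit 15, nat_lit 14] (Rl.rel (nat_lit 0) [nat_lit 3, nat_lit 8, nat_lit 4, nat_lit 5, nat_lit 3, nat_lit 4, nat_lit 2, nat_lit 3, nat_lit 8, nat_lit 1, nat_lit 2, nat_lit 3, nat_lit 4, nat_lit 5, nat_lit 6, nat_lit 7, nat_lit 5, nat_lit 4, nat_lit 3, nat_lit 8, nat_lit 1, nat_lit 2, nat_lit 3, nat_lit 4, nat_lit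 5, nat_lit 8, nat_lit 3, nat_lit 2, nat_lit 0, nat_lit 1, nat_lit 4, nat_lit 3, nat_lit 2, nat_lit 8, nat_lit 3, nat_lit 10, nat_lit 9, nat_lit 2, nat_lit 13, nat_lit 12] (nat_lit 19) (nat_lit 2) [nat_lit 1006, nat_lit 977, nat_lit 1005] []))) (FT.leaf (Fct.mk false (nat_lit 19) (nat_lit 0) (nat_lit 19) [nat_lit 7, nat_lit 4, nat_lit 15] (Rl.rel (nat_lit 0) [nat_lit 3, nat_lit 8, nat_lit 4, nat_lit 5, nat_lit 3, nat_lit 4, nat_lit 2, nat_lit 3, nat_lit 8, nat_lit 1, nat_lit 2, nat_lit 3, nat_lit 4, nat_lit 5, nat_lit 6, nat_lit 7, nat_lit 5, nat_lit 4, nat_lit 3, nat_lit 8, nat_lit 1, nat_lit 2, nat_lit 3, nat_lit 4, nat_lit 5, nat_lit 8, nat_lit 3, nat_lit 2, nat_lit 0, nat_lit 1, nat_lit 4, nat_lit 3, nat_lit 2, nat_lit 8, nat_lit 3, nat_lit 10, nat_lit 9, nat_lit 2, nat_lit 16, nat_lit 14, nat_lit 13] (nat_lit 19) (nat_lit 2) [nat_lit 1006,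 nat_lit 1001, nat_lit 1005] [nat_lit 1010, nat_lit 1021])))) (FT.node (nat_lit 1024) (FT.leaf (Fct.mk false (nat_lit 1) (nat_lit 0) (nat_lit 1) [nat_lit 1, nat_lit 2, nat_lit 3, nat_lit 4, nat_lit 5, nat_lit 6, nat_lit 7, nat_lit 6, nat_lit 3, nat_lit 9, nat_lit 2, nat_lit 16, nat_lit 12, nat_lit 15, nat_lit 14] (Rl.cmp (nat_lit 27) (nat_lit 1004)))) (FT.leaf (Fct.mk false (nat_lit 1) (nat_lit 0) (nat_lit 1) [nat_lit 1, nat_lit 2, nat_lit 3, nat_lit 4, nat_lit 5, nat_lit 6, nat_lit 7, nat_lit 2, nat_lit 3, nat_lit 4, nat_lit 5, nat_lit 3, nat_lit 9, nat_lit 2, nat_lit 16, nat_lit 12, nat_lit 15, nat_lit 14] (Rl.cmp (nat_lit 27) (nat_lit 1023))))))))) (FT.node (nat_lit 1037) (FT.node (nat_lit 1031) (FT.node (nat_lit 1028) (FT.node (nat_lit 1026) (FT.leaf (Fct.mk true (nat_lit 15) (nat_lit 57799) (nat_lit 19) [nat_lit 0, nat_lit 1, nat_lit 2,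 nat_lit 3, nat_lit 4, nat_lit 5, nat_lit 6, nat_lit 7, nat_lit 5, nat_lit 4, nat_lit 3, nat_lit 8, nat_lit 0, nat_lit 1, nat_lit 2, nat_lit 3, nat_lit 4, nat_lit 5, nat_lit 3, nat_lit 2, nat_lit 8, nat_lit 3, nat_lit 10, nat_lit 1, nat_lit 16, nat_lit 14, nat_lit 16] (Rl.rel (nat_lit 0) [nat_lit 3, nat_lit 8, nat_lit 4, nat_lit 5, nat_lit 3, nat_lit 4, nat_lit 2, nat_lit 3, nat_lit 8, nat_lit 1, nat_lit 2, nat_lit 3, nat_lit 4, nat_lit 5, nat_lit 6, nat_lit 7, nat_lit 4, nat_lit 5, nat_lit 3, nat_lit 4, nat_lit 2, nat_lit 3, nat_lit 8, nat_lit 1, nat_lit 2, nat_lit 3, nat_lit 4, nat_lit 5, nat_lit 8, nat_lit 3, nat_lit 2, nat_lit 0, nat_lit 1, nat_lit 4, nat_lit 3, nat_lit 2, nat_lit 8, nat_lit 3, nat_lit 10, nat_lit 9, nat_lit 2, nat_lit 14, nat_lit 13, nat_lit 12] (nat_lit 19) (nat_lit 2) [nat_lit 1006, nat_lit 1024, nat_lit 888] []))) (FT.node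 (nat_lit 1027) (FT.leaf (Fct.mk false (nat_lit 1) (nat_lit 0) (nat_lit 1) [nat_lit 6, nat_lit 1, nat_lit 2, nat_lit 3, nat_lit 10, nat_lit 9, nat_lit 2, nat_lit 16] (Rl.cmp (nat_lit 25) (nat_lit 618)))) (FT.leaf (Fct.mk false (nat_lit 1) (nat_lit 0) (nat_lit 1) [nat_lit 6, nat_lit 1, nat_lit 2, nat_lit 3, nat_lit 9, nat_lit 12, nat_lit 16] (Rl.cmp (nat_lit 21) (nat_lit 1026)))))) (FT.node (nat_lit 1029) (FT.leaf (Fct.mk false (nat_lit 1) (nat_lit 0) (nat_lit 1) [nat_lit 6, nat_lit 0, nat_lit 1, nat_lit 2, nat_lit 3, nat_lit 11, nat_lit 14, nat_lit 13, nat_lit 12, nat_lit 16] (Rl.cmp (nat_lit 23) (nat_lit 1027)))) (FT.node (nat_lit 1030) (FT.leaf (Fct.mk false (nat_lit 1) (nat_lit 0) (nat_lit 1) [nat_lit 3, nat_lit 4, nat_lit 5, nat_lit 0, nat_lit 1, nat_lit 2, nat_lit 3, nat_lit 11, nat_lit 14, nat_lit 13, nat_lit 12, nat_lit 16] (Rl.cmp (nat_lit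 25) (nat_lit 1028)))) (FT.leaf (Fct.mk false (nat_lit 19) (nat_lit 0) (nat_lit 19) [nat_lit 4, nat_lit 1, nat_lit 0, nat_lit 2, nat_lit 15, nat_lit 14] (Rl.cmp (nat_lit 1022) (nat_lit 1010))))))) (FT.node (nat_lit 1034) (FT.node (nat_lit 1032) (FT.leaf (Fct.mk true (nat_lit 16) (nat_lit 112267) (nat_lit 19) [nat_lit 3, nat_lit 8, nat_lit 4, nat_lit 5, nat_lit 3, nat_lit 4, nat_lit 2, nat_lit 3, nat_lit 8, nat_lit 0, nat_lit 1, nat_lit 2, nat_lit 3, nat_lit 4, nat_lit 5, nat_lit 9, nat_lit 4, nat_lit 11, nat_lit 10, nat_lit 8, nat_lit 16, nat_lit 14, nat_lit 17] (Rl.rel (nat_lit 0) [nat_lit 3, nat_lit 8, nat_lit 4, nat_lit 5, nat_lit 3, nat_lit 4, nat_lit 2, nat_lit 3, nat_lit 8, nat_lit 1, nat_lit 2, nat_lit 3, nat_lit 4, nat_lit 5, nat_lit 6, nat_lit 7, nat_lit 8, nat_lit 4, nat_lit 5, nat_lit 3, nat_lit 4, nat_lit 2, nat_lit 3, nat_lit 8,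 nat_lit 1, nat_lit 2, nat_lit 3, nat_lit 4, nat_lit 5, nat_lit 0, nat_lit 1, nat_lit 4, nat_lit 3, nat_lit 2, nat_lit 8, nat_lit 3, nat_lit 10, nat_lit 9, nat_lit 2, nat_lit 14, nat_lit 13, nat_lit 12] (nat_lit 19) (nat_lit 2) [nat_lit 1006, nat_lit 1029, nat_lit 906] []))) (FT.node (nat_lit 1033) (FT.leaf (Fct.mk true (nat_lit 19) (nat_lit 57820) (nat_lit 16) [nat_lit 4, nat_lit 3, nat_lit 8, nat_lit 5, nat_lit 6, nat_lit 4, nat_lit 5, nat_lit 3, nat_lit 4, nat_lit 2, nat_lit 3, nat_lit 8, nat_lit 0, nat_lit 1, nat_lit 2, nat_lit 3, nat_lit 4, nat_lit 5, nat_lit 8, nat_lit 3, nat_lit 2, nat_lit 1, nat_lit 4, nat_lit 3, nat_lit 2, nat_lit 8, nat_lit 3, nat_lit 10, nat_lit 0, nat_lit 12, nat_lit 15, nat_lit 18] (Rl.inv (nat_lit 1031)))) (FT.leaf (Fct.mk true (nat_lit 19) (nat_lit 39554) (nat_lit 16) [nat_lit 1, nat_lit 2, nat_lit 3, nat_lit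 8, nat_lit 5, nat_lit 6, nat_lit 4, nat_lit 5, nat_lit 3, nat_lit 4, nat_lit 2, nat_lit 3, nat_lit 8, nat_lit 1, nat_lit 2, nat_lit 3, nat_lit 4, nat_lit 5, nat_lit 0, nat_lit 1, nat_lit 2, nat_lit 8, nat_lit 3, nat_lit 8, nat_lit 10, nat_lit 15, nat_lit 14] (Rl.t1 (nat_lit 1032) (nat_lit 1030)))))) (FT.node (nat_lit 1035) (FT.leaf (Fct.mk false (nat_lit 1) (nat_lit 0) (nat_lit 1) [nat_lit 2, nat_lit 3, nat_lit 4, nat_lit 5, nat_lit 6, nat_lit 7, nat_lit 2, nat_lit 3, nat_lit 15, nat_lit 14] (Rl.cmp (nat_lit 23) (nat_lit 433)))) (FT.node (nat_lit 1036) (FT.leaf (Fct.mk false (nat_lit 1) (nat_lit 0) (nat_lit 1) [nat_lit 2, nat_lit 3, nat_lit 4, nat_lit 5, nat_lit 6, nat_lit 7, nat_lit 3, nat_lit 10, nat_lit 12, nat_lit 15, nat_lit 14] (Rl.cmp (nat_lit 21) (nat_lit 1034)))) (FT.leaf (Fct.mk false (nat_lit 1) (nat_lit 0) (nat_lit 1) [nat_lit 1,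 nat_lit 2, nat_lit 3, nat_lit 4, nat_lit 5, nat_lit 6, nat_lit 7, nat_lit 2, nat_lit 3, nat_lit 10, nat_lit 1, nat_lit 12, nat_lit 15, nat_lit 14] (Rl.cmp (nat_lit 19) (nat_lit 1035)))))))) (FT.node (nat_lit 1043) (FT.node (nat_lit 1040) (FT.node (nat_lit 1038) (FT.leaf (Fct.mk false (nat_lit 1) (nat_lit 0) (nat_lit 1) [nat_lit 1, nat_lit 2, nat_lit 3, nat_lit 4, nat_lit 5, nat_lit 6, nat_lit 7, nat_lit 6, nat_lit 3, nat_lit 1, nat_lit 16, nat_lit 12, nat_lit 15, nat_lit 14, nat_lit 16] (Rl.cmp (nat_lit 27) (nat_lit 1036)))) (FT.node (nat_lit 1039) (FT.leaf (Fct.mk false (nat_lit 1) (nat_lit 0) (nat_lit 1) [nat_lit 1, nat_lit 2, nat_lit 3, nat_lit 4, nat_lit 5, nat_lit 6, nat_lit 7, nat_lit 2, nat_lit 3, nat_lit 4, nat_lit 5, nat_lit 3, nat_lit 1, nat_lit 16, nat_lit 12, nat_lit 15, nat_lit 14, nat_lit 16] (Rl.cmp (nat_lit 27) (nat_lit 1037))))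 (FT.leaf (Fct.mk true (nat_lit 13) (nat_lit 48270) (nat_lit 19) [nat_lit 3, nat_lit 8, nat_lit 4, nat_lit 5, nat_lit 3, nat_lit 4, nat_lit 2, nat_lit 3, nat_lit 8, nat_lit 6, nat_lit 7, nat_lit 5, nat_lit 6, nat_lit 4, nat_lit 5, nat_lit 3, nat_lit 4, nat_lit 2, nat_lit 3, nat_lit 8, nat_lit 1, nat_lit 2, nat_lit 3, nat_lit 4, nat_lit 5, nat_lit 6, nat_lit 7, nat_lit 6, nat_lit 2, nat_lit 3, nat_lit 8, nat_lit 4, nat_lit 3, nat_lit 2, nat_lit 1, nat_lit 9, nat_lit 4, nat_lit 3, nat_lit 2, nat_lit 8, nat_lit 3, nat_lit 11, nat_lit 10, nat_lit 2, nat_lit 8, nat_lit 10, nat_lit 1, nat_lit 15, nat_lit 14, nat_lit 18] (Rl.rel (nat_lit 0) [nat_lit 8, nat_lit 3, nat_lit 4, nat_lit 2, nat_lit 3, nat_lit 8, nat_lit 5, nat_lit 6, nat_lit 4, nat_lit 5, nat_lit 3, nat_lit 4, nat_lit 2, nat_lit 3, nat_lit 8, nat_lit 1, nat_lit 2, nat_lit 3, nat_lit 4, nat_lit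 5, nat_lit 6, nat_lit 7, nat_lit 8, nat_lit 6, nat_lit 5, nat_lit 3, nat_lit 4, nat_lit 2, nat_lit 3, nat_lit 8, nat_lit 1, nat_lit 2, nat_lit 3, nat_lit 4, nat_lit 5, nat_lit 8, nat_lit 3, nat_lit 2, nat_lit 0, nat_lit 1, nat_lit 9, nat_lit 4, nat_lit 3, nat_lit 2, nat_lit 8, nat_lit 3, nat_lit 10, nat_lit 9, nat_lit 2, nat_lit 14, nat_lit 13, nat_lit 12] (nat_lit 19) (nat_lit 2) [nat_lit 1006, nat_lit 1038, nat_lit 808] []))))) (FT.node (nat_lit 1041) (FT.leaf (Fct.mk true (nat_lit 1) (nat_lit 39669) (nat_lit 21) [] (Rl.df))) (FT.node (nat_lit 1042) (FT.leaf (Fct.mk true (nat_lit 21) (nat_lit 39669) (nat_lit 1) [] (Rl.inv (nat_lit 1040)))) (FT.leaf (Fct.mk false (nat_lit 1) (nat_lit 0) (nat_lit 1) [nat_lit 2, nat_lit 3, nat_lit 4, nat_lit 5, nat_lit 3, nat_lit 10, nat_lit 12, nat_lit 15, nat_lit 14] (Rl.cmp (nat_lit 21) (nat_lit 683)))))))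 (FT.node (nat_lit 1046) (FT.node (nat_lit 1044) (FT.leaf (Fct.mk false (nat_lit 1) (nat_lit 0) (nat_lit 1) [nat_lit 2, nat_lit 3, nat_lit 4, nat_lit 5, nat_lit 2, nat_lit 16, nat_lit 12, nat_lit 15, nat_lit 14] (Rl.cmp (nat_lit 25) (nat_lit 1042)))) (FT.node (nat_lit 1045) (FT.leaf (Fct.mk false (nat_lit 1) (nat_lit 0) (nat_lit 1) [nat_lit 1, nat_lit 2, nat_lit 3, nat_lit 4, nat_lit 5, nat_lit 16, nat_lit 12, nat_lit 15, nat_lit 14, nat_lit 16] (Rl.cmp (nat_lit 19) (nat_lit 1043)))) (FT.leaf (Fct.mk false (nat_lit 1) (nat_lit 0) (nat_lit 1) [nat_lit 3, nat_lit 4, nat_lit 5, nat_lit 6, nat_lit 7, nat_lit 1, nat_lit 2, nat_lit 3, nat_lit 4, nat_lit 5, nat_lit 16, nat_lit 12, nat_lit 15, nat_lit 14, nat_lit 16] (Rl.cmp (nat_lit 27) (nat_lit 1044)))))) (FT.node (nat_lit 1048) (FT.node (nat_lit 1047) (FT.leaf (Fct.mk false (nat_lit 1) (nat_lit 0)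 (nat_lit 1) [nat_lit 2, nat_lit 3, nat_lit 4, nat_lit 5, nat_lit 6, nat_lit 7, nat_lit 0, nat_lit 1, nat_lit 2, nat_lit 3, nat_lit 4, nat_lit 5, nat_lit 0, nat_lit 16, nat_lit 12, nat_lit 15, nat_lit 14, nat_lit 12, nat_lit 16] (Rl.cmp (nat_lit 23) (nat_lit 1045)))) (FT.leaf (Fct.mk true (nat_lit 17) (nat_lit 111523) (nat_lit 21) [nat_lit 5, nat_lit 2, nat_lit 3, nat_lit 4, nat_lit 1, nat_lit 2, nat_lit 3, nat_lit 8, nat_lit 6, nat_lit 7, nat_lit 5, nat_lit 6, nat_lit 4, nat_lit 5, nat_lit 3, nat_lit 4, nat_lit 2, nat_lit 3, nat_lit 8, nat_lit 1, nat_lit 2, nat_lit 3, nat_lit 4, nat_lit 5, nat_lit 6, nat_lit 7, nat_lit 3, nat_lit 4, nat_lit 2, nat_lit 3, nat_lit 8, nat_lit 1, nat_lit 2, nat_lit 3, nat_lit 4, nat_lit 5, nat_lit 4, nat_lit 10, nat_lit 0, nat_lit 12, nat_lit 15, nat_lit 14, nat_lit 18, nat_lit 16] (Rl.rel (nat_lit 0) [nat_lit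 8, nat_lit 4, nat_lit 5, nat_lit 2, nat_lit 3, nat_lit 4, nat_lit 1, nat_lit 2, nat_lit 3, nat_lit 8, nat_lit 0, nat_lit 1, nat_lit 2, nat_lit 3, nat_lit 4, nat_lit 5, nat_lit 6, nat_lit 7, nat_lit 8, nat_lit 3, nat_lit 4, nat_lit 2, nat_lit 3, nat_lit 8, nat_lit 5, nat_lit 6, nat_lit 4, nat_lit 5, nat_lit 3, nat_lit 4, nat_lit 2, nat_lit 3, nat_lit 8, nat_lit 1, nat_lit 2, nat_lit 3, nat_lit 4, nat_lit 5, nat_lit 8, nat_lit 3, nat_lit 2, nat_lit 1, nat_lit 9, nat_lit 4, nat_lit 3, nat_lit 2, nat_lit 8, nat_lit 3, nat_lit 11, nat_lit 8, nat_lit 10, nat_lit 1, nat_lit 8, nat_lit 12, nat_lit 15, nat_lit 14, nat_lit 18] (nat_lit 21) (nat_lit 2) [nat_lit 1041, nat_lit 1046, nat_lit 948] [])))) (FT.node (nat_lit 1049) (FT.leaf (Fct.mk true (nat_lit 17) (nat_lit 76370) (nat_lit 21) [nat_lit 4, nat_lit 5, nat_lit 3, nat_lit 4, nat_lit 1, nat_lit 2,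 nat_lit 3, nat_lit 8, nat_lit 6, nat_lit 7, nat_lit 5, nat_lit 6, nat_lit 4, nat_lit 5, nat_lit 3, nat_lit 4, nat_lit 2, nat_lit 3, nat_lit 8, nat_lit 1, nat_lit 2, nat_lit 3, nat_lit 4, nat_lit 5, nat_lit 6, nat_lit 7, nat_lit 3, nat_lit 4, nat_lit 2, nat_lit 3, nat_lit 8, nat_lit 1, nat_lit 2, nat_lit 3, nat_lit 4, nat_lit 5, nat_lit 9, nat_lit 4, nat_lit 0, nat_lit 12, nat_lit 15, nat_lit 14, nat_lit 18, nat_lit 16] (Rl.t1 (nat_lit 1047) (nat_lit 967)))) (FT.leaf (Fct.mk false (nat_lit 1) (nat_lit 0) (nat_lit 1) [nat_lit 0, nat_lit 1, nat_lit 2, nat_lit 3, nat_lit 4, nat_lit 5, nat_lit 0, nat_lit 2, nat_lit 16, nat_lit 12, nat_lit 15, nat_lit 14, nat_lit 12, nat_lit 16] (Rl.cmp (nat_lit 23) (nat_lit 1044)))))))))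

/-- some facts -/
noncomputable def ftc21 : FT := FT.node (nat_lit 1075) (FT.node (nat_lit 1062) (FT.node (nat_lit 1056) (FT.node (nat_lit 1053) (FT.node (nat_lit 1051) (FT.leaf (Fct.mk false (nat_lit 1) (nat_lit 0) (nat_lit 1) [nat_lit 3, nat_lit 4, nat_lit 5, nat_lit 6, nat_lit 7, nat_lit 0, nat_lit 1, nat_lit 2, nat_lit 3, nat_lit 4, nat_lit 5, nat_lit 0, nat_lit 2, nat_lit 16, nat_lit 12, nat_lit 15, nat_lit 14, nat_lit 12, nat_lit 16] (Rl.cmp (nat_lit 27) (nat_lit 1049)))) (FT.node (nat_lit 1052) (FT.leaf (Fct.mk false (nat_lit 21) (nat_lit 0) (nat_lit 21) [nat_lit 0, nat_lit 2, nat_lit 14] (Rl.rel (nat_lit 0) [nat_lit 8, nat_lit 4, nat_lit 5, nat_lit 2, nat_lit 3, nat_lit 4, nat_lit 1, nat_lit 2, nat_lit 3, nat_lit 8, nat_lit 0, nat_lit 1, nat_lit 2, nat_lit 3, nat_lit 4, nat_lit 5, nat_lit 6, nat_lit 7, nat_lit 8, nat_lit 3, nat_lit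 4, nat_lit 2, nat_lit 3, nat_lit 8, nat_lit 5, nat_lit 6, nat_lit 4, nat_lit 5, nat_lit 3, nat_lit 4, nat_lit 2, nat_lit 3, nat_lit 8, nat_lit 1, nat_lit 2, nat_lit 3, nat_lit 4, nat_lit 5, nat_lit 8, nat_lit 3, nat_lit 2, nat_lit 1, nat_lit 9, nat_lit 4, nat_lit 3, nat_lit 2, nat_lit 8, nat_lit 3, nat_lit 11, nat_lit 2, nat_lit 8, nat_lit 10, nat_lit 1, nat_lit 8, nat_lit 12, nat_lit 15, nat_lit 14, nat_lit 18] (nat_lit 21) (nat_lit 3) [nat_lit 1041, nat_lit 1050, nat_lit 948, nat_lit 953, nat_lit 1048] []))) (FT.leaf (Fct.mk false (nat_lit 21) (nat_lit 0) (nat_lit 21) [nat_lit 5, nat_lit 1, nat_lit 2, nat_lit 3, nat_lit 2] (Rl.rel (nat_lit 0) [nat_lit 8, nat_lit 4, nat_lit 5, nat_lit 2, nat_lit 3, nat_lit 4, nat_lit 1, nat_lit 2, nat_lit 3, nat_lit 8, nat_lit 0, nat_lit 1, nat_lit 2, nat_lit 3, nat_lit 4, nat_lit 5, nat_lit 6, nat_lit 7,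 nat_lit 8, nat_lit 3, nat_lit 4, nat_lit 2, nat_lit 3, nat_lit 8, nat_lit 5, nat_lit 6, nat_lit 4, nat_lit 5, nat_lit 3, nat_lit 4, nat_lit 2, nat_lit 3, nat_lit 8, nat_lit 1, nat_lit 2, nat_lit 3, nat_lit 4, nat_lit 5, nat_lit 3, nat_lit 8, nat_lit 4, nat_lit 3, nat_lit 2, nat_lit 1, nat_lit 9, nat_lit 4, nat_lit 3, nat_lit 2, nat_lit 8, nat_lit 3, nat_lit 11, nat_lit 8, nat_lit 10, nat_lit 1, nat_lit 8, nat_lit 12, nat_lit 15, nat_lit 14, nat_lit 18] (nat_lit 21) (nat_lit 3) [nat_lit 1041, nat_lit 945, nat_lit 948, nat_lit 955, nat_lit 1048] []))))) (FT.node (nat_lit 1054) (FT.leaf (Fct.mk true (nat_lit 16) (nat_lit 83855) (nat_lit 21) [nat_lit 6, nat_lit 5, nat_lit 4, nat_lit 3, nat_lit 8, nat_lit 2, nat_lit 3, nat_lit 4, nat_lit 5, nat_lit 6, nat_lit 7, nat_lit 8, nat_lit 3, nat_lit 4, nat_lit 5, nat_lit 9, nat_lit 2, nat_lit 18, nat_lit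 16] (Rl.rel (nat_lit 0) [nat_lit 8, nat_lit 4, nat_lit 5, nat_lit 2, nat_lit 3, nat_lit 4, nat_lit 1, nat_lit 2, nat_lit 3, nat_lit 8, nat_lit 0, nat_lit 1, nat_lit 2, nat_lit 3, nat_lit 4, nat_lit 5, nat_lit 6, nat_lit 7, nat_lit 2, nat_lit 3, nat_lit 8, nat_lit 5, nat_lit 6, nat_lit 4, nat_lit 5, nat_lit 3, nat_lit 4, nat_lit 2, nat_lit 3, nat_lit 8, nat_lit 1, nat_lit 2, nat_lit 3, nat_lit 4, nat_lit 5, nat_lit 8, nat_lit 3, nat_lit 2, nat_lit 1, nat_lit 9, nat_lit 4, nat_lit 3, nat_lit 2, nat_lit 8, nat_lit 3, nat_lit 11, nat_lit 8, nat_lit 10, nat_lit 1, nat_lit 8, nat_lit 12, nat_lit 15, nat_lit 14, nat_lit 18] (nat_lit 21) (nat_lit 2) [nat_lit 1041, nat_lit 940, nat_lit 906] []))) (FT.node (nat_lit 1055) (FT.leaf (Fct.mk true (nat_lit 19) (nat_lit 129659) (nat_lit 21) [nat_lit 1, nat_lit 2, nat_lit 3, nat_lit 4, nat_lit 5, nat_lit 6,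 nat_lit 7, nat_lit 8, nat_lit 1, nat_lit 2, nat_lit 3, nat_lit 4, nat_lit 5, nat_lit 0, nat_lit 1, nat_lit 2, nat_lit 8, nat_lit 3, nat_lit 11, nat_lit 10, nat_lit 1, nat_lit 12, nat_lit 15, nat_lit 14, nat_lit 13, nat_lit 12] (Rl.rel (nat_lit 0) [nat_lit 5, nat_lit 4, nat_lit 1, nat_lit 2, nat_lit 3, nat_lit 8, nat_lit 0, nat_lit 1, nat_lit 2, nat_lit 3, nat_lit 4, nat_lit 5, nat_lit 6, nat_lit 7, nat_lit 4, nat_lit 3, nat_lit 8, nat_lit 5, nat_lit 6, nat_lit 4, nat_lit 5, nat_lit 3, nat_lit 4, nat_lit 2, nat_lit 3, nat_lit 8, nat_lit 1, nat_lit 2, nat_lit 3, nat_lit 4, nat_lit 5, nat_lit 8, nat_lit 3, nat_lit 2, nat_lit 1, nat_lit 9, nat_lit 4, nat_lit 3, nat_lit 2, nat_lit 8, nat_lit 3, nat_lit 11, nat_lit 8, nat_lit 10, nat_lit 1, nat_lit 8, nat_lit 12, nat_lit 15, nat_lit 14, nat_lit 18] (nat_lit 21) (nat_lit 2) [nat_lit 1041, nat_lit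 1000, nat_lit 1005] []))) (FT.leaf (Fct.mk true (nat_lit 19) (nat_lit 112379) (nat_lit 21) [nat_lit 1, nat_lit 2, nat_lit 3, nat_lit 4, nat_lit 5, nat_lit 6, nat_lit 7, nat_lit 3, nat_lit 8, nat_lit 0, nat_lit 1, nat_lit 2, nat_lit 3, nat_lit 4, nat_lit 5, nat_lit 0, nat_lit 1, nat_lit 2, nat_lit 8, nat_lit 3, nat_lit 11, nat_lit 10, nat_lit 1, nat_lit 16, nat_lit 12, nat_lit 15, nat_lit 14, nat_lit 13, nat_lit 12] (Rl.t1 (nat_lit 1054) (nat_lit 1022))))))) (FT.node (nat_lit 1059) (FT.node (nat_lit 1057) (FT.leaf (Fct.mk false (nat_lit 1) (nat_lit 0) (nat_lit 1) [nat_lit 3, nat_lit 1] (Rl.cmp (nat_lit 15) (nat_lit 598)))) (FT.node (nat_lit 1058) (FT.leaf (Fct.mk false (nat_lit 1) (nat_lit 0) (nat_lit 1) [nat_lit 3, nat_lit 4, nat_lit 5, nat_lit 3, nat_lit 1] (Rl.cmp (nat_lit 21) (nat_lit 1056)))) (FT.leaf (Fct.mk false (nat_lit 1) (nat_lit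 0) (nat_lit 1) [nat_lit 2, nat_lit 3, nat_lit 4, nat_lit 5, nat_lit 2, nat_lit 3, nat_lit 15] (Rl.cmp (nat_lit 23) (nat_lit 1057)))))) (FT.node (nat_lit 1060) (FT.leaf (Fct.mk false (nat_lit 1) (nat_lit 0) (nat_lit 1) [nat_lit 2, nat_lit 3, nat_lit 4, nat_lit 5, nat_lit 3, nat_lit 9, nat_lit 2, nat_lit 15, nat_lit 16] (Rl.cmp (nat_lit 25) (nat_lit 1058)))) (FT.node (nat_lit 1061) (FT.leaf (Fct.mk true (nat_lit 10) (nat_lit 121306) (nat_lit 21) [nat_lit 3, nat_lit 4, nat_lit 5, nat_lit 1, nat_lit 4, nat_lit 3, nat_lit 2, nat_lit 0, nat_lit 1, nat_lit 9, nat_lit 4, nat_lit 3, nat_lit 2, nat_lit 8, nat_lit 3, nat_lit 8, nat_lit 10, nat_lit 1, nat_lit 14, nat_lit 8] (Rl.rel (nat_lit 0) [nat_lit 4, nat_lit 5, nat_lit 6, nat_lit 3, nat_lit 4, nat_lit 5, nat_lit 2, nat_lit 3, nat_lit 4, nat_lit 1, nat_lit 2, nat_lit 3, nat_lit 8, nat_lit 0, nat_lit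 1, nat_lit 2, nat_lit 3, nat_lit 4, nat_lit 5, nat_lit 6, nat_lit 7, nat_lit 2, nat_lit 3, nat_lit 8, nat_lit 6, nat_lit 4, nat_lit 5, nat_lit 3, nat_lit 4, nat_lit 2, nat_lit 3, nat_lit 8, nat_lit 1, nat_lit 2, nat_lit 3, nat_lit 4, nat_lit 5, nat_lit 4, nat_lit 3, nat_lit 2, nat_lit 0, nat_lit 1, nat_lit 9, nat_lit 4, nat_lit 3, nat_lit 2, nat_lit 8, nat_lit 3, nat_lit 1, nat_lit 9, nat_lit 16, nat_lit 8, nat_lit 12, nat_lit 15, nat_lit 12, nat_lit 19, nat_lit 16] (nat_lit 21) (nat_lit 2) [nat_lit 1041, nat_lit 1059, nat_lit 710] []))) (FT.leaf (Fct.mk true (nat_lit 21) (nat_lit 16765) (nat_lit 10) [nat_lit 2, nat_lit 3, nat_lit 8, nat_lit 1, nat_lit 2, nat_lit 3, nat_lit 4, nat_lit 5, nat_lit 2, nat_lit 8, nat_lit 3, nat_lit 9, nat_lit 2, nat_lit 15, nat_lit 14, nat_lit 16] (Rl.inv (nat_lit 1060)))))))) (FT.node (nat_lit 1068) (FT.node (nat_lit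 1065) (FT.node (nat_lit 1063) (FT.leaf (Fct.mk true (nat_lit 2) (nat_lit 50) (nat_lit 23) [] (Rl.df))) (FT.node (nat_lit 1064) (FT.leaf (Fct.mk true (nat_lit 23) (nat_lit 50) (nat_lit 2) [] (Rl.inv (nat_lit 1062)))) (FT.leaf (Fct.mk false (nat_lit 2) (nat_lit 0) (nat_lit 2) [nat_lit 6, nat_lit 3, nat_lit 2, nat_lit 8, nat_lit 3, nat_lit 8, nat_lit 10, nat_lit 18] (Rl.cmp (nat_lit 168) (nat_lit 402)))))) (FT.node (nat_lit 1066) (FT.leaf (Fct.mk false (nat_lit 23) (nat_lit 0) (nat_lit 23) [nat_lit 1, nat_lit 2, nat_lit 3, nat_lit 8, nat_lit 0, nat_lit 1, nat_lit 2, nat_lit 3, nat_lit 4, nat_lit 5, nat_lit 0, nat_lit 1, nat_lit 4, nat_lit 3, nat_lit 2, nat_lit 8, nat_lit 3, nat_lit 0, nat_lit 15, nat_lit 14] (Rl.rel (nat_lit 0) [nat_lit 3, nat_lit 4, nat_lit 5, nat_lit 2, nat_lit 3, nat_lit 15, nat_lit 14, nat_lit 19] (nat_lit 23) (nat_lit 3)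 [nat_lit 1063, nat_lit 792, nat_lit 98, nat_lit 1064, nat_lit 1062] []))) (FT.node (nat_lit 1067) (FT.leaf (Fct.mk true (nat_lit 23) (nat_lit 49) (nat_lit 2) [nat_lit 1, nat_lit 2, nat_lit 3, nat_lit 8, nat_lit 0, nat_lit 1, nat_lit 2, nat_lit 3, nat_lit 4, nat_lit 5, nat_lit 0, nat_lit 1, nat_lit 4, nat_lit 3, nat_lit 2, nat_lit 8, nat_lit 3, nat_lit 0, nat_lit 15, nat_lit 14] (Rl.t1 (nat_lit 1063) (nat_lit 1065)))) (FT.leaf (Fct.mk false (nat_lit 2) (nat_lit 0) (nat_lit 2) [nat_lit 6, nat_lit 2, nat_lit 3, nat_lit 8, nat_lit 10, nat_lit 12, nat_lit 18] (Rl.cmp (nat_lit 168) (nat_lit 84))))))) (FT.node (nat_lit 1071) (FT.node (nat_lit 1069) (FT.leaf (Fct.mk false (nat_lit 2) (nat_lit 0) (nat_lit 2) [nat_lit 3, nat_lit 2, nat_lit 8, nat_lit 3, nat_lit 0, nat_lit 8, nat_lit 18] (Rl.cmp (nat_lit 87) (nat_lit 173)))) (FT.node (nat_lit 1070) (FT.leaf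 (Fct.mk false (nat_lit 2) (nat_lit 0) (nat_lit 2) [nat_lit 6, nat_lit 3, nat_lit 2, nat_lit 1, nat_lit 8, nat_lit 3, nat_lit 2, nat_lit 0, nat_lit 1, nat_lit 4, nat_lit 3, nat_lit 2, nat_lit 8, nat_lit 3, nat_lit 8, nat_lit 10, nat_lit 0, nat_lit 8, nat_lit 12, nat_lit 15, nat_lit 14, nat_lit 8] (Rl.cmp (nat_lit 300) (nat_lit 791)))) (FT.leaf (Fct.mk false (nat_lit 23) (nat_lit 0) (nat_lit 23) [nat_lit 1, nat_lit 2, nat_lit 3, nat_lit 8, nat_lit 0, nat_lit 1, nat_lit 2, nat_lit 3, nat_lit 4, nat_lit 5, nat_lit 1, nat_lit 2, nat_lit 0, nat_lit 1, nat_lit 3, nat_lit 2, nat_lit 8, nat_lit 3, nat_lit 2, nat_lit 8, nat_lit 10, nat_lit 1, nat_lit 12, nat_lit 15, nat_lit 18] (Rl.rel (nat_lit 0) [nat_lit 3, nat_lit 4, nat_lit 5, nat_lit 2, nat_lit 8, nat_lit 3, nat_lit 9, nat_lit 2, nat_lit 16, nat_lit 15, nat_lit 14, nat_lit 19] (nat_lit 23) (nat_lit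 3) [nat_lit 1065, nat_lit 1066, nat_lit 1069, nat_lit 98, nat_lit 1064, nat_lit 1062] []))))) (FT.node (nat_lit 1073) (FT.node (nat_lit 1072) (FT.leaf (Fct.mk false (nat_lit 2) (nat_lit 0) (nat_lit 2) [nat_lit 10, nat_lit 18] (Rl.cmp (nat_lit 86) (nat_lit 87)))) (FT.leaf (Fct.mk false (nat_lit 2) (nat_lit 0) (nat_lit 2) [nat_lit 2, nat_lit 3, nat_lit 8, nat_lit 10, nat_lit 0, nat_lit 8] (Rl.cmp (nat_lit 173) (nat_lit 84))))) (FT.node (nat_lit 1074) (FT.leaf (Fct.mk false (nat_lit 2) (nat_lit 0) (nat_lit 2) [nat_lit 4, nat_lit 3, nat_lit 2, nat_lit 8, nat_lit 3, nat_lit 0, nat_lit 12, nat_lit 18] (Rl.cmp (nat_lit 88) (nat_lit 1072)))) (FT.leaf (Fct.mk false (nat_lit 23) (nat_lit 0) (nat_lit 23) [nat_lit 4, nat_lit 3, nat_lit 8, nat_lit 2, nat_lit 3, nat_lit 4, nat_lit 5, nat_lit 3, nat_lit 2, nat_lit 1, nat_lit 8, nat_lit 3, nat_lit 2, nat_lit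 0, nat_lit 1, nat_lit 4, nat_lit 3, nat_lit 2, nat_lit 8, nat_lit 3, nat_lit 10, nat_lit 0, nat_lit 8, nat_lit 12, nat_lit 15, nat_lit 14, nat_lit 8] (Rl.cmp (nat_lit 1070) (nat_lit 1070))))))))) (FT.node (nat_lit 1087) (FT.node (nat_lit 1081) (FT.node (nat_lit 1078) (FT.node (nat_lit 1076) (FT.leaf (Fct.mk true (nat_lit 4) (nat_lit 115) (nat_lit 23) [nat_lit 6, nat_lit 5, nat_lit 2, nat_lit 3, nat_lit 4, nat_lit 1, nat_lit 2, nat_lit 3, nat_lit 8, nat_lit 0, nat_lit 1, nat_lit 2, nat_lit 3, nat_lit 4, nat_lit 5, nat_lit 8, nat_lit 3, nat_lit 2, nat_lit 0, nat_lit 1, nat_lit 9, nat_lit 4, nat_lit 3, nat_lit 2, nat_lit 8, nat_lit 3, nat_lit 0, nat_lit 15, nat_lit 14] (Rl.rel (nat_lit 0) [nat_lit 8, nat_lit 3, nat_lit 4, nat_lit 2, nat_lit 3, nat_lit 8, nat_lit 1, nat_lit 2, nat_lit 3, nat_lit 4, nat_lit 5, nat_lit 4, nat_lit 3, nat_lit 2, nat_lit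 8, nat_lit 3, nat_lit 15, nat_lit 14, nat_lit 19] (nat_lit 23) (nat_lit 2) [nat_lit 1065, nat_lit 1066, nat_lit 1073, nat_lit 341] []))) (FT.node (nat_lit 1077) (FT.leaf (Fct.mk true (nat_lit 4) (nat_lit 102) (nat_lit 23) [nat_lit 6, nat_lit 5, nat_lit 2, nat_lit 3, nat_lit 4, nat_lit 1, nat_lit 2, nat_lit 3, nat_lit 8, nat_lit 0, nat_lit 1, nat_lit 2, nat_lit 3, nat_lit 4, nat_lit 5, nat_lit 0, nat_lit 1, nat_lit 2, nat_lit 3, nat_lit 8, nat_lit 10, nat_lit 1, nat_lit 12, nat_lit 15, nat_lit 8, nat_lit 19, nat_lit 16] (Rl.t1 (nat_lit 1075) (nat_lit 350)))) (FT.leaf (Fct.mk true (nat_lit 23) (nat_lit 610) (nat_lit 4) [nat_lit 4, nat_lit 3, nat_lit 8, nat_lit 2, nat_lit 3, nat_lit 4, nat_lit 5, nat_lit 3, nat_lit 2, nat_lit 1, nat_lit 4, nat_lit 3, nat_lit 2, nat_lit 0, nat_lit 1, nat_lit 9, nat_lit 4, nat_lit 3, nat_lit 2, nat_lit 8, nat_lit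 3, nat_lit 11, nat_lit 10, nat_lit 16, nat_lit 8, nat_lit 12, nat_lit 15, nat_lit 13] (Rl.inv (nat_lit 1076)))))) (FT.node (nat_lit 1079) (FT.leaf (Fct.mk true (nat_lit 23) (nat_lit 4) (nat_lit 4) [nat_lit 1, nat_lit 3, nat_lit 8, nat_lit 4, nat_lit 3, nat_lit 2, nat_lit 0, nat_lit 1, nat_lit 9, nat_lit 4, nat_lit 3, nat_lit 2, nat_lit 8, nat_lit 3, nat_lit 10, nat_lit 9, nat_lit 2, nat_lit 15, nat_lit 13, nat_lit 12, nat_lit 18] (Rl.t1 (nat_lit 1077) (nat_lit 1074)))) (FT.node (nat_lit 1080) (FT.leaf (Fct.mk false (nat_lit 23) (nat_lit 0) (nat_lit 23) [nat_lit 3, nat_lit 0, nat_lit 2] (Rl.rel (nat_lit 0) [nat_lit 8, nat_lit 3, nat_lit 4, nat_lit 2, nat_lit 3, nat_lit 8, nat_lit 1, nat_lit 2, nat_lit 3, nat_lit 4, nat_lit 5, nat_lit 4, nat_lit 3, nat_lit 2, nat_lit 8, nat_lit 3, nat_lit 0, nat_lit 15, nat_lit 14, nat_lit 19] (nat_lit 23) (nat_lit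 3) [nat_lit 1065, nat_lit 1066, nat_lit 84, nat_lit 341, nat_lit 350, nat_lit 1076] []))) (FT.leaf (Fct.mk false (nat_lit 23) (nat_lit 0) (nat_lit 23) [nat_lit 1, nat_lit 2, nat_lit 3, nat_lit 8, nat_lit 0, nat_lit 1, nat_lit 2, nat_lit 3, nat_lit 4, nat_lit 5, nat_lit 2, nat_lit 1, nat_lit 3, nat_lit 2, nat_lit 8, nat_lit 3, nat_lit 8, nat_lit 10, nat_lit 1, nat_lit 12, nat_lit 15, nat_lit 18] (Rl.cmp (nat_lit 1070) (nat_lit 1079))))))) (FT.node (nat_lit 1084) (FT.node (nat_lit 1082) (FT.leaf (Fct.mk false (nat_lit 23) (nat_lit 0) (nat_lit 23) [nat_lit 1, nat_lit 2, nat_lit 3, nat_lit 8, nat_lit 0, nat_lit 1, nat_lit 2, nat_lit 3, nat_lit 4, nat_lit 5, nat_lit 1, nat_lit 4, nat_lit 3, nat_lit 2, nat_lit 8, nat_lit 3, nat_lit 2, nat_lit 15, nat_lit 14] (Rl.cmp (nat_lit 1065) (nat_lit 1079)))) (FT.node (nat_lit 1083) (FT.leaf (Fct.mk false (nat_lit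 23) (nat_lit 0) (nat_lit 23) [nat_lit 4, nat_lit 3, nat_lit 8, nat_lit 2, nat_lit 3, nat_lit 4, nat_lit 5, nat_lit 3, nat_lit 2, nat_lit 1, nat_lit 8, nat_lit 3, nat_lit 2, nat_lit 0, nat_lit 1, nat_lit 4, nat_lit 3, nat_lit 2, nat_lit 8, nat_lit 3, nat_lit 10, nat_lit 0, nat_lit 8, nat_lit 12, nat_lit 15, nat_lit 14, nat_lit 8] (Rl.cmp (nat_lit 1070) (nat_lit 1070)))) (FT.leaf (Fct.mk true (nat_lit 4) (nat_lit 58568) (nat_lit 23) [nat_lit 3, nat_lit 8, nat_lit 4, nat_lit 5, nat_lit 3, nat_lit 4, nat_lit 2, nat_lit 3, nat_lit 8, nat_lit 1, nat_lit 2, nat_lit 3, nat_lit 4, nat_lit 5, nat_lit 3, nat_lit 2, nat_lit 1, nat_lit 8, nat_lit 3, nat_lit 2, nat_lit 0, nat_lit 1, nat_lit 9, nat_lit 4, nat_lit 3, nat_lit 2, nat_lit 8, nat_lit 3, nat_lit 11, nat_lit 2, nat_lit 15, nat_lit 14, nat_lit 17, nat_lit 19] (Rl.rel (nat_lit 0) [nat_lit 3, nat_lit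 4, nat_lit 5, nat_lit 2, nat_lit 3, nat_lit 4, nat_lit 1, nat_lit 2, nat_lit 3, nat_lit 8, nat_lit 0, nat_lit 1, nat_lit 2, nat_lit 3, nat_lit 4, nat_lit 5, nat_lit 1, nat_lit 8, nat_lit 3, nat_lit 2, nat_lit 0, nat_lit 1, nat_lit 4, nat_lit 3, nat_lit 2, nat_lit 8, nat_lit 3, nat_lit 10, nat_lit 1, nat_lit 12, nat_lit 15, nat_lit 19, nat_lit 16] (nat_lit 23) (nat_lit 2) [nat_lit 1065, nat_lit 1066, nat_lit 330, nat_lit 277] []))))) (FT.node (nat_lit 1085) (FT.leaf (Fct.mk true (nat_lit 4) (nat_lit 71) (nat_lit 23) [nat_lit 5, nat_lit 0, nat_lit 1, nat_lit 9, nat_lit 4, nat_lit 3, nat_lit 2, nat_lit 8, nat_lit 3, nat_lit 9, nat_lit 2, nat_lit 16, nat_lit 15, nat_lit 14, nat_lit 17, nat_lit 19] (Rl.t1 (nat_lit 1083) (nat_lit 234)))) (FT.node (nat_lit 1086) (FT.leaf (Fct.mk true (nat_lit 23) (nat_lit 338) (nat_lit 4) [nat_lit 3, nat_lit 8, nat_lit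 2, nat_lit 3, nat_lit 4, nat_lit 1, nat_lit 2, nat_lit 3, nat_lit 8, nat_lit 0, nat_lit 1, nat_lit 2, nat_lit 3, nat_lit 4, nat_lit 5, nat_lit 8, nat_lit 3, nat_lit 2, nat_lit 0, nat_lit 1, nat_lit 9, nat_lit 4, nat_lit 3, nat_lit 2, nat_lit 8, nat_lit 3, nat_lit 9, nat_lit 2, nat_lit 16, nat_lit 14, nat_lit 8] (Rl.inv (nat_lit 1084)))) (FT.leaf (Fct.mk true (nat_lit 23) (nat_lit 0) (nat_lit 4) [nat_lit 5, nat_lit 4, nat_lit 1, nat_lit 2, nat_lit 3, nat_lit 8, nat_lit 0, nat_lit 1, nat_lit 2, nat_lit 3, nat_lit 4, nat_lit 5, nat_lit 2, nat_lit 1, nat_lit 8, nat_lit 4, nat_lit 3, nat_lit 2, nat_lit 0, nat_lit 1, nat_lit 9, nat_lit 4, nat_lit 3, nat_lit 2, nat_lit 8, nat_lit 3, nat_lit 8, nat_lit 10, nat_lit 16, nat_lit 8, nat_lit 12, nat_lit 15, nat_lit 13] (Rl.t1 (nat_lit 1085) (nat_lit 1082)))))))) (FT.node (nat_lit 1093) (FT.node (nat_lit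 1090) (FT.node (nat_lit 1088) (FT.leaf (Fct.mk true (nat_lit 23) (nat_lit 354) (nat_lit 23) [nat_lit 2, nat_lit 1, nat_lit 8, nat_lit 3, nat_lit 2, nat_lit 0, nat_lit 1, nat_lit 4, nat_lit 3, nat_lit 2, nat_lit 8, nat_lit 3, nat_lit 2, nat_lit 8, nat_lit 10, nat_lit 1, nat_lit 8, nat_lit 12, nat_lit 15, nat_lit 14, nat_lit 18] (Rl.rel (nat_lit 0) [nat_lit 3, nat_lit 4, nat_lit 5, nat_lit 2, nat_lit 3, nat_lit 4, nat_lit 1, nat_lit 2, nat_lit 3, nat_lit 8, nat_lit 0, nat_lit 1, nat_lit 2, nat_lit 3, nat_lit 4, nat_lit 5, nat_lit 1, nat_lit 8, nat_lit 3, nat_lit 2, nat_lit 0, nat_lit 1, nat_lit 4, nat_lit 3, nat_lit 2, nat_lit 8, nat_lit 3, nat_lit 11, nat_lit 2, nat_lit 8, nat_lit 10, nat_lit 1, nat_lit 12, nat_lit 15, nat_lit 17, nat_lit 12, nat_lit 18] (nat_lit 23) (nat_lit 2) [nat_lit 1065, nat_lit 1066, nat_lit 446, nat_lit 1062] []))) (FT.node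 (nat_lit 1089) (FT.leaf (Fct.mk true (nat_lit 23) (nat_lit 117) (nat_lit 23) [nat_lit 1, nat_lit 2, nat_lit 3, nat_lit 8, nat_lit 0, nat_lit 1, nat_lit 2, nat_lit 3, nat_lit 4, nat_lit 5, nat_lit 2, nat_lit 0, nat_lit 1, nat_lit 3, nat_lit 2, nat_lit 8, nat_lit 3, nat_lit 2, nat_lit 10, nat_lit 1, nat_lit 12, nat_lit 15, nat_lit 18] (Rl.t1 (nat_lit 1087) (nat_lit 1065)))) (FT.leaf (Fct.mk false (nat_lit 23) (nat_lit 0) (nat_lit 23) [nat_lit 1, nat_lit 2, nat_lit 3, nat_lit 8, nat_lit 0, nat_lit 1, nat_lit 2, nat_lit 3, nat_lit 4, nat_lit 5, nat_lit 2, nat_lit 0, nat_lit 1, nat_lit 3, nat_lit 2, nat_lit 8, nat_lit 3, nat_lit 10, nat_lit 1, nat_lit 12, nat_lit 15, nat_lit 18] (Rl.cmp (nat_lit 1079) (nat_lit 1070)))))) (FT.node (nat_lit 1091) (FT.leaf (Fct.mk false (nat_lit 23) (nat_lit 0) (nat_lit 23) [nat_lit 4, nat_lit 3, nat_lit 8, nat_lit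 2, nat_lit 3, nat_lit 4, nat_lit 5, nat_lit 2, nat_lit 1, nat_lit 3, nat_lit 2, nat_lit 0, nat_lit 1, nat_lit 4, nat_lit 3, nat_lit 2, nat_lit 8, nat_lit 3, nat_lit 8, nat_lit 10, nat_lit 0, nat_lit 8, nat_lit 12, nat_lit 15, nat_lit 14, nat_lit 8] (Rl.cmp (nat_lit 1070) (nat_lit 1089)))) (FT.node (nat_lit 1092) (FT.leaf (Fct.mk true (nat_lit 5) (nat_lit 353) (nat_lit 23) [nat_lit 2, nat_lit 3, nat_lit 4, nat_lit 1, nat_lit 2, nat_lit 3, nat_lit 8, nat_lit 0, nat_lit 1, nat_lit 2, nat_lit 3, nat_lit 4, nat_lit 5, nat_lit 4, nat_lit 11, nat_lit 2, nat_lit 8, nat_lit 16] (Rl.rel (nat_lit 0) [nat_lit 8] (nat_lit 23) (nat_lit 2) [nat_lit 1086, nat_lit 444, nat_lit 469] []))) (FT.leaf (Fct.mk true (nat_lit 5) (nat_lit 65) (nat_lit 23) [nat_lit 8, nat_lit 3, nat_lit 4, nat_lit 5, nat_lit 9, nat_lit 4, nat_lit 15, nat_lit 13, nat_lit 12, nat_lit 16]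 (Rl.t1 (nat_lit 1091) (nat_lit 511))))))) (FT.node (nat_lit 1096) (FT.node (nat_lit 1094) (FT.leaf (Fct.mk true (nat_lit 23) (nat_lit 1) (nat_lit 5) [nat_lit 8, nat_lit 6, nat_lit 4, nat_lit 5, nat_lit 3, nat_lit 4, nat_lit 1, nat_lit 2, nat_lit 3, nat_lit 8, nat_lit 0, nat_lit 1, nat_lit 2, nat_lit 3, nat_lit 4, nat_lit 5, nat_lit 2, nat_lit 0, nat_lit 1, nat_lit 3, nat_lit 2, nat_lit 8, nat_lit 3, nat_lit 2, nat_lit 8, nat_lit 10, nat_lit 1, nat_lit 16, nat_lit 8, nat_lit 18] (Rl.inv (nat_lit 1092)))) (FT.node (nat_lit 1095) (FT.leaf (Fct.mk true (nat_lit 13) (nat_lit 300) (nat_lit 23) [nat_lit 3, nat_lit 8, nat_lit 2, nat_lit 3, nat_lit 4, nat_lit 5, nat_lit 1, nat_lit 2, nat_lit 0, nat_lit 1, nat_lit 3, nat_lit 2, nat_lit 8, nat_lit 3, nat_lit 10, nat_lit 1, nat_lit 8, nat_lit 12, nat_lit 15, nat_lit 14, nat_lit 12, nat_lit 19, nat_lit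 16] (Rl.rel (nat_lit 0) [nat_lit 2, nat_lit 8, nat_lit 3, nat_lit 10, nat_lit 8, nat_lit 18] (nat_lit 23) (nat_lit 2) [nat_lit 1093, nat_lit 832] []))) (FT.leaf (Fct.mk true (nat_lit 13) (nat_lit 95) (nat_lit 23) [nat_lit 3, nat_lit 8, nat_lit 2, nat_lit 3, nat_lit 4, nat_lit 5, nat_lit 1, nat_lit 3, nat_lit 2, nat_lit 0, nat_lit 1, nat_lit 4, nat_lit 3, nat_lit 2, nat_lit 8, nat_lit 3, nat_lit 2, nat_lit 10, nat_lit 1, nat_lit 8, nat_lit 12, nat_lit 15, nat_lit 14, nat_lit 12, nat_lit 19, nat_lit 16] (Rl.t1 (nat_lit 1094) (nat_lit 831)))))) (FT.node (nat_lit 1098) (FT.node (nat_lit 1097) (FT.leaf (Fct.mk true (nat_lit 23) (nat_lit 19) (nat_lit 13) [nat_lit 4, nat_lit 3, nat_lit 8, nat_lit 2, nat_lit 3, nat_lit 4, nat_lit 1, nat_lit 2, nat_lit 3, nat_lit 8, nat_lit 0, nat_lit 1, nat_lit 2, nat_lit 3, nat_lit 4, nat_lit 5, nat_lit 3, nat_lit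 2, nat_lit 1, nat_lit 8, nat_lit 3, nat_lit 2, nat_lit 0, nat_lit 1, nat_lit 4, nat_lit 3, nat_lit 2, nat_lit 8, nat_lit 3, nat_lit 10, nat_lit 9, nat_lit 2, nat_lit 13] (Rl.inv (nat_lit 1095)))) (FT.leaf (Fct.mk true (nat_lit 5) (nat_lit 3703) (nat_lit 4) [nat_lit 4, nat_lit 5, nat_lit 2, nat_lit 3, nat_lit 4, nat_lit 1, nat_lit 2, nat_lit 3, nat_lit 8, nat_lit 0, nat_lit 1, nat_lit 2, nat_lit 3, nat_lit 4, nat_lit 5, nat_lit 2, nat_lit 0, nat_lit 1, nat_lit 3, nat_lit 2, nat_lit 8, nat_lit 3, nat_lit 11, nat_lit 1, nat_lit 8, nat_lit 16, nat_lit 15, nat_lit 14, nat_lit 17, nat_lit 12, nat_lit 19, nat_lit 16] (Rl.rel (nat_lit 0) [nat_lit 2, nat_lit 8, nat_lit 3, nat_lit 10, nat_lit 12, nat_lit 15, nat_lit 14, nat_lit 8] (nat_lit 23) (nat_lit 1) [nat_lit 1093] [nat_lit 1080, nat_lit 1078])))) (FT.node (nat_lit 1099) (FT.leaf (Fct.mk true (nat_lit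 5) (nat_lit 80) (nat_lit 4) [nat_lit 4, nat_lit 5, nat_lit 2, nat_lit 3, nat_lit 4, nat_lit 1, nat_lit 2, nat_lit 3, nat_lit 8, nat_lit 0, nat_lit 1, nat_lit 2, nat_lit 3, nat_lit 4, nat_lit 5, nat_lit 1, nat_lit 8, nat_lit 3, nat_lit 2, nat_lit 0, nat_lit 1, nat_lit 9, nat_lit 4, nat_lit 3, nat_lit 2, nat_lit 8, nat_lit 3, nat_lit 0, nat_lit 2, nat_lit 8, nat_lit 12, nat_lit 15, nat_lit 14, nat_lit 16, nat_lit 8, nat_lit 18, nat_lit 16] (Rl.t1 (nat_lit 1097) (nat_lit 470)))) (FT.leaf (Fct.mk true (nat_lit 4) (nat_lit 8354) (nat_lit 5) [nat_lit 8, nat_lit 4, nat_lit 5, nat_lit 3, nat_lit 4, nat_lit 2, nat_lit 3, nat_lit 8, nat_lit 1, nat_lit 2, nat_lit 3, nat_lit 4, nat_lit 5, nat_lit 8, nat_lit 10, nat_lit 0, nat_lit 12, nat_lit 15, nat_lit 14, nat_lit 16, nat_lit 8, nat_lit 19] (Rl.inv (nat_lit 1098)))))))))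

/-- some facts -/
noncomputable def ftc22 : FT := FT.node (nat_lit 1125) (FT.node (nat_lit 1112) (FT.node (nat_lit 1106) (FT.node (nat_lit 1103) (FT.node (nat_lit 1101) (FT.leaf (Fct.mk true (nat_lit 4) (nat_lit 887) (nat_lit 5) [nat_lit 4, nat_lit 5, nat_lit 8, nat_lit 3, nat_lit 0, nat_lit 2, nat_lit 12, nat_lit 15, nat_lit 14, nat_lit 16, nat_lit 8, nat_lit 16] (Rl.t1 (nat_lit 1099) (nat_lit 234)))) (FT.node (nat_lit 1102) (FT.leaf (Fct.mk false (nat_lit 23) (nat_lit 0) (nat_lit 23) [nat_lit 1, nat_lit 2, nat_lit 3, nat_lit 8, nat_lit 0, nat_lit 1, nat_lit 2, nat_lit 3, nat_lit 4, nat_lit 5, nat_lit 4, nat_lit 3, nat_lit 2, nat_lit 8, nat_lit 3, nat_lit 0, nat_lit 2, nat_lit 15, nat_lit 14] (Rl.cmp (nat_lit 1079) (nat_lit 1065)))) (FT.leaf (Fct.mk true (nat_lit 5) (nat_lit 3888) (nat_lit 5) [nat_lit 5, nat_lit 1] (Rl.rel (nat_lit 0) [nat_lit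 8, nat_lit 3, nat_lit 4, nat_lit 5, nat_lit 2, nat_lit 3, nat_lit 15, nat_lit 14, nat_lit 8] (nat_lit 23) (nat_lit 1) [nat_lit 1093] [nat_lit 1101, nat_lit 1093]))))) (FT.node (nat_lit 1104) (FT.leaf (Fct.mk true (nat_lit 5) (nat_lit 1516) (nat_lit 5) [nat_lit 6, nat_lit 2, nat_lit 3, nat_lit 12, nat_lit 15, nat_lit 14, nat_lit 12] (Rl.t1 (nat_lit 1102) (nat_lit 606)))) (FT.node (nat_lit 1105) (FT.leaf (Fct.mk false (nat_lit 7) (nat_lit 0) (nat_lit 7) [nat_lit 3, nat_lit 8, nat_lit 5, nat_lit 6, nat_lit 4, nat_lit 5, nat_lit 3, nat_lit 4, nat_lit 2, nat_lit 3, nat_lit 8, nat_lit 1, nat_lit 2, nat_lit 3, nat_lit 4, nat_lit 5, nat_lit 0, nat_lit 1, nat_lit 2, nat_lit 8, nat_lit 3, nat_lit 11, nat_lit 15, nat_lit 13, nat_lit 12, nat_lit 18] (Rl.rel (nat_lit 0) [nat_lit 8, nat_lit 5, nat_lit 6, nat_lit 4, nat_lit 5, nat_lit 3, nat_lit 4, nat_lit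 1, nat_lit 2, nat_lit 3, nat_lit 8, nat_lit 0, nat_lit 1, nat_lit 2, nat_lit 3, nat_lit 4, nat_lit 5, nat_lit 2, nat_lit 1, nat_lit 8, nat_lit 4, nat_lit 3, nat_lit 2, nat_lit 0, nat_lit 1, nat_lit 9, nat_lit 4, nat_lit 3, nat_lit 2, nat_lit 8, nat_lit 3, nat_lit 11, nat_lit 10, nat_lit 2, nat_lit 8, nat_lit 10, nat_lit 1, nat_lit 17] (nat_lit 5) (nat_lit 2) [nat_lit 1103, nat_lit 590] [nat_lit 590]))) (FT.leaf (Fct.mk false (nat_lit 7) (nat_lit 0) (nat_lit 7) [nat_lit 23] (Rl.cmp (nat_lit 592) (nat_lit 596))))))) (FT.node (nat_lit 1109) (FT.node (nat_lit 1107) (FT.leaf (Fct.mk false (nat_lit 7) (nat_lit 0) (nat_lit 7) [nat_lit 3, nat_lit 8, nat_lit 5, nat_lit 6, nat_lit 4, nat_lit 5, nat_lit 3, nat_lit 4, nat_lit 2, nat_lit 3, nat_lit 8, nat_lit 1, nat_lit 2, nat_lit 3, nat_lit 4, nat_lit 5, nat_lit 1, nat_lit 2, nat_lit 0, nat_lit 1, nat_lit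 3, nat_lit 2, nat_lit 8, nat_lit 3, nat_lit 9, nat_lit 12, nat_lit 18] (Rl.cmp (nat_lit 1104) (nat_lit 1105)))) (FT.node (nat_lit 1108) (FT.leaf (Fct.mk false (nat_lit 7) (nat_lit 0) (nat_lit 7) [nat_lit 4, nat_lit 2, nat_lit 3, nat_lit 8, nat_lit 5, nat_lit 6, nat_lit 4, nat_lit 5, nat_lit 3, nat_lit 4, nat_lit 2, nat_lit 3, nat_lit 8, nat_lit 1, nat_lit 2, nat_lit 3, nat_lit 4, nat_lit 5, nat_lit 1, nat_lit 3, nat_lit 8, nat_lit 4, nat_lit 3, nat_lit 2, nat_lit 0, nat_lit 1, nat_lit 9, nat_lit 4, nat_lit 3, nat_lit 2, nat_lit 8, nat_lit 3, nat_lit 9, nat_lit 10, nat_lit 2, nat_lit 8, nat_lit 10, nat_lit 1, nat_lit 12, nat_lit 8, nat_lit 16, nat_lit 14, nat_lit 8, nat_lit 18, nat_lit 16] (Rl.cmp (nat_lit 1104) (nat_lit 1106)))) (FT.leaf (Fct.mk false (nat_lit 7) (nat_lit 0) (nat_lit 7) [nat_lit 3, nat_lit 4, nat_lit 2, nat_lit 3, nat_lit 8,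 nat_lit 5, nat_lit 6, nat_lit 4, nat_lit 5, nat_lit 3, nat_lit 4, nat_lit 2, nat_lit 3, nat_lit 8, nat_lit 1, nat_lit 2, nat_lit 3, nat_lit 4, nat_lit 5, nat_lit 1, nat_lit 3, nat_lit 8, nat_lit 4, nat_lit 3, nat_lit 2, nat_lit 0, nat_lit 1, nat_lit 9, nat_lit 4, nat_lit 3, nat_lit 2, nat_lit 8, nat_lit 3, nat_lit 9, nat_lit 10, nat_lit 2, nat_lit 8, nat_lit 10, nat_lit 1, nat_lit 12, nat_lit 8, nat_lit 16, nat_lit 14, nat_lit 8, nat_lit 18, nat_lit 16] (Rl.cmp (nat_lit 592) (nat_lit 1107)))))) (FT.node (nat_lit 1110) (FT.leaf (Fct.mk false (nat_lit 7) (nat_lit 0) (nat_lit 7) [nat_lit 8, nat_lit 5, nat_lit 3, nat_lit 4, nat_lit 2, nat_lit 3, nat_lit 8, nat_lit 0, nat_lit 1, nat_lit 2, nat_lit 3, nat_lit 4, nat_lit 5, nat_lit 3, nat_lit 2, nat_lit 1, nat_lit 4, nat_lit 3, nat_lit 2, nat_lit 0, nat_lit 1, nat_lit 9, nat_lit 4, nat_lit 3, nat_lit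 2, nat_lit 8, nat_lit 3, nat_lit 11, nat_lit 10, nat_lit 2, nat_lit 8, nat_lit 10, nat_lit 1, nat_lit 12, nat_lit 8, nat_lit 16, nat_lit 14, nat_lit 18, nat_lit 16] (Rl.cmp (nat_lit 594) (nat_lit 1108)))) (FT.node (nat_lit 1111) (FT.leaf (Fct.mk false (nat_lit 7) (nat_lit 0) (nat_lit 7) [nat_lit 4, nat_lit 3, nat_lit 8, nat_lit 5, nat_lit 6, nat_lit 4, nat_lit 5, nat_lit 3, nat_lit 4, nat_lit 2, nat_lit 3, nat_lit 8, nat_lit 0, nat_lit 1, nat_lit 2, nat_lit 3, nat_lit 4, nat_lit 5, nat_lit 1, nat_lit 4, nat_lit 3, nat_lit 2, nat_lit 8, nat_lit 3, nat_lit 11, nat_lit 2, nat_lit 10, nat_lit 1, nat_lit 12, nat_lit 8, nat_lit 16, nat_lit 14, nat_lit 12, nat_lit 16] (Rl.cmp (nat_lit 1104) (nat_lit 1109)))) (FT.leaf (Fct.mk false (nat_lit 7) (nat_lit 0) (nat_lit 7) [nat_lit 1, nat_lit 2, nat_lit 3, nat_lit 8, nat_lit 6, nat_lit 4, nat_lit 5, nat_lit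 3, nat_lit 4, nat_lit 2, nat_lit 3, nat_lit 8, nat_lit 1, nat_lit 2, nat_lit 3, nat_lit 4, nat_lit 5, nat_lit 1, nat_lit 2, nat_lit 0, nat_lit 1, nat_lit 3, nat_lit 2, nat_lit 8, nat_lit 3, nat_lit 2, nat_lit 15, nat_lit 8, nat_lit 16] (Rl.cmp (nat_lit 1104) (nat_lit 1110)))))))) (FT.node (nat_lit 1118) (FT.node (nat_lit 1115) (FT.node (nat_lit 1113) (FT.leaf (Fct.mk false (nat_lit 7) (nat_lit 0) (nat_lit 7) [nat_lit 2, nat_lit 3, nat_lit 8, nat_lit 4, nat_lit 5, nat_lit 3, nat_lit 4, nat_lit 2, nat_lit 3, nat_lit 8, nat_lit 0, nat_lit 1, nat_lit 2, nat_lit 3, nat_lit 4, nat_lit 5, nat_lit 2, nat_lit 3, nat_lit 8, nat_lit 4, nat_lit 3, nat_lit 2, nat_lit 0, nat_lit 1, nat_lit 9, nat_lit 4, nat_lit 3, nat_lit 2, nat_lit 8, nat_lit 3, nat_lit 2, nat_lit 8, nat_lit 10, nat_lit 1, nat_lit 16, nat_lit 15, nat_lit 14, nat_lit 13, nat_lit 19] (Rl.cmp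 (nat_lit 1104) (nat_lit 1111)))) (FT.node (nat_lit 1114) (FT.leaf (Fct.mk true (nat_lit 7) (nat_lit 269) (nat_lit 10) [nat_lit 2, nat_lit 3, nat_lit 8, nat_lit 1, nat_lit 2, nat_lit 3, nat_lit 4, nat_lit 5, nat_lit 6, nat_lit 7, nat_lit 6, nat_lit 5, nat_lit 2, nat_lit 3, nat_lit 4, nat_lit 1, nat_lit 2, nat_lit 3, nat_lit 8, nat_lit 0, nat_lit 1, nat_lit 2, nat_lit 3, nat_lit 4, nat_lit 5, nat_lit 0, nat_lit 1, nat_lit 4, nat_lit 3, nat_lit 2, nat_lit 8, nat_lit 3, nat_lit 2, nat_lit 10, nat_lit 1, nat_lit 8, nat_lit 12, nat_lit 15, nat_lit 13, nat_lit 12, nat_lit 19] (Rl.t1 (nat_lit 730) (nat_lit 1112)))) (FT.leaf (Fct.mk true (nat_lit 5) (nat_lit 44) (nat_lit 5) [nat_lit 3, nat_lit 4, nat_lit 5, nat_lit 1, nat_lit 2, nat_lit 3, nat_lit 10, nat_lit 9, nat_lit 2, nat_lit 16, nat_lit 14] (Rl.rel (nat_lit 0) [nat_lit 6, nat_lit 2, nat_lit 3,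 nat_lit 11, nat_lit 10, nat_lit 2, nat_lit 8, nat_lit 10, nat_lit 1, nat_lit 16, nat_lit 12, nat_lit 15, nat_lit 14, nat_lit 19] (nat_lit 4) (nat_lit 1) [nat_lit 1100] [nat_lit 479]))))) (FT.node (nat_lit 1116) (FT.leaf (Fct.mk true (nat_lit 5) (nat_lit 1) (nat_lit 5) [nat_lit 4, nat_lit 5, nat_lit 1, nat_lit 2, nat_lit 3, nat_lit 10, nat_lit 9, nat_lit 2, nat_lit 16, nat_lit 12, nat_lit 15, nat_lit 14, nat_lit 12] (Rl.t1 (nat_lit 1114) (nat_lit 528)))) (FT.node (nat_lit 1117) (FT.leaf (Fct.mk true (nat_lit 5) (nat_lit 761) (nat_lit 5) [nat_lit 2, nat_lit 3, nat_lit 4, nat_lit 5, nat_lit 4, nat_lit 0, nat_lit 12, nat_lit 15, nat_lit 14, nat_lit 12, nat_lit 16] (Rl.inv (nat_lit 1115)))) (FT.leaf (Fct.mk true (nat_lit 5) (nat_lit 4) (nat_lit 5) [nat_lit 4, nat_lit 5, nat_lit 9, nat_lit 4, nat_lit 10, nat_lit 1] (Rl.t1 (nat_lit 1116) (nat_lit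 511))))))) (FT.node (nat_lit 1121) (FT.node (nat_lit 1119) (FT.leaf (Fct.mk true (nat_lit 5) (nat_lit 513) (nat_lit 5) [nat_lit 3, nat_lit 4, nat_lit 5, nat_lit 4, nat_lit 10, nat_lit 1, nat_lit 16, nat_lit 15, nat_lit 14, nat_lit 12, nat_lit 16] (Rl.rel (nat_lit 0) [nat_lit 8, nat_lit 3, nat_lit 4, nat_lit 5, nat_lit 2, nat_lit 1, nat_lit 4, nat_lit 3, nat_lit 2, nat_lit 8, nat_lit 3, nat_lit 11, nat_lit 2, nat_lit 8, nat_lit 10, nat_lit 1, nat_lit 16, nat_lit 12, nat_lit 15, nat_lit 14, nat_lit 12, nat_lit 18, nat_lit 16] (nat_lit 4) (nat_lit 1) [nat_lit 1100] [nat_lit 443, nat_lit 469]))) (FT.node (nat_lit 1120) (FT.leaf (Fct.mk true (nat_lit 5) (nat_lit 329) (nat_lit 5) [nat_lit 4, nat_lit 5, nat_lit 10, nat_lit 1, nat_lit 16, nat_lit 15, nat_lit 14, nat_lit 12, nat_lit 16] (Rl.t1 (nat_lit 1118) (nat_lit 488)))) (FT.leaf (Fct.mk true (nat_lit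 2) (nat_lit 2760) (nat_lit 5) [nat_lit 5, nat_lit 6, nat_lit 4, nat_lit 5, nat_lit 2, nat_lit 3, nat_lit 4, nat_lit 1, nat_lit 2, nat_lit 3, nat_lit 8, nat_lit 0, nat_lit 1, nat_lit 2, nat_lit 3, nat_lit 4, nat_lit 5, nat_lit 1, nat_lit 3, nat_lit 2, nat_lit 8, nat_lit 3, nat_lit 8, nat_lit 10, nat_lit 1, nat_lit 16, nat_lit 8, nat_lit 18] (Rl.rel (nat_lit 0) [nat_lit 8, nat_lit 2, nat_lit 3, nat_lit 4, nat_lit 5, nat_lit 9, nat_lit 4, nat_lit 8, nat_lit 10, nat_lit 0, nat_lit 12, nat_lit 15, nat_lit 8, nat_lit 16] (nat_lit 5) (nat_lit 2) [nat_lit 1117, nat_lit 511, nat_lit 512] []))))) (FT.node (nat_lit 1123) (FT.node (nat_lit 1122) (FT.leaf (Fct.mk true (nat_lit 2) (nat_lit 1049) (nat_lit 5) [nat_lit 8, nat_lit 5, nat_lit 6, nat_lit 4, nat_lit 5, nat_lit 3, nat_lit 4, nat_lit 1, nat_lit 2, nat_lit 3, nat_lit 8, nat_lit 0, nat_lit 1, nat_lit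 2, nat_lit 3, nat_lit 4, nat_lit 5, nat_lit 2, nat_lit 0, nat_lit 1, nat_lit 3, nat_lit 2, nat_lit 8, nat_lit 3, nat_lit 0, nat_lit 8, nat_lit 12, nat_lit 15, nat_lit 14, nat_lit 16, nat_lit 8, nat_lit 18, nat_lit 16] (Rl.t1 (nat_lit 1120) (nat_lit 531)))) (FT.leaf (Fct.mk true (nat_lit 5) (nat_lit 4648) (nat_lit 2) [nat_lit 8, nat_lit 4, nat_lit 5, nat_lit 3, nat_lit 4, nat_lit 2, nat_lit 3, nat_lit 8, nat_lit 1, nat_lit 2, nat_lit 3, nat_lit 4, nat_lit 5, nat_lit 3, nat_lit 2, nat_lit 1, nat_lit 8, nat_lit 3, nat_lit 2, nat_lit 0, nat_lit 1, nat_lit 9, nat_lit 4, nat_lit 3, nat_lit 2, nat_lit 8, nat_lit 3, nat_lit 10, nat_lit 0, nat_lit 13, nat_lit 16] (Rl.inv (nat_lit 1121))))) (FT.node (nat_lit 1124) (FT.leaf (Fct.mk true (nat_lit 23) (nat_lit 892) (nat_lit 5) [nat_lit 4, nat_lit 5, nat_lit 2, nat_lit 8, nat_lit 3, nat_lit 8, nat_lit 10,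 nat_lit 0, nat_lit 12, nat_lit 15, nat_lit 8] (Rl.rel (nat_lit 0) [nat_lit 6, nat_lit 2, nat_lit 8, nat_lit 3, nat_lit 2, nat_lit 8, nat_lit 10, nat_lit 1, nat_lit 16, nat_lit 8, nat_lit 19, nat_lit 16] (nat_lit 5) (nat_lit 2) [nat_lit 1117, nat_lit 488, nat_lit 1092] []))) (FT.leaf (Fct.mk true (nat_lit 23) (nat_lit 812) (nat_lit 5) [nat_lit 5, nat_lit 4, nat_lit 1, nat_lit 2, nat_lit 3, nat_lit 8, nat_lit 0, nat_lit 1, nat_lit 2, nat_lit 3, nat_lit 4, nat_lit 5, nat_lit 2, nat_lit 1, nat_lit 3, nat_lit 2, nat_lit 8, nat_lit 3, nat_lit 0, nat_lit 12, nat_lit 15, nat_lit 14, nat_lit 12] (Rl.t1 (nat_lit 1123) (nat_lit 1070))))))))) (FT.node (nat_lit 1137) (FT.node (nat_lit 1131) (FT.node (nat_lit 1128) (FT.node (nat_lit 1126) (FT.leaf (Fct.mk true (nat_lit 5) (nat_lit 150) (nat_lit 23) [nat_lit 5, nat_lit 2, nat_lit 3, nat_lit 4, nat_lit 1,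 nat_lit 2, nat_lit 3, nat_lit 8, nat_lit 0, nat_lit 1, nat_lit 2, nat_lit 3, nat_lit 4, nat_lit 5, nat_lit 4, nat_lit 3, nat_lit 2, nat_lit 8, nat_lit 3, nat_lit 12, nat_lit 15, nat_lit 14, nat_lit 8] (Rl.inv (nat_lit 1124)))) (FT.node (nat_lit 1127) (FT.leaf (Fct.mk true (nat_lit 5) (nat_lit 102) (nat_lit 23) [nat_lit 5, nat_lit 2, nat_lit 3, nat_lit 4, nat_lit 1, nat_lit 2, nat_lit 3, nat_lit 8, nat_lit 0, nat_lit 1, nat_lit 2, nat_lit 3, nat_lit 4, nat_lit 5, nat_lit 4, nat_lit 3, nat_lit 2, nat_lit 8, nat_lit 3, nat_lit 10, nat_lit 9, nat_lit 2, nat_lit 16, nat_lit 15, nat_lit 14, nat_lit 8] (Rl.t1 (nat_lit 1125) (nat_lit 493)))) (FT.leaf (Fct.mk false (nat_lit 23) (nat_lit 0) (nat_lit 23) [nat_lit 1, nat_lit 2, nat_lit 3, nat_lit 8, nat_lit 0, nat_lit 1, nat_lit 2, nat_lit 3, nat_lit 4, nat_lit 5, nat_lit 4, nat_lit 3, nat_lit 2, nat_lit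 8, nat_lit 3, nat_lit 0, nat_lit 2, nat_lit 15, nat_lit 14] (Rl.cmp (nat_lit 1079) (nat_lit 1065)))))) (FT.node (nat_lit 1129) (FT.leaf (Fct.mk true (nat_lit 5) (nat_lit 153) (nat_lit 5) [nat_lit 3, nat_lit 11, nat_lit 10, nat_lit 16, nat_lit 15, nat_lit 14, nat_lit 13, nat_lit 16] (Rl.rel (nat_lit 0) [nat_lit 8, nat_lit 3, nat_lit 4, nat_lit 5, nat_lit 1, nat_lit 4, nat_lit 3, nat_lit 2, nat_lit 0, nat_lit 1, nat_lit 9, nat_lit 4, nat_lit 3, nat_lit 2, nat_lit 8, nat_lit 3, nat_lit 10, nat_lit 9, nat_lit 2, nat_lit 15, nat_lit 13, nat_lit 18] (nat_lit 5) (nat_lit 2) [nat_lit 1126, nat_lit 1127, nat_lit 1124] []))) (FT.node (nat_lit 1130) (FT.leaf (Fct.mk false (nat_lit 23) (nat_lit 0) (nat_lit 23) [nat_lit 4, nat_lit 3, nat_lit 8, nat_lit 2, nat_lit 3, nat_lit 4, nat_lit 5, nat_lit 3, nat_lit 10, nat_lit 0, nat_lit 12, nat_lit 18] (Rl.cmp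 (nat_lit 1070) (nat_lit 1065)))) (FT.leaf (Fct.mk false (nat_lit 23) (nat_lit 0) (nat_lit 23) [nat_lit 4, nat_lit 3, nat_lit 8, nat_lit 2, nat_lit 3, nat_lit 4, nat_lit 5, nat_lit 8, nat_lit 3, nat_lit 8, nat_lit 10, nat_lit 12, nat_lit 18] (Rl.cmp (nat_lit 1079) (nat_lit 1129))))))) (FT.node (nat_lit 1134) (FT.node (nat_lit 1132) (FT.leaf (Fct.mk false (nat_lit 23) (nat_lit 0) (nat_lit 23) [nat_lit 4, nat_lit 3, nat_lit 8, nat_lit 2, nat_lit 3, nat_lit 4, nat_lit 5, nat_lit 8, nat_lit 10, nat_lit 0, nat_lit 12, nat_lit 18] (Rl.cmp (nat_lit 1079) (nat_lit 1130)))) (FT.node (nat_lit 1133) (FT.leaf (Fct.mk true (nat_lit 12) (nat_lit 4542) (nat_lit 5) [nat_lit 3, nat_lit 4, nat_lit 5, nat_lit 4, nat_lit 15, nat_lit 16] (Rl.rel (nat_lit 0) [nat_lit 8, nat_lit 3, nat_lit 4, nat_lit 2, nat_lit 3, nat_lit 8, nat_lit 1, nat_lit 2, nat_lit 3, nat_lit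 4, nat_lit 5, nat_lit 12, nat_lit 15, nat_lit 16, nat_lit 8, nat_lit 18, nat_lit 16] (nat_lit 5) (nat_lit 2) [nat_lit 1122, nat_lit 771] []))) (FT.leaf (Fct.mk true (nat_lit 12) (nat_lit 124) (nat_lit 5) [nat_lit 2, nat_lit 3, nat_lit 4, nat_lit 5, nat_lit 4, nat_lit 9, nat_lit 12, nat_lit 15] (Rl.t1 (nat_lit 1132) (nat_lit 786)))))) (FT.node (nat_lit 1135) (FT.leaf (Fct.mk true (nat_lit 5) (nat_lit 4649) (nat_lit 12) [nat_lit 4, nat_lit 5, nat_lit 3, nat_lit 11, nat_lit 10, nat_lit 1, nat_lit 15, nat_lit 13, nat_lit 16] (Rl.inv (nat_lit 1133)))) (FT.node (nat_lit 1136) (FT.leaf (Fct.mk false (nat_lit 12) (nat_lit 0) (nat_lit 12) [nat_lit 6, nat_lit 3, nat_lit 10, nat_lit 16] (Rl.cmp (nat_lit 774) (nat_lit 807)))) (FT.leaf (Fct.mk true (nat_lit 12) (nat_lit 368) (nat_lit 23) [nat_lit 6, nat_lit 5, nat_lit 4, nat_lit 3, nat_lit 8, nat_lit 2,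 nat_lit 3, nat_lit 4, nat_lit 5, nat_lit 4, nat_lit 3, nat_lit 2, nat_lit 1, nat_lit 8, nat_lit 3, nat_lit 2, nat_lit 0, nat_lit 1, nat_lit 4, nat_lit 3, nat_lit 2, nat_lit 8, nat_lit 3, nat_lit 10, nat_lit 0, nat_lit 8, nat_lit 12, nat_lit 15, nat_lit 14, nat_lit 17] (Rl.rel (nat_lit 0) [nat_lit 3, nat_lit 4, nat_lit 2, nat_lit 3, nat_lit 8, nat_lit 1, nat_lit 2, nat_lit 3, nat_lit 4, nat_lit 5, nat_lit 0, nat_lit 1, nat_lit 4, nat_lit 3, nat_lit 2, nat_lit 8, nat_lit 3, nat_lit 10, nat_lit 1, nat_lit 16, nat_lit 8, nat_lit 18] (nat_lit 5) (nat_lit 1) [nat_lit 1134] [nat_lit 488, nat_lit 1092]))))))) (FT.node (nat_lit 1143) (FT.node (nat_lit 1140) (FT.node (nat_lit 1138) (FT.leaf (Fct.mk true (nat_lit 12) (nat_lit 86) (nat_lit 23) [nat_lit 5, nat_lit 4, nat_lit 3, nat_lit 8, nat_lit 2, nat_lit 3, nat_lit 4, nat_lit 5, nat_lit 2, nat_lit 1,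 nat_lit 8, nat_lit 3, nat_lit 2, nat_lit 0, nat_lit 1, nat_lit 4, nat_lit 3, nat_lit 2, nat_lit 8, nat_lit 3, nat_lit 10, nat_lit 9, nat_lit 2, nat_lit 8, nat_lit 16, nat_lit 15, nat_lit 14, nat_lit 8, nat_lit 19] (Rl.t1 (nat_lit 1136) (nat_lit 1135)))) (FT.node (nat_lit 1139) (FT.leaf (Fct.mk false (nat_lit 13) (nat_lit 0) (nat_lit 13) [nat_lit 8, nat_lit 4, nat_lit 5, nat_lit 2, nat_lit 3, nat_lit 4, nat_lit 1, nat_lit 2, nat_lit 3, nat_lit 8, nat_lit 0, nat_lit 1, nat_lit 2, nat_lit 3, nat_lit 4, nat_lit 5, nat_lit 4, nat_lit 2, nat_lit 10, nat_lit 1, nat_lit 8, nat_lit 12, nat_lit 15, nat_lit 14, nat_lit 18] (Rl.rel (nat_lit 0) [nat_lit 3, nat_lit 8, nat_lit 2, nat_lit 3, nat_lit 4, nat_lit 1, nat_lit 2, nat_lit 3, nat_lit 8, nat_lit 0, nat_lit 1, nat_lit 2, nat_lit 3, nat_lit 4, nat_lit 5, nat_lit 1, nat_lit 4, nat_lit 3, nat_lit 2, nat_lit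 8, nat_lit 3, nat_lit 10, nat_lit 1, nat_lit 16, nat_lit 8, nat_lit 18] (nat_lit 5) (nat_lit 2) [nat_lit 1134, nat_lit 776, nat_lit 849] [nat_lit 832]))) (FT.leaf (Fct.mk true (nat_lit 13) (nat_lit 2) (nat_lit 4) [nat_lit 3, nat_lit 8, nat_lit 2, nat_lit 3, nat_lit 4, nat_lit 5, nat_lit 3, nat_lit 15, nat_lit 16, nat_lit 8, nat_lit 16] (Rl.t1 (nat_lit 824) (nat_lit 1138)))))) (FT.node (nat_lit 1141) (FT.leaf (Fct.mk false (nat_lit 13) (nat_lit 0) (nat_lit 13) [nat_lit 8, nat_lit 4, nat_lit 5, nat_lit 3, nat_lit 4, nat_lit 1, nat_lit 2, nat_lit 3, nat_lit 8, nat_lit 0, nat_lit 1, nat_lit 2, nat_lit 3, nat_lit 4, nat_lit 5, nat_lit 9, nat_lit 4, nat_lit 2, nat_lit 10, nat_lit 1, nat_lit 8, nat_lit 12, nat_lit 15, nat_lit 14, nat_lit 18] (Rl.cmp (nat_lit 1138) (nat_lit 841)))) (FT.node (nat_lit 1142) (FT.leaf (Fct.mk true (nat_lit 13) (nat_lit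 1) (nat_lit 5) [nat_lit 4, nat_lit 5, nat_lit 3, nat_lit 4, nat_lit 1, nat_lit 2, nat_lit 3, nat_lit 8, nat_lit 0, nat_lit 1, nat_lit 2, nat_lit 3, nat_lit 4, nat_lit 5, nat_lit 2, nat_lit 0, nat_lit 1, nat_lit 3, nat_lit 2, nat_lit 8, nat_lit 3, nat_lit 11, nat_lit 8, nat_lit 16, nat_lit 15, nat_lit 14, nat_lit 17, nat_lit 12, nat_lit 18] (Rl.t1 (nat_lit 834) (nat_lit 1140)))) (FT.leaf (Fct.mk false (nat_lit 13) (nat_lit 0) (nat_lit 13) [nat_lit 5, nat_lit 10, nat_lit 0, nat_lit 12] (Rl.cmp (nat_lit 831) (nat_lit 827))))))) (FT.node (nat_lit 1146) (FT.node (nat_lit 1144) (FT.leaf (Fct.mk false (nat_lit 13) (nat_lit 0) (nat_lit 13) [nat_lit 3, nat_lit 8, nat_lit 2, nat_lit 3, nat_lit 4, nat_lit 1, nat_lit 2, nat_lit 3, nat_lit 8, nat_lit 0, nat_lit 1, nat_lit 2, nat_lit 3, nat_lit 4, nat_lit 5, nat_lit 4, nat_lit 3, nat_lit 2, nat_lit 1, nat_lit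 8, nat_lit 3, nat_lit 2, nat_lit 0, nat_lit 1, nat_lit 4, nat_lit 3, nat_lit 2, nat_lit 8, nat_lit 3, nat_lit 0] (Rl.cmp (nat_lit 1138) (nat_lit 1142)))) (FT.node (nat_lit 1145) (FT.leaf (Fct.mk true (nat_lit 13) (nat_lit 9) (nat_lit 9) [nat_lit 8, nat_lit 3, nat_lit 4, nat_lit 2, nat_lit 3, nat_lit 8, nat_lit 1, nat_lit 2, nat_lit 3, nat_lit 4, nat_lit 5, nat_lit 8, nat_lit 3, nat_lit 2, nat_lit 0, nat_lit 1, nat_lit 4, nat_lit 3, nat_lit 2, nat_lit 8, nat_lit 3, nat_lit 11, nat_lit 2, nat_lit 8, nat_lit 16, nat_lit 15, nat_lit 14, nat_lit 16, nat_lit 8] (Rl.t1 (nat_lit 838) (nat_lit 1143)))) (FT.leaf (Fct.mk false (nat_lit 13) (nat_lit 0) (nat_lit 13) [nat_lit 8, nat_lit 4, nat_lit 5, nat_lit 2, nat_lit 3, nat_lit 4, nat_lit 1, nat_lit 2, nat_lit 3, nat_lit 8, nat_lit 0, nat_lit 1, nat_lit 2, nat_lit 3, nat_lit 4, nat_lit 5, nat_lit 3, nat_lit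 2, nat_lit 1, nat_lit 8, nat_lit 3, nat_lit 2, nat_lit 0, nat_lit 1, nat_lit 9, nat_lit 4, nat_lit 3, nat_lit 2, nat_lit 8, nat_lit 3, nat_lit 9, nat_lit 16, nat_lit 8, nat_lit 19] (Rl.cmp (nat_lit 1138) (nat_lit 821)))))) (FT.node (nat_lit 1148) (FT.node (nat_lit 1147) (FT.leaf (Fct.mk false (nat_lit 13) (nat_lit 0) (nat_lit 13) [nat_lit 3, nat_lit 8, nat_lit 2, nat_lit 3, nat_lit 4, nat_lit 1, nat_lit 2, nat_lit 3, nat_lit 8, nat_lit 0, nat_lit 1, nat_lit 2, nat_lit 3, nat_lit 4, nat_lit 5, nat_lit 11, nat_lit 2, nat_lit 8, nat_lit 10, nat_lit 1, nat_lit 8, nat_lit 12, nat_lit 15, nat_lit 14, nat_lit 17, nat_lit 18] (Rl.cmp (nat_lit 841) (nat_lit 1145)))) (FT.leaf (Fct.mk true (nat_lit 13) (nat_lit 6723) (nat_lit 19) [nat_lit 4, nat_lit 2, nat_lit 3, nat_lit 8, nat_lit 7, nat_lit 5, nat_lit 6, nat_lit 4, nat_lit 5, nat_lit 3, nat_lit 4, nat_lit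 2, nat_lit 3, nat_lit 8, nat_lit 0, nat_lit 1, nat_lit 2, nat_lit 3, nat_lit 4, nat_lit 5, nat_lit 6, nat_lit 7, nat_lit 1, nat_lit 2, nat_lit 3, nat_lit 8, nat_lit 0, nat_lit 1, nat_lit 2, nat_lit 3, nat_lit 4, nat_lit 5, nat_lit 2, nat_lit 1, nat_lit 3, nat_lit 2, nat_lit 0, nat_lit 1, nat_lit 4, nat_lit 3, nat_lit 2, nat_lit 8, nat_lit 3, nat_lit 11, nat_lit 8, nat_lit 10, nat_lit 1, nat_lit 12, nat_lit 15, nat_lit 12, nat_lit 18] (Rl.t1 (nat_lit 1039) (nat_lit 1146))))) (FT.node (nat_lit 1149) (FT.leaf (Fct.mk false (nat_lit 13) (nat_lit 0) (nat_lit 13) [nat_lit 3, nat_lit 8, nat_lit 2, nat_lit 3, nat_lit 4, nat_lit 1, nat_lit 2, nat_lit 3, nat_lit 8, nat_lit 0, nat_lit 1, nat_lit 2, nat_lit 3, nat_lit 4, nat_lit 5, nat_lit 4, nat_lit 3, nat_lit 2, nat_lit 1, nat_lit 8, nat_lit 3, nat_lit 2, nat_lit 0, nat_lit 1, nat_lit 4, nat_lit 3, nat_lit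 2, nat_lit 8, nat_lit 3] (Rl.cmp (nat_lit 1138) (nat_lit 831)))) (FT.leaf (Fct.mk true (nat_lit 13) (nat_lit 19) (nat_lit 23) [nat_lit 3, nat_lit 8, nat_lit 2, nat_lit 3, nat_lit 4, nat_lit 5, nat_lit 3, nat_lit 8, nat_lit 10, nat_lit 0, nat_lit 12, nat_lit 19, nat_lit 16] (Rl.t1 (nat_lit 1095) (nat_lit 1148)))))))))

/-- some facts -/
noncomputable def ftc23 : FT := FT.node (nat_lit 1175) (FT.node (nat_lit 1162) (FT.node (nat_lit 1156) (FT.node (nat_lit 1153) (FT.node (nat_lit 1151) (FT.leaf (Fct.mk false (nat_lit 13) (nat_lit 0) (nat_lit 13) [nat_lit 8, nat_lit 4, nat_lit 5, nat_lit 2, nat_lit 3, nat_lit 4, nat_lit 1, nat_lit 2, nat_lit 3, nat_lit 8, nat_lit 0, nat_lit 1, nat_lit 2, nat_lit 3, nat_lit 4, nat_lit 5, nat_lit 4, nat_lit 10, nat_lit 1, nat_lit 8, nat_lit 12, nat_lit 15, nat_lit 14, nat_lit 18] (Rl.cmp (nat_lit 1138) (nat_lit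 814)))) (FT.node (nat_lit 1152) (FT.leaf (Fct.mk false (nat_lit 13) (nat_lit 0) (nat_lit 13) [nat_lit 3, nat_lit 4, nat_lit 5, nat_lit 9, nat_lit 4, nat_lit 0, nat_lit 16] (Rl.cmp (nat_lit 841) (nat_lit 827)))) (FT.leaf (Fct.mk false (nat_lit 13) (nat_lit 0) (nat_lit 13) [nat_lit 8, nat_lit 4, nat_lit 5, nat_lit 3, nat_lit 4, nat_lit 1, nat_lit 2, nat_lit 3, nat_lit 8, nat_lit 0, nat_lit 1, nat_lit 2, nat_lit 3, nat_lit 4, nat_lit 5, nat_lit 9, nat_lit 4, nat_lit 2, nat_lit 8, nat_lit 10, nat_lit 1, nat_lit 8, nat_lit 12, nat_lit 15, nat_lit 14, nat_lit 18] (Rl.cmp (nat_lit 1138) (nat_lit 1151)))))) (FT.node (nat_lit 1154) (FT.leaf (Fct.mk true (nat_lit 12) (nat_lit 50) (nat_lit 3) [nat_lit 8, nat_lit 5, nat_lit 2, nat_lit 3, nat_lit 4, nat_lit 1, nat_lit 2, nat_lit 3, nat_lit 8, nat_lit 0, nat_lit 1, nat_lit 2, nat_lit 3, nat_lit 4, nat_lit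 5, nat_lit 0, nat_lit 1, nat_lit 3, nat_lit 2, nat_lit 8, nat_lit 3, nat_lit 15, nat_lit 14, nat_lit 8, nat_lit 19] (Rl.rel (nat_lit 0) [nat_lit 4, nat_lit 5, nat_lit 2, nat_lit 3, nat_lit 4, nat_lit 1, nat_lit 2, nat_lit 3, nat_lit 8, nat_lit 0, nat_lit 1, nat_lit 2, nat_lit 3, nat_lit 4, nat_lit 5, nat_lit 1, nat_lit 3, nat_lit 2, nat_lit 8, nat_lit 3, nat_lit 12, nat_lit 15, nat_lit 14, nat_lit 16, nat_lit 8, nat_lit 18, nat_lit 16] (nat_lit 5) (nat_lit 1) [nat_lit 1134] [nat_lit 487]))) (FT.node (nat_lit 1155) (FT.leaf (Fct.mk true (nat_lit 3) (nat_lit 33) (nat_lit 12) [nat_lit 8, nat_lit 5, nat_lit 3, nat_lit 4, nat_lit 1, nat_lit 2, nat_lit 3, nat_lit 8, nat_lit 0, nat_lit 1, nat_lit 2, nat_lit 3, nat_lit 4, nat_lit 5, nat_lit 0, nat_lit 1, nat_lit 3, nat_lit 2, nat_lit 8, nat_lit 3, nat_lit 0, nat_lit 15, nat_lit 14, nat_lit 8, nat_lit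 19] (Rl.inv (nat_lit 1153)))) (FT.leaf (Fct.mk false (nat_lit 12) (nat_lit 0) (nat_lit 12) [nat_lit 5, nat_lit 9] (Rl.cmp (nat_lit 772) (nat_lit 773))))))) (FT.node (nat_lit 1159) (FT.node (nat_lit 1157) (FT.leaf (Fct.mk true (nat_lit 23) (nat_lit 1006) (nat_lit 3) [nat_lit 4, nat_lit 5, nat_lit 3, nat_lit 8, nat_lit 10, nat_lit 19, nat_lit 16] (Rl.rel (nat_lit 0) [nat_lit 8, nat_lit 3, nat_lit 4, nat_lit 2, nat_lit 3, nat_lit 8, nat_lit 1, nat_lit 2, nat_lit 3, nat_lit 4, nat_lit 5, nat_lit 0, nat_lit 1, nat_lit 2, nat_lit 3, nat_lit 10, nat_lit 8] (nat_lit 3) (nat_lit 2) [nat_lit 1154, nat_lit 1155, nat_lit 1137] []))) (FT.node (nat_lit 1158) (FT.leaf (Fct.mk true (nat_lit 23) (nat_lit 989) (nat_lit 3) [nat_lit 5, nat_lit 2, nat_lit 3, nat_lit 4, nat_lit 1, nat_lit 2, nat_lit 3, nat_lit 8, nat_lit 0, nat_lit 1, nat_lit 2, nat_lit 3, nat_lit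 4, nat_lit 5, nat_lit 0, nat_lit 1, nat_lit 3, nat_lit 2, nat_lit 8, nat_lit 3, nat_lit 2, nat_lit 8, nat_lit 10, nat_lit 1, nat_lit 12, nat_lit 15, nat_lit 8, nat_lit 19, nat_lit 16] (Rl.t1 (nat_lit 1156) (nat_lit 1065)))) (FT.leaf (Fct.mk true (nat_lit 3) (nat_lit 201) (nat_lit 23) [nat_lit 5, nat_lit 2, nat_lit 3, nat_lit 4, nat_lit 1, nat_lit 2, nat_lit 3, nat_lit 8, nat_lit 0, nat_lit 1, nat_lit 2, nat_lit 3, nat_lit 4, nat_lit 5, nat_lit 0, nat_lit 1, nat_lit 9, nat_lit 4, nat_lit 3, nat_lit 2, nat_lit 8, nat_lit 3, nat_lit 11, nat_lit 2, nat_lit 15, nat_lit 14, nat_lit 13, nat_lit 19] (Rl.inv (nat_lit 1157)))))) (FT.node (nat_lit 1160) (FT.leaf (Fct.mk false (nat_lit 3) (nat_lit 0) (nat_lit 3) [nat_lit 6, nat_lit 0, nat_lit 1, nat_lit 2, nat_lit 3, nat_lit 1, nat_lit 0, nat_lit 2, nat_lit 14, nat_lit 12] (Rl.cmp (nat_lit 206) (nat_lit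 536)))) (FT.node (nat_lit 1161) (FT.leaf (Fct.mk false (nat_lit 3) (nat_lit 0) (nat_lit 3) [nat_lit 6, nat_lit 0, nat_lit 1, nat_lit 2, nat_lit 3, nat_lit 11, nat_lit 2, nat_lit 10, nat_lit 1, nat_lit 15, nat_lit 13] (Rl.cmp (nat_lit 195) (nat_lit 1159)))) (FT.leaf (Fct.mk false (nat_lit 3) (nat_lit 0) (nat_lit 3) [nat_lit 4, nat_lit 5, nat_lit 2, nat_lit 3, nat_lit 11, nat_lit 2, nat_lit 10, nat_lit 1, nat_lit 15, nat_lit 13, nat_lit 16] (Rl.cmp (nat_lit 206) (nat_lit 1160)))))))) (FT.node (nat_lit 1168) (FT.node (nat_lit 1165) (FT.node (nat_lit 1163) (FT.leaf (Fct.mk false (nat_lit 23) (nat_lit 0) (nat_lit 23) [nat_lit 1, nat_lit 8, nat_lit 3, nat_lit 2, nat_lit 0, nat_lit 1, nat_lit 4, nat_lit 3, nat_lit 2, nat_lit 8, nat_lit 3, nat_lit 8, nat_lit 10, nat_lit 1, nat_lit 8, nat_lit 12, nat_lit 15, nat_lit 14, nat_lit 18] (Rl.cmp (nat_lit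 1065) (nat_lit 1070)))) (FT.node (nat_lit 1164) (FT.leaf (Fct.mk true (nat_lit 4) (nat_lit 3334) (nat_lit 13) [nat_lit 2, nat_lit 3, nat_lit 8, nat_lit 1, nat_lit 2, nat_lit 3, nat_lit 4, nat_lit 5, nat_lit 9, nat_lit 4, nat_lit 1, nat_lit 0, nat_lit 2, nat_lit 14, nat_lit 13, nat_lit 18] (Rl.rel (nat_lit 0) [nat_lit 8, nat_lit 3, nat_lit 2, nat_lit 0, nat_lit 1, nat_lit 4, nat_lit 3, nat_lit 2, nat_lit 8, nat_lit 3, nat_lit 10, nat_lit 1, nat_lit 15, nat_lit 8, nat_lit 18] (nat_lit 13) (nat_lit 2) [nat_lit 1149, nat_lit 1082, nat_lit 1086] []))) (FT.leaf (Fct.mk false (nat_lit 13) (nat_lit 0) (nat_lit 13) [nat_lit 3, nat_lit 8, nat_lit 2, nat_lit 3, nat_lit 4, nat_lit 1, nat_lit 2, nat_lit 3, nat_lit 8, nat_lit 0, nat_lit 1, nat_lit 2, nat_lit 3, nat_lit 4, nat_lit 5, nat_lit 9, nat_lit 4, nat_lit 11, nat_lit 2, nat_lit 10, nat_lit 1, nat_lit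 8, nat_lit 12, nat_lit 15, nat_lit 14, nat_lit 8, nat_lit 18] (Rl.cmp (nat_lit 841) (nat_lit 1138)))))) (FT.node (nat_lit 1166) (FT.leaf (Fct.mk true (nat_lit 9) (nat_lit 14973) (nat_lit 9) [nat_lit 8, nat_lit 6, nat_lit 4, nat_lit 5, nat_lit 2, nat_lit 3, nat_lit 4, nat_lit 1, nat_lit 2, nat_lit 3, nat_lit 8, nat_lit 0, nat_lit 1, nat_lit 2, nat_lit 3, nat_lit 4, nat_lit 5, nat_lit 1, nat_lit 3, nat_lit 2, nat_lit 0, nat_lit 1, nat_lit 9, nat_lit 4, nat_lit 3, nat_lit 2, nat_lit 8, nat_lit 3, nat_lit 1, nat_lit 8, nat_lit 18, nat_lit 16] (Rl.rel (nat_lit 0) [nat_lit 8, nat_lit 3, nat_lit 4, nat_lit 5, nat_lit 4, nat_lit 2, nat_lit 8, nat_lit 10, nat_lit 1, nat_lit 14, nat_lit 8] (nat_lit 13) (nat_lit 1) [nat_lit 1144] [nat_lit 1152, nat_lit 1144]))) (FT.node (nat_lit 1167) (FT.leaf (Fct.mk true (nat_lit 9) (nat_lit 1189) (nat_lit 9) [nat_lit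 3, nat_lit 8, nat_lit 6, nat_lit 4, nat_lit 5, nat_lit 3, nat_lit 4, nat_lit 2, nat_lit 3, nat_lit 8, nat_lit 1, nat_lit 2, nat_lit 3, nat_lit 4, nat_lit 5, nat_lit 3, nat_lit 2, nat_lit 1, nat_lit 8, nat_lit 3, nat_lit 2, nat_lit 0, nat_lit 1, nat_lit 9, nat_lit 4, nat_lit 3, nat_lit 2, nat_lit 8, nat_lit 3, nat_lit 1, nat_lit 8, nat_lit 18, nat_lit 16] (Rl.t1 (nat_lit 1165) (nat_lit 698)))) (FT.leaf (Fct.mk true (nat_lit 4) (nat_lit 1320) (nat_lit 9) [nat_lit 5, nat_lit 4, nat_lit 3, nat_lit 8, nat_lit 2, nat_lit 3, nat_lit 4, nat_lit 5, nat_lit 1, nat_lit 3, nat_lit 8, nat_lit 4, nat_lit 3, nat_lit 2, nat_lit 0, nat_lit 1, nat_lit 9, nat_lit 4, nat_lit 3, nat_lit 2, nat_lit 8, nat_lit 3, nat_lit 2, nat_lit 8, nat_lit 12, nat_lit 15, nat_lit 14, nat_lit 13, nat_lit 12, nat_lit 19, nat_lit 16] (Rl.rel (nat_lit 0) [nat_lit 8, nat_lit 3, nat_lit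 4, nat_lit 2, nat_lit 3, nat_lit 8, nat_lit 1, nat_lit 2, nat_lit 3, nat_lit 4, nat_lit 5, nat_lit 3, nat_lit 2, nat_lit 1, nat_lit 8, nat_lit 3, nat_lit 2, nat_lit 0, nat_lit 1, nat_lit 9, nat_lit 4, nat_lit 3, nat_lit 2, nat_lit 8, nat_lit 3, nat_lit 11, nat_lit 2, nat_lit 16, nat_lit 14, nat_lit 12, nat_lit 18] (nat_lit 9) (nat_lit 2) [nat_lit 1166, nat_lit 676, nat_lit 670] [])))))) (FT.node (nat_lit 1171) (FT.node (nat_lit 1169) (FT.leaf (Fct.mk false (nat_lit 9) (nat_lit 0) (nat_lit 9) [nat_lit 0, nat_lit 1, nat_lit 2, nat_lit 3, nat_lit 0, nat_lit 15] (Rl.cmp (nat_lit 658) (nat_lit 658)))) (FT.node (nat_lit 1170) (FT.leaf (Fct.mk true (nat_lit 4) (nat_lit 149) (nat_lit 4) [nat_lit 23] (Rl.rel (nat_lit 0) [nat_lit 8, nat_lit 3, nat_lit 4, nat_lit 5, nat_lit 2, nat_lit 1, nat_lit 3, nat_lit 2, nat_lit 0, nat_lit 1, nat_lit 4, nat_lit 3,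 nat_lit 2, nat_lit 8, nat_lit 3] (nat_lit 13) (nat_lit 1) [nat_lit 1139] [nat_lit 1150, nat_lit 1139]))) (FT.leaf (Fct.mk false (nat_lit 4) (nat_lit 0) (nat_lit 4) [nat_lit 8, nat_lit 3, nat_lit 4, nat_lit 2, nat_lit 3, nat_lit 8, nat_lit 1, nat_lit 2, nat_lit 3, nat_lit 4, nat_lit 5, nat_lit 4, nat_lit 3, nat_lit 2, nat_lit 8, nat_lit 3, nat_lit 10, nat_lit 1, nat_lit 8, nat_lit 18] (Rl.cmp (nat_lit 239) (nat_lit 234)))))) (FT.node (nat_lit 1173) (FT.node (nat_lit 1172) (FT.leaf (Fct.mk false (nat_lit 4) (nat_lit 0) (nat_lit 4) [nat_lit 8, nat_lit 3, nat_lit 4, nat_lit 2, nat_lit 3, nat_lit 8, nat_lit 1, nat_lit 2, nat_lit 3, nat_lit 4, nat_lit 5, nat_lit 4, nat_lit 3, nat_lit 2, nat_lit 8, nat_lit 3, nat_lit 10, nat_lit 1, nat_lit 8, nat_lit 18] (Rl.cmp (nat_lit 239) (nat_lit 234)))) (FT.leaf (Fct.mk false (nat_lit 23) (nat_lit 0) (nat_lit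 23) [nat_lit 1, nat_lit 2, nat_lit 3, nat_lit 8, nat_lit 0, nat_lit 1, nat_lit 2, nat_lit 3, nat_lit 4, nat_lit 5, nat_lit 4, nat_lit 3, nat_lit 2, nat_lit 8, nat_lit 3, nat_lit 0, nat_lit 2, nat_lit 15, nat_lit 14] (Rl.cmp (nat_lit 1079) (nat_lit 1065))))) (FT.node (nat_lit 1174) (FT.leaf (Fct.mk false (nat_lit 23) (nat_lit 0) (nat_lit 23) [nat_lit 1, nat_lit 2, nat_lit 3, nat_lit 8, nat_lit 0, nat_lit 1, nat_lit 2, nat_lit 3, nat_lit 4, nat_lit 5, nat_lit 1, nat_lit 4, nat_lit 3, nat_lit 2, nat_lit 8, nat_lit 3, nat_lit 15, nat_lit 14] (Rl.cmp (nat_lit 1079) (nat_lit 1172)))) (FT.leaf (Fct.mk false (nat_lit 23) (nat_lit 0) (nat_lit 23) [nat_lit 1, nat_lit 2, nat_lit 3, nat_lit 8, nat_lit 0, nat_lit 1, nat_lit 2, nat_lit 3, nat_lit 4, nat_lit 5, nat_lit 0, nat_lit 1, nat_lit 4, nat_lit 3, nat_lit 2, nat_lit 8, nat_lit 3, nat_lit 0, nat_lit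 2, nat_lit 15, nat_lit 14] (Rl.cmp (nat_lit 1079) (nat_lit 1173))))))))) (FT.node (nat_lit 1187) (FT.node (nat_lit 1181) (FT.node (nat_lit 1178) (FT.node (nat_lit 1176) (FT.leaf (Fct.mk false (nat_lit 23) (nat_lit 0) (nat_lit 23) [nat_lit 1, nat_lit 2, nat_lit 3, nat_lit 8, nat_lit 0, nat_lit 1, nat_lit 2, nat_lit 3, nat_lit 4, nat_lit 5, nat_lit 2, nat_lit 1, nat_lit 3, nat_lit 2, nat_lit 8, nat_lit 3, nat_lit 8, nat_lit 10, nat_lit 1, nat_lit 12, nat_lit 15, nat_lit 18] (Rl.cmp (nat_lit 1070) (nat_lit 1079)))) (FT.node (nat_lit 1177) (FT.leaf (Fct.mk false (nat_lit 23) (nat_lit 0) (nat_lit 23) [nat_lit 1, nat_lit 8, nat_lit 3, nat_lit 2, nat_lit 0, nat_lit 1, nat_lit 4, nat_lit 3, nat_lit 2, nat_lit 8, nat_lit 3, nat_lit 8, nat_lit 10, nat_lit 1, nat_lit 8, nat_lit 12, nat_lit 15, nat_lit 14, nat_lit 18] (Rl.cmp (nat_lit 1065) (nat_lit 1070))))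 (FT.leaf (Fct.mk true (nat_lit 2) (nat_lit 54) (nat_lit 24) [] (Rl.df))))) (FT.node (nat_lit 1179) (FT.leaf (Fct.mk true (nat_lit 24) (nat_lit 54) (nat_lit 2) [] (Rl.inv (nat_lit 1177)))) (FT.node (nat_lit 1180) (FT.leaf (Fct.mk false (nat_lit 24) (nat_lit 0) (nat_lit 24) [nat_lit 4, nat_lit 3, nat_lit 8, nat_lit 1, nat_lit 2, nat_lit 3, nat_lit 4, nat_lit 5, nat_lit 3, nat_lit 2, nat_lit 1, nat_lit 4, nat_lit 3, nat_lit 2, nat_lit 8, nat_lit 3, nat_lit 1, nat_lit 8, nat_lit 18] (Rl.rel (nat_lit 0) [nat_lit 3, nat_lit 4, nat_lit 2, nat_lit 3, nat_lit 8, nat_lit 1, nat_lit 2, nat_lit 3, nat_lit 4, nat_lit 5, nat_lit 3, nat_lit 10, nat_lit 8] (nat_lit 24) (nat_lit 3) [nat_lit 1178, nat_lit 98, nat_lit 1177] []))) (FT.leaf (Fct.mk true (nat_lit 24) (nat_lit 8) (nat_lit 2) [nat_lit 8, nat_lit 3, nat_lit 4, nat_lit 2, nat_lit 3, nat_lit 8, nat_lit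 1, nat_lit 2, nat_lit 3, nat_lit 4, nat_lit 5, nat_lit 2, nat_lit 3, nat_lit 10, nat_lit 2, nat_lit 8, nat_lit 10, nat_lit 1, nat_lit 8] (Rl.t1 (nat_lit 1178) (nat_lit 1179))))))) (FT.node (nat_lit 1184) (FT.node (nat_lit 1182) (FT.leaf (Fct.mk false (nat_lit 24) (nat_lit 0) (nat_lit 24) [nat_lit 4, nat_lit 3, nat_lit 8, nat_lit 1, nat_lit 2, nat_lit 3, nat_lit 4, nat_lit 5, nat_lit 3, nat_lit 10, nat_lit 2, nat_lit 8, nat_lit 10, nat_lit 1] (Rl.rel (nat_lit 0) [nat_lit 3, nat_lit 4, nat_lit 2, nat_lit 3, nat_lit 8, nat_lit 1, nat_lit 2, nat_lit 3, nat_lit 4, nat_lit 5, nat_lit 2, nat_lit 3, nat_lit 10, nat_lit 8] (nat_lit 24) (nat_lit 3) [nat_lit 1179, nat_lit 1180, nat_lit 302, nat_lit 98, nat_lit 1177] []))) (FT.node (nat_lit 1183) (FT.leaf (Fct.mk false (nat_lit 2) (nat_lit 0) (nat_lit 2) [nat_lit 18] (Rl.cmp (nat_lit 86) (nat_lit 84))))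 (FT.leaf (Fct.mk false (nat_lit 24) (nat_lit 0) (nat_lit 24) [nat_lit 4, nat_lit 3, nat_lit 8, nat_lit 1, nat_lit 2, nat_lit 3, nat_lit 4, nat_lit 5, nat_lit 3, nat_lit 2, nat_lit 1, nat_lit 4, nat_lit 3, nat_lit 2, nat_lit 8, nat_lit 3, nat_lit 1, nat_lit 8] (Rl.rel (nat_lit 0) [nat_lit 3, nat_lit 4, nat_lit 2, nat_lit 3, nat_lit 8, nat_lit 1, nat_lit 2, nat_lit 3, nat_lit 4, nat_lit 5, nat_lit 10, nat_lit 8, nat_lit 18] (nat_lit 24) (nat_lit 3) [nat_lit 1179, nat_lit 1180, nat_lit 1182, nat_lit 98, nat_lit 1177] []))))) (FT.node (nat_lit 1185) (FT.leaf (Fct.mk true (nat_lit 4) (nat_lit 608) (nat_lit 24) [nat_lit 7, nat_lit 4, nat_lit 5, nat_lit 3, nat_lit 4, nat_lit 2, nat_lit 3, nat_lit 8, nat_lit 1, nat_lit 2, nat_lit 3, nat_lit 4, nat_lit 5, nat_lit 14, nat_lit 8, nat_lit 18] (Rl.rel (nat_lit 0) [nat_lit 3, nat_lit 4, nat_lit 2, nat_lit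 3, nat_lit 8, nat_lit 1, nat_lit 2, nat_lit 3, nat_lit 4, nat_lit 5, nat_lit 2, nat_lit 3, nat_lit 10, nat_lit 1, nat_lit 8] (nat_lit 24) (nat_lit 2) [nat_lit 1179, nat_lit 1180, nat_lit 418, nat_lit 237] []))) (FT.node (nat_lit 1186) (FT.leaf (Fct.mk true (nat_lit 4) (nat_lit 19) (nat_lit 24) [nat_lit 7, nat_lit 4, nat_lit 3, nat_lit 8, nat_lit 1, nat_lit 2, nat_lit 3, nat_lit 4, nat_lit 5, nat_lit 1, nat_lit 3, nat_lit 2, nat_lit 8, nat_lit 3, nat_lit 8, nat_lit 10, nat_lit 14, nat_lit 8] (Rl.t1 (nat_lit 1184) (nat_lit 421)))) (FT.leaf (Fct.mk false (nat_lit 24) (nat_lit 0) (nat_lit 24) [nat_lit 7, nat_lit 4, nat_lit 10, nat_lit 14, nat_lit 18] (Rl.rel (nat_lit 0) [nat_lit 3, nat_lit 4, nat_lit 2, nat_lit 3, nat_lit 8, nat_lit 1, nat_lit 2, nat_lit 3, nat_lit 4, nat_lit 5, nat_lit 2, nat_lit 10, nat_lit 1, nat_lit 8] (nat_lit 24) (nat_lit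 3) [nat_lit 1179, nat_lit 1180, nat_lit 394, nat_lit 237, nat_lit 1185] []))))))) (FT.node (nat_lit 1193) (FT.node (nat_lit 1190) (FT.node (nat_lit 1188) (FT.leaf (Fct.mk false (nat_lit 24) (nat_lit 0) (nat_lit 24) [nat_lit 8, nat_lit 3, nat_lit 4, nat_lit 2, nat_lit 3, nat_lit 8, nat_lit 1, nat_lit 2, nat_lit 3, nat_lit 4, nat_lit 5, nat_lit 1, nat_lit 2, nat_lit 3, nat_lit 2, nat_lit 10, nat_lit 1, nat_lit 14, nat_lit 8, nat_lit 18] (Rl.cmp (nat_lit 1183) (nat_lit 1181)))) (FT.node (nat_lit 1189) (FT.leaf (Fct.mk false (nat_lit 24) (nat_lit 0) (nat_lit 24) [nat_lit 8, nat_lit 1, nat_lit 2, nat_lit 3, nat_lit 4, nat_lit 5, nat_lit 3, nat_lit 2, nat_lit 1, nat_lit 4, nat_lit 3, nat_lit 2, nat_lit 8, nat_lit 3, nat_lit 1, nat_lit 8] (Rl.cmp (nat_lit 1183) (nat_lit 1187)))) (FT.leaf (Fct.mk false (nat_lit 24) (nat_lit 0) (nat_lit 24) [nat_lit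 7, nat_lit 8, nat_lit 3, nat_lit 4, nat_lit 5, nat_lit 1, nat_lit 4, nat_lit 3, nat_lit 2, nat_lit 8, nat_lit 3, nat_lit 1, nat_lit 14] (Rl.cmp (nat_lit 1186) (nat_lit 1188)))))) (FT.node (nat_lit 1191) (FT.leaf (Fct.mk true (nat_lit 24) (nat_lit 0) (nat_lit 2) [nat_lit 7, nat_lit 8, nat_lit 3, nat_lit 4, nat_lit 2, nat_lit 3, nat_lit 8, nat_lit 1, nat_lit 2, nat_lit 3, nat_lit 4, nat_lit 5, nat_lit 2, nat_lit 3, nat_lit 2, nat_lit 10, nat_lit 1, nat_lit 8] (Rl.t1 (nat_lit 1180) (nat_lit 1189)))) (FT.node (nat_lit 1192) (FT.leaf (Fct.mk false (nat_lit 24) (nat_lit 0) (nat_lit 24) [nat_lit 7, nat_lit 8, nat_lit 1, nat_lit 2, nat_lit 3, nat_lit 4, nat_lit 5, nat_lit 8, nat_lit 3, nat_lit 2, nat_lit 1, nat_lit 4, nat_lit 3, nat_lit 2, nat_lit 8, nat_lit 3, nat_lit 8, nat_lit 10, nat_lit 1, nat_lit 18] (Rl.cmp (nat_lit 1186) (nat_lit 1179)))) (FT.leaf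 (Fct.mk false (nat_lit 24) (nat_lit 0) (nat_lit 24) [nat_lit 8, nat_lit 3, nat_lit 4, nat_lit 5, nat_lit 3, nat_lit 2, nat_lit 1, nat_lit 4, nat_lit 3, nat_lit 2, nat_lit 8, nat_lit 3, nat_lit 2, nat_lit 10, nat_lit 1, nat_lit 14, nat_lit 18] (Rl.cmp (nat_lit 1186) (nat_lit 1191))))))) (FT.node (nat_lit 1196) (FT.node (nat_lit 1194) (FT.leaf (Fct.mk false (nat_lit 2) (nat_lit 0) (nat_lit 2) [nat_lit 1, nat_lit 8, nat_lit 3, nat_lit 2, nat_lit 0, nat_lit 1, nat_lit 4, nat_lit 3, nat_lit 2, nat_lit 8, nat_lit 3, nat_lit 2, nat_lit 10, nat_lit 1, nat_lit 8, nat_lit 12, nat_lit 15, nat_lit 14, nat_lit 8] (Rl.cmp (nat_lit 300) (nat_lit 173)))) (FT.node (nat_lit 1195) (FT.leaf (Fct.mk false (nat_lit 24) (nat_lit 0) (nat_lit 24) [nat_lit 8, nat_lit 3, nat_lit 4, nat_lit 2, nat_lit 3, nat_lit 8, nat_lit 1, nat_lit 2, nat_lit 3, nat_lit 4, nat_lit 5,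 nat_lit 3, nat_lit 10, nat_lit 2, nat_lit 8, nat_lit 10, nat_lit 1, nat_lit 8] (Rl.cmp (nat_lit 1179) (nat_lit 1179)))) (FT.leaf (Fct.mk false (nat_lit 24) (nat_lit 0) (nat_lit 24) [nat_lit 8, nat_lit 3, nat_lit 4, nat_lit 2, nat_lit 3, nat_lit 8, nat_lit 1, nat_lit 2, nat_lit 3, nat_lit 4, nat_lit 5, nat_lit 2, nat_lit 1, nat_lit 4, nat_lit 3, nat_lit 2, nat_lit 8, nat_lit 3, nat_lit 10, nat_lit 1, nat_lit 8, nat_lit 18] (Rl.cmp (nat_lit 1181) (nat_lit 1194)))))) (FT.node (nat_lit 1198) (FT.node (nat_lit 1197) (FT.leaf (Fct.mk true (nat_lit 24) (nat_lit 165) (nat_lit 24) [nat_lit 7, nat_lit 2, nat_lit 1, nat_lit 8, nat_lit 3, nat_lit 2, nat_lit 0, nat_lit 1, nat_lit 4, nat_lit 3, nat_lit 2, nat_lit 8, nat_lit 3, nat_lit 10, nat_lit 1, nat_lit 8, nat_lit 12, nat_lit 15, nat_lit 14] (Rl.rel (nat_lit 0) [nat_lit 3, nat_lit 8, nat_lit 4, nat_lit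 5, nat_lit 3, nat_lit 4, nat_lit 2, nat_lit 3, nat_lit 8, nat_lit 1, nat_lit 2, nat_lit 3, nat_lit 4, nat_lit 5, nat_lit 3, nat_lit 8] (nat_lit 24) (nat_lit 2) [nat_lit 1192, nat_lit 1190, nat_lit 1193, nat_lit 1177] []))) (FT.leaf (Fct.mk true (nat_lit 24) (nat_lit 12) (nat_lit 24) [nat_lit 7, nat_lit 8, nat_lit 3, nat_lit 4, nat_lit 2, nat_lit 3, nat_lit 8, nat_lit 1, nat_lit 2, nat_lit 3, nat_lit 4, nat_lit 5, nat_lit 2, nat_lit 0, nat_lit 1, nat_lit 3, nat_lit 2, nat_lit 8, nat_lit 3, nat_lit 8, nat_lit 12, nat_lit 15, nat_lit 14, nat_lit 12, nat_lit 18] (Rl.t1 (nat_lit 1196) (nat_lit 1195))))) (FT.node (nat_lit 1199) (FT.leaf (Fct.mk false (nat_lit 2) (nat_lit 0) (nat_lit 2) [nat_lit 4, nat_lit 3, nat_lit 2, nat_lit 8, nat_lit 3, nat_lit 8, nat_lit 10, nat_lit 0, nat_lit 12] (Rl.cmp (nat_lit 173) (nat_lit 88)))) (FT.leaf (Fct.mk false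 (nat_lit 2) (nat_lit 0) (nat_lit 2) [nat_lit 79] (Rl.cmp (nat_lit 84) (nat_lit 88)))))))))

/-- some facts -/
noncomputable def ftc24 : FT := FT.node (nat_lit 1225) (FT.node (nat_lit 1212) (FT.node (nat_lit 1206) (FT.node (nat_lit 1203) (FT.node (nat_lit 1201) (FT.leaf (Fct.mk false (nat_lit 24) (nat_lit 0) (nat_lit 24) [nat_lit 4, nat_lit 3, nat_lit 2, nat_lit 1, nat_lit 8, nat_lit 3, nat_lit 2, nat_lit 0, nat_lit 1, nat_lit 4, nat_lit 3, nat_lit 2, nat_lit 8, nat_lit 3, nat_lit 10, nat_lit 8, nat_lit 12, nat_lit 15, nat_lit 14, nat_lit 18] (Rl.rel (nat_lit 0) [nat_lit 3, nat_lit 8, nat_lit 4, nat_lit 5, nat_lit 3, nat_lit 4, nat_lit 2, nat_lit 3, nat_lit 8, nat_lit 1, nat_lit 2, nat_lit 3, nat_lit 4, nat_lit 5, nat_lit 4, nat_lit 10, nat_lit 8] (nat_lit 24) (nat_lit 3) [nat_lit 1192, nat_lit 1190, nat_lit 1199, nat_lit 1177, nat_lit 1195,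 nat_lit 1197] []))) (FT.node (nat_lit 1202) (FT.leaf (Fct.mk false (nat_lit 24) (nat_lit 0) (nat_lit 24) [nat_lit 7, nat_lit 8, nat_lit 1, nat_lit 2, nat_lit 3, nat_lit 4, nat_lit 5, nat_lit 8, nat_lit 3, nat_lit 2, nat_lit 1, nat_lit 4, nat_lit 3, nat_lit 2, nat_lit 8, nat_lit 3, nat_lit 8, nat_lit 10, nat_lit 1, nat_lit 18] (Rl.cmp (nat_lit 1186) (nat_lit 1179)))) (FT.leaf (Fct.mk false (nat_lit 24) (nat_lit 0) (nat_lit 24) [nat_lit 8, nat_lit 3, nat_lit 4, nat_lit 5, nat_lit 3, nat_lit 2, nat_lit 1, nat_lit 4, nat_lit 3, nat_lit 2, nat_lit 8, nat_lit 3, nat_lit 2, nat_lit 10, nat_lit 1, nat_lit 14, nat_lit 18] (Rl.cmp (nat_lit 1186) (nat_lit 1201)))))) (FT.node (nat_lit 1204) (FT.leaf (Fct.mk false (nat_lit 24) (nat_lit 0) (nat_lit 24) [nat_lit 8, nat_lit 3, nat_lit 4, nat_lit 5, nat_lit 2, nat_lit 1, nat_lit 4, nat_lit 3, nat_lit 2, nat_lit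 8, nat_lit 3, nat_lit 10, nat_lit 1] (Rl.cmp (nat_lit 1183) (nat_lit 1202)))) (FT.node (nat_lit 1205) (FT.leaf (Fct.mk false (nat_lit 24) (nat_lit 0) (nat_lit 24) [nat_lit 8, nat_lit 3, nat_lit 4, nat_lit 5, nat_lit 10, nat_lit 2, nat_lit 8, nat_lit 10, nat_lit 1, nat_lit 14, nat_lit 12] (Rl.cmp (nat_lit 1183) (nat_lit 1203)))) (FT.leaf (Fct.mk false (nat_lit 2) (nat_lit 0) (nat_lit 2) [nat_lit 6, nat_lit 2, nat_lit 3, nat_lit 8, nat_lit 10, nat_lit 12, nat_lit 18] (Rl.cmp (nat_lit 168) (nat_lit 84))))))) (FT.node (nat_lit 1209) (FT.node (nat_lit 1207) (FT.leaf (Fct.mk false (nat_lit 24) (nat_lit 0) (nat_lit 24) [nat_lit 8, nat_lit 3, nat_lit 4, nat_lit 2, nat_lit 3, nat_lit 8, nat_lit 1, nat_lit 2, nat_lit 3, nat_lit 4, nat_lit 5, nat_lit 1, nat_lit 4, nat_lit 3, nat_lit 2, nat_lit 8, nat_lit 3, nat_lit 10, nat_lit 1, nat_lit 8, nat_lit 18]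 (Rl.cmp (nat_lit 1179) (nat_lit 1181)))) (FT.node (nat_lit 1208) (FT.leaf (Fct.mk false (nat_lit 24) (nat_lit 0) (nat_lit 24) [nat_lit 7, nat_lit 4, nat_lit 3, nat_lit 8, nat_lit 1, nat_lit 2, nat_lit 3, nat_lit 4, nat_lit 5, nat_lit 4, nat_lit 3, nat_lit 2, nat_lit 8, nat_lit 3, nat_lit 10, nat_lit 1, nat_lit 14, nat_lit 18] (Rl.cmp (nat_lit 1186) (nat_lit 1206)))) (FT.leaf (Fct.mk false (nat_lit 24) (nat_lit 0) (nat_lit 24) [nat_lit 7, nat_lit 3, nat_lit 4, nat_lit 2, nat_lit 3, nat_lit 8, nat_lit 0, nat_lit 1, nat_lit 2, nat_lit 3, nat_lit 4, nat_lit 5, nat_lit 3, nat_lit 2, nat_lit 1, nat_lit 8, nat_lit 3, nat_lit 2, nat_lit 0, nat_lit 1, nat_lit 4, nat_lit 3, nat_lit 2, nat_lit 8, nat_lit 3, nat_lit 2, nat_lit 8, nat_lit 10, nat_lit 1, nat_lit 15, nat_lit 8, nat_lit 18] (Rl.cmp (nat_lit 1200) (nat_lit 1207)))))) (FT.node (nat_lit 1210)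 (FT.leaf (Fct.mk false (nat_lit 24) (nat_lit 0) (nat_lit 24) [nat_lit 2, nat_lit 3, nat_lit 4, nat_lit 1, nat_lit 2, nat_lit 3, nat_lit 8, nat_lit 0, nat_lit 1, nat_lit 2, nat_lit 3, nat_lit 4, nat_lit 5, nat_lit 1, nat_lit 8, nat_lit 3, nat_lit 2, nat_lit 0, nat_lit 1, nat_lit 4, nat_lit 3, nat_lit 2, nat_lit 8, nat_lit 3, nat_lit 10, nat_lit 2, nat_lit 8, nat_lit 10, nat_lit 1, nat_lit 15, nat_lit 14, nat_lit 8, nat_lit 18] (Rl.cmp (nat_lit 1186) (nat_lit 1208)))) (FT.node (nat_lit 1211) (FT.leaf (Fct.mk false (nat_lit 2) (nat_lit 0) (nat_lit 2) [nat_lit 2, nat_lit 1, nat_lit 8, nat_lit 3, nat_lit 2, nat_lit 0, nat_lit 1, nat_lit 4, nat_lit 3, nat_lit 2, nat_lit 8, nat_lit 3, nat_lit 2, nat_lit 10, nat_lit 1, nat_lit 8, nat_lit 12, nat_lit 15, nat_lit 14, nat_lit 8] (Rl.cmp (nat_lit 300) (nat_lit 338)))) (FT.leaf (Fct.mk false (nat_lit 2)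 (nat_lit 0) (nat_lit 2) [nat_lit 2, nat_lit 1, nat_lit 3, nat_lit 2, nat_lit 0, nat_lit 1, nat_lit 4, nat_lit 3, nat_lit 2, nat_lit 8, nat_lit 3, nat_lit 10, nat_lit 1, nat_lit 8, nat_lit 12, nat_lit 15, nat_lit 14, nat_lit 8, nat_lit 18] (Rl.cmp (nat_lit 300) (nat_lit 419)))))))) (FT.node (nat_lit 1218) (FT.node (nat_lit 1215) (FT.node (nat_lit 1213) (FT.leaf (Fct.mk false (nat_lit 24) (nat_lit 0) (nat_lit 24) [nat_lit 8, nat_lit 3, nat_lit 4, nat_lit 2, nat_lit 3, nat_lit 8, nat_lit 1, nat_lit 2, nat_lit 3, nat_lit 4, nat_lit 5, nat_lit 1, nat_lit 4, nat_lit 3, nat_lit 2, nat_lit 8, nat_lit 3, nat_lit 10, nat_lit 1, nat_lit 8, nat_lit 18] (Rl.cmp (nat_lit 1179) (nat_lit 1181)))) (FT.node (nat_lit 1214) (FT.leaf (Fct.mk false (nat_lit 24) (nat_lit 0) (nat_lit 24) [nat_lit 8, nat_lit 3, nat_lit 4, nat_lit 5, nat_lit 8, nat_lit 3, nat_lit 2,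 nat_lit 1, nat_lit 4, nat_lit 3, nat_lit 2, nat_lit 8, nat_lit 3, nat_lit 1, nat_lit 18] (Rl.cmp (nat_lit 1200) (nat_lit 1209)))) (FT.leaf (Fct.mk false (nat_lit 2) (nat_lit 0) (nat_lit 2) [nat_lit 4, nat_lit 3, nat_lit 2, nat_lit 8, nat_lit 3, nat_lit 8, nat_lit 10, nat_lit 0, nat_lit 12] (Rl.cmp (nat_lit 173) (nat_lit 88)))))) (FT.node (nat_lit 1216) (FT.leaf (Fct.mk false (nat_lit 2) (nat_lit 0) (nat_lit 2) [nat_lit 4, nat_lit 3, nat_lit 2, nat_lit 1, nat_lit 8, nat_lit 3, nat_lit 2, nat_lit 0, nat_lit 1, nat_lit 4, nat_lit 3, nat_lit 2, nat_lit 8, nat_lit 3, nat_lit 2, nat_lit 10, nat_lit 1, nat_lit 8, nat_lit 12, nat_lit 15, nat_lit 14] (Rl.cmp (nat_lit 300) (nat_lit 1214)))) (FT.node (nat_lit 1217) (FT.leaf (Fct.mk false (nat_lit 2) (nat_lit 0) (nat_lit 2) [nat_lit 7, nat_lit 6, nat_lit 3, nat_lit 2, nat_lit 8, nat_lit 3, nat_lit 2] (Rl.cmp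 (nat_lit 172) (nat_lit 705)))) (FT.leaf (Fct.mk false (nat_lit 2) (nat_lit 0) (nat_lit 2) [nat_lit 10, nat_lit 8] (Rl.cmp (nat_lit 88) (nat_lit 87))))))) (FT.node (nat_lit 1221) (FT.node (nat_lit 1219) (FT.leaf (Fct.mk false (nat_lit 2) (nat_lit 0) (nat_lit 2) [nat_lit 1, nat_lit 8, nat_lit 3, nat_lit 2, nat_lit 0, nat_lit 1, nat_lit 4, nat_lit 3, nat_lit 2, nat_lit 8, nat_lit 3, nat_lit 8, nat_lit 10, nat_lit 8, nat_lit 12, nat_lit 15, nat_lit 14, nat_lit 18] (Rl.cmp (nat_lit 300) (nat_lit 86)))) (FT.node (nat_lit 1220) (FT.leaf (Fct.mk false (nat_lit 24) (nat_lit 0) (nat_lit 24) [nat_lit 0, nat_lit 1, nat_lit 2, nat_lit 3, nat_lit 4, nat_lit 5, nat_lit 3, nat_lit 2, nat_lit 1, nat_lit 8, nat_lit 3, nat_lit 2, nat_lit 0, nat_lit 1, nat_lit 4, nat_lit 3, nat_lit 2, nat_lit 8, nat_lit 3, nat_lit 8, nat_lit 10, nat_lit 1, nat_lit 15, nat_lit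 14, nat_lit 18] (Rl.cmp (nat_lit 1200) (nat_lit 1212)))) (FT.leaf (Fct.mk false (nat_lit 24) (nat_lit 0) (nat_lit 24) [nat_lit 4, nat_lit 3, nat_lit 8, nat_lit 1, nat_lit 2, nat_lit 3, nat_lit 4, nat_lit 5, nat_lit 1, nat_lit 2, nat_lit 0, nat_lit 1, nat_lit 3, nat_lit 2, nat_lit 8, nat_lit 3, nat_lit 1, nat_lit 8, nat_lit 12, nat_lit 15, nat_lit 14] (Rl.cmp (nat_lit 1179) (nat_lit 1200)))))) (FT.node (nat_lit 1223) (FT.node (nat_lit 1222) (FT.leaf (Fct.mk false (nat_lit 24) (nat_lit 0) (nat_lit 24) [nat_lit 7, nat_lit 8, nat_lit 1, nat_lit 2, nat_lit 3, nat_lit 4, nat_lit 5, nat_lit 0, nat_lit 1, nat_lit 3, nat_lit 2, nat_lit 8, nat_lit 3, nat_lit 1, nat_lit 8, nat_lit 12, nat_lit 15, nat_lit 12] (Rl.cmp (nat_lit 1186) (nat_lit 1220)))) (FT.leaf (Fct.mk false (nat_lit 24) (nat_lit 0) (nat_lit 24) [nat_lit 3, nat_lit 4, nat_lit 2, nat_lit 3,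 nat_lit 8, nat_lit 0, nat_lit 1, nat_lit 2, nat_lit 3, nat_lit 4, nat_lit 5, nat_lit 2, nat_lit 0, nat_lit 1, nat_lit 3, nat_lit 2, nat_lit 8, nat_lit 3, nat_lit 10, nat_lit 2, nat_lit 8, nat_lit 10, nat_lit 1, nat_lit 8, nat_lit 12, nat_lit 15, nat_lit 14, nat_lit 18] (Rl.cmp (nat_lit 1200) (nat_lit 1181))))) (FT.node (nat_lit 1224) (FT.leaf (Fct.mk false (nat_lit 24) (nat_lit 0) (nat_lit 24) [nat_lit 3, nat_lit 8, nat_lit 5, nat_lit 2, nat_lit 3, nat_lit 4, nat_lit 1, nat_lit 2, nat_lit 3, nat_lit 8, nat_lit 0, nat_lit 1, nat_lit 2, nat_lit 3, nat_lit 4, nat_lit 5, nat_lit 1, nat_lit 2, nat_lit 0, nat_lit 1, nat_lit 4, nat_lit 3, nat_lit 2, nat_lit 8, nat_lit 3, nat_lit 0, nat_lit 2, nat_lit 18] (Rl.cmp (nat_lit 1179) (nat_lit 1222)))) (FT.leaf (Fct.mk false (nat_lit 24) (nat_lit 0) (nat_lit 24) [nat_lit 8, nat_lit 3, nat_lit 4, nat_lit 5,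 nat_lit 0, nat_lit 1, nat_lit 2, nat_lit 3, nat_lit 8, nat_lit 12, nat_lit 15] (Rl.cmp (nat_lit 1186) (nat_lit 1221))))))))) (FT.node (nat_lit 1237) (FT.node (nat_lit 1231) (FT.node (nat_lit 1228) (FT.node (nat_lit 1226) (FT.leaf (Fct.mk true (nat_lit 2) (nat_lit 62) (nat_lit 25) [] (Rl.df))) (FT.node (nat_lit 1227) (FT.leaf (Fct.mk true (nat_lit 25) (nat_lit 62) (nat_lit 2) [] (Rl.inv (nat_lit 1225)))) (FT.leaf (Fct.mk true (nat_lit 4) (nat_lit 4534) (nat_lit 25) [nat_lit 4, nat_lit 5, nat_lit 3, nat_lit 4, nat_lit 1, nat_lit 2, nat_lit 3, nat_lit 8, nat_lit 0, nat_lit 1, nat_lit 2, nat_lit 3, nat_lit 4, nat_lit 5, nat_lit 4, nat_lit 10, nat_lit 9, nat_lit 2, nat_lit 16, nat_lit 12, nat_lit 15, nat_lit 14, nat_lit 12, nat_lit 19, nat_lit 16] (Rl.rel (nat_lit 0) [nat_lit 3, nat_lit 4, nat_lit 5, nat_lit 2, nat_lit 1, nat_lit 3, nat_lit 2, nat_lit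 0, nat_lit 1, nat_lit 9, nat_lit 4, nat_lit 3, nat_lit 2, nat_lit 8, nat_lit 3, nat_lit 1, nat_lit 16, nat_lit 14, nat_lit 8, nat_lit 16] (nat_lit 25) (nat_lit 2) [nat_lit 1226, nat_lit 701, nat_lit 237] []))))) (FT.node (nat_lit 1229) (FT.leaf (Fct.mk true (nat_lit 4) (nat_lit 63) (nat_lit 25) [nat_lit 3, nat_lit 8, nat_lit 0, nat_lit 1, nat_lit 2, nat_lit 3, nat_lit 4, nat_lit 5, nat_lit 3, nat_lit 9, nat_lit 2, nat_lit 12, nat_lit 15, nat_lit 14, nat_lit 12, nat_lit 18] (Rl.t1 (nat_lit 1227) (nat_lit 455)))) (FT.node (nat_lit 1230) (FT.leaf (Fct.mk true (nat_lit 25) (nat_lit 43) (nat_lit 4) [nat_lit 6, nat_lit 2, nat_lit 1, nat_lit 4, nat_lit 3, nat_lit 2, nat_lit 0, nat_lit 1, nat_lit 9, nat_lit 4, nat_lit 3, nat_lit 2, nat_lit 8, nat_lit 3, nat_lit 2, nat_lit 15, nat_lit 8, nat_lit 16] (Rl.inv (nat_lit 1228)))) (FT.leaf (Fct.mk false (nat_lit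 2) (nat_lit 0) (nat_lit 2) [nat_lit 6, nat_lit 3, nat_lit 2, nat_lit 8, nat_lit 3, nat_lit 12] (Rl.cmp (nat_lit 86) (nat_lit 168))))))) (FT.node (nat_lit 1234) (FT.node (nat_lit 1232) (FT.leaf (Fct.mk false (nat_lit 25) (nat_lit 0) (nat_lit 25) [nat_lit 78] (Rl.rel (nat_lit 0) [nat_lit 3, nat_lit 4, nat_lit 5, nat_lit 2, nat_lit 1, nat_lit 8, nat_lit 3, nat_lit 2, nat_lit 0, nat_lit 1, nat_lit 9, nat_lit 4, nat_lit 3, nat_lit 2, nat_lit 8, nat_lit 3, nat_lit 1, nat_lit 16, nat_lit 14, nat_lit 8, nat_lit 16] (nat_lit 25) (nat_lit 3) [nat_lit 1226, nat_lit 1230, nat_lit 372, nat_lit 386, nat_lit 1225] []))) (FT.node (nat_lit 1233) (FT.leaf (Fct.mk false (nat_lit 2) (nat_lit 0) (nat_lit 2) [nat_lit 6, nat_lit 2, nat_lit 3, nat_lit 8, nat_lit 10, nat_lit 12, nat_lit 18] (Rl.cmp (nat_lit 168) (nat_lit 84)))) (FT.leaf (Fct.mk true (nat_lit 4) (nat_lit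 81746) (nat_lit 25) [nat_lit 5, nat_lit 4, nat_lit 2, nat_lit 3, nat_lit 8, nat_lit 0, nat_lit 1, nat_lit 2, nat_lit 3, nat_lit 4, nat_lit 5, nat_lit 1, nat_lit 3, nat_lit 2, nat_lit 0, nat_lit 1, nat_lit 9, nat_lit 4, nat_lit 3, nat_lit 2, nat_lit 8, nat_lit 3, nat_lit 10, nat_lit 0, nat_lit 12, nat_lit 8, nat_lit 16, nat_lit 14, nat_lit 12, nat_lit 16] (Rl.rel (nat_lit 0) [nat_lit 3, nat_lit 4, nat_lit 5, nat_lit 2, nat_lit 1, nat_lit 8, nat_lit 3, nat_lit 2, nat_lit 0, nat_lit 1, nat_lit 9, nat_lit 4, nat_lit 3, nat_lit 2, nat_lit 8, nat_lit 3, nat_lit 1, nat_lit 16, nat_lit 15, nat_lit 14, nat_lit 8, nat_lit 16] (nat_lit 25) (nat_lit 2) [nat_lit 1226, nat_lit 1232, nat_lit 360] []))))) (FT.node (nat_lit 1235) (FT.leaf (Fct.mk true (nat_lit 4) (nat_lit 1369) (nat_lit 25) [nat_lit 3, nat_lit 4, nat_lit 1, nat_lit 2, nat_lit 3, nat_lit 8,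 nat_lit 0, nat_lit 1, nat_lit 2, nat_lit 3, nat_lit 4, nat_lit 5, nat_lit 1, nat_lit 2, nat_lit 0, nat_lit 1, nat_lit 9, nat_lit 4, nat_lit 3, nat_lit 2, nat_lit 8, nat_lit 3, nat_lit 15, nat_lit 13, nat_lit 12, nat_lit 18, nat_lit 16] (Rl.t1 (nat_lit 1233) (nat_lit 332)))) (FT.node (nat_lit 1236) (FT.leaf (Fct.mk true (nat_lit 25) (nat_lit 1387) (nat_lit 4) [nat_lit 8, nat_lit 6, nat_lit 4, nat_lit 5, nat_lit 3, nat_lit 4, nat_lit 1, nat_lit 2, nat_lit 3, nat_lit 8, nat_lit 0, nat_lit 1, nat_lit 2, nat_lit 3, nat_lit 4, nat_lit 5, nat_lit 3, nat_lit 8, nat_lit 4, nat_lit 3, nat_lit 2, nat_lit 0, nat_lit 1, nat_lit 9, nat_lit 4, nat_lit 3, nat_lit 2, nat_lit 8, nat_lit 3, nat_lit 2, nat_lit 8, nat_lit 10, nat_lit 1, nat_lit 8, nat_lit 12, nat_lit 15, nat_lit 17, nat_lit 12, nat_lit 16] (Rl.inv (nat_lit 1234)))) (FT.leaf (Fct.mk false (nat_lit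 2) (nat_lit 0) (nat_lit 2) [nat_lit 6, nat_lit 8, nat_lit 10, nat_lit 18] (Rl.cmp (nat_lit 168) (nat_lit 86)))))))) (FT.node (nat_lit 1243) (FT.node (nat_lit 1240) (FT.node (nat_lit 1238) (FT.leaf (Fct.mk false (nat_lit 25) (nat_lit 0) (nat_lit 25) [nat_lit 79] (Rl.rel (nat_lit 0) [nat_lit 3, nat_lit 4, nat_lit 5, nat_lit 3, nat_lit 2, nat_lit 1, nat_lit 4, nat_lit 3, nat_lit 2, nat_lit 0, nat_lit 1, nat_lit 9, nat_lit 4, nat_lit 3, nat_lit 2, nat_lit 8, nat_lit 3, nat_lit 11, nat_lit 1, nat_lit 16, nat_lit 14, nat_lit 8, nat_lit 16] (nat_lit 25) (nat_lit 3) [nat_lit 1226, nat_lit 1236, nat_lit 360, nat_lit 332, nat_lit 1234] []))) (FT.node (nat_lit 1239) (FT.leaf (Fct.mk true (nat_lit 25) (nat_lit 1053) (nat_lit 4) [nat_lit 8, nat_lit 6, nat_lit 4, nat_lit 5, nat_lit 3, nat_lit 4, nat_lit 1, nat_lit 2, nat_lit 3, nat_lit 8, nat_lit 0, nat_lit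 1, nat_lit 2, nat_lit 3, nat_lit 4, nat_lit 5, nat_lit 3, nat_lit 8, nat_lit 4, nat_lit 3, nat_lit 2, nat_lit 0, nat_lit 1, nat_lit 9, nat_lit 4, nat_lit 3, nat_lit 2, nat_lit 8, nat_lit 3, nat_lit 11, nat_lit 10, nat_lit 1, nat_lit 12, nat_lit 15, nat_lit 14] (Rl.t1 (nat_lit 1235) (nat_lit 1237)))) (FT.leaf (Fct.mk false (nat_lit 2) (nat_lit 0) (nat_lit 2) [nat_lit 1, nat_lit 2, nat_lit 0, nat_lit 1, nat_lit 4, nat_lit 3, nat_lit 2, nat_lit 8, nat_lit 3, nat_lit 8, nat_lit 10, nat_lit 8, nat_lit 12, nat_lit 15, nat_lit 14, nat_lit 8, nat_lit 18] (Rl.cmp (nat_lit 300) (nat_lit 376)))))) (FT.node (nat_lit 1241) (FT.leaf (Fct.mk false (nat_lit 2) (nat_lit 0) (nat_lit 2) [nat_lit 1, nat_lit 3, nat_lit 2, nat_lit 0, nat_lit 1, nat_lit 4, nat_lit 3, nat_lit 2, nat_lit 8, nat_lit 3, nat_lit 2, nat_lit 10, nat_lit 1, nat_lit 8, nat_lit 12, nat_lit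 15, nat_lit 14, nat_lit 18] (Rl.cmp (nat_lit 173) (nat_lit 1239)))) (FT.node (nat_lit 1242) (FT.leaf (Fct.mk true (nat_lit 25) (nat_lit 1036) (nat_lit 25) [nat_lit 80] (Rl.rel (nat_lit 0) [nat_lit 3, nat_lit 8, nat_lit 2, nat_lit 3, nat_lit 4, nat_lit 5, nat_lit 3, nat_lit 2, nat_lit 1, nat_lit 8, nat_lit 3, nat_lit 2, nat_lit 0, nat_lit 1, nat_lit 9, nat_lit 4, nat_lit 3, nat_lit 2, nat_lit 8, nat_lit 3, nat_lit 1, nat_lit 16, nat_lit 14, nat_lit 16, nat_lit 8, nat_lit 16] (nat_lit 25) (nat_lit 2) [nat_lit 1226, nat_lit 1240, nat_lit 1225] []))) (FT.leaf (Fct.mk true (nat_lit 25) (nat_lit 250) (nat_lit 25) [nat_lit 3, nat_lit 2, nat_lit 1, nat_lit 8, nat_lit 3, nat_lit 2, nat_lit 0, nat_lit 1, nat_lit 4, nat_lit 3, nat_lit 2, nat_lit 8, nat_lit 3, nat_lit 10, nat_lit 1, nat_lit 8, nat_lit 12, nat_lit 15, nat_lit 14, nat_lit 18] (Rl.t1 (nat_lit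 1241) (nat_lit 1237))))))) (FT.node (nat_lit 1246) (FT.node (nat_lit 1244) (FT.leaf (Fct.mk false (nat_lit 2) (nat_lit 0) (nat_lit 2) [nat_lit 6, nat_lit 4, nat_lit 3, nat_lit 2, nat_lit 1, nat_lit 8, nat_lit 3, nat_lit 2, nat_lit 0, nat_lit 1, nat_lit 4, nat_lit 3, nat_lit 2, nat_lit 8, nat_lit 3, nat_lit 2, nat_lit 10, nat_lit 1, nat_lit 8, nat_lit 12, nat_lit 15, nat_lit 14, nat_lit 8, nat_lit 18] (Rl.cmp (nat_lit 300) (nat_lit 392)))) (FT.node (nat_lit 1245) (FT.leaf (Fct.mk false (nat_lit 25) (nat_lit 0) (nat_lit 25) [nat_lit 80] (Rl.rel (nat_lit 0) [nat_lit 3, nat_lit 4, nat_lit 5, nat_lit 2, nat_lit 1, nat_lit 8, nat_lit 3, nat_lit 2, nat_lit 0, nat_lit 1, nat_lit 4, nat_lit 3, nat_lit 2, nat_lit 8, nat_lit 3, nat_lit 0, nat_lit 16, nat_lit 14, nat_lit 8, nat_lit 16] (nat_lit 25) (nat_lit 3) [nat_lit 1226, nat_lit 1243, nat_lit 237,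 nat_lit 455, nat_lit 1228] []))) (FT.leaf (Fct.mk false (nat_lit 2) (nat_lit 0) (nat_lit 2) [nat_lit 6, nat_lit 4, nat_lit 3, nat_lit 2, nat_lit 8, nat_lit 3, nat_lit 8, nat_lit 18] (Rl.cmp (nat_lit 168) (nat_lit 393)))))) (FT.node (nat_lit 1248) (FT.node (nat_lit 1247) (FT.leaf (Fct.mk true (nat_lit 25) (nat_lit 1334) (nat_lit 25) [nat_lit 6, nat_lit 2, nat_lit 1, nat_lit 8, nat_lit 3, nat_lit 2, nat_lit 0, nat_lit 1, nat_lit 4, nat_lit 3, nat_lit 2, nat_lit 8, nat_lit 3, nat_lit 2, nat_lit 8, nat_lit 10, nat_lit 1, nat_lit 8, nat_lit 12, nat_lit 15, nat_lit 14, nat_lit 8, nat_lit 18] (Rl.rel (nat_lit 0) [nat_lit 3, nat_lit 8, nat_lit 2, nat_lit 3, nat_lit 4, nat_lit 5, nat_lit 1, nat_lit 8, nat_lit 4, nat_lit 3, nat_lit 2, nat_lit 0, nat_lit 1, nat_lit 9, nat_lit 4, nat_lit 3, nat_lit 2, nat_lit 8, nat_lit 3, nat_lit 11, nat_lit 10, nat_lit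 1, nat_lit 8, nat_lit 16, nat_lit 15, nat_lit 14, nat_lit 8, nat_lit 16] (nat_lit 25) (nat_lit 2) [nat_lit 1226, nat_lit 1245, nat_lit 1225] []))) (FT.leaf (Fct.mk false (nat_lit 25) (nat_lit 0) (nat_lit 25) [nat_lit 81] (Rl.rel (nat_lit 0) [nat_lit 8, nat_lit 3, nat_lit 4, nat_lit 2, nat_lit 3, nat_lit 8, nat_lit 1, nat_lit 2, nat_lit 3, nat_lit 4, nat_lit 5, nat_lit 3, nat_lit 2, nat_lit 1, nat_lit 8, nat_lit 3, nat_lit 2, nat_lit 0, nat_lit 1, nat_lit 9, nat_lit 4, nat_lit 3, nat_lit 2, nat_lit 8, nat_lit 3, nat_lit 11, nat_lit 1, nat_lit 16, nat_lit 14, nat_lit 8, nat_lit 16] (nat_lit 25) (nat_lit 3) [nat_lit 1226, nat_lit 380, nat_lit 372, nat_lit 384, nat_lit 1225] [])))) (FT.node (nat_lit 1249) (FT.leaf (Fct.mk false (nat_lit 25) (nat_lit 0) (nat_lit 25) [nat_lit 1, nat_lit 2, nat_lit 3, nat_lit 8, nat_lit 4, nat_lit 5, nat_lit 3, nat_lit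 4, nat_lit 2, nat_lit 3, nat_lit 8, nat_lit 1, nat_lit 2, nat_lit 3, nat_lit 4, nat_lit 5, nat_lit 3, nat_lit 8, nat_lit 4, nat_lit 3, nat_lit 2, nat_lit 1, nat_lit 9, nat_lit 4, nat_lit 3, nat_lit 2, nat_lit 8, nat_lit 3, nat_lit 11, nat_lit 1, nat_lit 12, nat_lit 8, nat_lit 16, nat_lit 14, nat_lit 13, nat_lit 18] (Rl.cmp (nat_lit 1247) (nat_lit 1231)))) (FT.leaf (Fct.mk true (nat_lit 25) (nat_lit 215) (nat_lit 25) [nat_lit 1, nat_lit 2, nat_lit 3, nat_lit 8, nat_lit 6, nat_lit 4, nat_lit 5, nat_lit 3, nat_lit 4, nat_lit 2, nat_lit 3, nat_lit 8, nat_lit 1, nat_lit 2, nat_lit 3, nat_lit 4, nat_lit 5, nat_lit 3, nat_lit 2, nat_lit 0, nat_lit 1, nat_lit 9, nat_lit 4, nat_lit 3, nat_lit 2, nat_lit 8, nat_lit 3, nat_lit 11, nat_lit 2, nat_lit 10, nat_lit 1, nat_lit 12, nat_lit 8, nat_lit 16, nat_lit 14, nat_lit 13, nat_lit 12] (Rl.t1 (nat_lit 1246)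 (nat_lit 1248)))))))))

/-- some facts -/
noncomputable def ftc25 : FT := FT.node (nat_lit 1275) (FT.node (nat_lit 1262) (FT.node (nat_lit 1256) (FT.node (nat_lit 1253) (FT.node (nat_lit 1251) (FT.leaf (Fct.mk false (nat_lit 25) (nat_lit 0) (nat_lit 25) [nat_lit 6, nat_lit 5, nat_lit 3, nat_lit 4, nat_lit 1, nat_lit 2, nat_lit 3, nat_lit 8, nat_lit 0, nat_lit 1, nat_lit 2, nat_lit 3, nat_lit 4, nat_lit 5, nat_lit 2, nat_lit 3, nat_lit 8, nat_lit 4, nat_lit 3, nat_lit 2, nat_lit 1, nat_lit 9, nat_lit 4, nat_lit 3, nat_lit 2, nat_lit 8, nat_lit 3, nat_lit 9, nat_lit 2, nat_lit 16, nat_lit 12, nat_lit 15, nat_lit 14, nat_lit 19, nat_lit 16] (Rl.cmp (nat_lit 1231) (nat_lit 1244)))) (FT.node (nat_lit 1252) (FT.leaf (Fct.mk false (nat_lit 25) (nat_lit 0) (nat_lit 25) [nat_lit 1, nat_lit 2, nat_lit 3, nat_lit 8, nat_lit 4, nat_lit 5, nat_lit 3, nat_lit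 4, nat_lit 2, nat_lit 3, nat_lit 8, nat_lit 1, nat_lit 2, nat_lit 3, nat_lit 4, nat_lit 5, nat_lit 8, nat_lit 3, nat_lit 2, nat_lit 0, nat_lit 1, nat_lit 9, nat_lit 4, nat_lit 3, nat_lit 2, nat_lit 8, nat_lit 3, nat_lit 8, nat_lit 10, nat_lit 1, nat_lit 12, nat_lit 8, nat_lit 16, nat_lit 14] (Rl.cmp (nat_lit 1250) (nat_lit 1247)))) (FT.leaf (Fct.mk false (nat_lit 25) (nat_lit 0) (nat_lit 25) [nat_lit 1, nat_lit 2, nat_lit 3, nat_lit 8, nat_lit 4, nat_lit 5, nat_lit 3, nat_lit 4, nat_lit 2, nat_lit 3, nat_lit 8, nat_lit 1, nat_lit 2, nat_lit 3, nat_lit 4, nat_lit 5, nat_lit 3, nat_lit 8, nat_lit 4, nat_lit 3, nat_lit 2, nat_lit 1, nat_lit 9, nat_lit 4, nat_lit 3, nat_lit 2, nat_lit 8, nat_lit 3, nat_lit 11, nat_lit 1, nat_lit 12, nat_lit 8, nat_lit 16, nat_lit 14, nat_lit 13, nat_lit 18] (Rl.cmp (nat_lit 1251) (nat_lit 1244)))))) (FT.node (nat_lit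 1254) (FT.leaf (Fct.mk false (nat_lit 25) (nat_lit 0) (nat_lit 25) [nat_lit 1, nat_lit 2, nat_lit 3, nat_lit 8, nat_lit 4, nat_lit 5, nat_lit 3, nat_lit 4, nat_lit 2, nat_lit 3, nat_lit 8, nat_lit 1, nat_lit 2, nat_lit 3, nat_lit 4, nat_lit 5, nat_lit 8, nat_lit 3, nat_lit 2, nat_lit 0, nat_lit 1, nat_lit 9, nat_lit 4, nat_lit 3, nat_lit 2, nat_lit 8, nat_lit 3, nat_lit 8, nat_lit 10, nat_lit 1, nat_lit 12, nat_lit 8, nat_lit 16, nat_lit 14] (Rl.cmp (nat_lit 1252) (nat_lit 1244)))) (FT.node (nat_lit 1255) (FT.leaf (Fct.mk false (nat_lit 25) (nat_lit 0) (nat_lit 25) [nat_lit 1, nat_lit 2, nat_lit 3, nat_lit 8, nat_lit 4, nat_lit 5, nat_lit 3, nat_lit 4, nat_lit 2, nat_lit 3, nat_lit 8, nat_lit 1, nat_lit 2, nat_lit 3, nat_lit 4, nat_lit 5, nat_lit 3, nat_lit 8, nat_lit 4, nat_lit 3, nat_lit 2, nat_lit 1, nat_lit 9, nat_lit 4, nat_lit 3, nat_lit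 2, nat_lit 8, nat_lit 3, nat_lit 11, nat_lit 1, nat_lit 12, nat_lit 8, nat_lit 16, nat_lit 14, nat_lit 13, nat_lit 18] (Rl.einv (nat_lit 1248)))) (FT.leaf (Fct.mk false (nat_lit 25) (nat_lit 0) (nat_lit 25) [nat_lit 80] (Rl.cmp (nat_lit 1254) (nat_lit 1253))))))) (FT.node (nat_lit 1259) (FT.node (nat_lit 1257) (FT.leaf (Fct.mk false (nat_lit 25) (nat_lit 0) (nat_lit 25) [nat_lit 82] (Rl.sk (nat_lit 1249) (nat_lit 1255)))) (FT.node (nat_lit 1258) (FT.leaf (Fct.mk false (nat_lit 2) (nat_lit 0) (nat_lit 2) [nat_lit 18] (Rl.cmp (nat_lit 86) (nat_lit 84)))) (FT.leaf (Fct.mk false (nat_lit 25) (nat_lit 0) (nat_lit 25) [nat_lit 83] (Rl.rel (nat_lit 0) [nat_lit 8, nat_lit 3, nat_lit 4, nat_lit 2, nat_lit 3, nat_lit 8, nat_lit 1, nat_lit 2, nat_lit 3, nat_lit 4, nat_lit 5, nat_lit 3, nat_lit 2, nat_lit 1, nat_lit 8, nat_lit 3, nat_lit 2, nat_lit 0,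 nat_lit 1, nat_lit 9, nat_lit 4, nat_lit 3, nat_lit 2, nat_lit 8, nat_lit 3, nat_lit 11, nat_lit 1, nat_lit 8, nat_lit 16, nat_lit 14, nat_lit 8, nat_lit 16] (nat_lit 25) (nat_lit 3) [nat_lit 1226, nat_lit 1257, nat_lit 360, nat_lit 375, nat_lit 1234] []))))) (FT.node (nat_lit 1260) (FT.leaf (Fct.mk true (nat_lit 25) (nat_lit 301) (nat_lit 4) [nat_lit 8, nat_lit 5, nat_lit 2, nat_lit 3, nat_lit 4, nat_lit 1, nat_lit 2, nat_lit 3, nat_lit 8, nat_lit 0, nat_lit 1, nat_lit 2, nat_lit 3, nat_lit 4, nat_lit 5, nat_lit 2, nat_lit 3, nat_lit 8, nat_lit 4, nat_lit 3, nat_lit 2, nat_lit 0, nat_lit 1, nat_lit 9, nat_lit 4, nat_lit 3, nat_lit 2, nat_lit 8, nat_lit 3, nat_lit 11, nat_lit 10, nat_lit 1, nat_lit 16, nat_lit 12, nat_lit 15, nat_lit 14] (Rl.t1 (nat_lit 1238) (nat_lit 1258)))) (FT.node (nat_lit 1261) (FT.leaf (Fct.mk false (nat_lit 4) (nat_lit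 0) (nat_lit 4) [nat_lit 8, nat_lit 3, nat_lit 4, nat_lit 2, nat_lit 3, nat_lit 8, nat_lit 1, nat_lit 2, nat_lit 3, nat_lit 4, nat_lit 5, nat_lit 4, nat_lit 3, nat_lit 2, nat_lit 8, nat_lit 3, nat_lit 10, nat_lit 1, nat_lit 8, nat_lit 18] (Rl.cmp (nat_lit 239) (nat_lit 234)))) (FT.leaf (Fct.mk false (nat_lit 4) (nat_lit 0) (nat_lit 4) [nat_lit 8, nat_lit 3, nat_lit 4, nat_lit 2, nat_lit 3, nat_lit 8, nat_lit 1, nat_lit 2, nat_lit 3, nat_lit 4, nat_lit 5, nat_lit 2, nat_lit 1, nat_lit 4, nat_lit 3, nat_lit 2, nat_lit 8, nat_lit 3, nat_lit 10, nat_lit 1, nat_lit 8, nat_lit 18] (Rl.cmp (nat_lit 234) (nat_lit 239)))))))) (FT.node (nat_lit 1268) (FT.node (nat_lit 1265) (FT.node (nat_lit 1263) (FT.leaf (Fct.mk false (nat_lit 25) (nat_lit 0) (nat_lit 25) [nat_lit 6, nat_lit 4, nat_lit 0, nat_lit 2] (Rl.cmp (nat_lit 1258) (nat_lit 1237)))) (FT.node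 (nat_lit 1264) (FT.leaf (Fct.mk false (nat_lit 25) (nat_lit 0) (nat_lit 25) [nat_lit 6, nat_lit 2, nat_lit 1, nat_lit 8, nat_lit 3, nat_lit 2, nat_lit 0, nat_lit 1, nat_lit 4, nat_lit 3, nat_lit 2, nat_lit 8, nat_lit 3, nat_lit 8, nat_lit 10, nat_lit 1, nat_lit 8, nat_lit 12, nat_lit 15, nat_lit 14, nat_lit 8, nat_lit 18] (Rl.cmp (nat_lit 1258) (nat_lit 1256)))) (FT.leaf (Fct.mk true (nat_lit 5) (nat_lit 765) (nat_lit 25) [nat_lit 1, nat_lit 4, nat_lit 3, nat_lit 2, nat_lit 0, nat_lit 1, nat_lit 9, nat_lit 4, nat_lit 3, nat_lit 2, nat_lit 8, nat_lit 3, nat_lit 1, nat_lit 15, nat_lit 8, nat_lit 19, nat_lit 16] (Rl.rel (nat_lit 0) [nat_lit 6, nat_lit 2, nat_lit 3, nat_lit 1, nat_lit 9, nat_lit 14, nat_lit 16] (nat_lit 25) (nat_lit 2) [nat_lit 1229, nat_lit 239, nat_lit 479] []))))) (FT.node (nat_lit 1266) (FT.leaf (Fct.mk true (nat_lit 5) (nat_lit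 331) (nat_lit 25) [nat_lit 1, nat_lit 4, nat_lit 3, nat_lit 2, nat_lit 8, nat_lit 3, nat_lit 10, nat_lit 0, nat_lit 15, nat_lit 18] (Rl.t1 (nat_lit 1264) (nat_lit 493)))) (FT.node (nat_lit 1267) (FT.leaf (Fct.mk true (nat_lit 25) (nat_lit 0) (nat_lit 5) [nat_lit 4, nat_lit 3, nat_lit 2, nat_lit 8, nat_lit 3, nat_lit 10, nat_lit 2, nat_lit 8, nat_lit 10, nat_lit 1, nat_lit 15, nat_lit 14, nat_lit 12, nat_lit 18] (Rl.inv (nat_lit 1265)))) (FT.leaf (Fct.mk true (nat_lit 5) (nat_lit 1761) (nat_lit 25) [nat_lit 3, nat_lit 4, nat_lit 5, nat_lit 11, nat_lit 10, nat_lit 1, nat_lit 16, nat_lit 12, nat_lit 15, nat_lit 14, nat_lit 13, nat_lit 12, nat_lit 19, nat_lit 16] (Rl.rel (nat_lit 0) [nat_lit 6, nat_lit 3, nat_lit 2, nat_lit 8, nat_lit 3, nat_lit 1, nat_lit 9, nat_lit 16] (nat_lit 25) (nat_lit 2) [nat_lit 1229, nat_lit 239, nat_lit 1100] []))))))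 (FT.node (nat_lit 1271) (FT.node (nat_lit 1269) (FT.leaf (Fct.mk true (nat_lit 5) (nat_lit 235) (nat_lit 25) [nat_lit 4, nat_lit 5, nat_lit 14, nat_lit 12, nat_lit 18] (Rl.t1 (nat_lit 1267) (nat_lit 534)))) (FT.node (nat_lit 1270) (FT.leaf (Fct.mk true (nat_lit 23) (nat_lit 627) (nat_lit 25) [nat_lit 1, nat_lit 2, nat_lit 3, nat_lit 8, nat_lit 0, nat_lit 1, nat_lit 2, nat_lit 3, nat_lit 4, nat_lit 5, nat_lit 2, nat_lit 3, nat_lit 8, nat_lit 4, nat_lit 3, nat_lit 2, nat_lit 1, nat_lit 9, nat_lit 4, nat_lit 3, nat_lit 2, nat_lit 8, nat_lit 3, nat_lit 10, nat_lit 2, nat_lit 8, nat_lit 10, nat_lit 1, nat_lit 16, nat_lit 14, nat_lit 16, nat_lit 8] (Rl.rel (nat_lit 0) [nat_lit 8, nat_lit 3, nat_lit 4, nat_lit 5, nat_lit 2, nat_lit 8, nat_lit 3, nat_lit 1, nat_lit 9, nat_lit 14, nat_lit 16] (nat_lit 25) (nat_lit 2) [nat_lit 1229, nat_lit 1171, nat_lit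 1076] []))) (FT.leaf (Fct.mk true (nat_lit 23) (nat_lit 246) (nat_lit 25) [nat_lit 1, nat_lit 8, nat_lit 4, nat_lit 3, nat_lit 2, nat_lit 0, nat_lit 1, nat_lit 9, nat_lit 4, nat_lit 3, nat_lit 2, nat_lit 8, nat_lit 3, nat_lit 8, nat_lit 10, nat_lit 1, nat_lit 15, nat_lit 8] (Rl.t1 (nat_lit 1269) (nat_lit 1175)))))) (FT.node (nat_lit 1273) (FT.node (nat_lit 1272) (FT.leaf (Fct.mk true (nat_lit 25) (nat_lit 25) (nat_lit 23) [nat_lit 9, nat_lit 4, nat_lit 9, nat_lit 12, nat_lit 15, nat_lit 14, nat_lit 13, nat_lit 12, nat_lit 18, nat_lit 16] (Rl.inv (nat_lit 1270)))) (FT.leaf (Fct.mk true (nat_lit 2) (nat_lit 80) (nat_lit 26) [] (Rl.df)))) (FT.node (nat_lit 1274) (FT.leaf (Fct.mk true (nat_lit 26) (nat_lit 80) (nat_lit 2) [] (Rl.inv (nat_lit 1272)))) (FT.leaf (Fct.mk false (nat_lit 2) (nat_lit 0) (nat_lit 2) [nat_lit 6, nat_lit 8, nat_lit 10] (Rl.cmp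 (nat_lit 168) (nat_lit 304))))))))) (FT.node (nat_lit 1287) (FT.node (nat_lit 1281) (FT.node (nat_lit 1278) (FT.node (nat_lit 1276) (FT.leaf (Fct.mk false (nat_lit 2) (nat_lit 0) (nat_lit 2) [nat_lit 6, nat_lit 3, nat_lit 0, nat_lit 8] (Rl.cmp (nat_lit 173) (nat_lit 1274)))) (FT.node (nat_lit 1277) (FT.leaf (Fct.mk true (nat_lit 4) (nat_lit 12381) (nat_lit 26) [nat_lit 2, nat_lit 3, nat_lit 8, nat_lit 4, nat_lit 5, nat_lit 3, nat_lit 4, nat_lit 2, nat_lit 3, nat_lit 8, nat_lit 0, nat_lit 1, nat_lit 2, nat_lit 3, nat_lit 4, nat_lit 5, nat_lit 2, nat_lit 1, nat_lit 4, nat_lit 3, nat_lit 2, nat_lit 0, nat_lit 1, nat_lit 9, nat_lit 4, nat_lit 3, nat_lit 2, nat_lit 8, nat_lit 3, nat_lit 10, nat_lit 9, nat_lit 2, nat_lit 12, nat_lit 15, nat_lit 14, nat_lit 8, nat_lit 18, nat_lit 16] (Rl.rel (nat_lit 0) [nat_lit 3, nat_lit 4, nat_lit 5, nat_lit 2,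 nat_lit 1, nat_lit 3, nat_lit 2, nat_lit 8, nat_lit 3, nat_lit 1, nat_lit 0, nat_lit 2, nat_lit 12, nat_lit 15, nat_lit 14, nat_lit 8, nat_lit 16] (nat_lit 26) (nat_lit 2) [nat_lit 1273, nat_lit 1275, nat_lit 237] []))) (FT.leaf (Fct.mk true (nat_lit 4) (nat_lit 1323) (nat_lit 26) [nat_lit 8, nat_lit 3, nat_lit 4, nat_lit 2, nat_lit 3, nat_lit 8, nat_lit 0, nat_lit 1, nat_lit 2, nat_lit 3, nat_lit 4, nat_lit 5, nat_lit 1, nat_lit 9, nat_lit 4, nat_lit 3, nat_lit 2, nat_lit 8, nat_lit 3, nat_lit 0, nat_lit 2, nat_lit 8, nat_lit 12, nat_lit 15, nat_lit 14, nat_lit 18, nat_lit 16] (Rl.t1 (nat_lit 1276) (nat_lit 453)))))) (FT.node (nat_lit 1279) (FT.leaf (Fct.mk false (nat_lit 2) (nat_lit 0) (nat_lit 2) [nat_lit 6, nat_lit 2, nat_lit 3, nat_lit 8, nat_lit 10, nat_lit 0, nat_lit 12] (Rl.cmp (nat_lit 168) (nat_lit 1198)))) (FT.node (nat_lit 1280)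 (FT.leaf (Fct.mk true (nat_lit 24) (nat_lit 781) (nat_lit 26) [nat_lit 3, nat_lit 8, nat_lit 4, nat_lit 5, nat_lit 3, nat_lit 4, nat_lit 1, nat_lit 2, nat_lit 3, nat_lit 8, nat_lit 0, nat_lit 1, nat_lit 2, nat_lit 3, nat_lit 4, nat_lit 5, nat_lit 2, nat_lit 0, nat_lit 1, nat_lit 9, nat_lit 4, nat_lit 3, nat_lit 2, nat_lit 8, nat_lit 3, nat_lit 9, nat_lit 2, nat_lit 15, nat_lit 14, nat_lit 16] (Rl.rel (nat_lit 0) [nat_lit 3, nat_lit 4, nat_lit 5, nat_lit 2, nat_lit 1, nat_lit 3, nat_lit 2, nat_lit 8, nat_lit 3, nat_lit 1, nat_lit 0, nat_lit 2, nat_lit 12, nat_lit 15, nat_lit 14, nat_lit 8, nat_lit 18, nat_lit 16] (nat_lit 26) (nat_lit 2) [nat_lit 1273, nat_lit 1278, nat_lit 1177] []))) (FT.leaf (Fct.mk true (nat_lit 24) (nat_lit 30) (nat_lit 26) [nat_lit 8, nat_lit 0, nat_lit 1, nat_lit 2, nat_lit 3, nat_lit 4, nat_lit 5, nat_lit 1, nat_lit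 3, nat_lit 2, nat_lit 0, nat_lit 1, nat_lit 9, nat_lit 4, nat_lit 3, nat_lit 2, nat_lit 8, nat_lit 3, nat_lit 0, nat_lit 2, nat_lit 12, nat_lit 15, nat_lit 14, nat_lit 8, nat_lit 16] (Rl.t1 (nat_lit 1279) (nat_lit 1213))))))) (FT.node (nat_lit 1284) (FT.node (nat_lit 1282) (FT.leaf (Fct.mk false (nat_lit 2) (nat_lit 0) (nat_lit 2) [nat_lit 6, nat_lit 3, nat_lit 2, nat_lit 18] (Rl.cmp (nat_lit 87) (nat_lit 168)))) (FT.node (nat_lit 1283) (FT.leaf (Fct.mk false (nat_lit 2) (nat_lit 0) (nat_lit 2) [nat_lit 6, nat_lit 3, nat_lit 8, nat_lit 10, nat_lit 8] (Rl.cmp (nat_lit 84) (nat_lit 1281)))) (FT.leaf (Fct.mk true (nat_lit 4) (nat_lit 1147) (nat_lit 26) [nat_lit 3, nat_lit 8, nat_lit 1, nat_lit 2, nat_lit 3, nat_lit 4, nat_lit 5, nat_lit 1, nat_lit 8, nat_lit 4, nat_lit 3, nat_lit 2, nat_lit 0, nat_lit 1, nat_lit 9, nat_lit 4, nat_lit 3, nat_lit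 2, nat_lit 8, nat_lit 3, nat_lit 1, nat_lit 9, nat_lit 16, nat_lit 15, nat_lit 14, nat_lit 13, nat_lit 18, nat_lit 16] (Rl.rel (nat_lit 0) [nat_lit 3, nat_lit 4, nat_lit 5, nat_lit 2, nat_lit 1, nat_lit 3, nat_lit 2, nat_lit 8, nat_lit 3, nat_lit 0, nat_lit 12, nat_lit 15, nat_lit 14, nat_lit 8, nat_lit 16] (nat_lit 26) (nat_lit 2) [nat_lit 1273, nat_lit 1282, nat_lit 341] []))))) (FT.node (nat_lit 1285) (FT.leaf (Fct.mk true (nat_lit 4) (nat_lit 168) (nat_lit 26) [nat_lit 4, nat_lit 5, nat_lit 3, nat_lit 4, nat_lit 2, nat_lit 3, nat_lit 8, nat_lit 1, nat_lit 2, nat_lit 3, nat_lit 4, nat_lit 5, nat_lit 1, nat_lit 4, nat_lit 3, nat_lit 2, nat_lit 0, nat_lit 1, nat_lit 9, nat_lit 4, nat_lit 3, nat_lit 2, nat_lit 8, nat_lit 3, nat_lit 11, nat_lit 1, nat_lit 13, nat_lit 12, nat_lit 18, nat_lit 16] (Rl.t1 (nat_lit 1283) (nat_lit 405)))) (FT.node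 (nat_lit 1286) (FT.leaf (Fct.mk true (nat_lit 26) (nat_lit 1140) (nat_lit 4) [nat_lit 4, nat_lit 3, nat_lit 8, nat_lit 5, nat_lit 6, nat_lit 4, nat_lit 5, nat_lit 3, nat_lit 4, nat_lit 1, nat_lit 2, nat_lit 3, nat_lit 8, nat_lit 0, nat_lit 1, nat_lit 2, nat_lit 3, nat_lit 4, nat_lit 5, nat_lit 3, nat_lit 2, nat_lit 1, nat_lit 8, nat_lit 3, nat_lit 2, nat_lit 0, nat_lit 1, nat_lit 9, nat_lit 4, nat_lit 3, nat_lit 2, nat_lit 8, nat_lit 3, nat_lit 11, nat_lit 2, nat_lit 8, nat_lit 10, nat_lit 1, nat_lit 12, nat_lit 15, nat_lit 13, nat_lit 12, nat_lit 18] (Rl.inv (nat_lit 1284)))) (FT.leaf (Fct.mk false (nat_lit 2) (nat_lit 0) (nat_lit 2) [nat_lit 6, nat_lit 2, nat_lit 1, nat_lit 8, nat_lit 3, nat_lit 2, nat_lit 0, nat_lit 1, nat_lit 4, nat_lit 3, nat_lit 2, nat_lit 8, nat_lit 3, nat_lit 2, nat_lit 8, nat_lit 10, nat_lit 1, nat_lit 8, nat_lit 12,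 nat_lit 15, nat_lit 14, nat_lit 12, nat_lit 18] (Rl.cmp (nat_lit 300) (nat_lit 1067)))))))) (FT.node (nat_lit 1293) (FT.node (nat_lit 1290) (FT.node (nat_lit 1288) (FT.leaf (Fct.mk false (nat_lit 26) (nat_lit 0) (nat_lit 26) [nat_lit 80] (Rl.rel (nat_lit 0) [nat_lit 3, nat_lit 4, nat_lit 5, nat_lit 8, nat_lit 3, nat_lit 2, nat_lit 1, nat_lit 4, nat_lit 3, nat_lit 2, nat_lit 8, nat_lit 3, nat_lit 1, nat_lit 0, nat_lit 2, nat_lit 12, nat_lit 15, nat_lit 14, nat_lit 8, nat_lit 16] (nat_lit 26) (nat_lit 3) [nat_lit 1273, nat_lit 1286, nat_lit 341, nat_lit 397, nat_lit 1284] []))) (FT.node (nat_lit 1289) (FT.leaf (Fct.mk true (nat_lit 26) (nat_lit 918) (nat_lit 4) [nat_lit 1, nat_lit 2, nat_lit 3, nat_lit 8, nat_lit 5, nat_lit 6, nat_lit 4, nat_lit 5, nat_lit 3, nat_lit 4, nat_lit 2, nat_lit 3, nat_lit 8, nat_lit 1, nat_lit 2, nat_lit 3, nat_lit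 4, nat_lit 5, nat_lit 2, nat_lit 1, nat_lit 3, nat_lit 2, nat_lit 0, nat_lit 1, nat_lit 9, nat_lit 4, nat_lit 3, nat_lit 2, nat_lit 8, nat_lit 3, nat_lit 11, nat_lit 10, nat_lit 8, nat_lit 16, nat_lit 15, nat_lit 14, nat_lit 17] (Rl.t1 (nat_lit 1285) (nat_lit 1287)))) (FT.leaf (Fct.mk false (nat_lit 2) (nat_lit 0) (nat_lit 2) [nat_lit 3, nat_lit 2, nat_lit 1, nat_lit 8, nat_lit 3, nat_lit 2, nat_lit 0, nat_lit 1, nat_lit 4, nat_lit 3, nat_lit 2, nat_lit 8, nat_lit 3, nat_lit 10, nat_lit 0, nat_lit 8, nat_lit 12, nat_lit 15, nat_lit 14, nat_lit 8, nat_lit 18] (Rl.cmp (nat_lit 300) (nat_lit 1068)))))) (FT.node (nat_lit 1291) (FT.leaf (Fct.mk true (nat_lit 23) (nat_lit 581) (nat_lit 26) [nat_lit 2, nat_lit 1, nat_lit 3, nat_lit 2, nat_lit 8, nat_lit 3, nat_lit 10, nat_lit 2, nat_lit 8, nat_lit 10, nat_lit 1, nat_lit 15, nat_lit 14, nat_lit 18]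 (Rl.rel (nat_lit 0) [nat_lit 3, nat_lit 8, nat_lit 2, nat_lit 3, nat_lit 4, nat_lit 5, nat_lit 1, nat_lit 3, nat_lit 2, nat_lit 8, nat_lit 3, nat_lit 0, nat_lit 2, nat_lit 12, nat_lit 15, nat_lit 14, nat_lit 8, nat_lit 18, nat_lit 16] (nat_lit 26) (nat_lit 2) [nat_lit 1273, nat_lit 1289, nat_lit 1062] []))) (FT.node (nat_lit 1292) (FT.leaf (Fct.mk true (nat_lit 23) (nat_lit 287) (nat_lit 26) [nat_lit 1, nat_lit 2, nat_lit 3, nat_lit 8, nat_lit 0, nat_lit 1, nat_lit 2, nat_lit 3, nat_lit 4, nat_lit 5, nat_lit 2, nat_lit 8, nat_lit 3, nat_lit 2, nat_lit 8, nat_lit 10, nat_lit 1, nat_lit 15, nat_lit 12] (Rl.t1 (nat_lit 1290) (nat_lit 1174)))) (FT.leaf (Fct.mk true (nat_lit 26) (nat_lit 265) (nat_lit 23) [nat_lit 3, nat_lit 4, nat_lit 5, nat_lit 3, nat_lit 2, nat_lit 1, nat_lit 4, nat_lit 3, nat_lit 2, nat_lit 8, nat_lit 3, nat_lit 0, nat_lit 8,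 nat_lit 12, nat_lit 15, nat_lit 14, nat_lit 8] (Rl.inv (nat_lit 1291))))))) (FT.node (nat_lit 1296) (FT.node (nat_lit 1294) (FT.leaf (Fct.mk false (nat_lit 2) (nat_lit 0) (nat_lit 2) [nat_lit 6, nat_lit 8, nat_lit 3, nat_lit 0, nat_lit 8] (Rl.cmp (nat_lit 173) (nat_lit 168)))) (FT.node (nat_lit 1295) (FT.leaf (Fct.mk false (nat_lit 2) (nat_lit 0) (nat_lit 2) [nat_lit 6, nat_lit 8, nat_lit 3, nat_lit 0, nat_lit 12, nat_lit 18] (Rl.cmp (nat_lit 84) (nat_lit 1293)))) (FT.leaf (Fct.mk true (nat_lit 26) (nat_lit 1175) (nat_lit 26) [nat_lit 6, nat_lit 2, nat_lit 3, nat_lit 8, nat_lit 10, nat_lit 0, nat_lit 18] (Rl.rel (nat_lit 0) [nat_lit 3, nat_lit 8, nat_lit 2, nat_lit 3, nat_lit 4, nat_lit 5, nat_lit 1, nat_lit 3, nat_lit 2, nat_lit 8, nat_lit 3, nat_lit 0, nat_lit 2, nat_lit 8, nat_lit 12, nat_lit 15, nat_lit 14, nat_lit 8, nat_lit 18, nat_lit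 16] (nat_lit 26) (nat_lit 2) [nat_lit 1273, nat_lit 1294, nat_lit 1272] []))))) (FT.node (nat_lit 1298) (FT.node (nat_lit 1297) (FT.leaf (Fct.mk true (nat_lit 26) (nat_lit 903) (nat_lit 26) [nat_lit 6, nat_lit 3, nat_lit 2, nat_lit 1, nat_lit 8, nat_lit 3, nat_lit 2, nat_lit 0, nat_lit 1, nat_lit 4, nat_lit 3, nat_lit 2, nat_lit 8, nat_lit 3, nat_lit 8, nat_lit 10, nat_lit 0, nat_lit 8, nat_lit 12, nat_lit 15, nat_lit 14, nat_lit 8] (Rl.t1 (nat_lit 1295) (nat_lit 1287)))) (FT.leaf (Fct.mk true (nat_lit 26) (nat_lit 243) (nat_lit 26) [nat_lit 6, nat_lit 3, nat_lit 2, nat_lit 1, nat_lit 8, nat_lit 3, nat_lit 2, nat_lit 0, nat_lit 1, nat_lit 4, nat_lit 3, nat_lit 2, nat_lit 8, nat_lit 3, nat_lit 8, nat_lit 10, nat_lit 0, nat_lit 8, nat_lit 12, nat_lit 15, nat_lit 14, nat_lit 8] (Rl.inv (nat_lit 1296))))) (FT.node (nat_lit 1299) (FT.leaf (Fct.mk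 false (nat_lit 2) (nat_lit 0) (nat_lit 2) [nat_lit 1, nat_lit 8, nat_lit 3, nat_lit 2, nat_lit 0, nat_lit 1, nat_lit 4, nat_lit 3, nat_lit 2, nat_lit 8, nat_lit 3, nat_lit 2, nat_lit 10, nat_lit 1, nat_lit 8, nat_lit 12, nat_lit 15, nat_lit 14, nat_lit 8] (Rl.cmp (nat_lit 300) (nat_lit 173)))) (FT.leaf (Fct.mk false (nat_lit 26) (nat_lit 0) (nat_lit 26) [nat_lit 3, nat_lit 2, nat_lit 8, nat_lit 3] (Rl.rel (nat_lit 0) [nat_lit 3, nat_lit 8, nat_lit 2, nat_lit 3, nat_lit 4, nat_lit 5, nat_lit 3, nat_lit 2, nat_lit 1, nat_lit 4, nat_lit 3, nat_lit 2, nat_lit 8, nat_lit 3, nat_lit 1, nat_lit 0, nat_lit 2, nat_lit 15, nat_lit 14, nat_lit 8, nat_lit 18, nat_lit 16] (nat_lit 26) (nat_lit 3) [nat_lit 1273, nat_lit 1298, nat_lit 1062, nat_lit 1172, nat_lit 1291] []))))))))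

/-- some facts -/
noncomputable def ftc26 : FT := FT.node (nat_lit 1325) (FT.node (nat_lit 1312) (FT.node (nat_lit 1306) (FT.node (nat_lit 1303) (FT.node (nat_lit 1301) (FT.leaf (Fct.mk false (nat_lit 26) (nat_lit 0) (nat_lit 26) [nat_lit 2, nat_lit 1, nat_lit 3, nat_lit 2, nat_lit 0, nat_lit 1, nat_lit 4, nat_lit 3, nat_lit 2, nat_lit 8, nat_lit 3, nat_lit 10, nat_lit 1, nat_lit 8, nat_lit 12, nat_lit 15, nat_lit 14, nat_lit 12, nat_lit 18] (Rl.cmp (nat_lit 1299) (nat_lit 1287)))) (FT.node (nat_lit 1302) (FT.leaf (Fct.mk false (nat_lit 2) (nat_lit 0) (nat_lit 2) [nat_lit 8, nat_lit 10, nat_lit 8] (Rl.cmp (nat_lit 88) (nat_lit 84)))) (FT.leaf (Fct.mk false (nat_lit 26) (nat_lit 0) (nat_lit 26) [nat_lit 6, nat_lit 2, nat_lit 3, nat_lit 8, nat_lit 10, nat_lit 0, nat_lit 18] (Rl.rel (nat_lit 0) [nat_lit 3, nat_lit 8, nat_lit 2, nat_lit 3, nat_lit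 4, nat_lit 5, nat_lit 1, nat_lit 2, nat_lit 0, nat_lit 1, nat_lit 3, nat_lit 2, nat_lit 8, nat_lit 3, nat_lit 2, nat_lit 12, nat_lit 15, nat_lit 14, nat_lit 8, nat_lit 18, nat_lit 16] (nat_lit 26) (nat_lit 3) [nat_lit 1273, nat_lit 1301, nat_lit 1272, nat_lit 1300, nat_lit 1297] []))))) (FT.node (nat_lit 1304) (FT.leaf (Fct.mk true (nat_lit 26) (nat_lit 203) (nat_lit 4) [nat_lit 4, nat_lit 3, nat_lit 8, nat_lit 2, nat_lit 3, nat_lit 4, nat_lit 1, nat_lit 2, nat_lit 3, nat_lit 8, nat_lit 5, nat_lit 6, nat_lit 4, nat_lit 5, nat_lit 3, nat_lit 4, nat_lit 2, nat_lit 3, nat_lit 8, nat_lit 1, nat_lit 2, nat_lit 3, nat_lit 4, nat_lit 5, nat_lit 3, nat_lit 2, nat_lit 1, nat_lit 8, nat_lit 3, nat_lit 2, nat_lit 0, nat_lit 1, nat_lit 9, nat_lit 4, nat_lit 3, nat_lit 2, nat_lit 8, nat_lit 3, nat_lit 9, nat_lit 2, nat_lit 8, nat_lit 12, nat_lit 15, nat_lit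 14, nat_lit 8] (Rl.t1 (nat_lit 1288) (nat_lit 1302)))) (FT.node (nat_lit 1305) (FT.leaf (Fct.mk true (nat_lit 25) (nat_lit 690) (nat_lit 26) [nat_lit 6, nat_lit 2, nat_lit 8, nat_lit 3, nat_lit 1, nat_lit 0, nat_lit 2, nat_lit 12, nat_lit 15, nat_lit 14, nat_lit 8] (Rl.rel (nat_lit 0) [nat_lit 3, nat_lit 8, nat_lit 2, nat_lit 3, nat_lit 4, nat_lit 5, nat_lit 3, nat_lit 2, nat_lit 1, nat_lit 4, nat_lit 3, nat_lit 2, nat_lit 8, nat_lit 3, nat_lit 11, nat_lit 10, nat_lit 1, nat_lit 8, nat_lit 16, nat_lit 15, nat_lit 14, nat_lit 17, nat_lit 19, nat_lit 16] (nat_lit 26) (nat_lit 2) [nat_lit 1273, nat_lit 377, nat_lit 1225] []))) (FT.leaf (Fct.mk true (nat_lit 25) (nat_lit 90) (nat_lit 26) [nat_lit 4, nat_lit 5, nat_lit 2, nat_lit 3, nat_lit 4, nat_lit 1, nat_lit 2, nat_lit 3, nat_lit 8, nat_lit 0, nat_lit 1, nat_lit 2, nat_lit 3, nat_lit 4, nat_lit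 5, nat_lit 3, nat_lit 8, nat_lit 4, nat_lit 3, nat_lit 2, nat_lit 0, nat_lit 1, nat_lit 9, nat_lit 4, nat_lit 3, nat_lit 2, nat_lit 8, nat_lit 3, nat_lit 10, nat_lit 15, nat_lit 14, nat_lit 19, nat_lit 16] (Rl.t1 (nat_lit 1304) (nat_lit 1247))))))) (FT.node (nat_lit 1309) (FT.node (nat_lit 1307) (FT.leaf (Fct.mk true (nat_lit 26) (nat_lit 68) (nat_lit 25) [nat_lit 5, nat_lit 3, nat_lit 4, nat_lit 1, nat_lit 2, nat_lit 3, nat_lit 8, nat_lit 0, nat_lit 1, nat_lit 2, nat_lit 3, nat_lit 4, nat_lit 5, nat_lit 1, nat_lit 8, nat_lit 3, nat_lit 2, nat_lit 0, nat_lit 1, nat_lit 4, nat_lit 3, nat_lit 2, nat_lit 8, nat_lit 3, nat_lit 11, nat_lit 2, nat_lit 8, nat_lit 10, nat_lit 1, nat_lit 12, nat_lit 15, nat_lit 16, nat_lit 8] (Rl.inv (nat_lit 1305)))) (FT.node (nat_lit 1308) (FT.leaf (Fct.mk true (nat_lit 26) (nat_lit 63) (nat_lit 25) [nat_lit 5, nat_lit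 3, nat_lit 4, nat_lit 1, nat_lit 2, nat_lit 3, nat_lit 8, nat_lit 0, nat_lit 1, nat_lit 2, nat_lit 3, nat_lit 4, nat_lit 5, nat_lit 2, nat_lit 1, nat_lit 8, nat_lit 3, nat_lit 2, nat_lit 0, nat_lit 1, nat_lit 4, nat_lit 3, nat_lit 2, nat_lit 8, nat_lit 3, nat_lit 11, nat_lit 2, nat_lit 10, nat_lit 1, nat_lit 12, nat_lit 15, nat_lit 16, nat_lit 8] (Rl.t1 (nat_lit 1306) (nat_lit 1299)))) (FT.leaf (Fct.mk false (nat_lit 2) (nat_lit 0) (nat_lit 2) [nat_lit 6, nat_lit 2, nat_lit 3, nat_lit 2, nat_lit 18] (Rl.cmp (nat_lit 87) (nat_lit 1205)))))) (FT.node (nat_lit 1310) (FT.leaf (Fct.mk false (nat_lit 26) (nat_lit 0) (nat_lit 26) [nat_lit 6, nat_lit 2, nat_lit 1, nat_lit 3, nat_lit 2, nat_lit 0, nat_lit 1, nat_lit 4, nat_lit 3, nat_lit 2, nat_lit 8, nat_lit 3, nat_lit 8, nat_lit 10, nat_lit 8, nat_lit 12, nat_lit 15, nat_lit 14, nat_lit 8] (Rl.rel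 (nat_lit 0) [nat_lit 3, nat_lit 8, nat_lit 2, nat_lit 3, nat_lit 4, nat_lit 5, nat_lit 2, nat_lit 1, nat_lit 3, nat_lit 2, nat_lit 0, nat_lit 1, nat_lit 4, nat_lit 3, nat_lit 2, nat_lit 8, nat_lit 3, nat_lit 0, nat_lit 12, nat_lit 15, nat_lit 14, nat_lit 8, nat_lit 16] (nat_lit 26) (nat_lit 3) [nat_lit 1273, nat_lit 1308, nat_lit 1062, nat_lit 1065, nat_lit 1291] []))) (FT.node (nat_lit 1311) (FT.leaf (Fct.mk false (nat_lit 25) (nat_lit 0) (nat_lit 25) [nat_lit 6, nat_lit 4, nat_lit 0, nat_lit 2] (Rl.cmp (nat_lit 1258) (nat_lit 1237)))) (FT.leaf (Fct.mk false (nat_lit 26) (nat_lit 0) (nat_lit 26) [nat_lit 6, nat_lit 3, nat_lit 2, nat_lit 1, nat_lit 8, nat_lit 3, nat_lit 2, nat_lit 0, nat_lit 1, nat_lit 4, nat_lit 3, nat_lit 2, nat_lit 8, nat_lit 3, nat_lit 8, nat_lit 10, nat_lit 0, nat_lit 8, nat_lit 12, nat_lit 15, nat_lit 14, nat_lit 8] (Rl.cmp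 (nat_lit 1287) (nat_lit 1302)))))))) (FT.node (nat_lit 1318) (FT.node (nat_lit 1315) (FT.node (nat_lit 1313) (FT.leaf (Fct.mk false (nat_lit 26) (nat_lit 0) (nat_lit 26) [nat_lit 6, nat_lit 8, nat_lit 10, nat_lit 0, nat_lit 12, nat_lit 18] (Rl.cmp (nat_lit 1309) (nat_lit 1287)))) (FT.node (nat_lit 1314) (FT.leaf (Fct.mk true (nat_lit 26) (nat_lit 98) (nat_lit 26) [nat_lit 4, nat_lit 3, nat_lit 8, nat_lit 5, nat_lit 6, nat_lit 4, nat_lit 5, nat_lit 3, nat_lit 4, nat_lit 1, nat_lit 2, nat_lit 3, nat_lit 8, nat_lit 0, nat_lit 1, nat_lit 2, nat_lit 3, nat_lit 4, nat_lit 5, nat_lit 8, nat_lit 3, nat_lit 10, nat_lit 16, nat_lit 15, nat_lit 14, nat_lit 12, nat_lit 16] (Rl.rel (nat_lit 0) [nat_lit 3, nat_lit 4, nat_lit 2, nat_lit 3, nat_lit 8, nat_lit 1, nat_lit 2, nat_lit 3, nat_lit 4, nat_lit 5, nat_lit 2, nat_lit 10, nat_lit 1, nat_lit 15, nat_lit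 12] (nat_lit 26) (nat_lit 2) [nat_lit 1303, nat_lit 369, nat_lit 1277] []))) (FT.leaf (Fct.mk true (nat_lit 26) (nat_lit 41) (nat_lit 26) [nat_lit 4, nat_lit 5, nat_lit 6, nat_lit 3, nat_lit 4, nat_lit 5, nat_lit 2, nat_lit 3, nat_lit 4, nat_lit 1, nat_lit 2, nat_lit 3, nat_lit 8, nat_lit 0, nat_lit 1, nat_lit 2, nat_lit 3, nat_lit 4, nat_lit 5, nat_lit 3, nat_lit 10, nat_lit 1, nat_lit 16, nat_lit 15, nat_lit 14, nat_lit 12, nat_lit 16] (Rl.t1 (nat_lit 1313) (nat_lit 1312)))))) (FT.node (nat_lit 1316) (FT.leaf (Fct.mk false (nat_lit 26) (nat_lit 0) (nat_lit 26) [nat_lit 6, nat_lit 1, nat_lit 8, nat_lit 3, nat_lit 2, nat_lit 0, nat_lit 1, nat_lit 4, nat_lit 3, nat_lit 2, nat_lit 8, nat_lit 3, nat_lit 8, nat_lit 10, nat_lit 0, nat_lit 8, nat_lit 12, nat_lit 15, nat_lit 14] (Rl.cmp (nat_lit 1309) (nat_lit 1299)))) (FT.node (nat_lit 1317) (FT.leaf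 (Fct.mk true (nat_lit 9) (nat_lit 3321) (nat_lit 26) [nat_lit 3, nat_lit 4, nat_lit 2, nat_lit 3, nat_lit 8, nat_lit 5, nat_lit 6, nat_lit 4, nat_lit 5, nat_lit 3, nat_lit 4, nat_lit 2, nat_lit 3, nat_lit 8, nat_lit 1, nat_lit 2, nat_lit 3, nat_lit 4, nat_lit 5, nat_lit 4, nat_lit 3, nat_lit 2, nat_lit 1, nat_lit 8, nat_lit 3, nat_lit 2, nat_lit 0, nat_lit 1, nat_lit 4, nat_lit 3, nat_lit 2, nat_lit 8, nat_lit 3, nat_lit 11, nat_lit 8, nat_lit 10, nat_lit 1, nat_lit 15, nat_lit 14, nat_lit 13, nat_lit 12, nat_lit 19] (Rl.rel (nat_lit 0) [nat_lit 3, nat_lit 8, nat_lit 4, nat_lit 5, nat_lit 3, nat_lit 4, nat_lit 2, nat_lit 3, nat_lit 8, nat_lit 1, nat_lit 2, nat_lit 3, nat_lit 4, nat_lit 5, nat_lit 3, nat_lit 2, nat_lit 10, nat_lit 1, nat_lit 15, nat_lit 14, nat_lit 12, nat_lit 16] (nat_lit 26) (nat_lit 2) [nat_lit 1303, nat_lit 234, nat_lit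 1167] []))) (FT.leaf (Fct.mk true (nat_lit 9) (nat_lit 556) (nat_lit 26) [nat_lit 4, nat_lit 3, nat_lit 8, nat_lit 5, nat_lit 6, nat_lit 4, nat_lit 5, nat_lit 3, nat_lit 4, nat_lit 1, nat_lit 2, nat_lit 3, nat_lit 8, nat_lit 0, nat_lit 1, nat_lit 2, nat_lit 3, nat_lit 4, nat_lit 5, nat_lit 9, nat_lit 4, nat_lit 9, nat_lit 8, nat_lit 16, nat_lit 14, nat_lit 12] (Rl.t1 (nat_lit 1316) (nat_lit 693))))))) (FT.node (nat_lit 1321) (FT.node (nat_lit 1319) (FT.leaf (Fct.mk true (nat_lit 26) (nat_lit 3764) (nat_lit 9) [nat_lit 4, nat_lit 5, nat_lit 3, nat_lit 4, nat_lit 2, nat_lit 3, nat_lit 8, nat_lit 1, nat_lit 2, nat_lit 3, nat_lit 4, nat_lit 5, nat_lit 4, nat_lit 1, nat_lit 16, nat_lit 8, nat_lit 12, nat_lit 15, nat_lit 8, nat_lit 16] (Rl.inv (nat_lit 1317)))) (FT.node (nat_lit 1320) (FT.leaf (Fct.mk true (nat_lit 26) (nat_lit 3315) (nat_lit 9)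 [nat_lit 6, nat_lit 5, nat_lit 4, nat_lit 3, nat_lit 8, nat_lit 0, nat_lit 1, nat_lit 2, nat_lit 3, nat_lit 4, nat_lit 5, nat_lit 2, nat_lit 1, nat_lit 3, nat_lit 2, nat_lit 0, nat_lit 1, nat_lit 4, nat_lit 3, nat_lit 2, nat_lit 8, nat_lit 3, nat_lit 2, nat_lit 16, nat_lit 8, nat_lit 12, nat_lit 15, nat_lit 17, nat_lit 12, nat_lit 18] (Rl.t1 (nat_lit 1318) (nat_lit 1315)))) (FT.leaf (Fct.mk false (nat_lit 26) (nat_lit 0) (nat_lit 26) [nat_lit 6, nat_lit 1, nat_lit 8, nat_lit 3, nat_lit 2, nat_lit 0, nat_lit 1, nat_lit 4, nat_lit 3, nat_lit 2, nat_lit 8, nat_lit 3, nat_lit 8, nat_lit 10, nat_lit 0, nat_lit 8, nat_lit 12, nat_lit 15, nat_lit 14] (Rl.cmp (nat_lit 1309) (nat_lit 1299)))))) (FT.node (nat_lit 1323) (FT.node (nat_lit 1322) (FT.leaf (Fct.mk true (nat_lit 5) (nat_lit 12398) (nat_lit 26) [nat_lit 6, nat_lit 10, nat_lit 0, nat_lit 15,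 nat_lit 12, nat_lit 18] (Rl.rel (nat_lit 0) [nat_lit 3, nat_lit 8, nat_lit 4, nat_lit 5, nat_lit 3, nat_lit 4, nat_lit 2, nat_lit 3, nat_lit 8, nat_lit 1, nat_lit 2, nat_lit 3, nat_lit 4, nat_lit 5, nat_lit 3, nat_lit 12, nat_lit 15, nat_lit 12, nat_lit 16] (nat_lit 26) (nat_lit 2) [nat_lit 1303, nat_lit 413, nat_lit 469] []))) (FT.leaf (Fct.mk true (nat_lit 26) (nat_lit 3706) (nat_lit 5) [nat_lit 6, nat_lit 10, nat_lit 2, nat_lit 8, nat_lit 10, nat_lit 1, nat_lit 15, nat_lit 8] (Rl.inv (nat_lit 1321))))) (FT.node (nat_lit 1324) (FT.leaf (Fct.mk true (nat_lit 26) (nat_lit 3311) (nat_lit 5) [nat_lit 2, nat_lit 1, nat_lit 3, nat_lit 2, nat_lit 0, nat_lit 1, nat_lit 4, nat_lit 3, nat_lit 2, nat_lit 8, nat_lit 3, nat_lit 1, nat_lit 8, nat_lit 12, nat_lit 15, nat_lit 14, nat_lit 18] (Rl.t1 (nat_lit 1322) (nat_lit 1320)))) (FT.leaf (Fct.mk false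 (nat_lit 4) (nat_lit 0) (nat_lit 4) [nat_lit 2, nat_lit 3, nat_lit 8, nat_lit 4, nat_lit 5, nat_lit 3, nat_lit 4, nat_lit 2, nat_lit 3, nat_lit 8, nat_lit 1, nat_lit 2, nat_lit 3, nat_lit 4, nat_lit 5, nat_lit 2, nat_lit 8, nat_lit 3, nat_lit 2, nat_lit 8, nat_lit 10, nat_lit 1, nat_lit 8] (Rl.cmp (nat_lit 234) (nat_lit 312))))))))) (FT.node (nat_lit 1337) (FT.node (nat_lit 1331) (FT.node (nat_lit 1328) (FT.node (nat_lit 1326) (FT.leaf (Fct.mk false (nat_lit 4) (nat_lit 0) (nat_lit 4) [nat_lit 5, nat_lit 4, nat_lit 3, nat_lit 8, nat_lit 1, nat_lit 2, nat_lit 3, nat_lit 4, nat_lit 5, nat_lit 10] (Rl.cmp (nat_lit 312) (nat_lit 1324)))) (FT.node (nat_lit 1327) (FT.leaf (Fct.mk false (nat_lit 26) (nat_lit 0) (nat_lit 26) [nat_lit 6, nat_lit 8, nat_lit 10, nat_lit 0, nat_lit 12, nat_lit 18] (Rl.cmp (nat_lit 1309) (nat_lit 1287)))) (FT.leaf (Fct.mk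 true (nat_lit 5) (nat_lit 10129) (nat_lit 26) [nat_lit 8, nat_lit 3, nat_lit 4, nat_lit 5, nat_lit 2, nat_lit 1, nat_lit 4, nat_lit 3, nat_lit 2, nat_lit 0, nat_lit 1, nat_lit 9, nat_lit 4, nat_lit 3, nat_lit 2, nat_lit 8, nat_lit 3, nat_lit 11, nat_lit 2, nat_lit 8, nat_lit 10, nat_lit 1, nat_lit 13, nat_lit 19] (Rl.rel (nat_lit 0) [nat_lit 8, nat_lit 4, nat_lit 5, nat_lit 2, nat_lit 3, nat_lit 4, nat_lit 1, nat_lit 2, nat_lit 3, nat_lit 8, nat_lit 0, nat_lit 1, nat_lit 2, nat_lit 3, nat_lit 4, nat_lit 5, nat_lit 4, nat_lit 3, nat_lit 2, nat_lit 0, nat_lit 1, nat_lit 9, nat_lit 4, nat_lit 3, nat_lit 2, nat_lit 8, nat_lit 3, nat_lit 9, nat_lit 2, nat_lit 8, nat_lit 12, nat_lit 15, nat_lit 13, nat_lit 18] (nat_lit 26) (nat_lit 2) [nat_lit 1319, nat_lit 681] []))))) (FT.node (nat_lit 1329) (FT.leaf (Fct.mk true (nat_lit 26) (nat_lit 12470) (nat_lit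 5) [nat_lit 6, nat_lit 5, nat_lit 3, nat_lit 4, nat_lit 2, nat_lit 3, nat_lit 8, nat_lit 0, nat_lit 1, nat_lit 2, nat_lit 3, nat_lit 4, nat_lit 5, nat_lit 1, nat_lit 3, nat_lit 2, nat_lit 0, nat_lit 1, nat_lit 4, nat_lit 3, nat_lit 2, nat_lit 8, nat_lit 3, nat_lit 0, nat_lit 2, nat_lit 14, nat_lit 16, nat_lit 8, nat_lit 18] (Rl.inv (nat_lit 1327)))) (FT.node (nat_lit 1330) (FT.leaf (Fct.mk true (nat_lit 26) (nat_lit 3462) (nat_lit 5) [nat_lit 3, nat_lit 8, nat_lit 4, nat_lit 5, nat_lit 3, nat_lit 4, nat_lit 2, nat_lit 3, nat_lit 8, nat_lit 1, nat_lit 2, nat_lit 3, nat_lit 4, nat_lit 5, nat_lit 1, nat_lit 2, nat_lit 0, nat_lit 1, nat_lit 4, nat_lit 3, nat_lit 2, nat_lit 8, nat_lit 3, nat_lit 1, nat_lit 0, nat_lit 2, nat_lit 16, nat_lit 8, nat_lit 18] (Rl.t1 (nat_lit 1328) (nat_lit 1326)))) (FT.leaf (Fct.mk false (nat_lit 26) (nat_lit 0) (nat_lit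 26) [nat_lit 6, nat_lit 8, nat_lit 10, nat_lit 0, nat_lit 12, nat_lit 18] (Rl.cmp (nat_lit 1309) (nat_lit 1287))))))) (FT.node (nat_lit 1334) (FT.node (nat_lit 1332) (FT.leaf (Fct.mk true (nat_lit 9) (nat_lit 1172) (nat_lit 26) [nat_lit 3, nat_lit 4, nat_lit 5, nat_lit 8, nat_lit 3, nat_lit 11, nat_lit 15, nat_lit 17, nat_lit 18, nat_lit 16] (Rl.rel (nat_lit 0) [nat_lit 0, nat_lit 1, nat_lit 2, nat_lit 3, nat_lit 4, nat_lit 5, nat_lit 2, nat_lit 1, nat_lit 9, nat_lit 4, nat_lit 3, nat_lit 2, nat_lit 8, nat_lit 3, nat_lit 9, nat_lit 2, nat_lit 8, nat_lit 12, nat_lit 15, nat_lit 13, nat_lit 18] (nat_lit 26) (nat_lit 1) [nat_lit 1319] [nat_lit 1311, nat_lit 1314]))) (FT.node (nat_lit 1333) (FT.leaf (Fct.mk true (nat_lit 9) (nat_lit 465) (nat_lit 26) [nat_lit 4, nat_lit 5, nat_lit 8, nat_lit 3, nat_lit 11, nat_lit 15, nat_lit 17, nat_lit 18, nat_lit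 16] (Rl.t1 (nat_lit 1331) (nat_lit 700)))) (FT.leaf (Fct.mk true (nat_lit 26) (nat_lit 4) (nat_lit 9) [nat_lit 6, nat_lit 9, nat_lit 4, nat_lit 11, nat_lit 14, nat_lit 17, nat_lit 12, nat_lit 19, nat_lit 16] (Rl.inv (nat_lit 1332)))))) (FT.node (nat_lit 1335) (FT.leaf (Fct.mk true (nat_lit 26) (nat_lit 0) (nat_lit 9) [nat_lit 9, nat_lit 4, nat_lit 10, nat_lit 16, nat_lit 8, nat_lit 12, nat_lit 15, nat_lit 16, nat_lit 8, nat_lit 16] (Rl.t1 (nat_lit 1333) (nat_lit 1330)))) (FT.node (nat_lit 1336) (FT.leaf (Fct.mk true (nat_lit 9) (nat_lit 13) (nat_lit 9) [nat_lit 4, nat_lit 5, nat_lit 4, nat_lit 10, nat_lit 1] (Rl.rel (nat_lit 0) [nat_lit 4, nat_lit 8, nat_lit 10] (nat_lit 26) (nat_lit 1) [nat_lit 1334] [nat_lit 1330, nat_lit 1334]))) (FT.leaf (Fct.mk true (nat_lit 9) (nat_lit 4545) (nat_lit 26) [nat_lit 3, nat_lit 8, nat_lit 4, nat_lit 5, nat_lit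 3, nat_lit 4, nat_lit 2, nat_lit 3, nat_lit 8, nat_lit 1, nat_lit 2, nat_lit 3, nat_lit 4, nat_lit 5, nat_lit 1, nat_lit 4, nat_lit 3, nat_lit 2, nat_lit 0, nat_lit 1, nat_lit 9, nat_lit 4, nat_lit 3, nat_lit 2, nat_lit 8, nat_lit 3, nat_lit 2, nat_lit 12, nat_lit 8, nat_lit 16, nat_lit 14, nat_lit 17, nat_lit 16] (Rl.rel (nat_lit 0) [nat_lit 8, nat_lit 3, nat_lit 4, nat_lit 5, nat_lit 4, nat_lit 2, nat_lit 10, nat_lit 1] (nat_lit 26) (nat_lit 1) [nat_lit 1334] [nat_lit 1314]))))))) (FT.node (nat_lit 1343) (FT.node (nat_lit 1340) (FT.node (nat_lit 1338) (FT.leaf (Fct.mk true (nat_lit 9) (nat_lit 830) (nat_lit 26) [nat_lit 8, nat_lit 4, nat_lit 5, nat_lit 2, nat_lit 3, nat_lit 4, nat_lit 1, nat_lit 2, nat_lit 3, nat_lit 8, nat_lit 0, nat_lit 1, nat_lit 2, nat_lit 3, nat_lit 4, nat_lit 5, nat_lit 2, nat_lit 1, nat_lit 8, nat_lit 4, nat_lit 3,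 nat_lit 2, nat_lit 0, nat_lit 1, nat_lit 9, nat_lit 4, nat_lit 3, nat_lit 2, nat_lit 8, nat_lit 3, nat_lit 10, nat_lit 9, nat_lit 2, nat_lit 12, nat_lit 8, nat_lit 16, nat_lit 14, nat_lit 17, nat_lit 16] (Rl.t1 (nat_lit 1336) (nat_lit 692)))) (FT.node (nat_lit 1339) (FT.leaf (Fct.mk true (nat_lit 26) (nat_lit 3657) (nat_lit 9) [nat_lit 4, nat_lit 2, nat_lit 3, nat_lit 8, nat_lit 5, nat_lit 6, nat_lit 4, nat_lit 5, nat_lit 3, nat_lit 4, nat_lit 2, nat_lit 3, nat_lit 8, nat_lit 1, nat_lit 2, nat_lit 3, nat_lit 4, nat_lit 5, nat_lit 3, nat_lit 8, nat_lit 4, nat_lit 3, nat_lit 2, nat_lit 0, nat_lit 1, nat_lit 9, nat_lit 4, nat_lit 3, nat_lit 2, nat_lit 8, nat_lit 3, nat_lit 10, nat_lit 0, nat_lit 12, nat_lit 15, nat_lit 17, nat_lit 12] (Rl.inv (nat_lit 1337)))) (FT.leaf (Fct.mk true (nat_lit 26) (nat_lit 3273) (nat_lit 9) [nat_lit 4, nat_lit 3,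 nat_lit 8, nat_lit 5, nat_lit 6, nat_lit 4, nat_lit 5, nat_lit 3, nat_lit 4, nat_lit 2, nat_lit 3, nat_lit 8, nat_lit 1, nat_lit 2, nat_lit 3, nat_lit 4, nat_lit 5, nat_lit 2, nat_lit 8, nat_lit 3, nat_lit 8, nat_lit 10, nat_lit 16, nat_lit 15, nat_lit 14, nat_lit 18, nat_lit 16] (Rl.t1 (nat_lit 1338) (nat_lit 1309)))))) (FT.node (nat_lit 1341) (FT.leaf (Fct.mk false (nat_lit 9) (nat_lit 0) (nat_lit 9) [nat_lit 0, nat_lit 1, nat_lit 2, nat_lit 3, nat_lit 0, nat_lit 15] (Rl.cmp (nat_lit 658) (nat_lit 658)))) (FT.node (nat_lit 1342) (FT.leaf (Fct.mk false (nat_lit 9) (nat_lit 0) (nat_lit 9) [nat_lit 12] (Rl.cmp (nat_lit 658) (nat_lit 1340)))) (FT.leaf (Fct.mk false (nat_lit 9) (nat_lit 0) (nat_lit 9) [nat_lit 5, nat_lit 12] (Rl.cmp (nat_lit 675) (nat_lit 1341))))))) (FT.node (nat_lit 1346) (FT.node (nat_lit 1344) (FT.leaf (Fct.mk true (nat_lit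 9) (nat_lit 8226) (nat_lit 5) [nat_lit 5, nat_lit 3, nat_lit 4, nat_lit 2, nat_lit 3, nat_lit 8, nat_lit 0, nat_lit 1, nat_lit 2, nat_lit 3, nat_lit 4, nat_lit 5, nat_lit 4, nat_lit 1, nat_lit 9, nat_lit 12] (Rl.rel (nat_lit 0) [nat_lit 3, nat_lit 4, nat_lit 5, nat_lit 2, nat_lit 3, nat_lit 4, nat_lit 1, nat_lit 2, nat_lit 3, nat_lit 8, nat_lit 0, nat_lit 1, nat_lit 2, nat_lit 3, nat_lit 4, nat_lit 5, nat_lit 2, nat_lit 1, nat_lit 9, nat_lit 4, nat_lit 3, nat_lit 2, nat_lit 8, nat_lit 3, nat_lit 8, nat_lit 10, nat_lit 16, nat_lit 12, nat_lit 15, nat_lit 14, nat_lit 13, nat_lit 18] (nat_lit 26) (nat_lit 1) [nat_lit 1339] [nat_lit 1323]))) (FT.node (nat_lit 1345) (FT.leaf (Fct.mk true (nat_lit 9) (nat_lit 3440) (nat_lit 5) [nat_lit 3, nat_lit 8, nat_lit 0, nat_lit 1, nat_lit 2, nat_lit 3, nat_lit 4, nat_lit 5, nat_lit 4, nat_lit 9, nat_lit 12,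 nat_lit 16] (Rl.t1 (nat_lit 1343) (nat_lit 1342)))) (FT.leaf (Fct.mk true (nat_lit 2) (nat_lit 9821) (nat_lit 9) [nat_lit 6, nat_lit 5, nat_lit 4, nat_lit 3, nat_lit 8, nat_lit 1, nat_lit 2, nat_lit 3, nat_lit 4, nat_lit 5, nat_lit 4, nat_lit 11, nat_lit 1, nat_lit 8, nat_lit 16, nat_lit 15, nat_lit 14, nat_lit 13, nat_lit 18, nat_lit 16] (Rl.rel (nat_lit 0) [nat_lit 6, nat_lit 8, nat_lit 3, nat_lit 9, nat_lit 2, nat_lit 16, nat_lit 15, nat_lit 14, nat_lit 8, nat_lit 16] (nat_lit 9) (nat_lit 2) [nat_lit 1335, nat_lit 650] []))))) (FT.node (nat_lit 1348) (FT.node (nat_lit 1347) (FT.leaf (Fct.mk true (nat_lit 2) (nat_lit 1522) (nat_lit 9) [nat_lit 2, nat_lit 3, nat_lit 8, nat_lit 4, nat_lit 5, nat_lit 3, nat_lit 4, nat_lit 2, nat_lit 3, nat_lit 8, nat_lit 0, nat_lit 1, nat_lit 2, nat_lit 3, nat_lit 4, nat_lit 5, nat_lit 1, nat_lit 3, nat_lit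 2, nat_lit 0, nat_lit 1, nat_lit 4, nat_lit 3, nat_lit 2, nat_lit 8, nat_lit 3, nat_lit 1, nat_lit 9, nat_lit 12, nat_lit 15, nat_lit 17, nat_lit 19] (Rl.t1 (nat_lit 1345) (nat_lit 702)))) (FT.leaf (Fct.mk true (nat_lit 9) (nat_lit 390) (nat_lit 2) [nat_lit 5, nat_lit 6, nat_lit 4, nat_lit 5, nat_lit 3, nat_lit 4, nat_lit 2, nat_lit 3, nat_lit 8, nat_lit 0, nat_lit 1, nat_lit 2, nat_lit 3, nat_lit 4, nat_lit 5, nat_lit 3, nat_lit 2, nat_lit 1, nat_lit 9, nat_lit 4, nat_lit 3, nat_lit 2, nat_lit 8, nat_lit 3, nat_lit 2, nat_lit 10, nat_lit 1, nat_lit 15, nat_lit 14, nat_lit 13, nat_lit 19] (Rl.inv (nat_lit 1346))))) (FT.node (nat_lit 1349) (FT.leaf (Fct.mk false (nat_lit 2) (nat_lit 0) (nat_lit 2) [nat_lit 6, nat_lit 1, nat_lit 2, nat_lit 0, nat_lit 1, nat_lit 3, nat_lit 2, nat_lit 8, nat_lit 3, nat_lit 8, nat_lit 10, nat_lit 1, nat_lit 8, nat_lit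 12, nat_lit 15, nat_lit 14] (Rl.cmp (nat_lit 300) (nat_lit 168)))) (FT.leaf (Fct.mk false (nat_lit 2) (nat_lit 0) (nat_lit 2) [nat_lit 4, nat_lit 3, nat_lit 2, nat_lit 8, nat_lit 3, nat_lit 10, nat_lit 0, nat_lit 12, nat_lit 18] (Rl.cmp (nat_lit 173) (nat_lit 422)))))))))

/-- some facts -/
noncomputable def ftc27 : FT := FT.node (nat_lit 1375) (FT.node (nat_lit 1362) (FT.node (nat_lit 1356) (FT.node (nat_lit 1353) (FT.node (nat_lit 1351) (FT.leaf (Fct.mk true (nat_lit 9) (nat_lit 4666) (nat_lit 9) [nat_lit 3, nat_lit 4, nat_lit 5, nat_lit 11, nat_lit 2, nat_lit 10, nat_lit 1, nat_lit 14, nat_lit 13, nat_lit 12, nat_lit 16] (Rl.rel (nat_lit 0) [nat_lit 6, nat_lit 8, nat_lit 3, nat_lit 2, nat_lit 1, nat_lit 4, nat_lit 3, nat_lit 2, nat_lit 8, nat_lit 3, nat_lit 11, nat_lit 12, nat_lit 15, nat_lit 14, nat_lit 17, nat_lit 12, nat_lit 19, nat_lit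 16] (nat_lit 9) (nat_lit 2) [nat_lit 1347, nat_lit 1349, nat_lit 649] []))) (FT.node (nat_lit 1352) (FT.leaf (Fct.mk true (nat_lit 9) (nat_lit 1006) (nat_lit 9) [nat_lit 0, nat_lit 1, nat_lit 2, nat_lit 3, nat_lit 4, nat_lit 5, nat_lit 10, nat_lit 16, nat_lit 14, nat_lit 16] (Rl.inv (nat_lit 1350)))) (FT.leaf (Fct.mk false (nat_lit 2) (nat_lit 0) (nat_lit 2) [nat_lit 6, nat_lit 3, nat_lit 2, nat_lit 8, nat_lit 3, nat_lit 12] (Rl.cmp (nat_lit 86) (nat_lit 168)))))) (FT.node (nat_lit 1354) (FT.leaf (Fct.mk false (nat_lit 13) (nat_lit 0) (nat_lit 13) [nat_lit 9, nat_lit 4, nat_lit 3, nat_lit 2, nat_lit 8, nat_lit 3, nat_lit 10, nat_lit 9, nat_lit 2, nat_lit 12, nat_lit 18, nat_lit 16] (Rl.cmp (nat_lit 827) (nat_lit 821)))) (FT.node (nat_lit 1355) (FT.leaf (Fct.mk false (nat_lit 13) (nat_lit 0) (nat_lit 13) [nat_lit 5, nat_lit 9, nat_lit 4, nat_lit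 3, nat_lit 2, nat_lit 8, nat_lit 3, nat_lit 2, nat_lit 8, nat_lit 18, nat_lit 16] (Rl.cmp (nat_lit 831) (nat_lit 1353)))) (FT.leaf (Fct.mk false (nat_lit 13) (nat_lit 0) (nat_lit 13) [nat_lit 3, nat_lit 8, nat_lit 2, nat_lit 3, nat_lit 4, nat_lit 1, nat_lit 2, nat_lit 3, nat_lit 8, nat_lit 0, nat_lit 1, nat_lit 2, nat_lit 3, nat_lit 4, nat_lit 5, nat_lit 3, nat_lit 2, nat_lit 1, nat_lit 8, nat_lit 3, nat_lit 2, nat_lit 0, nat_lit 1, nat_lit 9, nat_lit 4, nat_lit 3, nat_lit 2, nat_lit 8, nat_lit 3, nat_lit 11, nat_lit 12] (Rl.cmp (nat_lit 1138) (nat_lit 1354))))))) (FT.node (nat_lit 1359) (FT.node (nat_lit 1357) (FT.leaf (Fct.mk true (nat_lit 9) (nat_lit 12696) (nat_lit 13) [nat_lit 6, nat_lit 8, nat_lit 4, nat_lit 3, nat_lit 2, nat_lit 1, nat_lit 9, nat_lit 4, nat_lit 3, nat_lit 2, nat_lit 8, nat_lit 3, nat_lit 10, nat_lit 9, nat_lit 2, nat_lit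 16, nat_lit 14, nat_lit 16, nat_lit 8, nat_lit 19] (Rl.rel (nat_lit 0) [nat_lit 8, nat_lit 3, nat_lit 4, nat_lit 5, nat_lit 1, nat_lit 3, nat_lit 8, nat_lit 4, nat_lit 3, nat_lit 2, nat_lit 0, nat_lit 1, nat_lit 9, nat_lit 4, nat_lit 3, nat_lit 2, nat_lit 8, nat_lit 3, nat_lit 2, nat_lit 12, nat_lit 15, nat_lit 17, nat_lit 12, nat_lit 19] (nat_lit 9) (nat_lit 1) [nat_lit 1351] [nat_lit 836]))) (FT.node (nat_lit 1358) (FT.leaf (Fct.mk true (nat_lit 13) (nat_lit 8279) (nat_lit 9) [nat_lit 8, nat_lit 6, nat_lit 5, nat_lit 3, nat_lit 4, nat_lit 2, nat_lit 3, nat_lit 8, nat_lit 1, nat_lit 2, nat_lit 3, nat_lit 4, nat_lit 5, nat_lit 1, nat_lit 2, nat_lit 3, nat_lit 10, nat_lit 2, nat_lit 8, nat_lit 10, nat_lit 1, nat_lit 18] (Rl.inv (nat_lit 1356)))) (FT.leaf (Fct.mk true (nat_lit 13) (nat_lit 1594) (nat_lit 9) [nat_lit 5, nat_lit 4, nat_lit 3, nat_lit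 8, nat_lit 0, nat_lit 1, nat_lit 2, nat_lit 3, nat_lit 4, nat_lit 5, nat_lit 0, nat_lit 2, nat_lit 8, nat_lit 12, nat_lit 15, nat_lit 14, nat_lit 18, nat_lit 16] (Rl.t1 (nat_lit 1357) (nat_lit 1355)))))) (FT.node (nat_lit 1360) (FT.leaf (Fct.mk true (nat_lit 23) (nat_lit 6258) (nat_lit 26) [nat_lit 8, nat_lit 3, nat_lit 4, nat_lit 2, nat_lit 3, nat_lit 8, nat_lit 5, nat_lit 6, nat_lit 4, nat_lit 5, nat_lit 3, nat_lit 4, nat_lit 2, nat_lit 3, nat_lit 8, nat_lit 1, nat_lit 2, nat_lit 3, nat_lit 4, nat_lit 5, nat_lit 8, nat_lit 3, nat_lit 2, nat_lit 0, nat_lit 1, nat_lit 9, nat_lit 4, nat_lit 3, nat_lit 2, nat_lit 8, nat_lit 3, nat_lit 11, nat_lit 1, nat_lit 12, nat_lit 15, nat_lit 8, nat_lit 18] (Rl.rel (nat_lit 0) [nat_lit 4, nat_lit 3, nat_lit 8, nat_lit 5, nat_lit 6, nat_lit 4, nat_lit 5, nat_lit 3, nat_lit 4, nat_lit 2, nat_lit 3, nat_lit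 8, nat_lit 0, nat_lit 1, nat_lit 2, nat_lit 3, nat_lit 4, nat_lit 5, nat_lit 1, nat_lit 8, nat_lit 3, nat_lit 2, nat_lit 0, nat_lit 1, nat_lit 9, nat_lit 4, nat_lit 3, nat_lit 2, nat_lit 8, nat_lit 3, nat_lit 8, nat_lit 10, nat_lit 9, nat_lit 2, nat_lit 15, nat_lit 14, nat_lit 18] (nat_lit 26) (nat_lit 2) [nat_lit 1329, nat_lit 488, nat_lit 1126] []))) (FT.node (nat_lit 1361) (FT.leaf (Fct.mk true (nat_lit 23) (nat_lit 924) (nat_lit 26) [nat_lit 8, nat_lit 6, nat_lit 5, nat_lit 3, nat_lit 4, nat_lit 2, nat_lit 3, nat_lit 8, nat_lit 0, nat_lit 1, nat_lit 2, nat_lit 3, nat_lit 4, nat_lit 5, nat_lit 3, nat_lit 8, nat_lit 4, nat_lit 3, nat_lit 2, nat_lit 0, nat_lit 1, nat_lit 9, nat_lit 4, nat_lit 3, nat_lit 2, nat_lit 8, nat_lit 3, nat_lit 11, nat_lit 10, nat_lit 15, nat_lit 14, nat_lit 8, nat_lit 18] (Rl.t1 (nat_lit 1359) (nat_lit 1131)))) (FT.leaf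 (Fct.mk true (nat_lit 26) (nat_lit 10247) (nat_lit 23) [nat_lit 8, nat_lit 2, nat_lit 3, nat_lit 4, nat_lit 1, nat_lit 2, nat_lit 3, nat_lit 8, nat_lit 0, nat_lit 1, nat_lit 2, nat_lit 3, nat_lit 4, nat_lit 5, nat_lit 3, nat_lit 2, nat_lit 0, nat_lit 1, nat_lit 4, nat_lit 3, nat_lit 2, nat_lit 8, nat_lit 3, nat_lit 11, nat_lit 2, nat_lit 8, nat_lit 10, nat_lit 1, nat_lit 14, nat_lit 17, nat_lit 12, nat_lit 18] (Rl.inv (nat_lit 1360)))))))) (FT.node (nat_lit 1368) (FT.node (nat_lit 1365) (FT.node (nat_lit 1363) (FT.leaf (Fct.mk true (nat_lit 26) (nat_lit 6235) (nat_lit 23) [nat_lit 3, nat_lit 4, nat_lit 5, nat_lit 2, nat_lit 1, nat_lit 9, nat_lit 4, nat_lit 3, nat_lit 2, nat_lit 8, nat_lit 3, nat_lit 11, nat_lit 2, nat_lit 10, nat_lit 1, nat_lit 15, nat_lit 14, nat_lit 17, nat_lit 12] (Rl.t1 (nat_lit 1361) (nat_lit 1309)))) (FT.node (nat_lit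 1364) (FT.leaf (Fct.mk true (nat_lit 2) (nat_lit 278) (nat_lit 27) [] (Rl.df))) (FT.leaf (Fct.mk true (nat_lit 27) (nat_lit 278) (nat_lit 2) [] (Rl.inv (nat_lit 1363)))))) (FT.node (nat_lit 1366) (FT.leaf (Fct.mk true (nat_lit 12) (nat_lit 1825) (nat_lit 27) [nat_lit 8, nat_lit 3, nat_lit 4, nat_lit 1, nat_lit 2, nat_lit 3, nat_lit 8, nat_lit 0, nat_lit 1, nat_lit 2, nat_lit 3, nat_lit 4, nat_lit 5, nat_lit 6, nat_lit 7, nat_lit 3, nat_lit 8, nat_lit 2, nat_lit 3, nat_lit 4, nat_lit 1, nat_lit 2, nat_lit 3, nat_lit 8, nat_lit 0, nat_lit 1, nat_lit 2, nat_lit 3, nat_lit 4, nat_lit 5, nat_lit 1, nat_lit 3, nat_lit 2, nat_lit 0, nat_lit 1, nat_lit 9, nat_lit 4, nat_lit 3, nat_lit 2, nat_lit 8, nat_lit 3, nat_lit 8, nat_lit 10, nat_lit 9, nat_lit 2, nat_lit 8, nat_lit 16, nat_lit 15, nat_lit 14, nat_lit 19] (Rl.rel (nat_lit 0) [nat_lit 3, nat_lit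 4, nat_lit 5, nat_lit 6, nat_lit 7, nat_lit 5, nat_lit 2, nat_lit 3, nat_lit 4, nat_lit 1, nat_lit 2, nat_lit 3, nat_lit 8, nat_lit 0, nat_lit 1, nat_lit 2, nat_lit 3, nat_lit 4, nat_lit 5, nat_lit 10, nat_lit 9, nat_lit 2, nat_lit 8, nat_lit 16] (nat_lit 27) (nat_lit 2) [nat_lit 1364, nat_lit 771] []))) (FT.node (nat_lit 1367) (FT.leaf (Fct.mk true (nat_lit 12) (nat_lit 401) (nat_lit 27) [nat_lit 4, nat_lit 3, nat_lit 8, nat_lit 2, nat_lit 3, nat_lit 4, nat_lit 1, nat_lit 2, nat_lit 3, nat_lit 8, nat_lit 0, nat_lit 1, nat_lit 2, nat_lit 3, nat_lit 4, nat_lit 5, nat_lit 6, nat_lit 7, nat_lit 3, nat_lit 8, nat_lit 2, nat_lit 3, nat_lit 4, nat_lit 1, nat_lit 2, nat_lit 3, nat_lit 8, nat_lit 0, nat_lit 1, nat_lit 2, nat_lit 3, nat_lit 4, nat_lit 5, nat_lit 1, nat_lit 3, nat_lit 2, nat_lit 0, nat_lit 1, nat_lit 9, nat_lit 4, nat_lit 3, nat_lit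 2, nat_lit 8, nat_lit 3, nat_lit 8, nat_lit 10, nat_lit 9, nat_lit 2, nat_lit 8, nat_lit 16, nat_lit 15, nat_lit 14, nat_lit 19] (Rl.t1 (nat_lit 1365) (nat_lit 778)))) (FT.leaf (Fct.mk true (nat_lit 27) (nat_lit 950) (nat_lit 27) [nat_lit 1, nat_lit 2, nat_lit 0, nat_lit 1, nat_lit 4, nat_lit 3, nat_lit 2, nat_lit 8, nat_lit 3, nat_lit 8, nat_lit 10, nat_lit 8, nat_lit 12, nat_lit 15, nat_lit 14] (Rl.rel (nat_lit 0) [nat_lit 3, nat_lit 8, nat_lit 2, nat_lit 3, nat_lit 4, nat_lit 5, nat_lit 6, nat_lit 7, nat_lit 3, nat_lit 8, nat_lit 5, nat_lit 2, nat_lit 3, nat_lit 4, nat_lit 1, nat_lit 2, nat_lit 3, nat_lit 8, nat_lit 0, nat_lit 1, nat_lit 2, nat_lit 3, nat_lit 4, nat_lit 5, nat_lit 10, nat_lit 9, nat_lit 2, nat_lit 16, nat_lit 8, nat_lit 16] (nat_lit 27) (nat_lit 2) [nat_lit 1364, nat_lit 300, nat_lit 1363] [])))))) (FT.node (nat_lit 1371)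 (FT.node (nat_lit 1369) (FT.leaf (Fct.mk false (nat_lit 2) (nat_lit 0) (nat_lit 2) [nat_lit 6, nat_lit 8, nat_lit 3, nat_lit 0, nat_lit 8] (Rl.cmp (nat_lit 173) (nat_lit 168)))) (FT.node (nat_lit 1370) (FT.leaf (Fct.mk true (nat_lit 27) (nat_lit 2214) (nat_lit 27) [nat_lit 6, nat_lit 0] (Rl.rel (nat_lit 0) [nat_lit 3, nat_lit 8, nat_lit 2, nat_lit 3, nat_lit 4, nat_lit 5, nat_lit 6, nat_lit 7, nat_lit 3, nat_lit 8, nat_lit 5, nat_lit 2, nat_lit 3, nat_lit 4, nat_lit 1, nat_lit 2, nat_lit 3, nat_lit 8, nat_lit 0, nat_lit 1, nat_lit 2, nat_lit 3, nat_lit 4, nat_lit 5, nat_lit 2, nat_lit 3, nat_lit 10, nat_lit 9, nat_lit 2, nat_lit 8, nat_lit 16] (nat_lit 27) (nat_lit 2) [nat_lit 1364, nat_lit 1368, nat_lit 1363] []))) (FT.leaf (Fct.mk false (nat_lit 27) (nat_lit 0) (nat_lit 27) [nat_lit 6, nat_lit 1, nat_lit 3, nat_lit 2, nat_lit 0, nat_lit 1,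 nat_lit 4, nat_lit 3, nat_lit 2, nat_lit 8, nat_lit 3, nat_lit 8, nat_lit 10, nat_lit 0, nat_lit 8, nat_lit 12, nat_lit 15, nat_lit 14] (Rl.rel (nat_lit 0) [nat_lit 3, nat_lit 4, nat_lit 5, nat_lit 6, nat_lit 7, nat_lit 6, nat_lit 3, nat_lit 4, nat_lit 5, nat_lit 2, nat_lit 3, nat_lit 4, nat_lit 1, nat_lit 2, nat_lit 3, nat_lit 8, nat_lit 0, nat_lit 1, nat_lit 2, nat_lit 3, nat_lit 4, nat_lit 5, nat_lit 3, nat_lit 2, nat_lit 1, nat_lit 8, nat_lit 3, nat_lit 2, nat_lit 0, nat_lit 1, nat_lit 4, nat_lit 3, nat_lit 2, nat_lit 8, nat_lit 3, nat_lit 11, nat_lit 8, nat_lit 10, nat_lit 8, nat_lit 12, nat_lit 15, nat_lit 14, nat_lit 17] (nat_lit 27) (nat_lit 3) [nat_lit 1364, nat_lit 793, nat_lit 771, nat_lit 804, nat_lit 1366] []))))) (FT.node (nat_lit 1373) (FT.node (nat_lit 1372) (FT.leaf (Fct.mk true (nat_lit 27) (nat_lit 950) (nat_lit 27) [nat_lit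 2, nat_lit 1, nat_lit 3, nat_lit 2, nat_lit 0, nat_lit 1, nat_lit 4, nat_lit 3, nat_lit 2, nat_lit 8, nat_lit 3, nat_lit 10, nat_lit 8, nat_lit 12, nat_lit 15, nat_lit 14] (Rl.t1 (nat_lit 1369) (nat_lit 1370)))) (FT.leaf (Fct.mk false (nat_lit 27) (nat_lit 0) (nat_lit 27) [nat_lit 2, nat_lit 3, nat_lit 0] (Rl.cc (nat_lit 1367) (nat_lit 1371))))) (FT.node (nat_lit 1374) (FT.leaf (Fct.mk true (nat_lit 27) (nat_lit 1826) (nat_lit 27) [nat_lit 6, nat_lit 2, nat_lit 3, nat_lit 2] (Rl.rel (nat_lit 0) [nat_lit 3, nat_lit 8, nat_lit 2, nat_lit 3, nat_lit 4, nat_lit 5, nat_lit 6, nat_lit 7, nat_lit 6, nat_lit 3, nat_lit 4, nat_lit 5, nat_lit 2, nat_lit 3, nat_lit 4, nat_lit 1, nat_lit 2, nat_lit 3, nat_lit 8, nat_lit 0, nat_lit 1, nat_lit 2, nat_lit 3, nat_lit 4, nat_lit 5, nat_lit 4, nat_lit 10, nat_lit 9, nat_lit 2, nat_lit 8, nat_lit 18, nat_lit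 16] (nat_lit 27) (nat_lit 2) [nat_lit 1364, nat_lit 803, nat_lit 1363] []))) (FT.leaf (Fct.mk true (nat_lit 27) (nat_lit 853) (nat_lit 27) [nat_lit 6, nat_lit 0, nat_lit 2] (Rl.t1 (nat_lit 1373) (nat_lit 1372))))))))) (FT.node (nat_lit 1387) (FT.node (nat_lit 1381) (FT.node (nat_lit 1378) (FT.node (nat_lit 1376) (FT.leaf (Fct.mk false (nat_lit 27) (nat_lit 0) (nat_lit 27) [nat_lit 1, nat_lit 3, nat_lit 2, nat_lit 0, nat_lit 1, nat_lit 4, nat_lit 3, nat_lit 2, nat_lit 8, nat_lit 3, nat_lit 10, nat_lit 8, nat_lit 12, nat_lit 15, nat_lit 14] (Rl.rel (nat_lit 0) [nat_lit 3, nat_lit 8, nat_lit 2, nat_lit 3, nat_lit 4, nat_lit 5, nat_lit 6, nat_lit 7, nat_lit 6, nat_lit 3, nat_lit 4, nat_lit 5, nat_lit 2, nat_lit 3, nat_lit 4, nat_lit 1, nat_lit 2, nat_lit 3, nat_lit 8, nat_lit 0, nat_lit 1, nat_lit 2, nat_lit 3, nat_lit 4, nat_lit 5, nat_lit 3,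 nat_lit 9, nat_lit 2, nat_lit 8, nat_lit 18, nat_lit 16] (nat_lit 27) (nat_lit 3) [nat_lit 1364, nat_lit 805, nat_lit 1363, nat_lit 1370, nat_lit 1374] []))) (FT.node (nat_lit 1377) (FT.leaf (Fct.mk true (nat_lit 2) (nat_lit 320) (nat_lit 28) [] (Rl.df))) (FT.leaf (Fct.mk true (nat_lit 28) (nat_lit 320) (nat_lit 2) [] (Rl.inv (nat_lit 1376)))))) (FT.node (nat_lit 1379) (FT.leaf (Fct.mk true (nat_lit 5) (nat_lit 4664) (nat_lit 28) [nat_lit 8, nat_lit 4, nat_lit 5, nat_lit 3, nat_lit 4, nat_lit 2, nat_lit 3, nat_lit 8, nat_lit 1, nat_lit 2, nat_lit 3, nat_lit 4, nat_lit 5, nat_lit 0, nat_lit 1, nat_lit 4, nat_lit 3, nat_lit 2, nat_lit 8, nat_lit 3, nat_lit 0, nat_lit 15, nat_lit 14] (Rl.rel (nat_lit 0) [nat_lit 3, nat_lit 8, nat_lit 4, nat_lit 5, nat_lit 3, nat_lit 4, nat_lit 2, nat_lit 3, nat_lit 8, nat_lit 1, nat_lit 2, nat_lit 3, nat_lit 4,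 nat_lit 5, nat_lit 4, nat_lit 11, nat_lit 10, nat_lit 15, nat_lit 17, nat_lit 19, nat_lit 16] (nat_lit 28) (nat_lit 2) [nat_lit 1377, nat_lit 1121] []))) (FT.node (nat_lit 1380) (FT.leaf (Fct.mk true (nat_lit 5) (nat_lit 4650) (nat_lit 28) [nat_lit 3, nat_lit 8, nat_lit 4, nat_lit 5, nat_lit 3, nat_lit 4, nat_lit 2, nat_lit 3, nat_lit 8, nat_lit 1, nat_lit 2, nat_lit 3, nat_lit 4, nat_lit 5, nat_lit 0, nat_lit 1, nat_lit 4, nat_lit 3, nat_lit 2, nat_lit 8, nat_lit 3, nat_lit 0, nat_lit 15, nat_lit 14, nat_lit 19] (Rl.t1 (nat_lit 1378) (nat_lit 527)))) (FT.leaf (Fct.mk true (nat_lit 28) (nat_lit 1049) (nat_lit 5) [nat_lit 5, nat_lit 2, nat_lit 3, nat_lit 4, nat_lit 1, nat_lit 2, nat_lit 3, nat_lit 8, nat_lit 0, nat_lit 1, nat_lit 2, nat_lit 3, nat_lit 4, nat_lit 5, nat_lit 2, nat_lit 0, nat_lit 1, nat_lit 3, nat_lit 2, nat_lit 8, nat_lit 3,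 nat_lit 11, nat_lit 2, nat_lit 10, nat_lit 1, nat_lit 8, nat_lit 16, nat_lit 15, nat_lit 14, nat_lit 8, nat_lit 19, nat_lit 16] (Rl.inv (nat_lit 1379))))))) (FT.node (nat_lit 1384) (FT.node (nat_lit 1382) (FT.leaf (Fct.mk false (nat_lit 2) (nat_lit 0) (nat_lit 2) [nat_lit 2, nat_lit 1, nat_lit 3, nat_lit 2, nat_lit 0, nat_lit 1, nat_lit 4, nat_lit 3, nat_lit 2, nat_lit 8, nat_lit 3, nat_lit 8, nat_lit 10, nat_lit 0, nat_lit 8, nat_lit 12, nat_lit 15, nat_lit 14, nat_lit 8] (Rl.cmp (nat_lit 300) (nat_lit 401)))) (FT.node (nat_lit 1383) (FT.leaf (Fct.mk true (nat_lit 23) (nat_lit 542) (nat_lit 28) [nat_lit 4, nat_lit 1, nat_lit 2, nat_lit 3, nat_lit 8, nat_lit 0, nat_lit 1, nat_lit 2, nat_lit 3, nat_lit 4, nat_lit 5, nat_lit 2, nat_lit 0, nat_lit 1, nat_lit 3, nat_lit 2, nat_lit 8, nat_lit 3, nat_lit 0, nat_lit 15, nat_lit 14, nat_lit 12] (Rl.rel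 (nat_lit 0) [nat_lit 3, nat_lit 4, nat_lit 2, nat_lit 3, nat_lit 8, nat_lit 1, nat_lit 2, nat_lit 3, nat_lit 4, nat_lit 5, nat_lit 2, nat_lit 3, nat_lit 11, nat_lit 10, nat_lit 1, nat_lit 12, nat_lit 15, nat_lit 17, nat_lit 19, nat_lit 16] (nat_lit 28) (nat_lit 2) [nat_lit 1377, nat_lit 1381, nat_lit 1062] []))) (FT.leaf (Fct.mk true (nat_lit 23) (nat_lit 13) (nat_lit 28) [nat_lit 2, nat_lit 3, nat_lit 4, nat_lit 1, nat_lit 2, nat_lit 3, nat_lit 8, nat_lit 0, nat_lit 1, nat_lit 2, nat_lit 3, nat_lit 4, nat_lit 5, nat_lit 2, nat_lit 1, nat_lit 3, nat_lit 2, nat_lit 8, nat_lit 3, nat_lit 0, nat_lit 15, nat_lit 14] (Rl.t1 (nat_lit 1382) (nat_lit 1065)))))) (FT.node (nat_lit 1385) (FT.leaf (Fct.mk false (nat_lit 28) (nat_lit 0) (nat_lit 28) [nat_lit 3] (Rl.rel (nat_lit 0) [nat_lit 3, nat_lit 8, nat_lit 4, nat_lit 5, nat_lit 3, nat_lit 4, nat_lit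 2, nat_lit 3, nat_lit 8, nat_lit 1, nat_lit 2, nat_lit 3, nat_lit 4, nat_lit 5, nat_lit 3, nat_lit 11, nat_lit 15, nat_lit 17, nat_lit 19, nat_lit 16] (nat_lit 28) (nat_lit 3) [nat_lit 1377, nat_lit 709, nat_lit 1121, nat_lit 527, nat_lit 1379] []))) (FT.node (nat_lit 1386) (FT.leaf (Fct.mk true (nat_lit 28) (nat_lit 510) (nat_lit 28) [nat_lit 3] (Rl.rel (nat_lit 0) [nat_lit 3, nat_lit 8, nat_lit 4, nat_lit 5, nat_lit 3, nat_lit 4, nat_lit 2, nat_lit 3, nat_lit 8, nat_lit 1, nat_lit 2, nat_lit 3, nat_lit 4, nat_lit 5, nat_lit 4, nat_lit 11, nat_lit 10, nat_lit 15, nat_lit 17, nat_lit 18] (nat_lit 28) (nat_lit 2) [nat_lit 1377, nat_lit 801, nat_lit 1376] []))) (FT.leaf (Fct.mk true (nat_lit 28) (nat_lit 330) (nat_lit 28) [] (Rl.t1 (nat_lit 1385) (nat_lit 1384)))))))) (FT.node (nat_lit 1393) (FT.node (nat_lit 1390) (FT.node (nat_lit 1388) (FT.leaf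 (Fct.mk false (nat_lit 28) (nat_lit 0) (nat_lit 28) [nat_lit 2] (Rl.rel (nat_lit 0) [nat_lit 3, nat_lit 4, nat_lit 2, nat_lit 3, nat_lit 8, nat_lit 1, nat_lit 2, nat_lit 3, nat_lit 4, nat_lit 5, nat_lit 2, nat_lit 3, nat_lit 11, nat_lit 8, nat_lit 10, nat_lit 1, nat_lit 12, nat_lit 15, nat_lit 17, nat_lit 19, nat_lit 16] (nat_lit 28) (nat_lit 3) [nat_lit 1377, nat_lit 1071, nat_lit 1062, nat_lit 1090, nat_lit 1383] []))) (FT.node (nat_lit 1389) (FT.leaf (Fct.mk false (nat_lit 28) (nat_lit 0) (nat_lit 28) [nat_lit 21] (Rl.cmp (nat_lit 1387) (nat_lit 1384)))) (FT.leaf (Fct.mk false (nat_lit 28) (nat_lit 0) (nat_lit 28) [nat_lit 2, nat_lit 1, nat_lit 3, nat_lit 2, nat_lit 0, nat_lit 1, nat_lit 4, nat_lit 3, nat_lit 2, nat_lit 8, nat_lit 3, nat_lit 8, nat_lit 10, nat_lit 0, nat_lit 8, nat_lit 12, nat_lit 15, nat_lit 14] (Rl.rel (nat_lit 0) [nat_lit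 3, nat_lit 8, nat_lit 4, nat_lit 5, nat_lit 3, nat_lit 4, nat_lit 2, nat_lit 3, nat_lit 8, nat_lit 1, nat_lit 2, nat_lit 3, nat_lit 4, nat_lit 5, nat_lit 3, nat_lit 11, nat_lit 8, nat_lit 10, nat_lit 15, nat_lit 13, nat_lit 18, nat_lit 16] (nat_lit 28) (nat_lit 3) [nat_lit 1377, nat_lit 797, nat_lit 1376, nat_lit 1388, nat_lit 1386] []))))) (FT.node (nat_lit 1391) (FT.leaf (Fct.mk true (nat_lit 27) (nat_lit 320) (nat_lit 28) [nat_lit 5, nat_lit 4, nat_lit 3, nat_lit 8, nat_lit 2, nat_lit 3, nat_lit 4, nat_lit 5, nat_lit 6, nat_lit 7, nat_lit 6, nat_lit 5, nat_lit 4, nat_lit 3, nat_lit 8, nat_lit 2, nat_lit 3, nat_lit 4, nat_lit 5] (Rl.rel (nat_lit 0) [nat_lit 8, nat_lit 3, nat_lit 4, nat_lit 5, nat_lit 6, nat_lit 7, nat_lit 8, nat_lit 2, nat_lit 3, nat_lit 4, nat_lit 1, nat_lit 2, nat_lit 3, nat_lit 8, nat_lit 0, nat_lit 1, nat_lit 2, nat_lit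 3, nat_lit 4, nat_lit 5, nat_lit 11, nat_lit 10, nat_lit 15, nat_lit 17, nat_lit 19, nat_lit 16] (nat_lit 28) (nat_lit 2) [nat_lit 1377, nat_lit 1363] []))) (FT.node (nat_lit 1392) (FT.leaf (Fct.mk false (nat_lit 2) (nat_lit 0) (nat_lit 2) [nat_lit 2, nat_lit 8, nat_lit 3, nat_lit 2, nat_lit 8] (Rl.cmp (nat_lit 87) (nat_lit 84)))) (FT.leaf (Fct.mk false (nat_lit 2) (nat_lit 0) (nat_lit 2) [nat_lit 4, nat_lit 10, nat_lit 18] (Rl.cmp (nat_lit 86) (nat_lit 1391))))))) (FT.node (nat_lit 1396) (FT.node (nat_lit 1394) (FT.leaf (Fct.mk true (nat_lit 4) (nat_lit 15881) (nat_lit 28) [nat_lit 2, nat_lit 3, nat_lit 4, nat_lit 1, nat_lit 2, nat_lit 3, nat_lit 8, nat_lit 0, nat_lit 1, nat_lit 2, nat_lit 3, nat_lit 4, nat_lit 5, nat_lit 0, nat_lit 1, nat_lit 9, nat_lit 4, nat_lit 3, nat_lit 2, nat_lit 8, nat_lit 3, nat_lit 9, nat_lit 2, nat_lit 16, nat_lit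 15, nat_lit 14, nat_lit 19] (Rl.rel (nat_lit 0) [nat_lit 3, nat_lit 8, nat_lit 4, nat_lit 5, nat_lit 3, nat_lit 4, nat_lit 2, nat_lit 3, nat_lit 8, nat_lit 1, nat_lit 2, nat_lit 3, nat_lit 4, nat_lit 5, nat_lit 4, nat_lit 3, nat_lit 2, nat_lit 8, nat_lit 3, nat_lit 11, nat_lit 10, nat_lit 1, nat_lit 12, nat_lit 15, nat_lit 17, nat_lit 19, nat_lit 16] (nat_lit 28) (nat_lit 2) [nat_lit 1377, nat_lit 1392, nat_lit 341] []))) (FT.node (nat_lit 1395) (FT.leaf (Fct.mk true (nat_lit 4) (nat_lit 118) (nat_lit 28) [nat_lit 5, nat_lit 4, nat_lit 3, nat_lit 8, nat_lit 0, nat_lit 1, nat_lit 2, nat_lit 3, nat_lit 4, nat_lit 5, nat_lit 2, nat_lit 1, nat_lit 4, nat_lit 3, nat_lit 2, nat_lit 0, nat_lit 1, nat_lit 9, nat_lit 4, nat_lit 3, nat_lit 2, nat_lit 8, nat_lit 3, nat_lit 8, nat_lit 10, nat_lit 9, nat_lit 2, nat_lit 16, nat_lit 15, nat_lit 14, nat_lit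 17] (Rl.t1 (nat_lit 1393) (nat_lit 243)))) (FT.leaf (Fct.mk false (nat_lit 2) (nat_lit 0) (nat_lit 2) [nat_lit 2, nat_lit 8, nat_lit 3, nat_lit 2, nat_lit 8] (Rl.cmp (nat_lit 87) (nat_lit 84)))))) (FT.node (nat_lit 1398) (FT.node (nat_lit 1397) (FT.leaf (Fct.mk true (nat_lit 4) (nat_lit 3460) (nat_lit 28) [nat_lit 3, nat_lit 4, nat_lit 2, nat_lit 3, nat_lit 8, nat_lit 5, nat_lit 6, nat_lit 4, nat_lit 5, nat_lit 3, nat_lit 4, nat_lit 2, nat_lit 3, nat_lit 8, nat_lit 1, nat_lit 2, nat_lit 3, nat_lit 4, nat_lit 5, nat_lit 2, nat_lit 0, nat_lit 1, nat_lit 3, nat_lit 2, nat_lit 8, nat_lit 3, nat_lit 10, nat_lit 1, nat_lit 15, nat_lit 12, nat_lit 19, nat_lit 16] (Rl.rel (nat_lit 0) [nat_lit 4, nat_lit 5, nat_lit 2, nat_lit 3, nat_lit 4, nat_lit 1, nat_lit 2, nat_lit 3, nat_lit 8, nat_lit 0, nat_lit 1, nat_lit 2, nat_lit 3, nat_lit 4, nat_lit 5, nat_lit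 1, nat_lit 8, nat_lit 3, nat_lit 2, nat_lit 0, nat_lit 1, nat_lit 4, nat_lit 3, nat_lit 2, nat_lit 8, nat_lit 3, nat_lit 11, nat_lit 15, nat_lit 14, nat_lit 17, nat_lit 19] (nat_lit 28) (nat_lit 2) [nat_lit 1377, nat_lit 1395, nat_lit 277] []))) (FT.leaf (Fct.mk true (nat_lit 4) (nat_lit 151) (nat_lit 28) [nat_lit 8, nat_lit 6, nat_lit 5, nat_lit 3, nat_lit 4, nat_lit 2, nat_lit 3, nat_lit 8, nat_lit 1, nat_lit 2, nat_lit 3, nat_lit 4, nat_lit 5, nat_lit 3, nat_lit 2, nat_lit 0, nat_lit 1, nat_lit 4, nat_lit 3, nat_lit 2, nat_lit 8, nat_lit 3, nat_lit 10, nat_lit 1, nat_lit 12, nat_lit 15, nat_lit 14, nat_lit 12, nat_lit 18] (Rl.t1 (nat_lit 1396) (nat_lit 337))))) (FT.node (nat_lit 1399) (FT.leaf (Fct.mk true (nat_lit 28) (nat_lit 303) (nat_lit 4) [nat_lit 6, nat_lit 0, nat_lit 1, nat_lit 9, nat_lit 4, nat_lit 3, nat_lit 2, nat_lit 8, nat_lit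 3, nat_lit 11, nat_lit 8, nat_lit 16, nat_lit 14, nat_lit 16, nat_lit 8, nat_lit 19, nat_lit 16] (Rl.inv (nat_lit 1397)))) (FT.leaf (Fct.mk true (nat_lit 28) (nat_lit 77) (nat_lit 4) [nat_lit 6, nat_lit 8, nat_lit 4, nat_lit 3, nat_lit 2, nat_lit 1, nat_lit 9, nat_lit 4, nat_lit 3, nat_lit 2, nat_lit 8, nat_lit 3, nat_lit 10, nat_lit 0, nat_lit 14, nat_lit 16, nat_lit 8, nat_lit 18, nat_lit 16] (Rl.t1 (nat_lit 1398) (nat_lit 1389)))))))))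

/-- some facts -/
noncomputable def ftc28 : FT := FT.node (nat_lit 1425) (FT.node (nat_lit 1412) (FT.node (nat_lit 1406) (FT.node (nat_lit 1403) (FT.node (nat_lit 1401) (FT.leaf (Fct.mk false (nat_lit 28) (nat_lit 0) (nat_lit 28) [nat_lit 1, nat_lit 3, nat_lit 2, nat_lit 0, nat_lit 1, nat_lit 4, nat_lit 3, nat_lit 2, nat_lit 8, nat_lit 3, nat_lit 10, nat_lit 8, nat_lit 12, nat_lit 15, nat_lit 14] (Rl.rel (nat_lit 0) [nat_lit 4, nat_lit 5, nat_lit 2, nat_lit 3, nat_lit 4, nat_lit 1, nat_lit 2, nat_lit 3, nat_lit 8, nat_lit 0, nat_lit 1, nat_lit 2, nat_lit 3, nat_lit 4, nat_lit 5, nat_lit 1, nat_lit 8, nat_lit 3, nat_lit 2, nat_lit 0, nat_lit 1, nat_lit 4, nat_lit 3, nat_lit 2, nat_lit 8, nat_lit 3, nat_lit 11, nat_lit 15, nat_lit 14, nat_lit 17] (nat_lit 28) (nat_lit 3) [nat_lit 1377, nat_lit 401, nat_lit 1062, nat_lit 1081, nat_lit 1383] [])))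 (FT.node (nat_lit 1402) (FT.leaf (Fct.mk false (nat_lit 28) (nat_lit 0) (nat_lit 28) [nat_lit 5, nat_lit 2, nat_lit 1, nat_lit 3, nat_lit 2, nat_lit 0, nat_lit 1, nat_lit 4, nat_lit 3, nat_lit 2, nat_lit 8, nat_lit 3, nat_lit 8, nat_lit 10, nat_lit 0, nat_lit 8, nat_lit 12, nat_lit 15, nat_lit 14] (Rl.rel (nat_lit 0) [nat_lit 3, nat_lit 4, nat_lit 5, nat_lit 2, nat_lit 3, nat_lit 15, nat_lit 14, nat_lit 8] (nat_lit 28) (nat_lit 3) [nat_lit 1399, nat_lit 1169, nat_lit 239, nat_lit 1397] []))) (FT.leaf (Fct.mk false (nat_lit 28) (nat_lit 0) (nat_lit 28) [nat_lit 5, nat_lit 3, nat_lit 0, nat_lit 2] (Rl.cmp (nat_lit 1401) (nat_lit 1400)))))) (FT.node (nat_lit 1404) (FT.leaf (Fct.mk true (nat_lit 28) (nat_lit 767) (nat_lit 5) [nat_lit 3, nat_lit 4, nat_lit 1, nat_lit 2, nat_lit 3, nat_lit 8, nat_lit 0, nat_lit 1, nat_lit 2, nat_lit 3, nat_lit 4,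 nat_lit 5, nat_lit 2, nat_lit 1, nat_lit 3, nat_lit 2, nat_lit 8, nat_lit 3, nat_lit 11, nat_lit 10, nat_lit 1, nat_lit 8, nat_lit 16, nat_lit 15, nat_lit 14, nat_lit 8, nat_lit 19, nat_lit 16] (Rl.t1 (nat_lit 1380) (nat_lit 1402)))) (FT.node (nat_lit 1405) (FT.leaf (Fct.mk false (nat_lit 28) (nat_lit 0) (nat_lit 28) [nat_lit 1, nat_lit 2, nat_lit 3, nat_lit 8, nat_lit 0, nat_lit 1, nat_lit 2, nat_lit 3, nat_lit 4, nat_lit 5, nat_lit 4, nat_lit 3, nat_lit 2, nat_lit 8, nat_lit 3, nat_lit 15, nat_lit 14] (Rl.cmp (nat_lit 1389) (nat_lit 1401)))) (FT.leaf (Fct.mk true (nat_lit 28) (nat_lit 1) (nat_lit 4) [nat_lit 6, nat_lit 3, nat_lit 2, nat_lit 0, nat_lit 1, nat_lit 4, nat_lit 3, nat_lit 2, nat_lit 8, nat_lit 3, nat_lit 11, nat_lit 10, nat_lit 16, nat_lit 12, nat_lit 15, nat_lit 14, nat_lit 13, nat_lit 12] (Rl.t1 (nat_lit 1399) (nat_lit 1404)))))))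 (FT.node (nat_lit 1409) (FT.node (nat_lit 1407) (FT.leaf (Fct.mk false (nat_lit 28) (nat_lit 0) (nat_lit 28) [nat_lit 20] (Rl.cmp (nat_lit 1384) (nat_lit 1387)))) (FT.node (nat_lit 1408) (FT.leaf (Fct.mk false (nat_lit 28) (nat_lit 0) (nat_lit 28) [nat_lit 5, nat_lit 1, nat_lit 3, nat_lit 2, nat_lit 0, nat_lit 1, nat_lit 4, nat_lit 3, nat_lit 2, nat_lit 8, nat_lit 3, nat_lit 8, nat_lit 10, nat_lit 8, nat_lit 12, nat_lit 15, nat_lit 14] (Rl.cmp (nat_lit 1401) (nat_lit 1406)))) (FT.leaf (Fct.mk true (nat_lit 5) (nat_lit 149) (nat_lit 28) [nat_lit 8, nat_lit 5, nat_lit 3, nat_lit 4, nat_lit 2, nat_lit 3, nat_lit 8, nat_lit 1, nat_lit 2, nat_lit 3, nat_lit 4, nat_lit 5, nat_lit 0, nat_lit 1, nat_lit 2, nat_lit 8, nat_lit 3, nat_lit 1, nat_lit 9, nat_lit 15, nat_lit 12, nat_lit 19, nat_lit 16] (Rl.rel (nat_lit 0) [nat_lit 8, nat_lit 3, nat_lit 4,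 nat_lit 2, nat_lit 3, nat_lit 8, nat_lit 1, nat_lit 2, nat_lit 3, nat_lit 4, nat_lit 5, nat_lit 2, nat_lit 3, nat_lit 15, nat_lit 14, nat_lit 8] (nat_lit 28) (nat_lit 2) [nat_lit 1404, nat_lit 1405, nat_lit 334, nat_lit 469] []))))) (FT.node (nat_lit 1410) (FT.leaf (Fct.mk true (nat_lit 28) (nat_lit 349) (nat_lit 5) [nat_lit 8, nat_lit 5, nat_lit 3, nat_lit 4, nat_lit 1, nat_lit 2, nat_lit 3, nat_lit 8, nat_lit 0, nat_lit 1, nat_lit 2, nat_lit 3, nat_lit 4, nat_lit 5, nat_lit 8, nat_lit 3, nat_lit 2, nat_lit 1, nat_lit 4, nat_lit 3, nat_lit 2, nat_lit 8, nat_lit 3, nat_lit 8, nat_lit 12, nat_lit 15, nat_lit 14, nat_lit 16, nat_lit 8, nat_lit 19] (Rl.inv (nat_lit 1408)))) (FT.node (nat_lit 1411) (FT.leaf (Fct.mk true (nat_lit 28) (nat_lit 4) (nat_lit 5) [nat_lit 8, nat_lit 3, nat_lit 4, nat_lit 5, nat_lit 0, nat_lit 1, nat_lit 4, nat_lit 3,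 nat_lit 2, nat_lit 8, nat_lit 3, nat_lit 0, nat_lit 12, nat_lit 15, nat_lit 14, nat_lit 16, nat_lit 8, nat_lit 18, nat_lit 16] (Rl.t1 (nat_lit 1409) (nat_lit 1407)))) (FT.leaf (Fct.mk true (nat_lit 23) (nat_lit 1048) (nat_lit 28) [nat_lit 6, nat_lit 5, nat_lit 4, nat_lit 1, nat_lit 2, nat_lit 3, nat_lit 8, nat_lit 0, nat_lit 1, nat_lit 2, nat_lit 3, nat_lit 4, nat_lit 5, nat_lit 2, nat_lit 1, nat_lit 3, nat_lit 2, nat_lit 0, nat_lit 1, nat_lit 4, nat_lit 3, nat_lit 2, nat_lit 8, nat_lit 3, nat_lit 11, nat_lit 2, nat_lit 8, nat_lit 10, nat_lit 1, nat_lit 8, nat_lit 12, nat_lit 15, nat_lit 14, nat_lit 13, nat_lit 12, nat_lit 16] (Rl.rel (nat_lit 0) [nat_lit 8, nat_lit 3, nat_lit 4, nat_lit 5, nat_lit 2, nat_lit 3, nat_lit 2, nat_lit 8, nat_lit 10, nat_lit 1, nat_lit 12, nat_lit 15, nat_lit 8] (nat_lit 28) (nat_lit 2) [nat_lit 1410, nat_lit 493,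 nat_lit 1126] []))))))) (FT.node (nat_lit 1418) (FT.node (nat_lit 1415) (FT.node (nat_lit 1413) (FT.leaf (Fct.mk true (nat_lit 28) (nat_lit 487) (nat_lit 23) [nat_lit 2, nat_lit 3, nat_lit 4, nat_lit 5, nat_lit 4, nat_lit 3, nat_lit 2, nat_lit 1, nat_lit 8, nat_lit 3, nat_lit 2, nat_lit 0, nat_lit 1, nat_lit 4, nat_lit 3, nat_lit 2, nat_lit 8, nat_lit 3, nat_lit 8, nat_lit 10, nat_lit 1, nat_lit 12, nat_lit 15, nat_lit 12, nat_lit 19, nat_lit 16] (Rl.inv (nat_lit 1411)))) (FT.node (nat_lit 1414) (FT.leaf (Fct.mk true (nat_lit 28) (nat_lit 248) (nat_lit 23) [nat_lit 4, nat_lit 1, nat_lit 2, nat_lit 3, nat_lit 8, nat_lit 0, nat_lit 1, nat_lit 2, nat_lit 3, nat_lit 4, nat_lit 5, nat_lit 4, nat_lit 3, nat_lit 2, nat_lit 1, nat_lit 8, nat_lit 3, nat_lit 2, nat_lit 0, nat_lit 1, nat_lit 4, nat_lit 3, nat_lit 2, nat_lit 8, nat_lit 3, nat_lit 8, nat_lit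 10, nat_lit 8, nat_lit 12, nat_lit 15, nat_lit 14, nat_lit 19] (Rl.t1 (nat_lit 1412) (nat_lit 1389)))) (FT.leaf (Fct.mk false (nat_lit 28) (nat_lit 0) (nat_lit 28) [nat_lit 5] (Rl.cmp (nat_lit 1401) (nat_lit 1389)))))) (FT.node (nat_lit 1416) (FT.leaf (Fct.mk true (nat_lit 25) (nat_lit 567) (nat_lit 28) [nat_lit 3, nat_lit 8, nat_lit 1, nat_lit 2, nat_lit 3, nat_lit 4, nat_lit 5, nat_lit 4, nat_lit 3, nat_lit 2, nat_lit 8, nat_lit 3, nat_lit 11, nat_lit 10, nat_lit 1, nat_lit 12, nat_lit 15, nat_lit 14, nat_lit 13, nat_lit 12, nat_lit 18, nat_lit 16] (Rl.rel (nat_lit 0) [nat_lit 8, nat_lit 3, nat_lit 4, nat_lit 5, nat_lit 2, nat_lit 1, nat_lit 3, nat_lit 2, nat_lit 0, nat_lit 1, nat_lit 4, nat_lit 3, nat_lit 2, nat_lit 8, nat_lit 3, nat_lit 10, nat_lit 9, nat_lit 2, nat_lit 8, nat_lit 16, nat_lit 15, nat_lit 14, nat_lit 17, nat_lit 12, nat_lit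 18, nat_lit 16] (nat_lit 28) (nat_lit 2) [nat_lit 1403, nat_lit 1268] []))) (FT.node (nat_lit 1417) (FT.leaf (Fct.mk true (nat_lit 25) (nat_lit 156) (nat_lit 28) [nat_lit 4, nat_lit 2, nat_lit 3, nat_lit 8, nat_lit 0, nat_lit 1, nat_lit 2, nat_lit 3, nat_lit 4, nat_lit 5, nat_lit 9, nat_lit 4, nat_lit 3, nat_lit 2, nat_lit 8, nat_lit 3, nat_lit 11, nat_lit 1, nat_lit 12, nat_lit 15, nat_lit 14, nat_lit 13, nat_lit 12, nat_lit 18, nat_lit 16] (Rl.t1 (nat_lit 1415) (nat_lit 1258)))) (FT.leaf (Fct.mk true (nat_lit 28) (nat_lit 2894) (nat_lit 25) [nat_lit 2, nat_lit 3, nat_lit 4, nat_lit 5, nat_lit 3, nat_lit 2, nat_lit 1, nat_lit 9, nat_lit 4, nat_lit 3, nat_lit 2, nat_lit 8, nat_lit 3, nat_lit 11, nat_lit 10, nat_lit 2, nat_lit 8, nat_lit 10, nat_lit 1, nat_lit 8, nat_lit 16, nat_lit 14, nat_lit 16, nat_lit 8, nat_lit 16] (Rl.inv (nat_lit 1416)))))))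 (FT.node (nat_lit 1421) (FT.node (nat_lit 1419) (FT.leaf (Fct.mk false (nat_lit 25) (nat_lit 0) (nat_lit 25) [nat_lit 1, nat_lit 2, nat_lit 3, nat_lit 8, nat_lit 4, nat_lit 5, nat_lit 3, nat_lit 4, nat_lit 2, nat_lit 3, nat_lit 8, nat_lit 1, nat_lit 2, nat_lit 3, nat_lit 4, nat_lit 5, nat_lit 3, nat_lit 8, nat_lit 4, nat_lit 3, nat_lit 2, nat_lit 1, nat_lit 9, nat_lit 4, nat_lit 3, nat_lit 2, nat_lit 8, nat_lit 3, nat_lit 11, nat_lit 1, nat_lit 12, nat_lit 8, nat_lit 16, nat_lit 14, nat_lit 13, nat_lit 18] (Rl.cmp (nat_lit 1247) (nat_lit 1231)))) (FT.node (nat_lit 1420) (FT.leaf (Fct.mk false (nat_lit 28) (nat_lit 0) (nat_lit 28) [nat_lit 5] (Rl.cmp (nat_lit 1401) (nat_lit 1389)))) (FT.leaf (Fct.mk true (nat_lit 25) (nat_lit 573) (nat_lit 25) [] (Rl.rel (nat_lit 0) [nat_lit 8, nat_lit 4, nat_lit 5, nat_lit 2, nat_lit 3, nat_lit 4, nat_lit 1,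 nat_lit 2, nat_lit 3, nat_lit 8, nat_lit 0, nat_lit 1, nat_lit 2, nat_lit 3, nat_lit 4, nat_lit 5, nat_lit 3, nat_lit 2, nat_lit 1, nat_lit 8, nat_lit 3, nat_lit 2, nat_lit 0, nat_lit 1, nat_lit 4, nat_lit 3, nat_lit 2, nat_lit 8, nat_lit 3, nat_lit 0, nat_lit 12, nat_lit 15, nat_lit 14, nat_lit 16, nat_lit 8] (nat_lit 28) (nat_lit 1) [nat_lit 1417] [nat_lit 1419, nat_lit 1417]))))) (FT.node (nat_lit 1423) (FT.node (nat_lit 1422) (FT.leaf (Fct.mk true (nat_lit 25) (nat_lit 63) (nat_lit 25) [nat_lit 1, nat_lit 2, nat_lit 3, nat_lit 8, nat_lit 4, nat_lit 5, nat_lit 3, nat_lit 4, nat_lit 2, nat_lit 3, nat_lit 8, nat_lit 1, nat_lit 2, nat_lit 3, nat_lit 4, nat_lit 5, nat_lit 3, nat_lit 8, nat_lit 4, nat_lit 3, nat_lit 2, nat_lit 1, nat_lit 9, nat_lit 4, nat_lit 3, nat_lit 2, nat_lit 8, nat_lit 3, nat_lit 11, nat_lit 1, nat_lit 12, nat_lit 8, nat_lit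 16, nat_lit 14, nat_lit 13, nat_lit 18] (Rl.t1 (nat_lit 1420) (nat_lit 1418)))) (FT.leaf (Fct.mk false (nat_lit 28) (nat_lit 0) (nat_lit 28) [nat_lit 1, nat_lit 2, nat_lit 0, nat_lit 1, nat_lit 4, nat_lit 3, nat_lit 2, nat_lit 8, nat_lit 3, nat_lit 10, nat_lit 8, nat_lit 12, nat_lit 15, nat_lit 14] (Rl.cmp (nat_lit 1400) (nat_lit 1384))))) (FT.node (nat_lit 1424) (FT.leaf (Fct.mk false (nat_lit 28) (nat_lit 0) (nat_lit 28) [nat_lit 21] (Rl.cmp (nat_lit 1387) (nat_lit 1384)))) (FT.leaf (Fct.mk true (nat_lit 2) (nat_lit 321) (nat_lit 29) [] (Rl.df)))))))) (FT.node (nat_lit 1437) (FT.node (nat_lit 1431) (FT.node (nat_lit 1428) (FT.node (nat_lit 1426) (FT.leaf (Fct.mk true (nat_lit 29) (nat_lit 321) (nat_lit 2) [] (Rl.inv (nat_lit 1424)))) (FT.node (nat_lit 1427) (FT.leaf (Fct.mk false (nat_lit 2) (nat_lit 0) (nat_lit 2) [nat_lit 2, nat_lit 3,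 nat_lit 2, nat_lit 18] (Rl.cmp (nat_lit 86) (nat_lit 88)))) (FT.leaf (Fct.mk false (nat_lit 2) (nat_lit 0) (nat_lit 2) [nat_lit 6, nat_lit 2, nat_lit 8, nat_lit 3, nat_lit 12, nat_lit 18] (Rl.cmp (nat_lit 168) (nat_lit 1426)))))) (FT.node (nat_lit 1429) (FT.leaf (Fct.mk false (nat_lit 29) (nat_lit 0) (nat_lit 29) [nat_lit 6, nat_lit 5, nat_lit 4, nat_lit 3, nat_lit 8, nat_lit 1, nat_lit 2, nat_lit 3, nat_lit 4, nat_lit 5, nat_lit 8, nat_lit 10, nat_lit 9, nat_lit 2, nat_lit 12, nat_lit 8, nat_lit 16, nat_lit 14, nat_lit 8] (Rl.rel (nat_lit 0) [nat_lit 3, nat_lit 4, nat_lit 5, nat_lit 4, nat_lit 10, nat_lit 9, nat_lit 2, nat_lit 16, nat_lit 14, nat_lit 8, nat_lit 16] (nat_lit 29) (nat_lit 3) [nat_lit 1425, nat_lit 168, nat_lit 98, nat_lit 1427, nat_lit 1424] []))) (FT.node (nat_lit 1430) (FT.leaf (Fct.mk true (nat_lit 29) (nat_lit 13) (nat_lit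 2) [nat_lit 6, nat_lit 5, nat_lit 4, nat_lit 2, nat_lit 3, nat_lit 8, nat_lit 1, nat_lit 2, nat_lit 3, nat_lit 4, nat_lit 5, nat_lit 1, nat_lit 16, nat_lit 14, nat_lit 16, nat_lit 8, nat_lit 16] (Rl.t1 (nat_lit 1425) (nat_lit 1428)))) (FT.leaf (Fct.mk false (nat_lit 29) (nat_lit 0) (nat_lit 29) [nat_lit 6, nat_lit 5, nat_lit 4, nat_lit 2, nat_lit 3, nat_lit 8, nat_lit 1, nat_lit 2, nat_lit 3, nat_lit 4, nat_lit 5, nat_lit 4, nat_lit 1, nat_lit 16, nat_lit 14, nat_lit 16, nat_lit 8, nat_lit 16] (Rl.rel (nat_lit 0) [nat_lit 3, nat_lit 4, nat_lit 5, nat_lit 4, nat_lit 8, nat_lit 10, nat_lit 9, nat_lit 2, nat_lit 16, nat_lit 14, nat_lit 8, nat_lit 16] (nat_lit 29) (nat_lit 3) [nat_lit 1428, nat_lit 1429, nat_lit 790, nat_lit 98, nat_lit 1216, nat_lit 1424] [])))))) (FT.node (nat_lit 1434) (FT.node (nat_lit 1432) (FT.leaf (Fct.mk true (nat_lit 12)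 (nat_lit 65) (nat_lit 29) [nat_lit 5, nat_lit 4, nat_lit 3, nat_lit 8, nat_lit 2, nat_lit 3, nat_lit 4, nat_lit 5, nat_lit 3, nat_lit 2, nat_lit 8, nat_lit 3, nat_lit 10, nat_lit 9, nat_lit 2, nat_lit 14, nat_lit 16, nat_lit 8, nat_lit 19] (Rl.rel (nat_lit 0) [nat_lit 3, nat_lit 8, nat_lit 2, nat_lit 3, nat_lit 4, nat_lit 5, nat_lit 4, nat_lit 10, nat_lit 9, nat_lit 2, nat_lit 14, nat_lit 8, nat_lit 16] (nat_lit 29) (nat_lit 2) [nat_lit 1428, nat_lit 1429, nat_lit 771] []))) (FT.node (nat_lit 1433) (FT.leaf (Fct.mk true (nat_lit 12) (nat_lit 54) (nat_lit 29) [nat_lit 8, nat_lit 2, nat_lit 3, nat_lit 4, nat_lit 5, nat_lit 4, nat_lit 3, nat_lit 2, nat_lit 8, nat_lit 3, nat_lit 10, nat_lit 9, nat_lit 2, nat_lit 14, nat_lit 16, nat_lit 8, nat_lit 19] (Rl.t1 (nat_lit 1431) (nat_lit 789)))) (FT.leaf (Fct.mk false (nat_lit 29) (nat_lit 0) (nat_lit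 29) [nat_lit 6, nat_lit 5, nat_lit 4, nat_lit 2, nat_lit 3, nat_lit 8, nat_lit 1, nat_lit 2, nat_lit 3, nat_lit 4, nat_lit 5, nat_lit 4, nat_lit 8, nat_lit 10, nat_lit 9, nat_lit 2, nat_lit 12, nat_lit 8, nat_lit 16, nat_lit 14, nat_lit 8] (Rl.rel (nat_lit 0) [nat_lit 3, nat_lit 8, nat_lit 2, nat_lit 3, nat_lit 4, nat_lit 5, nat_lit 4, nat_lit 10, nat_lit 9, nat_lit 2, nat_lit 14, nat_lit 16, nat_lit 8, nat_lit 16] (nat_lit 29) (nat_lit 3) [nat_lit 1428, nat_lit 1429, nat_lit 168, nat_lit 771, nat_lit 799, nat_lit 1432] []))))) (FT.node (nat_lit 1435) (FT.leaf (Fct.mk true (nat_lit 9) (nat_lit 5160) (nat_lit 29) [nat_lit 8, nat_lit 4, nat_lit 5, nat_lit 3, nat_lit 4, nat_lit 2, nat_lit 3, nat_lit 8, nat_lit 1, nat_lit 2, nat_lit 3, nat_lit 4, nat_lit 5, nat_lit 8, nat_lit 3, nat_lit 2, nat_lit 0, nat_lit 1, nat_lit 9, nat_lit 4, nat_lit 3,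 nat_lit 2, nat_lit 8, nat_lit 3, nat_lit 16, nat_lit 14, nat_lit 13, nat_lit 19, nat_lit 16] (Rl.rel (nat_lit 0) [nat_lit 3, nat_lit 8, nat_lit 2, nat_lit 3, nat_lit 4, nat_lit 5, nat_lit 4, nat_lit 9, nat_lit 16, nat_lit 14, nat_lit 8, nat_lit 16] (nat_lit 29) (nat_lit 2) [nat_lit 1428, nat_lit 1429, nat_lit 649] []))) (FT.node (nat_lit 1436) (FT.leaf (Fct.mk true (nat_lit 9) (nat_lit 125) (nat_lit 29) [nat_lit 8, nat_lit 4, nat_lit 5, nat_lit 2, nat_lit 3, nat_lit 4, nat_lit 1, nat_lit 2, nat_lit 3, nat_lit 8, nat_lit 0, nat_lit 1, nat_lit 2, nat_lit 3, nat_lit 4, nat_lit 5, nat_lit 1, nat_lit 3, nat_lit 2, nat_lit 0, nat_lit 1, nat_lit 9, nat_lit 4, nat_lit 3, nat_lit 2, nat_lit 8, nat_lit 3, nat_lit 2, nat_lit 16, nat_lit 14, nat_lit 13, nat_lit 18] (Rl.t1 (nat_lit 1434) (nat_lit 696)))) (FT.leaf (Fct.mk false (nat_lit 2) (nat_lit 0) (nat_lit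 2) [nat_lit 6, nat_lit 2, nat_lit 8, nat_lit 3, nat_lit 8, nat_lit 10, nat_lit 12, nat_lit 18] (Rl.cmp (nat_lit 168) (nat_lit 88)))))))) (FT.node (nat_lit 1443) (FT.node (nat_lit 1440) (FT.node (nat_lit 1438) (FT.leaf (Fct.mk false (nat_lit 2) (nat_lit 0) (nat_lit 2) [nat_lit 6, nat_lit 2, nat_lit 8, nat_lit 3, nat_lit 10, nat_lit 8] (Rl.cmp (nat_lit 88) (nat_lit 1436)))) (FT.node (nat_lit 1439) (FT.leaf (Fct.mk true (nat_lit 24) (nat_lit 631) (nat_lit 29) [nat_lit 5, nat_lit 9, nat_lit 4, nat_lit 2, nat_lit 18] (Rl.rel (nat_lit 0) [nat_lit 3, nat_lit 4, nat_lit 5, nat_lit 8, nat_lit 3, nat_lit 10, nat_lit 9, nat_lit 2, nat_lit 16, nat_lit 14, nat_lit 8, nat_lit 16] (nat_lit 29) (nat_lit 2) [nat_lit 1428, nat_lit 1429, nat_lit 1437, nat_lit 1177] []))) (FT.leaf (Fct.mk true (nat_lit 24) (nat_lit 20) (nat_lit 29) [nat_lit 4, nat_lit 5, nat_lit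 9, nat_lit 4, nat_lit 8, nat_lit 10, nat_lit 9, nat_lit 2, nat_lit 8, nat_lit 16, nat_lit 14, nat_lit 16] (Rl.t1 (nat_lit 1438) (nat_lit 1204)))))) (FT.node (nat_lit 1441) (FT.leaf (Fct.mk true (nat_lit 29) (nat_lit 337) (nat_lit 24) [nat_lit 5, nat_lit 4, nat_lit 9, nat_lit 10, nat_lit 2, nat_lit 8, nat_lit 10, nat_lit 1, nat_lit 12, nat_lit 18] (Rl.inv (nat_lit 1439)))) (FT.node (nat_lit 1442) (FT.leaf (Fct.mk true (nat_lit 29) (nat_lit 92) (nat_lit 24) [nat_lit 4, nat_lit 5, nat_lit 1, nat_lit 9, nat_lit 4, nat_lit 3, nat_lit 2, nat_lit 8, nat_lit 3, nat_lit 1, nat_lit 9, nat_lit 14] (Rl.t1 (nat_lit 1440) (nat_lit 1430)))) (FT.leaf (Fct.mk true (nat_lit 28) (nat_lit 321) (nat_lit 29) [nat_lit 6, nat_lit 5, nat_lit 3, nat_lit 4, nat_lit 2, nat_lit 3, nat_lit 8, nat_lit 0, nat_lit 1, nat_lit 2, nat_lit 3, nat_lit 4, nat_lit 5, nat_lit 1, nat_lit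 9, nat_lit 4, nat_lit 3, nat_lit 2, nat_lit 8, nat_lit 3, nat_lit 11, nat_lit 1, nat_lit 13, nat_lit 16] (Rl.rel (nat_lit 0) [nat_lit 8, nat_lit 3, nat_lit 4, nat_lit 2, nat_lit 3, nat_lit 8, nat_lit 1, nat_lit 2, nat_lit 3, nat_lit 4, nat_lit 5, nat_lit 11, nat_lit 10, nat_lit 12, nat_lit 15, nat_lit 17, nat_lit 19, nat_lit 16] (nat_lit 29) (nat_lit 2) [nat_lit 1428, nat_lit 1429, nat_lit 1376] [])))))) (FT.node (nat_lit 1446) (FT.node (nat_lit 1444) (FT.leaf (Fct.mk true (nat_lit 28) (nat_lit 92) (nat_lit 29) [nat_lit 6, nat_lit 5, nat_lit 3, nat_lit 4, nat_lit 2, nat_lit 3, nat_lit 8, nat_lit 0, nat_lit 1, nat_lit 2, nat_lit 3, nat_lit 4, nat_lit 5, nat_lit 1, nat_lit 4, nat_lit 3, nat_lit 2, nat_lit 8, nat_lit 3, nat_lit 11, nat_lit 1, nat_lit 13, nat_lit 16] (Rl.t1 (nat_lit 1442) (nat_lit 1414)))) (FT.node (nat_lit 1445) (FT.leaf (Fct.mk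 true (nat_lit 29) (nat_lit 320) (nat_lit 28) [nat_lit 5, nat_lit 4, nat_lit 3, nat_lit 2, nat_lit 0, nat_lit 1, nat_lit 9, nat_lit 4, nat_lit 3, nat_lit 2, nat_lit 8, nat_lit 3, nat_lit 11, nat_lit 16, nat_lit 14, nat_lit 13, nat_lit 12, nat_lit 18, nat_lit 16] (Rl.inv (nat_lit 1443)))) (FT.leaf (Fct.mk false (nat_lit 29) (nat_lit 0) (nat_lit 29) [nat_lit 4] (Rl.cmp (nat_lit 1430) (nat_lit 1428)))))) (FT.node (nat_lit 1448) (FT.node (nat_lit 1447) (FT.leaf (Fct.mk true (nat_lit 26) (nat_lit 10239) (nat_lit 29) [nat_lit 1, nat_lit 3, nat_lit 2, nat_lit 0, nat_lit 1, nat_lit 9, nat_lit 4, nat_lit 3, nat_lit 2, nat_lit 8, nat_lit 3, nat_lit 11, nat_lit 8, nat_lit 10, nat_lit 8, nat_lit 12, nat_lit 15, nat_lit 14, nat_lit 8] (Rl.rel (nat_lit 0) [nat_lit 3, nat_lit 8, nat_lit 2, nat_lit 3, nat_lit 4, nat_lit 5, nat_lit 2, nat_lit 3, nat_lit 11,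 nat_lit 1, nat_lit 8, nat_lit 12, nat_lit 15, nat_lit 17, nat_lit 19, nat_lit 16] (nat_lit 29) (nat_lit 2) [nat_lit 1428, nat_lit 1429, nat_lit 1218, nat_lit 1272] []))) (FT.leaf (Fct.mk true (nat_lit 26) (nat_lit 1231) (nat_lit 29) [nat_lit 1, nat_lit 3, nat_lit 2, nat_lit 0, nat_lit 1, nat_lit 9, nat_lit 4, nat_lit 3, nat_lit 2, nat_lit 8, nat_lit 3, nat_lit 8, nat_lit 10, nat_lit 9, nat_lit 2, nat_lit 8, nat_lit 16, nat_lit 15, nat_lit 14, nat_lit 17] (Rl.t1 (nat_lit 1446) (nat_lit 1287))))) (FT.node (nat_lit 1449) (FT.leaf (Fct.mk true (nat_lit 29) (nat_lit 419) (nat_lit 26) [nat_lit 1, nat_lit 3, nat_lit 2, nat_lit 0, nat_lit 1, nat_lit 9, nat_lit 4, nat_lit 3, nat_lit 2, nat_lit 8, nat_lit 3, nat_lit 10, nat_lit 1, nat_lit 8, nat_lit 12, nat_lit 15, nat_lit 14, nat_lit 16] (Rl.inv (nat_lit 1447)))) (FT.leaf (Fct.mk true (nat_lit 29) (nat_lit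 311) (nat_lit 26) [nat_lit 1, nat_lit 4, nat_lit 3, nat_lit 2, nat_lit 0, nat_lit 1, nat_lit 9, nat_lit 4, nat_lit 3, nat_lit 2, nat_lit 8, nat_lit 3, nat_lit 10, nat_lit 1, nat_lit 8, nat_lit 12, nat_lit 15, nat_lit 14, nat_lit 16] (Rl.t1 (nat_lit 1448) (nat_lit 1445)))))))))

/-- some facts -/
noncomputable def ftc29 : FT := FT.node (nat_lit 1475) (FT.node (nat_lit 1462) (FT.node (nat_lit 1456) (FT.node (nat_lit 1453) (FT.node (nat_lit 1451) (FT.leaf (Fct.mk true (nat_lit 9) (nat_lit 1094) (nat_lit 29) [nat_lit 6, nat_lit 5, nat_lit 3, nat_lit 4, nat_lit 2, nat_lit 3, nat_lit 8, nat_lit 0, nat_lit 1, nat_lit 2, nat_lit 3, nat_lit 4, nat_lit 5, nat_lit 9, nat_lit 4, nat_lit 2, nat_lit 8, nat_lit 10, nat_lit 1, nat_lit 16, nat_lit 12, nat_lit 15, nat_lit 14, nat_lit 8, nat_lit 16] (Rl.rel (nat_lit 0) [nat_lit 8, nat_lit 3, nat_lit 4, nat_lit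 2, nat_lit 3, nat_lit 8, nat_lit 1, nat_lit 2, nat_lit 3, nat_lit 4, nat_lit 5, nat_lit 9, nat_lit 2, nat_lit 16, nat_lit 14, nat_lit 8, nat_lit 16] (nat_lit 29) (nat_lit 2) [nat_lit 1428, nat_lit 1429, nat_lit 704, nat_lit 1346] []))) (FT.node (nat_lit 1452) (FT.leaf (Fct.mk true (nat_lit 9) (nat_lit 464) (nat_lit 29) [nat_lit 6, nat_lit 5, nat_lit 3, nat_lit 4, nat_lit 2, nat_lit 3, nat_lit 8, nat_lit 0, nat_lit 1, nat_lit 2, nat_lit 3, nat_lit 4, nat_lit 5, nat_lit 4, nat_lit 2, nat_lit 8, nat_lit 10, nat_lit 1, nat_lit 16, nat_lit 12, nat_lit 15, nat_lit 14, nat_lit 8, nat_lit 16] (Rl.t1 (nat_lit 1450) (nat_lit 675)))) (FT.leaf (Fct.mk true (nat_lit 29) (nat_lit 3299) (nat_lit 9) [nat_lit 6, nat_lit 5, nat_lit 4, nat_lit 3, nat_lit 8, nat_lit 1, nat_lit 2, nat_lit 3, nat_lit 4, nat_lit 5, nat_lit 9, nat_lit 4, nat_lit 3, nat_lit 2, nat_lit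 8, nat_lit 3, nat_lit 11, nat_lit 10, nat_lit 1, nat_lit 16, nat_lit 15, nat_lit 14, nat_lit 17, nat_lit 19, nat_lit 16] (Rl.inv (nat_lit 1451)))))) (FT.node (nat_lit 1454) (FT.leaf (Fct.mk true (nat_lit 29) (nat_lit 2) (nat_lit 9) [nat_lit 9, nat_lit 4, nat_lit 11, nat_lit 8, nat_lit 10, nat_lit 16, nat_lit 12, nat_lit 15, nat_lit 14, nat_lit 17, nat_lit 19, nat_lit 16] (Rl.t1 (nat_lit 1452) (nat_lit 1428)))) (FT.node (nat_lit 1455) (FT.leaf (Fct.mk true (nat_lit 26) (nat_lit 15) (nat_lit 29) [nat_lit 6, nat_lit 4, nat_lit 10, nat_lit 8] (Rl.rel (nat_lit 0) [nat_lit 3, nat_lit 2, nat_lit 8, nat_lit 3, nat_lit 0, nat_lit 2, nat_lit 15] (nat_lit 29) (nat_lit 2) [nat_lit 1453, nat_lit 1332] []))) (FT.leaf (Fct.mk true (nat_lit 26) (nat_lit 14) (nat_lit 29) [nat_lit 4, nat_lit 3, nat_lit 2, nat_lit 8, nat_lit 3, nat_lit 0, nat_lit 2, nat_lit 8,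 nat_lit 18] (Rl.t1 (nat_lit 1454) (nat_lit 1302))))))) (FT.node (nat_lit 1459) (FT.node (nat_lit 1457) (FT.leaf (Fct.mk true (nat_lit 29) (nat_lit 6) (nat_lit 26) [nat_lit 2, nat_lit 8, nat_lit 3, nat_lit 8, nat_lit 10, nat_lit 0, nat_lit 12] (Rl.inv (nat_lit 1455)))) (FT.node (nat_lit 1458) (FT.leaf (Fct.mk true (nat_lit 4) (nat_lit 3454) (nat_lit 29) [nat_lit 9, nat_lit 4, nat_lit 2, nat_lit 10, nat_lit 1, nat_lit 16, nat_lit 8, nat_lit 16] (Rl.rel (nat_lit 0) [nat_lit 8, nat_lit 3, nat_lit 4, nat_lit 5, nat_lit 2, nat_lit 1, nat_lit 3, nat_lit 2, nat_lit 8, nat_lit 3] (nat_lit 29) (nat_lit 2) [nat_lit 1453, nat_lit 658, nat_lit 670] []))) (FT.leaf (Fct.mk true (nat_lit 4) (nat_lit 658) (nat_lit 29) [nat_lit 2, nat_lit 3, nat_lit 4, nat_lit 5, nat_lit 9, nat_lit 4, nat_lit 8, nat_lit 10, nat_lit 9, nat_lit 2, nat_lit 14, nat_lit 8] (Rl.t1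 (nat_lit 1457) (nat_lit 699)))))) (FT.node (nat_lit 1460) (FT.leaf (Fct.mk true (nat_lit 29) (nat_lit 294) (nat_lit 4) [nat_lit 5, nat_lit 2, nat_lit 3, nat_lit 10, nat_lit 9, nat_lit 2, nat_lit 14, nat_lit 18] (Rl.inv (nat_lit 1458)))) (FT.node (nat_lit 1461) (FT.leaf (Fct.mk true (nat_lit 25) (nat_lit 1163) (nat_lit 29) [nat_lit 6, nat_lit 5, nat_lit 4, nat_lit 3, nat_lit 8, nat_lit 2, nat_lit 3, nat_lit 4, nat_lit 1, nat_lit 2, nat_lit 3, nat_lit 8, nat_lit 5, nat_lit 6, nat_lit 4, nat_lit 5, nat_lit 3, nat_lit 4, nat_lit 2, nat_lit 3, nat_lit 8, nat_lit 1, nat_lit 2, nat_lit 3, nat_lit 4, nat_lit 5, nat_lit 9, nat_lit 4, nat_lit 8, nat_lit 10, nat_lit 1, nat_lit 12, nat_lit 15, nat_lit 14, nat_lit 12, nat_lit 18] (Rl.rel (nat_lit 0) [nat_lit 3, nat_lit 8, nat_lit 2, nat_lit 3, nat_lit 4, nat_lit 5, nat_lit 2, nat_lit 1, nat_lit 3, nat_lit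 2, nat_lit 0, nat_lit 1, nat_lit 4, nat_lit 3, nat_lit 2, nat_lit 8, nat_lit 3, nat_lit 1, nat_lit 14] (nat_lit 29) (nat_lit 2) [nat_lit 1459, nat_lit 1234] []))) (FT.leaf (Fct.mk true (nat_lit 25) (nat_lit 306) (nat_lit 29) [nat_lit 5, nat_lit 4, nat_lit 3, nat_lit 8, nat_lit 2, nat_lit 3, nat_lit 4, nat_lit 1, nat_lit 2, nat_lit 3, nat_lit 8, nat_lit 5, nat_lit 6, nat_lit 4, nat_lit 5, nat_lit 3, nat_lit 4, nat_lit 2, nat_lit 3, nat_lit 8, nat_lit 1, nat_lit 2, nat_lit 3, nat_lit 4, nat_lit 5, nat_lit 9, nat_lit 4, nat_lit 11, nat_lit 9, nat_lit 10, nat_lit 2, nat_lit 8, nat_lit 10, nat_lit 1, nat_lit 12, nat_lit 15, nat_lit 14, nat_lit 17, nat_lit 18] (Rl.t1 (nat_lit 1460) (nat_lit 1263)))))))) (FT.node (nat_lit 1468) (FT.node (nat_lit 1465) (FT.node (nat_lit 1463) (FT.leaf (Fct.mk true (nat_lit 29) (nat_lit 310) (nat_lit 25) [nat_lit 5,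 nat_lit 4, nat_lit 3, nat_lit 8, nat_lit 2, nat_lit 3, nat_lit 4, nat_lit 1, nat_lit 2, nat_lit 3, nat_lit 8, nat_lit 5, nat_lit 6, nat_lit 4, nat_lit 5, nat_lit 3, nat_lit 4, nat_lit 2, nat_lit 3, nat_lit 8, nat_lit 1, nat_lit 2, nat_lit 3, nat_lit 4, nat_lit 5, nat_lit 1, nat_lit 3, nat_lit 2, nat_lit 0, nat_lit 1, nat_lit 9, nat_lit 4, nat_lit 3, nat_lit 2, nat_lit 8, nat_lit 3, nat_lit 11, nat_lit 8, nat_lit 10, nat_lit 12, nat_lit 15, nat_lit 14, nat_lit 8, nat_lit 16] (Rl.inv (nat_lit 1461)))) (FT.node (nat_lit 1464) (FT.leaf (Fct.mk true (nat_lit 28) (nat_lit 482) (nat_lit 29) [nat_lit 5, nat_lit 3, nat_lit 4, nat_lit 1, nat_lit 2, nat_lit 3, nat_lit 8, nat_lit 0, nat_lit 1, nat_lit 2, nat_lit 3, nat_lit 4, nat_lit 5, nat_lit 0, nat_lit 1, nat_lit 4, nat_lit 3, nat_lit 2, nat_lit 8, nat_lit 3, nat_lit 1, nat_lit 9, nat_lit 8, nat_lit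 16, nat_lit 14, nat_lit 16, nat_lit 8, nat_lit 16] (Rl.rel (nat_lit 0) [nat_lit 3, nat_lit 4, nat_lit 5, nat_lit 2, nat_lit 3, nat_lit 4, nat_lit 1, nat_lit 2, nat_lit 3, nat_lit 8, nat_lit 0, nat_lit 1, nat_lit 2, nat_lit 3, nat_lit 4, nat_lit 5, nat_lit 0, nat_lit 1, nat_lit 4, nat_lit 3, nat_lit 2, nat_lit 8, nat_lit 3, nat_lit 11, nat_lit 2, nat_lit 8, nat_lit 10, nat_lit 1, nat_lit 8, nat_lit 12, nat_lit 15, nat_lit 14, nat_lit 17, nat_lit 12, nat_lit 19, nat_lit 16] (nat_lit 29) (nat_lit 2) [nat_lit 1459, nat_lit 239, nat_lit 1397] []))) (FT.leaf (Fct.mk true (nat_lit 28) (nat_lit 208) (nat_lit 29) [nat_lit 5, nat_lit 2, nat_lit 3, nat_lit 4, nat_lit 1, nat_lit 2, nat_lit 3, nat_lit 8, nat_lit 0, nat_lit 1, nat_lit 2, nat_lit 3, nat_lit 4, nat_lit 5, nat_lit 1, nat_lit 4, nat_lit 3, nat_lit 2, nat_lit 8, nat_lit 3, nat_lit 1, nat_lit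 9, nat_lit 8, nat_lit 16, nat_lit 14, nat_lit 16, nat_lit 8, nat_lit 16] (Rl.t1 (nat_lit 1463) (nat_lit 1423)))))) (FT.node (nat_lit 1466) (FT.leaf (Fct.mk false (nat_lit 29) (nat_lit 0) (nat_lit 29) [nat_lit 6, nat_lit 5, nat_lit 4, nat_lit 3, nat_lit 8, nat_lit 1, nat_lit 2, nat_lit 3, nat_lit 4, nat_lit 5, nat_lit 8, nat_lit 10, nat_lit 9, nat_lit 2, nat_lit 12, nat_lit 8, nat_lit 16, nat_lit 14] (Rl.cmp (nat_lit 1430) (nat_lit 1430)))) (FT.node (nat_lit 1467) (FT.leaf (Fct.mk true (nat_lit 25) (nat_lit 166) (nat_lit 26) [nat_lit 5, nat_lit 4, nat_lit 3, nat_lit 8, nat_lit 2, nat_lit 3, nat_lit 4, nat_lit 1, nat_lit 2, nat_lit 3, nat_lit 8, nat_lit 5, nat_lit 6, nat_lit 4, nat_lit 5, nat_lit 3, nat_lit 4, nat_lit 2, nat_lit 3, nat_lit 8, nat_lit 1, nat_lit 2, nat_lit 3, nat_lit 4, nat_lit 5, nat_lit 2, nat_lit 0, nat_lit 1, nat_lit 9, nat_lit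 4, nat_lit 3, nat_lit 2, nat_lit 8, nat_lit 3, nat_lit 11, nat_lit 2, nat_lit 10, nat_lit 1, nat_lit 16, nat_lit 12, nat_lit 15, nat_lit 14, nat_lit 17, nat_lit 16] (Rl.rel (nat_lit 0) [nat_lit 3, nat_lit 4, nat_lit 5, nat_lit 2, nat_lit 3, nat_lit 4, nat_lit 1, nat_lit 2, nat_lit 3, nat_lit 8, nat_lit 0, nat_lit 1, nat_lit 2, nat_lit 3, nat_lit 4, nat_lit 5, nat_lit 4, nat_lit 11, nat_lit 1, nat_lit 8, nat_lit 12, nat_lit 15, nat_lit 18] (nat_lit 29) (nat_lit 1) [nat_lit 1462] [nat_lit 1449]))) (FT.leaf (Fct.mk true (nat_lit 25) (nat_lit 155) (nat_lit 26) [nat_lit 5, nat_lit 4, nat_lit 3, nat_lit 8, nat_lit 2, nat_lit 3, nat_lit 4, nat_lit 1, nat_lit 2, nat_lit 3, nat_lit 8, nat_lit 5, nat_lit 6, nat_lit 4, nat_lit 5, nat_lit 3, nat_lit 4, nat_lit 2, nat_lit 3, nat_lit 8, nat_lit 1, nat_lit 2, nat_lit 3, nat_lit 4, nat_lit 5, nat_lit 2, nat_lit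 1, nat_lit 9, nat_lit 4, nat_lit 3, nat_lit 2, nat_lit 8, nat_lit 3, nat_lit 11, nat_lit 2, nat_lit 10, nat_lit 1, nat_lit 16, nat_lit 12, nat_lit 15, nat_lit 14, nat_lit 17] (Rl.t1 (nat_lit 1466) (nat_lit 1256))))))) (FT.node (nat_lit 1471) (FT.node (nat_lit 1469) (FT.leaf (Fct.mk true (nat_lit 26) (nat_lit 1257) (nat_lit 25) [nat_lit 5, nat_lit 4, nat_lit 3, nat_lit 8, nat_lit 2, nat_lit 3, nat_lit 4, nat_lit 1, nat_lit 2, nat_lit 3, nat_lit 8, nat_lit 5, nat_lit 6, nat_lit 4, nat_lit 5, nat_lit 3, nat_lit 4, nat_lit 2, nat_lit 3, nat_lit 8, nat_lit 1, nat_lit 2, nat_lit 3, nat_lit 4, nat_lit 5, nat_lit 1, nat_lit 8, nat_lit 3, nat_lit 2, nat_lit 0, nat_lit 1, nat_lit 9, nat_lit 4, nat_lit 3, nat_lit 2, nat_lit 8, nat_lit 3, nat_lit 10, nat_lit 0, nat_lit 16, nat_lit 12, nat_lit 15, nat_lit 14, nat_lit 8, nat_lit 16] (Rl.inv (nat_lit 1467))))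 (FT.node (nat_lit 1470) (FT.leaf (Fct.mk true (nat_lit 25) (nat_lit 750) (nat_lit 23) [nat_lit 6, nat_lit 8, nat_lit 3, nat_lit 2, nat_lit 1, nat_lit 4, nat_lit 3, nat_lit 2, nat_lit 8, nat_lit 3, nat_lit 8, nat_lit 10, nat_lit 1, nat_lit 15, nat_lit 14, nat_lit 18] (Rl.rel (nat_lit 0) [nat_lit 8, nat_lit 4, nat_lit 5, nat_lit 2, nat_lit 3, nat_lit 4, nat_lit 1, nat_lit 2, nat_lit 3, nat_lit 8, nat_lit 0, nat_lit 1, nat_lit 2, nat_lit 3, nat_lit 4, nat_lit 5, nat_lit 1, nat_lit 8, nat_lit 3, nat_lit 2, nat_lit 0, nat_lit 1, nat_lit 4, nat_lit 3, nat_lit 2, nat_lit 8, nat_lit 3, nat_lit 11, nat_lit 1, nat_lit 8, nat_lit 12, nat_lit 15, nat_lit 14, nat_lit 17] (nat_lit 26) (nat_lit 1) [nat_lit 1468] [nat_lit 1302, nat_lit 1362]))) (FT.leaf (Fct.mk true (nat_lit 25) (nat_lit 61) (nat_lit 23) [nat_lit 8, nat_lit 3, nat_lit 2, nat_lit 0, nat_lit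 1, nat_lit 4, nat_lit 3, nat_lit 2, nat_lit 8, nat_lit 3, nat_lit 8, nat_lit 10, nat_lit 8, nat_lit 12, nat_lit 15, nat_lit 14, nat_lit 18] (Rl.t1 (nat_lit 1469) (nat_lit 1258)))))) (FT.node (nat_lit 1473) (FT.node (nat_lit 1472) (FT.leaf (Fct.mk true (nat_lit 23) (nat_lit 741) (nat_lit 25) [nat_lit 4, nat_lit 3, nat_lit 2, nat_lit 1, nat_lit 8, nat_lit 3, nat_lit 2, nat_lit 0, nat_lit 1, nat_lit 4, nat_lit 3, nat_lit 2, nat_lit 8, nat_lit 3, nat_lit 12, nat_lit 15, nat_lit 18] (Rl.inv (nat_lit 1470)))) (FT.leaf (Fct.mk true (nat_lit 23) (nat_lit 97) (nat_lit 25) [nat_lit 4, nat_lit 3, nat_lit 2, nat_lit 1, nat_lit 8, nat_lit 3, nat_lit 2, nat_lit 0, nat_lit 1, nat_lit 4, nat_lit 3, nat_lit 2, nat_lit 8, nat_lit 3, nat_lit 1, nat_lit 8, nat_lit 12, nat_lit 15, nat_lit 14, nat_lit 18] (Rl.t1 (nat_lit 1471) (nat_lit 1079))))) (FT.node (nat_lit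 1474) (FT.leaf (Fct.mk true (nat_lit 28) (nat_lit 56837) (nat_lit 26) [nat_lit 6, nat_lit 5, nat_lit 3, nat_lit 4, nat_lit 1, nat_lit 2, nat_lit 3, nat_lit 8, nat_lit 0, nat_lit 1, nat_lit 2, nat_lit 3, nat_lit 4, nat_lit 5, nat_lit 2, nat_lit 1, nat_lit 8, nat_lit 3, nat_lit 2, nat_lit 0, nat_lit 1, nat_lit 4, nat_lit 3, nat_lit 2, nat_lit 8, nat_lit 3, nat_lit 0, nat_lit 12, nat_lit 15, nat_lit 8, nat_lit 18, nat_lit 16] (Rl.rel (nat_lit 0) [nat_lit 8, nat_lit 5, nat_lit 6, nat_lit 4, nat_lit 5, nat_lit 3, nat_lit 4, nat_lit 1, nat_lit 2, nat_lit 3, nat_lit 8, nat_lit 0, nat_lit 1, nat_lit 2, nat_lit 3, nat_lit 4, nat_lit 5, nat_lit 1, nat_lit 2, nat_lit 0, nat_lit 1, nat_lit 9, nat_lit 4, nat_lit 3, nat_lit 2, nat_lit 8, nat_lit 3, nat_lit 0, nat_lit 16, nat_lit 14, nat_lit 8, nat_lit 19] (nat_lit 26) (nat_lit 2) [nat_lit 1468, nat_lit 1244,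 nat_lit 1416] []))) (FT.leaf (Fct.mk true (nat_lit 28) (nat_lit 4662) (nat_lit 26) [nat_lit 6, nat_lit 5, nat_lit 3, nat_lit 4, nat_lit 1, nat_lit 2, nat_lit 3, nat_lit 8, nat_lit 0, nat_lit 1, nat_lit 2, nat_lit 3, nat_lit 4, nat_lit 5, nat_lit 2, nat_lit 1, nat_lit 3, nat_lit 2, nat_lit 0, nat_lit 1, nat_lit 4, nat_lit 3, nat_lit 2, nat_lit 8, nat_lit 3, nat_lit 0, nat_lit 12, nat_lit 15, nat_lit 14, nat_lit 8, nat_lit 18, nat_lit 16] (Rl.t1 (nat_lit 1473) (nat_lit 1422))))))))) (FT.node (nat_lit 1487) (FT.node (nat_lit 1481) (FT.node (nat_lit 1478) (FT.node (nat_lit 1476) (FT.leaf (Fct.mk true (nat_lit 29) (nat_lit 90) (nat_lit 23) [nat_lit 4, nat_lit 5, nat_lit 2, nat_lit 1, nat_lit 3, nat_lit 2, nat_lit 0, nat_lit 1, nat_lit 4, nat_lit 3, nat_lit 2, nat_lit 8, nat_lit 3, nat_lit 10, nat_lit 0, nat_lit 8, nat_lit 16, nat_lit 14, nat_lit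 12, nat_lit 19] (Rl.rel (nat_lit 0) [nat_lit 0, nat_lit 1, nat_lit 2, nat_lit 3, nat_lit 4, nat_lit 5, nat_lit 9, nat_lit 4, nat_lit 3, nat_lit 2, nat_lit 8, nat_lit 3, nat_lit 9, nat_lit 10, nat_lit 2, nat_lit 8, nat_lit 10, nat_lit 1, nat_lit 16, nat_lit 15, nat_lit 14, nat_lit 17, nat_lit 18, nat_lit 16] (nat_lit 23) (nat_lit 2) [nat_lit 1472, nat_lit 1258, nat_lit 1461] []))) (FT.node (nat_lit 1477) (FT.leaf (Fct.mk true (nat_lit 23) (nat_lit 987) (nat_lit 29) [nat_lit 2, nat_lit 3, nat_lit 8, nat_lit 6, nat_lit 4, nat_lit 5, nat_lit 3, nat_lit 4, nat_lit 2, nat_lit 3, nat_lit 8, nat_lit 1, nat_lit 2, nat_lit 3, nat_lit 4, nat_lit 5, nat_lit 9, nat_lit 4, nat_lit 16, nat_lit 15, nat_lit 14, nat_lit 17, nat_lit 12, nat_lit 16] (Rl.inv (nat_lit 1475)))) (FT.leaf (Fct.mk true (nat_lit 23) (nat_lit 771) (nat_lit 29) [nat_lit 8, nat_lit 6, nat_lit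 4, nat_lit 5, nat_lit 3, nat_lit 4, nat_lit 2, nat_lit 3, nat_lit 8, nat_lit 0, nat_lit 1, nat_lit 2, nat_lit 3, nat_lit 4, nat_lit 5, nat_lit 9, nat_lit 4, nat_lit 16, nat_lit 15, nat_lit 14, nat_lit 13, nat_lit 12, nat_lit 18, nat_lit 16] (Rl.t1 (nat_lit 1476) (nat_lit 1176)))))) (FT.node (nat_lit 1479) (FT.leaf (Fct.mk true (nat_lit 29) (nat_lit 1023) (nat_lit 3) [nat_lit 8, nat_lit 1, nat_lit 2, nat_lit 3, nat_lit 4, nat_lit 5, nat_lit 1, nat_lit 4, nat_lit 3, nat_lit 2, nat_lit 0, nat_lit 1, nat_lit 9, nat_lit 4, nat_lit 3, nat_lit 2, nat_lit 8, nat_lit 3, nat_lit 11, nat_lit 8, nat_lit 16, nat_lit 15, nat_lit 14, nat_lit 13, nat_lit 12] (Rl.rel (nat_lit 0) [nat_lit 6, nat_lit 3, nat_lit 8, nat_lit 4, nat_lit 3, nat_lit 2, nat_lit 0, nat_lit 1, nat_lit 9, nat_lit 4, nat_lit 3, nat_lit 2, nat_lit 8, nat_lit 3, nat_lit 11, nat_lit 2, nat_lit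 12, nat_lit 15, nat_lit 17, nat_lit 12, nat_lit 19] (nat_lit 23) (nat_lit 1) [nat_lit 1477] [nat_lit 1065, nat_lit 1157]))) (FT.node (nat_lit 1480) (FT.leaf (Fct.mk true (nat_lit 3) (nat_lit 198) (nat_lit 29) [nat_lit 2, nat_lit 3, nat_lit 8, nat_lit 0, nat_lit 1, nat_lit 2, nat_lit 3, nat_lit 4, nat_lit 5, nat_lit 9, nat_lit 4, nat_lit 1, nat_lit 0, nat_lit 2, nat_lit 16, nat_lit 15, nat_lit 14, nat_lit 13, nat_lit 12, nat_lit 19] (Rl.inv (nat_lit 1478)))) (FT.leaf (Fct.mk true (nat_lit 3) (nat_lit 45) (nat_lit 29) [nat_lit 5, nat_lit 4, nat_lit 2, nat_lit 3, nat_lit 8, nat_lit 0, nat_lit 1, nat_lit 2, nat_lit 3, nat_lit 4, nat_lit 5, nat_lit 4, nat_lit 11, nat_lit 10, nat_lit 1, nat_lit 12, nat_lit 15, nat_lit 14, nat_lit 17, nat_lit 12, nat_lit 19] (Rl.t1 (nat_lit 1479) (nat_lit 1161))))))) (FT.node (nat_lit 1484) (FT.node (nat_lit 1482)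 (FT.leaf (Fct.mk false (nat_lit 29) (nat_lit 0) (nat_lit 29) [nat_lit 4] (Rl.cmp (nat_lit 1430) (nat_lit 1428)))) (FT.node (nat_lit 1483) (FT.leaf (Fct.mk true (nat_lit 29) (nat_lit 2741) (nat_lit 23) [nat_lit 6, nat_lit 5, nat_lit 3, nat_lit 4, nat_lit 2, nat_lit 3, nat_lit 8, nat_lit 1, nat_lit 2, nat_lit 3, nat_lit 4, nat_lit 5, nat_lit 3, nat_lit 8, nat_lit 4, nat_lit 3, nat_lit 2, nat_lit 0, nat_lit 1, nat_lit 9, nat_lit 4, nat_lit 3, nat_lit 2, nat_lit 8, nat_lit 3, nat_lit 10, nat_lit 0, nat_lit 14, nat_lit 17] (Rl.rel (nat_lit 0) [nat_lit 8, nat_lit 3, nat_lit 4, nat_lit 2, nat_lit 3, nat_lit 8, nat_lit 1, nat_lit 2, nat_lit 3, nat_lit 4, nat_lit 5, nat_lit 0, nat_lit 1, nat_lit 2, nat_lit 3, nat_lit 10, nat_lit 1, nat_lit 8] (nat_lit 3) (nat_lit 1) [nat_lit 1480] [nat_lit 1158]))) (FT.leaf (Fct.mk true (nat_lit 23) (nat_lit 2741) (nat_lit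 29) [nat_lit 3, nat_lit 8, nat_lit 6, nat_lit 4, nat_lit 5, nat_lit 3, nat_lit 4, nat_lit 2, nat_lit 3, nat_lit 8, nat_lit 0, nat_lit 1, nat_lit 2, nat_lit 3, nat_lit 4, nat_lit 5, nat_lit 8, nat_lit 3, nat_lit 2, nat_lit 0, nat_lit 1, nat_lit 9, nat_lit 4, nat_lit 3, nat_lit 2, nat_lit 8, nat_lit 3, nat_lit 0, nat_lit 2, nat_lit 8, nat_lit 12, nat_lit 15, nat_lit 13, nat_lit 18, nat_lit 16] (Rl.inv (nat_lit 1482)))))) (FT.node (nat_lit 1485) (FT.leaf (Fct.mk true (nat_lit 23) (nat_lit 337) (nat_lit 29) [nat_lit 3, nat_lit 8, nat_lit 6, nat_lit 4, nat_lit 5, nat_lit 3, nat_lit 4, nat_lit 2, nat_lit 3, nat_lit 8, nat_lit 0, nat_lit 1, nat_lit 2, nat_lit 3, nat_lit 4, nat_lit 5, nat_lit 1, nat_lit 4, nat_lit 3, nat_lit 2, nat_lit 8, nat_lit 3, nat_lit 11, nat_lit 10, nat_lit 1, nat_lit 15, nat_lit 17, nat_lit 12, nat_lit 19] (Rl.t1 (nat_lit 1483)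 (nat_lit 1065)))) (FT.node (nat_lit 1486) (FT.leaf (Fct.mk false (nat_lit 24) (nat_lit 0) (nat_lit 24) [nat_lit 3, nat_lit 4, nat_lit 2, nat_lit 3, nat_lit 8, nat_lit 0, nat_lit 1, nat_lit 2, nat_lit 3, nat_lit 4, nat_lit 5, nat_lit 0, nat_lit 1, nat_lit 2, nat_lit 8, nat_lit 3, nat_lit 10, nat_lit 2, nat_lit 8, nat_lit 10, nat_lit 1, nat_lit 8, nat_lit 12, nat_lit 15, nat_lit 14, nat_lit 8, nat_lit 18] (Rl.cmp (nat_lit 1181) (nat_lit 1223)))) (FT.leaf (Fct.mk false (nat_lit 24) (nat_lit 0) (nat_lit 24) [nat_lit 3, nat_lit 8, nat_lit 5, nat_lit 2, nat_lit 3, nat_lit 4, nat_lit 1, nat_lit 2, nat_lit 3, nat_lit 8, nat_lit 0, nat_lit 1, nat_lit 2, nat_lit 3, nat_lit 4, nat_lit 5, nat_lit 1, nat_lit 2, nat_lit 0, nat_lit 1, nat_lit 3, nat_lit 2, nat_lit 8, nat_lit 3, nat_lit 0, nat_lit 2] (Rl.cmp (nat_lit 1183) (nat_lit 1485)))))))) (FT.node (nat_lit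 1493) (FT.node (nat_lit 1490) (FT.node (nat_lit 1488) (FT.leaf (Fct.mk true (nat_lit 26) (nat_lit 117858) (nat_lit 29) [nat_lit 6, nat_lit 5, nat_lit 3, nat_lit 4, nat_lit 2, nat_lit 3, nat_lit 8, nat_lit 0, nat_lit 1, nat_lit 2, nat_lit 3, nat_lit 4, nat_lit 5, nat_lit 1, nat_lit 2, nat_lit 8, nat_lit 3, nat_lit 10, nat_lit 9, nat_lit 2, nat_lit 16, nat_lit 15, nat_lit 14, nat_lit 16, nat_lit 8, nat_lit 18, nat_lit 16] (Rl.rel (nat_lit 0) [nat_lit 6, nat_lit 8, nat_lit 3, nat_lit 10, nat_lit 8, nat_lit 16, nat_lit 15, nat_lit 14, nat_lit 17, nat_lit 19] (nat_lit 29) (nat_lit 2) [nat_lit 1441, nat_lit 1486, nat_lit 1280] []))) (FT.node (nat_lit 1489) (FT.leaf (Fct.mk true (nat_lit 26) (nat_lit 80501) (nat_lit 29) [nat_lit 3, nat_lit 8, nat_lit 4, nat_lit 5, nat_lit 3, nat_lit 4, nat_lit 2, nat_lit 3, nat_lit 8, nat_lit 1, nat_lit 2, nat_lit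 3, nat_lit 4, nat_lit 5, nat_lit 2, nat_lit 1, nat_lit 3, nat_lit 2, nat_lit 8, nat_lit 3, nat_lit 11, nat_lit 2, nat_lit 8, nat_lit 10, nat_lit 1, nat_lit 8, nat_lit 12, nat_lit 15, nat_lit 13, nat_lit 19] (Rl.t1 (nat_lit 1487) (nat_lit 1309)))) (FT.leaf (Fct.mk true (nat_lit 29) (nat_lit 968) (nat_lit 26) [nat_lit 3, nat_lit 4, nat_lit 5, nat_lit 2, nat_lit 3, nat_lit 4, nat_lit 1, nat_lit 2, nat_lit 3, nat_lit 8, nat_lit 0, nat_lit 1, nat_lit 2, nat_lit 3, nat_lit 4, nat_lit 5, nat_lit 2, nat_lit 1, nat_lit 4, nat_lit 3, nat_lit 2, nat_lit 8, nat_lit 3, nat_lit 10, nat_lit 2, nat_lit 8, nat_lit 10, nat_lit 1, nat_lit 13, nat_lit 12] (Rl.inv (nat_lit 1488)))))) (FT.node (nat_lit 1491) (FT.leaf (Fct.mk true (nat_lit 26) (nat_lit 5222) (nat_lit 26) [nat_lit 3, nat_lit 8, nat_lit 4, nat_lit 5, nat_lit 3, nat_lit 4, nat_lit 2, nat_lit 3, nat_lit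 8, nat_lit 1, nat_lit 2, nat_lit 3, nat_lit 4, nat_lit 5, nat_lit 3, nat_lit 8, nat_lit 4, nat_lit 3, nat_lit 2, nat_lit 0, nat_lit 1, nat_lit 9, nat_lit 4, nat_lit 3, nat_lit 2, nat_lit 8, nat_lit 3, nat_lit 11, nat_lit 10, nat_lit 2, nat_lit 8, nat_lit 10, nat_lit 1, nat_lit 12, nat_lit 15, nat_lit 18] (Rl.rel (nat_lit 0) [nat_lit 6, nat_lit 3, nat_lit 2, nat_lit 1, nat_lit 4, nat_lit 3, nat_lit 2, nat_lit 0, nat_lit 1, nat_lit 9, nat_lit 4, nat_lit 3, nat_lit 2, nat_lit 8, nat_lit 3, nat_lit 0, nat_lit 2, nat_lit 15] (nat_lit 29) (nat_lit 1) [nat_lit 1489] [nat_lit 1456]))) (FT.node (nat_lit 1492) (FT.leaf (Fct.mk true (nat_lit 26) (nat_lit 2867) (nat_lit 26) [nat_lit 6, nat_lit 5, nat_lit 4, nat_lit 3, nat_lit 8, nat_lit 0, nat_lit 1, nat_lit 2, nat_lit 3, nat_lit 4, nat_lit 5, nat_lit 1, nat_lit 9, nat_lit 4, nat_lit 3, nat_lit 2, nat_lit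 8, nat_lit 3, nat_lit 1, nat_lit 9, nat_lit 12, nat_lit 15, nat_lit 14, nat_lit 17, nat_lit 12, nat_lit 18] (Rl.t1 (nat_lit 1490) (nat_lit 1309)))) (FT.leaf (Fct.mk true (nat_lit 26) (nat_lit 1330) (nat_lit 26) [nat_lit 4, nat_lit 3, nat_lit 8, nat_lit 2, nat_lit 3, nat_lit 4, nat_lit 1, nat_lit 2, nat_lit 3, nat_lit 8, nat_lit 0, nat_lit 1, nat_lit 2, nat_lit 3, nat_lit 4, nat_lit 5, nat_lit 3, nat_lit 2, nat_lit 8, nat_lit 3, nat_lit 11, nat_lit 8, nat_lit 10, nat_lit 1, nat_lit 14, nat_lit 17, nat_lit 18] (Rl.inv (nat_lit 1491))))))) (FT.node (nat_lit 1496) (FT.node (nat_lit 1494) (FT.leaf (Fct.mk true (nat_lit 26) (nat_lit 75) (nat_lit 26) [nat_lit 4, nat_lit 3, nat_lit 8, nat_lit 2, nat_lit 3, nat_lit 4, nat_lit 5, nat_lit 2, nat_lit 3, nat_lit 10, nat_lit 9, nat_lit 2, nat_lit 12, nat_lit 15, nat_lit 14, nat_lit 16, nat_lit 8, nat_lit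 18, nat_lit 16] (Rl.t1 (nat_lit 1492) (nat_lit 1309)))) (FT.node (nat_lit 1495) (FT.leaf (Fct.mk true (nat_lit 25) (nat_lit 335) (nat_lit 26) [nat_lit 6, nat_lit 4, nat_lit 5, nat_lit 3, nat_lit 4, nat_lit 2, nat_lit 3, nat_lit 8, nat_lit 1, nat_lit 2, nat_lit 3, nat_lit 4, nat_lit 5, nat_lit 8, nat_lit 3, nat_lit 2, nat_lit 0, nat_lit 1, nat_lit 9, nat_lit 4, nat_lit 3, nat_lit 2, nat_lit 8, nat_lit 3, nat_lit 2, nat_lit 8, nat_lit 10, nat_lit 1, nat_lit 12, nat_lit 8, nat_lit 16, nat_lit 14, nat_lit 13, nat_lit 12, nat_lit 18, nat_lit 16] (Rl.rel (nat_lit 0) [nat_lit 8, nat_lit 3, nat_lit 4, nat_lit 2, nat_lit 3, nat_lit 8, nat_lit 1, nat_lit 2, nat_lit 3, nat_lit 4, nat_lit 5, nat_lit 2, nat_lit 3, nat_lit 0, nat_lit 2, nat_lit 14, nat_lit 8] (nat_lit 26) (nat_lit 2) [nat_lit 1493, nat_lit 1299, nat_lit 1307] []))) (FT.leaf (Fct.mk true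 (nat_lit 25) (nat_lit 92) (nat_lit 26) [nat_lit 5, nat_lit 3, nat_lit 4, nat_lit 2, nat_lit 3, nat_lit 8, nat_lit 0, nat_lit 1, nat_lit 2, nat_lit 3, nat_lit 4, nat_lit 5, nat_lit 8, nat_lit 3, nat_lit 2, nat_lit 0, nat_lit 1, nat_lit 9, nat_lit 4, nat_lit 3, nat_lit 2, nat_lit 8, nat_lit 3, nat_lit 8, nat_lit 10, nat_lit 1, nat_lit 12, nat_lit 8, nat_lit 16, nat_lit 14, nat_lit 13, nat_lit 12, nat_lit 18, nat_lit 16] (Rl.t1 (nat_lit 1494) (nat_lit 1310)))))) (FT.node (nat_lit 1498) (FT.node (nat_lit 1497) (FT.leaf (Fct.mk true (nat_lit 2) (nat_lit 431) (nat_lit 30) [] (Rl.df))) (FT.leaf (Fct.mk true (nat_lit 30) (nat_lit 431) (nat_lit 2) [] (Rl.inv (nat_lit 1496))))) (FT.node (nat_lit 1499) (FT.leaf (Fct.mk false (nat_lit 2) (nat_lit 0) (nat_lit 2) [nat_lit 6, nat_lit 4, nat_lit 3, nat_lit 2, nat_lit 8, nat_lit 3, nat_lit 8, nat_lit 10, nat_lit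 0, nat_lit 8] (Rl.cmp (nat_lit 173) (nat_lit 301)))) (FT.leaf (Fct.mk false (nat_lit 2) (nat_lit 0) (nat_lit 2) [nat_lit 6, nat_lit 2, nat_lit 8, nat_lit 3, nat_lit 0] (Rl.cmp (nat_lit 173) (nat_lit 1352)))))))))

/-- some facts -/
noncomputable def ftc30 : FT := FT.node (nat_lit 1525) (FT.node (nat_lit 1512) (FT.node (nat_lit 1506) (FT.node (nat_lit 1503) (FT.node (nat_lit 1501) (FT.leaf (Fct.mk false (nat_lit 30) (nat_lit 0) (nat_lit 30) [nat_lit 6, nat_lit 5, nat_lit 4, nat_lit 3, nat_lit 8, nat_lit 1, nat_lit 2, nat_lit 3, nat_lit 4, nat_lit 5, nat_lit 4, nat_lit 1, nat_lit 16, nat_lit 14, nat_lit 8, nat_lit 16] (Rl.rel (nat_lit 0) [nat_lit 2, nat_lit 3, nat_lit 4, nat_lit 5, nat_lit 2, nat_lit 1, nat_lit 3, nat_lit 2, nat_lit 0, nat_lit 1, nat_lit 9, nat_lit 4, nat_lit 3, nat_lit 2, nat_lit 8, nat_lit 3, nat_lit 11, nat_lit 1, nat_lit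 16, nat_lit 14, nat_lit 13, nat_lit 12, nat_lit 18] (nat_lit 30) (nat_lit 3) [nat_lit 1497, nat_lit 1498, nat_lit 95, nat_lit 1499, nat_lit 1496] []))) (FT.node (nat_lit 1502) (FT.leaf (Fct.mk true (nat_lit 30) (nat_lit 23) (nat_lit 2) [nat_lit 6, nat_lit 5, nat_lit 4, nat_lit 3, nat_lit 8, nat_lit 1, nat_lit 2, nat_lit 3, nat_lit 4, nat_lit 5, nat_lit 4, nat_lit 1, nat_lit 16, nat_lit 14, nat_lit 8, nat_lit 16] (Rl.t1 (nat_lit 1497) (nat_lit 1500)))) (FT.leaf (Fct.mk true (nat_lit 4) (nat_lit 821) (nat_lit 30) [nat_lit 5, nat_lit 4, nat_lit 3, nat_lit 8, nat_lit 1, nat_lit 2, nat_lit 3, nat_lit 4, nat_lit 5, nat_lit 8, nat_lit 3, nat_lit 2, nat_lit 0, nat_lit 1, nat_lit 9, nat_lit 4, nat_lit 3, nat_lit 2, nat_lit 8, nat_lit 3, nat_lit 9, nat_lit 2, nat_lit 16, nat_lit 8, nat_lit 12, nat_lit 15, nat_lit 12, nat_lit 18] (Rl.rel (nat_lit 0) [nat_lit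 3, nat_lit 8, nat_lit 2, nat_lit 3, nat_lit 4, nat_lit 5, nat_lit 1, nat_lit 3, nat_lit 2, nat_lit 0, nat_lit 1, nat_lit 9, nat_lit 4, nat_lit 3, nat_lit 2, nat_lit 8, nat_lit 3, nat_lit 11, nat_lit 1, nat_lit 16, nat_lit 15, nat_lit 14, nat_lit 13, nat_lit 12, nat_lit 18] (nat_lit 30) (nat_lit 2) [nat_lit 1500, nat_lit 1501, nat_lit 1210, nat_lit 237] []))))) (FT.node (nat_lit 1504) (FT.leaf (Fct.mk true (nat_lit 4) (nat_lit 281) (nat_lit 30) [nat_lit 1, nat_lit 2, nat_lit 3, nat_lit 4, nat_lit 5, nat_lit 3, nat_lit 2, nat_lit 1, nat_lit 4, nat_lit 3, nat_lit 2, nat_lit 0, nat_lit 1, nat_lit 9, nat_lit 4, nat_lit 3, nat_lit 2, nat_lit 8, nat_lit 3, nat_lit 11, nat_lit 2, nat_lit 8, nat_lit 12, nat_lit 15, nat_lit 12] (Rl.t1 (nat_lit 1502) (nat_lit 409)))) (FT.node (nat_lit 1505) (FT.leaf (Fct.mk true (nat_lit 30) (nat_lit 475) (nat_lit 4)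 [nat_lit 2, nat_lit 3, nat_lit 4, nat_lit 1, nat_lit 2, nat_lit 3, nat_lit 8, nat_lit 0, nat_lit 1, nat_lit 2, nat_lit 3, nat_lit 4, nat_lit 5, nat_lit 2, nat_lit 0, nat_lit 1, nat_lit 3, nat_lit 2, nat_lit 8, nat_lit 3, nat_lit 10, nat_lit 8, nat_lit 16, nat_lit 15, nat_lit 14, nat_lit 13, nat_lit 19] (Rl.inv (nat_lit 1503)))) (FT.leaf (Fct.mk true (nat_lit 30) (nat_lit 14985) (nat_lit 30) [nat_lit 6, nat_lit 3, nat_lit 10] (Rl.rel (nat_lit 0) [nat_lit 3, nat_lit 8, nat_lit 1, nat_lit 2, nat_lit 3, nat_lit 4, nat_lit 5, nat_lit 1, nat_lit 3, nat_lit 2, nat_lit 0, nat_lit 1, nat_lit 9, nat_lit 4, nat_lit 3, nat_lit 2, nat_lit 8, nat_lit 3, nat_lit 11, nat_lit 10, nat_lit 1, nat_lit 16, nat_lit 14, nat_lit 13, nat_lit 12, nat_lit 18] (nat_lit 30) (nat_lit 2) [nat_lit 1500, nat_lit 1501, nat_lit 1348, nat_lit 1496] [])))))) (FT.node (nat_lit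 1509) (FT.node (nat_lit 1507) (FT.leaf (Fct.mk false (nat_lit 2) (nat_lit 0) (nat_lit 2) [nat_lit 6, nat_lit 2, nat_lit 1, nat_lit 3, nat_lit 2, nat_lit 0, nat_lit 1, nat_lit 4, nat_lit 3, nat_lit 2, nat_lit 8, nat_lit 3, nat_lit 2, nat_lit 10, nat_lit 1, nat_lit 8, nat_lit 12, nat_lit 15, nat_lit 14] (Rl.cmp (nat_lit 168) (nat_lit 1215)))) (FT.node (nat_lit 1508) (FT.leaf (Fct.mk false (nat_lit 30) (nat_lit 0) (nat_lit 30) [nat_lit 5, nat_lit 4, nat_lit 3, nat_lit 8, nat_lit 1, nat_lit 2, nat_lit 3, nat_lit 4, nat_lit 5, nat_lit 4, nat_lit 1, nat_lit 16, nat_lit 14, nat_lit 8, nat_lit 16] (Rl.rel (nat_lit 0) [nat_lit 3, nat_lit 4, nat_lit 5, nat_lit 2, nat_lit 1, nat_lit 8, nat_lit 3, nat_lit 2, nat_lit 0, nat_lit 1, nat_lit 9, nat_lit 4, nat_lit 3, nat_lit 2, nat_lit 8, nat_lit 3, nat_lit 11, nat_lit 1, nat_lit 16, nat_lit 15, nat_lit 14,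 nat_lit 13, nat_lit 12, nat_lit 18] (nat_lit 30) (nat_lit 3) [nat_lit 1500, nat_lit 1501, nat_lit 1506, nat_lit 237, nat_lit 415, nat_lit 1503] []))) (FT.leaf (Fct.mk false (nat_lit 30) (nat_lit 0) (nat_lit 30) [nat_lit 6] (Rl.cmp (nat_lit 1507) (nat_lit 1500)))))) (FT.node (nat_lit 1510) (FT.leaf (Fct.mk false (nat_lit 30) (nat_lit 0) (nat_lit 30) [nat_lit 5, nat_lit 4, nat_lit 3, nat_lit 8, nat_lit 1, nat_lit 2, nat_lit 3, nat_lit 4, nat_lit 5, nat_lit 4, nat_lit 1, nat_lit 16, nat_lit 14, nat_lit 8, nat_lit 16] (Rl.cmp (nat_lit 1508) (nat_lit 1500)))) (FT.node (nat_lit 1511) (FT.leaf (Fct.mk false (nat_lit 30) (nat_lit 0) (nat_lit 30) [nat_lit 6] (Rl.cmp (nat_lit 1509) (nat_lit 1500)))) (FT.leaf (Fct.mk false (nat_lit 30) (nat_lit 0) (nat_lit 30) [nat_lit 5, nat_lit 4, nat_lit 3, nat_lit 8, nat_lit 1, nat_lit 2, nat_lit 3, nat_lit 4, nat_lit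 5, nat_lit 4, nat_lit 1, nat_lit 16, nat_lit 14, nat_lit 8, nat_lit 16] (Rl.cmp (nat_lit 1510) (nat_lit 1500)))))))) (FT.node (nat_lit 1518) (FT.node (nat_lit 1515) (FT.node (nat_lit 1513) (FT.leaf (Fct.mk false (nat_lit 30) (nat_lit 0) (nat_lit 30) [nat_lit 5, nat_lit 4, nat_lit 3, nat_lit 8, nat_lit 1, nat_lit 2, nat_lit 3, nat_lit 4, nat_lit 5, nat_lit 10, nat_lit 1, nat_lit 16, nat_lit 14, nat_lit 8, nat_lit 16] (Rl.sk (nat_lit 1505) (nat_lit 1511)))) (FT.node (nat_lit 1514) (FT.leaf (Fct.mk false (nat_lit 30) (nat_lit 0) (nat_lit 30) [nat_lit 23] (Rl.cmp (nat_lit 1512) (nat_lit 1507)))) (FT.leaf (Fct.mk true (nat_lit 30) (nat_lit 105) (nat_lit 4) [nat_lit 2, nat_lit 3, nat_lit 4, nat_lit 1, nat_lit 2, nat_lit 3, nat_lit 8, nat_lit 0, nat_lit 1, nat_lit 2, nat_lit 3, nat_lit 4, nat_lit 5, nat_lit 1, nat_lit 2, nat_lit 0, nat_lit 1, nat_lit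 3, nat_lit 2, nat_lit 8, nat_lit 3, nat_lit 8, nat_lit 10, nat_lit 8, nat_lit 16, nat_lit 15, nat_lit 14, nat_lit 13, nat_lit 19] (Rl.t1 (nat_lit 1504) (nat_lit 1513)))))) (FT.node (nat_lit 1516) (FT.leaf (Fct.mk false (nat_lit 30) (nat_lit 0) (nat_lit 30) [nat_lit 3] (Rl.rel (nat_lit 0) [nat_lit 3, nat_lit 8, nat_lit 2, nat_lit 3, nat_lit 4, nat_lit 5, nat_lit 3, nat_lit 2, nat_lit 1, nat_lit 4, nat_lit 3, nat_lit 2, nat_lit 0, nat_lit 1, nat_lit 9, nat_lit 4, nat_lit 3, nat_lit 2, nat_lit 8, nat_lit 3, nat_lit 1, nat_lit 0, nat_lit 2, nat_lit 12, nat_lit 15, nat_lit 12, nat_lit 18] (nat_lit 30) (nat_lit 3) [nat_lit 1500, nat_lit 1501, nat_lit 400, nat_lit 237, nat_lit 409, nat_lit 1503] []))) (FT.node (nat_lit 1517) (FT.leaf (Fct.mk false (nat_lit 2) (nat_lit 0) (nat_lit 2) [nat_lit 4, nat_lit 3, nat_lit 2, nat_lit 1, nat_lit 8, nat_lit 3,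 nat_lit 2, nat_lit 0, nat_lit 1, nat_lit 4, nat_lit 3, nat_lit 2, nat_lit 8, nat_lit 3, nat_lit 2, nat_lit 8, nat_lit 10, nat_lit 1, nat_lit 8, nat_lit 12, nat_lit 15, nat_lit 14, nat_lit 18] (Rl.cmp (nat_lit 300) (nat_lit 84)))) (FT.leaf (Fct.mk false (nat_lit 2) (nat_lit 0) (nat_lit 2) [nat_lit 2, nat_lit 1, nat_lit 3, nat_lit 2, nat_lit 0, nat_lit 1, nat_lit 4, nat_lit 3, nat_lit 2, nat_lit 8, nat_lit 3, nat_lit 2, nat_lit 10, nat_lit 1, nat_lit 8, nat_lit 12, nat_lit 15, nat_lit 14] (Rl.cmp (nat_lit 173) (nat_lit 1516))))))) (FT.node (nat_lit 1521) (FT.node (nat_lit 1519) (FT.leaf (Fct.mk false (nat_lit 2) (nat_lit 0) (nat_lit 2) [nat_lit 6, nat_lit 8, nat_lit 10, nat_lit 18] (Rl.cmp (nat_lit 168) (nat_lit 86)))) (FT.node (nat_lit 1520) (FT.leaf (Fct.mk true (nat_lit 9) (nat_lit 352) (nat_lit 30) [nat_lit 5, nat_lit 6, nat_lit 4, nat_lit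 5, nat_lit 3, nat_lit 4, nat_lit 1, nat_lit 2, nat_lit 3, nat_lit 8, nat_lit 0, nat_lit 1, nat_lit 2, nat_lit 3, nat_lit 4, nat_lit 5, nat_lit 2, nat_lit 0, nat_lit 1, nat_lit 4, nat_lit 3, nat_lit 2, nat_lit 8, nat_lit 3, nat_lit 1, nat_lit 0, nat_lit 2, nat_lit 16, nat_lit 14, nat_lit 13, nat_lit 18] (Rl.rel (nat_lit 0) [nat_lit 8, nat_lit 5, nat_lit 3, nat_lit 4, nat_lit 2, nat_lit 3, nat_lit 8, nat_lit 1, nat_lit 2, nat_lit 3, nat_lit 4, nat_lit 5, nat_lit 2, nat_lit 1, nat_lit 8, nat_lit 3, nat_lit 2, nat_lit 0, nat_lit 1, nat_lit 9, nat_lit 4, nat_lit 3, nat_lit 2, nat_lit 8, nat_lit 3, nat_lit 8, nat_lit 16, nat_lit 15, nat_lit 14, nat_lit 13, nat_lit 12, nat_lit 18] (nat_lit 30) (nat_lit 2) [nat_lit 1500, nat_lit 1501, nat_lit 707, nat_lit 1346] []))) (FT.leaf (Fct.mk true (nat_lit 30) (nat_lit 8366) (nat_lit 9) [nat_lit 5, nat_lit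 4, nat_lit 3, nat_lit 8, nat_lit 1, nat_lit 2, nat_lit 3, nat_lit 4, nat_lit 5, nat_lit 1, nat_lit 2, nat_lit 0, nat_lit 1, nat_lit 3, nat_lit 2, nat_lit 8, nat_lit 3, nat_lit 10, nat_lit 1, nat_lit 12, nat_lit 15, nat_lit 17, nat_lit 12, nat_lit 18, nat_lit 16] (Rl.inv (nat_lit 1519)))))) (FT.node (nat_lit 1523) (FT.node (nat_lit 1522) (FT.leaf (Fct.mk true (nat_lit 30) (nat_lit 24) (nat_lit 9) [nat_lit 6, nat_lit 3, nat_lit 2, nat_lit 1, nat_lit 8, nat_lit 3, nat_lit 2, nat_lit 0, nat_lit 1, nat_lit 4, nat_lit 3, nat_lit 2, nat_lit 8, nat_lit 3, nat_lit 11, nat_lit 1, nat_lit 12, nat_lit 15, nat_lit 17, nat_lit 12, nat_lit 19] (Rl.t1 (nat_lit 1520) (nat_lit 1500)))) (FT.leaf (Fct.mk true (nat_lit 26) (nat_lit 3758) (nat_lit 30) [nat_lit 1, nat_lit 2, nat_lit 3, nat_lit 4, nat_lit 5, nat_lit 1, nat_lit 2, nat_lit 0, nat_lit 1, nat_lit 9, nat_lit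 4, nat_lit 3, nat_lit 2, nat_lit 8, nat_lit 3, nat_lit 1, nat_lit 0, nat_lit 2, nat_lit 16, nat_lit 12, nat_lit 15, nat_lit 14, nat_lit 13, nat_lit 18] (Rl.rel (nat_lit 0) [nat_lit 8, nat_lit 3, nat_lit 4, nat_lit 5, nat_lit 2, nat_lit 1, nat_lit 3, nat_lit 2, nat_lit 8, nat_lit 3, nat_lit 10, nat_lit 0, nat_lit 12, nat_lit 15, nat_lit 14] (nat_lit 30) (nat_lit 2) [nat_lit 1521, nat_lit 1168, nat_lit 1317] [])))) (FT.node (nat_lit 1524) (FT.leaf (Fct.mk true (nat_lit 26) (nat_lit 3282) (nat_lit 30) [nat_lit 8, nat_lit 1, nat_lit 2, nat_lit 3, nat_lit 4, nat_lit 5, nat_lit 0, nat_lit 1, nat_lit 4, nat_lit 3, nat_lit 2, nat_lit 8, nat_lit 3, nat_lit 1, nat_lit 0, nat_lit 2, nat_lit 8, nat_lit 16, nat_lit 14, nat_lit 8, nat_lit 16] (Rl.t1 (nat_lit 1522) (nat_lit 1309)))) (FT.leaf (Fct.mk true (nat_lit 30) (nat_lit 131) (nat_lit 26) [nat_lit 4,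 nat_lit 3, nat_lit 8, nat_lit 2, nat_lit 3, nat_lit 4, nat_lit 1, nat_lit 2, nat_lit 3, nat_lit 8, nat_lit 0, nat_lit 1, nat_lit 2, nat_lit 3, nat_lit 4, nat_lit 5, nat_lit 1, nat_lit 8, nat_lit 3, nat_lit 2, nat_lit 0, nat_lit 1, nat_lit 9, nat_lit 4, nat_lit 3, nat_lit 2, nat_lit 8, nat_lit 3, nat_lit 2, nat_lit 10, nat_lit 1, nat_lit 8, nat_lit 16, nat_lit 14, nat_lit 13, nat_lit 12, nat_lit 18, nat_lit 16] (Rl.inv (nat_lit 1523))))))))) (FT.node (nat_lit 1537) (FT.node (nat_lit 1531) (FT.node (nat_lit 1528) (FT.node (nat_lit 1526) (FT.leaf (Fct.mk true (nat_lit 29) (nat_lit 636) (nat_lit 30) [nat_lit 6, nat_lit 5, nat_lit 4, nat_lit 3, nat_lit 8, nat_lit 1, nat_lit 2, nat_lit 3, nat_lit 4, nat_lit 5, nat_lit 3, nat_lit 8, nat_lit 4, nat_lit 3, nat_lit 2, nat_lit 0, nat_lit 1, nat_lit 9, nat_lit 4, nat_lit 3, nat_lit 2, nat_lit 8, nat_lit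 3, nat_lit 2, nat_lit 8, nat_lit 12, nat_lit 15, nat_lit 17, nat_lit 12] (Rl.rel (nat_lit 0) [nat_lit 8, nat_lit 3, nat_lit 4, nat_lit 5, nat_lit 2, nat_lit 1, nat_lit 4, nat_lit 3, nat_lit 2, nat_lit 8, nat_lit 3, nat_lit 8, nat_lit 10, nat_lit 0, nat_lit 8, nat_lit 12, nat_lit 15, nat_lit 14] (nat_lit 30) (nat_lit 2) [nat_lit 1521, nat_lit 661, nat_lit 1435] []))) (FT.node (nat_lit 1527) (FT.leaf (Fct.mk true (nat_lit 29) (nat_lit 18) (nat_lit 30) [nat_lit 2, nat_lit 1, nat_lit 3, nat_lit 2, nat_lit 0, nat_lit 1, nat_lit 4, nat_lit 3, nat_lit 2, nat_lit 8, nat_lit 3, nat_lit 10, nat_lit 8, nat_lit 12, nat_lit 15, nat_lit 14, nat_lit 12] (Rl.t1 (nat_lit 1525) (nat_lit 1465)))) (FT.leaf (Fct.mk true (nat_lit 30) (nat_lit 133) (nat_lit 29) [nat_lit 1, nat_lit 3, nat_lit 2, nat_lit 0, nat_lit 1, nat_lit 4, nat_lit 3, nat_lit 2, nat_lit 8, nat_lit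 3, nat_lit 10, nat_lit 1, nat_lit 8, nat_lit 12, nat_lit 15, nat_lit 14, nat_lit 12] (Rl.inv (nat_lit 1526)))))) (FT.node (nat_lit 1529) (FT.leaf (Fct.mk true (nat_lit 30) (nat_lit 91) (nat_lit 29) [nat_lit 1, nat_lit 2, nat_lit 0, nat_lit 1, nat_lit 4, nat_lit 3, nat_lit 2, nat_lit 8, nat_lit 3, nat_lit 10, nat_lit 1, nat_lit 8, nat_lit 12, nat_lit 15, nat_lit 14, nat_lit 12] (Rl.t1 (nat_lit 1527) (nat_lit 1515)))) (FT.node (nat_lit 1530) (FT.leaf (Fct.mk true (nat_lit 12) (nat_lit 38292) (nat_lit 30) [nat_lit 8, nat_lit 2, nat_lit 3, nat_lit 4, nat_lit 5, nat_lit 1, nat_lit 8, nat_lit 3, nat_lit 2, nat_lit 0, nat_lit 1, nat_lit 4, nat_lit 3, nat_lit 2, nat_lit 8, nat_lit 3, nat_lit 11, nat_lit 1, nat_lit 8, nat_lit 12, nat_lit 15, nat_lit 14, nat_lit 18] (Rl.rel (nat_lit 0) [nat_lit 8, nat_lit 2, nat_lit 3, nat_lit 4, nat_lit 5, nat_lit 2,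 nat_lit 1, nat_lit 3, nat_lit 2, nat_lit 0, nat_lit 1, nat_lit 9, nat_lit 4, nat_lit 3, nat_lit 2, nat_lit 8, nat_lit 3, nat_lit 8, nat_lit 10, nat_lit 8, nat_lit 12, nat_lit 15, nat_lit 14, nat_lit 17] (nat_lit 30) (nat_lit 2) [nat_lit 1521, nat_lit 775] []))) (FT.leaf (Fct.mk true (nat_lit 12) (nat_lit 15523) (nat_lit 30) [nat_lit 8, nat_lit 2, nat_lit 3, nat_lit 4, nat_lit 5, nat_lit 1, nat_lit 3, nat_lit 2, nat_lit 0, nat_lit 1, nat_lit 4, nat_lit 3, nat_lit 2, nat_lit 8, nat_lit 3, nat_lit 1, nat_lit 0, nat_lit 2, nat_lit 8, nat_lit 16, nat_lit 15, nat_lit 14, nat_lit 13, nat_lit 18] (Rl.t1 (nat_lit 1529) (nat_lit 788))))))) (FT.node (nat_lit 1534) (FT.node (nat_lit 1532) (FT.leaf (Fct.mk true (nat_lit 30) (nat_lit 118) (nat_lit 12) [nat_lit 4, nat_lit 3, nat_lit 8, nat_lit 2, nat_lit 3, nat_lit 4, nat_lit 1, nat_lit 2, nat_lit 3, nat_lit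 8, nat_lit 0, nat_lit 1, nat_lit 2, nat_lit 3, nat_lit 4, nat_lit 5, nat_lit 1, nat_lit 2, nat_lit 0, nat_lit 1, nat_lit 3, nat_lit 2, nat_lit 8, nat_lit 3, nat_lit 11, nat_lit 2, nat_lit 10, nat_lit 1, nat_lit 15, nat_lit 17] (Rl.inv (nat_lit 1530)))) (FT.node (nat_lit 1533) (FT.leaf (Fct.mk true (nat_lit 23) (nat_lit 1590) (nat_lit 30) [nat_lit 1, nat_lit 2, nat_lit 3, nat_lit 8, nat_lit 0, nat_lit 1, nat_lit 2, nat_lit 3, nat_lit 4, nat_lit 5, nat_lit 0, nat_lit 1, nat_lit 4, nat_lit 3, nat_lit 2, nat_lit 8, nat_lit 3, nat_lit 16, nat_lit 15, nat_lit 14, nat_lit 16, nat_lit 8, nat_lit 18, nat_lit 16] (Rl.rel (nat_lit 0) [nat_lit 8, nat_lit 4, nat_lit 5, nat_lit 2, nat_lit 3, nat_lit 4, nat_lit 1, nat_lit 2, nat_lit 3, nat_lit 8, nat_lit 0, nat_lit 1, nat_lit 2, nat_lit 3, nat_lit 4, nat_lit 5, nat_lit 3, nat_lit 2, nat_lit 1, nat_lit 8,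 nat_lit 3, nat_lit 2, nat_lit 0, nat_lit 1, nat_lit 4, nat_lit 3, nat_lit 2, nat_lit 8, nat_lit 3, nat_lit 8, nat_lit 10, nat_lit 8, nat_lit 12, nat_lit 15, nat_lit 14, nat_lit 12] (nat_lit 30) (nat_lit 2) [nat_lit 1528, nat_lit 1481, nat_lit 1475] []))) (FT.leaf (Fct.mk true (nat_lit 23) (nat_lit 1587) (nat_lit 30) [nat_lit 1, nat_lit 2, nat_lit 3, nat_lit 8, nat_lit 0, nat_lit 1, nat_lit 2, nat_lit 3, nat_lit 4, nat_lit 5, nat_lit 1, nat_lit 4, nat_lit 3, nat_lit 2, nat_lit 8, nat_lit 3, nat_lit 0, nat_lit 2, nat_lit 16, nat_lit 15, nat_lit 14, nat_lit 16, nat_lit 8, nat_lit 18, nat_lit 16] (Rl.t1 (nat_lit 1532) (nat_lit 1079)))))) (FT.node (nat_lit 1535) (FT.leaf (Fct.mk true (nat_lit 30) (nat_lit 129) (nat_lit 23) [nat_lit 2, nat_lit 3, nat_lit 4, nat_lit 1, nat_lit 2, nat_lit 3, nat_lit 8, nat_lit 0, nat_lit 1, nat_lit 2, nat_lit 3, nat_lit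 4, nat_lit 5, nat_lit 4, nat_lit 3, nat_lit 2, nat_lit 8, nat_lit 3, nat_lit 10, nat_lit 9, nat_lit 2, nat_lit 12, nat_lit 15, nat_lit 14, nat_lit 19] (Rl.inv (nat_lit 1533)))) (FT.node (nat_lit 1536) (FT.leaf (Fct.mk true (nat_lit 5) (nat_lit 12391) (nat_lit 30) [nat_lit 8, nat_lit 3, nat_lit 4, nat_lit 1, nat_lit 2, nat_lit 3, nat_lit 8, nat_lit 0, nat_lit 1, nat_lit 2, nat_lit 3, nat_lit 4, nat_lit 5, nat_lit 1, nat_lit 3, nat_lit 2, nat_lit 0, nat_lit 1, nat_lit 9, nat_lit 4, nat_lit 3, nat_lit 2, nat_lit 8, nat_lit 3, nat_lit 1, nat_lit 0, nat_lit 2, nat_lit 16, nat_lit 15, nat_lit 14, nat_lit 13, nat_lit 12, nat_lit 18] (Rl.rel (nat_lit 0) [nat_lit 3, nat_lit 8, nat_lit 2, nat_lit 3, nat_lit 4, nat_lit 5, nat_lit 2, nat_lit 3, nat_lit 8, nat_lit 4, nat_lit 3, nat_lit 2, nat_lit 1, nat_lit 9, nat_lit 4, nat_lit 3, nat_lit 2, nat_lit 8,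 nat_lit 3, nat_lit 10, nat_lit 0, nat_lit 14] (nat_lit 30) (nat_lit 2) [nat_lit 1524, nat_lit 1323] []))) (FT.leaf (Fct.mk true (nat_lit 30) (nat_lit 39556) (nat_lit 5) [nat_lit 6, nat_lit 5, nat_lit 4, nat_lit 3, nat_lit 8, nat_lit 1, nat_lit 2, nat_lit 3, nat_lit 4, nat_lit 5, nat_lit 3, nat_lit 8, nat_lit 4, nat_lit 3, nat_lit 2, nat_lit 1, nat_lit 9, nat_lit 4, nat_lit 3, nat_lit 2, nat_lit 8, nat_lit 3, nat_lit 11, nat_lit 9, nat_lit 10, nat_lit 2, nat_lit 8, nat_lit 10, nat_lit 1, nat_lit 8, nat_lit 12, nat_lit 15, nat_lit 13, nat_lit 18, nat_lit 16] (Rl.inv (nat_lit 1535)))))))) (FT.node (nat_lit 1543) (FT.node (nat_lit 1540) (FT.node (nat_lit 1538) (FT.leaf (Fct.mk true (nat_lit 5) (nat_lit 3280) (nat_lit 30) [nat_lit 3, nat_lit 4, nat_lit 2, nat_lit 3, nat_lit 8, nat_lit 1, nat_lit 2, nat_lit 3, nat_lit 4, nat_lit 5, nat_lit 3, nat_lit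 2, nat_lit 1, nat_lit 9, nat_lit 4, nat_lit 3, nat_lit 2, nat_lit 8, nat_lit 3, nat_lit 11, nat_lit 2, nat_lit 8, nat_lit 10, nat_lit 1, nat_lit 12, nat_lit 15, nat_lit 14, nat_lit 18] (Rl.rel (nat_lit 0) [nat_lit 8, nat_lit 3, nat_lit 4, nat_lit 2, nat_lit 3, nat_lit 8, nat_lit 1, nat_lit 2, nat_lit 3, nat_lit 4, nat_lit 5, nat_lit 2, nat_lit 3, nat_lit 8, nat_lit 4, nat_lit 3, nat_lit 2, nat_lit 1, nat_lit 9, nat_lit 4, nat_lit 3, nat_lit 2, nat_lit 8, nat_lit 3, nat_lit 1, nat_lit 0, nat_lit 2, nat_lit 15, nat_lit 14, nat_lit 12] (nat_lit 30) (nat_lit 2) [nat_lit 1536, nat_lit 516, nat_lit 505] []))) (FT.node (nat_lit 1539) (FT.leaf (Fct.mk true (nat_lit 5) (nat_lit 468) (nat_lit 30) [nat_lit 6, nat_lit 4, nat_lit 5, nat_lit 3, nat_lit 4, nat_lit 1, nat_lit 2, nat_lit 3, nat_lit 8, nat_lit 0, nat_lit 1, nat_lit 2, nat_lit 3, nat_lit 4, nat_lit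 5, nat_lit 8, nat_lit 3, nat_lit 2, nat_lit 0, nat_lit 1, nat_lit 9, nat_lit 4, nat_lit 3, nat_lit 2, nat_lit 8, nat_lit 3, nat_lit 11, nat_lit 8, nat_lit 10, nat_lit 1, nat_lit 16, nat_lit 12, nat_lit 15, nat_lit 14, nat_lit 18] (Rl.t1 (nat_lit 1537) (nat_lit 532)))) (FT.leaf (Fct.mk false (nat_lit 30) (nat_lit 0) (nat_lit 30) [nat_lit 6] (Rl.cmp (nat_lit 1507) (nat_lit 1500)))))) (FT.node (nat_lit 1541) (FT.leaf (Fct.mk true (nat_lit 30) (nat_lit 39573) (nat_lit 30) [nat_lit 4, nat_lit 2, nat_lit 3, nat_lit 8, nat_lit 0, nat_lit 1, nat_lit 2, nat_lit 3, nat_lit 4, nat_lit 5, nat_lit 1, nat_lit 4, nat_lit 3, nat_lit 2, nat_lit 8, nat_lit 3, nat_lit 10, nat_lit 9, nat_lit 2, nat_lit 16, nat_lit 14, nat_lit 13, nat_lit 12] (Rl.rel (nat_lit 0) [nat_lit 3, nat_lit 4, nat_lit 5, nat_lit 2, nat_lit 3, nat_lit 4, nat_lit 1, nat_lit 2, nat_lit 3,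 nat_lit 8, nat_lit 0, nat_lit 1, nat_lit 2, nat_lit 3, nat_lit 4, nat_lit 5, nat_lit 2, nat_lit 3, nat_lit 8, nat_lit 4, nat_lit 3, nat_lit 2, nat_lit 1, nat_lit 9, nat_lit 4, nat_lit 3, nat_lit 2, nat_lit 8, nat_lit 3, nat_lit 9, nat_lit 10, nat_lit 2, nat_lit 8, nat_lit 10, nat_lit 1, nat_lit 8, nat_lit 16, nat_lit 14, nat_lit 13, nat_lit 18] (nat_lit 30) (nat_lit 2) [nat_lit 1536, nat_lit 529, nat_lit 1538] []))) (FT.node (nat_lit 1542) (FT.leaf (Fct.mk true (nat_lit 30) (nat_lit 39567) (nat_lit 30) [nat_lit 4, nat_lit 2, nat_lit 3, nat_lit 8, nat_lit 0, nat_lit 1, nat_lit 2, nat_lit 3, nat_lit 4, nat_lit 5, nat_lit 1, nat_lit 9, nat_lit 4, nat_lit 3, nat_lit 2, nat_lit 8, nat_lit 3, nat_lit 10, nat_lit 9, nat_lit 2, nat_lit 16, nat_lit 14, nat_lit 13, nat_lit 12] (Rl.t1 (nat_lit 1540) (nat_lit 1539)))) (FT.leaf (Fct.mk false (nat_lit 30)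 (nat_lit 0) (nat_lit 30) [nat_lit 6] (Rl.cmp (nat_lit 1507) (nat_lit 1500))))))) (FT.node (nat_lit 1546) (FT.node (nat_lit 1544) (FT.leaf (Fct.mk true (nat_lit 13) (nat_lit 102) (nat_lit 30) [nat_lit 6, nat_lit 4, nat_lit 5, nat_lit 2, nat_lit 3, nat_lit 4, nat_lit 1, nat_lit 2, nat_lit 3, nat_lit 8, nat_lit 0, nat_lit 1, nat_lit 2, nat_lit 3, nat_lit 4, nat_lit 5, nat_lit 2, nat_lit 1, nat_lit 4, nat_lit 3, nat_lit 2, nat_lit 0, nat_lit 1, nat_lit 9, nat_lit 4, nat_lit 3, nat_lit 2, nat_lit 8, nat_lit 3, nat_lit 11, nat_lit 10, nat_lit 2, nat_lit 8, nat_lit 10, nat_lit 1, nat_lit 8, nat_lit 16, nat_lit 14, nat_lit 17, nat_lit 18, nat_lit 16] (Rl.rel (nat_lit 0) [nat_lit 3, nat_lit 8, nat_lit 2, nat_lit 3, nat_lit 4, nat_lit 5, nat_lit 1, nat_lit 8, nat_lit 4, nat_lit 3, nat_lit 2, nat_lit 0, nat_lit 1, nat_lit 9, nat_lit 4, nat_lit 3, nat_lit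 2, nat_lit 8, nat_lit 3, nat_lit 1, nat_lit 9, nat_lit 16, nat_lit 14, nat_lit 13, nat_lit 12] (nat_lit 30) (nat_lit 2) [nat_lit 1514, nat_lit 1163] []))) (FT.node (nat_lit 1545) (FT.leaf (Fct.mk true (nat_lit 13) (nat_lit 101) (nat_lit 30) [nat_lit 4, nat_lit 3, nat_lit 8, nat_lit 2, nat_lit 3, nat_lit 4, nat_lit 1, nat_lit 2, nat_lit 3, nat_lit 8, nat_lit 0, nat_lit 1, nat_lit 2, nat_lit 3, nat_lit 4, nat_lit 5, nat_lit 8, nat_lit 3, nat_lit 2, nat_lit 0, nat_lit 1, nat_lit 4, nat_lit 3, nat_lit 2, nat_lit 8, nat_lit 3, nat_lit 8, nat_lit 10, nat_lit 1, nat_lit 15, nat_lit 13, nat_lit 12, nat_lit 18] (Rl.t1 (nat_lit 1543) (nat_lit 821)))) (FT.leaf (Fct.mk true (nat_lit 30) (nat_lit 10215) (nat_lit 13) [nat_lit 2, nat_lit 3, nat_lit 8, nat_lit 0, nat_lit 1, nat_lit 2, nat_lit 3, nat_lit 4, nat_lit 5, nat_lit 8, nat_lit 3, nat_lit 2, nat_lit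 1, nat_lit 4, nat_lit 3, nat_lit 2, nat_lit 8, nat_lit 3, nat_lit 11, nat_lit 8, nat_lit 10, nat_lit 1, nat_lit 12, nat_lit 15, nat_lit 14, nat_lit 12, nat_lit 19, nat_lit 16] (Rl.inv (nat_lit 1544)))))) (FT.node (nat_lit 1548) (FT.node (nat_lit 1547) (FT.leaf (Fct.mk true (nat_lit 30) (nat_lit 10143) (nat_lit 13) [nat_lit 2, nat_lit 3, nat_lit 8, nat_lit 0, nat_lit 1, nat_lit 2, nat_lit 3, nat_lit 4, nat_lit 5, nat_lit 8, nat_lit 3, nat_lit 2, nat_lit 1, nat_lit 4, nat_lit 3, nat_lit 2, nat_lit 8, nat_lit 3, nat_lit 11, nat_lit 10, nat_lit 1, nat_lit 12, nat_lit 15, nat_lit 14, nat_lit 12, nat_lit 19, nat_lit 16] (Rl.t1 (nat_lit 1545) (nat_lit 1515)))) (FT.leaf (Fct.mk false (nat_lit 30) (nat_lit 0) (nat_lit 30) [nat_lit 6, nat_lit 5, nat_lit 4, nat_lit 3, nat_lit 8, nat_lit 1, nat_lit 2, nat_lit 3, nat_lit 4, nat_lit 5, nat_lit 4, nat_lit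 10, nat_lit 1, nat_lit 16, nat_lit 14, nat_lit 8, nat_lit 16] (Rl.cmp (nat_lit 1515) (nat_lit 1500))))) (FT.node (nat_lit 1549) (FT.leaf (Fct.mk true (nat_lit 2) (nat_lit 434) (nat_lit 31) [] (Rl.df))) (FT.leaf (Fct.mk true (nat_lit 31) (nat_lit 434) (nat_lit 2) [] (Rl.inv (nat_lit 1548)))))))))

/-- some facts -/
noncomputable def ftc31 : FT := FT.node (nat_lit 1575) (FT.node (nat_lit 1562) (FT.node (nat_lit 1556) (FT.node (nat_lit 1553) (FT.node (nat_lit 1551) (FT.leaf (Fct.mk false (nat_lit 2) (nat_lit 0) (nat_lit 2) [nat_lit 6, nat_lit 2, nat_lit 1, nat_lit 3, nat_lit 2, nat_lit 0, nat_lit 1, nat_lit 4, nat_lit 3, nat_lit 2, nat_lit 8, nat_lit 3, nat_lit 8, nat_lit 10, nat_lit 0, nat_lit 8, nat_lit 12, nat_lit 15, nat_lit 14, nat_lit 12] (Rl.cmp (nat_lit 168) (nat_lit 378)))) (FT.node (nat_lit 1552) (FT.leaf (Fct.mk true (nat_lit 31) (nat_lit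 5916) (nat_lit 31) [nat_lit 5, nat_lit 3, nat_lit 4, nat_lit 1, nat_lit 2, nat_lit 3, nat_lit 8, nat_lit 0, nat_lit 1, nat_lit 2, nat_lit 3, nat_lit 4, nat_lit 5, nat_lit 3, nat_lit 2, nat_lit 8, nat_lit 3, nat_lit 2, nat_lit 10, nat_lit 1, nat_lit 12, nat_lit 15, nat_lit 17, nat_lit 12, nat_lit 16] (Rl.rel (nat_lit 0) [nat_lit 3, nat_lit 4, nat_lit 2, nat_lit 3, nat_lit 8, nat_lit 1, nat_lit 2, nat_lit 3, nat_lit 4, nat_lit 5, nat_lit 2, nat_lit 3, nat_lit 11, nat_lit 8, nat_lit 10, nat_lit 1, nat_lit 8, nat_lit 16, nat_lit 15, nat_lit 14, nat_lit 13, nat_lit 16] (nat_lit 31) (nat_lit 2) [nat_lit 1549, nat_lit 1550, nat_lit 1548] []))) (FT.leaf (Fct.mk false (nat_lit 2) (nat_lit 0) (nat_lit 2) [nat_lit 6, nat_lit 1, nat_lit 2, nat_lit 0, nat_lit 1, nat_lit 3, nat_lit 2, nat_lit 8, nat_lit 3, nat_lit 8, nat_lit 10, nat_lit 0, nat_lit 8, nat_lit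 12, nat_lit 15, nat_lit 14, nat_lit 12] (Rl.cmp (nat_lit 300) (nat_lit 388)))))) (FT.node (nat_lit 1554) (FT.leaf (Fct.mk false (nat_lit 31) (nat_lit 0) (nat_lit 31) [nat_lit 10] (Rl.rel (nat_lit 0) [nat_lit 3, nat_lit 4, nat_lit 2, nat_lit 3, nat_lit 8, nat_lit 1, nat_lit 2, nat_lit 3, nat_lit 4, nat_lit 5, nat_lit 11, nat_lit 2, nat_lit 8, nat_lit 10, nat_lit 1, nat_lit 8, nat_lit 16, nat_lit 15, nat_lit 14, nat_lit 13, nat_lit 16] (nat_lit 31) (nat_lit 2) [nat_lit 1549, nat_lit 1552, nat_lit 1548] [nat_lit 1551]))) (FT.node (nat_lit 1555) (FT.leaf (Fct.mk false (nat_lit 31) (nat_lit 0) (nat_lit 31) [] (Rl.cmp (nat_lit 1553) (nat_lit 1553)))) (FT.leaf (Fct.mk false (nat_lit 31) (nat_lit 0) (nat_lit 31) [nat_lit 10] (Rl.cmp (nat_lit 1554) (nat_lit 1553))))))) (FT.node (nat_lit 1559) (FT.node (nat_lit 1557) (FT.leaf (Fct.mk false (nat_lit 31)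 (nat_lit 0) (nat_lit 31) [] (Rl.cmp (nat_lit 1555) (nat_lit 1553)))) (FT.node (nat_lit 1558) (FT.leaf (Fct.mk false (nat_lit 31) (nat_lit 0) (nat_lit 31) [nat_lit 10] (Rl.cmp (nat_lit 1556) (nat_lit 1553)))) (FT.leaf (Fct.mk false (nat_lit 31) (nat_lit 0) (nat_lit 31) [nat_lit 3] (Rl.sk (nat_lit 1551) (nat_lit 1557)))))) (FT.node (nat_lit 1560) (FT.leaf (Fct.mk false (nat_lit 2) (nat_lit 0) (nat_lit 2) [nat_lit 6, nat_lit 4, nat_lit 2, nat_lit 12, nat_lit 18] (Rl.cmp (nat_lit 87) (nat_lit 379)))) (FT.node (nat_lit 1561) (FT.leaf (Fct.mk true (nat_lit 25) (nat_lit 5343) (nat_lit 31) [nat_lit 8, nat_lit 2, nat_lit 3, nat_lit 4, nat_lit 5, nat_lit 8, nat_lit 3, nat_lit 8, nat_lit 10, nat_lit 16] (Rl.rel (nat_lit 0) [nat_lit 3, nat_lit 4, nat_lit 2, nat_lit 3, nat_lit 8, nat_lit 1, nat_lit 2, nat_lit 3, nat_lit 4, nat_lit 5, nat_lit 1, nat_lit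 2, nat_lit 3, nat_lit 11, nat_lit 2, nat_lit 8, nat_lit 10, nat_lit 1, nat_lit 8, nat_lit 16, nat_lit 15, nat_lit 14, nat_lit 8, nat_lit 19, nat_lit 16] (nat_lit 31) (nat_lit 2) [nat_lit 1549, nat_lit 1559, nat_lit 1225] []))) (FT.leaf (Fct.mk true (nat_lit 25) (nat_lit 828) (nat_lit 31) [nat_lit 1, nat_lit 2, nat_lit 3, nat_lit 8, nat_lit 5, nat_lit 6, nat_lit 4, nat_lit 5, nat_lit 3, nat_lit 4, nat_lit 2, nat_lit 3, nat_lit 8, nat_lit 1, nat_lit 2, nat_lit 3, nat_lit 4, nat_lit 5, nat_lit 3, nat_lit 2, nat_lit 1, nat_lit 4, nat_lit 3, nat_lit 2, nat_lit 0, nat_lit 1, nat_lit 9, nat_lit 4, nat_lit 3, nat_lit 2, nat_lit 8, nat_lit 3, nat_lit 11, nat_lit 8, nat_lit 10, nat_lit 1, nat_lit 12, nat_lit 8, nat_lit 16, nat_lit 14, nat_lit 13, nat_lit 12] (Rl.t1 (nat_lit 1560) (nat_lit 1247)))))))) (FT.node (nat_lit 1568) (FT.node (nat_lit 1565) (FT.node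 (nat_lit 1563) (FT.leaf (Fct.mk true (nat_lit 31) (nat_lit 178) (nat_lit 25) [nat_lit 5, nat_lit 4, nat_lit 1, nat_lit 2, nat_lit 3, nat_lit 8, nat_lit 0, nat_lit 1, nat_lit 2, nat_lit 3, nat_lit 4, nat_lit 5, nat_lit 2, nat_lit 0, nat_lit 1, nat_lit 4, nat_lit 3, nat_lit 2, nat_lit 8, nat_lit 3, nat_lit 11, nat_lit 8, nat_lit 10, nat_lit 1, nat_lit 12, nat_lit 15, nat_lit 16, nat_lit 8] (Rl.inv (nat_lit 1561)))) (FT.node (nat_lit 1564) (FT.leaf (Fct.mk true (nat_lit 31) (nat_lit 68) (nat_lit 25) [nat_lit 5, nat_lit 3, nat_lit 4, nat_lit 1, nat_lit 2, nat_lit 3, nat_lit 8, nat_lit 0, nat_lit 1, nat_lit 2, nat_lit 3, nat_lit 4, nat_lit 5, nat_lit 2, nat_lit 0, nat_lit 1, nat_lit 4, nat_lit 3, nat_lit 2, nat_lit 8, nat_lit 3, nat_lit 11, nat_lit 8, nat_lit 10, nat_lit 1, nat_lit 12, nat_lit 15, nat_lit 16, nat_lit 8] (Rl.t1 (nat_lit 1562) (nat_lit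 1558)))) (FT.leaf (Fct.mk false (nat_lit 2) (nat_lit 0) (nat_lit 2) [nat_lit 6, nat_lit 4, nat_lit 3, nat_lit 2, nat_lit 8, nat_lit 3, nat_lit 12, nat_lit 18] (Rl.cmp (nat_lit 87) (nat_lit 1518)))))) (FT.node (nat_lit 1566) (FT.leaf (Fct.mk true (nat_lit 9) (nat_lit 391) (nat_lit 31) [nat_lit 6, nat_lit 4, nat_lit 5, nat_lit 3, nat_lit 4, nat_lit 2, nat_lit 3, nat_lit 8, nat_lit 0, nat_lit 1, nat_lit 2, nat_lit 3, nat_lit 4, nat_lit 5, nat_lit 2, nat_lit 0, nat_lit 1, nat_lit 4, nat_lit 3, nat_lit 2, nat_lit 8, nat_lit 3, nat_lit 9, nat_lit 2, nat_lit 12, nat_lit 15, nat_lit 14, nat_lit 13, nat_lit 12, nat_lit 19, nat_lit 16] (Rl.rel (nat_lit 0) [nat_lit 3, nat_lit 8, nat_lit 2, nat_lit 3, nat_lit 4, nat_lit 1, nat_lit 2, nat_lit 3, nat_lit 8, nat_lit 0, nat_lit 1, nat_lit 2, nat_lit 3, nat_lit 4, nat_lit 5, nat_lit 3, nat_lit 8, nat_lit 10,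 nat_lit 9, nat_lit 2, nat_lit 8, nat_lit 12, nat_lit 15, nat_lit 14, nat_lit 16] (nat_lit 31) (nat_lit 2) [nat_lit 1549, nat_lit 1564, nat_lit 1346] []))) (FT.node (nat_lit 1567) (FT.leaf (Fct.mk false (nat_lit 2) (nat_lit 0) (nat_lit 2) [nat_lit 2, nat_lit 1, nat_lit 3, nat_lit 2, nat_lit 0, nat_lit 1, nat_lit 4, nat_lit 3, nat_lit 2, nat_lit 8, nat_lit 3, nat_lit 10, nat_lit 0, nat_lit 8, nat_lit 12, nat_lit 15, nat_lit 14, nat_lit 12] (Rl.cmp (nat_lit 87) (nat_lit 1517)))) (FT.leaf (Fct.mk true (nat_lit 9) (nat_lit 510) (nat_lit 31) [nat_lit 5, nat_lit 4, nat_lit 3, nat_lit 8, nat_lit 2, nat_lit 3, nat_lit 4, nat_lit 1, nat_lit 2, nat_lit 3, nat_lit 8, nat_lit 5, nat_lit 6, nat_lit 4, nat_lit 5, nat_lit 3, nat_lit 4, nat_lit 2, nat_lit 3, nat_lit 8, nat_lit 1, nat_lit 2, nat_lit 3, nat_lit 4, nat_lit 5, nat_lit 1, nat_lit 8, nat_lit 4, nat_lit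 3, nat_lit 2, nat_lit 0, nat_lit 1, nat_lit 9, nat_lit 4, nat_lit 3, nat_lit 2, nat_lit 8, nat_lit 3, nat_lit 0, nat_lit 15, nat_lit 17, nat_lit 18, nat_lit 16] (Rl.rel (nat_lit 0) [nat_lit 4, nat_lit 5, nat_lit 2, nat_lit 3, nat_lit 4, nat_lit 1, nat_lit 2, nat_lit 3, nat_lit 8, nat_lit 0, nat_lit 1, nat_lit 2, nat_lit 3, nat_lit 4, nat_lit 5, nat_lit 1, nat_lit 8, nat_lit 3, nat_lit 2, nat_lit 0, nat_lit 1, nat_lit 4, nat_lit 3, nat_lit 2, nat_lit 8, nat_lit 3, nat_lit 9, nat_lit 2, nat_lit 8, nat_lit 12, nat_lit 15, nat_lit 14, nat_lit 17, nat_lit 12] (nat_lit 31) (nat_lit 2) [nat_lit 1549, nat_lit 1566, nat_lit 649] [])))))) (FT.node (nat_lit 1571) (FT.node (nat_lit 1569) (FT.leaf (Fct.mk true (nat_lit 9) (nat_lit 68) (nat_lit 31) [nat_lit 8, nat_lit 3, nat_lit 4, nat_lit 1, nat_lit 2, nat_lit 3, nat_lit 8, nat_lit 5, nat_lit 6, nat_lit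 4, nat_lit 5, nat_lit 3, nat_lit 4, nat_lit 2, nat_lit 3, nat_lit 8, nat_lit 1, nat_lit 2, nat_lit 3, nat_lit 4, nat_lit 5, nat_lit 3, nat_lit 10, nat_lit 2, nat_lit 8, nat_lit 10, nat_lit 1, nat_lit 16, nat_lit 12, nat_lit 15, nat_lit 14, nat_lit 17, nat_lit 16] (Rl.t1 (nat_lit 1567) (nat_lit 708)))) (FT.node (nat_lit 1570) (FT.leaf (Fct.mk true (nat_lit 31) (nat_lit 3269) (nat_lit 9) [nat_lit 4, nat_lit 2, nat_lit 3, nat_lit 8, nat_lit 5, nat_lit 6, nat_lit 4, nat_lit 5, nat_lit 3, nat_lit 4, nat_lit 2, nat_lit 3, nat_lit 8, nat_lit 0, nat_lit 1, nat_lit 2, nat_lit 3, nat_lit 4, nat_lit 5, nat_lit 1, nat_lit 8, nat_lit 3, nat_lit 2, nat_lit 0, nat_lit 1, nat_lit 4, nat_lit 3, nat_lit 2, nat_lit 8, nat_lit 3, nat_lit 9, nat_lit 10, nat_lit 2, nat_lit 8, nat_lit 10, nat_lit 1, nat_lit 15, nat_lit 17, nat_lit 12, nat_lit 16] (Rl.inv (nat_lit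 1568)))) (FT.leaf (Fct.mk false (nat_lit 2) (nat_lit 0) (nat_lit 2) [nat_lit 6, nat_lit 10, nat_lit 0] (Rl.cmp (nat_lit 168) (nat_lit 173)))))) (FT.node (nat_lit 1573) (FT.node (nat_lit 1572) (FT.leaf (Fct.mk true (nat_lit 30) (nat_lit 585) (nat_lit 31) [nat_lit 8, nat_lit 3, nat_lit 4, nat_lit 5, nat_lit 3, nat_lit 8, nat_lit 10, nat_lit 0, nat_lit 16, nat_lit 8] (Rl.rel (nat_lit 0) [nat_lit 4, nat_lit 5, nat_lit 2, nat_lit 3, nat_lit 4, nat_lit 1, nat_lit 2, nat_lit 3, nat_lit 8, nat_lit 0, nat_lit 1, nat_lit 2, nat_lit 3, nat_lit 4, nat_lit 5, nat_lit 2, nat_lit 1, nat_lit 8, nat_lit 3, nat_lit 2, nat_lit 0, nat_lit 1, nat_lit 4, nat_lit 3, nat_lit 2, nat_lit 8, nat_lit 3, nat_lit 9, nat_lit 2, nat_lit 8, nat_lit 12, nat_lit 15, nat_lit 14, nat_lit 13, nat_lit 12, nat_lit 18] (nat_lit 31) (nat_lit 2) [nat_lit 1549, nat_lit 1570, nat_lit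 1496] []))) (FT.leaf (Fct.mk true (nat_lit 30) (nat_lit 194) (nat_lit 31) [nat_lit 8, nat_lit 3, nat_lit 4, nat_lit 5, nat_lit 11, nat_lit 10, nat_lit 1, nat_lit 8, nat_lit 16, nat_lit 14, nat_lit 17, nat_lit 19, nat_lit 16] (Rl.t1 (nat_lit 1571) (nat_lit 1500))))) (FT.node (nat_lit 1574) (FT.leaf (Fct.mk false (nat_lit 31) (nat_lit 0) (nat_lit 31) [nat_lit 2, nat_lit 1, nat_lit 4, nat_lit 3, nat_lit 2, nat_lit 0, nat_lit 1, nat_lit 9, nat_lit 4, nat_lit 3, nat_lit 2, nat_lit 8, nat_lit 3, nat_lit 10, nat_lit 9, nat_lit 2, nat_lit 8, nat_lit 16, nat_lit 15, nat_lit 14, nat_lit 17, nat_lit 12] (Rl.rel (nat_lit 0) [nat_lit 3, nat_lit 8, nat_lit 4, nat_lit 5, nat_lit 3, nat_lit 4, nat_lit 2, nat_lit 3, nat_lit 8, nat_lit 1, nat_lit 2, nat_lit 3, nat_lit 4, nat_lit 5, nat_lit 1, nat_lit 4, nat_lit 3, nat_lit 2, nat_lit 8, nat_lit 3, nat_lit 11,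 nat_lit 2, nat_lit 8, nat_lit 10, nat_lit 1, nat_lit 8, nat_lit 16, nat_lit 15, nat_lit 14, nat_lit 8, nat_lit 19, nat_lit 16] (nat_lit 31) (nat_lit 3) [nat_lit 1549, nat_lit 382, nat_lit 372, nat_lit 390, nat_lit 1548] []))) (FT.leaf (Fct.mk false (nat_lit 31) (nat_lit 0) (nat_lit 31) [nat_lit 2, nat_lit 1, nat_lit 3, nat_lit 2, nat_lit 0, nat_lit 1, nat_lit 9, nat_lit 4, nat_lit 3, nat_lit 2, nat_lit 8, nat_lit 3, nat_lit 10, nat_lit 9, nat_lit 2, nat_lit 8, nat_lit 16, nat_lit 15, nat_lit 14, nat_lit 17, nat_lit 12] (Rl.cmp (nat_lit 1573) (nat_lit 1558))))))))) (FT.node (nat_lit 1587) (FT.node (nat_lit 1581) (FT.node (nat_lit 1578) (FT.node (nat_lit 1576) (FT.leaf (Fct.mk true (nat_lit 31) (nat_lit 157) (nat_lit 9) [nat_lit 5, nat_lit 4, nat_lit 2, nat_lit 3, nat_lit 8, nat_lit 1, nat_lit 2, nat_lit 3, nat_lit 4, nat_lit 5, nat_lit 1, nat_lit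 2, nat_lit 8, nat_lit 3, nat_lit 11, nat_lit 2, nat_lit 10, nat_lit 1, nat_lit 8, nat_lit 16, nat_lit 14, nat_lit 17, nat_lit 12, nat_lit 18] (Rl.t1 (nat_lit 1569) (nat_lit 1574)))) (FT.node (nat_lit 1577) (FT.leaf (Fct.mk true (nat_lit 4) (nat_lit 10167) (nat_lit 31) [nat_lit 5, nat_lit 4, nat_lit 3, nat_lit 8, nat_lit 2, nat_lit 3, nat_lit 4, nat_lit 1, nat_lit 2, nat_lit 3, nat_lit 8, nat_lit 5, nat_lit 6, nat_lit 4, nat_lit 5, nat_lit 3, nat_lit 4, nat_lit 2, nat_lit 3, nat_lit 8, nat_lit 1, nat_lit 2, nat_lit 3, nat_lit 4, nat_lit 5, nat_lit 3, nat_lit 8, nat_lit 4, nat_lit 3, nat_lit 2, nat_lit 0, nat_lit 1, nat_lit 9, nat_lit 4, nat_lit 3, nat_lit 2, nat_lit 8, nat_lit 3, nat_lit 11, nat_lit 10, nat_lit 8, nat_lit 16, nat_lit 15, nat_lit 14, nat_lit 16, nat_lit 8, nat_lit 18, nat_lit 16] (Rl.rel (nat_lit 0) [nat_lit 4, nat_lit 5, nat_lit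 2, nat_lit 3, nat_lit 4, nat_lit 1, nat_lit 2, nat_lit 3, nat_lit 8, nat_lit 0, nat_lit 1, nat_lit 2, nat_lit 3, nat_lit 4, nat_lit 5, nat_lit 8, nat_lit 3, nat_lit 2, nat_lit 0, nat_lit 1, nat_lit 4, nat_lit 3, nat_lit 2, nat_lit 8, nat_lit 3, nat_lit 9, nat_lit 8, nat_lit 12, nat_lit 15, nat_lit 14, nat_lit 12] (nat_lit 31) (nat_lit 2) [nat_lit 1549, nat_lit 1211, nat_lit 237] []))) (FT.leaf (Fct.mk true (nat_lit 4) (nat_lit 53) (nat_lit 31) [nat_lit 6, nat_lit 5, nat_lit 4, nat_lit 3, nat_lit 8, nat_lit 1, nat_lit 2, nat_lit 3, nat_lit 4, nat_lit 5, nat_lit 0, nat_lit 1, nat_lit 2, nat_lit 8, nat_lit 3, nat_lit 0, nat_lit 8, nat_lit 12, nat_lit 15, nat_lit 14] (Rl.t1 (nat_lit 1576) (nat_lit 451)))))) (FT.node (nat_lit 1579) (FT.leaf (Fct.mk true (nat_lit 31) (nat_lit 177) (nat_lit 4) [nat_lit 6, nat_lit 1, nat_lit 2, nat_lit 0, nat_lit 1,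 nat_lit 4, nat_lit 3, nat_lit 2, nat_lit 8, nat_lit 3, nat_lit 0, nat_lit 2, nat_lit 16, nat_lit 15, nat_lit 14, nat_lit 13, nat_lit 19, nat_lit 16] (Rl.inv (nat_lit 1577)))) (FT.node (nat_lit 1580) (FT.leaf (Fct.mk true (nat_lit 31) (nat_lit 56) (nat_lit 4) [nat_lit 6, nat_lit 1, nat_lit 2, nat_lit 0, nat_lit 1, nat_lit 4, nat_lit 3, nat_lit 2, nat_lit 8, nat_lit 3, nat_lit 1, nat_lit 0, nat_lit 2, nat_lit 16, nat_lit 15, nat_lit 14, nat_lit 13, nat_lit 19, nat_lit 16] (Rl.t1 (nat_lit 1578) (nat_lit 1553)))) (FT.leaf (Fct.mk true (nat_lit 26) (nat_lit 1097) (nat_lit 31) [nat_lit 2, nat_lit 3, nat_lit 8, nat_lit 1, nat_lit 2, nat_lit 3, nat_lit 4, nat_lit 5, nat_lit 4, nat_lit 3, nat_lit 2, nat_lit 8, nat_lit 3, nat_lit 8, nat_lit 10, nat_lit 1, nat_lit 12] (Rl.rel (nat_lit 0) [nat_lit 4, nat_lit 5, nat_lit 2, nat_lit 3, nat_lit 4, nat_lit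 1, nat_lit 2, nat_lit 3, nat_lit 8, nat_lit 0, nat_lit 1, nat_lit 2, nat_lit 3, nat_lit 4, nat_lit 5, nat_lit 8, nat_lit 3, nat_lit 2, nat_lit 0, nat_lit 1, nat_lit 4, nat_lit 3, nat_lit 2, nat_lit 8, nat_lit 3, nat_lit 9, nat_lit 8, nat_lit 12, nat_lit 15, nat_lit 14, nat_lit 16, nat_lit 8, nat_lit 18, nat_lit 16] (nat_lit 31) (nat_lit 2) [nat_lit 1549, nat_lit 1217, nat_lit 1272] [])))))) (FT.node (nat_lit 1584) (FT.node (nat_lit 1582) (FT.leaf (Fct.mk true (nat_lit 31) (nat_lit 1174) (nat_lit 26) [nat_lit 3, nat_lit 4, nat_lit 2, nat_lit 3, nat_lit 8, nat_lit 1, nat_lit 2, nat_lit 3, nat_lit 4, nat_lit 5, nat_lit 1, nat_lit 4, nat_lit 3, nat_lit 2, nat_lit 8, nat_lit 3, nat_lit 2, nat_lit 14, nat_lit 8] (Rl.inv (nat_lit 1580)))) (FT.node (nat_lit 1583) (FT.leaf (Fct.mk true (nat_lit 31) (nat_lit 55) (nat_lit 26) [nat_lit 2, nat_lit 3, nat_lit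 8, nat_lit 1, nat_lit 2, nat_lit 3, nat_lit 4, nat_lit 5, nat_lit 3, nat_lit 8, nat_lit 4, nat_lit 3, nat_lit 2, nat_lit 0, nat_lit 1, nat_lit 9, nat_lit 4, nat_lit 3, nat_lit 2, nat_lit 8, nat_lit 3, nat_lit 11, nat_lit 2, nat_lit 8, nat_lit 12, nat_lit 15, nat_lit 14, nat_lit 17, nat_lit 18, nat_lit 16] (Rl.t1 (nat_lit 1581) (nat_lit 1573)))) (FT.leaf (Fct.mk true (nat_lit 24) (nat_lit 434) (nat_lit 31) [nat_lit 68] (Rl.rel (nat_lit 0) [nat_lit 4, nat_lit 3, nat_lit 8, nat_lit 5, nat_lit 6, nat_lit 4, nat_lit 5, nat_lit 3, nat_lit 4, nat_lit 1, nat_lit 2, nat_lit 3, nat_lit 8, nat_lit 0, nat_lit 1, nat_lit 2, nat_lit 3, nat_lit 4, nat_lit 5, nat_lit 2, nat_lit 0, nat_lit 1, nat_lit 9, nat_lit 4, nat_lit 3, nat_lit 2, nat_lit 8, nat_lit 3, nat_lit 8, nat_lit 12, nat_lit 15, nat_lit 14, nat_lit 12] (nat_lit 31) (nat_lit 2) [nat_lit 1549, nat_lit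 1177] []))))) (FT.node (nat_lit 1585) (FT.leaf (Fct.mk true (nat_lit 24) (nat_lit 13) (nat_lit 31) [nat_lit 8, nat_lit 3, nat_lit 4, nat_lit 2, nat_lit 3, nat_lit 8, nat_lit 1, nat_lit 2, nat_lit 3, nat_lit 4, nat_lit 5, nat_lit 0, nat_lit 1, nat_lit 3, nat_lit 2, nat_lit 8, nat_lit 3, nat_lit 11, nat_lit 2, nat_lit 8, nat_lit 16, nat_lit 15, nat_lit 14, nat_lit 13, nat_lit 12] (Rl.t1 (nat_lit 1583) (nat_lit 1219)))) (FT.node (nat_lit 1586) (FT.leaf (Fct.mk true (nat_lit 31) (nat_lit 54) (nat_lit 24) [nat_lit 6, nat_lit 8, nat_lit 3, nat_lit 2, nat_lit 1, nat_lit 9, nat_lit 4, nat_lit 3, nat_lit 2, nat_lit 8, nat_lit 3, nat_lit 11, nat_lit 8, nat_lit 10, nat_lit 1, nat_lit 15, nat_lit 14, nat_lit 18] (Rl.inv (nat_lit 1584)))) (FT.leaf (Fct.mk true (nat_lit 26) (nat_lit 1206) (nat_lit 31) [nat_lit 3, nat_lit 8, nat_lit 4, nat_lit 5, nat_lit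 3, nat_lit 4, nat_lit 2, nat_lit 3, nat_lit 8, nat_lit 0, nat_lit 1, nat_lit 2, nat_lit 3, nat_lit 4, nat_lit 5, nat_lit 8, nat_lit 4, nat_lit 3, nat_lit 2, nat_lit 0, nat_lit 1, nat_lit 9, nat_lit 4, nat_lit 3, nat_lit 2, nat_lit 8, nat_lit 3, nat_lit 10, nat_lit 9, nat_lit 2, nat_lit 8, nat_lit 12, nat_lit 15, nat_lit 13, nat_lit 12] (Rl.rel (nat_lit 0) [nat_lit 3, nat_lit 8, nat_lit 2, nat_lit 3, nat_lit 4, nat_lit 1, nat_lit 2, nat_lit 3, nat_lit 8, nat_lit 0, nat_lit 1, nat_lit 2, nat_lit 3, nat_lit 4, nat_lit 5, nat_lit 0, nat_lit 1, nat_lit 2, nat_lit 3, nat_lit 10, nat_lit 8] (nat_lit 31) (nat_lit 2) [nat_lit 1585, nat_lit 1224, nat_lit 1280] []))))))) (FT.node (nat_lit 1593) (FT.node (nat_lit 1590) (FT.node (nat_lit 1588) (FT.leaf (Fct.mk true (nat_lit 26) (nat_lit 261) (nat_lit 31) [nat_lit 6, nat_lit 5, nat_lit 3, nat_lit 4, nat_lit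 2, nat_lit 3, nat_lit 8, nat_lit 1, nat_lit 2, nat_lit 3, nat_lit 4, nat_lit 5, nat_lit 2, nat_lit 3, nat_lit 8, nat_lit 4, nat_lit 3, nat_lit 2, nat_lit 0, nat_lit 1, nat_lit 9, nat_lit 4, nat_lit 3, nat_lit 2, nat_lit 8, nat_lit 3, nat_lit 9, nat_lit 8, nat_lit 12, nat_lit 15, nat_lit 13, nat_lit 12] (Rl.t1 (nat_lit 1586) (nat_lit 1302)))) (FT.node (nat_lit 1589) (FT.leaf (Fct.mk true (nat_lit 31) (nat_lit 201) (nat_lit 26) [nat_lit 2, nat_lit 3, nat_lit 8, nat_lit 1, nat_lit 2, nat_lit 3, nat_lit 4, nat_lit 5, nat_lit 3, nat_lit 8, nat_lit 4, nat_lit 3, nat_lit 2, nat_lit 0, nat_lit 1, nat_lit 9, nat_lit 4, nat_lit 3, nat_lit 2, nat_lit 8, nat_lit 3, nat_lit 0, nat_lit 8, nat_lit 16, nat_lit 15, nat_lit 14, nat_lit 8, nat_lit 18, nat_lit 16] (Rl.inv (nat_lit 1587)))) (FT.leaf (Fct.mk false (nat_lit 31) (nat_lit 0) (nat_lit 31) [nat_lit 0,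 nat_lit 1, nat_lit 2, nat_lit 3, nat_lit 4, nat_lit 5, nat_lit 1, nat_lit 3, nat_lit 2, nat_lit 0, nat_lit 1, nat_lit 9, nat_lit 4, nat_lit 3, nat_lit 2, nat_lit 8, nat_lit 3, nat_lit 8, nat_lit 10, nat_lit 9, nat_lit 2, nat_lit 16, nat_lit 12, nat_lit 15, nat_lit 14, nat_lit 17, nat_lit 12] (Rl.rel (nat_lit 0) [nat_lit 3, nat_lit 4, nat_lit 2, nat_lit 3, nat_lit 8, nat_lit 1, nat_lit 2, nat_lit 3, nat_lit 4, nat_lit 5, nat_lit 2, nat_lit 0, nat_lit 1, nat_lit 3, nat_lit 2, nat_lit 8, nat_lit 3, nat_lit 10, nat_lit 1, nat_lit 15, nat_lit 8, nat_lit 18] (nat_lit 31) (nat_lit 3) [nat_lit 1588, nat_lit 1299, nat_lit 1523, nat_lit 1507, nat_lit 1572] []))))) (FT.node (nat_lit 1591) (FT.leaf (Fct.mk false (nat_lit 31) (nat_lit 0) (nat_lit 31) [nat_lit 0, nat_lit 1, nat_lit 2, nat_lit 3, nat_lit 4, nat_lit 5, nat_lit 3, nat_lit 0, nat_lit 2, nat_lit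 12, nat_lit 15] (Rl.cmp (nat_lit 1589) (nat_lit 1573)))) (FT.node (nat_lit 1592) (FT.leaf (Fct.mk true (nat_lit 31) (nat_lit 379) (nat_lit 2) [nat_lit 0, nat_lit 1, nat_lit 2, nat_lit 3, nat_lit 4, nat_lit 5, nat_lit 3, nat_lit 0, nat_lit 2, nat_lit 12, nat_lit 15] (Rl.t1 (nat_lit 1549) (nat_lit 1590)))) (FT.leaf (Fct.mk false (nat_lit 31) (nat_lit 0) (nat_lit 31) [nat_lit 2, nat_lit 1, nat_lit 3, nat_lit 2, nat_lit 0, nat_lit 1, nat_lit 9, nat_lit 4, nat_lit 3, nat_lit 2, nat_lit 8, nat_lit 3, nat_lit 10, nat_lit 9, nat_lit 2, nat_lit 8, nat_lit 16, nat_lit 15, nat_lit 14, nat_lit 17, nat_lit 12] (Rl.cmp (nat_lit 1573) (nat_lit 1558))))))) (FT.node (nat_lit 1596) (FT.node (nat_lit 1594) (FT.leaf (Fct.mk false (nat_lit 31) (nat_lit 0) (nat_lit 31) [nat_lit 0, nat_lit 1, nat_lit 2, nat_lit 3, nat_lit 4, nat_lit 5, nat_lit 2, nat_lit 3, nat_lit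 0, nat_lit 2, nat_lit 12, nat_lit 15] (Rl.cmp (nat_lit 1589) (nat_lit 1592)))) (FT.node (nat_lit 1595) (FT.leaf (Fct.mk true (nat_lit 31) (nat_lit 40) (nat_lit 9) [nat_lit 5, nat_lit 3, nat_lit 4, nat_lit 2, nat_lit 3, nat_lit 8, nat_lit 1, nat_lit 2, nat_lit 3, nat_lit 4, nat_lit 5, nat_lit 1, nat_lit 2, nat_lit 8, nat_lit 3, nat_lit 11, nat_lit 2, nat_lit 10, nat_lit 1, nat_lit 8, nat_lit 16, nat_lit 15, nat_lit 14, nat_lit 17, nat_lit 12, nat_lit 18] (Rl.t1 (nat_lit 1575) (nat_lit 1593)))) (FT.leaf (Fct.mk false (nat_lit 31) (nat_lit 0) (nat_lit 31) [nat_lit 0, nat_lit 1, nat_lit 2, nat_lit 3, nat_lit 4, nat_lit 5, nat_lit 1, nat_lit 2, nat_lit 0, nat_lit 1, nat_lit 9, nat_lit 4, nat_lit 3, nat_lit 2, nat_lit 8, nat_lit 3, nat_lit 8, nat_lit 10, nat_lit 9, nat_lit 2, nat_lit 16, nat_lit 12, nat_lit 15, nat_lit 14, nat_lit 17, nat_lit 12]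 (Rl.cmp (nat_lit 1589) (nat_lit 1558)))))) (FT.node (nat_lit 1598) (FT.node (nat_lit 1597) (FT.leaf (Fct.mk true (nat_lit 31) (nat_lit 107) (nat_lit 26) [nat_lit 4, nat_lit 5, nat_lit 2, nat_lit 3, nat_lit 4, nat_lit 1, nat_lit 2, nat_lit 3, nat_lit 8, nat_lit 0, nat_lit 1, nat_lit 2, nat_lit 3, nat_lit 4, nat_lit 5, nat_lit 0, nat_lit 1, nat_lit 2, nat_lit 3, nat_lit 0, nat_lit 14, nat_lit 8, nat_lit 16] (Rl.t1 (nat_lit 1588) (nat_lit 1595)))) (FT.leaf (Fct.mk true (nat_lit 23) (nat_lit 331) (nat_lit 31) [nat_lit 8, nat_lit 3, nat_lit 4, nat_lit 2, nat_lit 3, nat_lit 8, nat_lit 0, nat_lit 1, nat_lit 2, nat_lit 3, nat_lit 4, nat_lit 5, nat_lit 2, nat_lit 1, nat_lit 3, nat_lit 2, nat_lit 0, nat_lit 1, nat_lit 4, nat_lit 3, nat_lit 2, nat_lit 8, nat_lit 3, nat_lit 9, nat_lit 8, nat_lit 12, nat_lit 15, nat_lit 14, nat_lit 17, nat_lit 12] (Rl.rel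 (nat_lit 0) [nat_lit 4, nat_lit 5, nat_lit 2, nat_lit 3, nat_lit 4, nat_lit 1, nat_lit 2, nat_lit 3, nat_lit 8, nat_lit 0, nat_lit 1, nat_lit 2, nat_lit 3, nat_lit 4, nat_lit 5, nat_lit 1, nat_lit 4, nat_lit 3, nat_lit 2, nat_lit 8, nat_lit 3, nat_lit 12, nat_lit 15, nat_lit 14, nat_lit 12] (nat_lit 31) (nat_lit 2) [nat_lit 1595, nat_lit 1596, nat_lit 1292] [])))) (FT.node (nat_lit 1599) (FT.leaf (Fct.mk true (nat_lit 23) (nat_lit 5) (nat_lit 31) [nat_lit 0, nat_lit 1, nat_lit 2, nat_lit 3, nat_lit 4, nat_lit 5, nat_lit 2, nat_lit 0, nat_lit 1, nat_lit 4, nat_lit 3, nat_lit 2, nat_lit 8, nat_lit 3, nat_lit 8, nat_lit 10, nat_lit 9, nat_lit 2, nat_lit 16, nat_lit 12, nat_lit 15, nat_lit 14, nat_lit 12] (Rl.t1 (nat_lit 1597) (nat_lit 1162)))) (FT.leaf (Fct.mk true (nat_lit 31) (nat_lit 194) (nat_lit 23) [nat_lit 2, nat_lit 3, nat_lit 4, nat_lit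 1, nat_lit 2, nat_lit 3, nat_lit 8, nat_lit 0, nat_lit 1, nat_lit 2, nat_lit 3, nat_lit 4, nat_lit 5, nat_lit 0, nat_lit 1, nat_lit 9, nat_lit 4, nat_lit 3, nat_lit 2, nat_lit 8, nat_lit 3, nat_lit 11, nat_lit 10, nat_lit 16, nat_lit 12, nat_lit 15, nat_lit 14, nat_lit 13] (Rl.inv (nat_lit 1598)))))))))

/-- some facts -/
noncomputable def ftc32 : FT := FT.node (nat_lit 1625) (FT.node (nat_lit 1612) (FT.node (nat_lit 1606) (FT.node (nat_lit 1603) (FT.node (nat_lit 1601) (FT.leaf (Fct.mk true (nat_lit 31) (nat_lit 22) (nat_lit 23) [nat_lit 6, nat_lit 4, nat_lit 10, nat_lit 12] (Rl.t1 (nat_lit 1599) (nat_lit 1589)))) (FT.node (nat_lit 1602) (FT.leaf (Fct.mk true (nat_lit 4) (nat_lit 2410) (nat_lit 31) [nat_lit 2, nat_lit 3, nat_lit 8, nat_lit 1, nat_lit 2, nat_lit 3, nat_lit 4, nat_lit 5, nat_lit 4, nat_lit 3, nat_lit 2, nat_lit 0, nat_lit 1,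 nat_lit 9, nat_lit 4, nat_lit 3, nat_lit 2, nat_lit 8, nat_lit 3, nat_lit 11, nat_lit 2, nat_lit 10, nat_lit 1, nat_lit 16, nat_lit 15, nat_lit 14, nat_lit 16, nat_lit 8, nat_lit 19, nat_lit 16] (Rl.rel (nat_lit 0) [nat_lit 2, nat_lit 3, nat_lit 14, nat_lit 12] (nat_lit 31) (nat_lit 2) [nat_lit 1600, nat_lit 1086] []))) (FT.leaf (Fct.mk true (nat_lit 4) (nat_lit 824) (nat_lit 31) [nat_lit 5, nat_lit 1, nat_lit 2, nat_lit 0, nat_lit 1, nat_lit 9, nat_lit 4, nat_lit 3, nat_lit 2, nat_lit 8, nat_lit 3, nat_lit 10, nat_lit 1, nat_lit 15, nat_lit 8, nat_lit 19, nat_lit 16] (Rl.t1 (nat_lit 1601) (nat_lit 417)))))) (FT.node (nat_lit 1604) (FT.leaf (Fct.mk true (nat_lit 5) (nat_lit 3696) (nat_lit 31) [nat_lit 3, nat_lit 8, nat_lit 4, nat_lit 5, nat_lit 3, nat_lit 4, nat_lit 2, nat_lit 3, nat_lit 8, nat_lit 1, nat_lit 2, nat_lit 3, nat_lit 4, nat_lit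 5, nat_lit 2, nat_lit 0, nat_lit 1, nat_lit 4, nat_lit 3, nat_lit 2, nat_lit 8, nat_lit 3, nat_lit 8, nat_lit 10, nat_lit 0, nat_lit 16, nat_lit 12, nat_lit 15, nat_lit 14] (Rl.rel (nat_lit 0) [nat_lit 3, nat_lit 2, nat_lit 8, nat_lit 3, nat_lit 2, nat_lit 14, nat_lit 12] (nat_lit 31) (nat_lit 2) [nat_lit 1600, nat_lit 1093] []))) (FT.node (nat_lit 1605) (FT.leaf (Fct.mk true (nat_lit 5) (nat_lit 3412) (nat_lit 31) [nat_lit 8, nat_lit 6, nat_lit 5, nat_lit 3, nat_lit 4, nat_lit 2, nat_lit 3, nat_lit 8, nat_lit 0, nat_lit 1, nat_lit 2, nat_lit 3, nat_lit 4, nat_lit 5, nat_lit 1, nat_lit 2, nat_lit 8, nat_lit 3, nat_lit 8, nat_lit 10, nat_lit 0, nat_lit 8, nat_lit 16, nat_lit 15, nat_lit 14, nat_lit 12, nat_lit 16] (Rl.t1 (nat_lit 1603) (nat_lit 533)))) (FT.leaf (Fct.mk true (nat_lit 13) (nat_lit 82) (nat_lit 31) [nat_lit 3, nat_lit 8, nat_lit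 2, nat_lit 3, nat_lit 4, nat_lit 1, nat_lit 2, nat_lit 3, nat_lit 8, nat_lit 0, nat_lit 1, nat_lit 2, nat_lit 3, nat_lit 4, nat_lit 5, nat_lit 0, nat_lit 1, nat_lit 3, nat_lit 2, nat_lit 8, nat_lit 3, nat_lit 0, nat_lit 2, nat_lit 8, nat_lit 12, nat_lit 15, nat_lit 14, nat_lit 12] (Rl.rel (nat_lit 0) [nat_lit 1, nat_lit 3, nat_lit 2, nat_lit 8, nat_lit 3, nat_lit 10, nat_lit 0, nat_lit 12, nat_lit 15, nat_lit 14, nat_lit 12] (nat_lit 31) (nat_lit 2) [nat_lit 1600, nat_lit 1070, nat_lit 1096] [])))))) (FT.node (nat_lit 1609) (FT.node (nat_lit 1607) (FT.leaf (Fct.mk true (nat_lit 13) (nat_lit 81) (nat_lit 31) [nat_lit 3, nat_lit 8, nat_lit 2, nat_lit 3, nat_lit 4, nat_lit 1, nat_lit 2, nat_lit 3, nat_lit 8, nat_lit 0, nat_lit 1, nat_lit 2, nat_lit 3, nat_lit 4, nat_lit 5, nat_lit 1, nat_lit 2, nat_lit 0, nat_lit 1, nat_lit 9, nat_lit 4, nat_lit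 3, nat_lit 2, nat_lit 8, nat_lit 3, nat_lit 9, nat_lit 8, nat_lit 12, nat_lit 15, nat_lit 14, nat_lit 12] (Rl.t1 (nat_lit 1605) (nat_lit 821)))) (FT.node (nat_lit 1608) (FT.leaf (Fct.mk true (nat_lit 31) (nat_lit 24) (nat_lit 13) [nat_lit 0, nat_lit 1, nat_lit 2, nat_lit 3, nat_lit 4, nat_lit 5, nat_lit 9, nat_lit 4, nat_lit 3, nat_lit 2, nat_lit 8, nat_lit 3, nat_lit 9, nat_lit 2, nat_lit 13, nat_lit 18] (Rl.inv (nat_lit 1606)))) (FT.leaf (Fct.mk true (nat_lit 30) (nat_lit 38087) (nat_lit 31) [nat_lit 2, nat_lit 3, nat_lit 8, nat_lit 0, nat_lit 1, nat_lit 2, nat_lit 3, nat_lit 4, nat_lit 5, nat_lit 1, nat_lit 9, nat_lit 4, nat_lit 3, nat_lit 2, nat_lit 8, nat_lit 3, nat_lit 10, nat_lit 0, nat_lit 16, nat_lit 8, nat_lit 12, nat_lit 15, nat_lit 17, nat_lit 12, nat_lit 19] (Rl.rel (nat_lit 0) [nat_lit 6, nat_lit 4, nat_lit 3, nat_lit 2, nat_lit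 8, nat_lit 3, nat_lit 9, nat_lit 2, nat_lit 8, nat_lit 12, nat_lit 15, nat_lit 14, nat_lit 17] (nat_lit 31) (nat_lit 2) [nat_lit 1607, nat_lit 1164, nat_lit 1544] []))))) (FT.node (nat_lit 1610) (FT.leaf (Fct.mk true (nat_lit 30) (nat_lit 25656) (nat_lit 31) [nat_lit 2, nat_lit 3, nat_lit 8, nat_lit 0, nat_lit 1, nat_lit 2, nat_lit 3, nat_lit 4, nat_lit 5, nat_lit 9, nat_lit 4, nat_lit 3, nat_lit 2, nat_lit 8, nat_lit 3, nat_lit 10, nat_lit 0, nat_lit 16, nat_lit 8, nat_lit 12, nat_lit 15, nat_lit 17, nat_lit 12, nat_lit 19] (Rl.t1 (nat_lit 1608) (nat_lit 1515)))) (FT.node (nat_lit 1611) (FT.leaf (Fct.mk true (nat_lit 31) (nat_lit 674) (nat_lit 30) [nat_lit 4, nat_lit 3, nat_lit 8, nat_lit 0, nat_lit 1, nat_lit 2, nat_lit 3, nat_lit 4, nat_lit 5, nat_lit 1, nat_lit 8, nat_lit 4, nat_lit 3, nat_lit 2, nat_lit 0, nat_lit 1, nat_lit 9, nat_lit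 4, nat_lit 3, nat_lit 2, nat_lit 8, nat_lit 3, nat_lit 11, nat_lit 9, nat_lit 10, nat_lit 2, nat_lit 8, nat_lit 10, nat_lit 1, nat_lit 8, nat_lit 16, nat_lit 15, nat_lit 14, nat_lit 16, nat_lit 8, nat_lit 18, nat_lit 16] (Rl.inv (nat_lit 1609)))) (FT.leaf (Fct.mk true (nat_lit 31) (nat_lit 660) (nat_lit 30) [nat_lit 4, nat_lit 3, nat_lit 8, nat_lit 0, nat_lit 1, nat_lit 2, nat_lit 3, nat_lit 4, nat_lit 5, nat_lit 1, nat_lit 3, nat_lit 8, nat_lit 4, nat_lit 3, nat_lit 2, nat_lit 0, nat_lit 1, nat_lit 9, nat_lit 4, nat_lit 3, nat_lit 2, nat_lit 8, nat_lit 3, nat_lit 11, nat_lit 9, nat_lit 10, nat_lit 2, nat_lit 8, nat_lit 10, nat_lit 1, nat_lit 8, nat_lit 16, nat_lit 15, nat_lit 14, nat_lit 16, nat_lit 8, nat_lit 18, nat_lit 16] (Rl.t1 (nat_lit 1610) (nat_lit 1558)))))))) (FT.node (nat_lit 1618) (FT.node (nat_lit 1615) (FT.node (nat_lit 1613)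 (FT.leaf (Fct.mk true (nat_lit 30) (nat_lit 1323) (nat_lit 31) [nat_lit 2, nat_lit 3, nat_lit 8, nat_lit 0, nat_lit 1, nat_lit 2, nat_lit 3, nat_lit 4, nat_lit 5, nat_lit 8, nat_lit 3, nat_lit 12, nat_lit 15, nat_lit 14, nat_lit 13, nat_lit 12, nat_lit 19, nat_lit 16] (Rl.rel (nat_lit 0) [nat_lit 6, nat_lit 3, nat_lit 8, nat_lit 4, nat_lit 3, nat_lit 2, nat_lit 1, nat_lit 9, nat_lit 4, nat_lit 3, nat_lit 2, nat_lit 8, nat_lit 3, nat_lit 8, nat_lit 10, nat_lit 9, nat_lit 2, nat_lit 8, nat_lit 12, nat_lit 15, nat_lit 8, nat_lit 16] (nat_lit 31) (nat_lit 2) [nat_lit 1611, nat_lit 1539, nat_lit 1541] []))) (FT.node (nat_lit 1614) (FT.leaf (Fct.mk true (nat_lit 30) (nat_lit 591) (nat_lit 31) [nat_lit 2, nat_lit 3, nat_lit 8, nat_lit 0, nat_lit 1, nat_lit 2, nat_lit 3, nat_lit 4, nat_lit 5, nat_lit 8, nat_lit 3, nat_lit 9, nat_lit 12, nat_lit 15,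 nat_lit 14, nat_lit 13, nat_lit 12, nat_lit 19, nat_lit 16] (Rl.t1 (nat_lit 1612) (nat_lit 1542)))) (FT.leaf (Fct.mk true (nat_lit 31) (nat_lit 1183) (nat_lit 30) [nat_lit 8, nat_lit 6, nat_lit 4, nat_lit 5, nat_lit 3, nat_lit 4, nat_lit 1, nat_lit 2, nat_lit 3, nat_lit 8, nat_lit 0, nat_lit 1, nat_lit 2, nat_lit 3, nat_lit 4, nat_lit 5, nat_lit 1, nat_lit 9, nat_lit 4, nat_lit 3, nat_lit 2, nat_lit 8, nat_lit 3, nat_lit 11, nat_lit 2, nat_lit 8, nat_lit 10, nat_lit 1, nat_lit 16, nat_lit 14, nat_lit 13, nat_lit 12] (Rl.inv (nat_lit 1613)))))) (FT.node (nat_lit 1616) (FT.leaf (Fct.mk true (nat_lit 31) (nat_lit 659) (nat_lit 30) [nat_lit 3, nat_lit 8, nat_lit 2, nat_lit 3, nat_lit 4, nat_lit 5, nat_lit 1, nat_lit 3, nat_lit 8, nat_lit 4, nat_lit 3, nat_lit 2, nat_lit 0, nat_lit 1, nat_lit 9, nat_lit 4, nat_lit 3, nat_lit 2, nat_lit 8, nat_lit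 3, nat_lit 10, nat_lit 15, nat_lit 13, nat_lit 12, nat_lit 18] (Rl.t1 (nat_lit 1614) (nat_lit 1573)))) (FT.node (nat_lit 1617) (FT.leaf (Fct.mk true (nat_lit 30) (nat_lit 305) (nat_lit 25) [nat_lit 6, nat_lit 5, nat_lit 4, nat_lit 3, nat_lit 8, nat_lit 1, nat_lit 2, nat_lit 3, nat_lit 4, nat_lit 5, nat_lit 3, nat_lit 11, nat_lit 1, nat_lit 16, nat_lit 14, nat_lit 13, nat_lit 12, nat_lit 18] (Rl.rel (nat_lit 0) [nat_lit 6, nat_lit 8, nat_lit 3, nat_lit 2, nat_lit 1, nat_lit 4, nat_lit 3, nat_lit 2, nat_lit 8, nat_lit 3, nat_lit 1, nat_lit 16, nat_lit 15, nat_lit 14, nat_lit 19, nat_lit 16] (nat_lit 31) (nat_lit 1) [nat_lit 1615] [nat_lit 1589, nat_lit 1563]))) (FT.leaf (Fct.mk true (nat_lit 30) (nat_lit 62) (nat_lit 25) [nat_lit 6, nat_lit 3, nat_lit 11, nat_lit 10, nat_lit 13] (Rl.t1 (nat_lit 1616) (nat_lit 1507))))))) (FT.node (nat_lit 1621)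 (FT.node (nat_lit 1619) (FT.leaf (Fct.mk true (nat_lit 25) (nat_lit 803) (nat_lit 30) [nat_lit 5, nat_lit 9, nat_lit 4, nat_lit 10, nat_lit 0, nat_lit 12] (Rl.inv (nat_lit 1617)))) (FT.node (nat_lit 1620) (FT.leaf (Fct.mk true (nat_lit 25) (nat_lit 431) (nat_lit 30) [nat_lit 4, nat_lit 5, nat_lit 4, nat_lit 10] (Rl.t1 (nat_lit 1618) (nat_lit 1262)))) (FT.leaf (Fct.mk false (nat_lit 25) (nat_lit 0) (nat_lit 25) [nat_lit 1, nat_lit 2, nat_lit 3, nat_lit 8, nat_lit 4, nat_lit 5, nat_lit 3, nat_lit 4, nat_lit 2, nat_lit 3, nat_lit 8, nat_lit 1, nat_lit 2, nat_lit 3, nat_lit 4, nat_lit 5, nat_lit 3, nat_lit 8, nat_lit 4, nat_lit 3, nat_lit 2, nat_lit 1, nat_lit 9, nat_lit 4, nat_lit 3, nat_lit 2, nat_lit 8, nat_lit 3, nat_lit 11, nat_lit 1, nat_lit 12, nat_lit 8, nat_lit 16, nat_lit 14, nat_lit 13, nat_lit 18] (Rl.cmp (nat_lit 1247) (nat_lit 1231))))))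 (FT.node (nat_lit 1623) (FT.node (nat_lit 1622) (FT.leaf (Fct.mk false (nat_lit 25) (nat_lit 0) (nat_lit 25) [nat_lit 1, nat_lit 2, nat_lit 3, nat_lit 8, nat_lit 4, nat_lit 5, nat_lit 3, nat_lit 4, nat_lit 2, nat_lit 3, nat_lit 8, nat_lit 1, nat_lit 2, nat_lit 3, nat_lit 4, nat_lit 5, nat_lit 2, nat_lit 0, nat_lit 1, nat_lit 9, nat_lit 4, nat_lit 3, nat_lit 2, nat_lit 8, nat_lit 3, nat_lit 10, nat_lit 2, nat_lit 8, nat_lit 10, nat_lit 1, nat_lit 12, nat_lit 8, nat_lit 16, nat_lit 14] (Rl.cmp (nat_lit 1256) (nat_lit 1620)))) (FT.leaf (Fct.mk true (nat_lit 30) (nat_lit 15154) (nat_lit 30) [nat_lit 1, nat_lit 2, nat_lit 3, nat_lit 8, nat_lit 6, nat_lit 4, nat_lit 5, nat_lit 3, nat_lit 4, nat_lit 2, nat_lit 3, nat_lit 8, nat_lit 1, nat_lit 2, nat_lit 3, nat_lit 4, nat_lit 5, nat_lit 9, nat_lit 4, nat_lit 3, nat_lit 2, nat_lit 8, nat_lit 3, nat_lit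 10, nat_lit 2, nat_lit 8, nat_lit 10, nat_lit 1, nat_lit 12, nat_lit 8, nat_lit 16, nat_lit 14, nat_lit 16] (Rl.rel (nat_lit 0) [nat_lit 3, nat_lit 8, nat_lit 1, nat_lit 2, nat_lit 3, nat_lit 4, nat_lit 5, nat_lit 1, nat_lit 3, nat_lit 2, nat_lit 0, nat_lit 1, nat_lit 9, nat_lit 4, nat_lit 3, nat_lit 2, nat_lit 8, nat_lit 3, nat_lit 11, nat_lit 10, nat_lit 1, nat_lit 16, nat_lit 14, nat_lit 13, nat_lit 12, nat_lit 18] (nat_lit 25) (nat_lit 1) [nat_lit 1619] [nat_lit 1621, nat_lit 1619])))) (FT.node (nat_lit 1624) (FT.leaf (Fct.mk true (nat_lit 30) (nat_lit 14971) (nat_lit 30) [nat_lit 1, nat_lit 2, nat_lit 3, nat_lit 8, nat_lit 6, nat_lit 4, nat_lit 5, nat_lit 3, nat_lit 4, nat_lit 2, nat_lit 3, nat_lit 8, nat_lit 1, nat_lit 2, nat_lit 3, nat_lit 4, nat_lit 5, nat_lit 9, nat_lit 4, nat_lit 3, nat_lit 2, nat_lit 8, nat_lit 3, nat_lit 2, nat_lit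 10, nat_lit 1, nat_lit 8, nat_lit 16, nat_lit 14, nat_lit 16] (Rl.t1 (nat_lit 1622) (nat_lit 1547)))) (FT.leaf (Fct.mk true (nat_lit 30) (nat_lit 15162) (nat_lit 30) [nat_lit 6, nat_lit 5, nat_lit 4, nat_lit 3, nat_lit 8, nat_lit 1, nat_lit 2, nat_lit 3, nat_lit 4, nat_lit 5, nat_lit 4, nat_lit 10, nat_lit 1, nat_lit 16, nat_lit 14, nat_lit 8, nat_lit 16] (Rl.rel (nat_lit 0) [nat_lit 8, nat_lit 3, nat_lit 4, nat_lit 2, nat_lit 3, nat_lit 8, nat_lit 1, nat_lit 2, nat_lit 3, nat_lit 4, nat_lit 5, nat_lit 1, nat_lit 8, nat_lit 3, nat_lit 2, nat_lit 0, nat_lit 1, nat_lit 9, nat_lit 4, nat_lit 3, nat_lit 2, nat_lit 8, nat_lit 3, nat_lit 11, nat_lit 8, nat_lit 10, nat_lit 1, nat_lit 8, nat_lit 12, nat_lit 15, nat_lit 12, nat_lit 16] (nat_lit 30) (nat_lit 2) [nat_lit 1623, nat_lit 1500, nat_lit 1623] [])))))))) (FT.node (nat_lit 1637) (FT.node (nat_lit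 1631) (FT.node (nat_lit 1628) (FT.node (nat_lit 1626) (FT.leaf (Fct.mk true (nat_lit 30) (nat_lit 15084) (nat_lit 30) [nat_lit 6, nat_lit 3] (Rl.t1 (nat_lit 1624) (nat_lit 1512)))) (FT.node (nat_lit 1627) (FT.leaf (Fct.mk false (nat_lit 12) (nat_lit 0) (nat_lit 12) [nat_lit 0, nat_lit 1, nat_lit 2, nat_lit 3, nat_lit 4, nat_lit 5, nat_lit 0, nat_lit 2, nat_lit 12, nat_lit 15, nat_lit 16] (Rl.rel (nat_lit 0) [nat_lit 5, nat_lit 6, nat_lit 4, nat_lit 5, nat_lit 2, nat_lit 3, nat_lit 4, nat_lit 1, nat_lit 2, nat_lit 3, nat_lit 8, nat_lit 0, nat_lit 1, nat_lit 2, nat_lit 3, nat_lit 4, nat_lit 5, nat_lit 3, nat_lit 2, nat_lit 1, nat_lit 8, nat_lit 3, nat_lit 2, nat_lit 0, nat_lit 1, nat_lit 4, nat_lit 3, nat_lit 2, nat_lit 8, nat_lit 3, nat_lit 10, nat_lit 1, nat_lit 12, nat_lit 15, nat_lit 14, nat_lit 17] (nat_lit 30) (nat_lit 2) [nat_lit 1625,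 nat_lit 1531] [nat_lit 1531]))) (FT.leaf (Fct.mk false (nat_lit 12) (nat_lit 0) (nat_lit 12) [nat_lit 5, nat_lit 3, nat_lit 0] (Rl.cmp (nat_lit 777) (nat_lit 772)))))) (FT.node (nat_lit 1629) (FT.leaf (Fct.mk false (nat_lit 12) (nat_lit 0) (nat_lit 12) [nat_lit 4, nat_lit 5, nat_lit 9, nat_lit 4, nat_lit 2, nat_lit 10, nat_lit 1, nat_lit 16, nat_lit 15, nat_lit 14, nat_lit 12, nat_lit 16] (Rl.cmp (nat_lit 1626) (nat_lit 1627)))) (FT.node (nat_lit 1630) (FT.leaf (Fct.mk false (nat_lit 12) (nat_lit 0) (nat_lit 12) [nat_lit 9, nat_lit 4, nat_lit 2, nat_lit 10, nat_lit 1, nat_lit 16, nat_lit 15, nat_lit 14, nat_lit 12, nat_lit 16] (Rl.cmp (nat_lit 774) (nat_lit 1628)))) (FT.leaf (Fct.mk false (nat_lit 12) (nat_lit 0) (nat_lit 12) [nat_lit 9, nat_lit 4, nat_lit 2, nat_lit 10, nat_lit 1, nat_lit 16, nat_lit 14, nat_lit 12, nat_lit 16] (Rl.cmp (nat_lit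 777) (nat_lit 1629))))))) (FT.node (nat_lit 1634) (FT.node (nat_lit 1632) (FT.leaf (Fct.mk false (nat_lit 12) (nat_lit 0) (nat_lit 12) [nat_lit 0, nat_lit 1, nat_lit 2, nat_lit 3, nat_lit 4, nat_lit 5, nat_lit 2, nat_lit 3, nat_lit 1, nat_lit 12, nat_lit 15, nat_lit 12] (Rl.cmp (nat_lit 1626) (nat_lit 1630)))) (FT.node (nat_lit 1633) (FT.leaf (Fct.mk true (nat_lit 12) (nat_lit 112) (nat_lit 27) [nat_lit 3, nat_lit 8, nat_lit 4, nat_lit 5, nat_lit 3, nat_lit 4, nat_lit 2, nat_lit 3, nat_lit 8, nat_lit 1, nat_lit 2, nat_lit 3, nat_lit 4, nat_lit 5, nat_lit 6, nat_lit 7, nat_lit 2, nat_lit 3, nat_lit 8, nat_lit 1, nat_lit 2, nat_lit 3, nat_lit 4, nat_lit 5, nat_lit 1, nat_lit 2, nat_lit 0, nat_lit 1, nat_lit 9, nat_lit 4, nat_lit 3, nat_lit 2, nat_lit 8, nat_lit 3, nat_lit 9, nat_lit 2, nat_lit 15, nat_lit 14, nat_lit 8, nat_lit 19] (Rl.t1 (nat_lit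 1366) (nat_lit 1631)))) (FT.leaf (Fct.mk false (nat_lit 12) (nat_lit 0) (nat_lit 12) [nat_lit 5, nat_lit 9] (Rl.cmp (nat_lit 772) (nat_lit 773)))))) (FT.node (nat_lit 1635) (FT.leaf (Fct.mk false (nat_lit 12) (nat_lit 0) (nat_lit 12) [nat_lit 4, nat_lit 5, nat_lit 1, nat_lit 0, nat_lit 2, nat_lit 12, nat_lit 15, nat_lit 14, nat_lit 16] (Rl.cmp (nat_lit 1626) (nat_lit 1633)))) (FT.node (nat_lit 1636) (FT.leaf (Fct.mk false (nat_lit 12) (nat_lit 0) (nat_lit 12) [nat_lit 4, nat_lit 5, nat_lit 1, nat_lit 0, nat_lit 2, nat_lit 12, nat_lit 15, nat_lit 16] (Rl.cmp (nat_lit 777) (nat_lit 1634)))) (FT.leaf (Fct.mk false (nat_lit 12) (nat_lit 0) (nat_lit 12) [nat_lit 5, nat_lit 9] (Rl.cmp (nat_lit 772) (nat_lit 773)))))))) (FT.node (nat_lit 1643) (FT.node (nat_lit 1640) (FT.node (nat_lit 1638) (FT.leaf (Fct.mk false (nat_lit 12) (nat_lit 0) (nat_lit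 12) [nat_lit 5, nat_lit 11, nat_lit 2, nat_lit 13] (Rl.cmp (nat_lit 1636) (nat_lit 777)))) (FT.node (nat_lit 1639) (FT.leaf (Fct.mk false (nat_lit 12) (nat_lit 0) (nat_lit 12) [nat_lit 6, nat_lit 4, nat_lit 0] (Rl.cmp (nat_lit 1637) (nat_lit 774)))) (FT.leaf (Fct.mk false (nat_lit 12) (nat_lit 0) (nat_lit 12) [nat_lit 0, nat_lit 1, nat_lit 2, nat_lit 3, nat_lit 4, nat_lit 5, nat_lit 4, nat_lit 10, nat_lit 1, nat_lit 16, nat_lit 14, nat_lit 16] (Rl.einv (nat_lit 1635)))))) (FT.node (nat_lit 1641) (FT.leaf (Fct.mk false (nat_lit 12) (nat_lit 0) (nat_lit 12) [nat_lit 3, nat_lit 4, nat_lit 5, nat_lit 3, nat_lit 11, nat_lit 10, nat_lit 1, nat_lit 16, nat_lit 15, nat_lit 14, nat_lit 13, nat_lit 16] (Rl.cmp (nat_lit 1639) (nat_lit 1638)))) (FT.node (nat_lit 1642) (FT.leaf (Fct.mk false (nat_lit 27) (nat_lit 0) (nat_lit 27) [nat_lit 5, nat_lit 6, nat_lit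 4, nat_lit 5, nat_lit 3, nat_lit 4, nat_lit 2, nat_lit 3, nat_lit 8, nat_lit 0, nat_lit 1, nat_lit 2, nat_lit 3, nat_lit 4, nat_lit 5, nat_lit 6, nat_lit 7, nat_lit 6, nat_lit 5, nat_lit 4, nat_lit 3, nat_lit 8, nat_lit 2, nat_lit 3, nat_lit 4, nat_lit 5, nat_lit 4, nat_lit 9, nat_lit 2, nat_lit 14, nat_lit 16] (Rl.sk (nat_lit 1632) (nat_lit 1640)))) (FT.leaf (Fct.mk false (nat_lit 27) (nat_lit 0) (nat_lit 27) [nat_lit 5, nat_lit 6, nat_lit 4, nat_lit 5, nat_lit 3, nat_lit 4, nat_lit 2, nat_lit 3, nat_lit 8, nat_lit 0, nat_lit 1, nat_lit 2, nat_lit 3, nat_lit 4, nat_lit 5, nat_lit 6, nat_lit 7, nat_lit 6, nat_lit 5, nat_lit 4, nat_lit 3, nat_lit 8, nat_lit 2, nat_lit 3, nat_lit 4, nat_lit 5, nat_lit 2, nat_lit 1, nat_lit 4, nat_lit 3, nat_lit 2, nat_lit 0, nat_lit 1, nat_lit 9, nat_lit 4, nat_lit 3, nat_lit 2, nat_lit 8, nat_lit 3, nat_lit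 8, nat_lit 12, nat_lit 15, nat_lit 14, nat_lit 17] (Rl.cmp (nat_lit 1641) (nat_lit 1375))))))) (FT.node (nat_lit 1646) (FT.node (nat_lit 1644) (FT.leaf (Fct.mk false (nat_lit 27) (nat_lit 0) (nat_lit 27) [nat_lit 6, nat_lit 2, nat_lit 1, nat_lit 3, nat_lit 2, nat_lit 0, nat_lit 1, nat_lit 4, nat_lit 3, nat_lit 2, nat_lit 8, nat_lit 3, nat_lit 8, nat_lit 10, nat_lit 8, nat_lit 12, nat_lit 15, nat_lit 14] (Rl.einv (nat_lit 1370)))) (FT.node (nat_lit 1645) (FT.leaf (Fct.mk false (nat_lit 27) (nat_lit 0) (nat_lit 27) [nat_lit 5, nat_lit 6, nat_lit 4, nat_lit 5, nat_lit 3, nat_lit 4, nat_lit 2, nat_lit 3, nat_lit 8, nat_lit 0, nat_lit 1, nat_lit 2, nat_lit 3, nat_lit 4, nat_lit 5, nat_lit 6, nat_lit 7, nat_lit 6, nat_lit 5, nat_lit 4, nat_lit 3, nat_lit 8, nat_lit 1, nat_lit 2, nat_lit 3, nat_lit 4, nat_lit 5, nat_lit 4, nat_lit 11, nat_lit 10,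 nat_lit 1, nat_lit 13, nat_lit 16] (Rl.cmp (nat_lit 1643) (nat_lit 1642)))) (FT.leaf (Fct.mk false (nat_lit 28) (nat_lit 0) (nat_lit 28) [nat_lit 11, nat_lit 2, nat_lit 10, nat_lit 1, nat_lit 16, nat_lit 15, nat_lit 14, nat_lit 13, nat_lit 16] (Rl.sk (nat_lit 1390) (nat_lit 1644)))))) (FT.node (nat_lit 1648) (FT.node (nat_lit 1647) (FT.leaf (Fct.mk false (nat_lit 28) (nat_lit 0) (nat_lit 28) [nat_lit 1, nat_lit 3, nat_lit 2, nat_lit 0, nat_lit 1, nat_lit 4, nat_lit 3, nat_lit 2, nat_lit 8, nat_lit 3, nat_lit 8, nat_lit 10, nat_lit 0, nat_lit 8, nat_lit 12, nat_lit 15, nat_lit 14] (Rl.cmp (nat_lit 1389) (nat_lit 1384)))) (FT.leaf (Fct.mk false (nat_lit 28) (nat_lit 0) (nat_lit 28) [nat_lit 0, nat_lit 2] (Rl.cmp (nat_lit 1400) (nat_lit 1646))))) (FT.node (nat_lit 1649) (FT.leaf (Fct.mk false (nat_lit 28) (nat_lit 0) (nat_lit 28) [nat_lit 0, nat_lit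 16, nat_lit 14, nat_lit 16] (Rl.cmp (nat_lit 1645) (nat_lit 1647)))) (FT.leaf (Fct.mk true (nat_lit 28) (nat_lit 4560) (nat_lit 26) [nat_lit 3, nat_lit 8, nat_lit 0, nat_lit 1, nat_lit 2, nat_lit 3, nat_lit 4, nat_lit 5, nat_lit 4, nat_lit 3, nat_lit 2, nat_lit 1, nat_lit 8, nat_lit 3, nat_lit 2, nat_lit 0, nat_lit 1, nat_lit 4, nat_lit 3, nat_lit 2, nat_lit 8, nat_lit 3, nat_lit 8, nat_lit 10, nat_lit 9, nat_lit 2, nat_lit 16, nat_lit 15, nat_lit 14, nat_lit 17, nat_lit 18] (Rl.t1 (nat_lit 1474) (nat_lit 1648)))))))))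

/-- some facts -/
noncomputable def ftc33 : FT := FT.node (nat_lit 1675) (FT.node (nat_lit 1662) (FT.node (nat_lit 1656) (FT.node (nat_lit 1653) (FT.node (nat_lit 1651) (FT.leaf (Fct.mk false (nat_lit 28) (nat_lit 0) (nat_lit 28) [nat_lit 5, nat_lit 3, nat_lit 0, nat_lit 2] (Rl.cmp (nat_lit 1401) (nat_lit 1400)))) (FT.node (nat_lit 1652) (FT.leaf (Fct.mk false (nat_lit 28) (nat_lit 0) (nat_lit 28) [nat_lit 5, nat_lit 2, nat_lit 3, nat_lit 0, nat_lit 2, nat_lit 16, nat_lit 14, nat_lit 16] (Rl.cmp (nat_lit 1645) (nat_lit 1650)))) (FT.leaf (Fct.mk false (nat_lit 28) (nat_lit 0) (nat_lit 28) [nat_lit 1, nat_lit 3, nat_lit 2, nat_lit 0, nat_lit 1, nat_lit 4, nat_lit 3, nat_lit 2, nat_lit 8, nat_lit 3, nat_lit 11, nat_lit 2, nat_lit 16, nat_lit 15, nat_lit 14, nat_lit 8, nat_lit 19] (Rl.cmp (nat_lit 1645) (nat_lit 1389)))))) (FT.node (nat_lit 1654)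 (FT.leaf (Fct.mk false (nat_lit 28) (nat_lit 0) (nat_lit 28) [nat_lit 2, nat_lit 3, nat_lit 0, nat_lit 2, nat_lit 16, nat_lit 14, nat_lit 16] (Rl.cmp (nat_lit 1652) (nat_lit 1400)))) (FT.node (nat_lit 1655) (FT.leaf (Fct.mk false (nat_lit 28) (nat_lit 0) (nat_lit 28) [nat_lit 5, nat_lit 1, nat_lit 2, nat_lit 0, nat_lit 1, nat_lit 4, nat_lit 3, nat_lit 2, nat_lit 8, nat_lit 3, nat_lit 10, nat_lit 16, nat_lit 12, nat_lit 15, nat_lit 14, nat_lit 17] (Rl.cmp (nat_lit 1653) (nat_lit 1401)))) (FT.leaf (Fct.mk false (nat_lit 28) (nat_lit 0) (nat_lit 28) [nat_lit 5, nat_lit 2, nat_lit 3, nat_lit 0, nat_lit 2, nat_lit 16, nat_lit 14, nat_lit 16] (Rl.cmp (nat_lit 1654) (nat_lit 1389))))))) (FT.node (nat_lit 1659) (FT.node (nat_lit 1657) (FT.leaf (Fct.mk false (nat_lit 28) (nat_lit 0) (nat_lit 28) [nat_lit 5, nat_lit 2, nat_lit 3, nat_lit 16, nat_lit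 14, nat_lit 16] (Rl.cmp (nat_lit 1655) (nat_lit 1645)))) (FT.node (nat_lit 1658) (FT.leaf (Fct.mk false (nat_lit 28) (nat_lit 0) (nat_lit 28) [nat_lit 5, nat_lit 2, nat_lit 3, nat_lit 11, nat_lit 2, nat_lit 10, nat_lit 1, nat_lit 16, nat_lit 14, nat_lit 13, nat_lit 16] (Rl.einv (nat_lit 1651)))) (FT.leaf (Fct.mk false (nat_lit 28) (nat_lit 0) (nat_lit 28) [nat_lit 11, nat_lit 2, nat_lit 10, nat_lit 1, nat_lit 16, nat_lit 15, nat_lit 14, nat_lit 13, nat_lit 16] (Rl.cmp (nat_lit 1657) (nat_lit 1656)))))) (FT.node (nat_lit 1660) (FT.leaf (Fct.mk false (nat_lit 29) (nat_lit 0) (nat_lit 29) [nat_lit 3, nat_lit 8, nat_lit 2, nat_lit 3, nat_lit 4, nat_lit 5, nat_lit 4, nat_lit 3, nat_lit 2, nat_lit 8, nat_lit 3, nat_lit 2] (Rl.sk (nat_lit 1443) (nat_lit 1658)))) (FT.node (nat_lit 1661) (FT.leaf (Fct.mk false (nat_lit 29) (nat_lit 0) (nat_lit 29) [nat_lit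 2, nat_lit 3, nat_lit 8, nat_lit 5, nat_lit 6, nat_lit 4, nat_lit 5, nat_lit 3, nat_lit 4, nat_lit 2, nat_lit 3, nat_lit 8, nat_lit 1, nat_lit 2, nat_lit 3, nat_lit 4, nat_lit 5, nat_lit 2, nat_lit 3, nat_lit 8, nat_lit 10, nat_lit 9, nat_lit 2, nat_lit 14, nat_lit 8] (Rl.cmp (nat_lit 1659) (nat_lit 1428)))) (FT.leaf (Fct.mk false (nat_lit 29) (nat_lit 0) (nat_lit 29) [nat_lit 4, nat_lit 3, nat_lit 8, nat_lit 2, nat_lit 3, nat_lit 4, nat_lit 5, nat_lit 4, nat_lit 3, nat_lit 2, nat_lit 8, nat_lit 3] (Rl.cmp (nat_lit 1433) (nat_lit 1660)))))))) (FT.node (nat_lit 1668) (FT.node (nat_lit 1665) (FT.node (nat_lit 1663) (FT.leaf (Fct.mk true (nat_lit 29) (nat_lit 118) (nat_lit 28) [nat_lit 5, nat_lit 4, nat_lit 3, nat_lit 8, nat_lit 2, nat_lit 3, nat_lit 4, nat_lit 5, nat_lit 0, nat_lit 1, nat_lit 9, nat_lit 4, nat_lit 3, nat_lit 2, nat_lit 8, nat_lit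 3, nat_lit 11, nat_lit 2, nat_lit 16, nat_lit 14, nat_lit 13, nat_lit 12, nat_lit 19] (Rl.t1 (nat_lit 1444) (nat_lit 1661)))) (FT.node (nat_lit 1664) (FT.leaf (Fct.mk false (nat_lit 29) (nat_lit 0) (nat_lit 29) [nat_lit 2, nat_lit 3, nat_lit 8, nat_lit 5, nat_lit 6, nat_lit 4, nat_lit 5, nat_lit 3, nat_lit 4, nat_lit 2, nat_lit 3, nat_lit 8, nat_lit 1, nat_lit 2, nat_lit 3, nat_lit 4, nat_lit 5, nat_lit 2, nat_lit 3, nat_lit 8, nat_lit 10, nat_lit 9, nat_lit 2, nat_lit 14, nat_lit 8] (Rl.cmp (nat_lit 1659) (nat_lit 1428)))) (FT.leaf (Fct.mk false (nat_lit 29) (nat_lit 0) (nat_lit 29) [nat_lit 4, nat_lit 3, nat_lit 8, nat_lit 2, nat_lit 3, nat_lit 4, nat_lit 5, nat_lit 4, nat_lit 3, nat_lit 2, nat_lit 8, nat_lit 3] (Rl.cmp (nat_lit 1433) (nat_lit 1663)))))) (FT.node (nat_lit 1666) (FT.leaf (Fct.mk true (nat_lit 29) (nat_lit 163) (nat_lit 25)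 [nat_lit 4, nat_lit 1, nat_lit 2, nat_lit 3, nat_lit 8, nat_lit 5, nat_lit 6, nat_lit 4, nat_lit 5, nat_lit 3, nat_lit 4, nat_lit 2, nat_lit 3, nat_lit 8, nat_lit 1, nat_lit 2, nat_lit 3, nat_lit 4, nat_lit 5, nat_lit 1, nat_lit 8, nat_lit 4, nat_lit 3, nat_lit 2, nat_lit 0, nat_lit 1, nat_lit 9, nat_lit 4, nat_lit 3, nat_lit 2, nat_lit 8, nat_lit 3, nat_lit 8, nat_lit 10, nat_lit 0, nat_lit 12, nat_lit 15, nat_lit 14, nat_lit 8, nat_lit 16] (Rl.t1 (nat_lit 1462) (nat_lit 1664)))) (FT.node (nat_lit 1667) (FT.leaf (Fct.mk false (nat_lit 29) (nat_lit 0) (nat_lit 29) [nat_lit 6, nat_lit 5, nat_lit 4, nat_lit 3, nat_lit 8, nat_lit 1, nat_lit 2, nat_lit 3, nat_lit 4, nat_lit 5, nat_lit 4, nat_lit 1, nat_lit 16, nat_lit 14, nat_lit 8, nat_lit 16] (Rl.cmp (nat_lit 1433) (nat_lit 1428)))) (FT.leaf (Fct.mk false (nat_lit 29) (nat_lit 0) (nat_lit 29)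 [nat_lit 6, nat_lit 5, nat_lit 4, nat_lit 2, nat_lit 3, nat_lit 8, nat_lit 1, nat_lit 2, nat_lit 3, nat_lit 4, nat_lit 5, nat_lit 1, nat_lit 16, nat_lit 14, nat_lit 16, nat_lit 8, nat_lit 16] (Rl.cmp (nat_lit 1666) (nat_lit 1433))))))) (FT.node (nat_lit 1671) (FT.node (nat_lit 1669) (FT.leaf (Fct.mk false (nat_lit 29) (nat_lit 0) (nat_lit 29) [nat_lit 2, nat_lit 3, nat_lit 8, nat_lit 5, nat_lit 6, nat_lit 4, nat_lit 5, nat_lit 3, nat_lit 4, nat_lit 2, nat_lit 3, nat_lit 8, nat_lit 1, nat_lit 2, nat_lit 3, nat_lit 4, nat_lit 5, nat_lit 2, nat_lit 3, nat_lit 8, nat_lit 10, nat_lit 9, nat_lit 2, nat_lit 14, nat_lit 8] (Rl.cmp (nat_lit 1667) (nat_lit 1659)))) (FT.node (nat_lit 1670) (FT.leaf (Fct.mk false (nat_lit 29) (nat_lit 0) (nat_lit 29) [nat_lit 3, nat_lit 8, nat_lit 2, nat_lit 3, nat_lit 4, nat_lit 5, nat_lit 10, nat_lit 12, nat_lit 18]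 (Rl.cmp (nat_lit 1668) (nat_lit 1430)))) (FT.leaf (Fct.mk false (nat_lit 29) (nat_lit 0) (nat_lit 29) [nat_lit 3, nat_lit 8, nat_lit 2, nat_lit 3, nat_lit 4, nat_lit 5, nat_lit 4, nat_lit 3, nat_lit 2, nat_lit 8, nat_lit 3, nat_lit 2] (Rl.einv (nat_lit 1659)))))) (FT.node (nat_lit 1673) (FT.node (nat_lit 1672) (FT.leaf (Fct.mk false (nat_lit 29) (nat_lit 0) (nat_lit 29) [nat_lit 4] (Rl.cmp (nat_lit 1670) (nat_lit 1669)))) (FT.leaf (Fct.mk false (nat_lit 25) (nat_lit 0) (nat_lit 25) [nat_lit 85] (Rl.sk (nat_lit 1665) (nat_lit 1671))))) (FT.node (nat_lit 1674) (FT.leaf (Fct.mk false (nat_lit 25) (nat_lit 0) (nat_lit 25) [nat_lit 5, nat_lit 3, nat_lit 4, nat_lit 1, nat_lit 2, nat_lit 3, nat_lit 8, nat_lit 0, nat_lit 1, nat_lit 2, nat_lit 3, nat_lit 4, nat_lit 5, nat_lit 1, nat_lit 2, nat_lit 0, nat_lit 1, nat_lit 3, nat_lit 2, nat_lit 8, nat_lit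 3, nat_lit 11, nat_lit 2, nat_lit 8, nat_lit 10, nat_lit 1, nat_lit 12, nat_lit 15, nat_lit 16, nat_lit 8, nat_lit 18] (Rl.cmp (nat_lit 1258) (nat_lit 1247)))) (FT.leaf (Fct.mk false (nat_lit 25) (nat_lit 0) (nat_lit 25) [nat_lit 6, nat_lit 5, nat_lit 4, nat_lit 3, nat_lit 8, nat_lit 2, nat_lit 3, nat_lit 4, nat_lit 5, nat_lit 1, nat_lit 2, nat_lit 0, nat_lit 1, nat_lit 3, nat_lit 2, nat_lit 8, nat_lit 3, nat_lit 11, nat_lit 10, nat_lit 8, nat_lit 12, nat_lit 15, nat_lit 14, nat_lit 13, nat_lit 19] (Rl.cmp (nat_lit 1672) (nat_lit 1673))))))))) (FT.node (nat_lit 1687) (FT.node (nat_lit 1681) (FT.node (nat_lit 1678) (FT.node (nat_lit 1676) (FT.leaf (Fct.mk true (nat_lit 25) (nat_lit 54) (nat_lit 26) [nat_lit 1, nat_lit 2, nat_lit 3, nat_lit 8, nat_lit 4, nat_lit 5, nat_lit 3, nat_lit 4, nat_lit 2, nat_lit 3, nat_lit 8, nat_lit 1, nat_lit 2, nat_lit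 3, nat_lit 4, nat_lit 5, nat_lit 0, nat_lit 1, nat_lit 9, nat_lit 4, nat_lit 3, nat_lit 2, nat_lit 8, nat_lit 3, nat_lit 10, nat_lit 1, nat_lit 16, nat_lit 12, nat_lit 15, nat_lit 14, nat_lit 17, nat_lit 12] (Rl.t1 (nat_lit 1467) (nat_lit 1674)))) (FT.node (nat_lit 1677) (FT.leaf (Fct.mk false (nat_lit 25) (nat_lit 0) (nat_lit 25) [nat_lit 5, nat_lit 3, nat_lit 4, nat_lit 1, nat_lit 2, nat_lit 3, nat_lit 8, nat_lit 0, nat_lit 1, nat_lit 2, nat_lit 3, nat_lit 4, nat_lit 5, nat_lit 1, nat_lit 2, nat_lit 0, nat_lit 1, nat_lit 3, nat_lit 2, nat_lit 8, nat_lit 3, nat_lit 11, nat_lit 2, nat_lit 8, nat_lit 10, nat_lit 1, nat_lit 12, nat_lit 15, nat_lit 16, nat_lit 8, nat_lit 18] (Rl.cmp (nat_lit 1258) (nat_lit 1247)))) (FT.leaf (Fct.mk false (nat_lit 25) (nat_lit 0) (nat_lit 25) [nat_lit 6, nat_lit 5, nat_lit 4, nat_lit 3, nat_lit 8, nat_lit 2, nat_lit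 3, nat_lit 4, nat_lit 5, nat_lit 1, nat_lit 2, nat_lit 0, nat_lit 1, nat_lit 3, nat_lit 2, nat_lit 8, nat_lit 3, nat_lit 11, nat_lit 10, nat_lit 8, nat_lit 12, nat_lit 15, nat_lit 14, nat_lit 13, nat_lit 19] (Rl.cmp (nat_lit 1672) (nat_lit 1676)))))) (FT.node (nat_lit 1679) (FT.leaf (Fct.mk false (nat_lit 25) (nat_lit 0) (nat_lit 25) [nat_lit 5, nat_lit 4, nat_lit 3, nat_lit 8, nat_lit 2, nat_lit 3, nat_lit 4, nat_lit 5, nat_lit 1, nat_lit 2, nat_lit 0, nat_lit 1, nat_lit 4, nat_lit 3, nat_lit 2, nat_lit 8, nat_lit 3, nat_lit 11, nat_lit 8, nat_lit 10, nat_lit 1, nat_lit 8, nat_lit 12, nat_lit 15, nat_lit 14, nat_lit 17] (Rl.cmp (nat_lit 1258) (nat_lit 1677)))) (FT.node (nat_lit 1680) (FT.leaf (Fct.mk true (nat_lit 25) (nat_lit 90) (nat_lit 26) [nat_lit 2, nat_lit 3, nat_lit 8, nat_lit 6, nat_lit 4, nat_lit 5, nat_lit 3, nat_lit 4, nat_lit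 2, nat_lit 3, nat_lit 8, nat_lit 1, nat_lit 2, nat_lit 3, nat_lit 4, nat_lit 5, nat_lit 3, nat_lit 2, nat_lit 8, nat_lit 3, nat_lit 11, nat_lit 8, nat_lit 10, nat_lit 12, nat_lit 8, nat_lit 16, nat_lit 14, nat_lit 8, nat_lit 18] (Rl.t1 (nat_lit 1495) (nat_lit 1678)))) (FT.leaf (Fct.mk false (nat_lit 26) (nat_lit 0) (nat_lit 26) [nat_lit 8, nat_lit 6, nat_lit 5, nat_lit 3, nat_lit 4, nat_lit 2, nat_lit 3, nat_lit 8, nat_lit 0, nat_lit 1, nat_lit 2, nat_lit 3, nat_lit 4, nat_lit 5, nat_lit 2, nat_lit 3, nat_lit 8, nat_lit 4, nat_lit 3, nat_lit 2, nat_lit 0, nat_lit 1, nat_lit 9, nat_lit 4, nat_lit 3, nat_lit 2, nat_lit 8, nat_lit 3, nat_lit 9, nat_lit 10, nat_lit 2, nat_lit 8, nat_lit 10, nat_lit 1, nat_lit 17, nat_lit 12, nat_lit 19, nat_lit 16] (Rl.cc (nat_lit 1305) (nat_lit 1679))))))) (FT.node (nat_lit 1684) (FT.node (nat_lit 1682) (FT.leaf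 (Fct.mk false (nat_lit 25) (nat_lit 0) (nat_lit 25) [nat_lit 6, nat_lit 4, nat_lit 0, nat_lit 2] (Rl.cmp (nat_lit 1258) (nat_lit 1237)))) (FT.node (nat_lit 1683) (FT.leaf (Fct.mk false (nat_lit 25) (nat_lit 0) (nat_lit 25) [nat_lit 8, nat_lit 5, nat_lit 2, nat_lit 3, nat_lit 4, nat_lit 1, nat_lit 2, nat_lit 3, nat_lit 8, nat_lit 0, nat_lit 1, nat_lit 2, nat_lit 3, nat_lit 4, nat_lit 5, nat_lit 4, nat_lit 10, nat_lit 1, nat_lit 8, nat_lit 12, nat_lit 15, nat_lit 14, nat_lit 13, nat_lit 12, nat_lit 19] (Rl.cmp (nat_lit 1672) (nat_lit 1681)))) (FT.leaf (Fct.mk true (nat_lit 25) (nat_lit 435) (nat_lit 31) [nat_lit 4, nat_lit 1, nat_lit 2, nat_lit 3, nat_lit 8, nat_lit 5, nat_lit 6, nat_lit 4, nat_lit 5, nat_lit 3, nat_lit 4, nat_lit 2, nat_lit 3, nat_lit 8, nat_lit 1, nat_lit 2, nat_lit 3, nat_lit 4, nat_lit 5, nat_lit 3, nat_lit 2, nat_lit 1,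 nat_lit 9, nat_lit 4, nat_lit 3, nat_lit 2, nat_lit 8, nat_lit 3, nat_lit 11, nat_lit 9, nat_lit 10, nat_lit 2, nat_lit 8, nat_lit 10, nat_lit 1, nat_lit 12, nat_lit 8, nat_lit 16, nat_lit 14, nat_lit 17, nat_lit 12, nat_lit 16] (Rl.t1 (nat_lit 1561) (nat_lit 1682)))))) (FT.node (nat_lit 1685) (FT.leaf (Fct.mk false (nat_lit 26) (nat_lit 0) (nat_lit 26) [nat_lit 8, nat_lit 6, nat_lit 5, nat_lit 3, nat_lit 4, nat_lit 2, nat_lit 3, nat_lit 8, nat_lit 0, nat_lit 1, nat_lit 2, nat_lit 3, nat_lit 4, nat_lit 5, nat_lit 8, nat_lit 3, nat_lit 11, nat_lit 9, nat_lit 10, nat_lit 2, nat_lit 8, nat_lit 10, nat_lit 1, nat_lit 8, nat_lit 16, nat_lit 15, nat_lit 14, nat_lit 12, nat_lit 19, nat_lit 16] (Rl.cmp (nat_lit 1680) (nat_lit 1299)))) (FT.node (nat_lit 1686) (FT.leaf (Fct.mk false (nat_lit 26) (nat_lit 0) (nat_lit 26) [nat_lit 8, nat_lit 4, nat_lit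 5, nat_lit 3, nat_lit 4, nat_lit 2, nat_lit 3, nat_lit 8, nat_lit 1, nat_lit 2, nat_lit 3, nat_lit 4, nat_lit 5, nat_lit 3, nat_lit 2, nat_lit 8, nat_lit 3, nat_lit 11, nat_lit 9, nat_lit 10, nat_lit 2, nat_lit 8, nat_lit 10, nat_lit 1, nat_lit 8, nat_lit 16, nat_lit 15, nat_lit 14, nat_lit 12, nat_lit 18, nat_lit 16] (Rl.cmp (nat_lit 1302) (nat_lit 1684)))) (FT.leaf (Fct.mk true (nat_lit 26) (nat_lit 12) (nat_lit 25) [nat_lit 6, nat_lit 4, nat_lit 5, nat_lit 3, nat_lit 4, nat_lit 2, nat_lit 3, nat_lit 8, nat_lit 0, nat_lit 1, nat_lit 2, nat_lit 3, nat_lit 4, nat_lit 5, nat_lit 4, nat_lit 9, nat_lit 2, nat_lit 16, nat_lit 14, nat_lit 13, nat_lit 12, nat_lit 19, nat_lit 16] (Rl.t1 (nat_lit 1307) (nat_lit 1685)))))))) (FT.node (nat_lit 1693) (FT.node (nat_lit 1690) (FT.node (nat_lit 1688) (FT.leaf (Fct.mk false (nat_lit 26) (nat_lit 0) (nat_lit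 26) [nat_lit 2, nat_lit 1, nat_lit 3, nat_lit 2, nat_lit 0, nat_lit 1, nat_lit 4, nat_lit 3, nat_lit 2, nat_lit 8, nat_lit 3, nat_lit 10, nat_lit 1, nat_lit 8, nat_lit 12, nat_lit 15, nat_lit 14, nat_lit 12, nat_lit 18] (Rl.cmp (nat_lit 1299) (nat_lit 1287)))) (FT.node (nat_lit 1689) (FT.leaf (Fct.mk false (nat_lit 26) (nat_lit 0) (nat_lit 26) [nat_lit 8, nat_lit 6, nat_lit 5, nat_lit 3, nat_lit 4, nat_lit 2, nat_lit 3, nat_lit 8, nat_lit 0, nat_lit 1, nat_lit 2, nat_lit 3, nat_lit 4, nat_lit 5, nat_lit 3, nat_lit 2, nat_lit 1, nat_lit 8, nat_lit 3, nat_lit 2, nat_lit 0, nat_lit 1, nat_lit 4, nat_lit 3, nat_lit 2, nat_lit 8, nat_lit 3, nat_lit 11, nat_lit 9, nat_lit 10, nat_lit 2, nat_lit 8, nat_lit 10, nat_lit 1, nat_lit 13, nat_lit 12, nat_lit 18, nat_lit 16] (Rl.cmp (nat_lit 1680) (nat_lit 1687)))) (FT.leaf (Fct.mk false (nat_lit 26) (nat_lit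 0) (nat_lit 26) [nat_lit 8, nat_lit 4, nat_lit 5, nat_lit 3, nat_lit 4, nat_lit 2, nat_lit 3, nat_lit 8, nat_lit 1, nat_lit 2, nat_lit 3, nat_lit 4, nat_lit 5, nat_lit 4, nat_lit 3, nat_lit 2, nat_lit 1, nat_lit 8, nat_lit 3, nat_lit 2, nat_lit 0, nat_lit 1, nat_lit 4, nat_lit 3, nat_lit 2, nat_lit 8, nat_lit 3, nat_lit 11, nat_lit 9, nat_lit 10, nat_lit 2, nat_lit 8, nat_lit 10, nat_lit 1, nat_lit 13, nat_lit 12, nat_lit 18] (Rl.cmp (nat_lit 1302) (nat_lit 1688)))))) (FT.node (nat_lit 1691) (FT.leaf (Fct.mk true (nat_lit 26) (nat_lit 725) (nat_lit 5) [nat_lit 4, nat_lit 5, nat_lit 3, nat_lit 4, nat_lit 2, nat_lit 3, nat_lit 8, nat_lit 1, nat_lit 2, nat_lit 3, nat_lit 4, nat_lit 5, nat_lit 4, nat_lit 3, nat_lit 2, nat_lit 1, nat_lit 8, nat_lit 3, nat_lit 2, nat_lit 0, nat_lit 1, nat_lit 4, nat_lit 3, nat_lit 2, nat_lit 8, nat_lit 3, nat_lit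 1, nat_lit 9, nat_lit 12, nat_lit 15, nat_lit 8, nat_lit 16] (Rl.t1 (nat_lit 1323) (nat_lit 1689)))) (FT.node (nat_lit 1692) (FT.leaf (Fct.mk false (nat_lit 26) (nat_lit 0) (nat_lit 26) [nat_lit 8, nat_lit 6, nat_lit 5, nat_lit 3, nat_lit 4, nat_lit 2, nat_lit 3, nat_lit 8, nat_lit 0, nat_lit 1, nat_lit 2, nat_lit 3, nat_lit 4, nat_lit 5, nat_lit 8, nat_lit 3, nat_lit 11, nat_lit 9, nat_lit 10, nat_lit 2, nat_lit 8, nat_lit 10, nat_lit 1, nat_lit 8, nat_lit 16, nat_lit 15, nat_lit 14, nat_lit 12, nat_lit 19, nat_lit 16] (Rl.cmp (nat_lit 1680) (nat_lit 1299)))) (FT.leaf (Fct.mk true (nat_lit 26) (nat_lit 8) (nat_lit 31) [nat_lit 3, nat_lit 8, nat_lit 5, nat_lit 6, nat_lit 4, nat_lit 5, nat_lit 3, nat_lit 4, nat_lit 1, nat_lit 2, nat_lit 3, nat_lit 8, nat_lit 0, nat_lit 1, nat_lit 2, nat_lit 3, nat_lit 4, nat_lit 5, nat_lit 1, nat_lit 3, nat_lit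 2, nat_lit 8, nat_lit 3, nat_lit 1, nat_lit 9, nat_lit 8, nat_lit 12, nat_lit 15, nat_lit 14, nat_lit 16, nat_lit 8, nat_lit 18, nat_lit 16] (Rl.t1 (nat_lit 1580) (nat_lit 1691))))))) (FT.node (nat_lit 1696) (FT.node (nat_lit 1694) (FT.leaf (Fct.mk false (nat_lit 26) (nat_lit 0) (nat_lit 26) [nat_lit 2, nat_lit 3, nat_lit 8, nat_lit 4, nat_lit 5, nat_lit 3, nat_lit 4, nat_lit 2, nat_lit 3, nat_lit 8, nat_lit 1, nat_lit 2, nat_lit 3, nat_lit 4, nat_lit 5, nat_lit 4, nat_lit 3, nat_lit 2, nat_lit 1, nat_lit 9, nat_lit 4, nat_lit 3, nat_lit 2, nat_lit 8, nat_lit 3, nat_lit 11, nat_lit 2, nat_lit 10, nat_lit 1, nat_lit 8, nat_lit 16, nat_lit 15, nat_lit 14, nat_lit 17, nat_lit 12, nat_lit 16] (Rl.cmp (nat_lit 1309) (nat_lit 1680)))) (FT.node (nat_lit 1695) (FT.leaf (Fct.mk false (nat_lit 26) (nat_lit 0) (nat_lit 26) [nat_lit 6, nat_lit 8, nat_lit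 10, nat_lit 0, nat_lit 12, nat_lit 18] (Rl.cmp (nat_lit 1309) (nat_lit 1287)))) (FT.leaf (Fct.mk false (nat_lit 26) (nat_lit 0) (nat_lit 26) [nat_lit 6, nat_lit 3, nat_lit 2, nat_lit 8, nat_lit 3, nat_lit 8, nat_lit 10, nat_lit 0, nat_lit 12, nat_lit 18] (Rl.cmp (nat_lit 1694) (nat_lit 1299)))))) (FT.node (nat_lit 1698) (FT.node (nat_lit 1697) (FT.leaf (Fct.mk false (nat_lit 26) (nat_lit 0) (nat_lit 26) [nat_lit 8, nat_lit 4, nat_lit 5, nat_lit 3, nat_lit 4, nat_lit 2, nat_lit 3, nat_lit 8, nat_lit 1, nat_lit 2, nat_lit 3, nat_lit 4, nat_lit 5, nat_lit 8, nat_lit 3, nat_lit 2, nat_lit 0, nat_lit 1, nat_lit 9, nat_lit 4, nat_lit 3, nat_lit 2, nat_lit 8, nat_lit 3, nat_lit 9, nat_lit 10, nat_lit 2, nat_lit 8, nat_lit 10, nat_lit 1, nat_lit 17, nat_lit 12, nat_lit 18, nat_lit 16] (Rl.cmp (nat_lit 1695) (nat_lit 1680)))) (FT.leaf (Fct.mk false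 (nat_lit 26) (nat_lit 0) (nat_lit 26) [nat_lit 6, nat_lit 5, nat_lit 4, nat_lit 3, nat_lit 8, nat_lit 0, nat_lit 1, nat_lit 2, nat_lit 3, nat_lit 4, nat_lit 5, nat_lit 2, nat_lit 3, nat_lit 8, nat_lit 4, nat_lit 3, nat_lit 2, nat_lit 0, nat_lit 1, nat_lit 9, nat_lit 4, nat_lit 3, nat_lit 2, nat_lit 8, nat_lit 3, nat_lit 2, nat_lit 10, nat_lit 1, nat_lit 16, nat_lit 14, nat_lit 17, nat_lit 19, nat_lit 16] (Rl.cmp (nat_lit 1696) (nat_lit 1302))))) (FT.node (nat_lit 1699) (FT.leaf (Fct.mk false (nat_lit 26) (nat_lit 0) (nat_lit 26) [nat_lit 8, nat_lit 4, nat_lit 5, nat_lit 3, nat_lit 4, nat_lit 2, nat_lit 3, nat_lit 8, nat_lit 1, nat_lit 2, nat_lit 3, nat_lit 4, nat_lit 5, nat_lit 4, nat_lit 3, nat_lit 2, nat_lit 8, nat_lit 3, nat_lit 11, nat_lit 9, nat_lit 10, nat_lit 2, nat_lit 8, nat_lit 10, nat_lit 1, nat_lit 8, nat_lit 16, nat_lit 15, nat_lit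 14, nat_lit 12, nat_lit 18, nat_lit 16] (Rl.cmp (nat_lit 1697) (nat_lit 1302)))) (FT.leaf (Fct.mk false (nat_lit 26) (nat_lit 0) (nat_lit 26) [nat_lit 3, nat_lit 8, nat_lit 4, nat_lit 5, nat_lit 3, nat_lit 4, nat_lit 2, nat_lit 3, nat_lit 8, nat_lit 1, nat_lit 2, nat_lit 3, nat_lit 4, nat_lit 5, nat_lit 3, nat_lit 2, nat_lit 1, nat_lit 9, nat_lit 4, nat_lit 3, nat_lit 2, nat_lit 8, nat_lit 3, nat_lit 11, nat_lit 2, nat_lit 8, nat_lit 10, nat_lit 1, nat_lit 8, nat_lit 16, nat_lit 15, nat_lit 14, nat_lit 13, nat_lit 12, nat_lit 18, nat_lit 16] (Rl.einv (nat_lit 1693)))))))))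

/-- some facts -/
noncomputable def ftc34 : FT := FT.node (nat_lit 1725) (FT.node (nat_lit 1712) (FT.node (nat_lit 1706) (FT.node (nat_lit 1703) (FT.node (nat_lit 1701) (FT.leaf (Fct.mk false (nat_lit 26) (nat_lit 0) (nat_lit 26) [nat_lit 6, nat_lit 5, nat_lit 4, nat_lit 3, nat_lit 8, nat_lit 2, nat_lit 3, nat_lit 4, nat_lit 5, nat_lit 2, nat_lit 3, nat_lit 10, nat_lit 9, nat_lit 2, nat_lit 16, nat_lit 8, nat_lit 18, nat_lit 16] (Rl.cmp (nat_lit 1699) (nat_lit 1698)))) (FT.node (nat_lit 1702) (FT.leaf (Fct.mk false (nat_lit 31) (nat_lit 0) (nat_lit 31) [nat_lit 6, nat_lit 5, nat_lit 4, nat_lit 3, nat_lit 8, nat_lit 2, nat_lit 3, nat_lit 4, nat_lit 5, nat_lit 4, nat_lit 10, nat_lit 9, nat_lit 2, nat_lit 8, nat_lit 18, nat_lit 16] (Rl.sk (nat_lit 1692) (nat_lit 1700)))) (FT.leaf (Fct.mk false (nat_lit 31) (nat_lit 0) (nat_lit 31) [nat_lit 0,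 nat_lit 1, nat_lit 2, nat_lit 3, nat_lit 4, nat_lit 5, nat_lit 1, nat_lit 2, nat_lit 0, nat_lit 1, nat_lit 9, nat_lit 4, nat_lit 3, nat_lit 2, nat_lit 8, nat_lit 3, nat_lit 8, nat_lit 10, nat_lit 9, nat_lit 2, nat_lit 16, nat_lit 12, nat_lit 15, nat_lit 14, nat_lit 17, nat_lit 12] (Rl.cmp (nat_lit 1589) (nat_lit 1558)))))) (FT.node (nat_lit 1704) (FT.leaf (Fct.mk false (nat_lit 31) (nat_lit 0) (nat_lit 31) [nat_lit 5, nat_lit 6, nat_lit 4, nat_lit 5, nat_lit 3, nat_lit 4, nat_lit 2, nat_lit 3, nat_lit 8, nat_lit 0, nat_lit 1, nat_lit 2, nat_lit 3, nat_lit 4, nat_lit 5, nat_lit 1, nat_lit 3, nat_lit 2, nat_lit 0, nat_lit 1, nat_lit 4, nat_lit 3, nat_lit 2, nat_lit 8, nat_lit 3, nat_lit 11, nat_lit 8, nat_lit 10, nat_lit 8, nat_lit 12, nat_lit 15, nat_lit 14, nat_lit 16, nat_lit 8, nat_lit 19, nat_lit 16] (Rl.cmp (nat_lit 1701) (nat_lit 1589))))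 (FT.node (nat_lit 1705) (FT.leaf (Fct.mk false (nat_lit 31) (nat_lit 0) (nat_lit 31) [nat_lit 5, nat_lit 6, nat_lit 4, nat_lit 5, nat_lit 3, nat_lit 4, nat_lit 2, nat_lit 3, nat_lit 8, nat_lit 0, nat_lit 1, nat_lit 2, nat_lit 3, nat_lit 4, nat_lit 5, nat_lit 9, nat_lit 4, nat_lit 11, nat_lit 13, nat_lit 16] (Rl.cmp (nat_lit 1703) (nat_lit 1573)))) (FT.leaf (Fct.mk false (nat_lit 31) (nat_lit 0) (nat_lit 31) [nat_lit 6, nat_lit 5, nat_lit 4, nat_lit 3, nat_lit 8, nat_lit 2, nat_lit 3, nat_lit 4, nat_lit 5, nat_lit 1, nat_lit 8, nat_lit 3, nat_lit 2, nat_lit 0, nat_lit 1, nat_lit 9, nat_lit 4, nat_lit 3, nat_lit 2, nat_lit 8, nat_lit 3, nat_lit 11, nat_lit 10, nat_lit 1, nat_lit 8, nat_lit 12, nat_lit 15, nat_lit 14, nat_lit 16, nat_lit 8, nat_lit 18] (Rl.cmp (nat_lit 1704) (nat_lit 1589))))))) (FT.node (nat_lit 1709) (FT.node (nat_lit 1707)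 (FT.leaf (Fct.mk false (nat_lit 31) (nat_lit 0) (nat_lit 31) [nat_lit 5, nat_lit 6, nat_lit 4, nat_lit 5, nat_lit 3, nat_lit 4, nat_lit 2, nat_lit 3, nat_lit 8, nat_lit 0, nat_lit 1, nat_lit 2, nat_lit 3, nat_lit 4, nat_lit 5, nat_lit 9, nat_lit 4, nat_lit 11, nat_lit 13, nat_lit 16] (Rl.cmp (nat_lit 1705) (nat_lit 1589)))) (FT.node (nat_lit 1708) (FT.leaf (Fct.mk false (nat_lit 31) (nat_lit 0) (nat_lit 31) [nat_lit 5, nat_lit 6, nat_lit 4, nat_lit 5, nat_lit 3, nat_lit 4, nat_lit 2, nat_lit 3, nat_lit 8, nat_lit 0, nat_lit 1, nat_lit 2, nat_lit 3, nat_lit 4, nat_lit 5, nat_lit 1, nat_lit 3, nat_lit 2, nat_lit 0, nat_lit 1, nat_lit 4, nat_lit 3, nat_lit 2, nat_lit 8, nat_lit 3, nat_lit 11, nat_lit 8, nat_lit 10, nat_lit 8, nat_lit 12, nat_lit 15, nat_lit 14, nat_lit 16, nat_lit 8, nat_lit 19, nat_lit 16] (Rl.cmp (nat_lit 1706) (nat_lit 1573))))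 (FT.leaf (Fct.mk false (nat_lit 31) (nat_lit 0) (nat_lit 31) [nat_lit 0, nat_lit 1, nat_lit 2, nat_lit 3, nat_lit 4, nat_lit 5, nat_lit 2, nat_lit 1, nat_lit 3, nat_lit 2, nat_lit 0, nat_lit 1, nat_lit 9, nat_lit 4, nat_lit 3, nat_lit 2, nat_lit 8, nat_lit 3, nat_lit 8, nat_lit 10, nat_lit 9, nat_lit 2, nat_lit 16, nat_lit 12, nat_lit 15, nat_lit 14, nat_lit 17, nat_lit 12] (Rl.einv (nat_lit 1702)))))) (FT.node (nat_lit 1710) (FT.leaf (Fct.mk false (nat_lit 31) (nat_lit 0) (nat_lit 31) [nat_lit 8, nat_lit 3, nat_lit 4, nat_lit 1, nat_lit 2, nat_lit 3, nat_lit 8, nat_lit 0, nat_lit 1, nat_lit 2, nat_lit 3, nat_lit 4, nat_lit 5, nat_lit 1, nat_lit 4, nat_lit 3, nat_lit 2, nat_lit 8, nat_lit 3, nat_lit 2, nat_lit 10, nat_lit 1, nat_lit 12, nat_lit 15, nat_lit 8] (Rl.cmp (nat_lit 1708) (nat_lit 1707)))) (FT.node (nat_lit 1711) (FT.leaf (Fct.mk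 false (nat_lit 9) (nat_lit 0) (nat_lit 9) [nat_lit 6, nat_lit 4, nat_lit 5, nat_lit 3, nat_lit 4, nat_lit 1, nat_lit 2, nat_lit 3, nat_lit 8, nat_lit 0, nat_lit 1, nat_lit 2, nat_lit 3, nat_lit 4, nat_lit 5, nat_lit 4, nat_lit 8, nat_lit 10, nat_lit 1, nat_lit 8, nat_lit 12, nat_lit 15, nat_lit 14, nat_lit 17, nat_lit 16] (Rl.sk (nat_lit 1594) (nat_lit 1709)))) (FT.leaf (Fct.mk false (nat_lit 9) (nat_lit 0) (nat_lit 9) [nat_lit 1, nat_lit 0, nat_lit 2, nat_lit 15, nat_lit 14, nat_lit 12] (Rl.cmp (nat_lit 658) (nat_lit 661)))))))) (FT.node (nat_lit 1718) (FT.node (nat_lit 1715) (FT.node (nat_lit 1713) (FT.leaf (Fct.mk false (nat_lit 9) (nat_lit 0) (nat_lit 9) [nat_lit 6, nat_lit 4, nat_lit 5, nat_lit 3, nat_lit 4, nat_lit 1, nat_lit 2, nat_lit 3, nat_lit 8, nat_lit 0, nat_lit 1, nat_lit 2, nat_lit 3, nat_lit 4, nat_lit 5, nat_lit 4, nat_lit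 1, nat_lit 12, nat_lit 15, nat_lit 14, nat_lit 17, nat_lit 12, nat_lit 16] (Rl.cmp (nat_lit 1710) (nat_lit 1711)))) (FT.node (nat_lit 1714) (FT.leaf (Fct.mk true (nat_lit 9) (nat_lit 50) (nat_lit 5) [nat_lit 3, nat_lit 8, nat_lit 5, nat_lit 6, nat_lit 4, nat_lit 5, nat_lit 3, nat_lit 4, nat_lit 2, nat_lit 3, nat_lit 8, nat_lit 1, nat_lit 2, nat_lit 3, nat_lit 4, nat_lit 5, nat_lit 3, nat_lit 2, nat_lit 0, nat_lit 1, nat_lit 9, nat_lit 4, nat_lit 3, nat_lit 2, nat_lit 8, nat_lit 3, nat_lit 8, nat_lit 10, nat_lit 12, nat_lit 15, nat_lit 14, nat_lit 19] (Rl.t1 (nat_lit 1344) (nat_lit 1712)))) (FT.leaf (Fct.mk false (nat_lit 9) (nat_lit 0) (nat_lit 9) [nat_lit 0, nat_lit 1, nat_lit 2, nat_lit 3, nat_lit 0, nat_lit 15] (Rl.cmp (nat_lit 658) (nat_lit 658)))))) (FT.node (nat_lit 1716) (FT.leaf (Fct.mk false (nat_lit 9) (nat_lit 0) (nat_lit 9) [nat_lit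 6, nat_lit 4, nat_lit 5, nat_lit 3, nat_lit 4, nat_lit 1, nat_lit 2, nat_lit 3, nat_lit 8, nat_lit 0, nat_lit 1, nat_lit 2, nat_lit 3, nat_lit 4, nat_lit 5, nat_lit 1, nat_lit 12, nat_lit 15, nat_lit 14, nat_lit 17, nat_lit 12, nat_lit 16] (Rl.cmp (nat_lit 1710) (nat_lit 658)))) (FT.node (nat_lit 1717) (FT.leaf (Fct.mk false (nat_lit 9) (nat_lit 0) (nat_lit 9) [nat_lit 6, nat_lit 4, nat_lit 5, nat_lit 3, nat_lit 4, nat_lit 1, nat_lit 2, nat_lit 3, nat_lit 8, nat_lit 0, nat_lit 1, nat_lit 2, nat_lit 3, nat_lit 4, nat_lit 5, nat_lit 8, nat_lit 3, nat_lit 10, nat_lit 1, nat_lit 8, nat_lit 12, nat_lit 15, nat_lit 14, nat_lit 17, nat_lit 16] (Rl.cmp (nat_lit 1715) (nat_lit 658)))) (FT.leaf (Fct.mk false (nat_lit 9) (nat_lit 0) (nat_lit 9) [nat_lit 5, nat_lit 6, nat_lit 4, nat_lit 5, nat_lit 3, nat_lit 4, nat_lit 1, nat_lit 2, nat_lit 3, nat_lit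 8, nat_lit 0, nat_lit 1, nat_lit 2, nat_lit 3, nat_lit 4, nat_lit 5, nat_lit 8, nat_lit 3, nat_lit 10, nat_lit 1, nat_lit 8, nat_lit 12, nat_lit 15, nat_lit 14, nat_lit 17, nat_lit 16] (Rl.cmp (nat_lit 1716) (nat_lit 675))))))) (FT.node (nat_lit 1721) (FT.node (nat_lit 1719) (FT.leaf (Fct.mk false (nat_lit 9) (nat_lit 0) (nat_lit 9) [nat_lit 6, nat_lit 4, nat_lit 5, nat_lit 3, nat_lit 4, nat_lit 1, nat_lit 2, nat_lit 3, nat_lit 8, nat_lit 0, nat_lit 1, nat_lit 2, nat_lit 3, nat_lit 4, nat_lit 5, nat_lit 8, nat_lit 3, nat_lit 10, nat_lit 1, nat_lit 8, nat_lit 12, nat_lit 15, nat_lit 14, nat_lit 17, nat_lit 16] (Rl.cmp (nat_lit 1717) (nat_lit 675)))) (FT.node (nat_lit 1720) (FT.leaf (Fct.mk false (nat_lit 9) (nat_lit 0) (nat_lit 9) [nat_lit 3, nat_lit 1, nat_lit 0, nat_lit 2, nat_lit 15, nat_lit 14] (Rl.einv (nat_lit 1714)))) (FT.leaf (Fct.mk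 false (nat_lit 9) (nat_lit 0) (nat_lit 9) [nat_lit 6, nat_lit 4, nat_lit 5, nat_lit 3, nat_lit 4, nat_lit 1, nat_lit 2, nat_lit 3, nat_lit 8, nat_lit 0, nat_lit 1, nat_lit 2, nat_lit 3, nat_lit 4, nat_lit 5, nat_lit 4, nat_lit 8, nat_lit 10, nat_lit 1, nat_lit 8, nat_lit 12, nat_lit 15, nat_lit 14, nat_lit 17, nat_lit 16] (Rl.cmp (nat_lit 1719) (nat_lit 1718)))))) (FT.node (nat_lit 1723) (FT.node (nat_lit 1722) (FT.leaf (Fct.mk false (nat_lit 17) (nat_lit 0) (nat_lit 17) [nat_lit 8, nat_lit 3, nat_lit 4, nat_lit 2, nat_lit 3, nat_lit 8, nat_lit 1, nat_lit 2, nat_lit 3, nat_lit 4, nat_lit 5, nat_lit 6, nat_lit 7, nat_lit 5, nat_lit 1, nat_lit 9, nat_lit 4, nat_lit 3, nat_lit 2, nat_lit 8, nat_lit 3, nat_lit 10, nat_lit 1, nat_lit 8, nat_lit 18] (Rl.sk (nat_lit 954) (nat_lit 1720)))) (FT.leaf (Fct.mk true (nat_lit 17) (nat_lit 12676) (nat_lit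 18) [nat_lit 8, nat_lit 3, nat_lit 4, nat_lit 2, nat_lit 3, nat_lit 8, nat_lit 1, nat_lit 2, nat_lit 3, nat_lit 4, nat_lit 5, nat_lit 6, nat_lit 7, nat_lit 5, nat_lit 1, nat_lit 8, nat_lit 3, nat_lit 2, nat_lit 0, nat_lit 1, nat_lit 9, nat_lit 4, nat_lit 3, nat_lit 2, nat_lit 8, nat_lit 3, nat_lit 2, nat_lit 8, nat_lit 10, nat_lit 1, nat_lit 15, nat_lit 14, nat_lit 8, nat_lit 18] (Rl.t1 (nat_lit 1002) (nat_lit 1721))))) (FT.node (nat_lit 1724) (FT.leaf (Fct.mk false (nat_lit 17) (nat_lit 0) (nat_lit 17) [nat_lit 6, nat_lit 7, nat_lit 8, nat_lit 4, nat_lit 3, nat_lit 2, nat_lit 1, nat_lit 9, nat_lit 4, nat_lit 3, nat_lit 2, nat_lit 8, nat_lit 3, nat_lit 1, nat_lit 16, nat_lit 14, nat_lit 16, nat_lit 8, nat_lit 19, nat_lit 16] (Rl.cmp (nat_lit 1721) (nat_lit 956)))) (FT.leaf (Fct.mk false (nat_lit 17) (nat_lit 0) (nat_lit 17) [nat_lit 8, nat_lit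 3, nat_lit 4, nat_lit 2, nat_lit 3, nat_lit 8, nat_lit 1, nat_lit 2, nat_lit 3, nat_lit 4, nat_lit 5, nat_lit 6, nat_lit 7, nat_lit 1, nat_lit 4, nat_lit 3, nat_lit 2, nat_lit 8, nat_lit 3, nat_lit 1, nat_lit 8, nat_lit 18] (Rl.cmp (nat_lit 956) (nat_lit 1721))))))))) (FT.node (nat_lit 1737) (FT.node (nat_lit 1731) (FT.node (nat_lit 1728) (FT.node (nat_lit 1726) (FT.leaf (Fct.mk false (nat_lit 17) (nat_lit 0) (nat_lit 17) [nat_lit 7, nat_lit 6, nat_lit 8, nat_lit 4, nat_lit 3, nat_lit 2, nat_lit 1, nat_lit 9, nat_lit 4, nat_lit 3, nat_lit 2, nat_lit 8, nat_lit 3, nat_lit 10, nat_lit 1, nat_lit 16, nat_lit 14, nat_lit 16, nat_lit 8, nat_lit 19, nat_lit 16] (Rl.cmp (nat_lit 1724) (nat_lit 956)))) (FT.node (nat_lit 1727) (FT.leaf (Fct.mk false (nat_lit 17) (nat_lit 0) (nat_lit 17) [nat_lit 8, nat_lit 3, nat_lit 4, nat_lit 2, nat_lit 3, nat_lit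 8, nat_lit 1, nat_lit 2, nat_lit 3, nat_lit 4, nat_lit 5, nat_lit 1, nat_lit 4, nat_lit 3, nat_lit 2, nat_lit 8, nat_lit 3, nat_lit 1, nat_lit 8, nat_lit 18] (Rl.cmp (nat_lit 1725) (nat_lit 956)))) (FT.leaf (Fct.mk false (nat_lit 17) (nat_lit 0) (nat_lit 17) [nat_lit 6, nat_lit 7, nat_lit 8, nat_lit 3, nat_lit 4, nat_lit 2, nat_lit 3, nat_lit 8, nat_lit 1, nat_lit 2, nat_lit 3, nat_lit 4, nat_lit 5, nat_lit 1, nat_lit 9, nat_lit 4, nat_lit 3, nat_lit 2, nat_lit 8, nat_lit 3, nat_lit 1, nat_lit 8, nat_lit 18] (Rl.cmp (nat_lit 1726) (nat_lit 1721)))))) (FT.node (nat_lit 1729) (FT.leaf (Fct.mk false (nat_lit 17) (nat_lit 0) (nat_lit 17) [nat_lit 8, nat_lit 3, nat_lit 4, nat_lit 2, nat_lit 3, nat_lit 8, nat_lit 1, nat_lit 2, nat_lit 3, nat_lit 4, nat_lit 5, nat_lit 1, nat_lit 4, nat_lit 3, nat_lit 2, nat_lit 8, nat_lit 3, nat_lit 1, nat_lit 8,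 nat_lit 18] (Rl.cmp (nat_lit 1727) (nat_lit 1721)))) (FT.node (nat_lit 1730) (FT.leaf (Fct.mk false (nat_lit 17) (nat_lit 0) (nat_lit 17) [nat_lit 8, nat_lit 3, nat_lit 4, nat_lit 2, nat_lit 3, nat_lit 8, nat_lit 1, nat_lit 2, nat_lit 3, nat_lit 4, nat_lit 5, nat_lit 6, nat_lit 7, nat_lit 6, nat_lit 1, nat_lit 9, nat_lit 4, nat_lit 3, nat_lit 2, nat_lit 8, nat_lit 3, nat_lit 1, nat_lit 8, nat_lit 18] (Rl.einv (nat_lit 1723)))) (FT.leaf (Fct.mk false (nat_lit 17) (nat_lit 0) (nat_lit 17) [nat_lit 8, nat_lit 3, nat_lit 4, nat_lit 2, nat_lit 3, nat_lit 8, nat_lit 1, nat_lit 2, nat_lit 3, nat_lit 4, nat_lit 5, nat_lit 6, nat_lit 7, nat_lit 1, nat_lit 9, nat_lit 4, nat_lit 3, nat_lit 2, nat_lit 8, nat_lit 3, nat_lit 10, nat_lit 1, nat_lit 8, nat_lit 18] (Rl.cmp (nat_lit 1729) (nat_lit 1728))))))) (FT.node (nat_lit 1734) (FT.node (nat_lit 1732) (FT.leaf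 (Fct.mk false (nat_lit 14) (nat_lit 0) (nat_lit 14) [nat_lit 4, nat_lit 3, nat_lit 8, nat_lit 2, nat_lit 3, nat_lit 4, nat_lit 1, nat_lit 2, nat_lit 3, nat_lit 8, nat_lit 0, nat_lit 1, nat_lit 2, nat_lit 3, nat_lit 4, nat_lit 5, nat_lit 6, nat_lit 7, nat_lit 5, nat_lit 1, nat_lit 9, nat_lit 4, nat_lit 3, nat_lit 2, nat_lit 8, nat_lit 3, nat_lit 2, nat_lit 8, nat_lit 10, nat_lit 1, nat_lit 12, nat_lit 15, nat_lit 12, nat_lit 18] (Rl.sk (nat_lit 961) (nat_lit 1730)))) (FT.node (nat_lit 1733) (FT.leaf (Fct.mk false (nat_lit 14) (nat_lit 0) (nat_lit 14) [nat_lit 4, nat_lit 3, nat_lit 8, nat_lit 2, nat_lit 3, nat_lit 4, nat_lit 1, nat_lit 2, nat_lit 3, nat_lit 8, nat_lit 0, nat_lit 1, nat_lit 2, nat_lit 3, nat_lit 4, nat_lit 5, nat_lit 6, nat_lit 7, nat_lit 1, nat_lit 9, nat_lit 4, nat_lit 3, nat_lit 2, nat_lit 8, nat_lit 3, nat_lit 11, nat_lit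 10, nat_lit 1, nat_lit 12, nat_lit 15, nat_lit 17, nat_lit 19, nat_lit 16] (Rl.cmp (nat_lit 1731) (nat_lit 860)))) (FT.leaf (Fct.mk false (nat_lit 14) (nat_lit 0) (nat_lit 14) [nat_lit 4, nat_lit 3, nat_lit 8, nat_lit 2, nat_lit 3, nat_lit 4, nat_lit 1, nat_lit 2, nat_lit 3, nat_lit 8, nat_lit 0, nat_lit 1, nat_lit 2, nat_lit 3, nat_lit 4, nat_lit 5, nat_lit 6, nat_lit 7, nat_lit 2, nat_lit 1, nat_lit 9, nat_lit 4, nat_lit 3, nat_lit 2, nat_lit 8, nat_lit 3, nat_lit 11, nat_lit 8, nat_lit 10, nat_lit 1, nat_lit 12, nat_lit 15, nat_lit 17, nat_lit 19, nat_lit 16] (Rl.cmp (nat_lit 866) (nat_lit 1732)))))) (FT.node (nat_lit 1735) (FT.leaf (Fct.mk true (nat_lit 14) (nat_lit 12698) (nat_lit 17) [nat_lit 2, nat_lit 3, nat_lit 8, nat_lit 4, nat_lit 5, nat_lit 3, nat_lit 4, nat_lit 2, nat_lit 3, nat_lit 8, nat_lit 0, nat_lit 1, nat_lit 2, nat_lit 3,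 nat_lit 4, nat_lit 5, nat_lit 6, nat_lit 7, nat_lit 1, nat_lit 4, nat_lit 3, nat_lit 2, nat_lit 0, nat_lit 1, nat_lit 9, nat_lit 4, nat_lit 3, nat_lit 2, nat_lit 8, nat_lit 3, nat_lit 1, nat_lit 15, nat_lit 16, nat_lit 8, nat_lit 19, nat_lit 16] (Rl.t1 (nat_lit 966) (nat_lit 1733)))) (FT.node (nat_lit 1736) (FT.leaf (Fct.mk false (nat_lit 14) (nat_lit 0) (nat_lit 14) [nat_lit 3] (Rl.cmp (nat_lit 860) (nat_lit 867)))) (FT.leaf (Fct.mk false (nat_lit 14) (nat_lit 0) (nat_lit 14) [nat_lit 4, nat_lit 3, nat_lit 8, nat_lit 2, nat_lit 3, nat_lit 4, nat_lit 1, nat_lit 2, nat_lit 3, nat_lit 8, nat_lit 0, nat_lit 1, nat_lit 2, nat_lit 3, nat_lit 4, nat_lit 5, nat_lit 6, nat_lit 7, nat_lit 5, nat_lit 9, nat_lit 4, nat_lit 3, nat_lit 2, nat_lit 8, nat_lit 3, nat_lit 2, nat_lit 8, nat_lit 10, nat_lit 1, nat_lit 12, nat_lit 15, nat_lit 12, nat_lit 18] (Rl.cmp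 (nat_lit 1735) (nat_lit 1731)))))))) (FT.node (nat_lit 1743) (FT.node (nat_lit 1740) (FT.node (nat_lit 1738) (FT.leaf (Fct.mk false (nat_lit 14) (nat_lit 0) (nat_lit 14) [nat_lit 4, nat_lit 3, nat_lit 8, nat_lit 2, nat_lit 3, nat_lit 4, nat_lit 1, nat_lit 2, nat_lit 3, nat_lit 8, nat_lit 0, nat_lit 1, nat_lit 2, nat_lit 3, nat_lit 4, nat_lit 5, nat_lit 6, nat_lit 7, nat_lit 5, nat_lit 1, nat_lit 9, nat_lit 4, nat_lit 3, nat_lit 2, nat_lit 8, nat_lit 3, nat_lit 2, nat_lit 10, nat_lit 1, nat_lit 12, nat_lit 15, nat_lit 12, nat_lit 18] (Rl.cmp (nat_lit 1736) (nat_lit 866)))) (FT.node (nat_lit 1739) (FT.leaf (Fct.mk false (nat_lit 14) (nat_lit 0) (nat_lit 14) [nat_lit 4, nat_lit 3, nat_lit 8, nat_lit 2, nat_lit 3, nat_lit 4, nat_lit 1, nat_lit 2, nat_lit 3, nat_lit 8, nat_lit 0, nat_lit 1, nat_lit 2, nat_lit 3, nat_lit 4, nat_lit 5, nat_lit 6,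 nat_lit 7, nat_lit 1, nat_lit 9, nat_lit 4, nat_lit 3, nat_lit 2, nat_lit 8, nat_lit 3, nat_lit 11, nat_lit 8, nat_lit 10, nat_lit 1, nat_lit 12, nat_lit 15, nat_lit 17, nat_lit 19, nat_lit 16] (Rl.cmp (nat_lit 1737) (nat_lit 860)))) (FT.leaf (Fct.mk false (nat_lit 14) (nat_lit 0) (nat_lit 14) [nat_lit 5, nat_lit 9] (Rl.einv (nat_lit 860)))))) (FT.node (nat_lit 1741) (FT.leaf (Fct.mk false (nat_lit 14) (nat_lit 0) (nat_lit 14) [nat_lit 4, nat_lit 3, nat_lit 8, nat_lit 2, nat_lit 3, nat_lit 4, nat_lit 1, nat_lit 2, nat_lit 3, nat_lit 8, nat_lit 0, nat_lit 1, nat_lit 2, nat_lit 3, nat_lit 4, nat_lit 5, nat_lit 6, nat_lit 7, nat_lit 5, nat_lit 1, nat_lit 9, nat_lit 4, nat_lit 3, nat_lit 2, nat_lit 8, nat_lit 3, nat_lit 2, nat_lit 10, nat_lit 1, nat_lit 12, nat_lit 15, nat_lit 12, nat_lit 18] (Rl.cmp (nat_lit 1739) (nat_lit 1738)))) (FT.node (nat_lit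 1742) (FT.leaf (Fct.mk false (nat_lit 13) (nat_lit 0) (nat_lit 13) [nat_lit 4, nat_lit 1, nat_lit 2, nat_lit 3, nat_lit 8, nat_lit 0, nat_lit 1, nat_lit 2, nat_lit 3, nat_lit 4, nat_lit 5, nat_lit 8, nat_lit 10, nat_lit 0, nat_lit 8, nat_lit 12, nat_lit 15, nat_lit 14, nat_lit 12] (Rl.sk (nat_lit 862) (nat_lit 1740)))) (FT.leaf (Fct.mk false (nat_lit 13) (nat_lit 0) (nat_lit 13) [nat_lit 0, nat_lit 2] (Rl.cmp (nat_lit 827) (nat_lit 814))))))) (FT.node (nat_lit 1746) (FT.node (nat_lit 1744) (FT.leaf (Fct.mk false (nat_lit 13) (nat_lit 0) (nat_lit 13) [nat_lit 5, nat_lit 0, nat_lit 12] (Rl.cmp (nat_lit 831) (nat_lit 1742)))) (FT.node (nat_lit 1745) (FT.leaf (Fct.mk false (nat_lit 13) (nat_lit 0) (nat_lit 13) [nat_lit 4, nat_lit 5, nat_lit 3, nat_lit 4, nat_lit 1, nat_lit 2, nat_lit 3, nat_lit 8, nat_lit 0, nat_lit 1, nat_lit 2, nat_lit 3, nat_lit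 4, nat_lit 5, nat_lit 4, nat_lit 10, nat_lit 0, nat_lit 8, nat_lit 12, nat_lit 15, nat_lit 14, nat_lit 12] (Rl.cmp (nat_lit 1741) (nat_lit 1743)))) (FT.leaf (Fct.mk true (nat_lit 13) (nat_lit 62) (nat_lit 9) [nat_lit 8, nat_lit 1, nat_lit 2, nat_lit 3, nat_lit 4, nat_lit 5, nat_lit 3, nat_lit 8, nat_lit 10, nat_lit 8, nat_lit 18, nat_lit 16] (Rl.t1 (nat_lit 1358) (nat_lit 1744)))))) (FT.node (nat_lit 1748) (FT.node (nat_lit 1747) (FT.leaf (Fct.mk false (nat_lit 13) (nat_lit 0) (nat_lit 13) [nat_lit 9, nat_lit 4, nat_lit 10, nat_lit 12, nat_lit 16] (Rl.cmp (nat_lit 831) (nat_lit 841)))) (FT.leaf (Fct.mk false (nat_lit 13) (nat_lit 0) (nat_lit 13) [nat_lit 8, nat_lit 3, nat_lit 4, nat_lit 5, nat_lit 3, nat_lit 10, nat_lit 0, nat_lit 18] (Rl.cmp (nat_lit 1741) (nat_lit 1138))))) (FT.node (nat_lit 1749) (FT.leaf (Fct.mk false (nat_lit 13) (nat_lit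 0) (nat_lit 13) [nat_lit 8, nat_lit 3, nat_lit 4, nat_lit 5, nat_lit 3, nat_lit 10, nat_lit 18] (Rl.cmp (nat_lit 1747) (nat_lit 827)))) (FT.leaf (Fct.mk false (nat_lit 13) (nat_lit 0) (nat_lit 13) [nat_lit 8, nat_lit 3, nat_lit 4, nat_lit 5, nat_lit 3, nat_lit 10, nat_lit 0, nat_lit 18] (Rl.cmp (nat_lit 1748) (nat_lit 827)))))))))

/-- some facts -/
noncomputable def ftc35 : FT := FT.node (nat_lit 1775) (FT.node (nat_lit 1762) (FT.node (nat_lit 1756) (FT.node (nat_lit 1753) (FT.node (nat_lit 1751) (FT.leaf (Fct.mk false (nat_lit 13) (nat_lit 0) (nat_lit 13) [nat_lit 5, nat_lit 4, nat_lit 3, nat_lit 8, nat_lit 2, nat_lit 3, nat_lit 4, nat_lit 5, nat_lit 8, nat_lit 10, nat_lit 0, nat_lit 8, nat_lit 18] (Rl.cmp (nat_lit 1749) (nat_lit 831)))) (FT.node (nat_lit 1752) (FT.leaf (Fct.mk false (nat_lit 13) (nat_lit 0) (nat_lit 13) [nat_lit 8, nat_lit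 2, nat_lit 3, nat_lit 4, nat_lit 5, nat_lit 3, nat_lit 0, nat_lit 18] (Rl.cmp (nat_lit 1750) (nat_lit 831)))) (FT.leaf (Fct.mk false (nat_lit 13) (nat_lit 0) (nat_lit 13) [nat_lit 9, nat_lit 4, nat_lit 9, nat_lit 2, nat_lit 12] (Rl.einv (nat_lit 1746)))))) (FT.node (nat_lit 1754) (FT.leaf (Fct.mk false (nat_lit 13) (nat_lit 0) (nat_lit 13) [nat_lit 8, nat_lit 3, nat_lit 4, nat_lit 5, nat_lit 9, nat_lit 4, nat_lit 11, nat_lit 2, nat_lit 17, nat_lit 12, nat_lit 18, nat_lit 16] (Rl.cmp (nat_lit 1752) (nat_lit 1751)))) (FT.node (nat_lit 1755) (FT.leaf (Fct.mk false (nat_lit 5) (nat_lit 0) (nat_lit 5) [nat_lit 71] (Rl.sk (nat_lit 1141) (nat_lit 1753)))) (FT.leaf (Fct.mk false (nat_lit 5) (nat_lit 0) (nat_lit 5) [nat_lit 4, nat_lit 5, nat_lit 4, nat_lit 10, nat_lit 1] (Rl.cmp (nat_lit 1754) (nat_lit 470))))))) (FT.node (nat_lit 1759) (FT.node (nat_lit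 1757) (FT.leaf (Fct.mk false (nat_lit 5) (nat_lit 0) (nat_lit 5) [nat_lit 2, nat_lit 3, nat_lit 4, nat_lit 5, nat_lit 0, nat_lit 1, nat_lit 2, nat_lit 3, nat_lit 10, nat_lit 1, nat_lit 12, nat_lit 15, nat_lit 12, nat_lit 16] (Rl.cmp (nat_lit 511) (nat_lit 1755)))) (FT.node (nat_lit 1758) (FT.leaf (Fct.mk true (nat_lit 5) (nat_lit 4655) (nat_lit 6) [nat_lit 7, nat_lit 6, nat_lit 5, nat_lit 4, nat_lit 3, nat_lit 8, nat_lit 0, nat_lit 1, nat_lit 2, nat_lit 3, nat_lit 4, nat_lit 5, nat_lit 6, nat_lit 7, nat_lit 6, nat_lit 3, nat_lit 11, nat_lit 17, nat_lit 18] (Rl.t1 (nat_lit 547) (nat_lit 1756)))) (FT.leaf (Fct.mk false (nat_lit 5) (nat_lit 0) (nat_lit 5) [nat_lit 5, nat_lit 11, nat_lit 10, nat_lit 16, nat_lit 15, nat_lit 14, nat_lit 13, nat_lit 16] (Rl.cmp (nat_lit 472) (nat_lit 470)))))) (FT.node (nat_lit 1760) (FT.leaf (Fct.mk false (nat_lit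 5) (nat_lit 0) (nat_lit 5) [nat_lit 4, nat_lit 5, nat_lit 4, nat_lit 10] (Rl.cmp (nat_lit 1754) (nat_lit 1758)))) (FT.node (nat_lit 1761) (FT.leaf (Fct.mk true (nat_lit 5) (nat_lit 22585) (nat_lit 11) [nat_lit 3, nat_lit 8, nat_lit 6, nat_lit 7, nat_lit 5, nat_lit 6, nat_lit 4, nat_lit 5, nat_lit 3, nat_lit 4, nat_lit 2, nat_lit 3, nat_lit 8, nat_lit 0, nat_lit 1, nat_lit 2, nat_lit 3, nat_lit 4, nat_lit 5, nat_lit 6, nat_lit 7, nat_lit 5, nat_lit 8, nat_lit 3, nat_lit 2, nat_lit 1, nat_lit 9, nat_lit 4, nat_lit 3, nat_lit 2, nat_lit 8, nat_lit 3, nat_lit 8, nat_lit 10, nat_lit 0, nat_lit 15, nat_lit 18, nat_lit 16] (Rl.t1 (nat_lit 746) (nat_lit 1759)))) (FT.leaf (Fct.mk false (nat_lit 5) (nat_lit 0) (nat_lit 5) [nat_lit 4, nat_lit 5, nat_lit 4, nat_lit 10, nat_lit 1] (Rl.cmp (nat_lit 1754) (nat_lit 470)))))))) (FT.node (nat_lit 1768) (FT.node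 (nat_lit 1765) (FT.node (nat_lit 1763) (FT.leaf (Fct.mk true (nat_lit 5) (nat_lit 32907) (nat_lit 14) [nat_lit 7, nat_lit 6, nat_lit 5, nat_lit 2, nat_lit 3, nat_lit 4, nat_lit 1, nat_lit 2, nat_lit 3, nat_lit 8, nat_lit 0, nat_lit 1, nat_lit 2, nat_lit 3, nat_lit 4, nat_lit 5, nat_lit 6, nat_lit 7, nat_lit 6, nat_lit 4, nat_lit 10, nat_lit 9, nat_lit 2, nat_lit 16, nat_lit 15, nat_lit 14, nat_lit 17] (Rl.t1 (nat_lit 875) (nat_lit 1761)))) (FT.node (nat_lit 1764) (FT.leaf (Fct.mk false (nat_lit 5) (nat_lit 0) (nat_lit 5) [nat_lit 1, nat_lit 2, nat_lit 3, nat_lit 4, nat_lit 5, nat_lit 0, nat_lit 1, nat_lit 2, nat_lit 3, nat_lit 1, nat_lit 12, nat_lit 15, nat_lit 12, nat_lit 16] (Rl.cmp (nat_lit 511) (nat_lit 1754)))) (FT.leaf (Fct.mk false (nat_lit 5) (nat_lit 0) (nat_lit 5) [nat_lit 2, nat_lit 3, nat_lit 4, nat_lit 5, nat_lit 9, nat_lit 4,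 nat_lit 0, nat_lit 16, nat_lit 15, nat_lit 14, nat_lit 12] (Rl.cmp (nat_lit 1754) (nat_lit 1763)))))) (FT.node (nat_lit 1766) (FT.leaf (Fct.mk false (nat_lit 5) (nat_lit 0) (nat_lit 5) [nat_lit 4, nat_lit 5, nat_lit 4, nat_lit 11, nat_lit 13, nat_lit 12, nat_lit 16] (Rl.cmp (nat_lit 511) (nat_lit 1764)))) (FT.node (nat_lit 1767) (FT.leaf (Fct.mk true (nat_lit 5) (nat_lit 10116) (nat_lit 26) [nat_lit 2, nat_lit 3, nat_lit 4, nat_lit 5, nat_lit 4, nat_lit 10, nat_lit 9, nat_lit 2, nat_lit 12, nat_lit 15, nat_lit 12, nat_lit 18] (Rl.t1 (nat_lit 1321) (nat_lit 1765)))) (FT.leaf (Fct.mk false (nat_lit 5) (nat_lit 0) (nat_lit 5) [nat_lit 4, nat_lit 5, nat_lit 4, nat_lit 10, nat_lit 1] (Rl.cmp (nat_lit 1754) (nat_lit 470))))))) (FT.node (nat_lit 1771) (FT.node (nat_lit 1769) (FT.leaf (Fct.mk true (nat_lit 5) (nat_lit 467) (nat_lit 30) [nat_lit 6,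 nat_lit 5, nat_lit 4, nat_lit 2, nat_lit 3, nat_lit 8, nat_lit 0, nat_lit 1, nat_lit 2, nat_lit 3, nat_lit 4, nat_lit 5, nat_lit 8, nat_lit 3, nat_lit 2, nat_lit 0, nat_lit 1, nat_lit 4, nat_lit 3, nat_lit 2, nat_lit 8, nat_lit 3, nat_lit 11, nat_lit 8, nat_lit 10, nat_lit 16, nat_lit 12, nat_lit 15, nat_lit 14, nat_lit 18] (Rl.t1 (nat_lit 1538) (nat_lit 1767)))) (FT.node (nat_lit 1770) (FT.leaf (Fct.mk false (nat_lit 5) (nat_lit 0) (nat_lit 5) [nat_lit 3, nat_lit 11, nat_lit 10, nat_lit 1, nat_lit 16, nat_lit 15, nat_lit 14, nat_lit 13, nat_lit 16] (Rl.cmp (nat_lit 488) (nat_lit 470)))) (FT.leaf (Fct.mk false (nat_lit 5) (nat_lit 0) (nat_lit 5) [nat_lit 0, nat_lit 1, nat_lit 2, nat_lit 3, nat_lit 4, nat_lit 5, nat_lit 0, nat_lit 1, nat_lit 2, nat_lit 3, nat_lit 11, nat_lit 10, nat_lit 1, nat_lit 15, nat_lit 14, nat_lit 13] (Rl.cmp (nat_lit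 511) (nat_lit 1769)))))) (FT.node (nat_lit 1773) (FT.node (nat_lit 1772) (FT.leaf (Fct.mk false (nat_lit 5) (nat_lit 0) (nat_lit 5) [nat_lit 6, nat_lit 2, nat_lit 3, nat_lit 9, nat_lit 16, nat_lit 15, nat_lit 14, nat_lit 12] (Rl.cmp (nat_lit 1754) (nat_lit 1770)))) (FT.leaf (Fct.mk false (nat_lit 5) (nat_lit 0) (nat_lit 5) [nat_lit 1, nat_lit 16, nat_lit 15, nat_lit 14, nat_lit 16] (Rl.cmp (nat_lit 511) (nat_lit 1771))))) (FT.node (nat_lit 1774) (FT.leaf (Fct.mk true (nat_lit 5) (nat_lit 231) (nat_lit 31) [nat_lit 8, nat_lit 6, nat_lit 5, nat_lit 3, nat_lit 4, nat_lit 2, nat_lit 3, nat_lit 8, nat_lit 1, nat_lit 2, nat_lit 3, nat_lit 4, nat_lit 5, nat_lit 1, nat_lit 2, nat_lit 3, nat_lit 10, nat_lit 0, nat_lit 8, nat_lit 16, nat_lit 15, nat_lit 14, nat_lit 12, nat_lit 16] (Rl.t1 (nat_lit 1604) (nat_lit 1772)))) (FT.leaf (Fct.mk false (nat_lit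 5) (nat_lit 0) (nat_lit 5) [nat_lit 4, nat_lit 5, nat_lit 4, nat_lit 10, nat_lit 1] (Rl.cmp (nat_lit 1754) (nat_lit 470))))))))) (FT.node (nat_lit 1787) (FT.node (nat_lit 1781) (FT.node (nat_lit 1778) (FT.node (nat_lit 1776) (FT.leaf (Fct.mk false (nat_lit 5) (nat_lit 0) (nat_lit 5) [nat_lit 0, nat_lit 1, nat_lit 2, nat_lit 3, nat_lit 4, nat_lit 5, nat_lit 0, nat_lit 1, nat_lit 2, nat_lit 3, nat_lit 11, nat_lit 10, nat_lit 12, nat_lit 15, nat_lit 13] (Rl.cmp (nat_lit 1774) (nat_lit 511)))) (FT.node (nat_lit 1777) (FT.leaf (Fct.mk false (nat_lit 5) (nat_lit 0) (nat_lit 5) [nat_lit 6, nat_lit 1, nat_lit 2, nat_lit 3, nat_lit 9, nat_lit 2, nat_lit 16, nat_lit 15, nat_lit 14, nat_lit 12] (Rl.cmp (nat_lit 1775) (nat_lit 470)))) (FT.leaf (Fct.mk false (nat_lit 5) (nat_lit 0) (nat_lit 5) [nat_lit 6, nat_lit 1, nat_lit 2, nat_lit 3, nat_lit 9, nat_lit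 16, nat_lit 15, nat_lit 14, nat_lit 12] (Rl.cmp (nat_lit 1776) (nat_lit 493)))))) (FT.node (nat_lit 1779) (FT.leaf (Fct.mk false (nat_lit 3) (nat_lit 0) (nat_lit 3) [nat_lit 5, nat_lit 9, nat_lit 4, nat_lit 9, nat_lit 2, nat_lit 16, nat_lit 12, nat_lit 15, nat_lit 14, nat_lit 13, nat_lit 19] (Rl.sk (nat_lit 487) (nat_lit 1777)))) (FT.node (nat_lit 1780) (FT.leaf (Fct.mk false (nat_lit 3) (nat_lit 0) (nat_lit 3) [nat_lit 5, nat_lit 9, nat_lit 4, nat_lit 2, nat_lit 16, nat_lit 15, nat_lit 14, nat_lit 13, nat_lit 19] (Rl.cmp (nat_lit 195) (nat_lit 1778)))) (FT.leaf (Fct.mk false (nat_lit 3) (nat_lit 0) (nat_lit 3) [nat_lit 5, nat_lit 9, nat_lit 4, nat_lit 9, nat_lit 12, nat_lit 15, nat_lit 14, nat_lit 13] (Rl.cmp (nat_lit 184) (nat_lit 1779))))))) (FT.node (nat_lit 1784) (FT.node (nat_lit 1782) (FT.leaf (Fct.mk true (nat_lit 3) (nat_lit 4) (nat_lit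 29) [nat_lit 6, nat_lit 4, nat_lit 5, nat_lit 2, nat_lit 3, nat_lit 4, nat_lit 1, nat_lit 2, nat_lit 3, nat_lit 8, nat_lit 0, nat_lit 1, nat_lit 2, nat_lit 3, nat_lit 4, nat_lit 5, nat_lit 9, nat_lit 4, nat_lit 11, nat_lit 10, nat_lit 1, nat_lit 15, nat_lit 17, nat_lit 19, nat_lit 16] (Rl.t1 (nat_lit 1480) (nat_lit 1780)))) (FT.node (nat_lit 1783) (FT.leaf (Fct.mk false (nat_lit 4) (nat_lit 0) (nat_lit 29) [nat_lit 4, nat_lit 5, nat_lit 3, nat_lit 4, nat_lit 2, nat_lit 3, nat_lit 8, nat_lit 1, nat_lit 2, nat_lit 3, nat_lit 4, nat_lit 5, nat_lit 1, nat_lit 2, nat_lit 3, nat_lit 10, nat_lit 9, nat_lit 2, nat_lit 14, nat_lit 18, nat_lit 16] (Rl.cc (nat_lit 255) (nat_lit 1781)))) (FT.leaf (Fct.mk false (nat_lit 3) (nat_lit 0) (nat_lit 3) [nat_lit 4, nat_lit 5, nat_lit 4, nat_lit 11, nat_lit 13] (Rl.cmp (nat_lit 206) (nat_lit 206)))))) (FT.node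 (nat_lit 1785) (FT.leaf (Fct.mk false (nat_lit 29) (nat_lit 0) (nat_lit 4) [nat_lit 3, nat_lit 4, nat_lit 2, nat_lit 3, nat_lit 8, nat_lit 5, nat_lit 6, nat_lit 4, nat_lit 5, nat_lit 3, nat_lit 4, nat_lit 2, nat_lit 3, nat_lit 8, nat_lit 1, nat_lit 2, nat_lit 3, nat_lit 4, nat_lit 5, nat_lit 4, nat_lit 10, nat_lit 2, nat_lit 8, nat_lit 10, nat_lit 1, nat_lit 18, nat_lit 16] (Rl.einv (nat_lit 1782)))) (FT.node (nat_lit 1786) (FT.leaf (Fct.mk true (nat_lit 4) (nat_lit 2774) (nat_lit 26) [nat_lit 4, nat_lit 5, nat_lit 3, nat_lit 4, nat_lit 2, nat_lit 3, nat_lit 8, nat_lit 1, nat_lit 2, nat_lit 3, nat_lit 4, nat_lit 5, nat_lit 2, nat_lit 1, nat_lit 3, nat_lit 2, nat_lit 8, nat_lit 3, nat_lit 11, nat_lit 8, nat_lit 10, nat_lit 13, nat_lit 19] (Rl.t1 (nat_lit 1456) (nat_lit 1784)))) (FT.leaf (Fct.mk true (nat_lit 4) (nat_lit 908) (nat_lit 26) [nat_lit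 8, nat_lit 1, nat_lit 2, nat_lit 3, nat_lit 4, nat_lit 5, nat_lit 1, nat_lit 3, nat_lit 2, nat_lit 8, nat_lit 3, nat_lit 11, nat_lit 13, nat_lit 18, nat_lit 16] (Rl.t1 (nat_lit 1785) (nat_lit 1325)))))))) (FT.node (nat_lit 1793) (FT.node (nat_lit 1790) (FT.node (nat_lit 1788) (FT.leaf (Fct.mk true (nat_lit 4) (nat_lit 46) (nat_lit 28) [nat_lit 8, nat_lit 3, nat_lit 4, nat_lit 5, nat_lit 0, nat_lit 1, nat_lit 4, nat_lit 3, nat_lit 2, nat_lit 8, nat_lit 3, nat_lit 9, nat_lit 2, nat_lit 16, nat_lit 14, nat_lit 18, nat_lit 16] (Rl.t1 (nat_lit 1662) (nat_lit 1784)))) (FT.node (nat_lit 1789) (FT.leaf (Fct.mk true (nat_lit 4) (nat_lit 6) (nat_lit 28) [nat_lit 0, nat_lit 1, nat_lit 2, nat_lit 3, nat_lit 9, nat_lit 16, nat_lit 14, nat_lit 18, nat_lit 16] (Rl.t1 (nat_lit 1787) (nat_lit 322)))) (FT.leaf (Fct.mk false (nat_lit 4) (nat_lit 0) (nat_lit 28)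 [nat_lit 2, nat_lit 3, nat_lit 4, nat_lit 1, nat_lit 2, nat_lit 3, nat_lit 8, nat_lit 0, nat_lit 1, nat_lit 2, nat_lit 3, nat_lit 4, nat_lit 5, nat_lit 4, nat_lit 3, nat_lit 2, nat_lit 1, nat_lit 8, nat_lit 3, nat_lit 2, nat_lit 0, nat_lit 1, nat_lit 4, nat_lit 3, nat_lit 2, nat_lit 8, nat_lit 3, nat_lit 11, nat_lit 8, nat_lit 10, nat_lit 12, nat_lit 15, nat_lit 14, nat_lit 17, nat_lit 12] (Rl.cc (nat_lit 323) (nat_lit 1788)))))) (FT.node (nat_lit 1791) (FT.leaf (Fct.mk true (nat_lit 4) (nat_lit 2775) (nat_lit 25) [nat_lit 2, nat_lit 3, nat_lit 8, nat_lit 5, nat_lit 6, nat_lit 4, nat_lit 5, nat_lit 3, nat_lit 4, nat_lit 2, nat_lit 3, nat_lit 8, nat_lit 1, nat_lit 2, nat_lit 3, nat_lit 4, nat_lit 5, nat_lit 1, nat_lit 3, nat_lit 2, nat_lit 0, nat_lit 1, nat_lit 4, nat_lit 3, nat_lit 2, nat_lit 8, nat_lit 3, nat_lit 11, nat_lit 8, nat_lit 10,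 nat_lit 14, nat_lit 17, nat_lit 16] (Rl.t1 (nat_lit 1665) (nat_lit 1784)))) (FT.node (nat_lit 1792) (FT.leaf (Fct.mk false (nat_lit 4) (nat_lit 0) (nat_lit 4) [nat_lit 8, nat_lit 3, nat_lit 4, nat_lit 5, nat_lit 8, nat_lit 3, nat_lit 2, nat_lit 1, nat_lit 4, nat_lit 3, nat_lit 2, nat_lit 8, nat_lit 3, nat_lit 10, nat_lit 1, nat_lit 14, nat_lit 18] (Rl.cmp (nat_lit 312) (nat_lit 243)))) (FT.leaf (Fct.mk false (nat_lit 28) (nat_lit 0) (nat_lit 4) [nat_lit 4, nat_lit 1, nat_lit 2, nat_lit 3, nat_lit 8, nat_lit 0, nat_lit 1, nat_lit 2, nat_lit 3, nat_lit 4, nat_lit 5, nat_lit 3, nat_lit 2, nat_lit 1, nat_lit 8, nat_lit 3, nat_lit 2, nat_lit 0, nat_lit 1, nat_lit 4, nat_lit 3, nat_lit 2, nat_lit 8, nat_lit 3, nat_lit 11, nat_lit 10, nat_lit 12, nat_lit 15, nat_lit 14, nat_lit 16, nat_lit 8, nat_lit 19] (Rl.einv (nat_lit 1789))))))) (FT.node (nat_lit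 1796) (FT.node (nat_lit 1794) (FT.leaf (Fct.mk true (nat_lit 4) (nat_lit 8270) (nat_lit 23) [nat_lit 3, nat_lit 2, nat_lit 1, nat_lit 8, nat_lit 3, nat_lit 2, nat_lit 0, nat_lit 1, nat_lit 4, nat_lit 3, nat_lit 2, nat_lit 8, nat_lit 3, nat_lit 11, nat_lit 1, nat_lit 12, nat_lit 15, nat_lit 14, nat_lit 12] (Rl.t1 (nat_lit 1413) (nat_lit 1792)))) (FT.node (nat_lit 1795) (FT.leaf (Fct.mk false (nat_lit 4) (nat_lit 0) (nat_lit 4) [nat_lit 8, nat_lit 3, nat_lit 4, nat_lit 2, nat_lit 3, nat_lit 8, nat_lit 1, nat_lit 2, nat_lit 3, nat_lit 4, nat_lit 5, nat_lit 4, nat_lit 3, nat_lit 2, nat_lit 8, nat_lit 3, nat_lit 10, nat_lit 1, nat_lit 8, nat_lit 18] (Rl.cmp (nat_lit 239) (nat_lit 234)))) (FT.leaf (Fct.mk false (nat_lit 4) (nat_lit 0) (nat_lit 4) [nat_lit 94] (Rl.cmp (nat_lit 312) (nat_lit 1794)))))) (FT.node (nat_lit 1798) (FT.node (nat_lit 1797)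 (FT.leaf (Fct.mk true (nat_lit 4) (nat_lit 72) (nat_lit 23) [nat_lit 1, nat_lit 2, nat_lit 3, nat_lit 8, nat_lit 4, nat_lit 5, nat_lit 3, nat_lit 4, nat_lit 2, nat_lit 3, nat_lit 8, nat_lit 1, nat_lit 2, nat_lit 3, nat_lit 4, nat_lit 5, nat_lit 2, nat_lit 1, nat_lit 3, nat_lit 2, nat_lit 0, nat_lit 1, nat_lit 4, nat_lit 3, nat_lit 2, nat_lit 8, nat_lit 3, nat_lit 11, nat_lit 2, nat_lit 12, nat_lit 15, nat_lit 14] (Rl.t1 (nat_lit 1793) (nat_lit 1795)))) (FT.leaf (Fct.mk true (nat_lit 4) (nat_lit 615) (nat_lit 29) [nat_lit 2, nat_lit 3, nat_lit 8, nat_lit 4, nat_lit 5, nat_lit 3, nat_lit 4, nat_lit 2, nat_lit 3, nat_lit 8, nat_lit 1, nat_lit 2, nat_lit 3, nat_lit 4, nat_lit 5, nat_lit 1, nat_lit 2, nat_lit 0, nat_lit 1, nat_lit 3, nat_lit 2, nat_lit 8, nat_lit 3, nat_lit 11, nat_lit 10, nat_lit 8, nat_lit 12, nat_lit 15, nat_lit 18] (Rl.t1 (nat_lit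 1464) (nat_lit 1792))))) (FT.node (nat_lit 1799) (FT.leaf (Fct.mk false (nat_lit 4) (nat_lit 0) (nat_lit 4) [nat_lit 8, nat_lit 3, nat_lit 4, nat_lit 2, nat_lit 3, nat_lit 8, nat_lit 1, nat_lit 2, nat_lit 3, nat_lit 4, nat_lit 5, nat_lit 4, nat_lit 3, nat_lit 2, nat_lit 8, nat_lit 3, nat_lit 2, nat_lit 10, nat_lit 1, nat_lit 8, nat_lit 18] (Rl.cmp (nat_lit 240) (nat_lit 365)))) (FT.leaf (Fct.mk true (nat_lit 4) (nat_lit 606) (nat_lit 29) [nat_lit 1, nat_lit 2, nat_lit 3, nat_lit 4, nat_lit 5, nat_lit 4, nat_lit 3, nat_lit 2, nat_lit 1, nat_lit 8, nat_lit 3, nat_lit 2, nat_lit 0, nat_lit 1, nat_lit 4, nat_lit 3, nat_lit 2, nat_lit 8, nat_lit 3, nat_lit 1, nat_lit 9, nat_lit 8, nat_lit 16, nat_lit 15, nat_lit 14, nat_lit 13, nat_lit 18] (Rl.t1 (nat_lit 1797) (nat_lit 1798)))))))))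

/-- some facts -/
noncomputable def ftc36 : FT := FT.node (nat_lit 1825) (FT.node (nat_lit 1812) (FT.node (nat_lit 1806) (FT.node (nat_lit 1803) (FT.node (nat_lit 1801) (FT.leaf (Fct.mk true (nat_lit 4) (nat_lit 12390) (nat_lit 26) [nat_lit 1, nat_lit 2, nat_lit 3, nat_lit 8, nat_lit 5, nat_lit 6, nat_lit 4, nat_lit 5, nat_lit 3, nat_lit 4, nat_lit 2, nat_lit 3, nat_lit 8, nat_lit 1, nat_lit 2, nat_lit 3, nat_lit 4, nat_lit 5, nat_lit 3, nat_lit 8, nat_lit 4, nat_lit 3, nat_lit 2, nat_lit 0, nat_lit 1, nat_lit 9, nat_lit 4, nat_lit 3, nat_lit 2, nat_lit 8, nat_lit 3, nat_lit 8, nat_lit 10, nat_lit 0, nat_lit 8, nat_lit 16, nat_lit 15, nat_lit 14, nat_lit 13] (Rl.t1 (nat_lit 1649) (nat_lit 1792)))) (FT.node (nat_lit 1802) (FT.leaf (Fct.mk false (nat_lit 4) (nat_lit 0) (nat_lit 4) [nat_lit 8, nat_lit 3, nat_lit 4, nat_lit 5, nat_lit 8, nat_lit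 3, nat_lit 2, nat_lit 1, nat_lit 4, nat_lit 3, nat_lit 2, nat_lit 8, nat_lit 3, nat_lit 8, nat_lit 10, nat_lit 1, nat_lit 14, nat_lit 18] (Rl.cmp (nat_lit 312) (nat_lit 367)))) (FT.leaf (Fct.mk true (nat_lit 4) (nat_lit 1323) (nat_lit 26) [nat_lit 2, nat_lit 3, nat_lit 8, nat_lit 5, nat_lit 6, nat_lit 4, nat_lit 5, nat_lit 3, nat_lit 4, nat_lit 2, nat_lit 3, nat_lit 8, nat_lit 1, nat_lit 2, nat_lit 3, nat_lit 4, nat_lit 5, nat_lit 2, nat_lit 0, nat_lit 1, nat_lit 4, nat_lit 3, nat_lit 2, nat_lit 8, nat_lit 3, nat_lit 8, nat_lit 10, nat_lit 0, nat_lit 15, nat_lit 14, nat_lit 8, nat_lit 19, nat_lit 16] (Rl.t1 (nat_lit 1800) (nat_lit 1801)))))) (FT.node (nat_lit 1804) (FT.leaf (Fct.mk false (nat_lit 26) (nat_lit 0) (nat_lit 26) [nat_lit 8, nat_lit 6, nat_lit 4, nat_lit 5, nat_lit 3, nat_lit 4, nat_lit 1, nat_lit 2, nat_lit 3, nat_lit 8, nat_lit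 0, nat_lit 1, nat_lit 2, nat_lit 3, nat_lit 4, nat_lit 5, nat_lit 13, nat_lit 12, nat_lit 18] (Rl.cc (nat_lit 1277) (nat_lit 1802)))) (FT.node (nat_lit 1805) (FT.leaf (Fct.mk false (nat_lit 26) (nat_lit 0) (nat_lit 26) [nat_lit 8, nat_lit 6, nat_lit 4, nat_lit 5, nat_lit 3, nat_lit 4, nat_lit 1, nat_lit 2, nat_lit 3, nat_lit 8, nat_lit 0, nat_lit 1, nat_lit 2, nat_lit 3, nat_lit 4, nat_lit 5, nat_lit 4, nat_lit 3, nat_lit 2, nat_lit 1, nat_lit 8, nat_lit 3, nat_lit 2, nat_lit 0, nat_lit 1, nat_lit 4, nat_lit 3, nat_lit 2, nat_lit 8, nat_lit 3, nat_lit 10, nat_lit 1, nat_lit 8, nat_lit 12, nat_lit 15, nat_lit 14, nat_lit 13, nat_lit 12, nat_lit 18, nat_lit 16] (Rl.cmp (nat_lit 1803) (nat_lit 1287)))) (FT.leaf (Fct.mk false (nat_lit 26) (nat_lit 0) (nat_lit 26) [nat_lit 4, nat_lit 5, nat_lit 2, nat_lit 3, nat_lit 4, nat_lit 1, nat_lit 2, nat_lit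 3, nat_lit 8, nat_lit 0, nat_lit 1, nat_lit 2, nat_lit 3, nat_lit 4, nat_lit 5, nat_lit 1, nat_lit 2, nat_lit 0, nat_lit 1, nat_lit 3, nat_lit 2, nat_lit 8, nat_lit 3, nat_lit 10, nat_lit 0, nat_lit 8, nat_lit 12, nat_lit 15, nat_lit 14, nat_lit 13, nat_lit 12] (Rl.cmp (nat_lit 1309) (nat_lit 1804))))))) (FT.node (nat_lit 1809) (FT.node (nat_lit 1807) (FT.leaf (Fct.mk false (nat_lit 26) (nat_lit 0) (nat_lit 26) [nat_lit 5, nat_lit 4, nat_lit 2, nat_lit 3, nat_lit 8, nat_lit 0, nat_lit 1, nat_lit 2, nat_lit 3, nat_lit 4, nat_lit 5, nat_lit 8, nat_lit 4, nat_lit 3, nat_lit 2, nat_lit 0, nat_lit 1, nat_lit 9, nat_lit 4, nat_lit 3, nat_lit 2, nat_lit 8, nat_lit 3, nat_lit 10, nat_lit 9, nat_lit 2, nat_lit 8, nat_lit 12, nat_lit 15, nat_lit 17] (Rl.cmp (nat_lit 1680) (nat_lit 1805)))) (FT.node (nat_lit 1808) (FT.leaf (Fct.mk false (nat_lit 26) (nat_lit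 0) (nat_lit 26) [nat_lit 8, nat_lit 5, nat_lit 3, nat_lit 4, nat_lit 2, nat_lit 3, nat_lit 8, nat_lit 0, nat_lit 1, nat_lit 2, nat_lit 3, nat_lit 4, nat_lit 5, nat_lit 2, nat_lit 3, nat_lit 8, nat_lit 4, nat_lit 3, nat_lit 2, nat_lit 0, nat_lit 1, nat_lit 9, nat_lit 4, nat_lit 3, nat_lit 2, nat_lit 8, nat_lit 3, nat_lit 10, nat_lit 9, nat_lit 2, nat_lit 8, nat_lit 12, nat_lit 15, nat_lit 17] (Rl.cmp (nat_lit 1299) (nat_lit 1806)))) (FT.leaf (Fct.mk true (nat_lit 26) (nat_lit 71) (nat_lit 5) [nat_lit 8, nat_lit 6, nat_lit 4, nat_lit 5, nat_lit 3, nat_lit 4, nat_lit 1, nat_lit 2, nat_lit 3, nat_lit 8, nat_lit 0, nat_lit 1, nat_lit 2, nat_lit 3, nat_lit 4, nat_lit 5, nat_lit 4, nat_lit 3, nat_lit 2, nat_lit 8, nat_lit 3, nat_lit 11, nat_lit 8, nat_lit 10, nat_lit 1, nat_lit 8, nat_lit 16, nat_lit 14, nat_lit 16, nat_lit 8] (Rl.t1 (nat_lit 1690)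 (nat_lit 1807)))))) (FT.node (nat_lit 1810) (FT.leaf (Fct.mk false (nat_lit 26) (nat_lit 0) (nat_lit 26) [nat_lit 2, nat_lit 1, nat_lit 3, nat_lit 2, nat_lit 0, nat_lit 1, nat_lit 4, nat_lit 3, nat_lit 2, nat_lit 8, nat_lit 3, nat_lit 10, nat_lit 1, nat_lit 8, nat_lit 12, nat_lit 15, nat_lit 14, nat_lit 12, nat_lit 18] (Rl.cmp (nat_lit 1299) (nat_lit 1287)))) (FT.node (nat_lit 1811) (FT.leaf (Fct.mk false (nat_lit 26) (nat_lit 0) (nat_lit 26) [nat_lit 8, nat_lit 6, nat_lit 4, nat_lit 5, nat_lit 3, nat_lit 4, nat_lit 1, nat_lit 2, nat_lit 3, nat_lit 8, nat_lit 0, nat_lit 1, nat_lit 2, nat_lit 3, nat_lit 4, nat_lit 5, nat_lit 1, nat_lit 2, nat_lit 0, nat_lit 1, nat_lit 3, nat_lit 2, nat_lit 8, nat_lit 3, nat_lit 8, nat_lit 10, nat_lit 8, nat_lit 12, nat_lit 15, nat_lit 14, nat_lit 13, nat_lit 12, nat_lit 18] (Rl.cmp (nat_lit 1809) (nat_lit 1803))))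 (FT.leaf (Fct.mk false (nat_lit 26) (nat_lit 0) (nat_lit 26) [nat_lit 80] (Rl.einv (nat_lit 1287)))))))) (FT.node (nat_lit 1818) (FT.node (nat_lit 1815) (FT.node (nat_lit 1813) (FT.leaf (Fct.mk false (nat_lit 26) (nat_lit 0) (nat_lit 26) [nat_lit 8, nat_lit 6, nat_lit 4, nat_lit 5, nat_lit 3, nat_lit 4, nat_lit 1, nat_lit 2, nat_lit 3, nat_lit 8, nat_lit 0, nat_lit 1, nat_lit 2, nat_lit 3, nat_lit 4, nat_lit 5, nat_lit 4, nat_lit 3, nat_lit 2, nat_lit 1, nat_lit 8, nat_lit 3, nat_lit 2, nat_lit 0, nat_lit 1, nat_lit 4, nat_lit 3, nat_lit 2, nat_lit 8, nat_lit 3, nat_lit 10, nat_lit 1, nat_lit 8, nat_lit 12, nat_lit 15, nat_lit 14, nat_lit 13, nat_lit 12, nat_lit 18, nat_lit 16] (Rl.cmp (nat_lit 1811) (nat_lit 1810)))) (FT.node (nat_lit 1814) (FT.leaf (Fct.mk false (nat_lit 25) (nat_lit 0) (nat_lit 25) [nat_lit 86] (Rl.sk (nat_lit 1686) (nat_lit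 1812)))) (FT.leaf (Fct.mk false (nat_lit 25) (nat_lit 0) (nat_lit 25) [nat_lit 8, nat_lit 6, nat_lit 5, nat_lit 2, nat_lit 3, nat_lit 4, nat_lit 1, nat_lit 2, nat_lit 3, nat_lit 8, nat_lit 0, nat_lit 1, nat_lit 2, nat_lit 3, nat_lit 4, nat_lit 5, nat_lit 3, nat_lit 8, nat_lit 4, nat_lit 3, nat_lit 2, nat_lit 0, nat_lit 1, nat_lit 9, nat_lit 4, nat_lit 3, nat_lit 2, nat_lit 8, nat_lit 3, nat_lit 10, nat_lit 2, nat_lit 8, nat_lit 10, nat_lit 1, nat_lit 16, nat_lit 8, nat_lit 12, nat_lit 15, nat_lit 12, nat_lit 19] (Rl.cmp (nat_lit 1672) (nat_lit 1244)))))) (FT.node (nat_lit 1816) (FT.leaf (Fct.mk false (nat_lit 25) (nat_lit 0) (nat_lit 25) [nat_lit 6, nat_lit 5, nat_lit 4, nat_lit 3, nat_lit 8, nat_lit 2, nat_lit 3, nat_lit 4, nat_lit 5, nat_lit 10, nat_lit 9, nat_lit 2, nat_lit 8, nat_lit 19] (Rl.cmp (nat_lit 1813) (nat_lit 1256)))) (FT.node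 (nat_lit 1817) (FT.leaf (Fct.mk false (nat_lit 25) (nat_lit 0) (nat_lit 25) [nat_lit 8, nat_lit 6, nat_lit 5, nat_lit 2, nat_lit 3, nat_lit 4, nat_lit 1, nat_lit 2, nat_lit 3, nat_lit 8, nat_lit 0, nat_lit 1, nat_lit 2, nat_lit 3, nat_lit 4, nat_lit 5, nat_lit 3, nat_lit 8, nat_lit 4, nat_lit 3, nat_lit 2, nat_lit 0, nat_lit 1, nat_lit 9, nat_lit 4, nat_lit 3, nat_lit 2, nat_lit 8, nat_lit 3, nat_lit 10, nat_lit 2, nat_lit 8, nat_lit 10, nat_lit 1, nat_lit 16, nat_lit 8, nat_lit 12, nat_lit 15, nat_lit 12, nat_lit 19] (Rl.einv (nat_lit 1814)))) (FT.leaf (Fct.mk false (nat_lit 25) (nat_lit 0) (nat_lit 25) [nat_lit 5, nat_lit 3, nat_lit 4, nat_lit 1, nat_lit 2, nat_lit 3, nat_lit 8, nat_lit 0, nat_lit 1, nat_lit 2, nat_lit 3, nat_lit 4, nat_lit 5, nat_lit 3, nat_lit 8, nat_lit 4, nat_lit 3, nat_lit 2, nat_lit 0, nat_lit 1, nat_lit 9, nat_lit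 4, nat_lit 3, nat_lit 2, nat_lit 8, nat_lit 3, nat_lit 16, nat_lit 12, nat_lit 15, nat_lit 14, nat_lit 16] (Rl.cmp (nat_lit 1816) (nat_lit 1815))))))) (FT.node (nat_lit 1821) (FT.node (nat_lit 1819) (FT.leaf (Fct.mk false (nat_lit 31) (nat_lit 0) (nat_lit 31) [nat_lit 1, nat_lit 2, nat_lit 3, nat_lit 8, nat_lit 6, nat_lit 4, nat_lit 5, nat_lit 3, nat_lit 4, nat_lit 2, nat_lit 3, nat_lit 8, nat_lit 1, nat_lit 2, nat_lit 3, nat_lit 4, nat_lit 5, nat_lit 2, nat_lit 1, nat_lit 8, nat_lit 3, nat_lit 2, nat_lit 0, nat_lit 1, nat_lit 9, nat_lit 4, nat_lit 3, nat_lit 2, nat_lit 8, nat_lit 3, nat_lit 10, nat_lit 1, nat_lit 12, nat_lit 8, nat_lit 16, nat_lit 14, nat_lit 17, nat_lit 12] (Rl.sk (nat_lit 1683) (nat_lit 1817)))) (FT.node (nat_lit 1820) (FT.leaf (Fct.mk false (nat_lit 31) (nat_lit 0) (nat_lit 31) [nat_lit 1, nat_lit 2, nat_lit 3, nat_lit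 8, nat_lit 6, nat_lit 4, nat_lit 5, nat_lit 3, nat_lit 4, nat_lit 2, nat_lit 3, nat_lit 8, nat_lit 1, nat_lit 2, nat_lit 3, nat_lit 4, nat_lit 5, nat_lit 2, nat_lit 1, nat_lit 9, nat_lit 4, nat_lit 3, nat_lit 2, nat_lit 8, nat_lit 3, nat_lit 10, nat_lit 2, nat_lit 8, nat_lit 10, nat_lit 1, nat_lit 12, nat_lit 8, nat_lit 16, nat_lit 14] (Rl.cmp (nat_lit 1818) (nat_lit 1573)))) (FT.leaf (Fct.mk false (nat_lit 31) (nat_lit 0) (nat_lit 31) [nat_lit 2, nat_lit 1, nat_lit 4, nat_lit 3, nat_lit 2, nat_lit 0, nat_lit 1, nat_lit 9, nat_lit 4, nat_lit 3, nat_lit 2, nat_lit 8, nat_lit 3, nat_lit 11, nat_lit 10, nat_lit 8, nat_lit 12, nat_lit 15, nat_lit 14, nat_lit 16, nat_lit 8, nat_lit 19] (Rl.cmp (nat_lit 1573) (nat_lit 1553)))))) (FT.node (nat_lit 1823) (FT.node (nat_lit 1822) (FT.leaf (Fct.mk false (nat_lit 31) (nat_lit 0) (nat_lit 31) [nat_lit 10]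 (Rl.cmp (nat_lit 1820) (nat_lit 1573)))) (FT.leaf (Fct.mk false (nat_lit 31) (nat_lit 0) (nat_lit 31) [nat_lit 0, nat_lit 1, nat_lit 2, nat_lit 3, nat_lit 4, nat_lit 5, nat_lit 1, nat_lit 3, nat_lit 2, nat_lit 0, nat_lit 1, nat_lit 9, nat_lit 4, nat_lit 3, nat_lit 2, nat_lit 8, nat_lit 3, nat_lit 11, nat_lit 8, nat_lit 10, nat_lit 16, nat_lit 12, nat_lit 15, nat_lit 14, nat_lit 16, nat_lit 8, nat_lit 19] (Rl.cmp (nat_lit 1821) (nat_lit 1589))))) (FT.node (nat_lit 1824) (FT.leaf (Fct.mk false (nat_lit 31) (nat_lit 0) (nat_lit 31) [nat_lit 1, nat_lit 2, nat_lit 3, nat_lit 8, nat_lit 6, nat_lit 4, nat_lit 5, nat_lit 3, nat_lit 4, nat_lit 2, nat_lit 3, nat_lit 8, nat_lit 1, nat_lit 2, nat_lit 3, nat_lit 4, nat_lit 5, nat_lit 0, nat_lit 1, nat_lit 3, nat_lit 2, nat_lit 8, nat_lit 3, nat_lit 11, nat_lit 16, nat_lit 12, nat_lit 15, nat_lit 14, nat_lit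 16, nat_lit 8, nat_lit 19, nat_lit 16] (Rl.cmp (nat_lit 1822) (nat_lit 1818)))) (FT.leaf (Fct.mk false (nat_lit 31) (nat_lit 0) (nat_lit 31) [nat_lit 1, nat_lit 2, nat_lit 3, nat_lit 8, nat_lit 6, nat_lit 4, nat_lit 5, nat_lit 3, nat_lit 4, nat_lit 2, nat_lit 3, nat_lit 8, nat_lit 1, nat_lit 2, nat_lit 3, nat_lit 4, nat_lit 5, nat_lit 2, nat_lit 1, nat_lit 9, nat_lit 4, nat_lit 3, nat_lit 2, nat_lit 8, nat_lit 3, nat_lit 10, nat_lit 2, nat_lit 8, nat_lit 10, nat_lit 1, nat_lit 12, nat_lit 8, nat_lit 16, nat_lit 14] (Rl.einv (nat_lit 1819))))))))) (FT.node (nat_lit 1837) (FT.node (nat_lit 1831) (FT.node (nat_lit 1828) (FT.node (nat_lit 1826) (FT.leaf (Fct.mk false (nat_lit 31) (nat_lit 0) (nat_lit 31) [nat_lit 8, nat_lit 4, nat_lit 3, nat_lit 2, nat_lit 0, nat_lit 1, nat_lit 9, nat_lit 4, nat_lit 3, nat_lit 2, nat_lit 8, nat_lit 3, nat_lit 11,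 nat_lit 2, nat_lit 16, nat_lit 14, nat_lit 17, nat_lit 12, nat_lit 16] (Rl.cmp (nat_lit 1824) (nat_lit 1823)))) (FT.node (nat_lit 1827) (FT.leaf (Fct.mk false (nat_lit 30) (nat_lit 0) (nat_lit 30) [nat_lit 3, nat_lit 2, nat_lit 1, nat_lit 4, nat_lit 3, nat_lit 2, nat_lit 8, nat_lit 3, nat_lit 10, nat_lit 14, nat_lit 12, nat_lit 18] (Rl.sk (nat_lit 1615) (nat_lit 1825)))) (FT.leaf (Fct.mk false (nat_lit 30) (nat_lit 0) (nat_lit 30) [nat_lit 6, nat_lit 5, nat_lit 4, nat_lit 3, nat_lit 8, nat_lit 1, nat_lit 2, nat_lit 3, nat_lit 4, nat_lit 5, nat_lit 3, nat_lit 8, nat_lit 4, nat_lit 3, nat_lit 2, nat_lit 1, nat_lit 9, nat_lit 4, nat_lit 3, nat_lit 2, nat_lit 8, nat_lit 3, nat_lit 2, nat_lit 8, nat_lit 10, nat_lit 1, nat_lit 12, nat_lit 8, nat_lit 16, nat_lit 14, nat_lit 12, nat_lit 18] (Rl.cmp (nat_lit 1500) (nat_lit 1826)))))) (FT.node (nat_lit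 1829) (FT.leaf (Fct.mk false (nat_lit 30) (nat_lit 0) (nat_lit 30) [nat_lit 1, nat_lit 2, nat_lit 3, nat_lit 8, nat_lit 4, nat_lit 5, nat_lit 3, nat_lit 4, nat_lit 2, nat_lit 3, nat_lit 8, nat_lit 1, nat_lit 2, nat_lit 3, nat_lit 4, nat_lit 5, nat_lit 3, nat_lit 2, nat_lit 1, nat_lit 9, nat_lit 4, nat_lit 3, nat_lit 2, nat_lit 8, nat_lit 3, nat_lit 2, nat_lit 8, nat_lit 10, nat_lit 1, nat_lit 12, nat_lit 8, nat_lit 16, nat_lit 14] (Rl.cmp (nat_lit 1827) (nat_lit 1512)))) (FT.node (nat_lit 1830) (FT.leaf (Fct.mk false (nat_lit 30) (nat_lit 0) (nat_lit 30) [nat_lit 6, nat_lit 5, nat_lit 4, nat_lit 3, nat_lit 8, nat_lit 1, nat_lit 2, nat_lit 3, nat_lit 4, nat_lit 5, nat_lit 8, nat_lit 3, nat_lit 2, nat_lit 1, nat_lit 9, nat_lit 4, nat_lit 3, nat_lit 2, nat_lit 8, nat_lit 3, nat_lit 2, nat_lit 8, nat_lit 10, nat_lit 1, nat_lit 12, nat_lit 8, nat_lit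 16, nat_lit 14, nat_lit 12, nat_lit 18] (Rl.cmp (nat_lit 1828) (nat_lit 1507)))) (FT.leaf (Fct.mk false (nat_lit 30) (nat_lit 0) (nat_lit 30) [nat_lit 3] (Rl.einv (nat_lit 1515))))))) (FT.node (nat_lit 1834) (FT.node (nat_lit 1832) (FT.leaf (Fct.mk false (nat_lit 30) (nat_lit 0) (nat_lit 30) [nat_lit 6, nat_lit 5, nat_lit 4, nat_lit 3, nat_lit 8, nat_lit 1, nat_lit 2, nat_lit 3, nat_lit 4, nat_lit 5, nat_lit 8, nat_lit 3, nat_lit 2, nat_lit 1, nat_lit 9, nat_lit 4, nat_lit 3, nat_lit 2, nat_lit 8, nat_lit 3, nat_lit 8, nat_lit 10, nat_lit 1, nat_lit 12, nat_lit 8, nat_lit 16, nat_lit 14, nat_lit 12, nat_lit 18] (Rl.cmp (nat_lit 1830) (nat_lit 1829)))) (FT.node (nat_lit 1833) (FT.leaf (Fct.mk false (nat_lit 13) (nat_lit 0) (nat_lit 13) [nat_lit 3, nat_lit 8, nat_lit 2, nat_lit 3, nat_lit 4, nat_lit 1, nat_lit 2, nat_lit 3, nat_lit 8, nat_lit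 0, nat_lit 1, nat_lit 2, nat_lit 3, nat_lit 4, nat_lit 5, nat_lit 1, nat_lit 2, nat_lit 0, nat_lit 1, nat_lit 9, nat_lit 4, nat_lit 3, nat_lit 2, nat_lit 8, nat_lit 3, nat_lit 11, nat_lit 15, nat_lit 14, nat_lit 12] (Rl.sk (nat_lit 1546) (nat_lit 1831)))) (FT.leaf (Fct.mk false (nat_lit 13) (nat_lit 0) (nat_lit 13) [nat_lit 8, nat_lit 4, nat_lit 5, nat_lit 2, nat_lit 3, nat_lit 4, nat_lit 1, nat_lit 2, nat_lit 3, nat_lit 8, nat_lit 0, nat_lit 1, nat_lit 2, nat_lit 3, nat_lit 4, nat_lit 5, nat_lit 4, nat_lit 2, nat_lit 8, nat_lit 10, nat_lit 1, nat_lit 8, nat_lit 12, nat_lit 15, nat_lit 14, nat_lit 18] (Rl.cmp (nat_lit 1138) (nat_lit 827)))))) (FT.node (nat_lit 1835) (FT.leaf (Fct.mk false (nat_lit 13) (nat_lit 0) (nat_lit 13) [nat_lit 6, nat_lit 5, nat_lit 3, nat_lit 4, nat_lit 1, nat_lit 2, nat_lit 3, nat_lit 8, nat_lit 0, nat_lit 1, nat_lit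 2, nat_lit 3, nat_lit 4, nat_lit 5, nat_lit 1, nat_lit 3, nat_lit 2, nat_lit 8, nat_lit 3, nat_lit 9, nat_lit 2, nat_lit 15, nat_lit 14, nat_lit 16] (Rl.cmp (nat_lit 1832) (nat_lit 1833)))) (FT.node (nat_lit 1836) (FT.leaf (Fct.mk false (nat_lit 13) (nat_lit 0) (nat_lit 13) [nat_lit 4, nat_lit 3, nat_lit 8, nat_lit 2, nat_lit 3, nat_lit 4, nat_lit 1, nat_lit 2, nat_lit 3, nat_lit 8, nat_lit 5, nat_lit 6, nat_lit 4, nat_lit 5, nat_lit 3, nat_lit 4, nat_lit 2, nat_lit 3, nat_lit 8, nat_lit 1, nat_lit 2, nat_lit 3, nat_lit 4, nat_lit 5, nat_lit 8, nat_lit 3, nat_lit 2, nat_lit 0, nat_lit 1, nat_lit 9, nat_lit 4, nat_lit 3, nat_lit 2, nat_lit 8, nat_lit 3, nat_lit 2, nat_lit 10, nat_lit 1, nat_lit 12, nat_lit 8, nat_lit 16, nat_lit 14, nat_lit 17, nat_lit 12, nat_lit 19, nat_lit 16] (Rl.cmp (nat_lit 1138) (nat_lit 1834)))) (FT.leaf (Fct.mk false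 (nat_lit 13) (nat_lit 0) (nat_lit 13) [nat_lit 8, nat_lit 4, nat_lit 5, nat_lit 2, nat_lit 3, nat_lit 4, nat_lit 1, nat_lit 2, nat_lit 3, nat_lit 8, nat_lit 0, nat_lit 1, nat_lit 2, nat_lit 3, nat_lit 4, nat_lit 5, nat_lit 4, nat_lit 10, nat_lit 1, nat_lit 8, nat_lit 12, nat_lit 15, nat_lit 14, nat_lit 18] (Rl.cmp (nat_lit 1138) (nat_lit 814)))))))) (FT.node (nat_lit 1843) (FT.node (nat_lit 1840) (FT.node (nat_lit 1838) (FT.leaf (Fct.mk false (nat_lit 13) (nat_lit 0) (nat_lit 13) [nat_lit 8, nat_lit 4, nat_lit 5, nat_lit 2, nat_lit 3, nat_lit 4, nat_lit 1, nat_lit 2, nat_lit 3, nat_lit 8, nat_lit 0, nat_lit 1, nat_lit 2, nat_lit 3, nat_lit 4, nat_lit 5, nat_lit 4, nat_lit 8, nat_lit 10, nat_lit 1, nat_lit 8, nat_lit 12, nat_lit 15, nat_lit 14, nat_lit 18] (Rl.cmp (nat_lit 1836) (nat_lit 827)))) (FT.node (nat_lit 1839) (FT.leaf (Fct.mk false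 (nat_lit 13) (nat_lit 0) (nat_lit 13) [nat_lit 5, nat_lit 0, nat_lit 2, nat_lit 12] (Rl.cmp (nat_lit 1837) (nat_lit 1138)))) (FT.leaf (Fct.mk false (nat_lit 13) (nat_lit 0) (nat_lit 13) [nat_lit 5, nat_lit 4, nat_lit 1, nat_lit 2, nat_lit 3, nat_lit 8, nat_lit 0, nat_lit 1, nat_lit 2, nat_lit 3, nat_lit 4, nat_lit 5, nat_lit 10, nat_lit 1, nat_lit 8, nat_lit 12, nat_lit 15, nat_lit 14, nat_lit 12] (Rl.cmp (nat_lit 1838) (nat_lit 1741)))))) (FT.node (nat_lit 1841) (FT.leaf (Fct.mk false (nat_lit 13) (nat_lit 0) (nat_lit 13) [nat_lit 4, nat_lit 3, nat_lit 8, nat_lit 2, nat_lit 3, nat_lit 4, nat_lit 5, nat_lit 2, nat_lit 1, nat_lit 4, nat_lit 3, nat_lit 2, nat_lit 0, nat_lit 1, nat_lit 9, nat_lit 4, nat_lit 3, nat_lit 2, nat_lit 8, nat_lit 3, nat_lit 11, nat_lit 10, nat_lit 8, nat_lit 12, nat_lit 15, nat_lit 14, nat_lit 16, nat_lit 8, nat_lit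 18, nat_lit 16] (Rl.cmp (nat_lit 1839) (nat_lit 1832)))) (FT.node (nat_lit 1842) (FT.leaf (Fct.mk false (nat_lit 13) (nat_lit 0) (nat_lit 13) [nat_lit 8, nat_lit 4, nat_lit 5, nat_lit 2, nat_lit 3, nat_lit 4, nat_lit 1, nat_lit 2, nat_lit 3, nat_lit 8, nat_lit 0, nat_lit 1, nat_lit 2, nat_lit 3, nat_lit 4, nat_lit 5, nat_lit 2, nat_lit 0, nat_lit 1, nat_lit 9, nat_lit 4, nat_lit 3, nat_lit 2, nat_lit 8, nat_lit 3, nat_lit 2, nat_lit 8, nat_lit 10, nat_lit 1, nat_lit 12, nat_lit 15, nat_lit 17, nat_lit 16] (Rl.einv (nat_lit 1835)))) (FT.leaf (Fct.mk false (nat_lit 13) (nat_lit 0) (nat_lit 13) [nat_lit 1, nat_lit 2, nat_lit 3, nat_lit 8, nat_lit 6, nat_lit 4, nat_lit 5, nat_lit 3, nat_lit 4, nat_lit 2, nat_lit 3, nat_lit 8, nat_lit 1, nat_lit 2, nat_lit 3, nat_lit 4, nat_lit 5, nat_lit 9, nat_lit 4, nat_lit 3, nat_lit 2, nat_lit 8, nat_lit 3,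 nat_lit 10, nat_lit 2, nat_lit 8, nat_lit 10, nat_lit 1, nat_lit 12, nat_lit 8, nat_lit 16, nat_lit 14, nat_lit 16] (Rl.cmp (nat_lit 1841) (nat_lit 1840))))))) (FT.node (nat_lit 1846) (FT.node (nat_lit 1844) (FT.leaf (Fct.mk false (nat_lit 9) (nat_lit 0) (nat_lit 9) [nat_lit 5, nat_lit 3, nat_lit 2, nat_lit 1, nat_lit 9, nat_lit 4, nat_lit 3, nat_lit 2, nat_lit 8, nat_lit 3, nat_lit 8, nat_lit 10, nat_lit 9, nat_lit 2, nat_lit 8, nat_lit 16, nat_lit 14] (Rl.sk (nat_lit 1745) (nat_lit 1842)))) (FT.node (nat_lit 1845) (FT.leaf (Fct.mk false (nat_lit 9) (nat_lit 0) (nat_lit 9) [nat_lit 3, nat_lit 2, nat_lit 1, nat_lit 9, nat_lit 4, nat_lit 3, nat_lit 2, nat_lit 8, nat_lit 3, nat_lit 8, nat_lit 10, nat_lit 9, nat_lit 2, nat_lit 8, nat_lit 16, nat_lit 14] (Rl.cmp (nat_lit 1843) (nat_lit 675)))) (FT.leaf (Fct.mk true (nat_lit 9) (nat_lit 353) (nat_lit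 26) [nat_lit 4, nat_lit 3, nat_lit 8, nat_lit 5, nat_lit 6, nat_lit 4, nat_lit 5, nat_lit 3, nat_lit 4, nat_lit 1, nat_lit 2, nat_lit 3, nat_lit 8, nat_lit 0, nat_lit 1, nat_lit 2, nat_lit 3, nat_lit 4, nat_lit 5, nat_lit 8, nat_lit 3, nat_lit 2, nat_lit 0, nat_lit 1, nat_lit 9, nat_lit 4, nat_lit 3, nat_lit 2, nat_lit 8, nat_lit 3, nat_lit 11, nat_lit 1, nat_lit 16, nat_lit 15, nat_lit 14, nat_lit 17, nat_lit 19] (Rl.t1 (nat_lit 1317) (nat_lit 1844)))))) (FT.node (nat_lit 1848) (FT.node (nat_lit 1847) (FT.leaf (Fct.mk false (nat_lit 9) (nat_lit 0) (nat_lit 9) [nat_lit 6, nat_lit 4, nat_lit 5, nat_lit 3, nat_lit 4, nat_lit 1, nat_lit 2, nat_lit 3, nat_lit 8, nat_lit 0, nat_lit 1, nat_lit 2, nat_lit 3, nat_lit 4, nat_lit 5, nat_lit 8, nat_lit 3, nat_lit 1, nat_lit 8, nat_lit 12, nat_lit 15, nat_lit 14, nat_lit 17, nat_lit 16] (Rl.cmp (nat_lit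 1710) (nat_lit 661)))) (FT.leaf (Fct.mk false (nat_lit 9) (nat_lit 0) (nat_lit 9) [nat_lit 5, nat_lit 6, nat_lit 4, nat_lit 5, nat_lit 3, nat_lit 4, nat_lit 1, nat_lit 2, nat_lit 3, nat_lit 8, nat_lit 0, nat_lit 1, nat_lit 2, nat_lit 3, nat_lit 4, nat_lit 5, nat_lit 1, nat_lit 4, nat_lit 3, nat_lit 2, nat_lit 0, nat_lit 1, nat_lit 9, nat_lit 4, nat_lit 3, nat_lit 2, nat_lit 8, nat_lit 3, nat_lit 11, nat_lit 16, nat_lit 8, nat_lit 12, nat_lit 15, nat_lit 8, nat_lit 19, nat_lit 16] (Rl.cmp (nat_lit 1846) (nat_lit 1843))))) (FT.node (nat_lit 1849) (FT.leaf (Fct.mk false (nat_lit 9) (nat_lit 0) (nat_lit 9) [nat_lit 6, nat_lit 4, nat_lit 5, nat_lit 3, nat_lit 4, nat_lit 1, nat_lit 2, nat_lit 3, nat_lit 8, nat_lit 0, nat_lit 1, nat_lit 2, nat_lit 3, nat_lit 4, nat_lit 5, nat_lit 4, nat_lit 8, nat_lit 10, nat_lit 1, nat_lit 8, nat_lit 12, nat_lit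 15, nat_lit 14, nat_lit 17, nat_lit 16] (Rl.einv (nat_lit 1710)))) (FT.leaf (Fct.mk false (nat_lit 9) (nat_lit 0) (nat_lit 9) [nat_lit 5, nat_lit 3, nat_lit 2, nat_lit 1, nat_lit 9, nat_lit 4, nat_lit 3, nat_lit 2, nat_lit 8, nat_lit 3, nat_lit 11, nat_lit 8, nat_lit 10, nat_lit 8, nat_lit 12, nat_lit 15, nat_lit 13] (Rl.cmp (nat_lit 1848) (nat_lit 1847)))))))))

/-- some facts -/
noncomputable def ftc37 : FT := FT.node (nat_lit 1875) (FT.node (nat_lit 1862) (FT.node (nat_lit 1856) (FT.node (nat_lit 1853) (FT.node (nat_lit 1851) (FT.leaf (Fct.mk false (nat_lit 2) (nat_lit 0) (nat_lit 2) [nat_lit 48] (Rl.sk (nat_lit 1347) (nat_lit 1849)))) (FT.node (nat_lit 1852) (FT.leaf (Fct.mk false (nat_lit 2) (nat_lit 0) (nat_lit 2) [nat_lit 6, nat_lit 2, nat_lit 3, nat_lit 8, nat_lit 10, nat_lit 12, nat_lit 18] (Rl.cmp (nat_lit 168) (nat_lit 84)))) (FT.leaf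 (Fct.mk false (nat_lit 2) (nat_lit 0) (nat_lit 2) [nat_lit 2, nat_lit 8, nat_lit 3, nat_lit 8, nat_lit 10] (Rl.cmp (nat_lit 168) (nat_lit 1851)))))) (FT.node (nat_lit 1854) (FT.leaf (Fct.mk false (nat_lit 2) (nat_lit 0) (nat_lit 2) [nat_lit 4, nat_lit 3, nat_lit 2, nat_lit 1, nat_lit 8, nat_lit 3, nat_lit 2, nat_lit 0, nat_lit 1, nat_lit 4, nat_lit 3, nat_lit 2, nat_lit 8, nat_lit 3, nat_lit 8, nat_lit 10, nat_lit 8, nat_lit 12, nat_lit 15, nat_lit 14, nat_lit 8, nat_lit 18] (Rl.cmp (nat_lit 300) (nat_lit 87)))) (FT.node (nat_lit 1855) (FT.leaf (Fct.mk false (nat_lit 2) (nat_lit 0) (nat_lit 2) [nat_lit 2, nat_lit 1, nat_lit 3, nat_lit 2, nat_lit 0, nat_lit 1, nat_lit 4, nat_lit 3, nat_lit 2, nat_lit 8, nat_lit 3, nat_lit 2, nat_lit 8, nat_lit 10, nat_lit 1, nat_lit 8, nat_lit 12, nat_lit 15, nat_lit 14, nat_lit 12] (Rl.cmp (nat_lit 1853) (nat_lit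 87)))) (FT.leaf (Fct.mk false (nat_lit 2) (nat_lit 0) (nat_lit 2) [nat_lit 1, nat_lit 2, nat_lit 0, nat_lit 1, nat_lit 3, nat_lit 2, nat_lit 8, nat_lit 3, nat_lit 10, nat_lit 0, nat_lit 8, nat_lit 12, nat_lit 15, nat_lit 14, nat_lit 12] (Rl.cmp (nat_lit 1854) (nat_lit 173))))))) (FT.node (nat_lit 1859) (FT.node (nat_lit 1857) (FT.leaf (Fct.mk false (nat_lit 2) (nat_lit 0) (nat_lit 2) [nat_lit 1, nat_lit 2, nat_lit 3, nat_lit 8, nat_lit 4, nat_lit 5, nat_lit 3, nat_lit 4, nat_lit 2, nat_lit 3, nat_lit 8, nat_lit 1, nat_lit 2, nat_lit 3, nat_lit 4, nat_lit 5, nat_lit 3, nat_lit 8, nat_lit 4, nat_lit 3, nat_lit 2, nat_lit 0, nat_lit 1, nat_lit 9, nat_lit 4, nat_lit 3, nat_lit 2, nat_lit 8, nat_lit 3, nat_lit 11, nat_lit 10, nat_lit 1, nat_lit 12, nat_lit 8, nat_lit 16, nat_lit 14, nat_lit 17, nat_lit 19] (Rl.cmp (nat_lit 1855) (nat_lit 1850))))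 (FT.node (nat_lit 1858) (FT.leaf (Fct.mk false (nat_lit 2) (nat_lit 0) (nat_lit 2) [nat_lit 8, nat_lit 3, nat_lit 2, nat_lit 12, nat_lit 18] (Rl.einv (nat_lit 1852)))) (FT.leaf (Fct.mk false (nat_lit 2) (nat_lit 0) (nat_lit 2) [nat_lit 1, nat_lit 2, nat_lit 3, nat_lit 8, nat_lit 4, nat_lit 5, nat_lit 3, nat_lit 4, nat_lit 2, nat_lit 3, nat_lit 8, nat_lit 1, nat_lit 2, nat_lit 3, nat_lit 4, nat_lit 5, nat_lit 8, nat_lit 3, nat_lit 2, nat_lit 0, nat_lit 1, nat_lit 9, nat_lit 4, nat_lit 3, nat_lit 2, nat_lit 8, nat_lit 3, nat_lit 11, nat_lit 1, nat_lit 12, nat_lit 8, nat_lit 16, nat_lit 14, nat_lit 13, nat_lit 12] (Rl.cmp (nat_lit 1857) (nat_lit 1856)))))) (FT.node (nat_lit 1860) (FT.leaf (Fct.mk false (nat_lit 5) (nat_lit 0) (nat_lit 5) [nat_lit 73] (Rl.sk (nat_lit 1121) (nat_lit 1858)))) (FT.node (nat_lit 1861) (FT.leaf (Fct.mk true (nat_lit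 5) (nat_lit 71) (nat_lit 3) [nat_lit 6, nat_lit 5, nat_lit 2, nat_lit 3, nat_lit 4, nat_lit 1, nat_lit 2, nat_lit 3, nat_lit 8, nat_lit 0, nat_lit 1, nat_lit 2, nat_lit 3, nat_lit 4, nat_lit 5, nat_lit 2, nat_lit 3, nat_lit 15, nat_lit 14, nat_lit 8, nat_lit 19] (Rl.t1 (nat_lit 487) (nat_lit 1859)))) (FT.leaf (Fct.mk false (nat_lit 5) (nat_lit 0) (nat_lit 5) [nat_lit 72] (Rl.cmp (nat_lit 1754) (nat_lit 488)))))))) (FT.node (nat_lit 1868) (FT.node (nat_lit 1865) (FT.node (nat_lit 1863) (FT.leaf (Fct.mk false (nat_lit 5) (nat_lit 0) (nat_lit 5) [nat_lit 4, nat_lit 5, nat_lit 9, nat_lit 4, nat_lit 1, nat_lit 0, nat_lit 2, nat_lit 12, nat_lit 15, nat_lit 14] (Rl.cmp (nat_lit 1859) (nat_lit 1861)))) (FT.node (nat_lit 1864) (FT.leaf (Fct.mk true (nat_lit 5) (nat_lit 79) (nat_lit 28) [nat_lit 4, nat_lit 3, nat_lit 8, nat_lit 5, nat_lit 6, nat_lit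 4, nat_lit 5, nat_lit 3, nat_lit 4, nat_lit 2, nat_lit 3, nat_lit 8, nat_lit 1, nat_lit 2, nat_lit 3, nat_lit 4, nat_lit 5, nat_lit 3, nat_lit 2, nat_lit 1, nat_lit 4, nat_lit 3, nat_lit 2, nat_lit 8, nat_lit 3, nat_lit 11, nat_lit 10, nat_lit 2, nat_lit 8, nat_lit 10, nat_lit 1, nat_lit 8, nat_lit 12, nat_lit 15, nat_lit 13, nat_lit 12, nat_lit 16] (Rl.t1 (nat_lit 1408) (nat_lit 1862)))) (FT.leaf (Fct.mk false (nat_lit 5) (nat_lit 0) (nat_lit 5) [nat_lit 6, nat_lit 9, nat_lit 4, nat_lit 10, nat_lit 12, nat_lit 15, nat_lit 12, nat_lit 16] (Rl.cmp (nat_lit 1754) (nat_lit 1859)))))) (FT.node (nat_lit 1866) (FT.leaf (Fct.mk true (nat_lit 5) (nat_lit 2227) (nat_lit 6) [nat_lit 7, nat_lit 6, nat_lit 5, nat_lit 4, nat_lit 3, nat_lit 8, nat_lit 0, nat_lit 1, nat_lit 2, nat_lit 3, nat_lit 4, nat_lit 5, nat_lit 6, nat_lit 7, nat_lit 8, nat_lit 3, nat_lit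 11, nat_lit 8, nat_lit 10, nat_lit 13, nat_lit 16] (Rl.t1 (nat_lit 1757) (nat_lit 1864)))) (FT.node (nat_lit 1867) (FT.leaf (Fct.mk false (nat_lit 5) (nat_lit 0) (nat_lit 5) [nat_lit 3, nat_lit 4, nat_lit 5, nat_lit 0, nat_lit 1, nat_lit 2, nat_lit 3, nat_lit 10, nat_lit 0, nat_lit 12, nat_lit 15, nat_lit 16] (Rl.cmp (nat_lit 1859) (nat_lit 1754)))) (FT.leaf (Fct.mk true (nat_lit 5) (nat_lit 14561) (nat_lit 11) [nat_lit 1, nat_lit 2, nat_lit 3, nat_lit 8, nat_lit 7, nat_lit 6, nat_lit 4, nat_lit 5, nat_lit 3, nat_lit 4, nat_lit 2, nat_lit 3, nat_lit 8, nat_lit 1, nat_lit 2, nat_lit 3, nat_lit 4, nat_lit 5, nat_lit 6, nat_lit 7, nat_lit 2, nat_lit 1, nat_lit 9, nat_lit 4, nat_lit 3, nat_lit 2, nat_lit 8, nat_lit 3, nat_lit 8, nat_lit 10, nat_lit 0, nat_lit 12, nat_lit 8, nat_lit 16, nat_lit 14, nat_lit 17] (Rl.t1 (nat_lit 1760) (nat_lit 1866)))))))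 (FT.node (nat_lit 1871) (FT.node (nat_lit 1869) (FT.leaf (Fct.mk false (nat_lit 5) (nat_lit 0) (nat_lit 5) [nat_lit 6, nat_lit 1, nat_lit 12, nat_lit 15, nat_lit 12] (Rl.cmp (nat_lit 1859) (nat_lit 470)))) (FT.node (nat_lit 1870) (FT.leaf (Fct.mk true (nat_lit 5) (nat_lit 24967) (nat_lit 14) [nat_lit 7, nat_lit 6, nat_lit 5, nat_lit 2, nat_lit 3, nat_lit 4, nat_lit 1, nat_lit 2, nat_lit 3, nat_lit 8, nat_lit 0, nat_lit 1, nat_lit 2, nat_lit 3, nat_lit 4, nat_lit 5, nat_lit 6, nat_lit 7, nat_lit 8, nat_lit 3, nat_lit 10, nat_lit 9, nat_lit 2, nat_lit 8, nat_lit 16, nat_lit 15, nat_lit 14, nat_lit 17] (Rl.t1 (nat_lit 1762) (nat_lit 1868)))) (FT.leaf (Fct.mk false (nat_lit 5) (nat_lit 0) (nat_lit 5) [nat_lit 6, nat_lit 1, nat_lit 12, nat_lit 15, nat_lit 12] (Rl.cmp (nat_lit 1859) (nat_lit 470)))))) (FT.node (nat_lit 1873) (FT.node (nat_lit 1872)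 (FT.leaf (Fct.mk true (nat_lit 5) (nat_lit 231) (nat_lit 30) [nat_lit 5, nat_lit 4, nat_lit 1, nat_lit 2, nat_lit 3, nat_lit 8, nat_lit 0, nat_lit 1, nat_lit 2, nat_lit 3, nat_lit 4, nat_lit 5, nat_lit 2, nat_lit 0, nat_lit 1, nat_lit 3, nat_lit 2, nat_lit 8, nat_lit 3, nat_lit 11, nat_lit 2, nat_lit 8, nat_lit 10, nat_lit 1, nat_lit 16, nat_lit 12, nat_lit 15, nat_lit 14, nat_lit 18] (Rl.t1 (nat_lit 1768) (nat_lit 1870)))) (FT.leaf (Fct.mk false (nat_lit 31) (nat_lit 0) (nat_lit 30) [nat_lit 8, nat_lit 6, nat_lit 4, nat_lit 5, nat_lit 3, nat_lit 4, nat_lit 2, nat_lit 3, nat_lit 8, nat_lit 1, nat_lit 2, nat_lit 3, nat_lit 4, nat_lit 5, nat_lit 2, nat_lit 1, nat_lit 9, nat_lit 4, nat_lit 3, nat_lit 2, nat_lit 8, nat_lit 3, nat_lit 10, nat_lit 2, nat_lit 8, nat_lit 10, nat_lit 1, nat_lit 17, nat_lit 19] (Rl.cc (nat_lit 1773) (nat_lit 1871)))))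 (FT.node (nat_lit 1874) (FT.leaf (Fct.mk false (nat_lit 5) (nat_lit 0) (nat_lit 5) [nat_lit 0, nat_lit 1, nat_lit 2, nat_lit 3, nat_lit 4, nat_lit 5, nat_lit 3, nat_lit 11, nat_lit 10, nat_lit 14, nat_lit 13] (Rl.cmp (nat_lit 1859) (nat_lit 472)))) (FT.leaf (Fct.mk false (nat_lit 5) (nat_lit 0) (nat_lit 5) [nat_lit 3, nat_lit 4, nat_lit 5, nat_lit 0, nat_lit 1, nat_lit 2, nat_lit 3, nat_lit 10, nat_lit 12, nat_lit 15, nat_lit 16] (Rl.cmp (nat_lit 1873) (nat_lit 1754))))))))) (FT.node (nat_lit 1887) (FT.node (nat_lit 1881) (FT.node (nat_lit 1878) (FT.node (nat_lit 1876) (FT.leaf (Fct.mk false (nat_lit 5) (nat_lit 0) (nat_lit 5) [nat_lit 72] (Rl.einv (nat_lit 1754)))) (FT.node (nat_lit 1877) (FT.leaf (Fct.mk false (nat_lit 5) (nat_lit 0) (nat_lit 5) [nat_lit 9, nat_lit 4, nat_lit 11, nat_lit 1, nat_lit 15, nat_lit 14, nat_lit 13] (Rl.cmp (nat_lit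 1875) (nat_lit 1874)))) (FT.leaf (Fct.mk false (nat_lit 7) (nat_lit 0) (nat_lit 7) [nat_lit 2, nat_lit 3, nat_lit 8, nat_lit 4, nat_lit 5, nat_lit 3, nat_lit 4, nat_lit 2, nat_lit 3, nat_lit 8, nat_lit 0, nat_lit 1, nat_lit 2, nat_lit 3, nat_lit 4, nat_lit 5, nat_lit 3, nat_lit 2, nat_lit 0, nat_lit 1, nat_lit 9, nat_lit 4, nat_lit 3, nat_lit 2, nat_lit 8, nat_lit 3, nat_lit 11, nat_lit 10, nat_lit 1, nat_lit 14, nat_lit 13, nat_lit 12, nat_lit 19, nat_lit 16] (Rl.sk (nat_lit 590) (nat_lit 1876)))))) (FT.node (nat_lit 1879) (FT.leaf (Fct.mk false (nat_lit 7) (nat_lit 0) (nat_lit 7) [nat_lit 8, nat_lit 5, nat_lit 6, nat_lit 4, nat_lit 5, nat_lit 3, nat_lit 4, nat_lit 2, nat_lit 3, nat_lit 8, nat_lit 1, nat_lit 2, nat_lit 3, nat_lit 4, nat_lit 5, nat_lit 0, nat_lit 1, nat_lit 2, nat_lit 8, nat_lit 3, nat_lit 11, nat_lit 15, nat_lit 13, nat_lit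 12, nat_lit 18] (Rl.cmp (nat_lit 592) (nat_lit 1104)))) (FT.node (nat_lit 1880) (FT.leaf (Fct.mk false (nat_lit 7) (nat_lit 0) (nat_lit 7) [nat_lit 0, nat_lit 1, nat_lit 2, nat_lit 3, nat_lit 4, nat_lit 5, nat_lit 9, nat_lit 4, nat_lit 1, nat_lit 14, nat_lit 12, nat_lit 16] (Rl.cmp (nat_lit 594) (nat_lit 592)))) (FT.leaf (Fct.mk false (nat_lit 7) (nat_lit 0) (nat_lit 7) [nat_lit 8, nat_lit 5, nat_lit 6, nat_lit 4, nat_lit 5, nat_lit 2, nat_lit 3, nat_lit 4, nat_lit 1, nat_lit 2, nat_lit 3, nat_lit 8, nat_lit 0, nat_lit 1, nat_lit 2, nat_lit 3, nat_lit 4, nat_lit 5, nat_lit 2, nat_lit 3, nat_lit 11, nat_lit 1, nat_lit 12, nat_lit 15, nat_lit 13, nat_lit 12, nat_lit 16] (Rl.cmp (nat_lit 1879) (nat_lit 1877))))))) (FT.node (nat_lit 1884) (FT.node (nat_lit 1882) (FT.leaf (Fct.mk false (nat_lit 7) (nat_lit 0) (nat_lit 7) [nat_lit 2, nat_lit 3, nat_lit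 8, nat_lit 4, nat_lit 5, nat_lit 3, nat_lit 4, nat_lit 2, nat_lit 3, nat_lit 8, nat_lit 1, nat_lit 2, nat_lit 3, nat_lit 4, nat_lit 5, nat_lit 9, nat_lit 4, nat_lit 11, nat_lit 15, nat_lit 17, nat_lit 12, nat_lit 19, nat_lit 16] (Rl.einv (nat_lit 1878)))) (FT.node (nat_lit 1883) (FT.leaf (Fct.mk false (nat_lit 7) (nat_lit 0) (nat_lit 7) [nat_lit 1, nat_lit 2, nat_lit 3, nat_lit 4, nat_lit 5, nat_lit 1, nat_lit 2, nat_lit 0, nat_lit 1, nat_lit 3, nat_lit 2, nat_lit 8, nat_lit 3, nat_lit 10, nat_lit 0, nat_lit 16, nat_lit 14, nat_lit 12] (Rl.cmp (nat_lit 1881) (nat_lit 1880)))) (FT.leaf (Fct.mk false (nat_lit 10) (nat_lit 0) (nat_lit 10) [nat_lit 3, nat_lit 8, nat_lit 5, nat_lit 6, nat_lit 4, nat_lit 5, nat_lit 3, nat_lit 4, nat_lit 2, nat_lit 3, nat_lit 8, nat_lit 1, nat_lit 2, nat_lit 3, nat_lit 4, nat_lit 5, nat_lit 6, nat_lit 7, nat_lit 6,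 nat_lit 5, nat_lit 4, nat_lit 3, nat_lit 8, nat_lit 1, nat_lit 2, nat_lit 3, nat_lit 4, nat_lit 5, nat_lit 1, nat_lit 3, nat_lit 2, nat_lit 8, nat_lit 3, nat_lit 2, nat_lit 8, nat_lit 16] (Rl.sk (nat_lit 1113) (nat_lit 1882)))))) (FT.node (nat_lit 1885) (FT.leaf (Fct.mk false (nat_lit 10) (nat_lit 0) (nat_lit 10) [nat_lit 3, nat_lit 8, nat_lit 5, nat_lit 6, nat_lit 4, nat_lit 5, nat_lit 3, nat_lit 4, nat_lit 2, nat_lit 3, nat_lit 8, nat_lit 1, nat_lit 2, nat_lit 3, nat_lit 4, nat_lit 5, nat_lit 6, nat_lit 7, nat_lit 6, nat_lit 5, nat_lit 4, nat_lit 2, nat_lit 3, nat_lit 8, nat_lit 1, nat_lit 2, nat_lit 3, nat_lit 4, nat_lit 5, nat_lit 1, nat_lit 2, nat_lit 8, nat_lit 3, nat_lit 8, nat_lit 16] (Rl.cmp (nat_lit 1883) (nat_lit 718)))) (FT.node (nat_lit 1886) (FT.leaf (Fct.mk true (nat_lit 10) (nat_lit 26116) (nat_lit 16) [nat_lit 6, nat_lit 5,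 nat_lit 3, nat_lit 4, nat_lit 2, nat_lit 3, nat_lit 8, nat_lit 0, nat_lit 1, nat_lit 2, nat_lit 3, nat_lit 4, nat_lit 5, nat_lit 6, nat_lit 7, nat_lit 4, nat_lit 5, nat_lit 6, nat_lit 3, nat_lit 4, nat_lit 5, nat_lit 2, nat_lit 3, nat_lit 4, nat_lit 1, nat_lit 2, nat_lit 3, nat_lit 8, nat_lit 0, nat_lit 1, nat_lit 2, nat_lit 3, nat_lit 4, nat_lit 5, nat_lit 8, nat_lit 3, nat_lit 2, nat_lit 1, nat_lit 4, nat_lit 3, nat_lit 2, nat_lit 8, nat_lit 3, nat_lit 11, nat_lit 10, nat_lit 1, nat_lit 12, nat_lit 15, nat_lit 13, nat_lit 12, nat_lit 18] (Rl.t1 (nat_lit 939) (nat_lit 1884)))) (FT.leaf (Fct.mk false (nat_lit 10) (nat_lit 0) (nat_lit 10) [nat_lit 6, nat_lit 2, nat_lit 3, nat_lit 9, nat_lit 12, nat_lit 16] (Rl.cmp (nat_lit 722) (nat_lit 718)))))))) (FT.node (nat_lit 1893) (FT.node (nat_lit 1890) (FT.node (nat_lit 1888) (FT.leaf (Fct.mk false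 (nat_lit 10) (nat_lit 0) (nat_lit 10) [nat_lit 3, nat_lit 8, nat_lit 5, nat_lit 6, nat_lit 4, nat_lit 5, nat_lit 3, nat_lit 4, nat_lit 2, nat_lit 3, nat_lit 8, nat_lit 1, nat_lit 2, nat_lit 3, nat_lit 4, nat_lit 5, nat_lit 6, nat_lit 7, nat_lit 6, nat_lit 5, nat_lit 4, nat_lit 3, nat_lit 8, nat_lit 1, nat_lit 2, nat_lit 3, nat_lit 4, nat_lit 5, nat_lit 1, nat_lit 2, nat_lit 3, nat_lit 2, nat_lit 8, nat_lit 16] (Rl.einv (nat_lit 1883)))) (FT.node (nat_lit 1889) (FT.leaf (Fct.mk false (nat_lit 10) (nat_lit 0) (nat_lit 10) [nat_lit 3, nat_lit 8, nat_lit 5, nat_lit 6, nat_lit 4, nat_lit 5, nat_lit 3, nat_lit 4, nat_lit 2, nat_lit 3, nat_lit 8, nat_lit 1, nat_lit 2, nat_lit 3, nat_lit 4, nat_lit 5, nat_lit 6, nat_lit 7, nat_lit 6, nat_lit 5, nat_lit 3, nat_lit 4, nat_lit 2, nat_lit 3, nat_lit 8, nat_lit 1, nat_lit 2, nat_lit 3, nat_lit 4, nat_lit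 5, nat_lit 1, nat_lit 3, nat_lit 2, nat_lit 8, nat_lit 3, nat_lit 9, nat_lit 8, nat_lit 16] (Rl.cmp (nat_lit 1887) (nat_lit 1886)))) (FT.leaf (Fct.mk false (nat_lit 15) (nat_lit 0) (nat_lit 15) [nat_lit 6, nat_lit 5, nat_lit 4, nat_lit 3, nat_lit 8, nat_lit 2, nat_lit 3, nat_lit 4, nat_lit 5, nat_lit 6, nat_lit 7, nat_lit 8, nat_lit 10, nat_lit 9, nat_lit 2, nat_lit 8, nat_lit 18, nat_lit 16] (Rl.sk (nat_lit 896) (nat_lit 1888)))))) (FT.node (nat_lit 1891) (FT.leaf (Fct.mk false (nat_lit 15) (nat_lit 0) (nat_lit 15) [nat_lit 6, nat_lit 5, nat_lit 4, nat_lit 3, nat_lit 8, nat_lit 2, nat_lit 3, nat_lit 4, nat_lit 5, nat_lit 6, nat_lit 7, nat_lit 5, nat_lit 8, nat_lit 3, nat_lit 10, nat_lit 9, nat_lit 2, nat_lit 8, nat_lit 18, nat_lit 16] (Rl.cmp (nat_lit 894) (nat_lit 1889)))) (FT.node (nat_lit 1892) (FT.leaf (Fct.mk true (nat_lit 15) (nat_lit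 56379) (nat_lit 11) [nat_lit 7, nat_lit 6, nat_lit 5, nat_lit 4, nat_lit 3, nat_lit 8, nat_lit 2, nat_lit 3, nat_lit 4, nat_lit 5, nat_lit 6, nat_lit 7, nat_lit 8, nat_lit 5, nat_lit 6, nat_lit 4, nat_lit 5, nat_lit 3, nat_lit 4, nat_lit 1, nat_lit 2, nat_lit 3, nat_lit 8, nat_lit 0, nat_lit 1, nat_lit 2, nat_lit 3, nat_lit 4, nat_lit 5, nat_lit 1, nat_lit 2, nat_lit 0, nat_lit 1, nat_lit 3, nat_lit 2, nat_lit 8, nat_lit 3, nat_lit 11, nat_lit 10, nat_lit 1, nat_lit 16, nat_lit 15, nat_lit 14, nat_lit 13, nat_lit 12, nat_lit 16] (Rl.t1 (nat_lit 905) (nat_lit 1890)))) (FT.leaf (Fct.mk false (nat_lit 15) (nat_lit 0) (nat_lit 15) [nat_lit 6, nat_lit 5, nat_lit 4, nat_lit 3, nat_lit 8, nat_lit 2, nat_lit 3, nat_lit 4, nat_lit 5, nat_lit 6, nat_lit 7, nat_lit 8, nat_lit 3, nat_lit 8, nat_lit 10, nat_lit 9, nat_lit 2, nat_lit 8, nat_lit 18, nat_lit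 16] (Rl.cmp (nat_lit 1889) (nat_lit 891))))))) (FT.node (nat_lit 1896) (FT.node (nat_lit 1894) (FT.leaf (Fct.mk false (nat_lit 15) (nat_lit 0) (nat_lit 15) [nat_lit 6, nat_lit 5, nat_lit 4, nat_lit 3, nat_lit 8, nat_lit 2, nat_lit 3, nat_lit 4, nat_lit 5, nat_lit 6, nat_lit 7, nat_lit 3, nat_lit 10, nat_lit 9, nat_lit 2, nat_lit 8, nat_lit 18, nat_lit 16] (Rl.cmp (nat_lit 1892) (nat_lit 891)))) (FT.node (nat_lit 1895) (FT.leaf (Fct.mk false (nat_lit 15) (nat_lit 0) (nat_lit 15) [nat_lit 6, nat_lit 5, nat_lit 4, nat_lit 3, nat_lit 8, nat_lit 2, nat_lit 3, nat_lit 4, nat_lit 5, nat_lit 6, nat_lit 7, nat_lit 8, nat_lit 10, nat_lit 9, nat_lit 2, nat_lit 8, nat_lit 18, nat_lit 16] (Rl.cmp (nat_lit 1893) (nat_lit 891)))) (FT.leaf (Fct.mk false (nat_lit 19) (nat_lit 0) (nat_lit 19) [nat_lit 8, nat_lit 5, nat_lit 6, nat_lit 4, nat_lit 5, nat_lit 2,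 nat_lit 3, nat_lit 4, nat_lit 1, nat_lit 2, nat_lit 3, nat_lit 8, nat_lit 0, nat_lit 1, nat_lit 2, nat_lit 3, nat_lit 4, nat_lit 5, nat_lit 6, nat_lit 7, nat_lit 6, nat_lit 5, nat_lit 4, nat_lit 3, nat_lit 8, nat_lit 1, nat_lit 2, nat_lit 3, nat_lit 4, nat_lit 5, nat_lit 4, nat_lit 11, nat_lit 10, nat_lit 1, nat_lit 12, nat_lit 15, nat_lit 14, nat_lit 17, nat_lit 19] (Rl.sk (nat_lit 1025) (nat_lit 1894)))))) (FT.node (nat_lit 1898) (FT.node (nat_lit 1897) (FT.leaf (Fct.mk false (nat_lit 19) (nat_lit 0) (nat_lit 19) [nat_lit 8, nat_lit 5, nat_lit 6, nat_lit 4, nat_lit 5, nat_lit 2, nat_lit 3, nat_lit 4, nat_lit 1, nat_lit 2, nat_lit 3, nat_lit 8, nat_lit 0, nat_lit 1, nat_lit 2, nat_lit 3, nat_lit 4, nat_lit 5, nat_lit 6, nat_lit 7, nat_lit 6, nat_lit 5, nat_lit 4, nat_lit 3, nat_lit 8, nat_lit 1, nat_lit 2, nat_lit 3, nat_lit 4, nat_lit 5,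 nat_lit 4, nat_lit 9, nat_lit 14, nat_lit 16, nat_lit 8] (Rl.cmp (nat_lit 1895) (nat_lit 1020)))) (FT.leaf (Fct.mk true (nat_lit 19) (nat_lit 27656) (nat_lit 16) [nat_lit 8, nat_lit 5, nat_lit 6, nat_lit 4, nat_lit 5, nat_lit 3, nat_lit 4, nat_lit 2, nat_lit 3, nat_lit 8, nat_lit 1, nat_lit 2, nat_lit 3, nat_lit 4, nat_lit 5, nat_lit 6, nat_lit 7, nat_lit 6, nat_lit 3, nat_lit 4, nat_lit 5, nat_lit 2, nat_lit 3, nat_lit 4, nat_lit 1, nat_lit 2, nat_lit 3, nat_lit 8, nat_lit 0, nat_lit 1, nat_lit 2, nat_lit 3, nat_lit 4, nat_lit 5, nat_lit 1, nat_lit 8, nat_lit 3, nat_lit 2, nat_lit 0, nat_lit 1, nat_lit 4, nat_lit 3, nat_lit 2, nat_lit 8, nat_lit 3, nat_lit 0, nat_lit 2, nat_lit 8, nat_lit 12, nat_lit 15, nat_lit 12] (Rl.t1 (nat_lit 1033) (nat_lit 1896))))) (FT.node (nat_lit 1899) (FT.leaf (Fct.mk false (nat_lit 19) (nat_lit 0) (nat_lit 19)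 [nat_lit 6, nat_lit 1, nat_lit 0, nat_lit 2, nat_lit 15, nat_lit 14] (Rl.cmp (nat_lit 1020) (nat_lit 1013)))) (FT.leaf (Fct.mk false (nat_lit 19) (nat_lit 0) (nat_lit 19) [nat_lit 1, nat_lit 0, nat_lit 2, nat_lit 15, nat_lit 14] (Rl.cmp (nat_lit 1898) (nat_lit 1013)))))))))

/-- some facts -/
noncomputable def ftc38 : FT := FT.node (nat_lit 1925) (FT.node (nat_lit 1912) (FT.node (nat_lit 1906) (FT.node (nat_lit 1903) (FT.node (nat_lit 1901) (FT.leaf (Fct.mk false (nat_lit 19) (nat_lit 0) (nat_lit 19) [nat_lit 8, nat_lit 5, nat_lit 6, nat_lit 4, nat_lit 5, nat_lit 3, nat_lit 4, nat_lit 2, nat_lit 3, nat_lit 8, nat_lit 1, nat_lit 2, nat_lit 3, nat_lit 4, nat_lit 5, nat_lit 6, nat_lit 7, nat_lit 6, nat_lit 5, nat_lit 4, nat_lit 3, nat_lit 8, nat_lit 1, nat_lit 2, nat_lit 3, nat_lit 4, nat_lit 5, nat_lit 4, nat_lit 11, nat_lit 2, nat_lit 10, nat_lit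 1, nat_lit 12, nat_lit 15, nat_lit 17, nat_lit 19] (Rl.cmp (nat_lit 1899) (nat_lit 1895)))) (FT.node (nat_lit 1902) (FT.leaf (Fct.mk false (nat_lit 19) (nat_lit 0) (nat_lit 19) [nat_lit 8, nat_lit 5, nat_lit 6, nat_lit 4, nat_lit 5, nat_lit 3, nat_lit 4, nat_lit 2, nat_lit 3, nat_lit 8, nat_lit 1, nat_lit 2, nat_lit 3, nat_lit 4, nat_lit 5, nat_lit 6, nat_lit 7, nat_lit 6, nat_lit 5, nat_lit 4, nat_lit 3, nat_lit 8, nat_lit 2, nat_lit 3, nat_lit 4, nat_lit 5, nat_lit 4, nat_lit 11, nat_lit 2, nat_lit 10, nat_lit 1, nat_lit 12, nat_lit 15, nat_lit 17, nat_lit 19] (Rl.cmp (nat_lit 1900) (nat_lit 1013)))) (FT.leaf (Fct.mk false (nat_lit 19) (nat_lit 0) (nat_lit 19) [nat_lit 8, nat_lit 5, nat_lit 6, nat_lit 4, nat_lit 5, nat_lit 3, nat_lit 4, nat_lit 2, nat_lit 3, nat_lit 8, nat_lit 1, nat_lit 2, nat_lit 3, nat_lit 4, nat_lit 5, nat_lit 6, nat_lit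 7, nat_lit 6, nat_lit 5, nat_lit 4, nat_lit 3, nat_lit 8, nat_lit 1, nat_lit 2, nat_lit 3, nat_lit 4, nat_lit 5, nat_lit 4, nat_lit 11, nat_lit 2, nat_lit 10, nat_lit 1, nat_lit 12, nat_lit 15, nat_lit 17, nat_lit 19] (Rl.cmp (nat_lit 1901) (nat_lit 1013)))))) (FT.node (nat_lit 1904) (FT.leaf (Fct.mk false (nat_lit 19) (nat_lit 0) (nat_lit 19) [nat_lit 7, nat_lit 4, nat_lit 15] (Rl.einv (nat_lit 1022)))) (FT.node (nat_lit 1905) (FT.leaf (Fct.mk false (nat_lit 19) (nat_lit 0) (nat_lit 19) [nat_lit 8, nat_lit 7, nat_lit 5, nat_lit 6, nat_lit 4, nat_lit 5, nat_lit 3, nat_lit 4, nat_lit 1, nat_lit 2, nat_lit 3, nat_lit 8, nat_lit 0, nat_lit 1, nat_lit 2, nat_lit 3, nat_lit 4, nat_lit 5, nat_lit 6, nat_lit 7, nat_lit 6, nat_lit 5, nat_lit 4, nat_lit 3, nat_lit 8, nat_lit 1, nat_lit 2, nat_lit 3, nat_lit 4, nat_lit 5, nat_lit 9, nat_lit 4, nat_lit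 11, nat_lit 10, nat_lit 1, nat_lit 12, nat_lit 15, nat_lit 17, nat_lit 19] (Rl.cmp (nat_lit 1903) (nat_lit 1902)))) (FT.leaf (Fct.mk false (nat_lit 21) (nat_lit 0) (nat_lit 21) [nat_lit 8, nat_lit 2, nat_lit 3, nat_lit 4, nat_lit 1, nat_lit 2, nat_lit 3, nat_lit 8, nat_lit 5, nat_lit 6, nat_lit 4, nat_lit 5, nat_lit 3, nat_lit 4, nat_lit 2, nat_lit 3, nat_lit 8, nat_lit 1, nat_lit 2, nat_lit 3, nat_lit 4, nat_lit 5, nat_lit 6, nat_lit 7, nat_lit 6, nat_lit 5, nat_lit 4, nat_lit 3, nat_lit 8, nat_lit 2, nat_lit 3, nat_lit 4, nat_lit 5, nat_lit 1, nat_lit 2, nat_lit 3, nat_lit 8, nat_lit 4, nat_lit 3, nat_lit 2, nat_lit 1, nat_lit 9, nat_lit 4, nat_lit 3, nat_lit 2, nat_lit 8, nat_lit 3, nat_lit 15] (Rl.sk (nat_lit 1055) (nat_lit 1904))))))) (FT.node (nat_lit 1909) (FT.node (nat_lit 1907) (FT.leaf (Fct.mk false (nat_lit 21) (nat_lit 0) (nat_lit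 21) [nat_lit 15, nat_lit 14] (Rl.cmp (nat_lit 1051) (nat_lit 1051)))) (FT.node (nat_lit 1908) (FT.leaf (Fct.mk false (nat_lit 21) (nat_lit 0) (nat_lit 21) [nat_lit 8, nat_lit 2, nat_lit 3, nat_lit 4, nat_lit 1, nat_lit 2, nat_lit 3, nat_lit 8, nat_lit 5, nat_lit 6, nat_lit 4, nat_lit 5, nat_lit 3, nat_lit 4, nat_lit 2, nat_lit 3, nat_lit 8, nat_lit 1, nat_lit 2, nat_lit 3, nat_lit 4, nat_lit 5, nat_lit 6, nat_lit 7, nat_lit 6, nat_lit 5, nat_lit 4, nat_lit 3, nat_lit 8, nat_lit 2, nat_lit 3, nat_lit 4, nat_lit 5, nat_lit 1, nat_lit 2, nat_lit 3, nat_lit 8, nat_lit 4, nat_lit 3, nat_lit 2, nat_lit 1, nat_lit 9, nat_lit 4, nat_lit 3, nat_lit 2, nat_lit 8, nat_lit 3, nat_lit 14] (Rl.cmp (nat_lit 1905) (nat_lit 1906)))) (FT.leaf (Fct.mk false (nat_lit 21) (nat_lit 0) (nat_lit 21) [nat_lit 3, nat_lit 8, nat_lit 2, nat_lit 3, nat_lit 4, nat_lit 1,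 nat_lit 2, nat_lit 3, nat_lit 8, nat_lit 5, nat_lit 6, nat_lit 4, nat_lit 5, nat_lit 3, nat_lit 4, nat_lit 2, nat_lit 3, nat_lit 8, nat_lit 1, nat_lit 2, nat_lit 3, nat_lit 4, nat_lit 5, nat_lit 6, nat_lit 7, nat_lit 6, nat_lit 5, nat_lit 4, nat_lit 3, nat_lit 8, nat_lit 1, nat_lit 2, nat_lit 3, nat_lit 4, nat_lit 5, nat_lit 1, nat_lit 3, nat_lit 2, nat_lit 8, nat_lit 3, nat_lit 9, nat_lit 8, nat_lit 12, nat_lit 15, nat_lit 16, nat_lit 8] (Rl.cmp (nat_lit 1905) (nat_lit 1907)))))) (FT.node (nat_lit 1910) (FT.leaf (Fct.mk false (nat_lit 21) (nat_lit 0) (nat_lit 21) [nat_lit 8, nat_lit 3, nat_lit 4, nat_lit 2, nat_lit 3, nat_lit 8, nat_lit 5, nat_lit 6, nat_lit 4, nat_lit 5, nat_lit 3, nat_lit 4, nat_lit 2, nat_lit 3, nat_lit 8, nat_lit 1, nat_lit 2, nat_lit 3, nat_lit 4, nat_lit 5, nat_lit 6, nat_lit 7, nat_lit 6, nat_lit 5, nat_lit 4, nat_lit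 2, nat_lit 3, nat_lit 8, nat_lit 1, nat_lit 2, nat_lit 3, nat_lit 4, nat_lit 5, nat_lit 1, nat_lit 4, nat_lit 3, nat_lit 2, nat_lit 8, nat_lit 3, nat_lit 9, nat_lit 8, nat_lit 12, nat_lit 15, nat_lit 16, nat_lit 8] (Rl.cmp (nat_lit 1052) (nat_lit 1908)))) (FT.node (nat_lit 1911) (FT.leaf (Fct.mk true (nat_lit 21) (nat_lit 6326) (nat_lit 10) [nat_lit 8, nat_lit 3, nat_lit 4, nat_lit 2, nat_lit 3, nat_lit 8, nat_lit 5, nat_lit 6, nat_lit 4, nat_lit 5, nat_lit 3, nat_lit 4, nat_lit 2, nat_lit 3, nat_lit 8, nat_lit 1, nat_lit 2, nat_lit 3, nat_lit 4, nat_lit 5, nat_lit 6, nat_lit 7, nat_lit 8, nat_lit 6, nat_lit 4, nat_lit 5, nat_lit 3, nat_lit 4, nat_lit 2, nat_lit 3, nat_lit 8, nat_lit 1, nat_lit 2, nat_lit 3, nat_lit 4, nat_lit 5, nat_lit 2, nat_lit 3, nat_lit 8, nat_lit 4, nat_lit 3, nat_lit 2, nat_lit 0, nat_lit 1, nat_lit 9, nat_lit 4, nat_lit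 3, nat_lit 2, nat_lit 8, nat_lit 3, nat_lit 10, nat_lit 14, nat_lit 13, nat_lit 16] (Rl.t1 (nat_lit 1061) (nat_lit 1909)))) (FT.leaf (Fct.mk false (nat_lit 30) (nat_lit 0) (nat_lit 31) [nat_lit 2, nat_lit 3, nat_lit 8, nat_lit 0, nat_lit 1, nat_lit 2, nat_lit 3, nat_lit 4, nat_lit 5, nat_lit 1, nat_lit 2, nat_lit 0, nat_lit 1, nat_lit 9, nat_lit 4, nat_lit 3, nat_lit 2, nat_lit 8, nat_lit 3, nat_lit 8, nat_lit 16, nat_lit 14, nat_lit 13, nat_lit 16] (Rl.einv (nat_lit 1872)))))))) (FT.node (nat_lit 1918) (FT.node (nat_lit 1915) (FT.node (nat_lit 1913) (FT.leaf (Fct.mk false (nat_lit 30) (nat_lit 0) (nat_lit 31) [nat_lit 6, nat_lit 4, nat_lit 5, nat_lit 3, nat_lit 4, nat_lit 2, nat_lit 3, nat_lit 8, nat_lit 1, nat_lit 2, nat_lit 3, nat_lit 4, nat_lit 5, nat_lit 1, nat_lit 4, nat_lit 3, nat_lit 2, nat_lit 0, nat_lit 1, nat_lit 9, nat_lit 4, nat_lit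 3, nat_lit 2, nat_lit 8, nat_lit 3, nat_lit 11, nat_lit 8, nat_lit 10, nat_lit 14, nat_lit 16, nat_lit 8] (Rl.cmp (nat_lit 1911) (nat_lit 1701)))) (FT.node (nat_lit 1914) (FT.leaf (Fct.mk false (nat_lit 30) (nat_lit 0) (nat_lit 30) [nat_lit 1, nat_lit 2, nat_lit 3, nat_lit 8, nat_lit 6, nat_lit 4, nat_lit 5, nat_lit 3, nat_lit 4, nat_lit 2, nat_lit 3, nat_lit 8, nat_lit 1, nat_lit 2, nat_lit 3, nat_lit 4, nat_lit 5, nat_lit 2, nat_lit 1, nat_lit 4, nat_lit 3, nat_lit 2, nat_lit 0, nat_lit 1, nat_lit 9, nat_lit 4, nat_lit 3, nat_lit 2, nat_lit 8, nat_lit 3, nat_lit 10, nat_lit 2, nat_lit 8, nat_lit 10, nat_lit 1, nat_lit 12, nat_lit 8, nat_lit 16, nat_lit 14, nat_lit 13, nat_lit 12, nat_lit 19] (Rl.cmp (nat_lit 1912) (nat_lit 1872)))) (FT.leaf (Fct.mk false (nat_lit 30) (nat_lit 0) (nat_lit 30) [nat_lit 8, nat_lit 3, nat_lit 4, nat_lit 2, nat_lit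 3, nat_lit 8, nat_lit 5, nat_lit 6, nat_lit 4, nat_lit 5, nat_lit 3, nat_lit 4, nat_lit 2, nat_lit 3, nat_lit 8, nat_lit 0, nat_lit 1, nat_lit 2, nat_lit 3, nat_lit 4, nat_lit 5, nat_lit 1, nat_lit 2, nat_lit 0, nat_lit 1, nat_lit 9, nat_lit 4, nat_lit 3, nat_lit 2, nat_lit 8, nat_lit 3, nat_lit 11, nat_lit 1, nat_lit 15, nat_lit 14, nat_lit 8, nat_lit 19, nat_lit 16] (Rl.cmp (nat_lit 1913) (nat_lit 1507)))))) (FT.node (nat_lit 1916) (FT.leaf (Fct.mk true (nat_lit 30) (nat_lit 1097) (nat_lit 13) [nat_lit 5, nat_lit 3, nat_lit 4, nat_lit 2, nat_lit 3, nat_lit 8, nat_lit 1, nat_lit 2, nat_lit 3, nat_lit 4, nat_lit 5, nat_lit 2, nat_lit 3, nat_lit 8, nat_lit 4, nat_lit 3, nat_lit 2, nat_lit 0, nat_lit 1, nat_lit 9, nat_lit 4, nat_lit 3, nat_lit 2, nat_lit 8, nat_lit 3, nat_lit 2, nat_lit 8, nat_lit 10, nat_lit 1, nat_lit 16, nat_lit 12, nat_lit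 15, nat_lit 14, nat_lit 13, nat_lit 19] (Rl.t1 (nat_lit 1546) (nat_lit 1914)))) (FT.node (nat_lit 1917) (FT.leaf (Fct.mk false (nat_lit 30) (nat_lit 0) (nat_lit 30) [nat_lit 1, nat_lit 2, nat_lit 3, nat_lit 8, nat_lit 6, nat_lit 4, nat_lit 5, nat_lit 3, nat_lit 4, nat_lit 2, nat_lit 3, nat_lit 8, nat_lit 1, nat_lit 2, nat_lit 3, nat_lit 4, nat_lit 5, nat_lit 8, nat_lit 3, nat_lit 2, nat_lit 8, nat_lit 10, nat_lit 1, nat_lit 8, nat_lit 16, nat_lit 14, nat_lit 8, nat_lit 16] (Rl.cmp (nat_lit 1826) (nat_lit 1500)))) (FT.leaf (Fct.mk false (nat_lit 30) (nat_lit 0) (nat_lit 30) [nat_lit 1, nat_lit 2, nat_lit 3, nat_lit 8, nat_lit 6, nat_lit 4, nat_lit 5, nat_lit 3, nat_lit 4, nat_lit 2, nat_lit 3, nat_lit 8, nat_lit 1, nat_lit 2, nat_lit 3, nat_lit 4, nat_lit 5, nat_lit 2, nat_lit 1, nat_lit 9, nat_lit 4, nat_lit 3, nat_lit 2, nat_lit 8, nat_lit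 3, nat_lit 10, nat_lit 2, nat_lit 8, nat_lit 10, nat_lit 1, nat_lit 12, nat_lit 8, nat_lit 16, nat_lit 14] (Rl.cmp (nat_lit 1500) (nat_lit 1916))))))) (FT.node (nat_lit 1921) (FT.node (nat_lit 1919) (FT.leaf (Fct.mk false (nat_lit 30) (nat_lit 0) (nat_lit 30) [nat_lit 1, nat_lit 8, nat_lit 4, nat_lit 3, nat_lit 2, nat_lit 0, nat_lit 1, nat_lit 9, nat_lit 4, nat_lit 3, nat_lit 2, nat_lit 8, nat_lit 3, nat_lit 2, nat_lit 8, nat_lit 10, nat_lit 1, nat_lit 8, nat_lit 12, nat_lit 15, nat_lit 14, nat_lit 13, nat_lit 12, nat_lit 19] (Rl.cmp (nat_lit 1913) (nat_lit 1917)))) (FT.node (nat_lit 1920) (FT.leaf (Fct.mk false (nat_lit 30) (nat_lit 0) (nat_lit 30) [nat_lit 2, nat_lit 1, nat_lit 4, nat_lit 3, nat_lit 2, nat_lit 8, nat_lit 3, nat_lit 10, nat_lit 14, nat_lit 12, nat_lit 18] (Rl.cmp (nat_lit 1826) (nat_lit 1515)))) (FT.leaf (Fct.mk false (nat_lit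 30) (nat_lit 0) (nat_lit 30) [nat_lit 1, nat_lit 2, nat_lit 3, nat_lit 8, nat_lit 4, nat_lit 5, nat_lit 3, nat_lit 4, nat_lit 2, nat_lit 3, nat_lit 8, nat_lit 1, nat_lit 2, nat_lit 3, nat_lit 4, nat_lit 5, nat_lit 8, nat_lit 3, nat_lit 2, nat_lit 10, nat_lit 1, nat_lit 8, nat_lit 16, nat_lit 14, nat_lit 8, nat_lit 16] (Rl.cmp (nat_lit 1919) (nat_lit 1507)))))) (FT.node (nat_lit 1923) (FT.node (nat_lit 1922) (FT.leaf (Fct.mk false (nat_lit 30) (nat_lit 0) (nat_lit 30) [nat_lit 1, nat_lit 2, nat_lit 3, nat_lit 8, nat_lit 4, nat_lit 5, nat_lit 3, nat_lit 4, nat_lit 2, nat_lit 3, nat_lit 8, nat_lit 1, nat_lit 2, nat_lit 3, nat_lit 4, nat_lit 5, nat_lit 3, nat_lit 2, nat_lit 8, nat_lit 3, nat_lit 2, nat_lit 8, nat_lit 10, nat_lit 1, nat_lit 8, nat_lit 16, nat_lit 14, nat_lit 8, nat_lit 16] (Rl.cmp (nat_lit 1920) (nat_lit 1515)))) (FT.leaf (Fct.mk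 false (nat_lit 30) (nat_lit 0) (nat_lit 30) [nat_lit 1, nat_lit 2, nat_lit 3, nat_lit 8, nat_lit 4, nat_lit 5, nat_lit 3, nat_lit 4, nat_lit 2, nat_lit 3, nat_lit 8, nat_lit 1, nat_lit 2, nat_lit 3, nat_lit 4, nat_lit 5, nat_lit 1, nat_lit 9, nat_lit 4, nat_lit 3, nat_lit 2, nat_lit 8, nat_lit 3, nat_lit 2, nat_lit 8, nat_lit 10, nat_lit 1, nat_lit 12, nat_lit 8, nat_lit 16, nat_lit 14] (Rl.cmp (nat_lit 1921) (nat_lit 1826))))) (FT.node (nat_lit 1924) (FT.leaf (Fct.mk false (nat_lit 30) (nat_lit 0) (nat_lit 30) [nat_lit 6, nat_lit 1, nat_lit 8, nat_lit 3, nat_lit 2, nat_lit 0, nat_lit 1, nat_lit 9, nat_lit 4, nat_lit 3, nat_lit 2, nat_lit 8, nat_lit 3, nat_lit 8, nat_lit 10, nat_lit 1, nat_lit 8, nat_lit 12, nat_lit 15, nat_lit 14, nat_lit 13, nat_lit 12, nat_lit 19] (Rl.cmp (nat_lit 1922) (nat_lit 1913)))) (FT.leaf (Fct.mk false (nat_lit 30)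 (nat_lit 0) (nat_lit 30) [nat_lit 1, nat_lit 8, nat_lit 4, nat_lit 3, nat_lit 2, nat_lit 0, nat_lit 1, nat_lit 9, nat_lit 4, nat_lit 3, nat_lit 2, nat_lit 8, nat_lit 3, nat_lit 2, nat_lit 8, nat_lit 10, nat_lit 1, nat_lit 8, nat_lit 12, nat_lit 15, nat_lit 14, nat_lit 13, nat_lit 12, nat_lit 19] (Rl.einv (nat_lit 1918))))))))) (FT.node (nat_lit 1937) (FT.node (nat_lit 1931) (FT.node (nat_lit 1928) (FT.node (nat_lit 1926) (FT.leaf (Fct.mk false (nat_lit 30) (nat_lit 0) (nat_lit 30) [nat_lit 8, nat_lit 3, nat_lit 4, nat_lit 1, nat_lit 2, nat_lit 3, nat_lit 8, nat_lit 0, nat_lit 1, nat_lit 2, nat_lit 3, nat_lit 4, nat_lit 5, nat_lit 2, nat_lit 1, nat_lit 4, nat_lit 3, nat_lit 2, nat_lit 8, nat_lit 3, nat_lit 2, nat_lit 8, nat_lit 10, nat_lit 1, nat_lit 12, nat_lit 15, nat_lit 8] (Rl.cmp (nat_lit 1924) (nat_lit 1923)))) (FT.node (nat_lit 1927)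 (FT.leaf (Fct.mk false (nat_lit 23) (nat_lit 0) (nat_lit 23) [nat_lit 8, nat_lit 6, nat_lit 5, nat_lit 3, nat_lit 4, nat_lit 2, nat_lit 3, nat_lit 8, nat_lit 1, nat_lit 2, nat_lit 3, nat_lit 4, nat_lit 5, nat_lit 2, nat_lit 1, nat_lit 9, nat_lit 4, nat_lit 3, nat_lit 2, nat_lit 8, nat_lit 3, nat_lit 10, nat_lit 9, nat_lit 2, nat_lit 14, nat_lit 16, nat_lit 8] (Rl.sk (nat_lit 1534) (nat_lit 1925)))) (FT.leaf (Fct.mk true (nat_lit 30) (nat_lit 56434) (nat_lit 4) [nat_lit 3, nat_lit 8, nat_lit 4, nat_lit 5, nat_lit 3, nat_lit 4, nat_lit 2, nat_lit 3, nat_lit 8, nat_lit 1, nat_lit 2, nat_lit 3, nat_lit 4, nat_lit 5, nat_lit 4, nat_lit 3, nat_lit 2, nat_lit 0, nat_lit 1, nat_lit 9, nat_lit 4, nat_lit 3, nat_lit 2, nat_lit 8, nat_lit 3, nat_lit 10, nat_lit 16, nat_lit 8, nat_lit 12, nat_lit 15, nat_lit 13, nat_lit 12, nat_lit 18, nat_lit 16] (Rl.t1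 (nat_lit 1579) (nat_lit 1872)))))) (FT.node (nat_lit 1929) (FT.leaf (Fct.mk false (nat_lit 30) (nat_lit 0) (nat_lit 30) [nat_lit 5, nat_lit 4, nat_lit 3, nat_lit 8, nat_lit 1, nat_lit 2, nat_lit 3, nat_lit 4, nat_lit 5, nat_lit 8, nat_lit 3, nat_lit 2, nat_lit 1, nat_lit 9, nat_lit 4, nat_lit 3, nat_lit 2, nat_lit 8, nat_lit 3, nat_lit 2, nat_lit 8, nat_lit 10, nat_lit 1, nat_lit 12, nat_lit 8, nat_lit 16, nat_lit 14, nat_lit 12, nat_lit 18] (Rl.cmp (nat_lit 1512) (nat_lit 1826)))) (FT.node (nat_lit 1930) (FT.leaf (Fct.mk true (nat_lit 30) (nat_lit 822) (nat_lit 4) [nat_lit 8, nat_lit 6, nat_lit 5, nat_lit 3, nat_lit 4, nat_lit 2, nat_lit 3, nat_lit 8, nat_lit 1, nat_lit 2, nat_lit 3, nat_lit 4, nat_lit 5, nat_lit 1, nat_lit 2, nat_lit 0, nat_lit 1, nat_lit 3, nat_lit 2, nat_lit 8, nat_lit 3, nat_lit 11, nat_lit 10, nat_lit 16, nat_lit 8, nat_lit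 12, nat_lit 15, nat_lit 16, nat_lit 8, nat_lit 18, nat_lit 16] (Rl.t1 (nat_lit 1927) (nat_lit 1928)))) (FT.leaf (Fct.mk true (nat_lit 30) (nat_lit 56444) (nat_lit 26) [nat_lit 3, nat_lit 8, nat_lit 2, nat_lit 3, nat_lit 4, nat_lit 1, nat_lit 2, nat_lit 3, nat_lit 8, nat_lit 5, nat_lit 6, nat_lit 4, nat_lit 5, nat_lit 3, nat_lit 4, nat_lit 2, nat_lit 3, nat_lit 8, nat_lit 1, nat_lit 2, nat_lit 3, nat_lit 4, nat_lit 5, nat_lit 1, nat_lit 4, nat_lit 3, nat_lit 2, nat_lit 8, nat_lit 3, nat_lit 10, nat_lit 1, nat_lit 16, nat_lit 12, nat_lit 15, nat_lit 14, nat_lit 17, nat_lit 19, nat_lit 16] (Rl.t1 (nat_lit 1582) (nat_lit 1872))))))) (FT.node (nat_lit 1934) (FT.node (nat_lit 1932) (FT.leaf (Fct.mk false (nat_lit 30) (nat_lit 0) (nat_lit 30) [nat_lit 5, nat_lit 4, nat_lit 3, nat_lit 8, nat_lit 1, nat_lit 2, nat_lit 3, nat_lit 4, nat_lit 5, nat_lit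 8, nat_lit 3, nat_lit 2, nat_lit 1, nat_lit 9, nat_lit 4, nat_lit 3, nat_lit 2, nat_lit 8, nat_lit 3, nat_lit 2, nat_lit 8, nat_lit 10, nat_lit 1, nat_lit 12, nat_lit 8, nat_lit 16, nat_lit 14, nat_lit 12, nat_lit 18] (Rl.cmp (nat_lit 1512) (nat_lit 1826)))) (FT.node (nat_lit 1933) (FT.leaf (Fct.mk true (nat_lit 30) (nat_lit 828) (nat_lit 26) [nat_lit 8, nat_lit 5, nat_lit 6, nat_lit 4, nat_lit 5, nat_lit 3, nat_lit 4, nat_lit 2, nat_lit 3, nat_lit 8, nat_lit 1, nat_lit 2, nat_lit 3, nat_lit 4, nat_lit 5, nat_lit 2, nat_lit 3, nat_lit 8, nat_lit 4, nat_lit 3, nat_lit 2, nat_lit 1, nat_lit 9, nat_lit 4, nat_lit 3, nat_lit 2, nat_lit 8, nat_lit 3, nat_lit 8, nat_lit 10, nat_lit 8, nat_lit 12, nat_lit 15, nat_lit 16, nat_lit 8, nat_lit 19, nat_lit 16] (Rl.t1 (nat_lit 1930) (nat_lit 1931)))) (FT.leaf (Fct.mk true (nat_lit 30) (nat_lit 3879) (nat_lit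 2) [nat_lit 4, nat_lit 2, nat_lit 3, nat_lit 8, nat_lit 0, nat_lit 1, nat_lit 2, nat_lit 3, nat_lit 4, nat_lit 5, nat_lit 1, nat_lit 2, nat_lit 0, nat_lit 1, nat_lit 9, nat_lit 4, nat_lit 3, nat_lit 2, nat_lit 8, nat_lit 3, nat_lit 8, nat_lit 16, nat_lit 14, nat_lit 13, nat_lit 16] (Rl.t1 (nat_lit 1591) (nat_lit 1872)))))) (FT.node (nat_lit 1935) (FT.leaf (Fct.mk true (nat_lit 30) (nat_lit 38479) (nat_lit 23) [nat_lit 3, nat_lit 8, nat_lit 4, nat_lit 5, nat_lit 3, nat_lit 4, nat_lit 2, nat_lit 3, nat_lit 8, nat_lit 1, nat_lit 2, nat_lit 3, nat_lit 4, nat_lit 5, nat_lit 0, nat_lit 1, nat_lit 2, nat_lit 8, nat_lit 3, nat_lit 11, nat_lit 1, nat_lit 8, nat_lit 16, nat_lit 15, nat_lit 14, nat_lit 8, nat_lit 16] (Rl.t1 (nat_lit 1600) (nat_lit 1872)))) (FT.node (nat_lit 1936) (FT.leaf (Fct.mk false (nat_lit 30) (nat_lit 0) (nat_lit 30) [nat_lit 8,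 nat_lit 3, nat_lit 4, nat_lit 2, nat_lit 3, nat_lit 8, nat_lit 5, nat_lit 6, nat_lit 4, nat_lit 5, nat_lit 3, nat_lit 4, nat_lit 2, nat_lit 3, nat_lit 8, nat_lit 0, nat_lit 1, nat_lit 2, nat_lit 3, nat_lit 4, nat_lit 5, nat_lit 1, nat_lit 3, nat_lit 2, nat_lit 0, nat_lit 1, nat_lit 9, nat_lit 4, nat_lit 3, nat_lit 2, nat_lit 8, nat_lit 3, nat_lit 1, nat_lit 0, nat_lit 2, nat_lit 15, nat_lit 14, nat_lit 17, nat_lit 16] (Rl.cmp (nat_lit 1913) (nat_lit 1512)))) (FT.leaf (Fct.mk true (nat_lit 30) (nat_lit 2867) (nat_lit 23) [nat_lit 4, nat_lit 3, nat_lit 8, nat_lit 5, nat_lit 6, nat_lit 4, nat_lit 5, nat_lit 3, nat_lit 4, nat_lit 2, nat_lit 3, nat_lit 8, nat_lit 0, nat_lit 1, nat_lit 2, nat_lit 3, nat_lit 4, nat_lit 5, nat_lit 1, nat_lit 3, nat_lit 2, nat_lit 8, nat_lit 3, nat_lit 2, nat_lit 16, nat_lit 14, nat_lit 17, nat_lit 12, nat_lit 18] (Rl.t1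 (nat_lit 1934) (nat_lit 1935)))))))) (FT.node (nat_lit 1943) (FT.node (nat_lit 1940) (FT.node (nat_lit 1938) (FT.leaf (Fct.mk false (nat_lit 23) (nat_lit 0) (nat_lit 23) [nat_lit 5, nat_lit 6, nat_lit 4, nat_lit 5, nat_lit 3, nat_lit 4, nat_lit 2, nat_lit 3, nat_lit 8, nat_lit 0, nat_lit 1, nat_lit 2, nat_lit 3, nat_lit 4, nat_lit 5, nat_lit 1, nat_lit 4, nat_lit 3, nat_lit 2, nat_lit 8, nat_lit 3, nat_lit 11, nat_lit 2, nat_lit 8, nat_lit 10, nat_lit 1, nat_lit 15, nat_lit 14, nat_lit 17, nat_lit 19, nat_lit 16] (Rl.cmp (nat_lit 1926) (nat_lit 1065)))) (FT.node (nat_lit 1939) (FT.leaf (Fct.mk false (nat_lit 23) (nat_lit 0) (nat_lit 23) [nat_lit 5, nat_lit 6, nat_lit 4, nat_lit 5, nat_lit 3, nat_lit 4, nat_lit 2, nat_lit 3, nat_lit 8, nat_lit 1, nat_lit 2, nat_lit 3, nat_lit 4, nat_lit 5, nat_lit 1, nat_lit 3, nat_lit 2, nat_lit 8, nat_lit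 3, nat_lit 11, nat_lit 10, nat_lit 2, nat_lit 8, nat_lit 10, nat_lit 1, nat_lit 15, nat_lit 14, nat_lit 17, nat_lit 19, nat_lit 16] (Rl.cmp (nat_lit 1079) (nat_lit 1937)))) (FT.leaf (Fct.mk true (nat_lit 23) (nat_lit 117) (nat_lit 29) [nat_lit 8, nat_lit 6, nat_lit 4, nat_lit 5, nat_lit 3, nat_lit 4, nat_lit 2, nat_lit 3, nat_lit 8, nat_lit 1, nat_lit 2, nat_lit 3, nat_lit 4, nat_lit 5, nat_lit 2, nat_lit 1, nat_lit 3, nat_lit 2, nat_lit 0, nat_lit 1, nat_lit 4, nat_lit 3, nat_lit 2, nat_lit 8, nat_lit 3, nat_lit 10, nat_lit 0, nat_lit 8, nat_lit 16, nat_lit 15, nat_lit 14, nat_lit 19] (Rl.t1 (nat_lit 1484) (nat_lit 1938)))))) (FT.node (nat_lit 1941) (FT.leaf (Fct.mk false (nat_lit 23) (nat_lit 0) (nat_lit 29) [nat_lit 3, nat_lit 8, nat_lit 6, nat_lit 4, nat_lit 5, nat_lit 3, nat_lit 4, nat_lit 2, nat_lit 3, nat_lit 8, nat_lit 0, nat_lit 1,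 nat_lit 2, nat_lit 3, nat_lit 4, nat_lit 5, nat_lit 9, nat_lit 4, nat_lit 11, nat_lit 10, nat_lit 16, nat_lit 15, nat_lit 14, nat_lit 13, nat_lit 12, nat_lit 18, nat_lit 16] (Rl.cc (nat_lit 1088) (nat_lit 1939)))) (FT.node (nat_lit 1942) (FT.leaf (Fct.mk false (nat_lit 23) (nat_lit 0) (nat_lit 4) [nat_lit 8, nat_lit 3, nat_lit 4, nat_lit 2, nat_lit 3, nat_lit 8, nat_lit 5, nat_lit 6, nat_lit 4, nat_lit 5, nat_lit 3, nat_lit 4, nat_lit 2, nat_lit 3, nat_lit 8, nat_lit 1, nat_lit 2, nat_lit 3, nat_lit 4, nat_lit 5, nat_lit 9, nat_lit 4, nat_lit 11, nat_lit 1, nat_lit 13, nat_lit 16] (Rl.cmp (nat_lit 1940) (nat_lit 1784)))) (FT.leaf (Fct.mk true (nat_lit 4) (nat_lit 12684) (nat_lit 30) [nat_lit 2, nat_lit 3, nat_lit 8, nat_lit 4, nat_lit 5, nat_lit 3, nat_lit 4, nat_lit 2, nat_lit 3, nat_lit 8, nat_lit 1, nat_lit 2, nat_lit 3, nat_lit 4, nat_lit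 5, nat_lit 2, nat_lit 0, nat_lit 1, nat_lit 3, nat_lit 2, nat_lit 8, nat_lit 3, nat_lit 11, nat_lit 1, nat_lit 8, nat_lit 12, nat_lit 15, nat_lit 14, nat_lit 13, nat_lit 12, nat_lit 16] (Rl.t1 (nat_lit 1533) (nat_lit 1941))))))) (FT.node (nat_lit 1946) (FT.node (nat_lit 1944) (FT.leaf (Fct.mk true (nat_lit 4) (nat_lit 1320) (nat_lit 30) [nat_lit 5, nat_lit 4, nat_lit 3, nat_lit 8, nat_lit 2, nat_lit 3, nat_lit 4, nat_lit 5, nat_lit 4, nat_lit 3, nat_lit 2, nat_lit 1, nat_lit 8, nat_lit 3, nat_lit 2, nat_lit 0, nat_lit 1, nat_lit 4, nat_lit 3, nat_lit 2, nat_lit 8, nat_lit 3, nat_lit 11, nat_lit 10, nat_lit 8, nat_lit 12, nat_lit 15, nat_lit 14, nat_lit 13, nat_lit 12, nat_lit 19, nat_lit 16] (Rl.t1 (nat_lit 1942) (nat_lit 1791)))) (FT.node (nat_lit 1945) (FT.leaf (Fct.mk false (nat_lit 9) (nat_lit 0) (nat_lit 30) [nat_lit 8, nat_lit 3, nat_lit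 2, nat_lit 1, nat_lit 9, nat_lit 4, nat_lit 3, nat_lit 2, nat_lit 8, nat_lit 3, nat_lit 8, nat_lit 10, nat_lit 1, nat_lit 15, nat_lit 14, nat_lit 18] (Rl.cc (nat_lit 1167) (nat_lit 1943)))) (FT.leaf (Fct.mk false (nat_lit 30) (nat_lit 0) (nat_lit 9) [nat_lit 2, nat_lit 1, nat_lit 8, nat_lit 3, nat_lit 2, nat_lit 0, nat_lit 1, nat_lit 4, nat_lit 3, nat_lit 2, nat_lit 8, nat_lit 3, nat_lit 11, nat_lit 1, nat_lit 12, nat_lit 15, nat_lit 17, nat_lit 12, nat_lit 19] (Rl.einv (nat_lit 1944)))))) (FT.node (nat_lit 1948) (FT.node (nat_lit 1947) (FT.leaf (Fct.mk false (nat_lit 9) (nat_lit 0) (nat_lit 9) [nat_lit 5, nat_lit 2, nat_lit 1, nat_lit 3, nat_lit 2, nat_lit 0, nat_lit 1, nat_lit 9, nat_lit 4, nat_lit 3, nat_lit 2, nat_lit 8, nat_lit 3, nat_lit 10, nat_lit 9, nat_lit 2, nat_lit 16, nat_lit 14] (Rl.cmp (nat_lit 1843) (nat_lit 661)))) (FT.leaf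 (Fct.mk true (nat_lit 9) (nat_lit 808) (nat_lit 13) [nat_lit 5, nat_lit 6, nat_lit 4, nat_lit 5, nat_lit 3, nat_lit 4, nat_lit 2, nat_lit 3, nat_lit 8, nat_lit 1, nat_lit 2, nat_lit 3, nat_lit 4, nat_lit 5, nat_lit 0, nat_lit 1, nat_lit 9, nat_lit 4, nat_lit 3, nat_lit 2, nat_lit 8, nat_lit 3, nat_lit 1, nat_lit 0, nat_lit 2, nat_lit 8, nat_lit 16, nat_lit 15, nat_lit 14, nat_lit 12, nat_lit 19] (Rl.t1 (nat_lit 1915) (nat_lit 1945))))) (FT.node (nat_lit 1949) (FT.leaf (Fct.mk false (nat_lit 9) (nat_lit 0) (nat_lit 9) [nat_lit 3, nat_lit 12] (Rl.cmp (nat_lit 661) (nat_lit 658)))) (FT.leaf (Fct.mk false (nat_lit 9) (nat_lit 0) (nat_lit 9) [nat_lit 5, nat_lit 3, nat_lit 12] (Rl.cmp (nat_lit 675) (nat_lit 1948)))))))))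

/-- some facts -/
noncomputable def ftc39 : FT := FT.node (nat_lit 1975) (FT.node (nat_lit 1962) (FT.node (nat_lit 1956) (FT.node (nat_lit 1953) (FT.node (nat_lit 1951) (FT.leaf (Fct.mk true (nat_lit 9) (nat_lit 140) (nat_lit 13) [nat_lit 6, nat_lit 5, nat_lit 4, nat_lit 3, nat_lit 8, nat_lit 1, nat_lit 2, nat_lit 3, nat_lit 4, nat_lit 5, nat_lit 0, nat_lit 1, nat_lit 9, nat_lit 4, nat_lit 3, nat_lit 2, nat_lit 8, nat_lit 3, nat_lit 11, nat_lit 10, nat_lit 1, nat_lit 8, nat_lit 12, nat_lit 15, nat_lit 14, nat_lit 16, nat_lit 8] (Rl.t1 (nat_lit 1947) (nat_lit 1949)))) (FT.node (nat_lit 1952) (FT.leaf (Fct.mk false (nat_lit 31) (nat_lit 0) (nat_lit 9) [nat_lit 8, nat_lit 6, nat_lit 4, nat_lit 5, nat_lit 3, nat_lit 4, nat_lit 2, nat_lit 3, nat_lit 8, nat_lit 1, nat_lit 2, nat_lit 3, nat_lit 4, nat_lit 5, nat_lit 2, nat_lit 1, nat_lit 3, nat_lit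 2, nat_lit 0, nat_lit 1, nat_lit 4, nat_lit 3, nat_lit 2, nat_lit 8, nat_lit 3, nat_lit 11, nat_lit 1, nat_lit 8, nat_lit 19] (Rl.cmp (nat_lit 1872) (nat_lit 1945)))) (FT.leaf (Fct.mk true (nat_lit 9) (nat_lit 38904) (nat_lit 4) [nat_lit 8, nat_lit 2, nat_lit 3, nat_lit 4, nat_lit 1, nat_lit 2, nat_lit 3, nat_lit 8, nat_lit 0, nat_lit 1, nat_lit 2, nat_lit 3, nat_lit 4, nat_lit 5, nat_lit 4, nat_lit 3, nat_lit 2, nat_lit 1, nat_lit 8, nat_lit 3, nat_lit 2, nat_lit 0, nat_lit 1, nat_lit 4, nat_lit 3, nat_lit 2, nat_lit 8, nat_lit 3, nat_lit 2, nat_lit 8, nat_lit 10, nat_lit 1, nat_lit 16, nat_lit 8, nat_lit 12, nat_lit 15, nat_lit 16, nat_lit 8, nat_lit 19] (Rl.t1 (nat_lit 1929) (nat_lit 1945)))))) (FT.node (nat_lit 1954) (FT.leaf (Fct.mk false (nat_lit 9) (nat_lit 0) (nat_lit 9) [nat_lit 5, nat_lit 2, nat_lit 1, nat_lit 9, nat_lit 4, nat_lit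 3, nat_lit 2, nat_lit 8, nat_lit 3, nat_lit 11, nat_lit 8, nat_lit 10, nat_lit 8, nat_lit 12, nat_lit 15, nat_lit 13] (Rl.cmp (nat_lit 661) (nat_lit 1946)))) (FT.node (nat_lit 1955) (FT.leaf (Fct.mk true (nat_lit 9) (nat_lit 68) (nat_lit 4) [nat_lit 8, nat_lit 5, nat_lit 3, nat_lit 4, nat_lit 2, nat_lit 3, nat_lit 8, nat_lit 1, nat_lit 2, nat_lit 3, nat_lit 4, nat_lit 5, nat_lit 1, nat_lit 2, nat_lit 0, nat_lit 1, nat_lit 9, nat_lit 4, nat_lit 3, nat_lit 2, nat_lit 8, nat_lit 3, nat_lit 11, nat_lit 8, nat_lit 10, nat_lit 16, nat_lit 8, nat_lit 12, nat_lit 15, nat_lit 16, nat_lit 8, nat_lit 19] (Rl.t1 (nat_lit 1952) (nat_lit 1953)))) (FT.leaf (Fct.mk false (nat_lit 31) (nat_lit 0) (nat_lit 4) [nat_lit 3, nat_lit 4, nat_lit 1, nat_lit 2, nat_lit 3, nat_lit 8, nat_lit 0, nat_lit 1, nat_lit 2, nat_lit 3, nat_lit 4, nat_lit 5, nat_lit 4, nat_lit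 3, nat_lit 2, nat_lit 0, nat_lit 1, nat_lit 9, nat_lit 4, nat_lit 3, nat_lit 2, nat_lit 8, nat_lit 3, nat_lit 11, nat_lit 2, nat_lit 8, nat_lit 10, nat_lit 1, nat_lit 8, nat_lit 18, nat_lit 16] (Rl.cc (nat_lit 1568) (nat_lit 1954))))))) (FT.node (nat_lit 1959) (FT.node (nat_lit 1957) (FT.leaf (Fct.mk true (nat_lit 9) (nat_lit 38925) (nat_lit 26) [nat_lit 4, nat_lit 2, nat_lit 3, nat_lit 8, nat_lit 5, nat_lit 6, nat_lit 4, nat_lit 5, nat_lit 3, nat_lit 4, nat_lit 2, nat_lit 3, nat_lit 8, nat_lit 0, nat_lit 1, nat_lit 2, nat_lit 3, nat_lit 4, nat_lit 5, nat_lit 2, nat_lit 3, nat_lit 8, nat_lit 4, nat_lit 3, nat_lit 2, nat_lit 1, nat_lit 9, nat_lit 4, nat_lit 3, nat_lit 2, nat_lit 8, nat_lit 3, nat_lit 0, nat_lit 8, nat_lit 16, nat_lit 14, nat_lit 16, nat_lit 8, nat_lit 16] (Rl.t1 (nat_lit 1932) (nat_lit 1945)))) (FT.node (nat_lit 1958) (FT.leaf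 (Fct.mk false (nat_lit 9) (nat_lit 0) (nat_lit 9) [nat_lit 1, nat_lit 0, nat_lit 2, nat_lit 15, nat_lit 14, nat_lit 12] (Rl.cmp (nat_lit 658) (nat_lit 661)))) (FT.leaf (Fct.mk false (nat_lit 9) (nat_lit 0) (nat_lit 9) [nat_lit 5, nat_lit 3, nat_lit 2, nat_lit 1, nat_lit 9, nat_lit 4, nat_lit 3, nat_lit 2, nat_lit 8, nat_lit 3, nat_lit 11, nat_lit 8, nat_lit 10, nat_lit 8, nat_lit 12, nat_lit 15, nat_lit 13, nat_lit 12] (Rl.cmp (nat_lit 1843) (nat_lit 1957)))))) (FT.node (nat_lit 1960) (FT.leaf (Fct.mk true (nat_lit 9) (nat_lit 247) (nat_lit 26) [nat_lit 5, nat_lit 4, nat_lit 3, nat_lit 8, nat_lit 1, nat_lit 2, nat_lit 3, nat_lit 4, nat_lit 5, nat_lit 2, nat_lit 3, nat_lit 8, nat_lit 4, nat_lit 3, nat_lit 2, nat_lit 1, nat_lit 9, nat_lit 4, nat_lit 3, nat_lit 2, nat_lit 8, nat_lit 3, nat_lit 11, nat_lit 1, nat_lit 16, nat_lit 12, nat_lit 15,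 nat_lit 14, nat_lit 13, nat_lit 12, nat_lit 19] (Rl.t1 (nat_lit 1956) (nat_lit 1958)))) (FT.node (nat_lit 1961) (FT.leaf (Fct.mk true (nat_lit 9) (nat_lit 25681) (nat_lit 2) [nat_lit 6, nat_lit 5, nat_lit 4, nat_lit 3, nat_lit 8, nat_lit 1, nat_lit 2, nat_lit 3, nat_lit 4, nat_lit 5, nat_lit 3, nat_lit 2, nat_lit 1, nat_lit 4, nat_lit 3, nat_lit 2, nat_lit 8, nat_lit 3, nat_lit 8, nat_lit 10, nat_lit 0, nat_lit 8, nat_lit 16, nat_lit 14, nat_lit 13] (Rl.t1 (nat_lit 1933) (nat_lit 1945)))) (FT.leaf (Fct.mk false (nat_lit 9) (nat_lit 0) (nat_lit 9) [nat_lit 5, nat_lit 2, nat_lit 1, nat_lit 9, nat_lit 4, nat_lit 3, nat_lit 2, nat_lit 8, nat_lit 3, nat_lit 11, nat_lit 8, nat_lit 10, nat_lit 8, nat_lit 12, nat_lit 15, nat_lit 13, nat_lit 12] (Rl.cmp (nat_lit 1843) (nat_lit 658)))))))) (FT.node (nat_lit 1968) (FT.node (nat_lit 1965) (FT.node (nat_lit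 1963) (FT.leaf (Fct.mk true (nat_lit 9) (nat_lit 12283) (nat_lit 2) [nat_lit 6, nat_lit 4, nat_lit 5, nat_lit 2, nat_lit 3, nat_lit 4, nat_lit 1, nat_lit 2, nat_lit 3, nat_lit 8, nat_lit 0, nat_lit 1, nat_lit 2, nat_lit 3, nat_lit 4, nat_lit 5, nat_lit 8, nat_lit 4, nat_lit 3, nat_lit 2, nat_lit 1, nat_lit 9, nat_lit 4, nat_lit 3, nat_lit 2, nat_lit 8, nat_lit 3, nat_lit 0, nat_lit 2, nat_lit 12, nat_lit 8, nat_lit 16, nat_lit 14, nat_lit 13, nat_lit 16] (Rl.t1 (nat_lit 1960) (nat_lit 1961)))) (FT.node (nat_lit 1964) (FT.leaf (Fct.mk true (nat_lit 9) (nat_lit 5987) (nat_lit 23) [nat_lit 3, nat_lit 8, nat_lit 4, nat_lit 5, nat_lit 3, nat_lit 4, nat_lit 1, nat_lit 2, nat_lit 3, nat_lit 8, nat_lit 0, nat_lit 1, nat_lit 2, nat_lit 3, nat_lit 4, nat_lit 5, nat_lit 1, nat_lit 3, nat_lit 2, nat_lit 0, nat_lit 1, nat_lit 4, nat_lit 3, nat_lit 2, nat_lit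 8, nat_lit 3, nat_lit 11, nat_lit 2, nat_lit 8, nat_lit 10, nat_lit 1, nat_lit 16, nat_lit 12, nat_lit 15, nat_lit 14, nat_lit 12, nat_lit 16] (Rl.t1 (nat_lit 1936) (nat_lit 1945)))) (FT.leaf (Fct.mk false (nat_lit 9) (nat_lit 0) (nat_lit 9) [nat_lit 5, nat_lit 2, nat_lit 1, nat_lit 3, nat_lit 2, nat_lit 0, nat_lit 1, nat_lit 9, nat_lit 4, nat_lit 3, nat_lit 2, nat_lit 8, nat_lit 3, nat_lit 10, nat_lit 9, nat_lit 2, nat_lit 16, nat_lit 14] (Rl.cmp (nat_lit 1843) (nat_lit 661)))))) (FT.node (nat_lit 1966) (FT.leaf (Fct.mk true (nat_lit 9) (nat_lit 2826) (nat_lit 23) [nat_lit 2, nat_lit 3, nat_lit 8, nat_lit 4, nat_lit 5, nat_lit 3, nat_lit 4, nat_lit 2, nat_lit 3, nat_lit 8, nat_lit 1, nat_lit 2, nat_lit 3, nat_lit 4, nat_lit 5, nat_lit 1, nat_lit 9, nat_lit 4, nat_lit 3, nat_lit 2, nat_lit 8, nat_lit 3, nat_lit 16, nat_lit 8, nat_lit 12, nat_lit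 15, nat_lit 19] (Rl.t1 (nat_lit 1963) (nat_lit 1964)))) (FT.node (nat_lit 1967) (FT.leaf (Fct.mk false (nat_lit 9) (nat_lit 0) (nat_lit 31) [nat_lit 6, nat_lit 5, nat_lit 4, nat_lit 1, nat_lit 2, nat_lit 3, nat_lit 8, nat_lit 0, nat_lit 1, nat_lit 2, nat_lit 3, nat_lit 4, nat_lit 5, nat_lit 8, nat_lit 3, nat_lit 2, nat_lit 0, nat_lit 1, nat_lit 4, nat_lit 3, nat_lit 2, nat_lit 8, nat_lit 3, nat_lit 8, nat_lit 10, nat_lit 0, nat_lit 8, nat_lit 16, nat_lit 14, nat_lit 13] (Rl.einv (nat_lit 1951)))) (FT.leaf (Fct.mk false (nat_lit 9) (nat_lit 0) (nat_lit 4) [nat_lit 6, nat_lit 5, nat_lit 4, nat_lit 2, nat_lit 3, nat_lit 8, nat_lit 1, nat_lit 2, nat_lit 3, nat_lit 4, nat_lit 5, nat_lit 1, nat_lit 3, nat_lit 8, nat_lit 4, nat_lit 3, nat_lit 2, nat_lit 0, nat_lit 1, nat_lit 9, nat_lit 4, nat_lit 3, nat_lit 2, nat_lit 8, nat_lit 3, nat_lit 10, nat_lit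 16, nat_lit 14, nat_lit 12, nat_lit 18] (Rl.cmp (nat_lit 1966) (nat_lit 1955))))))) (FT.node (nat_lit 1971) (FT.node (nat_lit 1969) (FT.leaf (Fct.mk true (nat_lit 4) (nat_lit 38702) (nat_lit 2) [nat_lit 4, nat_lit 3, nat_lit 8, nat_lit 2, nat_lit 3, nat_lit 4, nat_lit 1, nat_lit 2, nat_lit 3, nat_lit 8, nat_lit 5, nat_lit 6, nat_lit 4, nat_lit 5, nat_lit 3, nat_lit 4, nat_lit 2, nat_lit 3, nat_lit 8, nat_lit 1, nat_lit 2, nat_lit 3, nat_lit 4, nat_lit 5, nat_lit 1, nat_lit 8, nat_lit 4, nat_lit 3, nat_lit 2, nat_lit 0, nat_lit 1, nat_lit 9, nat_lit 4, nat_lit 3, nat_lit 2, nat_lit 8, nat_lit 3, nat_lit 8, nat_lit 10, nat_lit 1, nat_lit 16, nat_lit 14, nat_lit 13, nat_lit 18, nat_lit 16] (Rl.t1 (nat_lit 1347) (nat_lit 1967)))) (FT.node (nat_lit 1970) (FT.leaf (Fct.mk false (nat_lit 4) (nat_lit 0) (nat_lit 4) [nat_lit 2, nat_lit 3, nat_lit 4,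 nat_lit 5, nat_lit 1, nat_lit 2, nat_lit 8, nat_lit 3, nat_lit 8, nat_lit 10, nat_lit 1, nat_lit 14, nat_lit 12] (Rl.cmp (nat_lit 312) (nat_lit 239)))) (FT.leaf (Fct.mk true (nat_lit 4) (nat_lit 1920) (nat_lit 2) [nat_lit 3, nat_lit 8, nat_lit 5, nat_lit 6, nat_lit 4, nat_lit 5, nat_lit 3, nat_lit 4, nat_lit 2, nat_lit 3, nat_lit 8, nat_lit 1, nat_lit 2, nat_lit 3, nat_lit 4, nat_lit 5, nat_lit 2, nat_lit 1, nat_lit 8, nat_lit 3, nat_lit 2, nat_lit 0, nat_lit 1, nat_lit 9, nat_lit 4, nat_lit 3, nat_lit 2, nat_lit 8, nat_lit 3, nat_lit 2, nat_lit 8, nat_lit 10, nat_lit 1, nat_lit 16, nat_lit 15, nat_lit 14, nat_lit 13, nat_lit 19] (Rl.t1 (nat_lit 1968) (nat_lit 1969)))))) (FT.node (nat_lit 1973) (FT.node (nat_lit 1972) (FT.leaf (Fct.mk false (nat_lit 30) (nat_lit 0) (nat_lit 4) [nat_lit 8, nat_lit 0, nat_lit 1, nat_lit 2, nat_lit 3, nat_lit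 4, nat_lit 5, nat_lit 1, nat_lit 4, nat_lit 3, nat_lit 2, nat_lit 0, nat_lit 1, nat_lit 9, nat_lit 4, nat_lit 3, nat_lit 2, nat_lit 8, nat_lit 3, nat_lit 11, nat_lit 1, nat_lit 16, nat_lit 14, nat_lit 12] (Rl.cmp (nat_lit 1945) (nat_lit 1967)))) (FT.leaf (Fct.mk true (nat_lit 4) (nat_lit 38708) (nat_lit 31) [nat_lit 8, nat_lit 2, nat_lit 3, nat_lit 4, nat_lit 1, nat_lit 2, nat_lit 3, nat_lit 8, nat_lit 5, nat_lit 6, nat_lit 4, nat_lit 5, nat_lit 3, nat_lit 4, nat_lit 2, nat_lit 3, nat_lit 8, nat_lit 1, nat_lit 2, nat_lit 3, nat_lit 4, nat_lit 5, nat_lit 2, nat_lit 0, nat_lit 1, nat_lit 4, nat_lit 3, nat_lit 2, nat_lit 8, nat_lit 3, nat_lit 10, nat_lit 9, nat_lit 2, nat_lit 16, nat_lit 8, nat_lit 12, nat_lit 15, nat_lit 16, nat_lit 8] (Rl.t1 (nat_lit 1565) (nat_lit 1967))))) (FT.node (nat_lit 1974) (FT.leaf (Fct.mk false (nat_lit 4) (nat_lit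 0) (nat_lit 4) [nat_lit 8, nat_lit 3, nat_lit 4, nat_lit 2, nat_lit 3, nat_lit 8, nat_lit 1, nat_lit 2, nat_lit 3, nat_lit 4, nat_lit 5, nat_lit 2, nat_lit 1, nat_lit 3, nat_lit 2, nat_lit 8, nat_lit 3, nat_lit 10, nat_lit 1, nat_lit 8, nat_lit 18] (Rl.cmp (nat_lit 243) (nat_lit 312)))) (FT.leaf (Fct.mk true (nat_lit 4) (nat_lit 1922) (nat_lit 31) [nat_lit 6, nat_lit 5, nat_lit 3, nat_lit 4, nat_lit 2, nat_lit 3, nat_lit 8, nat_lit 1, nat_lit 2, nat_lit 3, nat_lit 4, nat_lit 5, nat_lit 3, nat_lit 2, nat_lit 0, nat_lit 1, nat_lit 9, nat_lit 4, nat_lit 3, nat_lit 2, nat_lit 8, nat_lit 3, nat_lit 9, nat_lit 2, nat_lit 8, nat_lit 12, nat_lit 15, nat_lit 14, nat_lit 13, nat_lit 12, nat_lit 19, nat_lit 16] (Rl.t1 (nat_lit 1972) (nat_lit 1973))))))))) (FT.node (nat_lit 1987) (FT.node (nat_lit 1981) (FT.node (nat_lit 1978) (FT.node (nat_lit 1976) (FT.leaf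 (Fct.mk true (nat_lit 31) (nat_lit 6284) (nat_lit 4) [nat_lit 8, nat_lit 6, nat_lit 5, nat_lit 3, nat_lit 4, nat_lit 1, nat_lit 2, nat_lit 3, nat_lit 8, nat_lit 0, nat_lit 1, nat_lit 2, nat_lit 3, nat_lit 4, nat_lit 5, nat_lit 3, nat_lit 2, nat_lit 0, nat_lit 1, nat_lit 9, nat_lit 4, nat_lit 3, nat_lit 2, nat_lit 8, nat_lit 3, nat_lit 10, nat_lit 0, nat_lit 12, nat_lit 15, nat_lit 13, nat_lit 16] (Rl.inv (nat_lit 1974)))) (FT.node (nat_lit 1977) (FT.leaf (Fct.mk false (nat_lit 31) (nat_lit 0) (nat_lit 4) [nat_lit 3, nat_lit 4, nat_lit 1, nat_lit 2, nat_lit 3, nat_lit 8, nat_lit 0, nat_lit 1, nat_lit 2, nat_lit 3, nat_lit 4, nat_lit 5, nat_lit 4, nat_lit 3, nat_lit 2, nat_lit 0, nat_lit 1, nat_lit 9, nat_lit 4, nat_lit 3, nat_lit 2, nat_lit 8, nat_lit 3, nat_lit 11, nat_lit 2, nat_lit 8, nat_lit 10, nat_lit 1, nat_lit 8, nat_lit 18, nat_lit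 16] (Rl.cmp (nat_lit 1951) (nat_lit 1967)))) (FT.leaf (Fct.mk true (nat_lit 4) (nat_lit 1441) (nat_lit 4) [nat_lit 5, nat_lit 4, nat_lit 2, nat_lit 3, nat_lit 8, nat_lit 0, nat_lit 1, nat_lit 2, nat_lit 3, nat_lit 4, nat_lit 5, nat_lit 2, nat_lit 3, nat_lit 10, nat_lit 8, nat_lit 12, nat_lit 15, nat_lit 8, nat_lit 18, nat_lit 16] (Rl.t1 (nat_lit 1975) (nat_lit 1976)))))) (FT.node (nat_lit 1979) (FT.leaf (Fct.mk true (nat_lit 4) (nat_lit 1440) (nat_lit 4) [nat_lit 4, nat_lit 1, nat_lit 2, nat_lit 3, nat_lit 8, nat_lit 0, nat_lit 1, nat_lit 2, nat_lit 3, nat_lit 4, nat_lit 5, nat_lit 4, nat_lit 3, nat_lit 2, nat_lit 1, nat_lit 8, nat_lit 3, nat_lit 2, nat_lit 0, nat_lit 1, nat_lit 4, nat_lit 3, nat_lit 2, nat_lit 8, nat_lit 3, nat_lit 18, nat_lit 16] (Rl.t1 (nat_lit 1977) (nat_lit 374)))) (FT.node (nat_lit 1980) (FT.leaf (Fct.mk true (nat_lit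 4) (nat_lit 25592) (nat_lit 5) [nat_lit 5, nat_lit 6, nat_lit 4, nat_lit 5, nat_lit 2, nat_lit 3, nat_lit 4, nat_lit 1, nat_lit 2, nat_lit 3, nat_lit 8, nat_lit 0, nat_lit 1, nat_lit 2, nat_lit 3, nat_lit 4, nat_lit 5, nat_lit 1, nat_lit 8, nat_lit 3, nat_lit 2, nat_lit 0, nat_lit 1, nat_lit 4, nat_lit 3, nat_lit 2, nat_lit 8, nat_lit 3, nat_lit 8, nat_lit 10, nat_lit 9, nat_lit 2, nat_lit 12, nat_lit 8, nat_lit 16, nat_lit 14, nat_lit 12, nat_lit 18, nat_lit 16] (Rl.t1 (nat_lit 1713) (nat_lit 1967)))) (FT.leaf (Fct.mk true (nat_lit 4) (nat_lit 50) (nat_lit 5) [nat_lit 8, nat_lit 6, nat_lit 5, nat_lit 3, nat_lit 4, nat_lit 2, nat_lit 3, nat_lit 8, nat_lit 0, nat_lit 1, nat_lit 2, nat_lit 3, nat_lit 4, nat_lit 5, nat_lit 1, nat_lit 8, nat_lit 3, nat_lit 2, nat_lit 0, nat_lit 1, nat_lit 4, nat_lit 3, nat_lit 2, nat_lit 8, nat_lit 3, nat_lit 8,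 nat_lit 10, nat_lit 0, nat_lit 15, nat_lit 14, nat_lit 8, nat_lit 19] (Rl.t1 (nat_lit 1979) (nat_lit 362))))))) (FT.node (nat_lit 1984) (FT.node (nat_lit 1982) (FT.leaf (Fct.mk true (nat_lit 4) (nat_lit 694) (nat_lit 26) [nat_lit 6, nat_lit 5, nat_lit 3, nat_lit 4, nat_lit 2, nat_lit 3, nat_lit 8, nat_lit 0, nat_lit 1, nat_lit 2, nat_lit 3, nat_lit 4, nat_lit 5, nat_lit 3, nat_lit 11, nat_lit 15, nat_lit 13, nat_lit 12, nat_lit 19] (Rl.t1 (nat_lit 1845) (nat_lit 1967)))) (FT.node (nat_lit 1983) (FT.leaf (Fct.mk true (nat_lit 4) (nat_lit 140) (nat_lit 26) [nat_lit 8, nat_lit 6, nat_lit 4, nat_lit 5, nat_lit 3, nat_lit 4, nat_lit 2, nat_lit 3, nat_lit 8, nat_lit 0, nat_lit 1, nat_lit 2, nat_lit 3, nat_lit 4, nat_lit 5, nat_lit 9, nat_lit 4, nat_lit 0, nat_lit 12, nat_lit 15, nat_lit 13, nat_lit 12, nat_lit 19] (Rl.t1 (nat_lit 1981) (nat_lit 363))))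 (FT.leaf (Fct.mk true (nat_lit 4) (nat_lit 6219) (nat_lit 13) [nat_lit 3, nat_lit 8, nat_lit 2, nat_lit 3, nat_lit 4, nat_lit 5, nat_lit 3, nat_lit 2, nat_lit 1, nat_lit 4, nat_lit 3, nat_lit 2, nat_lit 8, nat_lit 3, nat_lit 11, nat_lit 2, nat_lit 10, nat_lit 1, nat_lit 16, nat_lit 8, nat_lit 12, nat_lit 15, nat_lit 8, nat_lit 19, nat_lit 16] (Rl.t1 (nat_lit 1950) (nat_lit 1967)))))) (FT.node (nat_lit 1985) (FT.leaf (Fct.mk false (nat_lit 4) (nat_lit 0) (nat_lit 4) [nat_lit 94] (Rl.cmp (nat_lit 312) (nat_lit 1170)))) (FT.node (nat_lit 1986) (FT.leaf (Fct.mk true (nat_lit 4) (nat_lit 150) (nat_lit 13) [nat_lit 4, nat_lit 3, nat_lit 8, nat_lit 1, nat_lit 2, nat_lit 3, nat_lit 4, nat_lit 5, nat_lit 3, nat_lit 11, nat_lit 16, nat_lit 8, nat_lit 12, nat_lit 15, nat_lit 17, nat_lit 18] (Rl.t1 (nat_lit 1983) (nat_lit 1984)))) (FT.leaf (Fct.mk true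 (nat_lit 4) (nat_lit 10130) (nat_lit 26) [nat_lit 5, nat_lit 4, nat_lit 1, nat_lit 2, nat_lit 3, nat_lit 8, nat_lit 0, nat_lit 1, nat_lit 2, nat_lit 3, nat_lit 4, nat_lit 5, nat_lit 8, nat_lit 3, nat_lit 2, nat_lit 0, nat_lit 1, nat_lit 9, nat_lit 4, nat_lit 3, nat_lit 2, nat_lit 8, nat_lit 3, nat_lit 8, nat_lit 10, nat_lit 0, nat_lit 16, nat_lit 8, nat_lit 12, nat_lit 15, nat_lit 13, nat_lit 19] (Rl.t1 (nat_lit 1959) (nat_lit 1967)))))))) (FT.node (nat_lit 1993) (FT.node (nat_lit 1990) (FT.node (nat_lit 1988) (FT.leaf (Fct.mk true (nat_lit 4) (nat_lit 695) (nat_lit 26) [nat_lit 4, nat_lit 2, nat_lit 3, nat_lit 8, nat_lit 0, nat_lit 1, nat_lit 2, nat_lit 3, nat_lit 4, nat_lit 5, nat_lit 1, nat_lit 8, nat_lit 4, nat_lit 3, nat_lit 2, nat_lit 0, nat_lit 1, nat_lit 9, nat_lit 4, nat_lit 3, nat_lit 2, nat_lit 8, nat_lit 3, nat_lit 9, nat_lit 2,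 nat_lit 15, nat_lit 17] (Rl.t1 (nat_lit 1986) (nat_lit 1261)))) (FT.node (nat_lit 1989) (FT.leaf (Fct.mk true (nat_lit 4) (nat_lit 10244) (nat_lit 2) [nat_lit 8, nat_lit 1, nat_lit 2, nat_lit 3, nat_lit 4, nat_lit 5, nat_lit 2, nat_lit 1, nat_lit 4, nat_lit 3, nat_lit 2, nat_lit 0, nat_lit 1, nat_lit 9, nat_lit 4, nat_lit 3, nat_lit 2, nat_lit 8, nat_lit 3, nat_lit 9, nat_lit 2, nat_lit 8, nat_lit 12, nat_lit 15, nat_lit 13, nat_lit 19] (Rl.t1 (nat_lit 1962) (nat_lit 1967)))) (FT.leaf (Fct.mk true (nat_lit 4) (nat_lit 10163) (nat_lit 2) [nat_lit 8, nat_lit 1, nat_lit 2, nat_lit 3, nat_lit 4, nat_lit 5, nat_lit 3, nat_lit 2, nat_lit 1, nat_lit 4, nat_lit 3, nat_lit 2, nat_lit 0, nat_lit 1, nat_lit 9, nat_lit 4, nat_lit 3, nat_lit 2, nat_lit 8, nat_lit 3, nat_lit 10, nat_lit 16, nat_lit 8, nat_lit 12, nat_lit 15, nat_lit 17] (Rl.t1 (nat_lit 1988)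 (nat_lit 1260)))))) (FT.node (nat_lit 1991) (FT.leaf (Fct.mk true (nat_lit 4) (nat_lit 6056) (nat_lit 23) [nat_lit 4, nat_lit 1, nat_lit 2, nat_lit 3, nat_lit 8, nat_lit 5, nat_lit 6, nat_lit 4, nat_lit 5, nat_lit 3, nat_lit 4, nat_lit 2, nat_lit 3, nat_lit 8, nat_lit 1, nat_lit 2, nat_lit 3, nat_lit 4, nat_lit 5, nat_lit 8, nat_lit 4, nat_lit 3, nat_lit 2, nat_lit 0, nat_lit 1, nat_lit 9, nat_lit 4, nat_lit 3, nat_lit 2, nat_lit 8, nat_lit 3, nat_lit 10, nat_lit 8, nat_lit 12, nat_lit 15, nat_lit 12] (Rl.t1 (nat_lit 1965) (nat_lit 1967)))) (FT.node (nat_lit 1992) (FT.leaf (Fct.mk true (nat_lit 4) (nat_lit 606) (nat_lit 23) [nat_lit 8, nat_lit 6, nat_lit 4, nat_lit 5, nat_lit 3, nat_lit 4, nat_lit 2, nat_lit 3, nat_lit 8, nat_lit 1, nat_lit 2, nat_lit 3, nat_lit 4, nat_lit 5, nat_lit 2, nat_lit 0, nat_lit 1, nat_lit 9, nat_lit 4, nat_lit 3,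 nat_lit 2, nat_lit 8, nat_lit 3, nat_lit 9, nat_lit 2, nat_lit 8, nat_lit 12, nat_lit 15, nat_lit 14, nat_lit 17, nat_lit 12, nat_lit 18] (Rl.t1 (nat_lit 1990) (nat_lit 366)))) (FT.leaf (Fct.mk false (nat_lit 29) (nat_lit 0) (nat_lit 23) [nat_lit 5, nat_lit 3, nat_lit 4, nat_lit 2, nat_lit 3, nat_lit 8, nat_lit 1, nat_lit 2, nat_lit 3, nat_lit 4, nat_lit 5, nat_lit 1, nat_lit 2, nat_lit 0, nat_lit 1, nat_lit 9, nat_lit 4, nat_lit 3, nat_lit 2, nat_lit 8, nat_lit 3, nat_lit 2, nat_lit 16, nat_lit 15, nat_lit 14, nat_lit 17, nat_lit 12] (Rl.cc (nat_lit 1799) (nat_lit 1991))))))) (FT.node (nat_lit 1996) (FT.node (nat_lit 1994) (FT.leaf (Fct.mk false (nat_lit 4) (nat_lit 0) (nat_lit 29) [nat_lit 4, nat_lit 5, nat_lit 3, nat_lit 4, nat_lit 2, nat_lit 3, nat_lit 8, nat_lit 1, nat_lit 2, nat_lit 3, nat_lit 4, nat_lit 5, nat_lit 1, nat_lit 2, nat_lit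 3, nat_lit 10, nat_lit 9, nat_lit 2, nat_lit 14, nat_lit 18, nat_lit 16] (Rl.einv (nat_lit 1784)))) (FT.node (nat_lit 1995) (FT.leaf (Fct.mk false (nat_lit 4) (nat_lit 0) (nat_lit 23) [nat_lit 6, nat_lit 5, nat_lit 4, nat_lit 3, nat_lit 8, nat_lit 1, nat_lit 2, nat_lit 3, nat_lit 4, nat_lit 5, nat_lit 3, nat_lit 2, nat_lit 0, nat_lit 1, nat_lit 9, nat_lit 4, nat_lit 3, nat_lit 2, nat_lit 8, nat_lit 3, nat_lit 1, nat_lit 0, nat_lit 2, nat_lit 15, nat_lit 14, nat_lit 17, nat_lit 12, nat_lit 16] (Rl.cmp (nat_lit 1993) (nat_lit 1992)))) (FT.leaf (Fct.mk false (nat_lit 4) (nat_lit 0) (nat_lit 4) [nat_lit 60] (Rl.cmp (nat_lit 1994) (nat_lit 1941)))))) (FT.node (nat_lit 1998) (FT.node (nat_lit 1997) (FT.leaf (Fct.mk false (nat_lit 4) (nat_lit 0) (nat_lit 4) [nat_lit 2, nat_lit 3, nat_lit 8, nat_lit 6, nat_lit 4, nat_lit 5, nat_lit 3, nat_lit 4, nat_lit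 2, nat_lit 3, nat_lit 8, nat_lit 1, nat_lit 2, nat_lit 3, nat_lit 4, nat_lit 5, nat_lit 1, nat_lit 2, nat_lit 8, nat_lit 3, nat_lit 9, nat_lit 8, nat_lit 16, nat_lit 14, nat_lit 16, nat_lit 8, nat_lit 18, nat_lit 16] (Rl.cmp (nat_lit 1995) (nat_lit 239)))) (FT.leaf (Fct.mk false (nat_lit 4) (nat_lit 0) (nat_lit 4) [nat_lit 2, nat_lit 3, nat_lit 8, nat_lit 6, nat_lit 4, nat_lit 5, nat_lit 3, nat_lit 4, nat_lit 2, nat_lit 3, nat_lit 8, nat_lit 1, nat_lit 2, nat_lit 3, nat_lit 4, nat_lit 5, nat_lit 2, nat_lit 3, nat_lit 8, nat_lit 4, nat_lit 3, nat_lit 2, nat_lit 1, nat_lit 9, nat_lit 4, nat_lit 3, nat_lit 2, nat_lit 8, nat_lit 3, nat_lit 10, nat_lit 12, nat_lit 8, nat_lit 16, nat_lit 14, nat_lit 8, nat_lit 19] (Rl.cmp (nat_lit 234) (nat_lit 1996))))) (FT.node (nat_lit 1999) (FT.leaf (Fct.mk true (nat_lit 4) (nat_lit 230) (nat_lit 25) [nat_lit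 6, nat_lit 5, nat_lit 4, nat_lit 1, nat_lit 2, nat_lit 3, nat_lit 8, nat_lit 0, nat_lit 1, nat_lit 2, nat_lit 3, nat_lit 4, nat_lit 5, nat_lit 1, nat_lit 3, nat_lit 2, nat_lit 0, nat_lit 1, nat_lit 9, nat_lit 4, nat_lit 3, nat_lit 2, nat_lit 8, nat_lit 3, nat_lit 0, nat_lit 12, nat_lit 15, nat_lit 14, nat_lit 12, nat_lit 19] (Rl.t1 (nat_lit 1234) (nat_lit 1997)))) (FT.leaf (Fct.mk false (nat_lit 4) (nat_lit 0) (nat_lit 4) [nat_lit 2, nat_lit 3, nat_lit 8, nat_lit 6, nat_lit 4, nat_lit 5, nat_lit 3, nat_lit 4, nat_lit 2, nat_lit 3, nat_lit 8, nat_lit 1, nat_lit 2, nat_lit 3, nat_lit 4, nat_lit 5, nat_lit 1, nat_lit 2, nat_lit 8, nat_lit 3, nat_lit 9, nat_lit 8, nat_lit 16, nat_lit 14, nat_lit 16, nat_lit 8, nat_lit 18, nat_lit 16] (Rl.cmp (nat_lit 1995) (nat_lit 239)))))))))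

/-- some facts -/
noncomputable def ftc40 : FT := FT.node (nat_lit 2025) (FT.node (nat_lit 2012) (FT.node (nat_lit 2006) (FT.node (nat_lit 2003) (FT.node (nat_lit 2001) (FT.leaf (Fct.mk false (nat_lit 4) (nat_lit 0) (nat_lit 4) [nat_lit 1, nat_lit 2, nat_lit 3, nat_lit 8, nat_lit 6, nat_lit 4, nat_lit 5, nat_lit 3, nat_lit 4, nat_lit 2, nat_lit 3, nat_lit 8, nat_lit 1, nat_lit 2, nat_lit 3, nat_lit 4, nat_lit 5, nat_lit 1, nat_lit 2, nat_lit 8, nat_lit 3, nat_lit 9, nat_lit 8, nat_lit 16, nat_lit 14, nat_lit 16, nat_lit 8, nat_lit 18, nat_lit 16] (Rl.cmp (nat_lit 240) (nat_lit 1999)))) (FT.node (nat_lit 2002) (FT.leaf (Fct.mk true (nat_lit 4) (nat_lit 127) (nat_lit 26) [nat_lit 8, nat_lit 6, nat_lit 4, nat_lit 5, nat_lit 3, nat_lit 4, nat_lit 2, nat_lit 3, nat_lit 8, nat_lit 1, nat_lit 2, nat_lit 3, nat_lit 4, nat_lit 5, nat_lit 2, nat_lit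 1, nat_lit 3, nat_lit 2, nat_lit 8, nat_lit 3, nat_lit 10, nat_lit 0, nat_lit 16, nat_lit 8, nat_lit 12, nat_lit 15, nat_lit 12] (Rl.t1 (nat_lit 1786) (nat_lit 2000)))) (FT.leaf (Fct.mk false (nat_lit 4) (nat_lit 0) (nat_lit 4) [nat_lit 5, nat_lit 6, nat_lit 4, nat_lit 5, nat_lit 3, nat_lit 4, nat_lit 2, nat_lit 3, nat_lit 8, nat_lit 1, nat_lit 2, nat_lit 3, nat_lit 4, nat_lit 5, nat_lit 1, nat_lit 9, nat_lit 4, nat_lit 3, nat_lit 2, nat_lit 8, nat_lit 3, nat_lit 9, nat_lit 2, nat_lit 12, nat_lit 8, nat_lit 16, nat_lit 14, nat_lit 18, nat_lit 16] (Rl.cmp (nat_lit 312) (nat_lit 1995)))))) (FT.node (nat_lit 2004) (FT.leaf (Fct.mk true (nat_lit 4) (nat_lit 63) (nat_lit 25) [nat_lit 3, nat_lit 8, nat_lit 2, nat_lit 3, nat_lit 4, nat_lit 5, nat_lit 1, nat_lit 3, nat_lit 8, nat_lit 4, nat_lit 3, nat_lit 2, nat_lit 0, nat_lit 1, nat_lit 9, nat_lit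 4, nat_lit 3, nat_lit 2, nat_lit 8, nat_lit 3, nat_lit 11, nat_lit 8, nat_lit 10, nat_lit 1, nat_lit 8, nat_lit 16, nat_lit 15, nat_lit 14, nat_lit 18, nat_lit 16] (Rl.t1 (nat_lit 1790) (nat_lit 2002)))) (FT.node (nat_lit 2005) (FT.leaf (Fct.mk false (nat_lit 25) (nat_lit 0) (nat_lit 25) [nat_lit 87] (Rl.cc (nat_lit 1228) (nat_lit 2003)))) (FT.leaf (Fct.mk false (nat_lit 4) (nat_lit 0) (nat_lit 4) [nat_lit 5, nat_lit 4, nat_lit 3, nat_lit 8, nat_lit 2, nat_lit 3, nat_lit 4, nat_lit 5, nat_lit 2, nat_lit 1, nat_lit 4, nat_lit 3, nat_lit 2, nat_lit 8, nat_lit 3, nat_lit 8, nat_lit 10, nat_lit 1, nat_lit 14, nat_lit 12, nat_lit 18] (Rl.cmp (nat_lit 312) (nat_lit 234))))))) (FT.node (nat_lit 2009) (FT.node (nat_lit 2007) (FT.leaf (Fct.mk false (nat_lit 4) (nat_lit 0) (nat_lit 4) [nat_lit 1, nat_lit 2, nat_lit 3, nat_lit 4, nat_lit 5, nat_lit 2,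 nat_lit 3, nat_lit 12] (Rl.cmp (nat_lit 243) (nat_lit 234)))) (FT.node (nat_lit 2008) (FT.leaf (Fct.mk false (nat_lit 4) (nat_lit 0) (nat_lit 4) [nat_lit 2, nat_lit 3, nat_lit 4, nat_lit 1, nat_lit 2, nat_lit 3, nat_lit 8, nat_lit 5, nat_lit 6, nat_lit 4, nat_lit 5, nat_lit 3, nat_lit 4, nat_lit 2, nat_lit 3, nat_lit 8, nat_lit 1, nat_lit 2, nat_lit 3, nat_lit 4, nat_lit 5, nat_lit 1, nat_lit 2, nat_lit 8, nat_lit 3, nat_lit 9, nat_lit 8, nat_lit 16, nat_lit 14, nat_lit 8, nat_lit 18, nat_lit 16] (Rl.cmp (nat_lit 1995) (nat_lit 2006)))) (FT.leaf (Fct.mk false (nat_lit 4) (nat_lit 0) (nat_lit 4) [nat_lit 2, nat_lit 3, nat_lit 4, nat_lit 1, nat_lit 2, nat_lit 3, nat_lit 8, nat_lit 5, nat_lit 6, nat_lit 4, nat_lit 5, nat_lit 3, nat_lit 4, nat_lit 2, nat_lit 3, nat_lit 8, nat_lit 1, nat_lit 2, nat_lit 3, nat_lit 4, nat_lit 5, nat_lit 8, nat_lit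 4, nat_lit 3, nat_lit 2, nat_lit 1, nat_lit 9, nat_lit 4, nat_lit 3, nat_lit 2, nat_lit 8, nat_lit 3, nat_lit 9, nat_lit 12, nat_lit 8, nat_lit 16, nat_lit 14, nat_lit 19] (Rl.cmp (nat_lit 234) (nat_lit 2007)))))) (FT.node (nat_lit 2010) (FT.leaf (Fct.mk true (nat_lit 4) (nat_lit 168) (nat_lit 26) [nat_lit 6, nat_lit 5, nat_lit 3, nat_lit 4, nat_lit 1, nat_lit 2, nat_lit 3, nat_lit 8, nat_lit 0, nat_lit 1, nat_lit 2, nat_lit 3, nat_lit 4, nat_lit 5, nat_lit 1, nat_lit 8, nat_lit 3, nat_lit 2, nat_lit 0, nat_lit 1, nat_lit 9, nat_lit 4, nat_lit 3, nat_lit 2, nat_lit 8, nat_lit 3, nat_lit 1, nat_lit 0, nat_lit 2, nat_lit 12, nat_lit 15, nat_lit 14, nat_lit 16, nat_lit 8, nat_lit 19, nat_lit 16] (Rl.t1 (nat_lit 1987) (nat_lit 2008)))) (FT.node (nat_lit 2011) (FT.leaf (Fct.mk false (nat_lit 26) (nat_lit 0) (nat_lit 26) [nat_lit 6, nat_lit 5, nat_lit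 4, nat_lit 2, nat_lit 3, nat_lit 8, nat_lit 1, nat_lit 2, nat_lit 3, nat_lit 4, nat_lit 5, nat_lit 2, nat_lit 1, nat_lit 9, nat_lit 4, nat_lit 3, nat_lit 2, nat_lit 8, nat_lit 3, nat_lit 11, nat_lit 2, nat_lit 16, nat_lit 15, nat_lit 14, nat_lit 8, nat_lit 18] (Rl.cc (nat_lit 1284) (nat_lit 2009)))) (FT.leaf (Fct.mk false (nat_lit 4) (nat_lit 0) (nat_lit 4) [nat_lit 2, nat_lit 3, nat_lit 8, nat_lit 6, nat_lit 4, nat_lit 5, nat_lit 3, nat_lit 4, nat_lit 2, nat_lit 3, nat_lit 8, nat_lit 1, nat_lit 2, nat_lit 3, nat_lit 4, nat_lit 5, nat_lit 8, nat_lit 4, nat_lit 3, nat_lit 2, nat_lit 1, nat_lit 9, nat_lit 4, nat_lit 3, nat_lit 2, nat_lit 8, nat_lit 3, nat_lit 10, nat_lit 12, nat_lit 8, nat_lit 16, nat_lit 14, nat_lit 8, nat_lit 19] (Rl.cmp (nat_lit 234) (nat_lit 1995)))))))) (FT.node (nat_lit 2018) (FT.node (nat_lit 2015) (FT.node (nat_lit 2013)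 (FT.leaf (Fct.mk true (nat_lit 4) (nat_lit 150) (nat_lit 2) [nat_lit 4, nat_lit 2, nat_lit 3, nat_lit 8, nat_lit 5, nat_lit 6, nat_lit 4, nat_lit 5, nat_lit 3, nat_lit 4, nat_lit 2, nat_lit 3, nat_lit 8, nat_lit 1, nat_lit 2, nat_lit 3, nat_lit 4, nat_lit 5, nat_lit 3, nat_lit 2, nat_lit 1, nat_lit 8, nat_lit 3, nat_lit 2, nat_lit 0, nat_lit 1, nat_lit 9, nat_lit 4, nat_lit 3, nat_lit 2, nat_lit 8, nat_lit 3, nat_lit 1, nat_lit 9, nat_lit 8, nat_lit 16, nat_lit 15, nat_lit 14, nat_lit 13, nat_lit 12, nat_lit 18] (Rl.t1 (nat_lit 1989) (nat_lit 2011)))) (FT.node (nat_lit 2014) (FT.leaf (Fct.mk false (nat_lit 13) (nat_lit 0) (nat_lit 2) [nat_lit 8, nat_lit 3, nat_lit 4, nat_lit 2, nat_lit 3, nat_lit 8, nat_lit 5, nat_lit 6, nat_lit 4, nat_lit 5, nat_lit 3, nat_lit 4, nat_lit 2, nat_lit 3, nat_lit 8, nat_lit 1, nat_lit 2, nat_lit 3, nat_lit 4,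 nat_lit 5, nat_lit 2, nat_lit 0, nat_lit 1, nat_lit 3, nat_lit 2, nat_lit 8, nat_lit 3, nat_lit 8, nat_lit 10, nat_lit 9, nat_lit 2, nat_lit 14, nat_lit 8, nat_lit 18] (Rl.cc (nat_lit 1985) (nat_lit 2012)))) (FT.leaf (Fct.mk false (nat_lit 4) (nat_lit 0) (nat_lit 4) [nat_lit 8, nat_lit 3, nat_lit 4, nat_lit 2, nat_lit 3, nat_lit 8, nat_lit 5, nat_lit 6, nat_lit 4, nat_lit 5, nat_lit 3, nat_lit 4, nat_lit 2, nat_lit 3, nat_lit 8, nat_lit 1, nat_lit 2, nat_lit 3, nat_lit 4, nat_lit 5, nat_lit 3, nat_lit 2, nat_lit 1, nat_lit 4, nat_lit 3, nat_lit 2, nat_lit 8, nat_lit 3, nat_lit 1, nat_lit 9, nat_lit 8, nat_lit 16, nat_lit 14, nat_lit 16, nat_lit 8, nat_lit 19] (Rl.cmp (nat_lit 1995) (nat_lit 234)))))) (FT.node (nat_lit 2016) (FT.leaf (Fct.mk false (nat_lit 4) (nat_lit 0) (nat_lit 4) [nat_lit 2, nat_lit 3, nat_lit 8, nat_lit 6, nat_lit 4, nat_lit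 5, nat_lit 3, nat_lit 4, nat_lit 2, nat_lit 3, nat_lit 8, nat_lit 1, nat_lit 2, nat_lit 3, nat_lit 4, nat_lit 5, nat_lit 1, nat_lit 2, nat_lit 8, nat_lit 3, nat_lit 9, nat_lit 8, nat_lit 16, nat_lit 14, nat_lit 16, nat_lit 8, nat_lit 18, nat_lit 16] (Rl.cmp (nat_lit 1995) (nat_lit 239)))) (FT.node (nat_lit 2017) (FT.leaf (Fct.mk false (nat_lit 4) (nat_lit 0) (nat_lit 4) [nat_lit 7, nat_lit 2, nat_lit 3, nat_lit 8, nat_lit 6, nat_lit 4, nat_lit 5, nat_lit 3, nat_lit 4, nat_lit 2, nat_lit 3, nat_lit 8, nat_lit 1, nat_lit 2, nat_lit 3, nat_lit 4, nat_lit 5, nat_lit 2, nat_lit 1, nat_lit 3, nat_lit 2, nat_lit 8, nat_lit 3, nat_lit 9, nat_lit 8, nat_lit 16, nat_lit 14, nat_lit 16, nat_lit 8, nat_lit 18, nat_lit 16] (Rl.cmp (nat_lit 263) (nat_lit 1995)))) (FT.leaf (Fct.mk false (nat_lit 2) (nat_lit 0) (nat_lit 13) [nat_lit 5, nat_lit 6, nat_lit 4,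 nat_lit 5, nat_lit 3, nat_lit 4, nat_lit 1, nat_lit 2, nat_lit 3, nat_lit 8, nat_lit 0, nat_lit 1, nat_lit 2, nat_lit 3, nat_lit 4, nat_lit 5, nat_lit 3, nat_lit 2, nat_lit 1, nat_lit 4, nat_lit 3, nat_lit 2, nat_lit 8, nat_lit 3, nat_lit 11, nat_lit 2, nat_lit 10, nat_lit 1, nat_lit 8, nat_lit 12, nat_lit 15, nat_lit 14, nat_lit 13, nat_lit 18] (Rl.einv (nat_lit 2013))))))) (FT.node (nat_lit 2021) (FT.node (nat_lit 2019) (FT.leaf (Fct.mk false (nat_lit 2) (nat_lit 0) (nat_lit 13) [nat_lit 5, nat_lit 6, nat_lit 4, nat_lit 5, nat_lit 3, nat_lit 4, nat_lit 1, nat_lit 2, nat_lit 3, nat_lit 8, nat_lit 0, nat_lit 1, nat_lit 2, nat_lit 3, nat_lit 4, nat_lit 5, nat_lit 2, nat_lit 1, nat_lit 3, nat_lit 2, nat_lit 0, nat_lit 1, nat_lit 4, nat_lit 3, nat_lit 2, nat_lit 8, nat_lit 3, nat_lit 11, nat_lit 10, nat_lit 2, nat_lit 8, nat_lit 10, nat_lit 1,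 nat_lit 8, nat_lit 12, nat_lit 15, nat_lit 17, nat_lit 18, nat_lit 16] (Rl.cmp (nat_lit 2017) (nat_lit 821)))) (FT.node (nat_lit 2020) (FT.leaf (Fct.mk false (nat_lit 2) (nat_lit 0) (nat_lit 2) [nat_lit 50] (Rl.cmp (nat_lit 2018) (nat_lit 2013)))) (FT.leaf (Fct.mk false (nat_lit 2) (nat_lit 0) (nat_lit 2) [nat_lit 4, nat_lit 3, nat_lit 2, nat_lit 1, nat_lit 8, nat_lit 3, nat_lit 2, nat_lit 0, nat_lit 1, nat_lit 4, nat_lit 3, nat_lit 2, nat_lit 8, nat_lit 3, nat_lit 2, nat_lit 8, nat_lit 10, nat_lit 1, nat_lit 8, nat_lit 12, nat_lit 15, nat_lit 14, nat_lit 18] (Rl.cmp (nat_lit 300) (nat_lit 84)))))) (FT.node (nat_lit 2023) (FT.node (nat_lit 2022) (FT.leaf (Fct.mk true (nat_lit 2) (nat_lit 121098) (nat_lit 19) [nat_lit 6, nat_lit 7, nat_lit 5, nat_lit 6, nat_lit 4, nat_lit 5, nat_lit 2, nat_lit 3, nat_lit 4, nat_lit 1, nat_lit 2, nat_lit 3, nat_lit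 8, nat_lit 0, nat_lit 1, nat_lit 2, nat_lit 3, nat_lit 4, nat_lit 5, nat_lit 6, nat_lit 7, nat_lit 6, nat_lit 5, nat_lit 4, nat_lit 3, nat_lit 8, nat_lit 2, nat_lit 3, nat_lit 4, nat_lit 1, nat_lit 2, nat_lit 3, nat_lit 8, nat_lit 5, nat_lit 6, nat_lit 4, nat_lit 5, nat_lit 3, nat_lit 4, nat_lit 2, nat_lit 3, nat_lit 8, nat_lit 1, nat_lit 2, nat_lit 3, nat_lit 4, nat_lit 5, nat_lit 2, nat_lit 8, nat_lit 3, nat_lit 8, nat_lit 10, nat_lit 16, nat_lit 15, nat_lit 14] (Rl.t1 (nat_lit 1147) (nat_lit 2013)))) (FT.leaf (Fct.mk false (nat_lit 2) (nat_lit 0) (nat_lit 2) [nat_lit 1, nat_lit 2, nat_lit 3, nat_lit 8, nat_lit 6, nat_lit 4, nat_lit 5, nat_lit 3, nat_lit 4, nat_lit 2, nat_lit 3, nat_lit 8, nat_lit 1, nat_lit 2, nat_lit 3, nat_lit 4, nat_lit 5, nat_lit 6, nat_lit 7, nat_lit 6, nat_lit 1, nat_lit 9, nat_lit 4, nat_lit 3, nat_lit 2, nat_lit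 8, nat_lit 3, nat_lit 9, nat_lit 10, nat_lit 2, nat_lit 8, nat_lit 10, nat_lit 1, nat_lit 12, nat_lit 8, nat_lit 16, nat_lit 14, nat_lit 8, nat_lit 18] (Rl.cmp (nat_lit 1850) (nat_lit 172))))) (FT.node (nat_lit 2024) (FT.leaf (Fct.mk false (nat_lit 2) (nat_lit 0) (nat_lit 2) [nat_lit 1, nat_lit 2, nat_lit 3, nat_lit 8, nat_lit 6, nat_lit 4, nat_lit 5, nat_lit 3, nat_lit 4, nat_lit 2, nat_lit 3, nat_lit 8, nat_lit 1, nat_lit 2, nat_lit 3, nat_lit 4, nat_lit 5, nat_lit 6, nat_lit 7, nat_lit 6, nat_lit 0, nat_lit 1, nat_lit 9, nat_lit 4, nat_lit 3, nat_lit 2, nat_lit 8, nat_lit 3, nat_lit 10, nat_lit 2, nat_lit 8, nat_lit 10, nat_lit 1, nat_lit 12, nat_lit 8, nat_lit 16, nat_lit 14, nat_lit 8, nat_lit 18] (Rl.cmp (nat_lit 300) (nat_lit 2022)))) (FT.leaf (Fct.mk false (nat_lit 2) (nat_lit 0) (nat_lit 2) [nat_lit 5, nat_lit 4, nat_lit 3, nat_lit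 8, nat_lit 2, nat_lit 3, nat_lit 4, nat_lit 1, nat_lit 2, nat_lit 3, nat_lit 8, nat_lit 5, nat_lit 6, nat_lit 4, nat_lit 5, nat_lit 3, nat_lit 4, nat_lit 2, nat_lit 3, nat_lit 8, nat_lit 1, nat_lit 2, nat_lit 3, nat_lit 4, nat_lit 5, nat_lit 6, nat_lit 7, nat_lit 6, nat_lit 2, nat_lit 3, nat_lit 8, nat_lit 4, nat_lit 3, nat_lit 2, nat_lit 0, nat_lit 1, nat_lit 9, nat_lit 4, nat_lit 3, nat_lit 2, nat_lit 8, nat_lit 3, nat_lit 11, nat_lit 2, nat_lit 8, nat_lit 10, nat_lit 1, nat_lit 12, nat_lit 8, nat_lit 16, nat_lit 14, nat_lit 13, nat_lit 18, nat_lit 16] (Rl.cmp (nat_lit 2019) (nat_lit 2023))))))))) (FT.node (nat_lit 2037) (FT.node (nat_lit 2031) (FT.node (nat_lit 2028) (FT.node (nat_lit 2026) (FT.leaf (Fct.mk true (nat_lit 2) (nat_lit 8) (nat_lit 19) [nat_lit 2, nat_lit 3, nat_lit 4, nat_lit 1, nat_lit 2, nat_lit 3, nat_lit 8, nat_lit 5, nat_lit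 6, nat_lit 4, nat_lit 5, nat_lit 3, nat_lit 4, nat_lit 2, nat_lit 3, nat_lit 8, nat_lit 1, nat_lit 2, nat_lit 3, nat_lit 4, nat_lit 5, nat_lit 6, nat_lit 7, nat_lit 6, nat_lit 5, nat_lit 4, nat_lit 3, nat_lit 8, nat_lit 1, nat_lit 2, nat_lit 3, nat_lit 4, nat_lit 5, nat_lit 8, nat_lit 3, nat_lit 2, nat_lit 0, nat_lit 1, nat_lit 9, nat_lit 4, nat_lit 3, nat_lit 2, nat_lit 8, nat_lit 3, nat_lit 9, nat_lit 14, nat_lit 13, nat_lit 12] (Rl.t1 (nat_lit 2021) (nat_lit 2024)))) (FT.node (nat_lit 2027) (FT.leaf (Fct.mk false (nat_lit 2) (nat_lit 0) (nat_lit 19) [nat_lit 2, nat_lit 3, nat_lit 4, nat_lit 1, nat_lit 2, nat_lit 3, nat_lit 8, nat_lit 5, nat_lit 6, nat_lit 4, nat_lit 5, nat_lit 3, nat_lit 4, nat_lit 2, nat_lit 3, nat_lit 8, nat_lit 1, nat_lit 2, nat_lit 3, nat_lit 4, nat_lit 5, nat_lit 6, nat_lit 7, nat_lit 6, nat_lit 5, nat_lit 4, nat_lit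 3, nat_lit 8, nat_lit 1, nat_lit 2, nat_lit 3, nat_lit 4, nat_lit 5, nat_lit 8, nat_lit 4, nat_lit 3, nat_lit 2, nat_lit 0, nat_lit 1, nat_lit 9, nat_lit 4, nat_lit 3, nat_lit 2, nat_lit 8, nat_lit 3, nat_lit 9, nat_lit 16, nat_lit 14, nat_lit 13, nat_lit 12] (Rl.cc (nat_lit 98) (nat_lit 2025)))) (FT.leaf (Fct.mk false (nat_lit 19) (nat_lit 0) (nat_lit 2) [nat_lit 8, nat_lit 3, nat_lit 4, nat_lit 2, nat_lit 3, nat_lit 8, nat_lit 5, nat_lit 6, nat_lit 4, nat_lit 5, nat_lit 3, nat_lit 4, nat_lit 2, nat_lit 3, nat_lit 8, nat_lit 1, nat_lit 2, nat_lit 3, nat_lit 4, nat_lit 5, nat_lit 6, nat_lit 7, nat_lit 6, nat_lit 5, nat_lit 4, nat_lit 3, nat_lit 8, nat_lit 1, nat_lit 2, nat_lit 3, nat_lit 4, nat_lit 5, nat_lit 2, nat_lit 3, nat_lit 8, nat_lit 4, nat_lit 3, nat_lit 2, nat_lit 0, nat_lit 1, nat_lit 9, nat_lit 4, nat_lit 3, nat_lit 2, nat_lit 8,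 nat_lit 3, nat_lit 11, nat_lit 10, nat_lit 2, nat_lit 8, nat_lit 10, nat_lit 1, nat_lit 8, nat_lit 12, nat_lit 15, nat_lit 12, nat_lit 18] (Rl.einv (nat_lit 2026)))))) (FT.node (nat_lit 2029) (FT.leaf (Fct.mk true (nat_lit 2) (nat_lit 1693) (nat_lit 16) [nat_lit 4, nat_lit 1, nat_lit 2, nat_lit 3, nat_lit 8, nat_lit 5, nat_lit 6, nat_lit 4, nat_lit 5, nat_lit 3, nat_lit 4, nat_lit 2, nat_lit 3, nat_lit 8, nat_lit 1, nat_lit 2, nat_lit 3, nat_lit 4, nat_lit 5, nat_lit 6, nat_lit 7, nat_lit 8, nat_lit 5, nat_lit 6, nat_lit 4, nat_lit 5, nat_lit 2, nat_lit 3, nat_lit 4, nat_lit 1, nat_lit 2, nat_lit 3, nat_lit 8, nat_lit 0, nat_lit 1, nat_lit 2, nat_lit 3, nat_lit 4, nat_lit 5, nat_lit 2, nat_lit 1, nat_lit 3, nat_lit 2, nat_lit 8, nat_lit 3, nat_lit 10, nat_lit 1, nat_lit 8, nat_lit 12, nat_lit 15, nat_lit 14, nat_lit 12, nat_lit 19] (Rl.t1 (nat_lit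 1897) (nat_lit 2027)))) (FT.node (nat_lit 2030) (FT.leaf (Fct.mk false (nat_lit 2) (nat_lit 0) (nat_lit 2) [nat_lit 3, nat_lit 2, nat_lit 8, nat_lit 3, nat_lit 0, nat_lit 8, nat_lit 18] (Rl.cmp (nat_lit 87) (nat_lit 173)))) (FT.leaf (Fct.mk false (nat_lit 2) (nat_lit 0) (nat_lit 2) [nat_lit 4, nat_lit 0, nat_lit 2, nat_lit 12, nat_lit 18] (Rl.cmp (nat_lit 87) (nat_lit 2029))))))) (FT.node (nat_lit 2034) (FT.node (nat_lit 2032) (FT.leaf (Fct.mk true (nat_lit 2) (nat_lit 430) (nat_lit 16) [nat_lit 2, nat_lit 3, nat_lit 4, nat_lit 1, nat_lit 2, nat_lit 3, nat_lit 8, nat_lit 5, nat_lit 6, nat_lit 4, nat_lit 5, nat_lit 3, nat_lit 4, nat_lit 2, nat_lit 3, nat_lit 8, nat_lit 1, nat_lit 2, nat_lit 3, nat_lit 4, nat_lit 5, nat_lit 6, nat_lit 7, nat_lit 2, nat_lit 3, nat_lit 4, nat_lit 1, nat_lit 2, nat_lit 3, nat_lit 8, nat_lit 5, nat_lit 6, nat_lit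 4, nat_lit 5, nat_lit 3, nat_lit 4, nat_lit 2, nat_lit 3, nat_lit 8, nat_lit 1, nat_lit 2, nat_lit 3, nat_lit 4, nat_lit 5, nat_lit 8, nat_lit 4, nat_lit 3, nat_lit 2, nat_lit 1, nat_lit 9, nat_lit 4, nat_lit 3, nat_lit 2, nat_lit 8, nat_lit 3, nat_lit 11, nat_lit 8, nat_lit 10, nat_lit 1, nat_lit 8, nat_lit 12, nat_lit 15, nat_lit 14, nat_lit 13, nat_lit 18, nat_lit 16] (Rl.t1 (nat_lit 2028) (nat_lit 2030)))) (FT.node (nat_lit 2033) (FT.leaf (Fct.mk false (nat_lit 9) (nat_lit 0) (nat_lit 16) [nat_lit 8, nat_lit 3, nat_lit 4, nat_lit 2, nat_lit 3, nat_lit 8, nat_lit 5, nat_lit 6, nat_lit 4, nat_lit 5, nat_lit 3, nat_lit 4, nat_lit 2, nat_lit 3, nat_lit 8, nat_lit 0, nat_lit 1, nat_lit 2, nat_lit 3, nat_lit 4, nat_lit 5, nat_lit 6, nat_lit 7, nat_lit 5, nat_lit 6, nat_lit 4, nat_lit 5, nat_lit 3, nat_lit 4, nat_lit 2, nat_lit 3, nat_lit 8, nat_lit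 1, nat_lit 2, nat_lit 3, nat_lit 4, nat_lit 5, nat_lit 1, nat_lit 3, nat_lit 2, nat_lit 8, nat_lit 3, nat_lit 16, nat_lit 8, nat_lit 19, nat_lit 16] (Rl.cc (nat_lit 649) (nat_lit 2031)))) (FT.leaf (Fct.mk false (nat_lit 4) (nat_lit 0) (nat_lit 9) [nat_lit 2, nat_lit 3, nat_lit 8, nat_lit 1, nat_lit 2, nat_lit 3, nat_lit 4, nat_lit 5, nat_lit 2, nat_lit 1, nat_lit 3, nat_lit 2, nat_lit 8, nat_lit 3, nat_lit 0, nat_lit 12, nat_lit 8, nat_lit 16, nat_lit 14, nat_lit 17, nat_lit 12, nat_lit 16] (Rl.einv (nat_lit 1967)))))) (FT.node (nat_lit 2035) (FT.leaf (Fct.mk false (nat_lit 4) (nat_lit 0) (nat_lit 16) [nat_lit 6, nat_lit 5, nat_lit 4, nat_lit 3, nat_lit 8, nat_lit 2, nat_lit 3, nat_lit 4, nat_lit 5, nat_lit 6, nat_lit 7, nat_lit 8, nat_lit 6, nat_lit 4, nat_lit 5, nat_lit 3, nat_lit 4, nat_lit 2, nat_lit 3, nat_lit 8, nat_lit 1, nat_lit 2,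 nat_lit 3, nat_lit 4, nat_lit 5, nat_lit 2, nat_lit 1, nat_lit 4, nat_lit 3, nat_lit 2, nat_lit 8, nat_lit 3, nat_lit 11, nat_lit 10, nat_lit 2, nat_lit 8, nat_lit 10, nat_lit 1, nat_lit 8, nat_lit 16, nat_lit 15, nat_lit 14, nat_lit 18] (Rl.cmp (nat_lit 2033) (nat_lit 2032)))) (FT.node (nat_lit 2036) (FT.leaf (Fct.mk false (nat_lit 16) (nat_lit 0) (nat_lit 4) [nat_lit 8, nat_lit 3, nat_lit 4, nat_lit 2, nat_lit 3, nat_lit 8, nat_lit 5, nat_lit 6, nat_lit 4, nat_lit 5, nat_lit 3, nat_lit 4, nat_lit 2, nat_lit 3, nat_lit 8, nat_lit 1, nat_lit 2, nat_lit 3, nat_lit 4, nat_lit 5, nat_lit 6, nat_lit 7, nat_lit 8, nat_lit 3, nat_lit 4, nat_lit 2, nat_lit 3, nat_lit 8, nat_lit 0, nat_lit 1, nat_lit 2, nat_lit 3, nat_lit 4, nat_lit 5, nat_lit 11, nat_lit 2, nat_lit 10, nat_lit 1, nat_lit 14, nat_lit 17, nat_lit 18] (Rl.einv (nat_lit 2034)))) (FT.leaf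 (Fct.mk true (nat_lit 4) (nat_lit 121261) (nat_lit 21) [nat_lit 2, nat_lit 3, nat_lit 8, nat_lit 6, nat_lit 4, nat_lit 5, nat_lit 3, nat_lit 4, nat_lit 2, nat_lit 3, nat_lit 8, nat_lit 1, nat_lit 2, nat_lit 3, nat_lit 4, nat_lit 5, nat_lit 6, nat_lit 7, nat_lit 5, nat_lit 6, nat_lit 4, nat_lit 5, nat_lit 3, nat_lit 4, nat_lit 2, nat_lit 3, nat_lit 8, nat_lit 1, nat_lit 2, nat_lit 3, nat_lit 4, nat_lit 5, nat_lit 1, nat_lit 2, nat_lit 8, nat_lit 3, nat_lit 11, nat_lit 2, nat_lit 8, nat_lit 10, nat_lit 1, nat_lit 8, nat_lit 16, nat_lit 15, nat_lit 14, nat_lit 13, nat_lit 18, nat_lit 16] (Rl.t1 (nat_lit 1053) (nat_lit 2035)))))))) (FT.node (nat_lit 2043) (FT.node (nat_lit 2040) (FT.node (nat_lit 2038) (FT.leaf (Fct.mk true (nat_lit 4) (nat_lit 0) (nat_lit 21) [nat_lit 8, nat_lit 3, nat_lit 4, nat_lit 2, nat_lit 3, nat_lit 8, nat_lit 1, nat_lit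 2, nat_lit 3, nat_lit 4, nat_lit 5, nat_lit 6, nat_lit 7, nat_lit 8, nat_lit 5, nat_lit 6, nat_lit 4, nat_lit 5, nat_lit 3, nat_lit 4, nat_lit 2, nat_lit 3, nat_lit 8, nat_lit 1, nat_lit 2, nat_lit 3, nat_lit 4, nat_lit 5, nat_lit 3, nat_lit 2, nat_lit 1, nat_lit 9, nat_lit 4, nat_lit 3, nat_lit 2, nat_lit 8, nat_lit 3, nat_lit 11, nat_lit 2, nat_lit 8, nat_lit 10, nat_lit 1, nat_lit 8, nat_lit 12, nat_lit 15, nat_lit 14, nat_lit 17, nat_lit 18] (Rl.t1 (nat_lit 2036) (nat_lit 2014)))) (FT.node (nat_lit 2039) (FT.leaf (Fct.mk false (nat_lit 1) (nat_lit 0) (nat_lit 21) [nat_lit 2, nat_lit 3, nat_lit 4, nat_lit 5, nat_lit 6, nat_lit 7, nat_lit 8, nat_lit 3, nat_lit 4, nat_lit 2, nat_lit 3, nat_lit 8, nat_lit 5, nat_lit 6, nat_lit 4, nat_lit 5, nat_lit 3, nat_lit 4, nat_lit 2, nat_lit 3, nat_lit 8, nat_lit 1, nat_lit 2, nat_lit 3, nat_lit 4, nat_lit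 5, nat_lit 8, nat_lit 3, nat_lit 2, nat_lit 1, nat_lit 9, nat_lit 4, nat_lit 3, nat_lit 2, nat_lit 8, nat_lit 3, nat_lit 11, nat_lit 8, nat_lit 10, nat_lit 8, nat_lit 12, nat_lit 15, nat_lit 14, nat_lit 8, nat_lit 18] (Rl.cc (nat_lit 315) (nat_lit 2037)))) (FT.leaf (Fct.mk false (nat_lit 21) (nat_lit 0) (nat_lit 1) [nat_lit 8, nat_lit 3, nat_lit 4, nat_lit 2, nat_lit 3, nat_lit 8, nat_lit 5, nat_lit 6, nat_lit 4, nat_lit 5, nat_lit 3, nat_lit 4, nat_lit 2, nat_lit 3, nat_lit 8, nat_lit 1, nat_lit 2, nat_lit 3, nat_lit 4, nat_lit 5, nat_lit 6, nat_lit 7, nat_lit 3, nat_lit 8, nat_lit 4, nat_lit 5, nat_lit 3, nat_lit 4, nat_lit 2, nat_lit 3, nat_lit 8, nat_lit 1, nat_lit 2, nat_lit 3, nat_lit 4, nat_lit 5, nat_lit 2, nat_lit 1, nat_lit 4, nat_lit 3, nat_lit 2, nat_lit 8, nat_lit 3, nat_lit 11, nat_lit 8, nat_lit 10, nat_lit 1, nat_lit 12, nat_lit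 15, nat_lit 13, nat_lit 12, nat_lit 18, nat_lit 16] (Rl.einv (nat_lit 2038)))))) (FT.node (nat_lit 2041) (FT.leaf (Fct.mk true (nat_lit 1) (nat_lit 787) (nat_lit 10) [nat_lit 3, nat_lit 8, nat_lit 5, nat_lit 2, nat_lit 3, nat_lit 4, nat_lit 1, nat_lit 2, nat_lit 3, nat_lit 8, nat_lit 0, nat_lit 1, nat_lit 2, nat_lit 3, nat_lit 4, nat_lit 5, nat_lit 1, nat_lit 9, nat_lit 4, nat_lit 3, nat_lit 2, nat_lit 8, nat_lit 3, nat_lit 11, nat_lit 10, nat_lit 2, nat_lit 8, nat_lit 10, nat_lit 1, nat_lit 8, nat_lit 12, nat_lit 15, nat_lit 8, nat_lit 18] (Rl.t1 (nat_lit 1910) (nat_lit 2039)))) (FT.node (nat_lit 2042) (FT.leaf (Fct.mk true (nat_lit 1) (nat_lit 50) (nat_lit 10) [nat_lit 7, nat_lit 8, nat_lit 6, nat_lit 4, nat_lit 5, nat_lit 3, nat_lit 4, nat_lit 1, nat_lit 2, nat_lit 3, nat_lit 8, nat_lit 0, nat_lit 1, nat_lit 2, nat_lit 3, nat_lit 4, nat_lit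 5, nat_lit 2, nat_lit 1, nat_lit 9, nat_lit 4, nat_lit 3, nat_lit 2, nat_lit 8, nat_lit 3, nat_lit 11, nat_lit 10, nat_lit 2, nat_lit 8, nat_lit 10, nat_lit 1, nat_lit 8, nat_lit 12, nat_lit 15, nat_lit 14, nat_lit 8, nat_lit 18] (Rl.t1 (nat_lit 2040) (nat_lit 228)))) (FT.leaf (Fct.mk false (nat_lit 3) (nat_lit 0) (nat_lit 10) [nat_lit 7, nat_lit 8, nat_lit 6, nat_lit 4, nat_lit 5, nat_lit 3, nat_lit 4, nat_lit 1, nat_lit 2, nat_lit 3, nat_lit 8, nat_lit 0, nat_lit 1, nat_lit 2, nat_lit 3, nat_lit 4, nat_lit 5, nat_lit 2, nat_lit 1, nat_lit 9, nat_lit 4, nat_lit 3, nat_lit 2, nat_lit 8, nat_lit 3, nat_lit 11, nat_lit 10, nat_lit 2, nat_lit 8, nat_lit 10, nat_lit 1, nat_lit 8, nat_lit 12, nat_lit 15, nat_lit 14, nat_lit 8, nat_lit 18] (Rl.cc (nat_lit 182) (nat_lit 2041))))))) (FT.node (nat_lit 2046) (FT.node (nat_lit 2044) (FT.leaf (Fct.mk false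 (nat_lit 10) (nat_lit 0) (nat_lit 3) [nat_lit 8, nat_lit 3, nat_lit 4, nat_lit 2, nat_lit 3, nat_lit 8, nat_lit 5, nat_lit 6, nat_lit 4, nat_lit 5, nat_lit 3, nat_lit 4, nat_lit 2, nat_lit 3, nat_lit 8, nat_lit 1, nat_lit 2, nat_lit 3, nat_lit 4, nat_lit 5, nat_lit 6, nat_lit 7, nat_lit 2, nat_lit 3, nat_lit 4, nat_lit 1, nat_lit 2, nat_lit 3, nat_lit 8, nat_lit 0, nat_lit 1, nat_lit 2, nat_lit 3, nat_lit 4, nat_lit 5, nat_lit 1, nat_lit 4, nat_lit 3, nat_lit 2, nat_lit 8, nat_lit 3, nat_lit 2, nat_lit 8, nat_lit 10, nat_lit 1, nat_lit 15, nat_lit 14, nat_lit 12, nat_lit 18] (Rl.einv (nat_lit 2042)))) (FT.node (nat_lit 2045) (FT.leaf (Fct.mk true (nat_lit 3) (nat_lit 1066) (nat_lit 16) [nat_lit 8, nat_lit 3, nat_lit 4, nat_lit 1, nat_lit 2, nat_lit 3, nat_lit 8, nat_lit 0, nat_lit 1, nat_lit 2, nat_lit 3, nat_lit 4, nat_lit 5, nat_lit 6, nat_lit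 7, nat_lit 4, nat_lit 5, nat_lit 3, nat_lit 4, nat_lit 1, nat_lit 2, nat_lit 3, nat_lit 8, nat_lit 0, nat_lit 1, nat_lit 2, nat_lit 3, nat_lit 4, nat_lit 5, nat_lit 2, nat_lit 1, nat_lit 4, nat_lit 3, nat_lit 2, nat_lit 8, nat_lit 3, nat_lit 8, nat_lit 10, nat_lit 14, nat_lit 13] (Rl.t1 (nat_lit 1885) (nat_lit 2043)))) (FT.leaf (Fct.mk false (nat_lit 3) (nat_lit 0) (nat_lit 3) [nat_lit 5, nat_lit 9, nat_lit 4, nat_lit 2, nat_lit 15, nat_lit 14] (Rl.cmp (nat_lit 206) (nat_lit 1783)))))) (FT.node (nat_lit 2048) (FT.node (nat_lit 2047) (FT.leaf (Fct.mk false (nat_lit 3) (nat_lit 0) (nat_lit 3) [nat_lit 5, nat_lit 9, nat_lit 4, nat_lit 10, nat_lit 9, nat_lit 2, nat_lit 12, nat_lit 15, nat_lit 14] (Rl.cmp (nat_lit 200) (nat_lit 2045)))) (FT.leaf (Fct.mk true (nat_lit 3) (nat_lit 21) (nat_lit 16) [nat_lit 4, nat_lit 1, nat_lit 2, nat_lit 3, nat_lit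 8, nat_lit 5, nat_lit 6, nat_lit 4, nat_lit 5, nat_lit 3, nat_lit 4, nat_lit 2, nat_lit 3, nat_lit 8, nat_lit 1, nat_lit 2, nat_lit 3, nat_lit 4, nat_lit 5, nat_lit 6, nat_lit 7, nat_lit 4, nat_lit 5, nat_lit 2, nat_lit 3, nat_lit 4, nat_lit 1, nat_lit 2, nat_lit 3, nat_lit 8, nat_lit 0, nat_lit 1, nat_lit 2, nat_lit 3, nat_lit 4, nat_lit 5, nat_lit 3, nat_lit 2, nat_lit 1, nat_lit 4, nat_lit 3, nat_lit 2, nat_lit 8, nat_lit 3, nat_lit 1, nat_lit 0, nat_lit 2, nat_lit 8, nat_lit 12, nat_lit 15, nat_lit 13] (Rl.t1 (nat_lit 2044) (nat_lit 2046))))) (FT.node (nat_lit 2049) (FT.leaf (Fct.mk false (nat_lit 14) (nat_lit 0) (nat_lit 16) [nat_lit 3, nat_lit 8, nat_lit 2, nat_lit 3, nat_lit 4, nat_lit 1, nat_lit 2, nat_lit 3, nat_lit 8, nat_lit 5, nat_lit 6, nat_lit 4, nat_lit 5, nat_lit 3, nat_lit 4, nat_lit 2, nat_lit 3, nat_lit 8, nat_lit 1, nat_lit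 2, nat_lit 3, nat_lit 4, nat_lit 5, nat_lit 6, nat_lit 7, nat_lit 6, nat_lit 5, nat_lit 4, nat_lit 3, nat_lit 8, nat_lit 1, nat_lit 2, nat_lit 3, nat_lit 4, nat_lit 5, nat_lit 1, nat_lit 2, nat_lit 3, nat_lit 9, nat_lit 2, nat_lit 8, nat_lit 16, nat_lit 14, nat_lit 8, nat_lit 18, nat_lit 16] (Rl.cc (nat_lit 881) (nat_lit 2047)))) (FT.leaf (Fct.mk false (nat_lit 14) (nat_lit 0) (nat_lit 4) [nat_lit 8, nat_lit 3, nat_lit 4, nat_lit 2, nat_lit 3, nat_lit 8, nat_lit 5, nat_lit 6, nat_lit 4, nat_lit 5, nat_lit 3, nat_lit 4, nat_lit 2, nat_lit 3, nat_lit 8, nat_lit 1, nat_lit 2, nat_lit 3, nat_lit 4, nat_lit 5, nat_lit 6, nat_lit 7, nat_lit 3, nat_lit 8, nat_lit 2, nat_lit 3, nat_lit 4, nat_lit 1, nat_lit 2, nat_lit 3, nat_lit 8, nat_lit 0, nat_lit 1, nat_lit 2, nat_lit 3, nat_lit 4, nat_lit 5, nat_lit 3, nat_lit 8, nat_lit 4, nat_lit 3, nat_lit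 2, nat_lit 1, nat_lit 9, nat_lit 4, nat_lit 3, nat_lit 2, nat_lit 8, nat_lit 3, nat_lit 11, nat_lit 2, nat_lit 8, nat_lit 10, nat_lit 1, nat_lit 8, nat_lit 16, nat_lit 14, nat_lit 13, nat_lit 12, nat_lit 19, nat_lit 16] (Rl.cmp (nat_lit 2048) (nat_lit 2035)))))))))

/-- some facts -/
noncomputable def ftc41 : FT := FT.node (nat_lit 2075) (FT.node (nat_lit 2062) (FT.node (nat_lit 2056) (FT.node (nat_lit 2053) (FT.node (nat_lit 2051) (FT.leaf (Fct.mk true (nat_lit 4) (nat_lit 119840) (nat_lit 17) [nat_lit 8, nat_lit 7, nat_lit 5, nat_lit 6, nat_lit 4, nat_lit 5, nat_lit 3, nat_lit 4, nat_lit 1, nat_lit 2, nat_lit 3, nat_lit 8, nat_lit 0, nat_lit 1, nat_lit 2, nat_lit 3, nat_lit 4, nat_lit 5, nat_lit 6, nat_lit 7, nat_lit 6, nat_lit 5, nat_lit 4, nat_lit 2, nat_lit 3, nat_lit 8, nat_lit 0, nat_lit 1, nat_lit 2, nat_lit 3, nat_lit 4, nat_lit 5,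 nat_lit 1, nat_lit 9, nat_lit 4, nat_lit 3, nat_lit 2, nat_lit 8, nat_lit 3, nat_lit 10, nat_lit 12, nat_lit 8, nat_lit 16, nat_lit 14, nat_lit 18, nat_lit 16] (Rl.t1 (nat_lit 1734) (nat_lit 2049)))) (FT.node (nat_lit 2052) (FT.leaf (Fct.mk false (nat_lit 4) (nat_lit 0) (nat_lit 4) [nat_lit 2, nat_lit 3, nat_lit 8, nat_lit 6, nat_lit 4, nat_lit 5, nat_lit 3, nat_lit 4, nat_lit 2, nat_lit 3, nat_lit 8, nat_lit 1, nat_lit 2, nat_lit 3, nat_lit 4, nat_lit 5, nat_lit 2, nat_lit 1, nat_lit 3, nat_lit 2, nat_lit 8, nat_lit 3, nat_lit 8, nat_lit 16, nat_lit 14, nat_lit 16, nat_lit 8, nat_lit 18, nat_lit 16] (Rl.cmp (nat_lit 1995) (nat_lit 240)))) (FT.leaf (Fct.mk true (nat_lit 4) (nat_lit 3) (nat_lit 17) [nat_lit 8, nat_lit 7, nat_lit 6, nat_lit 5, nat_lit 3, nat_lit 4, nat_lit 1, nat_lit 2, nat_lit 3, nat_lit 8, nat_lit 0, nat_lit 1, nat_lit 2, nat_lit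 3, nat_lit 4, nat_lit 5, nat_lit 6, nat_lit 7, nat_lit 6, nat_lit 5, nat_lit 3, nat_lit 4, nat_lit 2, nat_lit 3, nat_lit 8, nat_lit 1, nat_lit 2, nat_lit 3, nat_lit 4, nat_lit 5, nat_lit 1, nat_lit 3, nat_lit 2, nat_lit 8, nat_lit 3, nat_lit 11, nat_lit 8, nat_lit 10, nat_lit 1, nat_lit 15, nat_lit 14, nat_lit 17, nat_lit 18, nat_lit 16] (Rl.t1 (nat_lit 2050) (nat_lit 2051)))))) (FT.node (nat_lit 2054) (FT.leaf (Fct.mk false (nat_lit 2) (nat_lit 0) (nat_lit 17) [nat_lit 7, nat_lit 5, nat_lit 6, nat_lit 4, nat_lit 5, nat_lit 3, nat_lit 4, nat_lit 2, nat_lit 3, nat_lit 8, nat_lit 0, nat_lit 1, nat_lit 2, nat_lit 3, nat_lit 4, nat_lit 5, nat_lit 6, nat_lit 7, nat_lit 6, nat_lit 5, nat_lit 4, nat_lit 3, nat_lit 8, nat_lit 1, nat_lit 2, nat_lit 3, nat_lit 4, nat_lit 5, nat_lit 1, nat_lit 2, nat_lit 8, nat_lit 3, nat_lit 9, nat_lit 16, nat_lit 8,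 nat_lit 19, nat_lit 16] (Rl.cc (nat_lit 317) (nat_lit 2052)))) (FT.node (nat_lit 2055) (FT.leaf (Fct.mk false (nat_lit 17) (nat_lit 0) (nat_lit 2) [nat_lit 8, nat_lit 3, nat_lit 4, nat_lit 2, nat_lit 3, nat_lit 8, nat_lit 7, nat_lit 5, nat_lit 6, nat_lit 4, nat_lit 5, nat_lit 3, nat_lit 4, nat_lit 2, nat_lit 3, nat_lit 8, nat_lit 1, nat_lit 2, nat_lit 3, nat_lit 4, nat_lit 5, nat_lit 6, nat_lit 7, nat_lit 6, nat_lit 5, nat_lit 4, nat_lit 3, nat_lit 8, nat_lit 1, nat_lit 2, nat_lit 3, nat_lit 4, nat_lit 5, nat_lit 9, nat_lit 4, nat_lit 11, nat_lit 10, nat_lit 1, nat_lit 13, nat_lit 16] (Rl.einv (nat_lit 2053)))) (FT.leaf (Fct.mk true (nat_lit 2) (nat_lit 532) (nat_lit 18) [nat_lit 0, nat_lit 1, nat_lit 2, nat_lit 3, nat_lit 4, nat_lit 5, nat_lit 6, nat_lit 7, nat_lit 5, nat_lit 6, nat_lit 4, nat_lit 5, nat_lit 3, nat_lit 4, nat_lit 2, nat_lit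 3, nat_lit 8, nat_lit 1, nat_lit 2, nat_lit 3, nat_lit 4, nat_lit 5, nat_lit 1, nat_lit 8, nat_lit 3, nat_lit 2, nat_lit 0, nat_lit 1, nat_lit 4, nat_lit 3, nat_lit 2, nat_lit 8, nat_lit 3, nat_lit 11, nat_lit 8, nat_lit 10, nat_lit 8, nat_lit 12, nat_lit 15, nat_lit 14, nat_lit 13, nat_lit 18, nat_lit 16] (Rl.t1 (nat_lit 1722) (nat_lit 2054))))))) (FT.node (nat_lit 2059) (FT.node (nat_lit 2057) (FT.leaf (Fct.mk false (nat_lit 2) (nat_lit 0) (nat_lit 2) [nat_lit 5, nat_lit 4, nat_lit 3, nat_lit 8, nat_lit 2, nat_lit 3, nat_lit 4, nat_lit 5, nat_lit 1, nat_lit 2, nat_lit 0, nat_lit 1, nat_lit 3, nat_lit 2, nat_lit 8, nat_lit 3, nat_lit 11, nat_lit 2, nat_lit 8, nat_lit 10, nat_lit 1, nat_lit 8, nat_lit 12, nat_lit 15, nat_lit 14, nat_lit 13, nat_lit 18, nat_lit 16] (Rl.cmp (nat_lit 2019) (nat_lit 2020)))) (FT.node (nat_lit 2058) (FT.leaf (Fct.mk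 false (nat_lit 2) (nat_lit 0) (nat_lit 2) [nat_lit 7, nat_lit 6, nat_lit 5, nat_lit 4, nat_lit 3, nat_lit 8, nat_lit 2, nat_lit 3, nat_lit 4, nat_lit 5, nat_lit 2, nat_lit 1, nat_lit 8, nat_lit 3, nat_lit 2, nat_lit 0, nat_lit 1, nat_lit 4, nat_lit 3, nat_lit 2, nat_lit 8, nat_lit 3, nat_lit 11, nat_lit 8, nat_lit 10, nat_lit 1, nat_lit 8, nat_lit 12, nat_lit 15, nat_lit 14, nat_lit 17] (Rl.cmp (nat_lit 172) (nat_lit 2056)))) (FT.leaf (Fct.mk true (nat_lit 2) (nat_lit 0) (nat_lit 18) [nat_lit 5, nat_lit 6, nat_lit 4, nat_lit 5, nat_lit 3, nat_lit 4, nat_lit 2, nat_lit 3, nat_lit 8, nat_lit 0, nat_lit 1, nat_lit 2, nat_lit 3, nat_lit 4, nat_lit 5, nat_lit 6, nat_lit 7, nat_lit 6, nat_lit 5, nat_lit 4, nat_lit 3, nat_lit 8, nat_lit 1, nat_lit 2, nat_lit 3, nat_lit 4, nat_lit 5, nat_lit 1, nat_lit 2, nat_lit 8, nat_lit 3, nat_lit 10, nat_lit 16,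 nat_lit 8, nat_lit 19, nat_lit 16] (Rl.t1 (nat_lit 2055) (nat_lit 2057)))))) (FT.node (nat_lit 2060) (FT.leaf (Fct.mk false (nat_lit 1) (nat_lit 0) (nat_lit 18) [nat_lit 8, nat_lit 3, nat_lit 4, nat_lit 2, nat_lit 3, nat_lit 8, nat_lit 5, nat_lit 6, nat_lit 4, nat_lit 5, nat_lit 3, nat_lit 4, nat_lit 2, nat_lit 3, nat_lit 8, nat_lit 0, nat_lit 1, nat_lit 2, nat_lit 3, nat_lit 4, nat_lit 5, nat_lit 6, nat_lit 7, nat_lit 6, nat_lit 5, nat_lit 4, nat_lit 3, nat_lit 8, nat_lit 1, nat_lit 2, nat_lit 3, nat_lit 4, nat_lit 5, nat_lit 1, nat_lit 2, nat_lit 8, nat_lit 3, nat_lit 9, nat_lit 8, nat_lit 19, nat_lit 16] (Rl.cc (nat_lit 92) (nat_lit 2058)))) (FT.node (nat_lit 2061) (FT.leaf (Fct.mk false (nat_lit 18) (nat_lit 0) (nat_lit 1) [nat_lit 8, nat_lit 3, nat_lit 4, nat_lit 2, nat_lit 3, nat_lit 8, nat_lit 5, nat_lit 6, nat_lit 4, nat_lit 5, nat_lit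 3, nat_lit 4, nat_lit 2, nat_lit 3, nat_lit 8, nat_lit 1, nat_lit 2, nat_lit 3, nat_lit 4, nat_lit 5, nat_lit 6, nat_lit 7, nat_lit 6, nat_lit 5, nat_lit 4, nat_lit 3, nat_lit 8, nat_lit 1, nat_lit 2, nat_lit 3, nat_lit 4, nat_lit 5, nat_lit 1, nat_lit 9, nat_lit 4, nat_lit 3, nat_lit 2, nat_lit 8, nat_lit 3, nat_lit 10, nat_lit 0, nat_lit 16, nat_lit 8, nat_lit 19, nat_lit 16] (Rl.einv (nat_lit 2059)))) (FT.leaf (Fct.mk false (nat_lit 1) (nat_lit 0) (nat_lit 18) [nat_lit 8, nat_lit 3, nat_lit 4, nat_lit 2, nat_lit 3, nat_lit 8, nat_lit 5, nat_lit 6, nat_lit 4, nat_lit 5, nat_lit 3, nat_lit 4, nat_lit 2, nat_lit 3, nat_lit 8, nat_lit 0, nat_lit 1, nat_lit 2, nat_lit 3, nat_lit 4, nat_lit 5, nat_lit 6, nat_lit 7, nat_lit 6, nat_lit 5, nat_lit 4, nat_lit 3, nat_lit 8, nat_lit 1, nat_lit 2, nat_lit 3, nat_lit 4, nat_lit 5, nat_lit 1, nat_lit 2,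 nat_lit 8, nat_lit 3, nat_lit 9, nat_lit 8, nat_lit 19, nat_lit 16] (Rl.einv (nat_lit 2060)))))))) (FT.node (nat_lit 2068) (FT.node (nat_lit 2065) (FT.node (nat_lit 2063) (FT.leaf (Fct.mk false (nat_lit 1) (nat_lit 0) (nat_lit 18) [nat_lit 4, nat_lit 0, nat_lit 2] (Rl.cmp (nat_lit 2061) (nat_lit 980)))) (FT.node (nat_lit 2064) (FT.leaf (Fct.mk false (nat_lit 1) (nat_lit 0) (nat_lit 1) [nat_lit 34] (Rl.cmp (nat_lit 2062) (nat_lit 2060)))) (FT.leaf (Fct.mk false (nat_lit 1) (nat_lit 0) (nat_lit 1) [nat_lit 0, nat_lit 2, nat_lit 12, nat_lit 15] (Rl.cmp (nat_lit 17) (nat_lit 23)))))) (FT.node (nat_lit 2066) (FT.leaf (Fct.mk true (nat_lit 1) (nat_lit 20818) (nat_lit 15) [nat_lit 2, nat_lit 3, nat_lit 8, nat_lit 6, nat_lit 7, nat_lit 5, nat_lit 6, nat_lit 4, nat_lit 5, nat_lit 3, nat_lit 4, nat_lit 2, nat_lit 3, nat_lit 8, nat_lit 1, nat_lit 2, nat_lit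 3, nat_lit 4, nat_lit 5, nat_lit 6, nat_lit 7, nat_lit 0, nat_lit 1, nat_lit 2, nat_lit 3, nat_lit 8] (Rl.t1 (nat_lit 996) (nat_lit 2060)))) (FT.node (nat_lit 2067) (FT.leaf (Fct.mk false (nat_lit 1) (nat_lit 0) (nat_lit 1) [nat_lit 3, nat_lit 4, nat_lit 5, nat_lit 0, nat_lit 2, nat_lit 12, nat_lit 15] (Rl.cmp (nat_lit 21) (nat_lit 2064)))) (FT.leaf (Fct.mk false (nat_lit 1) (nat_lit 0) (nat_lit 1) [nat_lit 2, nat_lit 3, nat_lit 4, nat_lit 5, nat_lit 1, nat_lit 0, nat_lit 2, nat_lit 12, nat_lit 15, nat_lit 12] (Rl.cmp (nat_lit 19) (nat_lit 2066))))))) (FT.node (nat_lit 2071) (FT.node (nat_lit 2069) (FT.leaf (Fct.mk false (nat_lit 1) (nat_lit 0) (nat_lit 1) [nat_lit 1, nat_lit 2, nat_lit 3, nat_lit 4, nat_lit 5, nat_lit 0, nat_lit 12, nat_lit 15, nat_lit 14, nat_lit 12] (Rl.cmp (nat_lit 23) (nat_lit 2067)))) (FT.node (nat_lit 2070) (FT.leaf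 (Fct.mk false (nat_lit 1) (nat_lit 0) (nat_lit 1) [nat_lit 8, nat_lit 3, nat_lit 4, nat_lit 2, nat_lit 3, nat_lit 8, nat_lit 5, nat_lit 6, nat_lit 4, nat_lit 5, nat_lit 3, nat_lit 4, nat_lit 2, nat_lit 3, nat_lit 8, nat_lit 0, nat_lit 1, nat_lit 2, nat_lit 3, nat_lit 4, nat_lit 5, nat_lit 6, nat_lit 7, nat_lit 8, nat_lit 3, nat_lit 4, nat_lit 2, nat_lit 3, nat_lit 8, nat_lit 5, nat_lit 6, nat_lit 4, nat_lit 5, nat_lit 3, nat_lit 4, nat_lit 2, nat_lit 3, nat_lit 8, nat_lit 0, nat_lit 1, nat_lit 2, nat_lit 3, nat_lit 4, nat_lit 5, nat_lit 8, nat_lit 3, nat_lit 2, nat_lit 0, nat_lit 1, nat_lit 9, nat_lit 4, nat_lit 3, nat_lit 2, nat_lit 8, nat_lit 3, nat_lit 11, nat_lit 2, nat_lit 8, nat_lit 10, nat_lit 1, nat_lit 15, nat_lit 8, nat_lit 18] (Rl.cmp (nat_lit 2063) (nat_lit 2068)))) (FT.leaf (Fct.mk true (nat_lit 1) (nat_lit 54) (nat_lit 15) [nat_lit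 3, nat_lit 4, nat_lit 2, nat_lit 3, nat_lit 8, nat_lit 1, nat_lit 2, nat_lit 3, nat_lit 4, nat_lit 5, nat_lit 6, nat_lit 7, nat_lit 4, nat_lit 2, nat_lit 3, nat_lit 8, nat_lit 5, nat_lit 6, nat_lit 4, nat_lit 5, nat_lit 3, nat_lit 4, nat_lit 2, nat_lit 3, nat_lit 8, nat_lit 1, nat_lit 2, nat_lit 3, nat_lit 4, nat_lit 5, nat_lit 3, nat_lit 8, nat_lit 4, nat_lit 3, nat_lit 2, nat_lit 1, nat_lit 9, nat_lit 4, nat_lit 3, nat_lit 2, nat_lit 8, nat_lit 3, nat_lit 11, nat_lit 10, nat_lit 1, nat_lit 8, nat_lit 12, nat_lit 15, nat_lit 14, nat_lit 18] (Rl.t1 (nat_lit 2065) (nat_lit 2069)))))) (FT.node (nat_lit 2073) (FT.node (nat_lit 2072) (FT.leaf (Fct.mk false (nat_lit 4) (nat_lit 0) (nat_lit 15) [nat_lit 3, nat_lit 4, nat_lit 2, nat_lit 3, nat_lit 8, nat_lit 1, nat_lit 2, nat_lit 3, nat_lit 4, nat_lit 5, nat_lit 6, nat_lit 7, nat_lit 4, nat_lit 2,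 nat_lit 3, nat_lit 8, nat_lit 5, nat_lit 6, nat_lit 4, nat_lit 5, nat_lit 3, nat_lit 4, nat_lit 2, nat_lit 3, nat_lit 8, nat_lit 1, nat_lit 2, nat_lit 3, nat_lit 4, nat_lit 5, nat_lit 3, nat_lit 8, nat_lit 4, nat_lit 3, nat_lit 2, nat_lit 1, nat_lit 9, nat_lit 4, nat_lit 3, nat_lit 2, nat_lit 8, nat_lit 3, nat_lit 11, nat_lit 10, nat_lit 1, nat_lit 8, nat_lit 12, nat_lit 15, nat_lit 14, nat_lit 18] (Rl.cc (nat_lit 232) (nat_lit 2070)))) (FT.leaf (Fct.mk false (nat_lit 15) (nat_lit 0) (nat_lit 4) [nat_lit 8, nat_lit 3, nat_lit 4, nat_lit 2, nat_lit 3, nat_lit 8, nat_lit 5, nat_lit 6, nat_lit 4, nat_lit 5, nat_lit 3, nat_lit 4, nat_lit 2, nat_lit 3, nat_lit 8, nat_lit 0, nat_lit 1, nat_lit 2, nat_lit 3, nat_lit 4, nat_lit 5, nat_lit 6, nat_lit 7, nat_lit 8, nat_lit 4, nat_lit 5, nat_lit 3, nat_lit 4, nat_lit 2, nat_lit 3, nat_lit 8, nat_lit 1,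 nat_lit 2, nat_lit 3, nat_lit 4, nat_lit 5, nat_lit 2, nat_lit 1, nat_lit 8, nat_lit 3, nat_lit 2, nat_lit 0, nat_lit 1, nat_lit 9, nat_lit 4, nat_lit 3, nat_lit 2, nat_lit 8, nat_lit 3, nat_lit 11, nat_lit 1, nat_lit 8, nat_lit 16, nat_lit 14, nat_lit 12, nat_lit 18, nat_lit 16] (Rl.einv (nat_lit 2071))))) (FT.node (nat_lit 2074) (FT.leaf (Fct.mk true (nat_lit 4) (nat_lit 28454) (nat_lit 11) [nat_lit 3, nat_lit 4, nat_lit 2, nat_lit 3, nat_lit 8, nat_lit 6, nat_lit 7, nat_lit 5, nat_lit 6, nat_lit 4, nat_lit 5, nat_lit 3, nat_lit 4, nat_lit 2, nat_lit 3, nat_lit 8, nat_lit 0, nat_lit 1, nat_lit 2, nat_lit 3, nat_lit 4, nat_lit 5, nat_lit 6, nat_lit 7, nat_lit 3, nat_lit 8, nat_lit 2, nat_lit 3, nat_lit 4, nat_lit 1, nat_lit 2, nat_lit 3, nat_lit 8, nat_lit 5, nat_lit 6, nat_lit 4, nat_lit 5, nat_lit 3, nat_lit 4, nat_lit 2, nat_lit 3, nat_lit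 8, nat_lit 1, nat_lit 2, nat_lit 3, nat_lit 4, nat_lit 5, nat_lit 1, nat_lit 2, nat_lit 3, nat_lit 11, nat_lit 10, nat_lit 2, nat_lit 8, nat_lit 10, nat_lit 1, nat_lit 12, nat_lit 8, nat_lit 16, nat_lit 14, nat_lit 8] (Rl.t1 (nat_lit 1891) (nat_lit 2072)))) (FT.leaf (Fct.mk false (nat_lit 4) (nat_lit 0) (nat_lit 4) [nat_lit 2, nat_lit 3, nat_lit 4, nat_lit 5, nat_lit 1, nat_lit 2, nat_lit 8, nat_lit 3, nat_lit 8, nat_lit 10, nat_lit 1, nat_lit 14, nat_lit 12] (Rl.cmp (nat_lit 312) (nat_lit 239))))))))) (FT.node (nat_lit 2087) (FT.node (nat_lit 2081) (FT.node (nat_lit 2078) (FT.node (nat_lit 2076) (FT.leaf (Fct.mk false (nat_lit 4) (nat_lit 0) (nat_lit 4) [nat_lit 2, nat_lit 3, nat_lit 8, nat_lit 4, nat_lit 5, nat_lit 3, nat_lit 4, nat_lit 2, nat_lit 3, nat_lit 8, nat_lit 1, nat_lit 2, nat_lit 3, nat_lit 4, nat_lit 5, nat_lit 3, nat_lit 2, nat_lit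 8, nat_lit 3, nat_lit 2, nat_lit 10, nat_lit 1, nat_lit 8] (Rl.cmp (nat_lit 234) (nat_lit 2074)))) (FT.node (nat_lit 2077) (FT.leaf (Fct.mk true (nat_lit 4) (nat_lit 4079) (nat_lit 11) [nat_lit 6, nat_lit 7, nat_lit 5, nat_lit 6, nat_lit 3, nat_lit 4, nat_lit 5, nat_lit 2, nat_lit 3, nat_lit 4, nat_lit 1, nat_lit 2, nat_lit 3, nat_lit 8, nat_lit 0, nat_lit 1, nat_lit 2, nat_lit 3, nat_lit 4, nat_lit 5, nat_lit 6, nat_lit 7, nat_lit 5, nat_lit 6, nat_lit 4, nat_lit 5, nat_lit 2, nat_lit 3, nat_lit 4, nat_lit 1, nat_lit 2, nat_lit 3, nat_lit 8, nat_lit 0, nat_lit 1, nat_lit 2, nat_lit 3, nat_lit 4, nat_lit 5, nat_lit 2, nat_lit 3, nat_lit 10, nat_lit 1, nat_lit 8, nat_lit 12, nat_lit 15, nat_lit 14, nat_lit 16, nat_lit 8, nat_lit 18] (Rl.t1 (nat_lit 2073) (nat_lit 2075)))) (FT.leaf (Fct.mk false (nat_lit 11) (nat_lit 0) (nat_lit 11) [nat_lit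 3, nat_lit 8, nat_lit 4, nat_lit 5, nat_lit 3, nat_lit 4, nat_lit 2, nat_lit 3, nat_lit 8, nat_lit 6, nat_lit 7, nat_lit 5, nat_lit 6, nat_lit 4, nat_lit 5, nat_lit 3, nat_lit 4, nat_lit 2, nat_lit 3, nat_lit 8, nat_lit 1, nat_lit 2, nat_lit 3, nat_lit 4, nat_lit 5, nat_lit 6, nat_lit 7, nat_lit 8, nat_lit 5, nat_lit 3, nat_lit 4, nat_lit 2, nat_lit 3, nat_lit 8, nat_lit 1, nat_lit 2, nat_lit 3, nat_lit 4, nat_lit 5, nat_lit 9, nat_lit 4, nat_lit 1, nat_lit 8, nat_lit 12, nat_lit 15, nat_lit 13, nat_lit 12, nat_lit 19] (Rl.cc (nat_lit 734) (nat_lit 2076)))))) (FT.node (nat_lit 2079) (FT.leaf (Fct.mk false (nat_lit 11) (nat_lit 0) (nat_lit 11) [nat_lit 3, nat_lit 8, nat_lit 4, nat_lit 5, nat_lit 3, nat_lit 4, nat_lit 2, nat_lit 3, nat_lit 8, nat_lit 6, nat_lit 7, nat_lit 5, nat_lit 6, nat_lit 4, nat_lit 5, nat_lit 3, nat_lit 4, nat_lit 2, nat_lit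 3, nat_lit 8, nat_lit 1, nat_lit 2, nat_lit 3, nat_lit 4, nat_lit 5, nat_lit 6, nat_lit 7, nat_lit 8, nat_lit 3, nat_lit 4, nat_lit 2, nat_lit 3, nat_lit 8, nat_lit 1, nat_lit 2, nat_lit 3, nat_lit 4, nat_lit 5, nat_lit 4, nat_lit 3, nat_lit 2, nat_lit 1, nat_lit 8, nat_lit 3, nat_lit 2, nat_lit 0, nat_lit 1, nat_lit 4, nat_lit 3, nat_lit 2, nat_lit 8, nat_lit 3, nat_lit 11, nat_lit 14, nat_lit 13, nat_lit 12] (Rl.cmp (nat_lit 2077) (nat_lit 742)))) (FT.node (nat_lit 2080) (FT.leaf (Fct.mk true (nat_lit 11) (nat_lit 1989) (nat_lit 8) [nat_lit 8, nat_lit 3, nat_lit 4, nat_lit 1, nat_lit 2, nat_lit 3, nat_lit 8, nat_lit 5, nat_lit 6, nat_lit 4, nat_lit 5, nat_lit 3, nat_lit 4, nat_lit 2, nat_lit 3, nat_lit 8, nat_lit 1, nat_lit 2, nat_lit 3, nat_lit 4, nat_lit 5, nat_lit 6, nat_lit 7, nat_lit 6, nat_lit 5, nat_lit 4, nat_lit 3, nat_lit 8, nat_lit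 2, nat_lit 3, nat_lit 4, nat_lit 1, nat_lit 2, nat_lit 3, nat_lit 8, nat_lit 5, nat_lit 6, nat_lit 4, nat_lit 5, nat_lit 3, nat_lit 4, nat_lit 2, nat_lit 3, nat_lit 8, nat_lit 1, nat_lit 2, nat_lit 3, nat_lit 4, nat_lit 5, nat_lit 0, nat_lit 1, nat_lit 2, nat_lit 3, nat_lit 11, nat_lit 17, nat_lit 19] (Rl.t1 (nat_lit 766) (nat_lit 2078)))) (FT.leaf (Fct.mk false (nat_lit 6) (nat_lit 0) (nat_lit 8) [nat_lit 8, nat_lit 2, nat_lit 3, nat_lit 4, nat_lit 1, nat_lit 2, nat_lit 3, nat_lit 8, nat_lit 7, nat_lit 5, nat_lit 6, nat_lit 4, nat_lit 5, nat_lit 3, nat_lit 4, nat_lit 2, nat_lit 3, nat_lit 8, nat_lit 1, nat_lit 2, nat_lit 3, nat_lit 4, nat_lit 5, nat_lit 6, nat_lit 7, nat_lit 6, nat_lit 5, nat_lit 4, nat_lit 3, nat_lit 8, nat_lit 2, nat_lit 3, nat_lit 4, nat_lit 1, nat_lit 2, nat_lit 3, nat_lit 8, nat_lit 5, nat_lit 6, nat_lit 4, nat_lit 5,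 nat_lit 3, nat_lit 4, nat_lit 2, nat_lit 3, nat_lit 8, nat_lit 1, nat_lit 2, nat_lit 3, nat_lit 4, nat_lit 5, nat_lit 1, nat_lit 2, nat_lit 3, nat_lit 11, nat_lit 1, nat_lit 15, nat_lit 14, nat_lit 13] (Rl.cc (nat_lit 757) (nat_lit 2079))))))) (FT.node (nat_lit 2084) (FT.node (nat_lit 2082) (FT.leaf (Fct.mk false (nat_lit 8) (nat_lit 0) (nat_lit 6) [nat_lit 4, nat_lit 3, nat_lit 8, nat_lit 2, nat_lit 3, nat_lit 4, nat_lit 1, nat_lit 2, nat_lit 3, nat_lit 8, nat_lit 6, nat_lit 7, nat_lit 5, nat_lit 6, nat_lit 4, nat_lit 5, nat_lit 3, nat_lit 4, nat_lit 2, nat_lit 3, nat_lit 8, nat_lit 1, nat_lit 2, nat_lit 3, nat_lit 4, nat_lit 5, nat_lit 6, nat_lit 7, nat_lit 2, nat_lit 3, nat_lit 8, nat_lit 4, nat_lit 5, nat_lit 3, nat_lit 4, nat_lit 2, nat_lit 3, nat_lit 8, nat_lit 1, nat_lit 2, nat_lit 3, nat_lit 4, nat_lit 5, nat_lit 1, nat_lit 4, nat_lit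 3, nat_lit 2, nat_lit 8, nat_lit 3, nat_lit 1, nat_lit 12, nat_lit 15, nat_lit 14, nat_lit 12, nat_lit 18, nat_lit 16] (Rl.einv (nat_lit 2080)))) (FT.node (nat_lit 2083) (FT.leaf (Fct.mk false (nat_lit 6) (nat_lit 0) (nat_lit 8) [nat_lit 8, nat_lit 2, nat_lit 3, nat_lit 4, nat_lit 1, nat_lit 2, nat_lit 3, nat_lit 8, nat_lit 7, nat_lit 5, nat_lit 6, nat_lit 4, nat_lit 5, nat_lit 3, nat_lit 4, nat_lit 2, nat_lit 3, nat_lit 8, nat_lit 1, nat_lit 2, nat_lit 3, nat_lit 4, nat_lit 5, nat_lit 6, nat_lit 7, nat_lit 6, nat_lit 5, nat_lit 4, nat_lit 3, nat_lit 8, nat_lit 2, nat_lit 3, nat_lit 4, nat_lit 1, nat_lit 2, nat_lit 3, nat_lit 8, nat_lit 5, nat_lit 6, nat_lit 4, nat_lit 5, nat_lit 3, nat_lit 4, nat_lit 2, nat_lit 3, nat_lit 8, nat_lit 1, nat_lit 2, nat_lit 3, nat_lit 4, nat_lit 5, nat_lit 1, nat_lit 2, nat_lit 3, nat_lit 11, nat_lit 1, nat_lit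 15, nat_lit 14, nat_lit 13] (Rl.einv (nat_lit 2081)))) (FT.leaf (Fct.mk false (nat_lit 6) (nat_lit 0) (nat_lit 8) [nat_lit 8, nat_lit 2, nat_lit 3, nat_lit 4, nat_lit 1, nat_lit 2, nat_lit 3, nat_lit 8, nat_lit 5, nat_lit 6, nat_lit 4, nat_lit 5, nat_lit 3, nat_lit 4, nat_lit 2, nat_lit 3, nat_lit 8, nat_lit 1, nat_lit 2, nat_lit 3, nat_lit 4, nat_lit 5, nat_lit 6, nat_lit 7, nat_lit 6, nat_lit 5, nat_lit 4, nat_lit 3, nat_lit 8, nat_lit 2, nat_lit 3, nat_lit 4, nat_lit 5, nat_lit 1, nat_lit 3, nat_lit 2, nat_lit 8, nat_lit 3, nat_lit 11, nat_lit 2, nat_lit 8, nat_lit 10, nat_lit 1, nat_lit 8, nat_lit 16, nat_lit 14, nat_lit 13, nat_lit 18, nat_lit 16] (Rl.cmp (nat_lit 2082) (nat_lit 627)))))) (FT.node (nat_lit 2085) (FT.leaf (Fct.mk false (nat_lit 6) (nat_lit 0) (nat_lit 6) [nat_lit 8, nat_lit 3, nat_lit 4, nat_lit 2, nat_lit 3, nat_lit 8,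 nat_lit 7, nat_lit 5, nat_lit 6, nat_lit 4, nat_lit 5, nat_lit 3, nat_lit 4, nat_lit 2, nat_lit 3, nat_lit 8, nat_lit 1, nat_lit 2, nat_lit 3, nat_lit 4, nat_lit 5, nat_lit 6, nat_lit 7, nat_lit 6, nat_lit 8, nat_lit 3, nat_lit 2, nat_lit 1, nat_lit 4, nat_lit 3, nat_lit 2, nat_lit 8, nat_lit 3, nat_lit 2, nat_lit 10, nat_lit 1, nat_lit 12, nat_lit 15, nat_lit 13, nat_lit 12, nat_lit 19, nat_lit 16] (Rl.cmp (nat_lit 2083) (nat_lit 2081)))) (FT.node (nat_lit 2086) (FT.leaf (Fct.mk false (nat_lit 6) (nat_lit 0) (nat_lit 6) [nat_lit 8, nat_lit 4, nat_lit 5, nat_lit 3, nat_lit 4, nat_lit 2, nat_lit 3, nat_lit 8, nat_lit 6, nat_lit 7, nat_lit 5, nat_lit 6, nat_lit 4, nat_lit 5, nat_lit 3, nat_lit 4, nat_lit 2, nat_lit 3, nat_lit 8, nat_lit 0, nat_lit 1, nat_lit 2, nat_lit 3, nat_lit 4, nat_lit 5, nat_lit 6, nat_lit 7, nat_lit 6, nat_lit 8, nat_lit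 3, nat_lit 2, nat_lit 1, nat_lit 4, nat_lit 3, nat_lit 2, nat_lit 8, nat_lit 3, nat_lit 2, nat_lit 10, nat_lit 1, nat_lit 12, nat_lit 15, nat_lit 14, nat_lit 13, nat_lit 12, nat_lit 19, nat_lit 16] (Rl.cmp (nat_lit 585) (nat_lit 2084)))) (FT.leaf (Fct.mk false (nat_lit 6) (nat_lit 0) (nat_lit 6) [nat_lit 8, nat_lit 5, nat_lit 3, nat_lit 4, nat_lit 1, nat_lit 2, nat_lit 3, nat_lit 8, nat_lit 6, nat_lit 7, nat_lit 5, nat_lit 6, nat_lit 4, nat_lit 5, nat_lit 3, nat_lit 4, nat_lit 2, nat_lit 3, nat_lit 8, nat_lit 1, nat_lit 2, nat_lit 3, nat_lit 4, nat_lit 5, nat_lit 6, nat_lit 7, nat_lit 6, nat_lit 5, nat_lit 4, nat_lit 3, nat_lit 8, nat_lit 1, nat_lit 2, nat_lit 3, nat_lit 4, nat_lit 5, nat_lit 2, nat_lit 3, nat_lit 8, nat_lit 4, nat_lit 3, nat_lit 2, nat_lit 0, nat_lit 1, nat_lit 9, nat_lit 4, nat_lit 3, nat_lit 2, nat_lit 8, nat_lit 3, nat_lit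 0, nat_lit 16, nat_lit 12, nat_lit 15, nat_lit 14, nat_lit 13, nat_lit 12, nat_lit 16] (Rl.cmp (nat_lit 2084) (nat_lit 2085)))))))) (FT.node (nat_lit 2093) (FT.node (nat_lit 2090) (FT.node (nat_lit 2088) (FT.leaf (Fct.mk false (nat_lit 6) (nat_lit 0) (nat_lit 6) [nat_lit 8, nat_lit 3, nat_lit 4, nat_lit 1, nat_lit 2, nat_lit 3, nat_lit 8, nat_lit 7, nat_lit 5, nat_lit 6, nat_lit 4, nat_lit 5, nat_lit 3, nat_lit 4, nat_lit 2, nat_lit 3, nat_lit 8, nat_lit 1, nat_lit 2, nat_lit 3, nat_lit 4, nat_lit 5, nat_lit 6, nat_lit 7, nat_lit 6, nat_lit 5, nat_lit 3, nat_lit 4, nat_lit 2, nat_lit 3, nat_lit 8, nat_lit 1, nat_lit 2, nat_lit 3, nat_lit 4, nat_lit 5, nat_lit 1, nat_lit 9, nat_lit 4, nat_lit 3, nat_lit 2, nat_lit 8, nat_lit 3, nat_lit 11, nat_lit 15, nat_lit 14, nat_lit 16, nat_lit 8, nat_lit 18] (Rl.cmp (nat_lit 585) (nat_lit 2086)))) (FT.node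 (nat_lit 2089) (FT.leaf (Fct.mk true (nat_lit 6) (nat_lit 24440) (nat_lit 11) [nat_lit 5, nat_lit 4, nat_lit 3, nat_lit 8, nat_lit 6, nat_lit 7, nat_lit 5, nat_lit 6, nat_lit 4, nat_lit 5, nat_lit 3, nat_lit 4, nat_lit 2, nat_lit 3, nat_lit 8, nat_lit 1, nat_lit 2, nat_lit 3, nat_lit 4, nat_lit 5, nat_lit 6, nat_lit 7, nat_lit 6, nat_lit 5, nat_lit 3, nat_lit 4, nat_lit 2, nat_lit 3, nat_lit 8, nat_lit 1, nat_lit 2, nat_lit 3, nat_lit 4, nat_lit 5, nat_lit 8, nat_lit 3, nat_lit 2, nat_lit 1, nat_lit 9, nat_lit 4, nat_lit 3, nat_lit 2, nat_lit 8, nat_lit 3, nat_lit 8, nat_lit 10, nat_lit 1, nat_lit 8, nat_lit 18, nat_lit 16] (Rl.t1 (nat_lit 765) (nat_lit 2081)))) (FT.leaf (Fct.mk true (nat_lit 6) (nat_lit 779) (nat_lit 11) [nat_lit 3, nat_lit 8, nat_lit 7, nat_lit 6, nat_lit 4, nat_lit 5, nat_lit 3, nat_lit 4, nat_lit 1, nat_lit 2, nat_lit 3,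 nat_lit 8, nat_lit 0, nat_lit 1, nat_lit 2, nat_lit 3, nat_lit 4, nat_lit 5, nat_lit 6, nat_lit 7, nat_lit 4, nat_lit 5, nat_lit 6, nat_lit 3, nat_lit 4, nat_lit 5, nat_lit 2, nat_lit 3, nat_lit 4, nat_lit 1, nat_lit 2, nat_lit 3, nat_lit 8, nat_lit 0, nat_lit 1, nat_lit 2, nat_lit 3, nat_lit 4, nat_lit 5, nat_lit 0, nat_lit 1, nat_lit 2, nat_lit 3, nat_lit 10, nat_lit 0, nat_lit 15, nat_lit 13, nat_lit 12, nat_lit 16] (Rl.t1 (nat_lit 2088) (nat_lit 2087)))))) (FT.node (nat_lit 2091) (FT.leaf (Fct.mk false (nat_lit 5) (nat_lit 0) (nat_lit 11) [nat_lit 5, nat_lit 6, nat_lit 7, nat_lit 8, nat_lit 3, nat_lit 4, nat_lit 2, nat_lit 3, nat_lit 8, nat_lit 5, nat_lit 6, nat_lit 4, nat_lit 5, nat_lit 3, nat_lit 4, nat_lit 2, nat_lit 3, nat_lit 8, nat_lit 0, nat_lit 1, nat_lit 2, nat_lit 3, nat_lit 4, nat_lit 5, nat_lit 0, nat_lit 1, nat_lit 2, nat_lit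 3, nat_lit 1, nat_lit 13, nat_lit 12, nat_lit 16] (Rl.cc (nat_lit 571) (nat_lit 2089)))) (FT.node (nat_lit 2092) (FT.leaf (Fct.mk false (nat_lit 11) (nat_lit 0) (nat_lit 5) [nat_lit 8, nat_lit 3, nat_lit 4, nat_lit 2, nat_lit 3, nat_lit 8, nat_lit 5, nat_lit 6, nat_lit 4, nat_lit 5, nat_lit 3, nat_lit 4, nat_lit 2, nat_lit 3, nat_lit 8, nat_lit 1, nat_lit 2, nat_lit 3, nat_lit 4, nat_lit 5, nat_lit 6, nat_lit 7, nat_lit 0, nat_lit 1, nat_lit 2, nat_lit 3, nat_lit 4, nat_lit 5, nat_lit 1, nat_lit 8, nat_lit 3, nat_lit 2, nat_lit 0, nat_lit 1, nat_lit 4, nat_lit 3, nat_lit 2, nat_lit 8, nat_lit 3, nat_lit 11, nat_lit 10, nat_lit 12, nat_lit 15, nat_lit 14, nat_lit 17, nat_lit 12, nat_lit 19] (Rl.einv (nat_lit 2090)))) (FT.leaf (Fct.mk false (nat_lit 5) (nat_lit 0) (nat_lit 11) [nat_lit 5, nat_lit 6, nat_lit 7, nat_lit 8, nat_lit 3, nat_lit 4,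 nat_lit 2, nat_lit 3, nat_lit 8, nat_lit 5, nat_lit 6, nat_lit 4, nat_lit 5, nat_lit 3, nat_lit 4, nat_lit 2, nat_lit 3, nat_lit 8, nat_lit 0, nat_lit 1, nat_lit 2, nat_lit 3, nat_lit 4, nat_lit 5, nat_lit 0, nat_lit 1, nat_lit 2, nat_lit 3, nat_lit 1, nat_lit 13, nat_lit 12, nat_lit 16] (Rl.einv (nat_lit 2091))))))) (FT.node (nat_lit 2096) (FT.node (nat_lit 2094) (FT.leaf (Fct.mk false (nat_lit 5) (nat_lit 0) (nat_lit 11) [nat_lit 8, nat_lit 2, nat_lit 3, nat_lit 4, nat_lit 1, nat_lit 2, nat_lit 3, nat_lit 8, nat_lit 5, nat_lit 6, nat_lit 4, nat_lit 5, nat_lit 3, nat_lit 4, nat_lit 2, nat_lit 3, nat_lit 8, nat_lit 1, nat_lit 2, nat_lit 3, nat_lit 4, nat_lit 5, nat_lit 6, nat_lit 7, nat_lit 5, nat_lit 6, nat_lit 4, nat_lit 5, nat_lit 3, nat_lit 4, nat_lit 2, nat_lit 3, nat_lit 8, nat_lit 1, nat_lit 2, nat_lit 3, nat_lit 4, nat_lit 5, nat_lit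 1, nat_lit 3, nat_lit 2, nat_lit 8, nat_lit 3, nat_lit 9, nat_lit 8, nat_lit 12, nat_lit 15, nat_lit 12, nat_lit 19] (Rl.cmp (nat_lit 2092) (nat_lit 2077)))) (FT.node (nat_lit 2095) (FT.leaf (Fct.mk false (nat_lit 5) (nat_lit 0) (nat_lit 5) [nat_lit 74] (Rl.cmp (nat_lit 2093) (nat_lit 2091)))) (FT.leaf (Fct.mk false (nat_lit 5) (nat_lit 0) (nat_lit 5) [nat_lit 6, nat_lit 1, nat_lit 12, nat_lit 15, nat_lit 12] (Rl.cmp (nat_lit 1859) (nat_lit 470)))))) (FT.node (nat_lit 2098) (FT.node (nat_lit 2097) (FT.leaf (Fct.mk false (nat_lit 5) (nat_lit 0) (nat_lit 5) [nat_lit 0, nat_lit 1, nat_lit 2, nat_lit 3, nat_lit 4, nat_lit 5, nat_lit 4, nat_lit 11, nat_lit 14, nat_lit 13, nat_lit 16] (Rl.cmp (nat_lit 1754) (nat_lit 2095)))) (FT.leaf (Fct.mk false (nat_lit 5) (nat_lit 0) (nat_lit 5) [nat_lit 8, nat_lit 3, nat_lit 4, nat_lit 2, nat_lit 3, nat_lit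 8, nat_lit 5, nat_lit 6, nat_lit 4, nat_lit 5, nat_lit 3, nat_lit 4, nat_lit 2, nat_lit 3, nat_lit 8, nat_lit 1, nat_lit 2, nat_lit 3, nat_lit 4, nat_lit 5, nat_lit 8, nat_lit 4, nat_lit 3, nat_lit 2, nat_lit 1, nat_lit 9, nat_lit 4, nat_lit 3, nat_lit 2, nat_lit 8, nat_lit 3, nat_lit 10, nat_lit 8, nat_lit 16, nat_lit 14, nat_lit 16, nat_lit 8, nat_lit 19] (Rl.cmp (nat_lit 2094) (nat_lit 2096))))) (FT.node (nat_lit 2099) (FT.leaf (Fct.mk true (nat_lit 5) (nat_lit 227) (nat_lit 26) [nat_lit 4, nat_lit 3, nat_lit 8, nat_lit 2, nat_lit 3, nat_lit 4, nat_lit 1, nat_lit 2, nat_lit 3, nat_lit 8, nat_lit 5, nat_lit 6, nat_lit 4, nat_lit 5, nat_lit 3, nat_lit 4, nat_lit 2, nat_lit 3, nat_lit 8, nat_lit 1, nat_lit 2, nat_lit 3, nat_lit 4, nat_lit 5, nat_lit 8, nat_lit 3, nat_lit 2, nat_lit 1, nat_lit 9, nat_lit 4, nat_lit 3, nat_lit 2, nat_lit 8, nat_lit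 3, nat_lit 8, nat_lit 10, nat_lit 8, nat_lit 12, nat_lit 15, nat_lit 14, nat_lit 17, nat_lit 12, nat_lit 18, nat_lit 16] (Rl.t1 (nat_lit 1766) (nat_lit 2097)))) (FT.leaf (Fct.mk false (nat_lit 5) (nat_lit 0) (nat_lit 5) [nat_lit 8, nat_lit 2, nat_lit 3, nat_lit 4, nat_lit 1, nat_lit 2, nat_lit 3, nat_lit 8, nat_lit 5, nat_lit 6, nat_lit 4, nat_lit 5, nat_lit 3, nat_lit 4, nat_lit 2, nat_lit 3, nat_lit 8, nat_lit 1, nat_lit 2, nat_lit 3, nat_lit 4, nat_lit 5, nat_lit 1, nat_lit 2, nat_lit 3, nat_lit 8, nat_lit 4, nat_lit 3, nat_lit 2, nat_lit 1, nat_lit 9, nat_lit 4, nat_lit 3, nat_lit 2, nat_lit 8, nat_lit 3, nat_lit 11, nat_lit 10, nat_lit 1, nat_lit 15, nat_lit 14, nat_lit 18, nat_lit 16] (Rl.cmp (nat_lit 2094) (nat_lit 488)))))))))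

/-- some facts -/
noncomputable def ftc42 : FT := FT.node (nat_lit 2125) (FT.node (nat_lit 2112) (FT.node (nat_lit 2106) (FT.node (nat_lit 2103) (FT.node (nat_lit 2101) (FT.leaf (Fct.mk false (nat_lit 26) (nat_lit 0) (nat_lit 26) [nat_lit 8, nat_lit 6, nat_lit 5, nat_lit 3, nat_lit 4, nat_lit 2, nat_lit 3, nat_lit 8, nat_lit 0, nat_lit 1, nat_lit 2, nat_lit 3, nat_lit 4, nat_lit 5, nat_lit 8, nat_lit 3, nat_lit 11, nat_lit 9, nat_lit 10, nat_lit 2, nat_lit 8, nat_lit 10, nat_lit 1, nat_lit 8, nat_lit 16, nat_lit 15, nat_lit 14, nat_lit 12, nat_lit 19, nat_lit 16] (Rl.cmp (nat_lit 1680) (nat_lit 1299)))) (FT.node (nat_lit 2102) (FT.leaf (Fct.mk false (nat_lit 26) (nat_lit 0) (nat_lit 26) [nat_lit 6, nat_lit 5, nat_lit 4, nat_lit 2, nat_lit 3, nat_lit 8, nat_lit 0, nat_lit 1, nat_lit 2, nat_lit 3, nat_lit 4, nat_lit 5, nat_lit 3, nat_lit 2,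 nat_lit 8, nat_lit 3, nat_lit 11, nat_lit 9, nat_lit 10, nat_lit 2, nat_lit 8, nat_lit 10, nat_lit 1, nat_lit 8, nat_lit 16, nat_lit 15, nat_lit 14, nat_lit 12, nat_lit 19, nat_lit 16] (Rl.cmp (nat_lit 1299) (nat_lit 2100)))) (FT.leaf (Fct.mk false (nat_lit 26) (nat_lit 0) (nat_lit 26) [nat_lit 1, nat_lit 2, nat_lit 3, nat_lit 8, nat_lit 5, nat_lit 6, nat_lit 4, nat_lit 5, nat_lit 3, nat_lit 4, nat_lit 2, nat_lit 3, nat_lit 8, nat_lit 1, nat_lit 2, nat_lit 3, nat_lit 4, nat_lit 5, nat_lit 4, nat_lit 3, nat_lit 2, nat_lit 0, nat_lit 1, nat_lit 9, nat_lit 4, nat_lit 3, nat_lit 2, nat_lit 8, nat_lit 3, nat_lit 9, nat_lit 10, nat_lit 2, nat_lit 8, nat_lit 10, nat_lit 1, nat_lit 8, nat_lit 12, nat_lit 15, nat_lit 14, nat_lit 17, nat_lit 19] (Rl.cmp (nat_lit 2010) (nat_lit 2101)))))) (FT.node (nat_lit 2104) (FT.leaf (Fct.mk false (nat_lit 26) (nat_lit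 0) (nat_lit 26) [nat_lit 6, nat_lit 5, nat_lit 4, nat_lit 2, nat_lit 3, nat_lit 8, nat_lit 1, nat_lit 2, nat_lit 3, nat_lit 4, nat_lit 5, nat_lit 3, nat_lit 2, nat_lit 1, nat_lit 8, nat_lit 3, nat_lit 2, nat_lit 0, nat_lit 1, nat_lit 4, nat_lit 3, nat_lit 2, nat_lit 8, nat_lit 3, nat_lit 10, nat_lit 16, nat_lit 14, nat_lit 16, nat_lit 8, nat_lit 16] (Rl.cmp (nat_lit 1803) (nat_lit 2102)))) (FT.node (nat_lit 2105) (FT.leaf (Fct.mk true (nat_lit 26) (nat_lit 1) (nat_lit 5) [nat_lit 5, nat_lit 4, nat_lit 3, nat_lit 8, nat_lit 1, nat_lit 2, nat_lit 3, nat_lit 4, nat_lit 5, nat_lit 8, nat_lit 3, nat_lit 2, nat_lit 15, nat_lit 16, nat_lit 8, nat_lit 19] (Rl.t1 (nat_lit 1808) (nat_lit 2103)))) (FT.leaf (Fct.mk false (nat_lit 26) (nat_lit 0) (nat_lit 26) [nat_lit 8, nat_lit 6, nat_lit 5, nat_lit 3, nat_lit 4, nat_lit 2, nat_lit 3, nat_lit 8, nat_lit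 0, nat_lit 1, nat_lit 2, nat_lit 3, nat_lit 4, nat_lit 5, nat_lit 8, nat_lit 3, nat_lit 11, nat_lit 9, nat_lit 10, nat_lit 2, nat_lit 8, nat_lit 10, nat_lit 1, nat_lit 8, nat_lit 16, nat_lit 15, nat_lit 14, nat_lit 12, nat_lit 19, nat_lit 16] (Rl.cmp (nat_lit 1680) (nat_lit 1299))))))) (FT.node (nat_lit 2109) (FT.node (nat_lit 2107) (FT.leaf (Fct.mk false (nat_lit 26) (nat_lit 0) (nat_lit 26) [nat_lit 2, nat_lit 3, nat_lit 8, nat_lit 4, nat_lit 5, nat_lit 3, nat_lit 4, nat_lit 2, nat_lit 3, nat_lit 8, nat_lit 1, nat_lit 2, nat_lit 3, nat_lit 4, nat_lit 5, nat_lit 4, nat_lit 3, nat_lit 2, nat_lit 1, nat_lit 8, nat_lit 3, nat_lit 2, nat_lit 0, nat_lit 1, nat_lit 4, nat_lit 3, nat_lit 2, nat_lit 8, nat_lit 3, nat_lit 11, nat_lit 9, nat_lit 10, nat_lit 2, nat_lit 8, nat_lit 10, nat_lit 1, nat_lit 13, nat_lit 12, nat_lit 19, nat_lit 16] (Rl.cmp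 (nat_lit 1309) (nat_lit 2105)))) (FT.node (nat_lit 2108) (FT.leaf (Fct.mk false (nat_lit 25) (nat_lit 0) (nat_lit 25) [nat_lit 6, nat_lit 2, nat_lit 1, nat_lit 8, nat_lit 3, nat_lit 2, nat_lit 0, nat_lit 1, nat_lit 4, nat_lit 3, nat_lit 2, nat_lit 8, nat_lit 3, nat_lit 8, nat_lit 10, nat_lit 1, nat_lit 8, nat_lit 12, nat_lit 15, nat_lit 14, nat_lit 8, nat_lit 18] (Rl.cmp (nat_lit 1258) (nat_lit 1256)))) (FT.leaf (Fct.mk false (nat_lit 25) (nat_lit 0) (nat_lit 25) [nat_lit 3, nat_lit 4, nat_lit 5, nat_lit 9, nat_lit 4, nat_lit 10, nat_lit 1, nat_lit 8, nat_lit 12, nat_lit 15, nat_lit 14, nat_lit 16, nat_lit 8] (Rl.cmp (nat_lit 2004) (nat_lit 2107)))))) (FT.node (nat_lit 2110) (FT.leaf (Fct.mk false (nat_lit 25) (nat_lit 0) (nat_lit 25) [nat_lit 2, nat_lit 3, nat_lit 4, nat_lit 5, nat_lit 4, nat_lit 2, nat_lit 10, nat_lit 1, nat_lit 8, nat_lit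 12, nat_lit 15, nat_lit 16, nat_lit 8, nat_lit 18] (Rl.cmp (nat_lit 1258) (nat_lit 2108)))) (FT.node (nat_lit 2111) (FT.leaf (Fct.mk true (nat_lit 25) (nat_lit 145) (nat_lit 4) [nat_lit 5, nat_lit 6, nat_lit 3, nat_lit 4, nat_lit 5, nat_lit 2, nat_lit 3, nat_lit 4, nat_lit 1, nat_lit 2, nat_lit 3, nat_lit 8, nat_lit 0, nat_lit 1, nat_lit 2, nat_lit 3, nat_lit 4, nat_lit 5, nat_lit 1, nat_lit 3, nat_lit 2, nat_lit 8, nat_lit 3, nat_lit 14, nat_lit 13, nat_lit 18] (Rl.t1 (nat_lit 1259) (nat_lit 2109)))) (FT.leaf (Fct.mk false (nat_lit 25) (nat_lit 0) (nat_lit 25) [nat_lit 4, nat_lit 3, nat_lit 8, nat_lit 2, nat_lit 3, nat_lit 4, nat_lit 1, nat_lit 2, nat_lit 3, nat_lit 8, nat_lit 0, nat_lit 1, nat_lit 2, nat_lit 3, nat_lit 4, nat_lit 5, nat_lit 1, nat_lit 2, nat_lit 3, nat_lit 8, nat_lit 10, nat_lit 9, nat_lit 2, nat_lit 16, nat_lit 8, nat_lit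 18] (Rl.cmp (nat_lit 2004) (nat_lit 1813)))))))) (FT.node (nat_lit 2118) (FT.node (nat_lit 2115) (FT.node (nat_lit 2113) (FT.leaf (Fct.mk false (nat_lit 25) (nat_lit 0) (nat_lit 25) [nat_lit 3, nat_lit 8, nat_lit 2, nat_lit 3, nat_lit 4, nat_lit 1, nat_lit 2, nat_lit 3, nat_lit 8, nat_lit 0, nat_lit 1, nat_lit 2, nat_lit 3, nat_lit 4, nat_lit 5, nat_lit 2, nat_lit 8, nat_lit 3, nat_lit 8, nat_lit 10, nat_lit 9, nat_lit 2, nat_lit 14, nat_lit 16, nat_lit 8] (Rl.cmp (nat_lit 1258) (nat_lit 2111)))) (FT.node (nat_lit 2114) (FT.leaf (Fct.mk true (nat_lit 25) (nat_lit 37) (nat_lit 26) [nat_lit 5, nat_lit 6, nat_lit 4, nat_lit 5, nat_lit 2, nat_lit 3, nat_lit 4, nat_lit 1, nat_lit 2, nat_lit 3, nat_lit 8, nat_lit 0, nat_lit 1, nat_lit 2, nat_lit 3, nat_lit 4, nat_lit 5, nat_lit 3, nat_lit 2, nat_lit 1, nat_lit 9, nat_lit 4, nat_lit 3, nat_lit 2,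 nat_lit 8, nat_lit 3, nat_lit 11, nat_lit 2, nat_lit 10, nat_lit 1, nat_lit 8, nat_lit 12, nat_lit 15, nat_lit 14] (Rl.t1 (nat_lit 1675) (nat_lit 2112)))) (FT.leaf (Fct.mk true (nat_lit 26) (nat_lit 1257) (nat_lit 25) [nat_lit 3, nat_lit 8, nat_lit 5, nat_lit 6, nat_lit 4, nat_lit 5, nat_lit 3, nat_lit 4, nat_lit 2, nat_lit 3, nat_lit 8, nat_lit 1, nat_lit 2, nat_lit 3, nat_lit 4, nat_lit 5, nat_lit 3, nat_lit 2, nat_lit 1, nat_lit 4, nat_lit 3, nat_lit 2, nat_lit 0, nat_lit 1, nat_lit 9, nat_lit 4, nat_lit 3, nat_lit 2, nat_lit 8, nat_lit 3, nat_lit 9, nat_lit 10, nat_lit 2, nat_lit 8, nat_lit 10, nat_lit 1, nat_lit 12, nat_lit 15, nat_lit 14, nat_lit 16] (Rl.inv (nat_lit 2113)))))) (FT.node (nat_lit 2116) (FT.leaf (Fct.mk false (nat_lit 26) (nat_lit 0) (nat_lit 26) [nat_lit 2, nat_lit 3, nat_lit 8, nat_lit 4, nat_lit 5, nat_lit 3, nat_lit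 4, nat_lit 2, nat_lit 3, nat_lit 8, nat_lit 1, nat_lit 2, nat_lit 3, nat_lit 4, nat_lit 5, nat_lit 3, nat_lit 8, nat_lit 4, nat_lit 3, nat_lit 2, nat_lit 0, nat_lit 1, nat_lit 9, nat_lit 4, nat_lit 3, nat_lit 2, nat_lit 8, nat_lit 3, nat_lit 9, nat_lit 10, nat_lit 2, nat_lit 8, nat_lit 10, nat_lit 1, nat_lit 8, nat_lit 16, nat_lit 15, nat_lit 14, nat_lit 17, nat_lit 12] (Rl.cmp (nat_lit 1803) (nat_lit 2106)))) (FT.node (nat_lit 2117) (FT.leaf (Fct.mk true (nat_lit 26) (nat_lit 12) (nat_lit 25) [nat_lit 8, nat_lit 5, nat_lit 6, nat_lit 4, nat_lit 5, nat_lit 2, nat_lit 3, nat_lit 4, nat_lit 1, nat_lit 2, nat_lit 3, nat_lit 8, nat_lit 0, nat_lit 1, nat_lit 2, nat_lit 3, nat_lit 4, nat_lit 5, nat_lit 0, nat_lit 1, nat_lit 2, nat_lit 8, nat_lit 3, nat_lit 11, nat_lit 1, nat_lit 16, nat_lit 15, nat_lit 14, nat_lit 13] (Rl.t1 (nat_lit 2114) (nat_lit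 2115)))) (FT.leaf (Fct.mk false (nat_lit 25) (nat_lit 0) (nat_lit 25) [nat_lit 89] (Rl.cc (nat_lit 1686) (nat_lit 2116))))))) (FT.node (nat_lit 2121) (FT.node (nat_lit 2119) (FT.leaf (Fct.mk false (nat_lit 25) (nat_lit 0) (nat_lit 25) [nat_lit 8, nat_lit 3, nat_lit 4, nat_lit 5, nat_lit 3, nat_lit 8, nat_lit 4, nat_lit 3, nat_lit 2, nat_lit 0, nat_lit 1, nat_lit 9, nat_lit 4, nat_lit 3, nat_lit 2, nat_lit 8, nat_lit 3, nat_lit 10, nat_lit 0, nat_lit 12, nat_lit 15, nat_lit 14, nat_lit 8] (Rl.cmp (nat_lit 2117) (nat_lit 1237)))) (FT.node (nat_lit 2120) (FT.leaf (Fct.mk true (nat_lit 25) (nat_lit 100) (nat_lit 25) [nat_lit 8, nat_lit 2, nat_lit 3, nat_lit 4, nat_lit 1, nat_lit 2, nat_lit 3, nat_lit 8, nat_lit 0, nat_lit 1, nat_lit 2, nat_lit 3, nat_lit 4, nat_lit 5, nat_lit 1, nat_lit 2, nat_lit 0, nat_lit 1, nat_lit 4, nat_lit 3, nat_lit 2,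 nat_lit 8, nat_lit 3, nat_lit 8, nat_lit 10, nat_lit 9, nat_lit 2, nat_lit 8, nat_lit 16, nat_lit 15, nat_lit 14, nat_lit 13, nat_lit 12, nat_lit 18] (Rl.t1 (nat_lit 1242) (nat_lit 2118)))) (FT.leaf (Fct.mk false (nat_lit 25) (nat_lit 0) (nat_lit 25) [nat_lit 4, nat_lit 5, nat_lit 2, nat_lit 1, nat_lit 3, nat_lit 2, nat_lit 0, nat_lit 1, nat_lit 9, nat_lit 4, nat_lit 3, nat_lit 2, nat_lit 8, nat_lit 3, nat_lit 9, nat_lit 15, nat_lit 14, nat_lit 13, nat_lit 12, nat_lit 18] (Rl.cmp (nat_lit 2117) (nat_lit 1258)))))) (FT.node (nat_lit 2123) (FT.node (nat_lit 2122) (FT.leaf (Fct.mk false (nat_lit 25) (nat_lit 0) (nat_lit 25) [nat_lit 3, nat_lit 8, nat_lit 2, nat_lit 3, nat_lit 4, nat_lit 1, nat_lit 2, nat_lit 3, nat_lit 8, nat_lit 0, nat_lit 1, nat_lit 2, nat_lit 3, nat_lit 4, nat_lit 5, nat_lit 2, nat_lit 1, nat_lit 4, nat_lit 3, nat_lit 2, nat_lit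 8, nat_lit 3, nat_lit 11, nat_lit 8, nat_lit 10, nat_lit 13, nat_lit 12, nat_lit 18, nat_lit 16] (Rl.cmp (nat_lit 1813) (nat_lit 2120)))) (FT.leaf (Fct.mk true (nat_lit 25) (nat_lit 67) (nat_lit 4) [nat_lit 5, nat_lit 4, nat_lit 3, nat_lit 8, nat_lit 2, nat_lit 3, nat_lit 4, nat_lit 1, nat_lit 2, nat_lit 3, nat_lit 8, nat_lit 5, nat_lit 6, nat_lit 4, nat_lit 5, nat_lit 3, nat_lit 4, nat_lit 2, nat_lit 3, nat_lit 8, nat_lit 1, nat_lit 2, nat_lit 3, nat_lit 4, nat_lit 5, nat_lit 3, nat_lit 8, nat_lit 4, nat_lit 3, nat_lit 2, nat_lit 1, nat_lit 9, nat_lit 4, nat_lit 3, nat_lit 2, nat_lit 8, nat_lit 3, nat_lit 10, nat_lit 15, nat_lit 16, nat_lit 8, nat_lit 18] (Rl.t1 (nat_lit 2110) (nat_lit 2121))))) (FT.node (nat_lit 2124) (FT.leaf (Fct.mk false (nat_lit 4) (nat_lit 0) (nat_lit 4) [nat_lit 2, nat_lit 3, nat_lit 8, nat_lit 6, nat_lit 4, nat_lit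 5, nat_lit 3, nat_lit 4, nat_lit 2, nat_lit 3, nat_lit 8, nat_lit 1, nat_lit 2, nat_lit 3, nat_lit 4, nat_lit 5, nat_lit 2, nat_lit 3, nat_lit 8, nat_lit 4, nat_lit 3, nat_lit 2, nat_lit 1, nat_lit 9, nat_lit 4, nat_lit 3, nat_lit 2, nat_lit 8, nat_lit 3, nat_lit 10, nat_lit 12, nat_lit 8, nat_lit 16, nat_lit 14, nat_lit 8, nat_lit 19] (Rl.cmp (nat_lit 234) (nat_lit 2015)))) (FT.leaf (Fct.mk false (nat_lit 5) (nat_lit 0) (nat_lit 5) [nat_lit 11, nat_lit 10, nat_lit 16, nat_lit 15, nat_lit 14, nat_lit 13, nat_lit 16] (Rl.cmp (nat_lit 493) (nat_lit 472))))))))) (FT.node (nat_lit 2137) (FT.node (nat_lit 2131) (FT.node (nat_lit 2128) (FT.node (nat_lit 2126) (FT.leaf (Fct.mk true (nat_lit 5) (nat_lit 6214) (nat_lit 25) [nat_lit 3, nat_lit 8, nat_lit 5, nat_lit 6, nat_lit 4, nat_lit 5, nat_lit 3, nat_lit 4, nat_lit 2, nat_lit 3, nat_lit 8, nat_lit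 1, nat_lit 2, nat_lit 3, nat_lit 4, nat_lit 5, nat_lit 3, nat_lit 2, nat_lit 1, nat_lit 9, nat_lit 4, nat_lit 3, nat_lit 2, nat_lit 8, nat_lit 3, nat_lit 11, nat_lit 2, nat_lit 8, nat_lit 10, nat_lit 1, nat_lit 8, nat_lit 16, nat_lit 15, nat_lit 14, nat_lit 13, nat_lit 18, nat_lit 16] (Rl.rel (nat_lit 0) [nat_lit 3, nat_lit 4, nat_lit 2, nat_lit 3, nat_lit 8, nat_lit 1, nat_lit 2, nat_lit 3, nat_lit 4, nat_lit 5, nat_lit 3, nat_lit 1, nat_lit 0, nat_lit 2, nat_lit 12, nat_lit 15, nat_lit 14] (nat_lit 25) (nat_lit 2) [nat_lit 2122, nat_lit 2123, nat_lit 469] []))) (FT.node (nat_lit 2127) (FT.leaf (Fct.mk true (nat_lit 5) (nat_lit 471) (nat_lit 25) [nat_lit 8, nat_lit 5, nat_lit 2, nat_lit 3, nat_lit 4, nat_lit 1, nat_lit 2, nat_lit 3, nat_lit 8, nat_lit 0, nat_lit 1, nat_lit 2, nat_lit 3, nat_lit 4, nat_lit 5, nat_lit 3, nat_lit 2, nat_lit 1,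 nat_lit 4, nat_lit 3, nat_lit 2, nat_lit 8, nat_lit 3, nat_lit 2, nat_lit 8, nat_lit 10, nat_lit 1, nat_lit 17, nat_lit 19, nat_lit 16] (Rl.t1 (nat_lit 2125) (nat_lit 2124)))) (FT.leaf (Fct.mk true (nat_lit 25) (nat_lit 17) (nat_lit 5) [nat_lit 3, nat_lit 8, nat_lit 4, nat_lit 5, nat_lit 3, nat_lit 4, nat_lit 2, nat_lit 3, nat_lit 8, nat_lit 1, nat_lit 2, nat_lit 3, nat_lit 4, nat_lit 5, nat_lit 3, nat_lit 2, nat_lit 1, nat_lit 4, nat_lit 3, nat_lit 2, nat_lit 8, nat_lit 3, nat_lit 0, nat_lit 8, nat_lit 12, nat_lit 15, nat_lit 13, nat_lit 12, nat_lit 18, nat_lit 16] (Rl.inv (nat_lit 2126)))))) (FT.node (nat_lit 2129) (FT.leaf (Fct.mk false (nat_lit 4) (nat_lit 0) (nat_lit 4) [nat_lit 2, nat_lit 3, nat_lit 8, nat_lit 6, nat_lit 4, nat_lit 5, nat_lit 3, nat_lit 4, nat_lit 2, nat_lit 3, nat_lit 8, nat_lit 1, nat_lit 2, nat_lit 3, nat_lit 4, nat_lit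 5, nat_lit 1, nat_lit 2, nat_lit 8, nat_lit 3, nat_lit 9, nat_lit 8, nat_lit 16, nat_lit 14, nat_lit 16, nat_lit 8, nat_lit 18, nat_lit 16] (Rl.cmp (nat_lit 1995) (nat_lit 239)))) (FT.node (nat_lit 2130) (FT.leaf (Fct.mk false (nat_lit 4) (nat_lit 0) (nat_lit 4) [nat_lit 2, nat_lit 3, nat_lit 8, nat_lit 6, nat_lit 4, nat_lit 5, nat_lit 3, nat_lit 4, nat_lit 2, nat_lit 3, nat_lit 8, nat_lit 1, nat_lit 2, nat_lit 3, nat_lit 4, nat_lit 5, nat_lit 2, nat_lit 3, nat_lit 8, nat_lit 4, nat_lit 3, nat_lit 2, nat_lit 1, nat_lit 9, nat_lit 4, nat_lit 3, nat_lit 2, nat_lit 8, nat_lit 3, nat_lit 10, nat_lit 12, nat_lit 8, nat_lit 16, nat_lit 14, nat_lit 8, nat_lit 19] (Rl.cmp (nat_lit 234) (nat_lit 2128)))) (FT.leaf (Fct.mk false (nat_lit 5) (nat_lit 0) (nat_lit 5) [nat_lit 70] (Rl.cmp (nat_lit 511) (nat_lit 470))))))) (FT.node (nat_lit 2134) (FT.node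 (nat_lit 2132) (FT.leaf (Fct.mk false (nat_lit 5) (nat_lit 0) (nat_lit 5) [nat_lit 0, nat_lit 1, nat_lit 2, nat_lit 3, nat_lit 4, nat_lit 5, nat_lit 0, nat_lit 1, nat_lit 2, nat_lit 3, nat_lit 11, nat_lit 10, nat_lit 12, nat_lit 15, nat_lit 13] (Rl.cmp (nat_lit 1754) (nat_lit 2130)))) (FT.node (nat_lit 2133) (FT.leaf (Fct.mk false (nat_lit 25) (nat_lit 0) (nat_lit 25) [nat_lit 3, nat_lit 8, nat_lit 2, nat_lit 3, nat_lit 4, nat_lit 5, nat_lit 8, nat_lit 4, nat_lit 3, nat_lit 2, nat_lit 0, nat_lit 1, nat_lit 9, nat_lit 4, nat_lit 3, nat_lit 2, nat_lit 8, nat_lit 3, nat_lit 10, nat_lit 0, nat_lit 16, nat_lit 12, nat_lit 15, nat_lit 14, nat_lit 8] (Rl.cmp (nat_lit 2117) (nat_lit 1672)))) (FT.leaf (Fct.mk true (nat_lit 5) (nat_lit 762) (nat_lit 25) [nat_lit 5, nat_lit 3, nat_lit 4, nat_lit 2, nat_lit 3, nat_lit 8, nat_lit 1, nat_lit 2, nat_lit 3,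 nat_lit 4, nat_lit 5, nat_lit 1, nat_lit 2, nat_lit 8, nat_lit 3, nat_lit 8, nat_lit 10, nat_lit 17, nat_lit 19] (Rl.rel (nat_lit 0) [nat_lit 3, nat_lit 8, nat_lit 4, nat_lit 5, nat_lit 3, nat_lit 4, nat_lit 2, nat_lit 3, nat_lit 8, nat_lit 1, nat_lit 2, nat_lit 3, nat_lit 4, nat_lit 5, nat_lit 4, nat_lit 1, nat_lit 0, nat_lit 2, nat_lit 12, nat_lit 15, nat_lit 14] (nat_lit 25) (nat_lit 2) [nat_lit 2122, nat_lit 2129, nat_lit 479] []))))) (FT.node (nat_lit 2135) (FT.leaf (Fct.mk true (nat_lit 5) (nat_lit 50) (nat_lit 25) [nat_lit 5, nat_lit 6, nat_lit 4, nat_lit 5, nat_lit 3, nat_lit 4, nat_lit 1, nat_lit 2, nat_lit 3, nat_lit 8, nat_lit 0, nat_lit 1, nat_lit 2, nat_lit 3, nat_lit 4, nat_lit 5, nat_lit 3, nat_lit 2, nat_lit 8, nat_lit 3, nat_lit 8, nat_lit 10, nat_lit 0, nat_lit 17, nat_lit 12, nat_lit 19, nat_lit 16] (Rl.t1 (nat_lit 2133)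 (nat_lit 2131)))) (FT.node (nat_lit 2136) (FT.leaf (Fct.mk true (nat_lit 25) (nat_lit 242) (nat_lit 5) [nat_lit 3, nat_lit 8, nat_lit 4, nat_lit 5, nat_lit 3, nat_lit 4, nat_lit 2, nat_lit 3, nat_lit 8, nat_lit 0, nat_lit 1, nat_lit 2, nat_lit 3, nat_lit 4, nat_lit 5, nat_lit 1, nat_lit 3, nat_lit 2, nat_lit 0, nat_lit 1, nat_lit 4, nat_lit 3, nat_lit 2, nat_lit 8, nat_lit 3, nat_lit 8, nat_lit 10, nat_lit 1, nat_lit 15, nat_lit 12, nat_lit 19] (Rl.inv (nat_lit 2134)))) (FT.leaf (Fct.mk true (nat_lit 25) (nat_lit 124) (nat_lit 5) [nat_lit 6, nat_lit 5, nat_lit 2, nat_lit 3, nat_lit 4, nat_lit 1, nat_lit 2, nat_lit 3, nat_lit 8, nat_lit 0, nat_lit 1, nat_lit 2, nat_lit 3, nat_lit 4, nat_lit 5, nat_lit 0, nat_lit 1, nat_lit 3, nat_lit 2, nat_lit 8, nat_lit 3, nat_lit 2, nat_lit 8, nat_lit 10, nat_lit 1, nat_lit 16] (Rl.t1 (nat_lit 2135) (nat_lit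 2132)))))))) (FT.node (nat_lit 2143) (FT.node (nat_lit 2140) (FT.node (nat_lit 2138) (FT.leaf (Fct.mk false (nat_lit 3) (nat_lit 0) (nat_lit 3) [nat_lit 6, nat_lit 4, nat_lit 10, nat_lit 0, nat_lit 15, nat_lit 14] (Rl.cmp (nat_lit 195) (nat_lit 206)))) (FT.node (nat_lit 2139) (FT.leaf (Fct.mk false (nat_lit 25) (nat_lit 0) (nat_lit 25) [nat_lit 8, nat_lit 3, nat_lit 4, nat_lit 5, nat_lit 3, nat_lit 8, nat_lit 4, nat_lit 3, nat_lit 2, nat_lit 0, nat_lit 1, nat_lit 9, nat_lit 4, nat_lit 3, nat_lit 2, nat_lit 8, nat_lit 3, nat_lit 10, nat_lit 0, nat_lit 12, nat_lit 15, nat_lit 14, nat_lit 8] (Rl.cmp (nat_lit 2117) (nat_lit 1237)))) (FT.leaf (Fct.mk true (nat_lit 3) (nat_lit 28) (nat_lit 25) [nat_lit 8, nat_lit 5, nat_lit 6, nat_lit 4, nat_lit 5, nat_lit 3, nat_lit 4, nat_lit 2, nat_lit 3, nat_lit 8, nat_lit 1, nat_lit 2, nat_lit 3, nat_lit 4,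 nat_lit 5, nat_lit 9, nat_lit 4, nat_lit 1, nat_lit 0, nat_lit 2, nat_lit 8, nat_lit 12, nat_lit 15, nat_lit 14] (Rl.rel (nat_lit 0) [nat_lit 4, nat_lit 5, nat_lit 2, nat_lit 3, nat_lit 4, nat_lit 1, nat_lit 2, nat_lit 3, nat_lit 8, nat_lit 0, nat_lit 1, nat_lit 2, nat_lit 3, nat_lit 4, nat_lit 5, nat_lit 2, nat_lit 1, nat_lit 8, nat_lit 3, nat_lit 2, nat_lit 0, nat_lit 1, nat_lit 4, nat_lit 3, nat_lit 2, nat_lit 8, nat_lit 3, nat_lit 11, nat_lit 1, nat_lit 8, nat_lit 16, nat_lit 14, nat_lit 16, nat_lit 8, nat_lit 19, nat_lit 16] (nat_lit 25) (nat_lit 2) [nat_lit 2122, nat_lit 1995, nat_lit 325] []))))) (FT.node (nat_lit 2141) (FT.leaf (Fct.mk true (nat_lit 3) (nat_lit 27) (nat_lit 25) [nat_lit 4, nat_lit 3, nat_lit 8, nat_lit 5, nat_lit 6, nat_lit 4, nat_lit 5, nat_lit 3, nat_lit 4, nat_lit 2, nat_lit 3, nat_lit 8, nat_lit 0, nat_lit 1, nat_lit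 2, nat_lit 3, nat_lit 4, nat_lit 5, nat_lit 9, nat_lit 4, nat_lit 9, nat_lit 16, nat_lit 15, nat_lit 14, nat_lit 13] (Rl.t1 (nat_lit 2139) (nat_lit 2137)))) (FT.node (nat_lit 2142) (FT.leaf (Fct.mk true (nat_lit 25) (nat_lit 745) (nat_lit 3) [nat_lit 5, nat_lit 4, nat_lit 2, nat_lit 3, nat_lit 8, nat_lit 0, nat_lit 1, nat_lit 2, nat_lit 3, nat_lit 4, nat_lit 5, nat_lit 10, nat_lit 12, nat_lit 8, nat_lit 16, nat_lit 14, nat_lit 17, nat_lit 12] (Rl.inv (nat_lit 2140)))) (FT.leaf (Fct.mk true (nat_lit 25) (nat_lit 142) (nat_lit 3) [nat_lit 5, nat_lit 2, nat_lit 3, nat_lit 4, nat_lit 1, nat_lit 2, nat_lit 3, nat_lit 8, nat_lit 0, nat_lit 1, nat_lit 2, nat_lit 3, nat_lit 4, nat_lit 5, nat_lit 9, nat_lit 4, nat_lit 2, nat_lit 8, nat_lit 10, nat_lit 1, nat_lit 16, nat_lit 14, nat_lit 17, nat_lit 12, nat_lit 19] (Rl.t1 (nat_lit 2141) (nat_lit 2138)))))))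 (FT.node (nat_lit 2146) (FT.node (nat_lit 2144) (FT.leaf (Fct.mk false (nat_lit 25) (nat_lit 0) (nat_lit 25) [nat_lit 8, nat_lit 6, nat_lit 5, nat_lit 2, nat_lit 3, nat_lit 4, nat_lit 1, nat_lit 2, nat_lit 3, nat_lit 8, nat_lit 0, nat_lit 1, nat_lit 2, nat_lit 3, nat_lit 4, nat_lit 5, nat_lit 2, nat_lit 1, nat_lit 9, nat_lit 4, nat_lit 3, nat_lit 2, nat_lit 8, nat_lit 3, nat_lit 11, nat_lit 10, nat_lit 1, nat_lit 12, nat_lit 15, nat_lit 17, nat_lit 19] (Rl.cmp (nat_lit 1672) (nat_lit 1237)))) (FT.node (nat_lit 2145) (FT.leaf (Fct.mk false (nat_lit 25) (nat_lit 0) (nat_lit 25) [nat_lit 5, nat_lit 3, nat_lit 4, nat_lit 1, nat_lit 2, nat_lit 3, nat_lit 8, nat_lit 0, nat_lit 1, nat_lit 2, nat_lit 3, nat_lit 4, nat_lit 5, nat_lit 3, nat_lit 8, nat_lit 4, nat_lit 3, nat_lit 2, nat_lit 0, nat_lit 1, nat_lit 9, nat_lit 4, nat_lit 3, nat_lit 2, nat_lit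 8, nat_lit 3, nat_lit 2, nat_lit 16, nat_lit 12, nat_lit 15, nat_lit 14, nat_lit 16] (Rl.cmp (nat_lit 1813) (nat_lit 2143)))) (FT.leaf (Fct.mk false (nat_lit 25) (nat_lit 0) (nat_lit 25) [nat_lit 6, nat_lit 4, nat_lit 5, nat_lit 2, nat_lit 3, nat_lit 4, nat_lit 1, nat_lit 2, nat_lit 3, nat_lit 8, nat_lit 0, nat_lit 1, nat_lit 2, nat_lit 3, nat_lit 4, nat_lit 5, nat_lit 3, nat_lit 8, nat_lit 4, nat_lit 3, nat_lit 2, nat_lit 1, nat_lit 9, nat_lit 4, nat_lit 3, nat_lit 2, nat_lit 8, nat_lit 3, nat_lit 9, nat_lit 2, nat_lit 16, nat_lit 12, nat_lit 15, nat_lit 14, nat_lit 16] (Rl.cmp (nat_lit 1258) (nat_lit 2144)))))) (FT.node (nat_lit 2148) (FT.node (nat_lit 2147) (FT.leaf (Fct.mk false (nat_lit 5) (nat_lit 0) (nat_lit 5) [nat_lit 6, nat_lit 1, nat_lit 2, nat_lit 3, nat_lit 9, nat_lit 2, nat_lit 16, nat_lit 15, nat_lit 14, nat_lit 12] (Rl.cmp (nat_lit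 1754) (nat_lit 511)))) (FT.leaf (Fct.mk false (nat_lit 5) (nat_lit 0) (nat_lit 5) [nat_lit 8, nat_lit 3, nat_lit 4, nat_lit 1, nat_lit 2, nat_lit 3, nat_lit 8, nat_lit 5, nat_lit 6, nat_lit 4, nat_lit 5, nat_lit 3, nat_lit 4, nat_lit 2, nat_lit 3, nat_lit 8, nat_lit 1, nat_lit 2, nat_lit 3, nat_lit 4, nat_lit 5, nat_lit 3, nat_lit 8, nat_lit 4, nat_lit 3, nat_lit 2, nat_lit 1, nat_lit 9, nat_lit 4, nat_lit 3, nat_lit 2, nat_lit 8, nat_lit 3, nat_lit 12, nat_lit 8, nat_lit 16, nat_lit 14, nat_lit 16, nat_lit 8, nat_lit 19] (Rl.cmp (nat_lit 2094) (nat_lit 2146))))) (FT.node (nat_lit 2149) (FT.leaf (Fct.mk false (nat_lit 5) (nat_lit 0) (nat_lit 5) [nat_lit 8, nat_lit 3, nat_lit 4, nat_lit 2, nat_lit 3, nat_lit 8, nat_lit 5, nat_lit 6, nat_lit 4, nat_lit 5, nat_lit 3, nat_lit 4, nat_lit 2, nat_lit 3, nat_lit 8, nat_lit 1, nat_lit 2, nat_lit 3,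 nat_lit 4, nat_lit 5, nat_lit 8, nat_lit 4, nat_lit 3, nat_lit 2, nat_lit 1, nat_lit 9, nat_lit 4, nat_lit 3, nat_lit 2, nat_lit 8, nat_lit 3, nat_lit 11, nat_lit 1, nat_lit 8, nat_lit 12, nat_lit 15, nat_lit 14, nat_lit 18] (Rl.cmp (nat_lit 1754) (nat_lit 2147)))) (FT.leaf (Fct.mk true (nat_lit 5) (nat_lit 12281) (nat_lit 5) [nat_lit 8, nat_lit 6, nat_lit 4, nat_lit 5, nat_lit 3, nat_lit 4, nat_lit 2, nat_lit 3, nat_lit 8, nat_lit 1, nat_lit 2, nat_lit 3, nat_lit 4, nat_lit 5, nat_lit 2, nat_lit 3, nat_lit 8, nat_lit 4, nat_lit 3, nat_lit 2, nat_lit 1, nat_lit 9, nat_lit 4, nat_lit 3, nat_lit 2, nat_lit 8, nat_lit 3, nat_lit 0, nat_lit 8, nat_lit 16, nat_lit 14, nat_lit 13, nat_lit 18] (Rl.rel (nat_lit 0) [nat_lit 3, nat_lit 4, nat_lit 5, nat_lit 0, nat_lit 2, nat_lit 15] (nat_lit 25) (nat_lit 1) [nat_lit 2127] [nat_lit 1266]))))))))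

/-- some facts -/
noncomputable def ftc43 : FT := FT.node (nat_lit 2175) (FT.node (nat_lit 2162) (FT.node (nat_lit 2156) (FT.node (nat_lit 2153) (FT.node (nat_lit 2151) (FT.leaf (Fct.mk true (nat_lit 5) (nat_lit 155) (nat_lit 5) [nat_lit 6, nat_lit 5, nat_lit 3, nat_lit 4, nat_lit 1, nat_lit 2, nat_lit 3, nat_lit 8, nat_lit 0, nat_lit 1, nat_lit 2, nat_lit 3, nat_lit 4, nat_lit 5, nat_lit 3, nat_lit 11, nat_lit 10, nat_lit 2, nat_lit 8, nat_lit 10, nat_lit 1, nat_lit 15, nat_lit 13] (Rl.t1 (nat_lit 2149) (nat_lit 2148)))) (FT.node (nat_lit 2152) (FT.leaf (Fct.mk false (nat_lit 25) (nat_lit 0) (nat_lit 25) [nat_lit 1, nat_lit 2, nat_lit 3, nat_lit 8, nat_lit 4, nat_lit 5, nat_lit 3, nat_lit 4, nat_lit 2, nat_lit 3, nat_lit 8, nat_lit 1, nat_lit 2, nat_lit 3, nat_lit 4, nat_lit 5, nat_lit 3, nat_lit 8, nat_lit 4, nat_lit 3, nat_lit 2, nat_lit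 1, nat_lit 9, nat_lit 4, nat_lit 3, nat_lit 2, nat_lit 8, nat_lit 3, nat_lit 11, nat_lit 1, nat_lit 12, nat_lit 8, nat_lit 16, nat_lit 14, nat_lit 13, nat_lit 18] (Rl.cmp (nat_lit 1247) (nat_lit 1231)))) (FT.leaf (Fct.mk false (nat_lit 25) (nat_lit 0) (nat_lit 25) [nat_lit 4, nat_lit 5, nat_lit 6, nat_lit 3, nat_lit 4, nat_lit 5, nat_lit 2, nat_lit 3, nat_lit 4, nat_lit 1, nat_lit 2, nat_lit 3, nat_lit 8, nat_lit 0, nat_lit 1, nat_lit 2, nat_lit 3, nat_lit 4, nat_lit 5, nat_lit 2, nat_lit 1, nat_lit 4, nat_lit 3, nat_lit 2, nat_lit 0, nat_lit 1, nat_lit 9, nat_lit 4, nat_lit 3, nat_lit 2, nat_lit 8, nat_lit 3, nat_lit 9, nat_lit 10, nat_lit 2, nat_lit 8, nat_lit 10, nat_lit 1, nat_lit 8, nat_lit 16, nat_lit 14, nat_lit 12] (Rl.cmp (nat_lit 2004) (nat_lit 2151)))))) (FT.node (nat_lit 2154) (FT.leaf (Fct.mk true (nat_lit 25) (nat_lit 1951) (nat_lit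 25) [nat_lit 2, nat_lit 3, nat_lit 8, nat_lit 0, nat_lit 1, nat_lit 2, nat_lit 3, nat_lit 4, nat_lit 5, nat_lit 1, nat_lit 2, nat_lit 3, nat_lit 11, nat_lit 16, nat_lit 14, nat_lit 17, nat_lit 19] (Rl.rel (nat_lit 0) [nat_lit 3, nat_lit 8, nat_lit 2, nat_lit 3, nat_lit 4, nat_lit 5, nat_lit 4, nat_lit 10, nat_lit 9, nat_lit 2, nat_lit 16, nat_lit 15, nat_lit 14] (nat_lit 25) (nat_lit 2) [nat_lit 2127, nat_lit 2094, nat_lit 1268] []))) (FT.node (nat_lit 2155) (FT.leaf (Fct.mk true (nat_lit 25) (nat_lit 283) (nat_lit 25) [nat_lit 4, nat_lit 5, nat_lit 0, nat_lit 1, nat_lit 3, nat_lit 2, nat_lit 8, nat_lit 3, nat_lit 2, nat_lit 8, nat_lit 10, nat_lit 1, nat_lit 12, nat_lit 8, nat_lit 16, nat_lit 14, nat_lit 13, nat_lit 12, nat_lit 18] (Rl.t1 (nat_lit 2153) (nat_lit 2152)))) (FT.leaf (Fct.mk false (nat_lit 25) (nat_lit 0) (nat_lit 25) [nat_lit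 2, nat_lit 3, nat_lit 4, nat_lit 1, nat_lit 2, nat_lit 3, nat_lit 8, nat_lit 0, nat_lit 1, nat_lit 2, nat_lit 3, nat_lit 4, nat_lit 5, nat_lit 8, nat_lit 4, nat_lit 3, nat_lit 2, nat_lit 1, nat_lit 9, nat_lit 4, nat_lit 3, nat_lit 2, nat_lit 8, nat_lit 3, nat_lit 11, nat_lit 2, nat_lit 10, nat_lit 1, nat_lit 8, nat_lit 12, nat_lit 15, nat_lit 17, nat_lit 12] (Rl.cmp (nat_lit 2117) (nat_lit 1231))))))) (FT.node (nat_lit 2159) (FT.node (nat_lit 2157) (FT.leaf (Fct.mk false (nat_lit 25) (nat_lit 0) (nat_lit 25) [nat_lit 6, nat_lit 2, nat_lit 1, nat_lit 8, nat_lit 3, nat_lit 2, nat_lit 0, nat_lit 1, nat_lit 4, nat_lit 3, nat_lit 2, nat_lit 8, nat_lit 3, nat_lit 8, nat_lit 10, nat_lit 1, nat_lit 8, nat_lit 12, nat_lit 15, nat_lit 14, nat_lit 8, nat_lit 18] (Rl.cmp (nat_lit 1258) (nat_lit 1256)))) (FT.node (nat_lit 2158) (FT.leaf (Fct.mk false (nat_lit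 25) (nat_lit 0) (nat_lit 25) [nat_lit 8, nat_lit 5, nat_lit 2, nat_lit 3, nat_lit 4, nat_lit 1, nat_lit 2, nat_lit 3, nat_lit 8, nat_lit 0, nat_lit 1, nat_lit 2, nat_lit 3, nat_lit 4, nat_lit 5, nat_lit 4, nat_lit 3, nat_lit 2, nat_lit 8, nat_lit 3, nat_lit 2, nat_lit 10, nat_lit 1, nat_lit 12, nat_lit 15, nat_lit 13, nat_lit 12, nat_lit 18, nat_lit 16] (Rl.cmp (nat_lit 1672) (nat_lit 2156)))) (FT.leaf (Fct.mk false (nat_lit 25) (nat_lit 0) (nat_lit 25) [nat_lit 8, nat_lit 6, nat_lit 4, nat_lit 5, nat_lit 3, nat_lit 4, nat_lit 1, nat_lit 2, nat_lit 3, nat_lit 8, nat_lit 0, nat_lit 1, nat_lit 2, nat_lit 3, nat_lit 4, nat_lit 5, nat_lit 4, nat_lit 3, nat_lit 2, nat_lit 8, nat_lit 3, nat_lit 8, nat_lit 10, nat_lit 1, nat_lit 12, nat_lit 15, nat_lit 13, nat_lit 12, nat_lit 18, nat_lit 16] (Rl.cmp (nat_lit 1258) (nat_lit 2157)))))) (FT.node (nat_lit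 2160) (FT.leaf (Fct.mk false (nat_lit 25) (nat_lit 0) (nat_lit 25) [nat_lit 4, nat_lit 5, nat_lit 2, nat_lit 3, nat_lit 4, nat_lit 1, nat_lit 2, nat_lit 3, nat_lit 8, nat_lit 0, nat_lit 1, nat_lit 2, nat_lit 3, nat_lit 4, nat_lit 5, nat_lit 11, nat_lit 8, nat_lit 10, nat_lit 8, nat_lit 12, nat_lit 15, nat_lit 14, nat_lit 16, nat_lit 8, nat_lit 19] (Rl.cmp (nat_lit 1813) (nat_lit 2158)))) (FT.node (nat_lit 2161) (FT.leaf (Fct.mk false (nat_lit 5) (nat_lit 0) (nat_lit 5) [nat_lit 4, nat_lit 5, nat_lit 4, nat_lit 10, nat_lit 1] (Rl.cmp (nat_lit 1754) (nat_lit 470)))) (FT.leaf (Fct.mk false (nat_lit 5) (nat_lit 0) (nat_lit 5) [nat_lit 5, nat_lit 11, nat_lit 10, nat_lit 16, nat_lit 15, nat_lit 14, nat_lit 13, nat_lit 16] (Rl.cmp (nat_lit 472) (nat_lit 470)))))))) (FT.node (nat_lit 2168) (FT.node (nat_lit 2165) (FT.node (nat_lit 2163) (FT.leaf (Fct.mk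 false (nat_lit 5) (nat_lit 0) (nat_lit 5) [nat_lit 4, nat_lit 5, nat_lit 4, nat_lit 10] (Rl.cmp (nat_lit 1754) (nat_lit 2161)))) (FT.node (nat_lit 2164) (FT.leaf (Fct.mk false (nat_lit 4) (nat_lit 0) (nat_lit 4) [nat_lit 8, nat_lit 3, nat_lit 4, nat_lit 2, nat_lit 3, nat_lit 8, nat_lit 1, nat_lit 2, nat_lit 3, nat_lit 4, nat_lit 5, nat_lit 4, nat_lit 3, nat_lit 2, nat_lit 8, nat_lit 3, nat_lit 10, nat_lit 1, nat_lit 8, nat_lit 18] (Rl.cmp (nat_lit 239) (nat_lit 234)))) (FT.leaf (Fct.mk false (nat_lit 4) (nat_lit 0) (nat_lit 4) [nat_lit 2, nat_lit 3, nat_lit 8, nat_lit 6, nat_lit 4, nat_lit 5, nat_lit 3, nat_lit 4, nat_lit 2, nat_lit 3, nat_lit 8, nat_lit 1, nat_lit 2, nat_lit 3, nat_lit 4, nat_lit 5, nat_lit 1, nat_lit 2, nat_lit 8, nat_lit 3, nat_lit 9, nat_lit 8, nat_lit 16, nat_lit 14, nat_lit 16, nat_lit 8, nat_lit 18, nat_lit 16] (Rl.cmp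 (nat_lit 1995) (nat_lit 239)))))) (FT.node (nat_lit 2166) (FT.leaf (Fct.mk false (nat_lit 4) (nat_lit 0) (nat_lit 4) [nat_lit 8, nat_lit 3, nat_lit 4, nat_lit 2, nat_lit 3, nat_lit 8, nat_lit 5, nat_lit 6, nat_lit 4, nat_lit 5, nat_lit 3, nat_lit 4, nat_lit 2, nat_lit 3, nat_lit 8, nat_lit 1, nat_lit 2, nat_lit 3, nat_lit 4, nat_lit 5, nat_lit 3, nat_lit 2, nat_lit 1, nat_lit 4, nat_lit 3, nat_lit 2, nat_lit 8, nat_lit 3, nat_lit 1, nat_lit 9, nat_lit 8, nat_lit 16, nat_lit 14, nat_lit 16, nat_lit 8, nat_lit 19] (Rl.cmp (nat_lit 1995) (nat_lit 234)))) (FT.node (nat_lit 2167) (FT.leaf (Fct.mk false (nat_lit 5) (nat_lit 0) (nat_lit 5) [nat_lit 5, nat_lit 11, nat_lit 10, nat_lit 16, nat_lit 15, nat_lit 14, nat_lit 13, nat_lit 16] (Rl.cmp (nat_lit 472) (nat_lit 470)))) (FT.leaf (Fct.mk false (nat_lit 2) (nat_lit 0) (nat_lit 2) [nat_lit 7, nat_lit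 6, nat_lit 4, nat_lit 3, nat_lit 2, nat_lit 8, nat_lit 3, nat_lit 2, nat_lit 18] (Rl.cmp (nat_lit 172) (nat_lit 88))))))) (FT.node (nat_lit 2171) (FT.node (nat_lit 2169) (FT.leaf (Fct.mk false (nat_lit 2) (nat_lit 0) (nat_lit 2) [nat_lit 3, nat_lit 2, nat_lit 8, nat_lit 3, nat_lit 2, nat_lit 8] (Rl.cmp (nat_lit 87) (nat_lit 86)))) (FT.node (nat_lit 2170) (FT.leaf (Fct.mk false (nat_lit 4) (nat_lit 0) (nat_lit 4) [nat_lit 8, nat_lit 3, nat_lit 4, nat_lit 5, nat_lit 8, nat_lit 3, nat_lit 2, nat_lit 1, nat_lit 4, nat_lit 3, nat_lit 2, nat_lit 8, nat_lit 3, nat_lit 10, nat_lit 1, nat_lit 14, nat_lit 18] (Rl.cmp (nat_lit 312) (nat_lit 243)))) (FT.leaf (Fct.mk false (nat_lit 2) (nat_lit 0) (nat_lit 2) [nat_lit 7, nat_lit 6, nat_lit 4, nat_lit 3, nat_lit 2, nat_lit 8, nat_lit 3, nat_lit 2, nat_lit 18] (Rl.cmp (nat_lit 172) (nat_lit 88)))))) (FT.node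 (nat_lit 2173) (FT.node (nat_lit 2172) (FT.leaf (Fct.mk false (nat_lit 4) (nat_lit 0) (nat_lit 4) [nat_lit 8, nat_lit 3, nat_lit 4, nat_lit 2, nat_lit 3, nat_lit 8, nat_lit 1, nat_lit 2, nat_lit 3, nat_lit 4, nat_lit 5, nat_lit 1, nat_lit 4, nat_lit 3, nat_lit 2, nat_lit 8, nat_lit 3, nat_lit 10, nat_lit 1, nat_lit 8, nat_lit 18] (Rl.cmp (nat_lit 241) (nat_lit 234)))) (FT.leaf (Fct.mk false (nat_lit 4) (nat_lit 0) (nat_lit 4) [nat_lit 8, nat_lit 3, nat_lit 4, nat_lit 2, nat_lit 3, nat_lit 8, nat_lit 1, nat_lit 2, nat_lit 3, nat_lit 4, nat_lit 5, nat_lit 4, nat_lit 3, nat_lit 2, nat_lit 8, nat_lit 3, nat_lit 8, nat_lit 10, nat_lit 1, nat_lit 8, nat_lit 18] (Rl.cmp (nat_lit 239) (nat_lit 2171))))) (FT.node (nat_lit 2174) (FT.leaf (Fct.mk false (nat_lit 4) (nat_lit 0) (nat_lit 4) [nat_lit 7, nat_lit 8, nat_lit 3, nat_lit 4, nat_lit 2, nat_lit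 3, nat_lit 8, nat_lit 1, nat_lit 2, nat_lit 3, nat_lit 4, nat_lit 5, nat_lit 4, nat_lit 3, nat_lit 2, nat_lit 8, nat_lit 3, nat_lit 8, nat_lit 10, nat_lit 1, nat_lit 8, nat_lit 18] (Rl.cmp (nat_lit 263) (nat_lit 2172)))) (FT.leaf (Fct.mk false (nat_lit 5) (nat_lit 0) (nat_lit 5) [nat_lit 8, nat_lit 3, nat_lit 4, nat_lit 2, nat_lit 3, nat_lit 8, nat_lit 5, nat_lit 6, nat_lit 4, nat_lit 5, nat_lit 3, nat_lit 4, nat_lit 2, nat_lit 3, nat_lit 8, nat_lit 1, nat_lit 2, nat_lit 3, nat_lit 4, nat_lit 5, nat_lit 0, nat_lit 1, nat_lit 2, nat_lit 3, nat_lit 1, nat_lit 15, nat_lit 14, nat_lit 13] (Rl.cmp (nat_lit 2094) (nat_lit 1859))))))))) (FT.node (nat_lit 2187) (FT.node (nat_lit 2181) (FT.node (nat_lit 2178) (FT.node (nat_lit 2176) (FT.leaf (Fct.mk false (nat_lit 5) (nat_lit 0) (nat_lit 5) [nat_lit 8, nat_lit 3, nat_lit 4, nat_lit 1, nat_lit 2, nat_lit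 3, nat_lit 8, nat_lit 5, nat_lit 6, nat_lit 4, nat_lit 5, nat_lit 3, nat_lit 4, nat_lit 2, nat_lit 3, nat_lit 8, nat_lit 1, nat_lit 2, nat_lit 3, nat_lit 4, nat_lit 5, nat_lit 1, nat_lit 2, nat_lit 3, nat_lit 8, nat_lit 4, nat_lit 3, nat_lit 2, nat_lit 1, nat_lit 9, nat_lit 4, nat_lit 3, nat_lit 2, nat_lit 8, nat_lit 3, nat_lit 11, nat_lit 10, nat_lit 1, nat_lit 8, nat_lit 12, nat_lit 15, nat_lit 18, nat_lit 16] (Rl.cmp (nat_lit 1754) (nat_lit 2174)))) (FT.node (nat_lit 2177) (FT.leaf (Fct.mk false (nat_lit 5) (nat_lit 0) (nat_lit 5) [nat_lit 3, nat_lit 8, nat_lit 2, nat_lit 3, nat_lit 4, nat_lit 1, nat_lit 2, nat_lit 3, nat_lit 8, nat_lit 5, nat_lit 6, nat_lit 4, nat_lit 5, nat_lit 3, nat_lit 4, nat_lit 2, nat_lit 3, nat_lit 8, nat_lit 1, nat_lit 2, nat_lit 3, nat_lit 4, nat_lit 5, nat_lit 2, nat_lit 3, nat_lit 8, nat_lit 4, nat_lit 3, nat_lit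 2, nat_lit 1, nat_lit 9, nat_lit 4, nat_lit 3, nat_lit 2, nat_lit 8, nat_lit 3, nat_lit 1, nat_lit 12, nat_lit 8, nat_lit 16, nat_lit 14, nat_lit 8, nat_lit 19] (Rl.cmp (nat_lit 511) (nat_lit 2175)))) (FT.leaf (Fct.mk false (nat_lit 4) (nat_lit 0) (nat_lit 4) [nat_lit 5, nat_lit 4, nat_lit 3, nat_lit 8, nat_lit 2, nat_lit 3, nat_lit 4, nat_lit 1, nat_lit 2, nat_lit 3, nat_lit 8, nat_lit 5, nat_lit 6, nat_lit 4, nat_lit 5, nat_lit 3, nat_lit 4, nat_lit 2, nat_lit 3, nat_lit 8, nat_lit 1, nat_lit 2, nat_lit 3, nat_lit 4, nat_lit 5, nat_lit 1, nat_lit 3, nat_lit 2, nat_lit 8, nat_lit 3, nat_lit 9, nat_lit 8, nat_lit 16, nat_lit 14, nat_lit 16, nat_lit 8, nat_lit 18, nat_lit 16] (Rl.cmp (nat_lit 1995) (nat_lit 243)))))) (FT.node (nat_lit 2179) (FT.leaf (Fct.mk true (nat_lit 4) (nat_lit 11114) (nat_lit 4) [nat_lit 8, nat_lit 3, nat_lit 4, nat_lit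 1, nat_lit 2, nat_lit 3, nat_lit 8, nat_lit 5, nat_lit 6, nat_lit 4, nat_lit 5, nat_lit 3, nat_lit 4, nat_lit 2, nat_lit 3, nat_lit 8, nat_lit 1, nat_lit 2, nat_lit 3, nat_lit 4, nat_lit 5, nat_lit 3, nat_lit 8, nat_lit 4, nat_lit 3, nat_lit 2, nat_lit 1, nat_lit 9, nat_lit 4, nat_lit 3, nat_lit 2, nat_lit 8, nat_lit 3, nat_lit 8, nat_lit 16, nat_lit 14, nat_lit 8, nat_lit 19] (Rl.rel (nat_lit 0) [nat_lit 8, nat_lit 3, nat_lit 4, nat_lit 5, nat_lit 6, nat_lit 7, nat_lit 2, nat_lit 3, nat_lit 8, nat_lit 4, nat_lit 5, nat_lit 3, nat_lit 4, nat_lit 2, nat_lit 3, nat_lit 8, nat_lit 1, nat_lit 2, nat_lit 3, nat_lit 4, nat_lit 5, nat_lit 3, nat_lit 10, nat_lit 9, nat_lit 2, nat_lit 12, nat_lit 15, nat_lit 18] (nat_lit 4) (nat_lit 2) [nat_lit 1978, nat_lit 2016, nat_lit 1602, nat_lit 1976] []))) (FT.node (nat_lit 2180) (FT.leaf (Fct.mk true (nat_lit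 4) (nat_lit 4343) (nat_lit 4) [nat_lit 1, nat_lit 2, nat_lit 3, nat_lit 4, nat_lit 5, nat_lit 2, nat_lit 1, nat_lit 3, nat_lit 2, nat_lit 8, nat_lit 3, nat_lit 8, nat_lit 10, nat_lit 1, nat_lit 14, nat_lit 12] (Rl.t1 (nat_lit 2178) (nat_lit 2177)))) (FT.leaf (Fct.mk false (nat_lit 2) (nat_lit 0) (nat_lit 2) [nat_lit 6, nat_lit 7, nat_lit 6, nat_lit 2, nat_lit 3, nat_lit 2, nat_lit 18] (Rl.cmp (nat_lit 168) (nat_lit 2170))))))) (FT.node (nat_lit 2184) (FT.node (nat_lit 2182) (FT.leaf (Fct.mk false (nat_lit 4) (nat_lit 0) (nat_lit 4) [nat_lit 8, nat_lit 3, nat_lit 4, nat_lit 2, nat_lit 3, nat_lit 8, nat_lit 5, nat_lit 6, nat_lit 4, nat_lit 5, nat_lit 3, nat_lit 4, nat_lit 2, nat_lit 3, nat_lit 8, nat_lit 1, nat_lit 2, nat_lit 3, nat_lit 4, nat_lit 5, nat_lit 3, nat_lit 2, nat_lit 1, nat_lit 4, nat_lit 3, nat_lit 2, nat_lit 8, nat_lit 3, nat_lit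 1, nat_lit 9, nat_lit 8, nat_lit 16, nat_lit 14, nat_lit 16, nat_lit 8, nat_lit 19] (Rl.cmp (nat_lit 1995) (nat_lit 234)))) (FT.node (nat_lit 2183) (FT.leaf (Fct.mk false (nat_lit 4) (nat_lit 0) (nat_lit 4) [nat_lit 5, nat_lit 4, nat_lit 3, nat_lit 8, nat_lit 2, nat_lit 3, nat_lit 4, nat_lit 1, nat_lit 2, nat_lit 3, nat_lit 8, nat_lit 5, nat_lit 6, nat_lit 4, nat_lit 5, nat_lit 3, nat_lit 4, nat_lit 2, nat_lit 3, nat_lit 8, nat_lit 1, nat_lit 2, nat_lit 3, nat_lit 4, nat_lit 5, nat_lit 2, nat_lit 3, nat_lit 8, nat_lit 4, nat_lit 3, nat_lit 2, nat_lit 1, nat_lit 9, nat_lit 4, nat_lit 3, nat_lit 2, nat_lit 8, nat_lit 3, nat_lit 10, nat_lit 12, nat_lit 8, nat_lit 16, nat_lit 14, nat_lit 8, nat_lit 19] (Rl.cmp (nat_lit 312) (nat_lit 2181)))) (FT.leaf (Fct.mk false (nat_lit 5) (nat_lit 0) (nat_lit 5) [nat_lit 3, nat_lit 4, nat_lit 5, nat_lit 0,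 nat_lit 1, nat_lit 2, nat_lit 3, nat_lit 10, nat_lit 0, nat_lit 12, nat_lit 15, nat_lit 16] (Rl.cmp (nat_lit 1859) (nat_lit 1754)))))) (FT.node (nat_lit 2185) (FT.leaf (Fct.mk false (nat_lit 5) (nat_lit 0) (nat_lit 5) [nat_lit 5, nat_lit 9, nat_lit 4, nat_lit 11, nat_lit 10, nat_lit 15, nat_lit 14, nat_lit 13] (Rl.cmp (nat_lit 1754) (nat_lit 2183)))) (FT.node (nat_lit 2186) (FT.leaf (Fct.mk true (nat_lit 4) (nat_lit 83844) (nat_lit 4) [nat_lit 7, nat_lit 5, nat_lit 6, nat_lit 4, nat_lit 5, nat_lit 2, nat_lit 3, nat_lit 4, nat_lit 1, nat_lit 2, nat_lit 3, nat_lit 8, nat_lit 0, nat_lit 1, nat_lit 2, nat_lit 3, nat_lit 4, nat_lit 5, nat_lit 6, nat_lit 7, nat_lit 3, nat_lit 8, nat_lit 2, nat_lit 3, nat_lit 4, nat_lit 5, nat_lit 4, nat_lit 3, nat_lit 2, nat_lit 8, nat_lit 3, nat_lit 10, nat_lit 0, nat_lit 8, nat_lit 12, nat_lit 15, nat_lit 14, nat_lit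 8] (Rl.rel (nat_lit 0) [nat_lit 3, nat_lit 8, nat_lit 2, nat_lit 3, nat_lit 4, nat_lit 5, nat_lit 6, nat_lit 7, nat_lit 3, nat_lit 8, nat_lit 2, nat_lit 3, nat_lit 4, nat_lit 5, nat_lit 3, nat_lit 2, nat_lit 1, nat_lit 8, nat_lit 3, nat_lit 2, nat_lit 0, nat_lit 1, nat_lit 4, nat_lit 3, nat_lit 2, nat_lit 8, nat_lit 3, nat_lit 11, nat_lit 8, nat_lit 10, nat_lit 1, nat_lit 16, nat_lit 8, nat_lit 12, nat_lit 15, nat_lit 13] (nat_lit 5) (nat_lit 1) [nat_lit 1869, nat_lit 2049] [nat_lit 2184, nat_lit 1869, nat_lit 2049]))) (FT.leaf (Fct.mk true (nat_lit 4) (nat_lit 4113) (nat_lit 4) [nat_lit 7, nat_lit 5, nat_lit 6, nat_lit 4, nat_lit 5, nat_lit 2, nat_lit 3, nat_lit 4, nat_lit 1, nat_lit 2, nat_lit 3, nat_lit 8, nat_lit 0, nat_lit 1, nat_lit 2, nat_lit 3, nat_lit 4, nat_lit 5, nat_lit 6, nat_lit 7, nat_lit 8, nat_lit 2, nat_lit 3, nat_lit 4, nat_lit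 1, nat_lit 2, nat_lit 3, nat_lit 8, nat_lit 5, nat_lit 6, nat_lit 4, nat_lit 5, nat_lit 3, nat_lit 4, nat_lit 2, nat_lit 3, nat_lit 8, nat_lit 1, nat_lit 2, nat_lit 3, nat_lit 4, nat_lit 5, nat_lit 3, nat_lit 8, nat_lit 4, nat_lit 3, nat_lit 2, nat_lit 1, nat_lit 9, nat_lit 4, nat_lit 3, nat_lit 2, nat_lit 8, nat_lit 3, nat_lit 11, nat_lit 1, nat_lit 16, nat_lit 12, nat_lit 15, nat_lit 14, nat_lit 13, nat_lit 18] (Rl.t1 (nat_lit 2185) (nat_lit 2182)))))))) (FT.node (nat_lit 2193) (FT.node (nat_lit 2190) (FT.node (nat_lit 2188) (FT.leaf (Fct.mk false (nat_lit 4) (nat_lit 0) (nat_lit 4) [nat_lit 8, nat_lit 3, nat_lit 4, nat_lit 2, nat_lit 3, nat_lit 8, nat_lit 5, nat_lit 6, nat_lit 4, nat_lit 5, nat_lit 3, nat_lit 4, nat_lit 2, nat_lit 3, nat_lit 8, nat_lit 1, nat_lit 2, nat_lit 3, nat_lit 4, nat_lit 5, nat_lit 3, nat_lit 2, nat_lit 1, nat_lit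 4, nat_lit 3, nat_lit 2, nat_lit 8, nat_lit 3, nat_lit 1, nat_lit 9, nat_lit 8, nat_lit 16, nat_lit 14, nat_lit 16, nat_lit 8, nat_lit 19] (Rl.cmp (nat_lit 1995) (nat_lit 234)))) (FT.node (nat_lit 2189) (FT.leaf (Fct.mk false (nat_lit 4) (nat_lit 0) (nat_lit 4) [nat_lit 5, nat_lit 4, nat_lit 3, nat_lit 8, nat_lit 2, nat_lit 3, nat_lit 4, nat_lit 1, nat_lit 2, nat_lit 3, nat_lit 8, nat_lit 5, nat_lit 6, nat_lit 4, nat_lit 5, nat_lit 3, nat_lit 4, nat_lit 2, nat_lit 3, nat_lit 8, nat_lit 1, nat_lit 2, nat_lit 3, nat_lit 4, nat_lit 5, nat_lit 2, nat_lit 3, nat_lit 8, nat_lit 4, nat_lit 3, nat_lit 2, nat_lit 1, nat_lit 9, nat_lit 4, nat_lit 3, nat_lit 2, nat_lit 8, nat_lit 3, nat_lit 10, nat_lit 12, nat_lit 8, nat_lit 16, nat_lit 14, nat_lit 8, nat_lit 19] (Rl.cmp (nat_lit 312) (nat_lit 2187)))) (FT.leaf (Fct.mk false (nat_lit 6) (nat_lit 0) (nat_lit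 6) [nat_lit 6, nat_lit 7, nat_lit 2, nat_lit 3, nat_lit 4, nat_lit 5, nat_lit 3, nat_lit 9, nat_lit 2, nat_lit 12] (Rl.cmp (nat_lit 557) (nat_lit 557)))))) (FT.node (nat_lit 2191) (FT.leaf (Fct.mk false (nat_lit 6) (nat_lit 0) (nat_lit 6) [nat_lit 7, nat_lit 8, nat_lit 3, nat_lit 4, nat_lit 2, nat_lit 3, nat_lit 8, nat_lit 5, nat_lit 6, nat_lit 4, nat_lit 5, nat_lit 3, nat_lit 4, nat_lit 2, nat_lit 3, nat_lit 8, nat_lit 0, nat_lit 1, nat_lit 2, nat_lit 3, nat_lit 4, nat_lit 5, nat_lit 8, nat_lit 3, nat_lit 2, nat_lit 1, nat_lit 4, nat_lit 3, nat_lit 2, nat_lit 8, nat_lit 3, nat_lit 2, nat_lit 10, nat_lit 1, nat_lit 12, nat_lit 15, nat_lit 13, nat_lit 12, nat_lit 19, nat_lit 16] (Rl.cmp (nat_lit 2084) (nat_lit 2189)))) (FT.node (nat_lit 2192) (FT.leaf (Fct.mk true (nat_lit 4) (nat_lit 58687) (nat_lit 6) [nat_lit 8, nat_lit 5, nat_lit 6, nat_lit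 4, nat_lit 5, nat_lit 3, nat_lit 4, nat_lit 2, nat_lit 3, nat_lit 8, nat_lit 0, nat_lit 1, nat_lit 2, nat_lit 3, nat_lit 4, nat_lit 5, nat_lit 6, nat_lit 7, nat_lit 2, nat_lit 3, nat_lit 8, nat_lit 0, nat_lit 1, nat_lit 2, nat_lit 3, nat_lit 4, nat_lit 5, nat_lit 9, nat_lit 4, nat_lit 11, nat_lit 1, nat_lit 16, nat_lit 12, nat_lit 15, nat_lit 14, nat_lit 8, nat_lit 18] (Rl.rel (nat_lit 0) [nat_lit 3, nat_lit 8, nat_lit 2, nat_lit 3, nat_lit 4, nat_lit 5, nat_lit 6, nat_lit 7, nat_lit 3, nat_lit 8, nat_lit 2, nat_lit 3, nat_lit 4, nat_lit 5, nat_lit 2, nat_lit 1, nat_lit 4, nat_lit 3, nat_lit 2, nat_lit 0, nat_lit 1, nat_lit 9, nat_lit 4, nat_lit 3, nat_lit 2, nat_lit 8, nat_lit 3, nat_lit 2, nat_lit 8, nat_lit 10, nat_lit 1, nat_lit 16, nat_lit 8, nat_lit 12, nat_lit 15, nat_lit 13, nat_lit 16] (nat_lit 5) (nat_lit 1) [nat_lit 1869, nat_lit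 2049] [nat_lit 2099, nat_lit 1865]))) (FT.leaf (Fct.mk true (nat_lit 4) (nat_lit 16240) (nat_lit 6) [nat_lit 3, nat_lit 4, nat_lit 1, nat_lit 2, nat_lit 3, nat_lit 8, nat_lit 0, nat_lit 1, nat_lit 2, nat_lit 3, nat_lit 4, nat_lit 5, nat_lit 6, nat_lit 7, nat_lit 4, nat_lit 3, nat_lit 8, nat_lit 0, nat_lit 1, nat_lit 2, nat_lit 3, nat_lit 4, nat_lit 5, nat_lit 9, nat_lit 4, nat_lit 10, nat_lit 9, nat_lit 2, nat_lit 16, nat_lit 8] (Rl.t1 (nat_lit 2191) (nat_lit 2188))))))) (FT.node (nat_lit 2196) (FT.node (nat_lit 2194) (FT.leaf (Fct.mk true (nat_lit 6) (nat_lit 9342) (nat_lit 4) [nat_lit 4, nat_lit 5, nat_lit 6, nat_lit 7, nat_lit 4, nat_lit 3, nat_lit 8, nat_lit 2, nat_lit 3, nat_lit 4, nat_lit 5, nat_lit 2, nat_lit 0, nat_lit 1, nat_lit 9, nat_lit 4, nat_lit 3, nat_lit 2, nat_lit 8, nat_lit 3, nat_lit 1, nat_lit 9, nat_lit 12, nat_lit 15,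 nat_lit 14, nat_lit 12] (Rl.inv (nat_lit 2192)))) (FT.node (nat_lit 2195) (FT.leaf (Fct.mk true (nat_lit 6) (nat_lit 762) (nat_lit 4) [nat_lit 8, nat_lit 3, nat_lit 4, nat_lit 2, nat_lit 3, nat_lit 8, nat_lit 5, nat_lit 6, nat_lit 4, nat_lit 5, nat_lit 3, nat_lit 4, nat_lit 2, nat_lit 3, nat_lit 8, nat_lit 1, nat_lit 2, nat_lit 3, nat_lit 4, nat_lit 5, nat_lit 6, nat_lit 7, nat_lit 3, nat_lit 4, nat_lit 2, nat_lit 3, nat_lit 8, nat_lit 0, nat_lit 1, nat_lit 2, nat_lit 3, nat_lit 4, nat_lit 5, nat_lit 4, nat_lit 8, nat_lit 10, nat_lit 9, nat_lit 2, nat_lit 8, nat_lit 12, nat_lit 15] (Rl.t1 (nat_lit 2193) (nat_lit 2190)))) (FT.leaf (Fct.mk false (nat_lit 4) (nat_lit 0) (nat_lit 4) [nat_lit 2, nat_lit 3, nat_lit 8, nat_lit 4, nat_lit 5, nat_lit 3, nat_lit 4, nat_lit 2, nat_lit 3, nat_lit 8, nat_lit 1, nat_lit 2, nat_lit 3, nat_lit 4, nat_lit 5,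 nat_lit 2, nat_lit 8, nat_lit 3, nat_lit 2, nat_lit 8, nat_lit 10, nat_lit 1, nat_lit 8] (Rl.cmp (nat_lit 234) (nat_lit 312)))))) (FT.node (nat_lit 2198) (FT.node (nat_lit 2197) (FT.leaf (Fct.mk false (nat_lit 4) (nat_lit 0) (nat_lit 4) [nat_lit 8, nat_lit 3, nat_lit 4, nat_lit 1, nat_lit 2, nat_lit 3, nat_lit 8, nat_lit 5, nat_lit 6, nat_lit 4, nat_lit 5, nat_lit 3, nat_lit 4, nat_lit 2, nat_lit 3, nat_lit 8, nat_lit 1, nat_lit 2, nat_lit 3, nat_lit 4, nat_lit 5, nat_lit 3, nat_lit 8, nat_lit 4, nat_lit 3, nat_lit 2, nat_lit 1, nat_lit 9, nat_lit 4, nat_lit 3, nat_lit 2, nat_lit 8, nat_lit 3, nat_lit 2, nat_lit 10, nat_lit 1, nat_lit 12, nat_lit 8, nat_lit 16, nat_lit 14, nat_lit 16, nat_lit 8, nat_lit 19] (Rl.cmp (nat_lit 1995) (nat_lit 2195)))) (FT.leaf (Fct.mk false (nat_lit 5) (nat_lit 0) (nat_lit 5) [nat_lit 6, nat_lit 1, nat_lit 2, nat_lit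 3, nat_lit 9, nat_lit 2, nat_lit 16, nat_lit 15, nat_lit 14, nat_lit 12] (Rl.cmp (nat_lit 1754) (nat_lit 511))))) (FT.node (nat_lit 2199) (FT.leaf (Fct.mk false (nat_lit 5) (nat_lit 0) (nat_lit 5) [nat_lit 5, nat_lit 2, nat_lit 3, nat_lit 2, nat_lit 16, nat_lit 15, nat_lit 14] (Rl.cmp (nat_lit 1859) (nat_lit 2197)))) (FT.leaf (Fct.mk false (nat_lit 5) (nat_lit 0) (nat_lit 5) [nat_lit 8, nat_lit 2, nat_lit 3, nat_lit 4, nat_lit 1, nat_lit 2, nat_lit 3, nat_lit 8, nat_lit 5, nat_lit 6, nat_lit 4, nat_lit 5, nat_lit 3, nat_lit 4, nat_lit 2, nat_lit 3, nat_lit 8, nat_lit 1, nat_lit 2, nat_lit 3, nat_lit 4, nat_lit 5, nat_lit 2, nat_lit 3, nat_lit 8, nat_lit 4, nat_lit 3, nat_lit 2, nat_lit 1, nat_lit 9, nat_lit 4, nat_lit 3, nat_lit 2, nat_lit 8, nat_lit 3, nat_lit 12, nat_lit 8, nat_lit 16, nat_lit 14, nat_lit 8, nat_lit 19] (Rl.cmp (nat_lit 2094)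 (nat_lit 2198)))))))))

/-- some facts -/
noncomputable def ftc44 : FT := FT.node (nat_lit 2225) (FT.node (nat_lit 2212) (FT.node (nat_lit 2206) (FT.node (nat_lit 2203) (FT.node (nat_lit 2201) (FT.leaf (Fct.mk true (nat_lit 4) (nat_lit 12435) (nat_lit 4) [nat_lit 7, nat_lit 6, nat_lit 5, nat_lit 4, nat_lit 2, nat_lit 3, nat_lit 8, nat_lit 1, nat_lit 2, nat_lit 3, nat_lit 4, nat_lit 5, nat_lit 6, nat_lit 7, nat_lit 4, nat_lit 3, nat_lit 8, nat_lit 2, nat_lit 3, nat_lit 4, nat_lit 5, nat_lit 4, nat_lit 3, nat_lit 2, nat_lit 8, nat_lit 3, nat_lit 8, nat_lit 10, nat_lit 14, nat_lit 8, nat_lit 18] (Rl.rel (nat_lit 0) [nat_lit 3, nat_lit 4, nat_lit 5, nat_lit 2, nat_lit 3, nat_lit 4, nat_lit 1, nat_lit 2, nat_lit 3, nat_lit 8, nat_lit 0, nat_lit 1, nat_lit 2, nat_lit 3, nat_lit 4, nat_lit 5, nat_lit 6, nat_lit 7, nat_lit 8, nat_lit 3, nat_lit 4,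 nat_lit 1, nat_lit 2, nat_lit 3, nat_lit 8, nat_lit 0, nat_lit 1, nat_lit 2, nat_lit 3, nat_lit 4, nat_lit 5, nat_lit 3, nat_lit 8, nat_lit 4, nat_lit 3, nat_lit 2, nat_lit 0, nat_lit 1, nat_lit 9, nat_lit 4, nat_lit 3, nat_lit 2, nat_lit 8, nat_lit 3, nat_lit 10, nat_lit 2, nat_lit 8, nat_lit 10, nat_lit 1, nat_lit 8, nat_lit 12, nat_lit 15, nat_lit 14, nat_lit 8, nat_lit 19, nat_lit 16] (nat_lit 5) (nat_lit 1) [nat_lit 1869, nat_lit 2049] [nat_lit 2199, nat_lit 1869, nat_lit 2049]))) (FT.node (nat_lit 2202) (FT.leaf (Fct.mk true (nat_lit 4) (nat_lit 4084) (nat_lit 4) [nat_lit 7, nat_lit 6, nat_lit 5, nat_lit 4, nat_lit 2, nat_lit 3, nat_lit 8, nat_lit 1, nat_lit 2, nat_lit 3, nat_lit 4, nat_lit 5, nat_lit 6, nat_lit 7, nat_lit 3, nat_lit 8, nat_lit 2, nat_lit 3, nat_lit 4, nat_lit 1, nat_lit 2, nat_lit 3, nat_lit 8, nat_lit 5, nat_lit 6,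 nat_lit 4, nat_lit 5, nat_lit 3, nat_lit 4, nat_lit 2, nat_lit 3, nat_lit 8, nat_lit 1, nat_lit 2, nat_lit 3, nat_lit 4, nat_lit 5, nat_lit 8, nat_lit 4, nat_lit 3, nat_lit 2, nat_lit 1, nat_lit 9, nat_lit 4, nat_lit 3, nat_lit 2, nat_lit 8, nat_lit 3, nat_lit 9, nat_lit 10, nat_lit 2, nat_lit 8, nat_lit 10, nat_lit 1, nat_lit 8, nat_lit 19] (Rl.t1 (nat_lit 2200) (nat_lit 2196)))) (FT.leaf (Fct.mk false (nat_lit 4) (nat_lit 0) (nat_lit 4) [nat_lit 2, nat_lit 3, nat_lit 8, nat_lit 6, nat_lit 4, nat_lit 5, nat_lit 3, nat_lit 4, nat_lit 2, nat_lit 3, nat_lit 8, nat_lit 1, nat_lit 2, nat_lit 3, nat_lit 4, nat_lit 5, nat_lit 1, nat_lit 2, nat_lit 8, nat_lit 3, nat_lit 9, nat_lit 8, nat_lit 16, nat_lit 14, nat_lit 16, nat_lit 8, nat_lit 18, nat_lit 16] (Rl.cmp (nat_lit 1995) (nat_lit 239)))))) (FT.node (nat_lit 2204) (FT.leaf (Fct.mk false (nat_lit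 4) (nat_lit 0) (nat_lit 4) [nat_lit 2, nat_lit 3, nat_lit 8, nat_lit 6, nat_lit 4, nat_lit 5, nat_lit 3, nat_lit 4, nat_lit 2, nat_lit 3, nat_lit 8, nat_lit 1, nat_lit 2, nat_lit 3, nat_lit 4, nat_lit 5, nat_lit 2, nat_lit 3, nat_lit 8, nat_lit 4, nat_lit 3, nat_lit 2, nat_lit 1, nat_lit 9, nat_lit 4, nat_lit 3, nat_lit 2, nat_lit 8, nat_lit 3, nat_lit 10, nat_lit 12, nat_lit 8, nat_lit 16, nat_lit 14, nat_lit 8, nat_lit 19] (Rl.cmp (nat_lit 234) (nat_lit 2202)))) (FT.node (nat_lit 2205) (FT.leaf (Fct.mk false (nat_lit 4) (nat_lit 0) (nat_lit 4) [nat_lit 2, nat_lit 3, nat_lit 8, nat_lit 4, nat_lit 5, nat_lit 3, nat_lit 4, nat_lit 2, nat_lit 3, nat_lit 8, nat_lit 1, nat_lit 2, nat_lit 3, nat_lit 4, nat_lit 5, nat_lit 2, nat_lit 8, nat_lit 3, nat_lit 2, nat_lit 8, nat_lit 10, nat_lit 1, nat_lit 8] (Rl.cmp (nat_lit 234) (nat_lit 312)))) (FT.leaf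 (Fct.mk false (nat_lit 4) (nat_lit 0) (nat_lit 4) [nat_lit 8, nat_lit 3, nat_lit 4, nat_lit 1, nat_lit 2, nat_lit 3, nat_lit 8, nat_lit 5, nat_lit 6, nat_lit 4, nat_lit 5, nat_lit 3, nat_lit 4, nat_lit 2, nat_lit 3, nat_lit 8, nat_lit 1, nat_lit 2, nat_lit 3, nat_lit 4, nat_lit 5, nat_lit 3, nat_lit 8, nat_lit 4, nat_lit 3, nat_lit 2, nat_lit 1, nat_lit 9, nat_lit 4, nat_lit 3, nat_lit 2, nat_lit 8, nat_lit 3, nat_lit 2, nat_lit 10, nat_lit 1, nat_lit 12, nat_lit 8, nat_lit 16, nat_lit 14, nat_lit 16, nat_lit 8, nat_lit 19] (Rl.cmp (nat_lit 1995) (nat_lit 2204))))))) (FT.node (nat_lit 2209) (FT.node (nat_lit 2207) (FT.leaf (Fct.mk true (nat_lit 4) (nat_lit 58743) (nat_lit 5) [nat_lit 8, nat_lit 2, nat_lit 3, nat_lit 4, nat_lit 1, nat_lit 2, nat_lit 3, nat_lit 8, nat_lit 5, nat_lit 6, nat_lit 4, nat_lit 5, nat_lit 3, nat_lit 4, nat_lit 2, nat_lit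 3, nat_lit 8, nat_lit 1, nat_lit 2, nat_lit 3, nat_lit 4, nat_lit 5, nat_lit 6, nat_lit 7, nat_lit 6, nat_lit 5, nat_lit 4, nat_lit 2, nat_lit 3, nat_lit 8, nat_lit 0, nat_lit 1, nat_lit 2, nat_lit 3, nat_lit 4, nat_lit 5, nat_lit 2, nat_lit 1, nat_lit 3, nat_lit 2, nat_lit 8, nat_lit 3, nat_lit 10, nat_lit 9, nat_lit 2, nat_lit 14, nat_lit 19, nat_lit 16] (Rl.rel (nat_lit 0) [nat_lit 8, nat_lit 3, nat_lit 4, nat_lit 2, nat_lit 3, nat_lit 8, nat_lit 1, nat_lit 2, nat_lit 3, nat_lit 4, nat_lit 5, nat_lit 6, nat_lit 7, nat_lit 4, nat_lit 3, nat_lit 8, nat_lit 0, nat_lit 1, nat_lit 2, nat_lit 3, nat_lit 4, nat_lit 5, nat_lit 3, nat_lit 2, nat_lit 1, nat_lit 8, nat_lit 3, nat_lit 2, nat_lit 0, nat_lit 1, nat_lit 9, nat_lit 4, nat_lit 3, nat_lit 2, nat_lit 8, nat_lit 3, nat_lit 8, nat_lit 10, nat_lit 1, nat_lit 16, nat_lit 8, nat_lit 12, nat_lit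 15, nat_lit 13, nat_lit 16] (nat_lit 5) (nat_lit 2) [nat_lit 1869, nat_lit 2049, nat_lit 2203, nat_lit 2186] []))) (FT.node (nat_lit 2208) (FT.leaf (Fct.mk true (nat_lit 4) (nat_lit 6953) (nat_lit 5) [nat_lit 3, nat_lit 4, nat_lit 5, nat_lit 6, nat_lit 7, nat_lit 5, nat_lit 6, nat_lit 4, nat_lit 5, nat_lit 2, nat_lit 3, nat_lit 4, nat_lit 1, nat_lit 2, nat_lit 3, nat_lit 8, nat_lit 0, nat_lit 1, nat_lit 2, nat_lit 3, nat_lit 4, nat_lit 5, nat_lit 2, nat_lit 1, nat_lit 9, nat_lit 4, nat_lit 3, nat_lit 2, nat_lit 8, nat_lit 3, nat_lit 2, nat_lit 10, nat_lit 1, nat_lit 16, nat_lit 8, nat_lit 12, nat_lit 15, nat_lit 13] (Rl.t1 (nat_lit 2206) (nat_lit 2205)))) (FT.leaf (Fct.mk true (nat_lit 5) (nat_lit 24994) (nat_lit 4) [nat_lit 2, nat_lit 3, nat_lit 8, nat_lit 4, nat_lit 5, nat_lit 3, nat_lit 4, nat_lit 2, nat_lit 3, nat_lit 8, nat_lit 1, nat_lit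 2, nat_lit 3, nat_lit 4, nat_lit 5, nat_lit 6, nat_lit 7, nat_lit 5, nat_lit 2, nat_lit 3, nat_lit 4, nat_lit 1, nat_lit 2, nat_lit 3, nat_lit 8, nat_lit 0, nat_lit 1, nat_lit 2, nat_lit 3, nat_lit 4, nat_lit 5, nat_lit 1, nat_lit 3, nat_lit 2, nat_lit 0, nat_lit 1, nat_lit 4, nat_lit 3, nat_lit 2, nat_lit 8, nat_lit 3, nat_lit 8, nat_lit 10, nat_lit 1, nat_lit 14, nat_lit 18, nat_lit 16] (Rl.inv (nat_lit 2207)))))) (FT.node (nat_lit 2210) (FT.leaf (Fct.mk false (nat_lit 4) (nat_lit 0) (nat_lit 4) [nat_lit 2, nat_lit 3, nat_lit 8, nat_lit 6, nat_lit 4, nat_lit 5, nat_lit 3, nat_lit 4, nat_lit 2, nat_lit 3, nat_lit 8, nat_lit 1, nat_lit 2, nat_lit 3, nat_lit 4, nat_lit 5, nat_lit 1, nat_lit 2, nat_lit 8, nat_lit 3, nat_lit 9, nat_lit 8, nat_lit 16, nat_lit 14, nat_lit 16, nat_lit 8, nat_lit 18, nat_lit 16] (Rl.cmp (nat_lit 1995) (nat_lit 239))))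 (FT.node (nat_lit 2211) (FT.leaf (Fct.mk false (nat_lit 4) (nat_lit 0) (nat_lit 4) [nat_lit 2, nat_lit 3, nat_lit 8, nat_lit 6, nat_lit 4, nat_lit 5, nat_lit 3, nat_lit 4, nat_lit 2, nat_lit 3, nat_lit 8, nat_lit 1, nat_lit 2, nat_lit 3, nat_lit 4, nat_lit 5, nat_lit 2, nat_lit 3, nat_lit 8, nat_lit 4, nat_lit 3, nat_lit 2, nat_lit 1, nat_lit 9, nat_lit 4, nat_lit 3, nat_lit 2, nat_lit 8, nat_lit 3, nat_lit 10, nat_lit 12, nat_lit 8, nat_lit 16, nat_lit 14, nat_lit 8, nat_lit 19] (Rl.cmp (nat_lit 234) (nat_lit 2209)))) (FT.leaf (Fct.mk true (nat_lit 5) (nat_lit 24962) (nat_lit 5) [nat_lit 0, nat_lit 1, nat_lit 2, nat_lit 3, nat_lit 4, nat_lit 5, nat_lit 6, nat_lit 7, nat_lit 4, nat_lit 5, nat_lit 2, nat_lit 3, nat_lit 9, nat_lit 2, nat_lit 12, nat_lit 15] (Rl.rel (nat_lit 0) [nat_lit 3, nat_lit 4, nat_lit 5, nat_lit 2, nat_lit 3, nat_lit 4,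 nat_lit 1, nat_lit 2, nat_lit 3, nat_lit 8, nat_lit 0, nat_lit 1, nat_lit 2, nat_lit 3, nat_lit 4, nat_lit 5, nat_lit 6, nat_lit 7, nat_lit 5, nat_lit 4, nat_lit 3, nat_lit 8, nat_lit 2, nat_lit 3, nat_lit 4, nat_lit 5, nat_lit 4, nat_lit 3, nat_lit 2, nat_lit 8, nat_lit 3, nat_lit 16, nat_lit 8, nat_lit 12, nat_lit 15, nat_lit 16, nat_lit 8] (nat_lit 5) (nat_lit 2) [nat_lit 1869, nat_lit 2049, nat_lit 2210, nat_lit 2207] []))))))) (FT.node (nat_lit 2218) (FT.node (nat_lit 2215) (FT.node (nat_lit 2213) (FT.leaf (Fct.mk false (nat_lit 4) (nat_lit 0) (nat_lit 4) [nat_lit 5, nat_lit 4, nat_lit 3, nat_lit 8, nat_lit 2, nat_lit 3, nat_lit 4, nat_lit 5, nat_lit 2, nat_lit 1, nat_lit 4, nat_lit 3, nat_lit 2, nat_lit 8, nat_lit 3, nat_lit 8, nat_lit 10, nat_lit 1, nat_lit 14, nat_lit 12, nat_lit 18] (Rl.cmp (nat_lit 312) (nat_lit 234)))) (FT.node (nat_lit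 2214) (FT.leaf (Fct.mk false (nat_lit 4) (nat_lit 0) (nat_lit 4) [nat_lit 8, nat_lit 3, nat_lit 4, nat_lit 5, nat_lit 8, nat_lit 3, nat_lit 8, nat_lit 10, nat_lit 8] (Rl.cmp (nat_lit 243) (nat_lit 2212)))) (FT.leaf (Fct.mk false (nat_lit 4) (nat_lit 0) (nat_lit 4) [nat_lit 8, nat_lit 3, nat_lit 4, nat_lit 5, nat_lit 3, nat_lit 10, nat_lit 8] (Rl.cmp (nat_lit 239) (nat_lit 2213)))))) (FT.node (nat_lit 2216) (FT.leaf (Fct.mk true (nat_lit 5) (nat_lit 48572) (nat_lit 5) [] (Rl.rel (nat_lit 0) [nat_lit 3, nat_lit 8, nat_lit 4, nat_lit 5, nat_lit 3, nat_lit 4, nat_lit 2, nat_lit 3, nat_lit 8, nat_lit 1, nat_lit 2, nat_lit 3, nat_lit 4, nat_lit 5, nat_lit 6, nat_lit 7, nat_lit 3, nat_lit 8, nat_lit 5, nat_lit 2, nat_lit 3, nat_lit 4, nat_lit 1, nat_lit 2, nat_lit 3, nat_lit 8, nat_lit 0, nat_lit 1, nat_lit 2, nat_lit 3, nat_lit 4, nat_lit 5, nat_lit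 2, nat_lit 1, nat_lit 3, nat_lit 2, nat_lit 0, nat_lit 1, nat_lit 4, nat_lit 3, nat_lit 2, nat_lit 8, nat_lit 3, nat_lit 8, nat_lit 10, nat_lit 0, nat_lit 16, nat_lit 8, nat_lit 12, nat_lit 15, nat_lit 17, nat_lit 12, nat_lit 19] (nat_lit 5) (nat_lit 2) [nat_lit 2208, nat_lit 2214, nat_lit 2207] []))) (FT.node (nat_lit 2217) (FT.leaf (Fct.mk true (nat_lit 5) (nat_lit 3189) (nat_lit 5) [nat_lit 72] (Rl.t1 (nat_lit 2215) (nat_lit 1754)))) (FT.leaf (Fct.mk false (nat_lit 5) (nat_lit 0) (nat_lit 5) [nat_lit 5, nat_lit 4, nat_lit 3, nat_lit 8, nat_lit 2, nat_lit 3, nat_lit 4, nat_lit 1, nat_lit 2, nat_lit 3, nat_lit 8, nat_lit 5, nat_lit 6, nat_lit 4, nat_lit 5, nat_lit 3, nat_lit 4, nat_lit 2, nat_lit 3, nat_lit 8, nat_lit 1, nat_lit 2, nat_lit 3, nat_lit 4, nat_lit 5, nat_lit 1, nat_lit 2, nat_lit 3, nat_lit 8, nat_lit 4, nat_lit 3, nat_lit 2,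 nat_lit 1, nat_lit 9, nat_lit 4, nat_lit 3, nat_lit 2, nat_lit 8, nat_lit 3, nat_lit 11, nat_lit 10, nat_lit 15, nat_lit 14, nat_lit 8, nat_lit 18, nat_lit 16] (Rl.cmp (nat_lit 1754) (nat_lit 2094))))))) (FT.node (nat_lit 2221) (FT.node (nat_lit 2219) (FT.leaf (Fct.mk false (nat_lit 6) (nat_lit 0) (nat_lit 6) [nat_lit 5, nat_lit 4, nat_lit 1, nat_lit 2, nat_lit 3, nat_lit 8, nat_lit 0, nat_lit 1, nat_lit 2, nat_lit 3, nat_lit 4, nat_lit 5, nat_lit 6, nat_lit 7, nat_lit 6, nat_lit 5, nat_lit 4, nat_lit 3, nat_lit 8, nat_lit 0, nat_lit 1, nat_lit 2, nat_lit 3, nat_lit 4, nat_lit 5, nat_lit 0, nat_lit 2, nat_lit 15, nat_lit 14] (Rl.rel (nat_lit 0) [nat_lit 4, nat_lit 5, nat_lit 2, nat_lit 3, nat_lit 4, nat_lit 1, nat_lit 2, nat_lit 3, nat_lit 8, nat_lit 0, nat_lit 1, nat_lit 2, nat_lit 3, nat_lit 4, nat_lit 5, nat_lit 6, nat_lit 7, nat_lit 3,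 nat_lit 8, nat_lit 2, nat_lit 3, nat_lit 4, nat_lit 1, nat_lit 2, nat_lit 3, nat_lit 8, nat_lit 0, nat_lit 1, nat_lit 2, nat_lit 3, nat_lit 4, nat_lit 5, nat_lit 2, nat_lit 1, nat_lit 3, nat_lit 2, nat_lit 0, nat_lit 1, nat_lit 4, nat_lit 3, nat_lit 2, nat_lit 8, nat_lit 3, nat_lit 10, nat_lit 9, nat_lit 2, nat_lit 16, nat_lit 8, nat_lit 12, nat_lit 15, nat_lit 16, nat_lit 8] (nat_lit 5) (nat_lit 2) [nat_lit 2216, nat_lit 2094, nat_lit 1865] [nat_lit 2217, nat_lit 1865]))) (FT.node (nat_lit 2220) (FT.leaf (Fct.mk false (nat_lit 6) (nat_lit 0) (nat_lit 6) [nat_lit 8, nat_lit 3, nat_lit 4, nat_lit 2, nat_lit 3, nat_lit 8, nat_lit 7, nat_lit 5, nat_lit 6, nat_lit 4, nat_lit 5, nat_lit 3, nat_lit 4, nat_lit 2, nat_lit 3, nat_lit 8, nat_lit 1, nat_lit 2, nat_lit 3, nat_lit 4, nat_lit 5, nat_lit 6, nat_lit 7, nat_lit 6, nat_lit 2, nat_lit 3, nat_lit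 8, nat_lit 4, nat_lit 3, nat_lit 2, nat_lit 1, nat_lit 9, nat_lit 4, nat_lit 3, nat_lit 2, nat_lit 8, nat_lit 3, nat_lit 2, nat_lit 8, nat_lit 10, nat_lit 1, nat_lit 8, nat_lit 12, nat_lit 15, nat_lit 13, nat_lit 12, nat_lit 19] (Rl.cmp (nat_lit 2084) (nat_lit 585)))) (FT.leaf (Fct.mk false (nat_lit 6) (nat_lit 0) (nat_lit 6) [nat_lit 8, nat_lit 5, nat_lit 3, nat_lit 4, nat_lit 2, nat_lit 3, nat_lit 8, nat_lit 6, nat_lit 7, nat_lit 5, nat_lit 6, nat_lit 4, nat_lit 5, nat_lit 3, nat_lit 4, nat_lit 2, nat_lit 3, nat_lit 8, nat_lit 1, nat_lit 2, nat_lit 3, nat_lit 4, nat_lit 5, nat_lit 6, nat_lit 7, nat_lit 6, nat_lit 3, nat_lit 8, nat_lit 4, nat_lit 3, nat_lit 2, nat_lit 1, nat_lit 9, nat_lit 4, nat_lit 3, nat_lit 2, nat_lit 8, nat_lit 3, nat_lit 2, nat_lit 8, nat_lit 10, nat_lit 1, nat_lit 8, nat_lit 12, nat_lit 15, nat_lit 13, nat_lit 12, nat_lit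 19] (Rl.cmp (nat_lit 553) (nat_lit 2219)))))) (FT.node (nat_lit 2223) (FT.node (nat_lit 2222) (FT.leaf (Fct.mk false (nat_lit 6) (nat_lit 0) (nat_lit 6) [nat_lit 8, nat_lit 5, nat_lit 3, nat_lit 4, nat_lit 2, nat_lit 3, nat_lit 8, nat_lit 6, nat_lit 7, nat_lit 5, nat_lit 6, nat_lit 4, nat_lit 5, nat_lit 3, nat_lit 4, nat_lit 2, nat_lit 3, nat_lit 8, nat_lit 0, nat_lit 1, nat_lit 2, nat_lit 3, nat_lit 4, nat_lit 5, nat_lit 6, nat_lit 7, nat_lit 6, nat_lit 1, nat_lit 3, nat_lit 2, nat_lit 0, nat_lit 1, nat_lit 9, nat_lit 4, nat_lit 3, nat_lit 2, nat_lit 8, nat_lit 3, nat_lit 10, nat_lit 9, nat_lit 2, nat_lit 8, nat_lit 19, nat_lit 16] (Rl.cmp (nat_lit 2218) (nat_lit 2220)))) (FT.leaf (Fct.mk false (nat_lit 6) (nat_lit 0) (nat_lit 6) [nat_lit 4, nat_lit 3, nat_lit 8, nat_lit 2, nat_lit 3, nat_lit 4, nat_lit 1, nat_lit 2, nat_lit 3, nat_lit 8,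 nat_lit 6, nat_lit 7, nat_lit 5, nat_lit 6, nat_lit 4, nat_lit 5, nat_lit 3, nat_lit 4, nat_lit 2, nat_lit 3, nat_lit 8, nat_lit 1, nat_lit 2, nat_lit 3, nat_lit 4, nat_lit 5, nat_lit 6, nat_lit 7, nat_lit 2, nat_lit 3, nat_lit 8, nat_lit 4, nat_lit 5, nat_lit 3, nat_lit 4, nat_lit 2, nat_lit 3, nat_lit 8, nat_lit 1, nat_lit 2, nat_lit 3, nat_lit 4, nat_lit 5, nat_lit 2, nat_lit 0, nat_lit 1, nat_lit 9, nat_lit 4, nat_lit 3, nat_lit 2, nat_lit 8, nat_lit 3, nat_lit 9, nat_lit 16, nat_lit 15, nat_lit 14, nat_lit 13, nat_lit 12] (Rl.cmp (nat_lit 2084) (nat_lit 2221))))) (FT.node (nat_lit 2224) (FT.leaf (Fct.mk false (nat_lit 6) (nat_lit 0) (nat_lit 6) [nat_lit 5, nat_lit 4, nat_lit 3, nat_lit 8, nat_lit 2, nat_lit 3, nat_lit 4, nat_lit 1, nat_lit 2, nat_lit 3, nat_lit 8, nat_lit 7, nat_lit 5, nat_lit 6, nat_lit 4, nat_lit 5, nat_lit 3, nat_lit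 4, nat_lit 2, nat_lit 3, nat_lit 8, nat_lit 1, nat_lit 2, nat_lit 3, nat_lit 4, nat_lit 5, nat_lit 6, nat_lit 7, nat_lit 6, nat_lit 5, nat_lit 4, nat_lit 3, nat_lit 8, nat_lit 1, nat_lit 2, nat_lit 3, nat_lit 4, nat_lit 5, nat_lit 1, nat_lit 2, nat_lit 0, nat_lit 1, nat_lit 4, nat_lit 3, nat_lit 2, nat_lit 8, nat_lit 3, nat_lit 0, nat_lit 14, nat_lit 16] (Rl.cmp (nat_lit 553) (nat_lit 2222)))) (FT.leaf (Fct.mk false (nat_lit 6) (nat_lit 0) (nat_lit 6) [nat_lit 2, nat_lit 1, nat_lit 3, nat_lit 2, nat_lit 0, nat_lit 1, nat_lit 9, nat_lit 4, nat_lit 3, nat_lit 2, nat_lit 8, nat_lit 3, nat_lit 11, nat_lit 10, nat_lit 8, nat_lit 12, nat_lit 15, nat_lit 14, nat_lit 16, nat_lit 8, nat_lit 19] (Rl.cmp (nat_lit 2084) (nat_lit 2223))))))))) (FT.node (nat_lit 2237) (FT.node (nat_lit 2231) (FT.node (nat_lit 2228) (FT.node (nat_lit 2226) (FT.leaf (Fct.mk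 true (nat_lit 6) (nat_lit 132) (nat_lit 5) [nat_lit 6, nat_lit 5, nat_lit 4, nat_lit 3, nat_lit 8, nat_lit 2, nat_lit 3, nat_lit 4, nat_lit 5, nat_lit 6, nat_lit 7, nat_lit 2, nat_lit 3, nat_lit 4, nat_lit 1, nat_lit 2, nat_lit 3, nat_lit 8, nat_lit 0, nat_lit 1, nat_lit 2, nat_lit 3, nat_lit 4, nat_lit 5, nat_lit 1, nat_lit 2, nat_lit 0, nat_lit 1, nat_lit 9, nat_lit 4, nat_lit 3, nat_lit 2, nat_lit 8, nat_lit 3, nat_lit 2, nat_lit 10, nat_lit 1, nat_lit 15, nat_lit 8, nat_lit 18] (Rl.t1 (nat_lit 571) (nat_lit 2224)))) (FT.node (nat_lit 2227) (FT.leaf (Fct.mk false (nat_lit 6) (nat_lit 0) (nat_lit 6) [nat_lit 8, nat_lit 5, nat_lit 3, nat_lit 4, nat_lit 2, nat_lit 3, nat_lit 8, nat_lit 6, nat_lit 7, nat_lit 5, nat_lit 6, nat_lit 4, nat_lit 5, nat_lit 3, nat_lit 4, nat_lit 2, nat_lit 3, nat_lit 8, nat_lit 1, nat_lit 2, nat_lit 3, nat_lit 4,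 nat_lit 5, nat_lit 6, nat_lit 7, nat_lit 6, nat_lit 8, nat_lit 3, nat_lit 2, nat_lit 1, nat_lit 4, nat_lit 3, nat_lit 2, nat_lit 8, nat_lit 3, nat_lit 2, nat_lit 10, nat_lit 1, nat_lit 12, nat_lit 15, nat_lit 14, nat_lit 13, nat_lit 12, nat_lit 19, nat_lit 16] (Rl.cmp (nat_lit 553) (nat_lit 2084)))) (FT.leaf (Fct.mk false (nat_lit 6) (nat_lit 0) (nat_lit 6) [nat_lit 8, nat_lit 5, nat_lit 3, nat_lit 4, nat_lit 2, nat_lit 3, nat_lit 8, nat_lit 6, nat_lit 7, nat_lit 5, nat_lit 6, nat_lit 4, nat_lit 5, nat_lit 3, nat_lit 4, nat_lit 2, nat_lit 3, nat_lit 8, nat_lit 0, nat_lit 1, nat_lit 2, nat_lit 3, nat_lit 4, nat_lit 5, nat_lit 6, nat_lit 7, nat_lit 6, nat_lit 1, nat_lit 2, nat_lit 0, nat_lit 1, nat_lit 3, nat_lit 2, nat_lit 8, nat_lit 3, nat_lit 1, nat_lit 0, nat_lit 2, nat_lit 8, nat_lit 19, nat_lit 16] (Rl.cmp (nat_lit 2218) (nat_lit 2226))))))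 (FT.node (nat_lit 2229) (FT.leaf (Fct.mk false (nat_lit 6) (nat_lit 0) (nat_lit 6) [nat_lit 4, nat_lit 3, nat_lit 8, nat_lit 2, nat_lit 3, nat_lit 4, nat_lit 1, nat_lit 2, nat_lit 3, nat_lit 8, nat_lit 6, nat_lit 7, nat_lit 5, nat_lit 6, nat_lit 4, nat_lit 5, nat_lit 3, nat_lit 4, nat_lit 2, nat_lit 3, nat_lit 8, nat_lit 1, nat_lit 2, nat_lit 3, nat_lit 4, nat_lit 5, nat_lit 6, nat_lit 7, nat_lit 2, nat_lit 3, nat_lit 8, nat_lit 4, nat_lit 5, nat_lit 3, nat_lit 4, nat_lit 2, nat_lit 3, nat_lit 8, nat_lit 1, nat_lit 2, nat_lit 3, nat_lit 4, nat_lit 5, nat_lit 1, nat_lit 3, nat_lit 2, nat_lit 8, nat_lit 3, nat_lit 1, nat_lit 9, nat_lit 15, nat_lit 14, nat_lit 17, nat_lit 12, nat_lit 19, nat_lit 16] (Rl.cmp (nat_lit 2084) (nat_lit 2227)))) (FT.node (nat_lit 2230) (FT.leaf (Fct.mk false (nat_lit 6) (nat_lit 0) (nat_lit 6) [nat_lit 5, nat_lit 4,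 nat_lit 3, nat_lit 8, nat_lit 2, nat_lit 3, nat_lit 4, nat_lit 1, nat_lit 2, nat_lit 3, nat_lit 8, nat_lit 7, nat_lit 5, nat_lit 6, nat_lit 4, nat_lit 5, nat_lit 3, nat_lit 4, nat_lit 2, nat_lit 3, nat_lit 8, nat_lit 1, nat_lit 2, nat_lit 3, nat_lit 4, nat_lit 5, nat_lit 6, nat_lit 7, nat_lit 6, nat_lit 5, nat_lit 4, nat_lit 3, nat_lit 8, nat_lit 1, nat_lit 2, nat_lit 3, nat_lit 4, nat_lit 5, nat_lit 2, nat_lit 1, nat_lit 4, nat_lit 3, nat_lit 2, nat_lit 8, nat_lit 3, nat_lit 8, nat_lit 10, nat_lit 12, nat_lit 15, nat_lit 12, nat_lit 16] (Rl.cmp (nat_lit 553) (nat_lit 2228)))) (FT.leaf (Fct.mk false (nat_lit 6) (nat_lit 0) (nat_lit 6) [nat_lit 2, nat_lit 1, nat_lit 3, nat_lit 2, nat_lit 0, nat_lit 1, nat_lit 4, nat_lit 3, nat_lit 2, nat_lit 8, nat_lit 3, nat_lit 11, nat_lit 8, nat_lit 10, nat_lit 1, nat_lit 8, nat_lit 12, nat_lit 15, nat_lit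 14, nat_lit 16, nat_lit 8, nat_lit 19] (Rl.cmp (nat_lit 2084) (nat_lit 2229))))))) (FT.node (nat_lit 2234) (FT.node (nat_lit 2232) (FT.leaf (Fct.mk true (nat_lit 6) (nat_lit 8) (nat_lit 4) [nat_lit 8, nat_lit 3, nat_lit 4, nat_lit 2, nat_lit 3, nat_lit 8, nat_lit 5, nat_lit 6, nat_lit 4, nat_lit 5, nat_lit 3, nat_lit 4, nat_lit 2, nat_lit 3, nat_lit 8, nat_lit 0, nat_lit 1, nat_lit 2, nat_lit 3, nat_lit 4, nat_lit 5, nat_lit 6, nat_lit 7, nat_lit 3, nat_lit 4, nat_lit 5, nat_lit 4, nat_lit 11, nat_lit 1, nat_lit 16, nat_lit 15, nat_lit 14, nat_lit 13, nat_lit 12, nat_lit 16] (Rl.t1 (nat_lit 2194) (nat_lit 2230)))) (FT.node (nat_lit 2233) (FT.leaf (Fct.mk true (nat_lit 4) (nat_lit 16248) (nat_lit 2) [nat_lit 5, nat_lit 4, nat_lit 3, nat_lit 8, nat_lit 2, nat_lit 3, nat_lit 4, nat_lit 5, nat_lit 6, nat_lit 7, nat_lit 2, nat_lit 3, nat_lit 4,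 nat_lit 5, nat_lit 1, nat_lit 0, nat_lit 2, nat_lit 16, nat_lit 12, nat_lit 15, nat_lit 14, nat_lit 8] (Rl.rel (nat_lit 0) [nat_lit 8, nat_lit 3, nat_lit 4, nat_lit 5, nat_lit 6, nat_lit 7, nat_lit 8, nat_lit 2, nat_lit 3, nat_lit 4, nat_lit 5, nat_lit 8] (nat_lit 6) (nat_lit 1) [nat_lit 2231] [nat_lit 543]))) (FT.leaf (Fct.mk false (nat_lit 4) (nat_lit 0) (nat_lit 4) [nat_lit 8, nat_lit 3, nat_lit 4, nat_lit 2, nat_lit 3, nat_lit 8, nat_lit 5, nat_lit 6, nat_lit 4, nat_lit 5, nat_lit 3, nat_lit 4, nat_lit 2, nat_lit 3, nat_lit 8, nat_lit 1, nat_lit 2, nat_lit 3, nat_lit 4, nat_lit 5, nat_lit 2, nat_lit 1, nat_lit 3, nat_lit 2, nat_lit 8, nat_lit 3, nat_lit 1, nat_lit 9, nat_lit 8, nat_lit 16, nat_lit 14, nat_lit 16, nat_lit 8, nat_lit 19] (Rl.cmp (nat_lit 1995) (nat_lit 2163)))))) (FT.node (nat_lit 2235) (FT.leaf (Fct.mk false (nat_lit 6)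 (nat_lit 0) (nat_lit 6) [nat_lit 2, nat_lit 3, nat_lit 4, nat_lit 5, nat_lit 6, nat_lit 7, nat_lit 6, nat_lit 11, nat_lit 10, nat_lit 13] (Rl.cmp (nat_lit 585) (nat_lit 557)))) (FT.node (nat_lit 2236) (FT.leaf (Fct.mk false (nat_lit 6) (nat_lit 0) (nat_lit 6) [nat_lit 8, nat_lit 3, nat_lit 4, nat_lit 2, nat_lit 3, nat_lit 8, nat_lit 7, nat_lit 5, nat_lit 6, nat_lit 4, nat_lit 5, nat_lit 3, nat_lit 4, nat_lit 2, nat_lit 3, nat_lit 8, nat_lit 0, nat_lit 1, nat_lit 2, nat_lit 3, nat_lit 4, nat_lit 5, nat_lit 6, nat_lit 7, nat_lit 0, nat_lit 1, nat_lit 2, nat_lit 3, nat_lit 4, nat_lit 5, nat_lit 8, nat_lit 3, nat_lit 2, nat_lit 0, nat_lit 1, nat_lit 4, nat_lit 3, nat_lit 2, nat_lit 8, nat_lit 3, nat_lit 11, nat_lit 2, nat_lit 8, nat_lit 10, nat_lit 1, nat_lit 8, nat_lit 12, nat_lit 15, nat_lit 13, nat_lit 12, nat_lit 19] (Rl.cmp (nat_lit 2084)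 (nat_lit 2234)))) (FT.leaf (Fct.mk false (nat_lit 6) (nat_lit 0) (nat_lit 6) [nat_lit 8, nat_lit 3, nat_lit 4, nat_lit 2, nat_lit 3, nat_lit 8, nat_lit 7, nat_lit 5, nat_lit 6, nat_lit 4, nat_lit 5, nat_lit 3, nat_lit 4, nat_lit 2, nat_lit 3, nat_lit 8, nat_lit 1, nat_lit 2, nat_lit 3, nat_lit 4, nat_lit 5, nat_lit 6, nat_lit 7, nat_lit 0, nat_lit 1, nat_lit 2, nat_lit 3, nat_lit 4, nat_lit 5, nat_lit 1, nat_lit 2, nat_lit 0, nat_lit 1, nat_lit 4, nat_lit 3, nat_lit 2, nat_lit 8, nat_lit 3, nat_lit 8, nat_lit 10, nat_lit 9, nat_lit 2, nat_lit 12, nat_lit 19, nat_lit 16] (Rl.cmp (nat_lit 2218) (nat_lit 2235)))))))) (FT.node (nat_lit 2243) (FT.node (nat_lit 2240) (FT.node (nat_lit 2238) (FT.leaf (Fct.mk true (nat_lit 6) (nat_lit 95243) (nat_lit 6) [nat_lit 8, nat_lit 7, nat_lit 5, nat_lit 6, nat_lit 4, nat_lit 5, nat_lit 3, nat_lit 4, nat_lit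 2, nat_lit 3, nat_lit 8, nat_lit 1, nat_lit 2, nat_lit 3, nat_lit 4, nat_lit 5, nat_lit 6, nat_lit 7, nat_lit 4, nat_lit 2, nat_lit 3, nat_lit 8, nat_lit 5, nat_lit 6, nat_lit 4, nat_lit 5, nat_lit 3, nat_lit 4, nat_lit 2, nat_lit 3, nat_lit 8, nat_lit 0, nat_lit 1, nat_lit 2, nat_lit 3, nat_lit 4, nat_lit 5, nat_lit 3, nat_lit 2, nat_lit 8, nat_lit 3, nat_lit 11, nat_lit 2, nat_lit 8] (Rl.rel (nat_lit 0) [nat_lit 8, nat_lit 3, nat_lit 4, nat_lit 5, nat_lit 6, nat_lit 7, nat_lit 8, nat_lit 2, nat_lit 3, nat_lit 4, nat_lit 5, nat_lit 1, nat_lit 8] (nat_lit 6) (nat_lit 2) [nat_lit 2231, nat_lit 2233, nat_lit 2192] []))) (FT.node (nat_lit 2239) (FT.leaf (Fct.mk true (nat_lit 6) (nat_lit 628) (nat_lit 6) [nat_lit 5, nat_lit 4, nat_lit 3, nat_lit 8, nat_lit 2, nat_lit 3, nat_lit 4, nat_lit 5, nat_lit 6, nat_lit 7, nat_lit 6, nat_lit 5, nat_lit 4,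 nat_lit 1, nat_lit 2, nat_lit 3, nat_lit 8, nat_lit 0, nat_lit 1, nat_lit 2, nat_lit 3, nat_lit 4, nat_lit 5, nat_lit 4, nat_lit 1, nat_lit 0, nat_lit 2, nat_lit 15, nat_lit 8] (Rl.t1 (nat_lit 2237) (nat_lit 2236)))) (FT.leaf (Fct.mk false (nat_lit 4) (nat_lit 0) (nat_lit 4) [nat_lit 5, nat_lit 4, nat_lit 3, nat_lit 8, nat_lit 2, nat_lit 3, nat_lit 4, nat_lit 5, nat_lit 1] (Rl.cmp (nat_lit 234) (nat_lit 2005)))))) (FT.node (nat_lit 2241) (FT.leaf (Fct.mk true (nat_lit 3) (nat_lit 2267) (nat_lit 6) [nat_lit 7, nat_lit 6, nat_lit 5, nat_lit 4, nat_lit 1, nat_lit 2, nat_lit 3, nat_lit 8, nat_lit 0, nat_lit 1, nat_lit 2, nat_lit 3, nat_lit 4, nat_lit 5, nat_lit 6, nat_lit 7, nat_lit 5, nat_lit 4, nat_lit 3, nat_lit 8, nat_lit 2, nat_lit 3, nat_lit 4, nat_lit 5, nat_lit 2, nat_lit 1, nat_lit 4, nat_lit 3, nat_lit 2, nat_lit 0, nat_lit 1, nat_lit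 9, nat_lit 4, nat_lit 3, nat_lit 2, nat_lit 8, nat_lit 3, nat_lit 10, nat_lit 0, nat_lit 8, nat_lit 12, nat_lit 15, nat_lit 14, nat_lit 16, nat_lit 8, nat_lit 18] (Rl.rel (nat_lit 0) [nat_lit 8, nat_lit 3, nat_lit 4, nat_lit 5, nat_lit 6, nat_lit 7, nat_lit 2, nat_lit 3, nat_lit 4, nat_lit 1, nat_lit 2, nat_lit 3, nat_lit 8, nat_lit 0, nat_lit 1, nat_lit 2, nat_lit 3, nat_lit 4, nat_lit 5, nat_lit 8, nat_lit 3, nat_lit 8, nat_lit 10, nat_lit 8, nat_lit 16] (nat_lit 6) (nat_lit 2) [nat_lit 2231, nat_lit 2239, nat_lit 714, nat_lit 2043] []))) (FT.node (nat_lit 2242) (FT.leaf (Fct.mk true (nat_lit 3) (nat_lit 2181) (nat_lit 6) [nat_lit 7, nat_lit 6, nat_lit 5, nat_lit 4, nat_lit 3, nat_lit 8, nat_lit 2, nat_lit 3, nat_lit 4, nat_lit 5, nat_lit 6, nat_lit 7, nat_lit 4, nat_lit 3, nat_lit 8, nat_lit 2, nat_lit 3, nat_lit 4, nat_lit 5, nat_lit 1,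 nat_lit 3, nat_lit 2, nat_lit 0, nat_lit 1, nat_lit 4, nat_lit 3, nat_lit 2, nat_lit 8, nat_lit 3, nat_lit 10, nat_lit 0, nat_lit 8, nat_lit 12, nat_lit 15, nat_lit 14, nat_lit 16, nat_lit 8, nat_lit 18] (Rl.t1 (nat_lit 2240) (nat_lit 206)))) (FT.leaf (Fct.mk true (nat_lit 6) (nat_lit 10643) (nat_lit 3) [nat_lit 7, nat_lit 6, nat_lit 5, nat_lit 4, nat_lit 3, nat_lit 8, nat_lit 2, nat_lit 3, nat_lit 4, nat_lit 5, nat_lit 6, nat_lit 7, nat_lit 6, nat_lit 3, nat_lit 4, nat_lit 5, nat_lit 2, nat_lit 3, nat_lit 4, nat_lit 1, nat_lit 2, nat_lit 3, nat_lit 8, nat_lit 0, nat_lit 1, nat_lit 2, nat_lit 3, nat_lit 4, nat_lit 5, nat_lit 2, nat_lit 0, nat_lit 1, nat_lit 4, nat_lit 3, nat_lit 2, nat_lit 8, nat_lit 3, nat_lit 2, nat_lit 8, nat_lit 10, nat_lit 1, nat_lit 12, nat_lit 15, nat_lit 19, nat_lit 16] (Rl.inv (nat_lit 2241))))))) (FT.node (nat_lit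 2246) (FT.node (nat_lit 2244) (FT.leaf (Fct.mk true (nat_lit 6) (nat_lit 786) (nat_lit 3) [nat_lit 8, nat_lit 3, nat_lit 4, nat_lit 5, nat_lit 6, nat_lit 7, nat_lit 5, nat_lit 2, nat_lit 3, nat_lit 4, nat_lit 1, nat_lit 2, nat_lit 3, nat_lit 8, nat_lit 0, nat_lit 1, nat_lit 2, nat_lit 3, nat_lit 4, nat_lit 5, nat_lit 1, nat_lit 3, nat_lit 2, nat_lit 8, nat_lit 3, nat_lit 11, nat_lit 15, nat_lit 14, nat_lit 13, nat_lit 19] (Rl.t1 (nat_lit 2242) (nat_lit 565)))) (FT.node (nat_lit 2245) (FT.leaf (Fct.mk false (nat_lit 2) (nat_lit 0) (nat_lit 2) [nat_lit 1, nat_lit 2, nat_lit 3, nat_lit 8, nat_lit 4, nat_lit 5, nat_lit 3, nat_lit 4, nat_lit 2, nat_lit 3, nat_lit 8, nat_lit 1, nat_lit 2, nat_lit 3, nat_lit 4, nat_lit 5, nat_lit 8, nat_lit 3, nat_lit 2, nat_lit 1, nat_lit 9, nat_lit 4, nat_lit 3, nat_lit 2, nat_lit 8, nat_lit 3, nat_lit 10, nat_lit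 2, nat_lit 8, nat_lit 10, nat_lit 1, nat_lit 12, nat_lit 8, nat_lit 16, nat_lit 14, nat_lit 8] (Rl.cmp (nat_lit 1850) (nat_lit 2168)))) (FT.leaf (Fct.mk false (nat_lit 6) (nat_lit 0) (nat_lit 6) [nat_lit 6, nat_lit 7, nat_lit 2, nat_lit 3, nat_lit 4, nat_lit 5, nat_lit 3, nat_lit 9, nat_lit 2, nat_lit 12] (Rl.cmp (nat_lit 557) (nat_lit 557)))))) (FT.node (nat_lit 2248) (FT.node (nat_lit 2247) (FT.leaf (Fct.mk true (nat_lit 2) (nat_lit 63435) (nat_lit 6) [nat_lit 3, nat_lit 8, nat_lit 4, nat_lit 5, nat_lit 3, nat_lit 4, nat_lit 1, nat_lit 2, nat_lit 3, nat_lit 8, nat_lit 6, nat_lit 7, nat_lit 5, nat_lit 6, nat_lit 4, nat_lit 5, nat_lit 3, nat_lit 4, nat_lit 2, nat_lit 3, nat_lit 8, nat_lit 1, nat_lit 2, nat_lit 3, nat_lit 4, nat_lit 5, nat_lit 6, nat_lit 7, nat_lit 8, nat_lit 5, nat_lit 6, nat_lit 4, nat_lit 5, nat_lit 3, nat_lit 4, nat_lit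 2, nat_lit 3, nat_lit 8, nat_lit 1, nat_lit 2, nat_lit 3, nat_lit 4, nat_lit 5, nat_lit 1, nat_lit 3, nat_lit 8, nat_lit 4, nat_lit 3, nat_lit 2, nat_lit 0, nat_lit 1, nat_lit 9, nat_lit 4, nat_lit 3, nat_lit 2, nat_lit 8, nat_lit 3, nat_lit 1, nat_lit 9, nat_lit 12, nat_lit 8, nat_lit 16, nat_lit 14, nat_lit 12, nat_lit 19, nat_lit 16] (Rl.rel (nat_lit 0) [nat_lit 3, nat_lit 4, nat_lit 2, nat_lit 3, nat_lit 8, nat_lit 1, nat_lit 2, nat_lit 3, nat_lit 4, nat_lit 5, nat_lit 6, nat_lit 7, nat_lit 4, nat_lit 5, nat_lit 1, nat_lit 14] (nat_lit 6) (nat_lit 2) [nat_lit 2238, nat_lit 2218, nat_lit 543] []))) (FT.leaf (Fct.mk true (nat_lit 2) (nat_lit 20929) (nat_lit 6) [nat_lit 4, nat_lit 5, nat_lit 3, nat_lit 4, nat_lit 1, nat_lit 2, nat_lit 3, nat_lit 8, nat_lit 6, nat_lit 7, nat_lit 5, nat_lit 6, nat_lit 4, nat_lit 5, nat_lit 3, nat_lit 4, nat_lit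 2, nat_lit 3, nat_lit 8, nat_lit 1, nat_lit 2, nat_lit 3, nat_lit 4, nat_lit 5, nat_lit 6, nat_lit 7, nat_lit 3, nat_lit 4, nat_lit 2, nat_lit 3, nat_lit 8, nat_lit 5, nat_lit 6, nat_lit 4, nat_lit 5, nat_lit 3, nat_lit 4, nat_lit 2, nat_lit 3, nat_lit 8, nat_lit 1, nat_lit 2, nat_lit 3, nat_lit 4, nat_lit 5, nat_lit 8, nat_lit 3, nat_lit 2, nat_lit 0, nat_lit 1, nat_lit 9, nat_lit 4, nat_lit 3, nat_lit 2, nat_lit 8, nat_lit 3, nat_lit 9, nat_lit 8, nat_lit 16, nat_lit 15, nat_lit 14, nat_lit 17, nat_lit 12, nat_lit 18] (Rl.t1 (nat_lit 2246) (nat_lit 2244))))) (FT.node (nat_lit 2249) (FT.leaf (Fct.mk true (nat_lit 6) (nat_lit 47) (nat_lit 2) [nat_lit 8, nat_lit 5, nat_lit 3, nat_lit 4, nat_lit 2, nat_lit 3, nat_lit 8, nat_lit 6, nat_lit 7, nat_lit 5, nat_lit 6, nat_lit 4, nat_lit 5, nat_lit 3, nat_lit 4, nat_lit 2, nat_lit 3, nat_lit 8, nat_lit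 0, nat_lit 1, nat_lit 2, nat_lit 3, nat_lit 4, nat_lit 5, nat_lit 6, nat_lit 7, nat_lit 5, nat_lit 3, nat_lit 4, nat_lit 2, nat_lit 3, nat_lit 8, nat_lit 0, nat_lit 1, nat_lit 2, nat_lit 3, nat_lit 4, nat_lit 5, nat_lit 1, nat_lit 2, nat_lit 3, nat_lit 2, nat_lit 8, nat_lit 10, nat_lit 1, nat_lit 8, nat_lit 12, nat_lit 15, nat_lit 17, nat_lit 18] (Rl.inv (nat_lit 2247)))) (FT.leaf (Fct.mk true (nat_lit 6) (nat_lit 16) (nat_lit 2) [nat_lit 8, nat_lit 5, nat_lit 3, nat_lit 4, nat_lit 2, nat_lit 3, nat_lit 8, nat_lit 6, nat_lit 7, nat_lit 5, nat_lit 6, nat_lit 4, nat_lit 5, nat_lit 3, nat_lit 4, nat_lit 2, nat_lit 3, nat_lit 8, nat_lit 0, nat_lit 1, nat_lit 2, nat_lit 3, nat_lit 4, nat_lit 5, nat_lit 6, nat_lit 7, nat_lit 5, nat_lit 2, nat_lit 3, nat_lit 4, nat_lit 1, nat_lit 2, nat_lit 3, nat_lit 8, nat_lit 0, nat_lit 1, nat_lit 2, nat_lit 3,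 nat_lit 4, nat_lit 5, nat_lit 1, nat_lit 2, nat_lit 3, nat_lit 8, nat_lit 10, nat_lit 1, nat_lit 8, nat_lit 12, nat_lit 15, nat_lit 17, nat_lit 12, nat_lit 18] (Rl.t1 (nat_lit 2248) (nat_lit 2245)))))))))

/-- some facts -/
noncomputable def ftc45 : FT := FT.node (nat_lit 2275) (FT.node (nat_lit 2262) (FT.node (nat_lit 2256) (FT.node (nat_lit 2253) (FT.node (nat_lit 2251) (FT.leaf (Fct.mk false (nat_lit 6) (nat_lit 0) (nat_lit 6) [nat_lit 3, nat_lit 8, nat_lit 2, nat_lit 3, nat_lit 4, nat_lit 1, nat_lit 2, nat_lit 3, nat_lit 8, nat_lit 5, nat_lit 6, nat_lit 4, nat_lit 5, nat_lit 3, nat_lit 4, nat_lit 2, nat_lit 3, nat_lit 8, nat_lit 1, nat_lit 2, nat_lit 3, nat_lit 4, nat_lit 5, nat_lit 6, nat_lit 7, nat_lit 1, nat_lit 2, nat_lit 3, nat_lit 8, nat_lit 4, nat_lit 5, nat_lit 3, nat_lit 4, nat_lit 2, nat_lit 3, nat_lit 8, nat_lit 1, nat_lit 2,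 nat_lit 3, nat_lit 4, nat_lit 5, nat_lit 4, nat_lit 3, nat_lit 2, nat_lit 1, nat_lit 8, nat_lit 3, nat_lit 2, nat_lit 0, nat_lit 1, nat_lit 4, nat_lit 3, nat_lit 2, nat_lit 8, nat_lit 3, nat_lit 1, nat_lit 9, nat_lit 14] (Rl.cmp (nat_lit 2084) (nat_lit 2084)))) (FT.node (nat_lit 2252) (FT.leaf (Fct.mk false (nat_lit 6) (nat_lit 0) (nat_lit 6) [nat_lit 4, nat_lit 3, nat_lit 8, nat_lit 2, nat_lit 3, nat_lit 4, nat_lit 1, nat_lit 2, nat_lit 3, nat_lit 8, nat_lit 5, nat_lit 6, nat_lit 4, nat_lit 5, nat_lit 3, nat_lit 4, nat_lit 2, nat_lit 3, nat_lit 8, nat_lit 1, nat_lit 2, nat_lit 3, nat_lit 4, nat_lit 5, nat_lit 6, nat_lit 7, nat_lit 3, nat_lit 8, nat_lit 4, nat_lit 5, nat_lit 3, nat_lit 4, nat_lit 2, nat_lit 3, nat_lit 8, nat_lit 1, nat_lit 2, nat_lit 3, nat_lit 4, nat_lit 5, nat_lit 4, nat_lit 3, nat_lit 2, nat_lit 8, nat_lit 3, nat_lit 11,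 nat_lit 1, nat_lit 8, nat_lit 12, nat_lit 15, nat_lit 14, nat_lit 17, nat_lit 19, nat_lit 16] (Rl.cmp (nat_lit 585) (nat_lit 2250)))) (FT.leaf (Fct.mk false (nat_lit 6) (nat_lit 0) (nat_lit 6) [nat_lit 3, nat_lit 8, nat_lit 6, nat_lit 7, nat_lit 5, nat_lit 6, nat_lit 4, nat_lit 5, nat_lit 3, nat_lit 4, nat_lit 1, nat_lit 2, nat_lit 3, nat_lit 8, nat_lit 0, nat_lit 1, nat_lit 2, nat_lit 3, nat_lit 4, nat_lit 5, nat_lit 6, nat_lit 7, nat_lit 5, nat_lit 4, nat_lit 2, nat_lit 3, nat_lit 8, nat_lit 1, nat_lit 2, nat_lit 3, nat_lit 4, nat_lit 5, nat_lit 2, nat_lit 1, nat_lit 3, nat_lit 2, nat_lit 8, nat_lit 3, nat_lit 8, nat_lit 10, nat_lit 16, nat_lit 14, nat_lit 19, nat_lit 16] (Rl.cmp (nat_lit 2218) (nat_lit 2251)))))) (FT.node (nat_lit 2254) (FT.leaf (Fct.mk false (nat_lit 6) (nat_lit 0) (nat_lit 6) [nat_lit 5, nat_lit 4, nat_lit 2, nat_lit 3,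 nat_lit 8, nat_lit 1, nat_lit 2, nat_lit 3, nat_lit 4, nat_lit 5, nat_lit 6, nat_lit 7, nat_lit 8, nat_lit 2, nat_lit 3, nat_lit 4, nat_lit 5, nat_lit 3, nat_lit 2, nat_lit 8, nat_lit 3, nat_lit 10, nat_lit 12, nat_lit 8, nat_lit 16, nat_lit 14, nat_lit 8, nat_lit 18] (Rl.cmp (nat_lit 2084) (nat_lit 2252)))) (FT.node (nat_lit 2255) (FT.leaf (Fct.mk true (nat_lit 4) (nat_lit 94524) (nat_lit 6) [nat_lit 3, nat_lit 8, nat_lit 4, nat_lit 5, nat_lit 3, nat_lit 4, nat_lit 2, nat_lit 3, nat_lit 8, nat_lit 1, nat_lit 2, nat_lit 3, nat_lit 4, nat_lit 5, nat_lit 6, nat_lit 7, nat_lit 8, nat_lit 3, nat_lit 4, nat_lit 1, nat_lit 2, nat_lit 3, nat_lit 8, nat_lit 5, nat_lit 6, nat_lit 4, nat_lit 5, nat_lit 3, nat_lit 4, nat_lit 2, nat_lit 3, nat_lit 8, nat_lit 1, nat_lit 2, nat_lit 3, nat_lit 4, nat_lit 5, nat_lit 8, nat_lit 10, nat_lit 0, nat_lit 16, nat_lit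 15, nat_lit 14, nat_lit 13, nat_lit 19] (Rl.rel (nat_lit 0) [nat_lit 3, nat_lit 8, nat_lit 2, nat_lit 3, nat_lit 4, nat_lit 5, nat_lit 2, nat_lit 3, nat_lit 14, nat_lit 8] (nat_lit 6) (nat_lit 2) [nat_lit 2249, nat_lit 2180, nat_lit 1496, nat_lit 1971] []))) (FT.leaf (Fct.mk true (nat_lit 4) (nat_lit 64828) (nat_lit 6) [nat_lit 5, nat_lit 6, nat_lit 7, nat_lit 4, nat_lit 1, nat_lit 2, nat_lit 3, nat_lit 8, nat_lit 5, nat_lit 6, nat_lit 4, nat_lit 5, nat_lit 3, nat_lit 4, nat_lit 2, nat_lit 3, nat_lit 8, nat_lit 1, nat_lit 2, nat_lit 3, nat_lit 4, nat_lit 5, nat_lit 8, nat_lit 3, nat_lit 0, nat_lit 8, nat_lit 16, nat_lit 14, nat_lit 17] (Rl.t1 (nat_lit 2254) (nat_lit 2173))))))) (FT.node (nat_lit 2259) (FT.node (nat_lit 2257) (FT.leaf (Fct.mk true (nat_lit 6) (nat_lit 75) (nat_lit 4) [nat_lit 4, nat_lit 3, nat_lit 8, nat_lit 5, nat_lit 6, nat_lit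 4, nat_lit 5, nat_lit 3, nat_lit 4, nat_lit 2, nat_lit 3, nat_lit 8, nat_lit 0, nat_lit 1, nat_lit 2, nat_lit 3, nat_lit 4, nat_lit 5, nat_lit 6, nat_lit 7, nat_lit 5, nat_lit 4, nat_lit 2, nat_lit 3, nat_lit 8, nat_lit 1, nat_lit 2, nat_lit 3, nat_lit 4, nat_lit 5, nat_lit 1, nat_lit 2, nat_lit 0, nat_lit 1, nat_lit 3, nat_lit 2, nat_lit 8, nat_lit 3, nat_lit 11, nat_lit 10, nat_lit 15, nat_lit 14, nat_lit 17, nat_lit 12, nat_lit 19, nat_lit 16] (Rl.inv (nat_lit 2255)))) (FT.node (nat_lit 2258) (FT.leaf (Fct.mk true (nat_lit 6) (nat_lit 38) (nat_lit 4) [nat_lit 6, nat_lit 5, nat_lit 4, nat_lit 1, nat_lit 2, nat_lit 3, nat_lit 8, nat_lit 0, nat_lit 1, nat_lit 2, nat_lit 3, nat_lit 4, nat_lit 5, nat_lit 6, nat_lit 7, nat_lit 3, nat_lit 8, nat_lit 2, nat_lit 3, nat_lit 4, nat_lit 5, nat_lit 3, nat_lit 11, nat_lit 8, nat_lit 12, nat_lit 15, nat_lit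 17, nat_lit 12, nat_lit 18, nat_lit 16] (Rl.t1 (nat_lit 2256) (nat_lit 2253)))) (FT.leaf (Fct.mk false (nat_lit 2) (nat_lit 0) (nat_lit 2) [nat_lit 7, nat_lit 6, nat_lit 10, nat_lit 12] (Rl.cmp (nat_lit 84) (nat_lit 2167)))))) (FT.node (nat_lit 2260) (FT.leaf (Fct.mk false (nat_lit 2) (nat_lit 0) (nat_lit 2) [nat_lit 6, nat_lit 7, nat_lit 6, nat_lit 4, nat_lit 12, nat_lit 18] (Rl.cmp (nat_lit 168) (nat_lit 2258)))) (FT.node (nat_lit 2261) (FT.leaf (Fct.mk true (nat_lit 4) (nat_lit 35623) (nat_lit 6) [nat_lit 6, nat_lit 5, nat_lit 4, nat_lit 3, nat_lit 8, nat_lit 2, nat_lit 3, nat_lit 4, nat_lit 5, nat_lit 6, nat_lit 7, nat_lit 8, nat_lit 6, nat_lit 5, nat_lit 3, nat_lit 4, nat_lit 2, nat_lit 3, nat_lit 8, nat_lit 1, nat_lit 2, nat_lit 3, nat_lit 4, nat_lit 5, nat_lit 4, nat_lit 3, nat_lit 2, nat_lit 8, nat_lit 3, nat_lit 11, nat_lit 2, nat_lit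 16, nat_lit 8, nat_lit 12, nat_lit 15, nat_lit 13, nat_lit 12, nat_lit 18] (Rl.rel (nat_lit 0) [nat_lit 3, nat_lit 8, nat_lit 2, nat_lit 3, nat_lit 4, nat_lit 5, nat_lit 2, nat_lit 3, nat_lit 15, nat_lit 14, nat_lit 8] (nat_lit 6) (nat_lit 2) [nat_lit 2249, nat_lit 2259, nat_lit 1548, nat_lit 1976] []))) (FT.leaf (Fct.mk true (nat_lit 4) (nat_lit 4121) (nat_lit 6) [nat_lit 8, nat_lit 3, nat_lit 4, nat_lit 5, nat_lit 6, nat_lit 7, nat_lit 8, nat_lit 2, nat_lit 3, nat_lit 4, nat_lit 1, nat_lit 2, nat_lit 3, nat_lit 8, nat_lit 5, nat_lit 6, nat_lit 4, nat_lit 5, nat_lit 3, nat_lit 4, nat_lit 2, nat_lit 3, nat_lit 8, nat_lit 1, nat_lit 2, nat_lit 3, nat_lit 4, nat_lit 5, nat_lit 11, nat_lit 15, nat_lit 17, nat_lit 19] (Rl.t1 (nat_lit 2260) (nat_lit 2165)))))))) (FT.node (nat_lit 2268) (FT.node (nat_lit 2265) (FT.node (nat_lit 2263) (FT.leaf (Fct.mk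 false (nat_lit 2) (nat_lit 0) (nat_lit 2) [nat_lit 2, nat_lit 1, nat_lit 8, nat_lit 3, nat_lit 2, nat_lit 0, nat_lit 1, nat_lit 4, nat_lit 3, nat_lit 2, nat_lit 8, nat_lit 3, nat_lit 2, nat_lit 8, nat_lit 10, nat_lit 1, nat_lit 8, nat_lit 12, nat_lit 15, nat_lit 14, nat_lit 8, nat_lit 18] (Rl.cmp (nat_lit 300) (nat_lit 88)))) (FT.node (nat_lit 2264) (FT.leaf (Fct.mk false (nat_lit 2) (nat_lit 0) (nat_lit 2) [nat_lit 1, nat_lit 2, nat_lit 3, nat_lit 8, nat_lit 4, nat_lit 5, nat_lit 3, nat_lit 4, nat_lit 2, nat_lit 3, nat_lit 8, nat_lit 1, nat_lit 2, nat_lit 3, nat_lit 4, nat_lit 5, nat_lit 8, nat_lit 4, nat_lit 3, nat_lit 2, nat_lit 0, nat_lit 1, nat_lit 9, nat_lit 4, nat_lit 3, nat_lit 2, nat_lit 8, nat_lit 3, nat_lit 9, nat_lit 10, nat_lit 2, nat_lit 8, nat_lit 10, nat_lit 1, nat_lit 12, nat_lit 8, nat_lit 16, nat_lit 14] (Rl.cmp (nat_lit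 1850) (nat_lit 2262)))) (FT.leaf (Fct.mk false (nat_lit 2) (nat_lit 0) (nat_lit 2) [nat_lit 7, nat_lit 1, nat_lit 2, nat_lit 3, nat_lit 8, nat_lit 6, nat_lit 4, nat_lit 5, nat_lit 3, nat_lit 4, nat_lit 2, nat_lit 3, nat_lit 8, nat_lit 1, nat_lit 2, nat_lit 3, nat_lit 4, nat_lit 5, nat_lit 2, nat_lit 0, nat_lit 1, nat_lit 9, nat_lit 4, nat_lit 3, nat_lit 2, nat_lit 8, nat_lit 3, nat_lit 10, nat_lit 2, nat_lit 8, nat_lit 10, nat_lit 1, nat_lit 12, nat_lit 8, nat_lit 16, nat_lit 14, nat_lit 18] (Rl.cmp (nat_lit 172) (nat_lit 2263)))))) (FT.node (nat_lit 2266) (FT.leaf (Fct.mk false (nat_lit 2) (nat_lit 0) (nat_lit 2) [nat_lit 6, nat_lit 7, nat_lit 1, nat_lit 2, nat_lit 3, nat_lit 8, nat_lit 4, nat_lit 5, nat_lit 3, nat_lit 4, nat_lit 2, nat_lit 3, nat_lit 8, nat_lit 1, nat_lit 2, nat_lit 3, nat_lit 4, nat_lit 5, nat_lit 4, nat_lit 3, nat_lit 2,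 nat_lit 0, nat_lit 1, nat_lit 9, nat_lit 4, nat_lit 3, nat_lit 2, nat_lit 8, nat_lit 3, nat_lit 9, nat_lit 10, nat_lit 2, nat_lit 8, nat_lit 10, nat_lit 1, nat_lit 12, nat_lit 8, nat_lit 16, nat_lit 14, nat_lit 8] (Rl.cmp (nat_lit 172) (nat_lit 2264)))) (FT.node (nat_lit 2267) (FT.leaf (Fct.mk false (nat_lit 2) (nat_lit 0) (nat_lit 2) [nat_lit 6, nat_lit 7, nat_lit 1, nat_lit 2, nat_lit 3, nat_lit 8, nat_lit 4, nat_lit 5, nat_lit 3, nat_lit 4, nat_lit 2, nat_lit 3, nat_lit 8, nat_lit 1, nat_lit 2, nat_lit 3, nat_lit 4, nat_lit 5, nat_lit 0, nat_lit 1, nat_lit 9, nat_lit 4, nat_lit 3, nat_lit 2, nat_lit 8, nat_lit 3, nat_lit 11, nat_lit 10, nat_lit 1, nat_lit 12, nat_lit 8, nat_lit 16, nat_lit 14, nat_lit 13] (Rl.cmp (nat_lit 173) (nat_lit 2265)))) (FT.leaf (Fct.mk false (nat_lit 6) (nat_lit 0) (nat_lit 6) [nat_lit 5, nat_lit 4, nat_lit 1, nat_lit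 2, nat_lit 3, nat_lit 8, nat_lit 0, nat_lit 1, nat_lit 2, nat_lit 3, nat_lit 4, nat_lit 5, nat_lit 6, nat_lit 7, nat_lit 6, nat_lit 5, nat_lit 4, nat_lit 3, nat_lit 8, nat_lit 0, nat_lit 1, nat_lit 2, nat_lit 3, nat_lit 4, nat_lit 5, nat_lit 9, nat_lit 4, nat_lit 0, nat_lit 2, nat_lit 15, nat_lit 14] (Rl.cmp (nat_lit 2218) (nat_lit 561))))))) (FT.node (nat_lit 2271) (FT.node (nat_lit 2269) (FT.leaf (Fct.mk false (nat_lit 6) (nat_lit 0) (nat_lit 6) [nat_lit 6, nat_lit 5, nat_lit 4, nat_lit 2, nat_lit 3, nat_lit 8, nat_lit 1, nat_lit 2, nat_lit 3, nat_lit 4, nat_lit 5, nat_lit 6, nat_lit 7, nat_lit 0, nat_lit 1, nat_lit 2, nat_lit 3, nat_lit 4, nat_lit 5, nat_lit 8, nat_lit 3, nat_lit 2, nat_lit 1, nat_lit 4, nat_lit 3, nat_lit 2, nat_lit 8, nat_lit 3, nat_lit 11, nat_lit 2, nat_lit 15, nat_lit 14, nat_lit 18, nat_lit 16] (Rl.cmp (nat_lit 2084)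 (nat_lit 2267)))) (FT.node (nat_lit 2270) (FT.leaf (Fct.mk false (nat_lit 6) (nat_lit 0) (nat_lit 6) [nat_lit 8, nat_lit 5, nat_lit 2, nat_lit 3, nat_lit 4, nat_lit 1, nat_lit 2, nat_lit 3, nat_lit 8, nat_lit 0, nat_lit 1, nat_lit 2, nat_lit 3, nat_lit 4, nat_lit 5, nat_lit 6, nat_lit 7, nat_lit 4, nat_lit 3, nat_lit 8, nat_lit 1, nat_lit 2, nat_lit 3, nat_lit 4, nat_lit 5, nat_lit 2, nat_lit 1, nat_lit 4, nat_lit 3, nat_lit 2, nat_lit 8, nat_lit 3, nat_lit 0, nat_lit 2, nat_lit 15, nat_lit 14, nat_lit 18] (Rl.cmp (nat_lit 2084) (nat_lit 2268)))) (FT.leaf (Fct.mk true (nat_lit 4) (nat_lit 35493) (nat_lit 6) [nat_lit 8, nat_lit 2, nat_lit 3, nat_lit 4, nat_lit 5, nat_lit 6, nat_lit 7, nat_lit 3, nat_lit 4, nat_lit 2, nat_lit 3, nat_lit 8, nat_lit 1, nat_lit 2, nat_lit 3, nat_lit 4, nat_lit 5, nat_lit 4, nat_lit 11, nat_lit 10, nat_lit 1, nat_lit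 15, nat_lit 13] (Rl.rel (nat_lit 0) [nat_lit 8, nat_lit 3, nat_lit 4, nat_lit 2, nat_lit 3, nat_lit 8, nat_lit 1, nat_lit 2, nat_lit 3, nat_lit 4, nat_lit 5, nat_lit 3, nat_lit 10, nat_lit 0, nat_lit 14, nat_lit 8] (nat_lit 6) (nat_lit 2) [nat_lit 2249, nat_lit 2266, nat_lit 237] []))))) (FT.node (nat_lit 2273) (FT.node (nat_lit 2272) (FT.leaf (Fct.mk true (nat_lit 4) (nat_lit 5397) (nat_lit 6) [nat_lit 3, nat_lit 8, nat_lit 2, nat_lit 3, nat_lit 4, nat_lit 5, nat_lit 6, nat_lit 7, nat_lit 3, nat_lit 4, nat_lit 5, nat_lit 4, nat_lit 11, nat_lit 2, nat_lit 15, nat_lit 14, nat_lit 17, nat_lit 19] (Rl.t1 (nat_lit 2270) (nat_lit 2169)))) (FT.leaf (Fct.mk true (nat_lit 6) (nat_lit 257) (nat_lit 4) [nat_lit 5, nat_lit 6, nat_lit 7, nat_lit 1, nat_lit 2, nat_lit 0, nat_lit 1, nat_lit 9, nat_lit 4, nat_lit 3, nat_lit 2, nat_lit 8, nat_lit 3, nat_lit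 10, nat_lit 0, nat_lit 12, nat_lit 16] (Rl.inv (nat_lit 2271))))) (FT.node (nat_lit 2274) (FT.leaf (Fct.mk true (nat_lit 6) (nat_lit 85) (nat_lit 4) [nat_lit 3, nat_lit 8, nat_lit 4, nat_lit 5, nat_lit 3, nat_lit 4, nat_lit 1, nat_lit 2, nat_lit 3, nat_lit 8, nat_lit 0, nat_lit 1, nat_lit 2, nat_lit 3, nat_lit 4, nat_lit 5, nat_lit 6, nat_lit 7, nat_lit 1, nat_lit 2, nat_lit 3, nat_lit 8, nat_lit 0, nat_lit 1, nat_lit 2, nat_lit 3, nat_lit 4, nat_lit 5, nat_lit 2, nat_lit 1, nat_lit 4, nat_lit 3, nat_lit 2, nat_lit 0, nat_lit 1, nat_lit 9, nat_lit 4, nat_lit 3, nat_lit 2, nat_lit 8, nat_lit 3, nat_lit 10, nat_lit 0, nat_lit 15, nat_lit 17, nat_lit 12] (Rl.t1 (nat_lit 2272) (nat_lit 2269)))) (FT.leaf (Fct.mk false (nat_lit 4) (nat_lit 0) (nat_lit 4) [nat_lit 8, nat_lit 3, nat_lit 4, nat_lit 2, nat_lit 3, nat_lit 8, nat_lit 1, nat_lit 2, nat_lit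 3, nat_lit 4, nat_lit 5, nat_lit 1, nat_lit 3, nat_lit 2, nat_lit 8, nat_lit 3, nat_lit 10, nat_lit 1, nat_lit 8, nat_lit 18] (Rl.cmp (nat_lit 1995) (nat_lit 2164))))))))) (FT.node (nat_lit 2287) (FT.node (nat_lit 2281) (FT.node (nat_lit 2278) (FT.node (nat_lit 2276) (FT.leaf (Fct.mk false (nat_lit 6) (nat_lit 0) (nat_lit 6) [nat_lit 2, nat_lit 3, nat_lit 4, nat_lit 5, nat_lit 6, nat_lit 7, nat_lit 6, nat_lit 11, nat_lit 10, nat_lit 13] (Rl.cmp (nat_lit 585) (nat_lit 557)))) (FT.node (nat_lit 2277) (FT.leaf (Fct.mk false (nat_lit 6) (nat_lit 0) (nat_lit 6) [nat_lit 7, nat_lit 6, nat_lit 5, nat_lit 4, nat_lit 1, nat_lit 2, nat_lit 3, nat_lit 8, nat_lit 0, nat_lit 1, nat_lit 2, nat_lit 3, nat_lit 4, nat_lit 5, nat_lit 6, nat_lit 7, nat_lit 5, nat_lit 4, nat_lit 3, nat_lit 8, nat_lit 2, nat_lit 3, nat_lit 4, nat_lit 5, nat_lit 4, nat_lit 9, nat_lit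 15, nat_lit 14] (Rl.cmp (nat_lit 2218) (nat_lit 2275)))) (FT.leaf (Fct.mk false (nat_lit 6) (nat_lit 0) (nat_lit 6) [nat_lit 3, nat_lit 4, nat_lit 1, nat_lit 2, nat_lit 3, nat_lit 8, nat_lit 7, nat_lit 5, nat_lit 6, nat_lit 4, nat_lit 5, nat_lit 3, nat_lit 4, nat_lit 2, nat_lit 3, nat_lit 8, nat_lit 1, nat_lit 2, nat_lit 3, nat_lit 4, nat_lit 5, nat_lit 6, nat_lit 7, nat_lit 4, nat_lit 3, nat_lit 8, nat_lit 2, nat_lit 3, nat_lit 4, nat_lit 1, nat_lit 2, nat_lit 3, nat_lit 8, nat_lit 5, nat_lit 6, nat_lit 4, nat_lit 5, nat_lit 3, nat_lit 4, nat_lit 2, nat_lit 3, nat_lit 8, nat_lit 1, nat_lit 2, nat_lit 3, nat_lit 4, nat_lit 5, nat_lit 4, nat_lit 3, nat_lit 2, nat_lit 8, nat_lit 3, nat_lit 10, nat_lit 12, nat_lit 15, nat_lit 14, nat_lit 13, nat_lit 19] (Rl.cmp (nat_lit 2084) (nat_lit 2276)))))) (FT.node (nat_lit 2279) (FT.leaf (Fct.mk false (nat_lit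 6) (nat_lit 0) (nat_lit 6) [nat_lit 3, nat_lit 4, nat_lit 1, nat_lit 2, nat_lit 3, nat_lit 8, nat_lit 7, nat_lit 5, nat_lit 6, nat_lit 4, nat_lit 5, nat_lit 3, nat_lit 4, nat_lit 2, nat_lit 3, nat_lit 8, nat_lit 1, nat_lit 2, nat_lit 3, nat_lit 4, nat_lit 5, nat_lit 6, nat_lit 7, nat_lit 4, nat_lit 3, nat_lit 8, nat_lit 2, nat_lit 3, nat_lit 4, nat_lit 1, nat_lit 2, nat_lit 3, nat_lit 8, nat_lit 5, nat_lit 6, nat_lit 4, nat_lit 5, nat_lit 3, nat_lit 4, nat_lit 2, nat_lit 3, nat_lit 8, nat_lit 1, nat_lit 2, nat_lit 3, nat_lit 4, nat_lit 5, nat_lit 9, nat_lit 4, nat_lit 3, nat_lit 2, nat_lit 8, nat_lit 3, nat_lit 9, nat_lit 2, nat_lit 16, nat_lit 15, nat_lit 14, nat_lit 13, nat_lit 19] (Rl.cmp (nat_lit 557) (nat_lit 2277)))) (FT.node (nat_lit 2280) (FT.leaf (Fct.mk false (nat_lit 6) (nat_lit 0) (nat_lit 6) [nat_lit 8, nat_lit 5, nat_lit 6, nat_lit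 4, nat_lit 5, nat_lit 2, nat_lit 3, nat_lit 4, nat_lit 1, nat_lit 2, nat_lit 3, nat_lit 8, nat_lit 0, nat_lit 1, nat_lit 2, nat_lit 3, nat_lit 4, nat_lit 5, nat_lit 6, nat_lit 7, nat_lit 4, nat_lit 3, nat_lit 8, nat_lit 2, nat_lit 3, nat_lit 4, nat_lit 5, nat_lit 2, nat_lit 1, nat_lit 4, nat_lit 3, nat_lit 2, nat_lit 8, nat_lit 3, nat_lit 0, nat_lit 15, nat_lit 14, nat_lit 18] (Rl.cmp (nat_lit 2084) (nat_lit 2278)))) (FT.leaf (Fct.mk false (nat_lit 4) (nat_lit 0) (nat_lit 6) [nat_lit 7, nat_lit 6, nat_lit 5, nat_lit 4, nat_lit 2, nat_lit 3, nat_lit 8, nat_lit 1, nat_lit 2, nat_lit 3, nat_lit 4, nat_lit 5, nat_lit 6, nat_lit 7, nat_lit 5, nat_lit 4, nat_lit 2, nat_lit 3, nat_lit 8, nat_lit 1, nat_lit 2, nat_lit 3, nat_lit 4, nat_lit 5, nat_lit 1, nat_lit 3, nat_lit 2, nat_lit 8, nat_lit 3, nat_lit 8, nat_lit 10, nat_lit 0, nat_lit 12, nat_lit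 8, nat_lit 16, nat_lit 14, nat_lit 17] (Rl.rel (nat_lit 0) [nat_lit 3, nat_lit 2, nat_lit 1, nat_lit 4, nat_lit 3, nat_lit 2, nat_lit 8, nat_lit 3, nat_lit 0, nat_lit 14, nat_lit 8, nat_lit 18] (nat_lit 6) (nat_lit 3) [nat_lit 2273, nat_lit 2274, nat_lit 2261, nat_lit 2279, nat_lit 2257] [])))))) (FT.node (nat_lit 2284) (FT.node (nat_lit 2282) (FT.leaf (Fct.mk false (nat_lit 6) (nat_lit 0) (nat_lit 4) [nat_lit 1, nat_lit 2, nat_lit 3, nat_lit 8, nat_lit 4, nat_lit 5, nat_lit 3, nat_lit 4, nat_lit 2, nat_lit 3, nat_lit 8, nat_lit 6, nat_lit 7, nat_lit 5, nat_lit 6, nat_lit 4, nat_lit 5, nat_lit 3, nat_lit 4, nat_lit 2, nat_lit 3, nat_lit 8, nat_lit 0, nat_lit 1, nat_lit 2, nat_lit 3, nat_lit 4, nat_lit 5, nat_lit 6, nat_lit 7, nat_lit 2, nat_lit 3, nat_lit 4, nat_lit 1, nat_lit 2, nat_lit 3, nat_lit 8, nat_lit 0, nat_lit 1, nat_lit 2, nat_lit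 3, nat_lit 4, nat_lit 5, nat_lit 0, nat_lit 1, nat_lit 3, nat_lit 2, nat_lit 8, nat_lit 3, nat_lit 0, nat_lit 2, nat_lit 15] (Rl.einv (nat_lit 2280)))) (FT.node (nat_lit 2283) (FT.leaf (Fct.mk false (nat_lit 4) (nat_lit 0) (nat_lit 6) [nat_lit 7, nat_lit 6, nat_lit 5, nat_lit 4, nat_lit 2, nat_lit 3, nat_lit 8, nat_lit 1, nat_lit 2, nat_lit 3, nat_lit 4, nat_lit 5, nat_lit 6, nat_lit 7, nat_lit 5, nat_lit 4, nat_lit 2, nat_lit 3, nat_lit 8, nat_lit 1, nat_lit 2, nat_lit 3, nat_lit 4, nat_lit 5, nat_lit 1, nat_lit 3, nat_lit 2, nat_lit 8, nat_lit 3, nat_lit 8, nat_lit 10, nat_lit 0, nat_lit 12, nat_lit 8, nat_lit 16, nat_lit 14, nat_lit 17] (Rl.einv (nat_lit 2281)))) (FT.leaf (Fct.mk false (nat_lit 4) (nat_lit 0) (nat_lit 6) [nat_lit 4, nat_lit 5, nat_lit 3, nat_lit 4, nat_lit 2, nat_lit 3, nat_lit 8, nat_lit 1, nat_lit 2, nat_lit 3, nat_lit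 4, nat_lit 5, nat_lit 6, nat_lit 7, nat_lit 5, nat_lit 4, nat_lit 3, nat_lit 8, nat_lit 2, nat_lit 3, nat_lit 4, nat_lit 1, nat_lit 2, nat_lit 3, nat_lit 8, nat_lit 5, nat_lit 6, nat_lit 4, nat_lit 5, nat_lit 3, nat_lit 4, nat_lit 2, nat_lit 3, nat_lit 8, nat_lit 1, nat_lit 2, nat_lit 3, nat_lit 4, nat_lit 5, nat_lit 3, nat_lit 8, nat_lit 4, nat_lit 3, nat_lit 2, nat_lit 1, nat_lit 9, nat_lit 4, nat_lit 3, nat_lit 2, nat_lit 8, nat_lit 3, nat_lit 0, nat_lit 16, nat_lit 12, nat_lit 15, nat_lit 14, nat_lit 13, nat_lit 18, nat_lit 16] (Rl.cmp (nat_lit 2282) (nat_lit 2084)))))) (FT.node (nat_lit 2285) (FT.leaf (Fct.mk false (nat_lit 4) (nat_lit 0) (nat_lit 4) [nat_lit 62] (Rl.cmp (nat_lit 2283) (nat_lit 2281)))) (FT.node (nat_lit 2286) (FT.leaf (Fct.mk false (nat_lit 4) (nat_lit 0) (nat_lit 4) [nat_lit 8, nat_lit 3, nat_lit 4, nat_lit 2, nat_lit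 3, nat_lit 8, nat_lit 6, nat_lit 7, nat_lit 5, nat_lit 6, nat_lit 4, nat_lit 5, nat_lit 3, nat_lit 4, nat_lit 2, nat_lit 3, nat_lit 8, nat_lit 1, nat_lit 2, nat_lit 3, nat_lit 4, nat_lit 5, nat_lit 6, nat_lit 7, nat_lit 6, nat_lit 5, nat_lit 4, nat_lit 3, nat_lit 8, nat_lit 2, nat_lit 3, nat_lit 4, nat_lit 1, nat_lit 2, nat_lit 3, nat_lit 8, nat_lit 5, nat_lit 6, nat_lit 4, nat_lit 5, nat_lit 3, nat_lit 4, nat_lit 2, nat_lit 3, nat_lit 8, nat_lit 1, nat_lit 2, nat_lit 3, nat_lit 4, nat_lit 5, nat_lit 1, nat_lit 9, nat_lit 4, nat_lit 3, nat_lit 2, nat_lit 8, nat_lit 3, nat_lit 2, nat_lit 8, nat_lit 10, nat_lit 1, nat_lit 14, nat_lit 16, nat_lit 8, nat_lit 18] (Rl.cmp (nat_lit 312) (nat_lit 2284)))) (FT.leaf (Fct.mk false (nat_lit 4) (nat_lit 0) (nat_lit 4) [nat_lit 8, nat_lit 3, nat_lit 4, nat_lit 1, nat_lit 2, nat_lit 3, nat_lit 8, nat_lit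 6, nat_lit 7, nat_lit 5, nat_lit 6, nat_lit 4, nat_lit 5, nat_lit 3, nat_lit 4, nat_lit 2, nat_lit 3, nat_lit 8, nat_lit 1, nat_lit 2, nat_lit 3, nat_lit 4, nat_lit 5, nat_lit 6, nat_lit 7, nat_lit 6, nat_lit 4, nat_lit 3, nat_lit 2, nat_lit 8, nat_lit 3, nat_lit 10, nat_lit 12, nat_lit 8, nat_lit 16, nat_lit 14, nat_lit 12, nat_lit 16] (Rl.cmp (nat_lit 312) (nat_lit 2285)))))))) (FT.node (nat_lit 2293) (FT.node (nat_lit 2290) (FT.node (nat_lit 2288) (FT.leaf (Fct.mk false (nat_lit 4) (nat_lit 0) (nat_lit 4) [nat_lit 6, nat_lit 7, nat_lit 5, nat_lit 6, nat_lit 4, nat_lit 5, nat_lit 3, nat_lit 4, nat_lit 2, nat_lit 3, nat_lit 8, nat_lit 1, nat_lit 2, nat_lit 3, nat_lit 4, nat_lit 5, nat_lit 6, nat_lit 7, nat_lit 3, nat_lit 4, nat_lit 5, nat_lit 2, nat_lit 1, nat_lit 3, nat_lit 2, nat_lit 8, nat_lit 3, nat_lit 8, nat_lit 10, nat_lit 1, nat_lit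 14, nat_lit 16, nat_lit 8, nat_lit 19] (Rl.cmp (nat_lit 2284) (nat_lit 2286)))) (FT.node (nat_lit 2289) (FT.leaf (Fct.mk true (nat_lit 4) (nat_lit 150) (nat_lit 10) [nat_lit 2, nat_lit 3, nat_lit 8, nat_lit 4, nat_lit 5, nat_lit 3, nat_lit 4, nat_lit 2, nat_lit 3, nat_lit 8, nat_lit 0, nat_lit 1, nat_lit 2, nat_lit 3, nat_lit 4, nat_lit 5, nat_lit 6, nat_lit 7, nat_lit 8, nat_lit 3, nat_lit 4, nat_lit 1, nat_lit 2, nat_lit 3, nat_lit 8, nat_lit 0, nat_lit 1, nat_lit 2, nat_lit 3, nat_lit 4, nat_lit 5, nat_lit 2, nat_lit 1, nat_lit 9, nat_lit 4, nat_lit 3, nat_lit 2, nat_lit 8, nat_lit 3, nat_lit 0, nat_lit 2, nat_lit 16, nat_lit 14, nat_lit 17, nat_lit 12, nat_lit 16] (Rl.t1 (nat_lit 714) (nat_lit 2287)))) (FT.leaf (Fct.mk false (nat_lit 13) (nat_lit 0) (nat_lit 10) [nat_lit 2, nat_lit 3, nat_lit 8, nat_lit 1, nat_lit 2, nat_lit 3, nat_lit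 4, nat_lit 5, nat_lit 6, nat_lit 7, nat_lit 5, nat_lit 1, nat_lit 8, nat_lit 3, nat_lit 2, nat_lit 0, nat_lit 1, nat_lit 9, nat_lit 4, nat_lit 3, nat_lit 2, nat_lit 8, nat_lit 3, nat_lit 11, nat_lit 8, nat_lit 10, nat_lit 12, nat_lit 8, nat_lit 16, nat_lit 14, nat_lit 17, nat_lit 12, nat_lit 18, nat_lit 16] (Rl.cc (nat_lit 1985) (nat_lit 2288)))))) (FT.node (nat_lit 2291) (FT.leaf (Fct.mk false (nat_lit 4) (nat_lit 0) (nat_lit 4) [nat_lit 2, nat_lit 3, nat_lit 8, nat_lit 4, nat_lit 5, nat_lit 3, nat_lit 4, nat_lit 2, nat_lit 3, nat_lit 8, nat_lit 6, nat_lit 7, nat_lit 5, nat_lit 6, nat_lit 4, nat_lit 5, nat_lit 3, nat_lit 4, nat_lit 2, nat_lit 3, nat_lit 8, nat_lit 1, nat_lit 2, nat_lit 3, nat_lit 4, nat_lit 5, nat_lit 6, nat_lit 7, nat_lit 8, nat_lit 3, nat_lit 4, nat_lit 5, nat_lit 1, nat_lit 4, nat_lit 3, nat_lit 2, nat_lit 8, nat_lit 3,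 nat_lit 10, nat_lit 12, nat_lit 8, nat_lit 16, nat_lit 14, nat_lit 12, nat_lit 16] (Rl.cmp (nat_lit 2284) (nat_lit 312)))) (FT.node (nat_lit 2292) (FT.leaf (Fct.mk false (nat_lit 4) (nat_lit 0) (nat_lit 4) [nat_lit 8, nat_lit 3, nat_lit 4, nat_lit 1, nat_lit 2, nat_lit 3, nat_lit 8, nat_lit 6, nat_lit 7, nat_lit 5, nat_lit 6, nat_lit 4, nat_lit 5, nat_lit 3, nat_lit 4, nat_lit 2, nat_lit 3, nat_lit 8, nat_lit 1, nat_lit 2, nat_lit 3, nat_lit 4, nat_lit 5, nat_lit 6, nat_lit 7, nat_lit 6, nat_lit 1, nat_lit 3, nat_lit 2, nat_lit 8, nat_lit 3, nat_lit 9, nat_lit 2, nat_lit 8, nat_lit 16, nat_lit 14, nat_lit 12, nat_lit 18, nat_lit 16] (Rl.cmp (nat_lit 243) (nat_lit 2290)))) (FT.leaf (Fct.mk false (nat_lit 4) (nat_lit 0) (nat_lit 4) [nat_lit 6, nat_lit 7, nat_lit 5, nat_lit 6, nat_lit 4, nat_lit 5, nat_lit 3, nat_lit 4, nat_lit 2, nat_lit 3, nat_lit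 8, nat_lit 1, nat_lit 2, nat_lit 3, nat_lit 4, nat_lit 5, nat_lit 6, nat_lit 7, nat_lit 3, nat_lit 4, nat_lit 5, nat_lit 3, nat_lit 8, nat_lit 4, nat_lit 3, nat_lit 2, nat_lit 1, nat_lit 9, nat_lit 4, nat_lit 3, nat_lit 2, nat_lit 8, nat_lit 3, nat_lit 10, nat_lit 1, nat_lit 16, nat_lit 14, nat_lit 16, nat_lit 8, nat_lit 19, nat_lit 16] (Rl.cmp (nat_lit 2284) (nat_lit 2291))))))) (FT.node (nat_lit 2296) (FT.node (nat_lit 2294) (FT.leaf (Fct.mk true (nat_lit 4) (nat_lit 232) (nat_lit 11) [nat_lit 8, nat_lit 7, nat_lit 6, nat_lit 4, nat_lit 5, nat_lit 3, nat_lit 4, nat_lit 2, nat_lit 3, nat_lit 8, nat_lit 1, nat_lit 2, nat_lit 3, nat_lit 4, nat_lit 5, nat_lit 6, nat_lit 7, nat_lit 8, nat_lit 3, nat_lit 4, nat_lit 2, nat_lit 3, nat_lit 8, nat_lit 0, nat_lit 1, nat_lit 2, nat_lit 3, nat_lit 4, nat_lit 5, nat_lit 1, nat_lit 2, nat_lit 3, nat_lit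 8, nat_lit 4, nat_lit 3, nat_lit 2, nat_lit 1, nat_lit 9, nat_lit 4, nat_lit 3, nat_lit 2, nat_lit 8, nat_lit 3, nat_lit 10, nat_lit 1, nat_lit 16, nat_lit 8, nat_lit 19, nat_lit 16] (Rl.t1 (nat_lit 734) (nat_lit 2292)))) (FT.node (nat_lit 2295) (FT.leaf (Fct.mk false (nat_lit 4) (nat_lit 0) (nat_lit 4) [nat_lit 2, nat_lit 3, nat_lit 8, nat_lit 4, nat_lit 5, nat_lit 3, nat_lit 4, nat_lit 2, nat_lit 3, nat_lit 8, nat_lit 6, nat_lit 7, nat_lit 5, nat_lit 6, nat_lit 4, nat_lit 5, nat_lit 3, nat_lit 4, nat_lit 2, nat_lit 3, nat_lit 8, nat_lit 1, nat_lit 2, nat_lit 3, nat_lit 4, nat_lit 5, nat_lit 6, nat_lit 7, nat_lit 8, nat_lit 3, nat_lit 4, nat_lit 5, nat_lit 1, nat_lit 4, nat_lit 3, nat_lit 2, nat_lit 8, nat_lit 3, nat_lit 10, nat_lit 12, nat_lit 8, nat_lit 16, nat_lit 14, nat_lit 12, nat_lit 16] (Rl.cmp (nat_lit 2284) (nat_lit 312)))) (FT.leaf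 (Fct.mk false (nat_lit 4) (nat_lit 0) (nat_lit 4) [nat_lit 5, nat_lit 4, nat_lit 3, nat_lit 8, nat_lit 6, nat_lit 7, nat_lit 5, nat_lit 6, nat_lit 4, nat_lit 5, nat_lit 3, nat_lit 4, nat_lit 2, nat_lit 3, nat_lit 8, nat_lit 1, nat_lit 2, nat_lit 3, nat_lit 4, nat_lit 5, nat_lit 6, nat_lit 7, nat_lit 8, nat_lit 2, nat_lit 3, nat_lit 4, nat_lit 5, nat_lit 1, nat_lit 9, nat_lit 4, nat_lit 3, nat_lit 2, nat_lit 8, nat_lit 3, nat_lit 9, nat_lit 2, nat_lit 8, nat_lit 19, nat_lit 16] (Rl.cmp (nat_lit 2284) (nat_lit 2294)))))) (FT.node (nat_lit 2298) (FT.node (nat_lit 2297) (FT.leaf (Fct.mk false (nat_lit 4) (nat_lit 0) (nat_lit 4) [nat_lit 6, nat_lit 7, nat_lit 5, nat_lit 6, nat_lit 4, nat_lit 5, nat_lit 3, nat_lit 4, nat_lit 2, nat_lit 3, nat_lit 8, nat_lit 1, nat_lit 2, nat_lit 3, nat_lit 4, nat_lit 5, nat_lit 6, nat_lit 7, nat_lit 3, nat_lit 4,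 nat_lit 5, nat_lit 3, nat_lit 2, nat_lit 1, nat_lit 4, nat_lit 3, nat_lit 2, nat_lit 8, nat_lit 3, nat_lit 10, nat_lit 1, nat_lit 14, nat_lit 16, nat_lit 8, nat_lit 19] (Rl.cmp (nat_lit 1995) (nat_lit 2295)))) (FT.leaf (Fct.mk true (nat_lit 4) (nat_lit 4341) (nat_lit 14) [nat_lit 2, nat_lit 3, nat_lit 8, nat_lit 4, nat_lit 5, nat_lit 3, nat_lit 4, nat_lit 2, nat_lit 3, nat_lit 8, nat_lit 0, nat_lit 1, nat_lit 2, nat_lit 3, nat_lit 4, nat_lit 5, nat_lit 6, nat_lit 7, nat_lit 5, nat_lit 6, nat_lit 3, nat_lit 4, nat_lit 5, nat_lit 2, nat_lit 3, nat_lit 4, nat_lit 1, nat_lit 2, nat_lit 3, nat_lit 8, nat_lit 0, nat_lit 1, nat_lit 2, nat_lit 3, nat_lit 4, nat_lit 5, nat_lit 1, nat_lit 3, nat_lit 2, nat_lit 0, nat_lit 1, nat_lit 4, nat_lit 3, nat_lit 2, nat_lit 8, nat_lit 3, nat_lit 15, nat_lit 17, nat_lit 12, nat_lit 16] (Rl.t1 (nat_lit 886) (nat_lit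 2296))))) (FT.node (nat_lit 2299) (FT.leaf (Fct.mk false (nat_lit 4) (nat_lit 0) (nat_lit 4) [nat_lit 2, nat_lit 3, nat_lit 8, nat_lit 4, nat_lit 5, nat_lit 3, nat_lit 4, nat_lit 2, nat_lit 3, nat_lit 8, nat_lit 6, nat_lit 7, nat_lit 5, nat_lit 6, nat_lit 4, nat_lit 5, nat_lit 3, nat_lit 4, nat_lit 2, nat_lit 3, nat_lit 8, nat_lit 1, nat_lit 2, nat_lit 3, nat_lit 4, nat_lit 5, nat_lit 6, nat_lit 7, nat_lit 1, nat_lit 2, nat_lit 3, nat_lit 8, nat_lit 4, nat_lit 5, nat_lit 3, nat_lit 4, nat_lit 2, nat_lit 3, nat_lit 8, nat_lit 1, nat_lit 2, nat_lit 3, nat_lit 4, nat_lit 5, nat_lit 1, nat_lit 2, nat_lit 3, nat_lit 8, nat_lit 4, nat_lit 3, nat_lit 2, nat_lit 1, nat_lit 9, nat_lit 4, nat_lit 3, nat_lit 2, nat_lit 8, nat_lit 3, nat_lit 2, nat_lit 10, nat_lit 1, nat_lit 8, nat_lit 16, nat_lit 14, nat_lit 19, nat_lit 16] (Rl.cmp (nat_lit 2284) (nat_lit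 234)))) (FT.leaf (Fct.mk false (nat_lit 4) (nat_lit 0) (nat_lit 4) [nat_lit 5, nat_lit 4, nat_lit 3, nat_lit 8, nat_lit 6, nat_lit 7, nat_lit 5, nat_lit 6, nat_lit 4, nat_lit 5, nat_lit 3, nat_lit 4, nat_lit 2, nat_lit 3, nat_lit 8, nat_lit 1, nat_lit 2, nat_lit 3, nat_lit 4, nat_lit 5, nat_lit 6, nat_lit 7, nat_lit 2, nat_lit 3, nat_lit 4, nat_lit 1, nat_lit 2, nat_lit 3, nat_lit 8, nat_lit 5, nat_lit 6, nat_lit 4, nat_lit 5, nat_lit 3, nat_lit 4, nat_lit 2, nat_lit 3, nat_lit 8, nat_lit 1, nat_lit 2, nat_lit 3, nat_lit 4, nat_lit 5, nat_lit 1, nat_lit 2, nat_lit 8, nat_lit 3, nat_lit 1, nat_lit 9, nat_lit 16, nat_lit 14, nat_lit 12] (Rl.cmp (nat_lit 2284) (nat_lit 2298)))))))))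

/-- some facts -/
noncomputable def ftc46 : FT := FT.node (nat_lit 2325) (FT.node (nat_lit 2312) (FT.node (nat_lit 2306) (FT.node (nat_lit 2303) (FT.node (nat_lit 2301) (FT.leaf (Fct.mk false (nat_lit 4) (nat_lit 0) (nat_lit 4) [nat_lit 2, nat_lit 3, nat_lit 4, nat_lit 1, nat_lit 2, nat_lit 3, nat_lit 8, nat_lit 6, nat_lit 7, nat_lit 5, nat_lit 6, nat_lit 4, nat_lit 5, nat_lit 3, nat_lit 4, nat_lit 2, nat_lit 3, nat_lit 8, nat_lit 1, nat_lit 2, nat_lit 3, nat_lit 4, nat_lit 5, nat_lit 6, nat_lit 7, nat_lit 2, nat_lit 1, nat_lit 9, nat_lit 4, nat_lit 3, nat_lit 2, nat_lit 8, nat_lit 3, nat_lit 2, nat_lit 8, nat_lit 10, nat_lit 1, nat_lit 14, nat_lit 16, nat_lit 8, nat_lit 19, nat_lit 16] (Rl.cmp (nat_lit 243) (nat_lit 2299)))) (FT.node (nat_lit 2302) (FT.leaf (Fct.mk true (nat_lit 4) (nat_lit 3342) (nat_lit 6) [nat_lit 5, nat_lit 2, nat_lit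 3, nat_lit 4, nat_lit 1, nat_lit 2, nat_lit 3, nat_lit 8, nat_lit 0, nat_lit 1, nat_lit 2, nat_lit 3, nat_lit 4, nat_lit 5, nat_lit 6, nat_lit 7, nat_lit 2, nat_lit 3, nat_lit 4, nat_lit 1, nat_lit 2, nat_lit 3, nat_lit 8, nat_lit 0, nat_lit 1, nat_lit 2, nat_lit 3, nat_lit 4, nat_lit 5, nat_lit 3, nat_lit 8, nat_lit 4, nat_lit 3, nat_lit 2, nat_lit 0, nat_lit 1, nat_lit 9, nat_lit 4, nat_lit 3, nat_lit 2, nat_lit 8, nat_lit 3, nat_lit 2, nat_lit 16, nat_lit 12, nat_lit 15, nat_lit 14, nat_lit 12] (Rl.t1 (nat_lit 2192) (nat_lit 2300)))) (FT.leaf (Fct.mk false (nat_lit 4) (nat_lit 0) (nat_lit 4) [nat_lit 7, nat_lit 8, nat_lit 3, nat_lit 4, nat_lit 2, nat_lit 3, nat_lit 8, nat_lit 1, nat_lit 2, nat_lit 3, nat_lit 4, nat_lit 5, nat_lit 1, nat_lit 4, nat_lit 3, nat_lit 2, nat_lit 8, nat_lit 3, nat_lit 8, nat_lit 10, nat_lit 1, nat_lit 8, nat_lit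 18] (Rl.cmp (nat_lit 263) (nat_lit 234)))))) (FT.node (nat_lit 2304) (FT.leaf (Fct.mk false (nat_lit 4) (nat_lit 0) (nat_lit 4) [nat_lit 8, nat_lit 3, nat_lit 4, nat_lit 1, nat_lit 2, nat_lit 3, nat_lit 8, nat_lit 6, nat_lit 7, nat_lit 5, nat_lit 6, nat_lit 4, nat_lit 5, nat_lit 3, nat_lit 4, nat_lit 2, nat_lit 3, nat_lit 8, nat_lit 1, nat_lit 2, nat_lit 3, nat_lit 4, nat_lit 5, nat_lit 6, nat_lit 7, nat_lit 6, nat_lit 5, nat_lit 4, nat_lit 3, nat_lit 8, nat_lit 2, nat_lit 3, nat_lit 4, nat_lit 5, nat_lit 4, nat_lit 9, nat_lit 2, nat_lit 14, nat_lit 8, nat_lit 18, nat_lit 16] (Rl.cmp (nat_lit 2284) (nat_lit 2302)))) (FT.node (nat_lit 2305) (FT.leaf (Fct.mk false (nat_lit 4) (nat_lit 0) (nat_lit 4) [nat_lit 6, nat_lit 7, nat_lit 5, nat_lit 6, nat_lit 4, nat_lit 5, nat_lit 3, nat_lit 4, nat_lit 2, nat_lit 3, nat_lit 8, nat_lit 1, nat_lit 2, nat_lit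 3, nat_lit 4, nat_lit 5, nat_lit 6, nat_lit 7, nat_lit 2, nat_lit 3, nat_lit 4, nat_lit 1, nat_lit 2, nat_lit 3, nat_lit 8, nat_lit 5, nat_lit 6, nat_lit 4, nat_lit 5, nat_lit 3, nat_lit 4, nat_lit 2, nat_lit 3, nat_lit 8, nat_lit 1, nat_lit 2, nat_lit 3, nat_lit 4, nat_lit 5, nat_lit 2, nat_lit 1, nat_lit 3, nat_lit 2, nat_lit 8, nat_lit 3, nat_lit 1, nat_lit 9, nat_lit 8, nat_lit 16, nat_lit 14, nat_lit 12] (Rl.cmp (nat_lit 2284) (nat_lit 2303)))) (FT.leaf (Fct.mk false (nat_lit 4) (nat_lit 0) (nat_lit 4) [nat_lit 6, nat_lit 7, nat_lit 5, nat_lit 6, nat_lit 4, nat_lit 5, nat_lit 3, nat_lit 4, nat_lit 2, nat_lit 3, nat_lit 8, nat_lit 1, nat_lit 2, nat_lit 3, nat_lit 4, nat_lit 5, nat_lit 6, nat_lit 7, nat_lit 3, nat_lit 4, nat_lit 5, nat_lit 8, nat_lit 3, nat_lit 2, nat_lit 1, nat_lit 9, nat_lit 4, nat_lit 3, nat_lit 2, nat_lit 8, nat_lit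 3, nat_lit 2, nat_lit 8, nat_lit 10, nat_lit 1, nat_lit 16, nat_lit 14, nat_lit 16, nat_lit 8, nat_lit 19, nat_lit 16] (Rl.cmp (nat_lit 243) (nat_lit 2304))))))) (FT.node (nat_lit 2309) (FT.node (nat_lit 2307) (FT.leaf (Fct.mk true (nat_lit 4) (nat_lit 1720) (nat_lit 4) [nat_lit 4, nat_lit 3, nat_lit 8, nat_lit 2, nat_lit 3, nat_lit 4, nat_lit 5, nat_lit 6, nat_lit 7, nat_lit 8, nat_lit 6, nat_lit 4, nat_lit 5, nat_lit 3, nat_lit 4, nat_lit 2, nat_lit 3, nat_lit 8, nat_lit 1, nat_lit 2, nat_lit 3, nat_lit 4, nat_lit 5, nat_lit 2, nat_lit 3, nat_lit 8, nat_lit 4, nat_lit 3, nat_lit 2, nat_lit 1, nat_lit 9, nat_lit 4, nat_lit 3, nat_lit 2, nat_lit 8, nat_lit 3, nat_lit 10, nat_lit 9, nat_lit 2, nat_lit 8, nat_lit 16, nat_lit 14, nat_lit 8, nat_lit 19, nat_lit 16] (Rl.t1 (nat_lit 2201) (nat_lit 2305)))) (FT.node (nat_lit 2308) (FT.leaf (Fct.mk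 false (nat_lit 4) (nat_lit 0) (nat_lit 4) [nat_lit 8, nat_lit 3, nat_lit 4, nat_lit 2, nat_lit 3, nat_lit 8, nat_lit 1, nat_lit 2, nat_lit 3, nat_lit 4, nat_lit 5, nat_lit 1, nat_lit 4, nat_lit 3, nat_lit 2, nat_lit 8, nat_lit 3, nat_lit 10, nat_lit 1, nat_lit 8, nat_lit 18] (Rl.cmp (nat_lit 241) (nat_lit 234)))) (FT.leaf (Fct.mk false (nat_lit 4) (nat_lit 0) (nat_lit 4) [nat_lit 2, nat_lit 3, nat_lit 8, nat_lit 4, nat_lit 5, nat_lit 3, nat_lit 4, nat_lit 2, nat_lit 3, nat_lit 8, nat_lit 6, nat_lit 7, nat_lit 5, nat_lit 6, nat_lit 4, nat_lit 5, nat_lit 3, nat_lit 4, nat_lit 2, nat_lit 3, nat_lit 8, nat_lit 1, nat_lit 2, nat_lit 3, nat_lit 4, nat_lit 5, nat_lit 6, nat_lit 7, nat_lit 1, nat_lit 2, nat_lit 3, nat_lit 8, nat_lit 4, nat_lit 5, nat_lit 3, nat_lit 4, nat_lit 2, nat_lit 3, nat_lit 8, nat_lit 1, nat_lit 2, nat_lit 3, nat_lit 4, nat_lit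 5, nat_lit 1, nat_lit 2, nat_lit 3, nat_lit 8, nat_lit 4, nat_lit 3, nat_lit 2, nat_lit 1, nat_lit 9, nat_lit 4, nat_lit 3, nat_lit 2, nat_lit 8, nat_lit 3, nat_lit 2, nat_lit 8, nat_lit 10, nat_lit 1, nat_lit 8, nat_lit 16, nat_lit 14, nat_lit 19, nat_lit 16] (Rl.cmp (nat_lit 2284) (nat_lit 2307)))))) (FT.node (nat_lit 2310) (FT.leaf (Fct.mk false (nat_lit 4) (nat_lit 0) (nat_lit 4) [nat_lit 8, nat_lit 3, nat_lit 4, nat_lit 1, nat_lit 2, nat_lit 3, nat_lit 8, nat_lit 6, nat_lit 7, nat_lit 5, nat_lit 6, nat_lit 4, nat_lit 5, nat_lit 3, nat_lit 4, nat_lit 2, nat_lit 3, nat_lit 8, nat_lit 1, nat_lit 2, nat_lit 3, nat_lit 4, nat_lit 5, nat_lit 6, nat_lit 7, nat_lit 8, nat_lit 3, nat_lit 4, nat_lit 1, nat_lit 2, nat_lit 3, nat_lit 8, nat_lit 5, nat_lit 6, nat_lit 4, nat_lit 5, nat_lit 3, nat_lit 4, nat_lit 2, nat_lit 3, nat_lit 8, nat_lit 1, nat_lit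 2, nat_lit 3, nat_lit 4, nat_lit 5, nat_lit 8, nat_lit 4, nat_lit 3, nat_lit 2, nat_lit 1, nat_lit 9, nat_lit 4, nat_lit 3, nat_lit 2, nat_lit 8, nat_lit 3, nat_lit 2, nat_lit 10, nat_lit 1, nat_lit 16, nat_lit 14, nat_lit 18] (Rl.cmp (nat_lit 243) (nat_lit 2308)))) (FT.node (nat_lit 2311) (FT.leaf (Fct.mk true (nat_lit 4) (nat_lit 3080) (nat_lit 5) [nat_lit 4, nat_lit 3, nat_lit 8, nat_lit 6, nat_lit 7, nat_lit 5, nat_lit 6, nat_lit 4, nat_lit 5, nat_lit 3, nat_lit 4, nat_lit 2, nat_lit 3, nat_lit 8, nat_lit 1, nat_lit 2, nat_lit 3, nat_lit 4, nat_lit 5, nat_lit 6, nat_lit 7, nat_lit 2, nat_lit 3, nat_lit 8, nat_lit 5, nat_lit 6, nat_lit 4, nat_lit 5, nat_lit 3, nat_lit 4, nat_lit 2, nat_lit 3, nat_lit 8, nat_lit 0, nat_lit 1, nat_lit 2, nat_lit 3, nat_lit 4, nat_lit 5, nat_lit 2, nat_lit 0, nat_lit 1, nat_lit 4, nat_lit 3, nat_lit 2, nat_lit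 8, nat_lit 3, nat_lit 9, nat_lit 2, nat_lit 14, nat_lit 13, nat_lit 16] (Rl.t1 (nat_lit 2207) (nat_lit 2309)))) (FT.leaf (Fct.mk false (nat_lit 4) (nat_lit 0) (nat_lit 4) [nat_lit 8, nat_lit 3, nat_lit 4, nat_lit 1, nat_lit 2, nat_lit 3, nat_lit 8, nat_lit 6, nat_lit 7, nat_lit 5, nat_lit 6, nat_lit 4, nat_lit 5, nat_lit 3, nat_lit 4, nat_lit 2, nat_lit 3, nat_lit 8, nat_lit 1, nat_lit 2, nat_lit 3, nat_lit 4, nat_lit 5, nat_lit 6, nat_lit 7, nat_lit 6, nat_lit 5, nat_lit 4, nat_lit 3, nat_lit 8, nat_lit 2, nat_lit 3, nat_lit 4, nat_lit 1, nat_lit 2, nat_lit 3, nat_lit 8, nat_lit 5, nat_lit 6, nat_lit 4, nat_lit 5, nat_lit 3, nat_lit 4, nat_lit 2, nat_lit 3, nat_lit 8, nat_lit 1, nat_lit 2, nat_lit 3, nat_lit 4, nat_lit 5, nat_lit 1, nat_lit 9, nat_lit 4, nat_lit 3, nat_lit 2, nat_lit 8, nat_lit 3, nat_lit 1, nat_lit 16, nat_lit 8, nat_lit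 19, nat_lit 16] (Rl.cmp (nat_lit 2284) (nat_lit 263)))))))) (FT.node (nat_lit 2318) (FT.node (nat_lit 2315) (FT.node (nat_lit 2313) (FT.leaf (Fct.mk false (nat_lit 4) (nat_lit 0) (nat_lit 4) [nat_lit 6, nat_lit 7, nat_lit 5, nat_lit 6, nat_lit 4, nat_lit 5, nat_lit 3, nat_lit 4, nat_lit 2, nat_lit 3, nat_lit 8, nat_lit 1, nat_lit 2, nat_lit 3, nat_lit 4, nat_lit 5, nat_lit 6, nat_lit 7, nat_lit 8, nat_lit 2, nat_lit 3, nat_lit 4, nat_lit 1, nat_lit 2, nat_lit 3, nat_lit 8, nat_lit 5, nat_lit 6, nat_lit 4, nat_lit 5, nat_lit 3, nat_lit 4, nat_lit 2, nat_lit 3, nat_lit 8, nat_lit 1, nat_lit 2, nat_lit 3, nat_lit 4, nat_lit 5, nat_lit 2, nat_lit 1, nat_lit 3, nat_lit 2, nat_lit 8, nat_lit 3, nat_lit 9, nat_lit 8, nat_lit 16, nat_lit 14, nat_lit 12] (Rl.cmp (nat_lit 2284) (nat_lit 2311)))) (FT.node (nat_lit 2314) (FT.leaf (Fct.mk false (nat_lit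 4) (nat_lit 0) (nat_lit 4) [nat_lit 6, nat_lit 7, nat_lit 5, nat_lit 6, nat_lit 4, nat_lit 5, nat_lit 3, nat_lit 4, nat_lit 2, nat_lit 3, nat_lit 8, nat_lit 1, nat_lit 2, nat_lit 3, nat_lit 4, nat_lit 5, nat_lit 6, nat_lit 7, nat_lit 3, nat_lit 4, nat_lit 5, nat_lit 3, nat_lit 2, nat_lit 1, nat_lit 4, nat_lit 3, nat_lit 2, nat_lit 8, nat_lit 3, nat_lit 8, nat_lit 10, nat_lit 14, nat_lit 16, nat_lit 8, nat_lit 19] (Rl.cmp (nat_lit 234) (nat_lit 2312)))) (FT.leaf (Fct.mk true (nat_lit 4) (nat_lit 436) (nat_lit 2) [nat_lit 5, nat_lit 4, nat_lit 3, nat_lit 8, nat_lit 2, nat_lit 3, nat_lit 4, nat_lit 1, nat_lit 2, nat_lit 3, nat_lit 8, nat_lit 7, nat_lit 5, nat_lit 6, nat_lit 4, nat_lit 5, nat_lit 3, nat_lit 4, nat_lit 2, nat_lit 3, nat_lit 8, nat_lit 1, nat_lit 2, nat_lit 3, nat_lit 4, nat_lit 5, nat_lit 6, nat_lit 7, nat_lit 4, nat_lit 5, nat_lit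 3, nat_lit 4, nat_lit 2, nat_lit 3, nat_lit 8, nat_lit 1, nat_lit 2, nat_lit 3, nat_lit 4, nat_lit 5, nat_lit 3, nat_lit 8, nat_lit 4, nat_lit 3, nat_lit 2, nat_lit 1, nat_lit 9, nat_lit 4, nat_lit 3, nat_lit 2, nat_lit 8, nat_lit 3, nat_lit 8, nat_lit 10, nat_lit 0, nat_lit 8, nat_lit 12, nat_lit 15, nat_lit 14, nat_lit 17, nat_lit 12] (Rl.t1 (nat_lit 2232) (nat_lit 2313)))))) (FT.node (nat_lit 2316) (FT.leaf (Fct.mk true (nat_lit 4) (nat_lit 85631) (nat_lit 1) [nat_lit 7, nat_lit 6, nat_lit 5, nat_lit 4, nat_lit 2, nat_lit 3, nat_lit 8, nat_lit 1, nat_lit 2, nat_lit 3, nat_lit 4, nat_lit 5, nat_lit 6, nat_lit 7, nat_lit 5, nat_lit 4, nat_lit 2, nat_lit 3, nat_lit 8, nat_lit 1, nat_lit 2, nat_lit 3, nat_lit 4, nat_lit 5, nat_lit 1, nat_lit 3, nat_lit 2, nat_lit 8, nat_lit 3, nat_lit 8, nat_lit 10, nat_lit 0, nat_lit 12, nat_lit 8, nat_lit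 16, nat_lit 14, nat_lit 17] (Rl.t1 (nat_lit 538) (nat_lit 2281)))) (FT.node (nat_lit 2317) (FT.leaf (Fct.mk true (nat_lit 4) (nat_lit 42512) (nat_lit 1) [nat_lit 7, nat_lit 6, nat_lit 4, nat_lit 5, nat_lit 3, nat_lit 4, nat_lit 2, nat_lit 3, nat_lit 8, nat_lit 1, nat_lit 2, nat_lit 3, nat_lit 4, nat_lit 5, nat_lit 6, nat_lit 7, nat_lit 5, nat_lit 4, nat_lit 2, nat_lit 3, nat_lit 8, nat_lit 1, nat_lit 2, nat_lit 3, nat_lit 4, nat_lit 5, nat_lit 1, nat_lit 3, nat_lit 2, nat_lit 8, nat_lit 3, nat_lit 8, nat_lit 10, nat_lit 0, nat_lit 12, nat_lit 8, nat_lit 16, nat_lit 14, nat_lit 17] (Rl.t1 (nat_lit 2315) (nat_lit 239)))) (FT.leaf (Fct.mk true (nat_lit 4) (nat_lit 82081) (nat_lit 5) [nat_lit 4, nat_lit 5, nat_lit 3, nat_lit 4, nat_lit 2, nat_lit 3, nat_lit 8, nat_lit 6, nat_lit 7, nat_lit 5, nat_lit 6, nat_lit 4, nat_lit 5, nat_lit 3, nat_lit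 4, nat_lit 2, nat_lit 3, nat_lit 8, nat_lit 0, nat_lit 1, nat_lit 2, nat_lit 3, nat_lit 4, nat_lit 5, nat_lit 6, nat_lit 7, nat_lit 8, nat_lit 4, nat_lit 5, nat_lit 3, nat_lit 4, nat_lit 2, nat_lit 3, nat_lit 8, nat_lit 0, nat_lit 1, nat_lit 2, nat_lit 3, nat_lit 4, nat_lit 5, nat_lit 2, nat_lit 8, nat_lit 3, nat_lit 2, nat_lit 12, nat_lit 15, nat_lit 14, nat_lit 8, nat_lit 19, nat_lit 16] (Rl.t1 (nat_lit 2225) (nat_lit 2281))))))) (FT.node (nat_lit 2321) (FT.node (nat_lit 2319) (FT.leaf (Fct.mk false (nat_lit 4) (nat_lit 0) (nat_lit 4) [nat_lit 2, nat_lit 3, nat_lit 4, nat_lit 5, nat_lit 1, nat_lit 3, nat_lit 2, nat_lit 8, nat_lit 3, nat_lit 8, nat_lit 10, nat_lit 1, nat_lit 14, nat_lit 12] (Rl.cmp (nat_lit 312) (nat_lit 241)))) (FT.node (nat_lit 2320) (FT.leaf (Fct.mk false (nat_lit 4) (nat_lit 0) (nat_lit 4) [nat_lit 2, nat_lit 3, nat_lit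 8, nat_lit 4, nat_lit 5, nat_lit 3, nat_lit 4, nat_lit 2, nat_lit 3, nat_lit 8, nat_lit 6, nat_lit 7, nat_lit 5, nat_lit 6, nat_lit 4, nat_lit 5, nat_lit 3, nat_lit 4, nat_lit 2, nat_lit 3, nat_lit 8, nat_lit 1, nat_lit 2, nat_lit 3, nat_lit 4, nat_lit 5, nat_lit 6, nat_lit 7, nat_lit 8, nat_lit 3, nat_lit 4, nat_lit 5, nat_lit 1, nat_lit 4, nat_lit 3, nat_lit 2, nat_lit 8, nat_lit 3, nat_lit 12, nat_lit 8, nat_lit 16, nat_lit 14, nat_lit 12, nat_lit 16] (Rl.cmp (nat_lit 2284) (nat_lit 2318)))) (FT.leaf (Fct.mk false (nat_lit 4) (nat_lit 0) (nat_lit 4) [nat_lit 8, nat_lit 3, nat_lit 4, nat_lit 1, nat_lit 2, nat_lit 3, nat_lit 8, nat_lit 6, nat_lit 7, nat_lit 5, nat_lit 6, nat_lit 4, nat_lit 5, nat_lit 3, nat_lit 4, nat_lit 2, nat_lit 3, nat_lit 8, nat_lit 1, nat_lit 2, nat_lit 3, nat_lit 4, nat_lit 5, nat_lit 6, nat_lit 7, nat_lit 6, nat_lit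 1, nat_lit 3, nat_lit 2, nat_lit 8, nat_lit 3, nat_lit 10, nat_lit 9, nat_lit 2, nat_lit 8, nat_lit 16, nat_lit 14, nat_lit 12, nat_lit 18, nat_lit 16] (Rl.cmp (nat_lit 243) (nat_lit 2319)))))) (FT.node (nat_lit 2323) (FT.node (nat_lit 2322) (FT.leaf (Fct.mk true (nat_lit 4) (nat_lit 6810) (nat_lit 5) [nat_lit 8, nat_lit 4, nat_lit 5, nat_lit 2, nat_lit 3, nat_lit 4, nat_lit 1, nat_lit 2, nat_lit 3, nat_lit 8, nat_lit 0, nat_lit 1, nat_lit 2, nat_lit 3, nat_lit 4, nat_lit 5, nat_lit 6, nat_lit 7, nat_lit 5, nat_lit 2, nat_lit 1, nat_lit 3, nat_lit 2, nat_lit 0, nat_lit 1, nat_lit 4, nat_lit 3, nat_lit 2, nat_lit 8, nat_lit 3, nat_lit 11, nat_lit 8, nat_lit 10, nat_lit 16, nat_lit 8, nat_lit 12, nat_lit 15, nat_lit 17, nat_lit 18] (Rl.t1 (nat_lit 2317) (nat_lit 2320)))) (FT.leaf (Fct.mk true (nat_lit 4) (nat_lit 85077) (nat_lit 3) [nat_lit 6,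 nat_lit 7, nat_lit 5, nat_lit 6, nat_lit 4, nat_lit 5, nat_lit 2, nat_lit 3, nat_lit 4, nat_lit 1, nat_lit 2, nat_lit 3, nat_lit 8, nat_lit 0, nat_lit 1, nat_lit 2, nat_lit 3, nat_lit 4, nat_lit 5, nat_lit 6, nat_lit 7, nat_lit 4, nat_lit 3, nat_lit 8, nat_lit 1, nat_lit 2, nat_lit 3, nat_lit 4, nat_lit 5, nat_lit 1, nat_lit 2, nat_lit 8, nat_lit 3, nat_lit 11, nat_lit 2, nat_lit 8, nat_lit 10, nat_lit 1, nat_lit 8, nat_lit 16, nat_lit 15, nat_lit 14, nat_lit 17, nat_lit 18] (Rl.t1 (nat_lit 2243) (nat_lit 2281))))) (FT.node (nat_lit 2324) (FT.leaf (Fct.mk false (nat_lit 4) (nat_lit 0) (nat_lit 4) [nat_lit 2, nat_lit 3, nat_lit 8, nat_lit 4, nat_lit 5, nat_lit 3, nat_lit 4, nat_lit 2, nat_lit 3, nat_lit 8, nat_lit 6, nat_lit 7, nat_lit 5, nat_lit 6, nat_lit 4, nat_lit 5, nat_lit 3, nat_lit 4, nat_lit 2, nat_lit 3, nat_lit 8, nat_lit 1, nat_lit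 2, nat_lit 3, nat_lit 4, nat_lit 5, nat_lit 6, nat_lit 7, nat_lit 6, nat_lit 9, nat_lit 4, nat_lit 3, nat_lit 2, nat_lit 8, nat_lit 3, nat_lit 2, nat_lit 12, nat_lit 8, nat_lit 16, nat_lit 14, nat_lit 12, nat_lit 18, nat_lit 16] (Rl.cmp (nat_lit 2284) (nat_lit 240)))) (FT.leaf (Fct.mk false (nat_lit 4) (nat_lit 0) (nat_lit 4) [nat_lit 5, nat_lit 4, nat_lit 3, nat_lit 8, nat_lit 6, nat_lit 7, nat_lit 5, nat_lit 6, nat_lit 4, nat_lit 5, nat_lit 3, nat_lit 4, nat_lit 2, nat_lit 3, nat_lit 8, nat_lit 1, nat_lit 2, nat_lit 3, nat_lit 4, nat_lit 5, nat_lit 6, nat_lit 7, nat_lit 8, nat_lit 2, nat_lit 3, nat_lit 4, nat_lit 1, nat_lit 2, nat_lit 3, nat_lit 8, nat_lit 5, nat_lit 6, nat_lit 4, nat_lit 5, nat_lit 3, nat_lit 4, nat_lit 2, nat_lit 3, nat_lit 8, nat_lit 1, nat_lit 2, nat_lit 3, nat_lit 4, nat_lit 5, nat_lit 1, nat_lit 2, nat_lit 8, nat_lit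 3, nat_lit 16, nat_lit 14, nat_lit 12] (Rl.cmp (nat_lit 2284) (nat_lit 2323))))))))) (FT.node (nat_lit 2337) (FT.node (nat_lit 2331) (FT.node (nat_lit 2328) (FT.node (nat_lit 2326) (FT.leaf (Fct.mk true (nat_lit 4) (nat_lit 4751) (nat_lit 3) [nat_lit 8, nat_lit 4, nat_lit 5, nat_lit 2, nat_lit 3, nat_lit 4, nat_lit 1, nat_lit 2, nat_lit 3, nat_lit 8, nat_lit 0, nat_lit 1, nat_lit 2, nat_lit 3, nat_lit 4, nat_lit 5, nat_lit 6, nat_lit 7, nat_lit 8, nat_lit 2, nat_lit 3, nat_lit 4, nat_lit 1, nat_lit 2, nat_lit 3, nat_lit 8, nat_lit 5, nat_lit 6, nat_lit 4, nat_lit 5, nat_lit 3, nat_lit 4, nat_lit 2, nat_lit 3, nat_lit 8, nat_lit 1, nat_lit 2, nat_lit 3, nat_lit 4, nat_lit 5, nat_lit 3, nat_lit 8, nat_lit 4, nat_lit 3, nat_lit 2, nat_lit 1, nat_lit 9, nat_lit 4, nat_lit 3, nat_lit 2, nat_lit 8, nat_lit 3, nat_lit 11, nat_lit 10, nat_lit 12, nat_lit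 15, nat_lit 8, nat_lit 18, nat_lit 16] (Rl.t1 (nat_lit 2322) (nat_lit 2324)))) (FT.node (nat_lit 2327) (FT.leaf (Fct.mk true (nat_lit 4) (nat_lit 5679) (nat_lit 2) [nat_lit 1, nat_lit 2, nat_lit 3, nat_lit 8, nat_lit 5, nat_lit 6, nat_lit 4, nat_lit 5, nat_lit 3, nat_lit 4, nat_lit 2, nat_lit 3, nat_lit 8, nat_lit 1, nat_lit 2, nat_lit 3, nat_lit 4, nat_lit 5, nat_lit 6, nat_lit 7, nat_lit 6, nat_lit 5, nat_lit 4, nat_lit 3, nat_lit 8, nat_lit 1, nat_lit 2, nat_lit 3, nat_lit 4, nat_lit 5, nat_lit 2, nat_lit 1, nat_lit 3, nat_lit 2, nat_lit 0, nat_lit 1, nat_lit 4, nat_lit 3, nat_lit 2, nat_lit 8, nat_lit 3, nat_lit 10, nat_lit 9, nat_lit 2, nat_lit 8, nat_lit 12, nat_lit 15, nat_lit 14, nat_lit 13, nat_lit 19] (Rl.t1 (nat_lit 2249) (nat_lit 2281)))) (FT.leaf (Fct.mk false (nat_lit 4) (nat_lit 0) (nat_lit 4) [nat_lit 2, nat_lit 3, nat_lit 8,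 nat_lit 6, nat_lit 4, nat_lit 5, nat_lit 3, nat_lit 4, nat_lit 2, nat_lit 3, nat_lit 8, nat_lit 1, nat_lit 2, nat_lit 3, nat_lit 4, nat_lit 5, nat_lit 1, nat_lit 2, nat_lit 8, nat_lit 3, nat_lit 9, nat_lit 8, nat_lit 16, nat_lit 14, nat_lit 16, nat_lit 8, nat_lit 18, nat_lit 16] (Rl.cmp (nat_lit 1995) (nat_lit 239)))))) (FT.node (nat_lit 2329) (FT.leaf (Fct.mk false (nat_lit 4) (nat_lit 0) (nat_lit 4) [nat_lit 7, nat_lit 2, nat_lit 3, nat_lit 8, nat_lit 6, nat_lit 4, nat_lit 5, nat_lit 3, nat_lit 4, nat_lit 2, nat_lit 3, nat_lit 8, nat_lit 1, nat_lit 2, nat_lit 3, nat_lit 4, nat_lit 5, nat_lit 1, nat_lit 2, nat_lit 8, nat_lit 3, nat_lit 9, nat_lit 8, nat_lit 16, nat_lit 14, nat_lit 16, nat_lit 8, nat_lit 18, nat_lit 16] (Rl.cmp (nat_lit 263) (nat_lit 2327)))) (FT.node (nat_lit 2330) (FT.leaf (Fct.mk true (nat_lit 4) (nat_lit 1920) (nat_lit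 2) [nat_lit 3, nat_lit 8, nat_lit 7, nat_lit 6, nat_lit 4, nat_lit 5, nat_lit 3, nat_lit 4, nat_lit 2, nat_lit 3, nat_lit 8, nat_lit 1, nat_lit 2, nat_lit 3, nat_lit 4, nat_lit 5, nat_lit 6, nat_lit 7, nat_lit 8, nat_lit 3, nat_lit 4, nat_lit 2, nat_lit 3, nat_lit 8, nat_lit 5, nat_lit 6, nat_lit 4, nat_lit 5, nat_lit 3, nat_lit 4, nat_lit 2, nat_lit 3, nat_lit 8, nat_lit 1, nat_lit 2, nat_lit 3, nat_lit 4, nat_lit 5, nat_lit 0, nat_lit 1, nat_lit 3, nat_lit 2, nat_lit 8, nat_lit 3, nat_lit 9, nat_lit 2, nat_lit 12, nat_lit 8, nat_lit 16, nat_lit 14, nat_lit 13, nat_lit 18] (Rl.t1 (nat_lit 2326) (nat_lit 2328)))) (FT.leaf (Fct.mk false (nat_lit 2) (nat_lit 0) (nat_lit 2) [nat_lit 51] (Rl.cc (nat_lit 1970) (nat_lit 2329))))))) (FT.node (nat_lit 2334) (FT.node (nat_lit 2332) (FT.leaf (Fct.mk false (nat_lit 2) (nat_lit 0) (nat_lit 2) [nat_lit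 5, nat_lit 4, nat_lit 3, nat_lit 8, nat_lit 2, nat_lit 3, nat_lit 4, nat_lit 5, nat_lit 1, nat_lit 8, nat_lit 3, nat_lit 2, nat_lit 0, nat_lit 1, nat_lit 4, nat_lit 3, nat_lit 2, nat_lit 8, nat_lit 3, nat_lit 11, nat_lit 8, nat_lit 10, nat_lit 8, nat_lit 12, nat_lit 15, nat_lit 14, nat_lit 17] (Rl.cmp (nat_lit 300) (nat_lit 2019)))) (FT.node (nat_lit 2333) (FT.leaf (Fct.mk false (nat_lit 2) (nat_lit 0) (nat_lit 2) [nat_lit 3, nat_lit 4, nat_lit 5, nat_lit 2, nat_lit 3, nat_lit 4, nat_lit 1, nat_lit 2, nat_lit 3, nat_lit 8, nat_lit 6, nat_lit 7, nat_lit 5, nat_lit 6, nat_lit 4, nat_lit 5, nat_lit 3, nat_lit 4, nat_lit 2, nat_lit 3, nat_lit 8, nat_lit 1, nat_lit 2, nat_lit 3, nat_lit 4, nat_lit 5, nat_lit 6, nat_lit 7, nat_lit 8, nat_lit 6, nat_lit 5, nat_lit 3, nat_lit 4, nat_lit 2, nat_lit 3, nat_lit 8, nat_lit 1, nat_lit 2, nat_lit 3, nat_lit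 4, nat_lit 5, nat_lit 2, nat_lit 8, nat_lit 3, nat_lit 8, nat_lit 16, nat_lit 14, nat_lit 16] (Rl.cmp (nat_lit 2330) (nat_lit 2331)))) (FT.leaf (Fct.mk true (nat_lit 2) (nat_lit 16165) (nat_lit 6) [nat_lit 8, nat_lit 3, nat_lit 4, nat_lit 2, nat_lit 3, nat_lit 8, nat_lit 5, nat_lit 6, nat_lit 4, nat_lit 5, nat_lit 3, nat_lit 4, nat_lit 2, nat_lit 3, nat_lit 8, nat_lit 1, nat_lit 2, nat_lit 3, nat_lit 4, nat_lit 5, nat_lit 6, nat_lit 7, nat_lit 6, nat_lit 5, nat_lit 4, nat_lit 3, nat_lit 8, nat_lit 1, nat_lit 2, nat_lit 3, nat_lit 4, nat_lit 5, nat_lit 1, nat_lit 2, nat_lit 0, nat_lit 1, nat_lit 4, nat_lit 3, nat_lit 2, nat_lit 8, nat_lit 3, nat_lit 11, nat_lit 10, nat_lit 2, nat_lit 8, nat_lit 10, nat_lit 1, nat_lit 16, nat_lit 14, nat_lit 13, nat_lit 12, nat_lit 18] (Rl.t1 (nat_lit 542) (nat_lit 2332)))))) (FT.node (nat_lit 2335) (FT.leaf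 (Fct.mk false (nat_lit 2) (nat_lit 0) (nat_lit 13) [nat_lit 5, nat_lit 6, nat_lit 4, nat_lit 5, nat_lit 3, nat_lit 4, nat_lit 1, nat_lit 2, nat_lit 3, nat_lit 8, nat_lit 0, nat_lit 1, nat_lit 2, nat_lit 3, nat_lit 4, nat_lit 5, nat_lit 3, nat_lit 2, nat_lit 1, nat_lit 4, nat_lit 3, nat_lit 2, nat_lit 8, nat_lit 3, nat_lit 11, nat_lit 2, nat_lit 10, nat_lit 1, nat_lit 8, nat_lit 12, nat_lit 15, nat_lit 14, nat_lit 13, nat_lit 18] (Rl.einv (nat_lit 2013)))) (FT.node (nat_lit 2336) (FT.leaf (Fct.mk false (nat_lit 2) (nat_lit 0) (nat_lit 10) [nat_lit 5, nat_lit 4, nat_lit 3, nat_lit 8, nat_lit 0, nat_lit 1, nat_lit 2, nat_lit 3, nat_lit 4, nat_lit 5, nat_lit 6, nat_lit 7, nat_lit 5, nat_lit 4, nat_lit 3, nat_lit 8, nat_lit 0, nat_lit 1, nat_lit 2, nat_lit 3, nat_lit 4, nat_lit 5, nat_lit 0, nat_lit 1, nat_lit 9, nat_lit 4, nat_lit 3, nat_lit 2,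 nat_lit 8, nat_lit 3, nat_lit 0, nat_lit 2, nat_lit 8, nat_lit 16, nat_lit 14, nat_lit 17, nat_lit 12, nat_lit 18, nat_lit 16] (Rl.cmp (nat_lit 2334) (nat_lit 2289)))) (FT.leaf (Fct.mk false (nat_lit 2) (nat_lit 0) (nat_lit 3) [nat_lit 1, nat_lit 2, nat_lit 3, nat_lit 8, nat_lit 4, nat_lit 5, nat_lit 3, nat_lit 4, nat_lit 2, nat_lit 3, nat_lit 8, nat_lit 6, nat_lit 7, nat_lit 5, nat_lit 6, nat_lit 4, nat_lit 5, nat_lit 3, nat_lit 4, nat_lit 2, nat_lit 3, nat_lit 8, nat_lit 0, nat_lit 1, nat_lit 2, nat_lit 3, nat_lit 4, nat_lit 5, nat_lit 6, nat_lit 7, nat_lit 6, nat_lit 5, nat_lit 4, nat_lit 3, nat_lit 8, nat_lit 2, nat_lit 3, nat_lit 4, nat_lit 1, nat_lit 2, nat_lit 3, nat_lit 8, nat_lit 5, nat_lit 6, nat_lit 4, nat_lit 5, nat_lit 3, nat_lit 4, nat_lit 2, nat_lit 3, nat_lit 8, nat_lit 1, nat_lit 2, nat_lit 3, nat_lit 4, nat_lit 5, nat_lit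 3, nat_lit 2, nat_lit 1, nat_lit 8, nat_lit 3, nat_lit 2, nat_lit 0, nat_lit 1, nat_lit 9, nat_lit 4, nat_lit 3, nat_lit 2, nat_lit 8, nat_lit 3, nat_lit 10, nat_lit 1, nat_lit 12, nat_lit 15, nat_lit 14, nat_lit 13, nat_lit 12, nat_lit 19, nat_lit 16] (Rl.cmp (nat_lit 2335) (nat_lit 2043)))))))) (FT.node (nat_lit 2343) (FT.node (nat_lit 2340) (FT.node (nat_lit 2338) (FT.leaf (Fct.mk false (nat_lit 3) (nat_lit 0) (nat_lit 2) [nat_lit 7, nat_lit 6, nat_lit 5, nat_lit 4, nat_lit 1, nat_lit 2, nat_lit 3, nat_lit 8, nat_lit 0, nat_lit 1, nat_lit 2, nat_lit 3, nat_lit 4, nat_lit 5, nat_lit 6, nat_lit 7, nat_lit 2, nat_lit 3, nat_lit 8, nat_lit 6, nat_lit 4, nat_lit 5, nat_lit 3, nat_lit 4, nat_lit 2, nat_lit 3, nat_lit 8, nat_lit 0, nat_lit 1, nat_lit 2, nat_lit 3, nat_lit 4, nat_lit 5, nat_lit 3, nat_lit 2, nat_lit 1, nat_lit 8, nat_lit 3, nat_lit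 2, nat_lit 0, nat_lit 1, nat_lit 4, nat_lit 3, nat_lit 2, nat_lit 8, nat_lit 3, nat_lit 11, nat_lit 2, nat_lit 10, nat_lit 1, nat_lit 16, nat_lit 14, nat_lit 16, nat_lit 8, nat_lit 19] (Rl.einv (nat_lit 2336)))) (FT.node (nat_lit 2339) (FT.leaf (Fct.mk false (nat_lit 2) (nat_lit 0) (nat_lit 3) [nat_lit 1, nat_lit 2, nat_lit 3, nat_lit 8, nat_lit 4, nat_lit 5, nat_lit 3, nat_lit 4, nat_lit 2, nat_lit 3, nat_lit 8, nat_lit 6, nat_lit 7, nat_lit 5, nat_lit 6, nat_lit 4, nat_lit 5, nat_lit 3, nat_lit 4, nat_lit 2, nat_lit 3, nat_lit 8, nat_lit 0, nat_lit 1, nat_lit 2, nat_lit 3, nat_lit 4, nat_lit 5, nat_lit 6, nat_lit 7, nat_lit 6, nat_lit 5, nat_lit 4, nat_lit 3, nat_lit 8, nat_lit 2, nat_lit 3, nat_lit 4, nat_lit 1, nat_lit 2, nat_lit 3, nat_lit 8, nat_lit 5, nat_lit 6, nat_lit 4, nat_lit 5, nat_lit 3, nat_lit 4, nat_lit 2, nat_lit 3, nat_lit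 8, nat_lit 1, nat_lit 2, nat_lit 3, nat_lit 4, nat_lit 5, nat_lit 3, nat_lit 2, nat_lit 1, nat_lit 8, nat_lit 3, nat_lit 2, nat_lit 0, nat_lit 1, nat_lit 9, nat_lit 4, nat_lit 3, nat_lit 2, nat_lit 8, nat_lit 3, nat_lit 10, nat_lit 1, nat_lit 12, nat_lit 15, nat_lit 14, nat_lit 13, nat_lit 12, nat_lit 19, nat_lit 16] (Rl.einv (nat_lit 2337)))) (FT.leaf (Fct.mk false (nat_lit 2) (nat_lit 0) (nat_lit 3) [nat_lit 1, nat_lit 2, nat_lit 3, nat_lit 8, nat_lit 4, nat_lit 5, nat_lit 3, nat_lit 4, nat_lit 2, nat_lit 3, nat_lit 8, nat_lit 6, nat_lit 7, nat_lit 5, nat_lit 6, nat_lit 4, nat_lit 5, nat_lit 3, nat_lit 4, nat_lit 2, nat_lit 3, nat_lit 8, nat_lit 0, nat_lit 1, nat_lit 2, nat_lit 3, nat_lit 4, nat_lit 5, nat_lit 6, nat_lit 7, nat_lit 8, nat_lit 2, nat_lit 3, nat_lit 4, nat_lit 1, nat_lit 2, nat_lit 3, nat_lit 8, nat_lit 5, nat_lit 6, nat_lit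 4, nat_lit 5, nat_lit 3, nat_lit 4, nat_lit 2, nat_lit 3, nat_lit 8, nat_lit 1, nat_lit 2, nat_lit 3, nat_lit 4, nat_lit 5, nat_lit 8, nat_lit 4, nat_lit 3, nat_lit 2, nat_lit 0, nat_lit 1, nat_lit 9, nat_lit 4, nat_lit 3, nat_lit 2, nat_lit 8, nat_lit 3, nat_lit 2, nat_lit 8, nat_lit 10, nat_lit 1, nat_lit 12, nat_lit 8, nat_lit 16, nat_lit 14, nat_lit 8, nat_lit 19, nat_lit 16] (Rl.cmp (nat_lit 2338) (nat_lit 206)))))) (FT.node (nat_lit 2341) (FT.leaf (Fct.mk false (nat_lit 2) (nat_lit 0) (nat_lit 2) [nat_lit 53] (Rl.cmp (nat_lit 2339) (nat_lit 2337)))) (FT.node (nat_lit 2342) (FT.leaf (Fct.mk false (nat_lit 2) (nat_lit 0) (nat_lit 2) [nat_lit 4, nat_lit 5, nat_lit 3, nat_lit 4, nat_lit 1, nat_lit 2, nat_lit 3, nat_lit 8, nat_lit 6, nat_lit 7, nat_lit 5, nat_lit 6, nat_lit 4, nat_lit 5, nat_lit 3, nat_lit 4, nat_lit 2, nat_lit 3, nat_lit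 8, nat_lit 1, nat_lit 2, nat_lit 3, nat_lit 4, nat_lit 5, nat_lit 6, nat_lit 7, nat_lit 4, nat_lit 5, nat_lit 3, nat_lit 4, nat_lit 2, nat_lit 3, nat_lit 8, nat_lit 1, nat_lit 2, nat_lit 3, nat_lit 4, nat_lit 5, nat_lit 1, nat_lit 3, nat_lit 2, nat_lit 8, nat_lit 3, nat_lit 2, nat_lit 8, nat_lit 10, nat_lit 1, nat_lit 14, nat_lit 12, nat_lit 18, nat_lit 16] (Rl.cmp (nat_lit 2340) (nat_lit 84)))) (FT.leaf (Fct.mk true (nat_lit 2) (nat_lit 128077) (nat_lit 1) [nat_lit 1, nat_lit 2, nat_lit 3, nat_lit 8, nat_lit 4, nat_lit 5, nat_lit 3, nat_lit 4, nat_lit 2, nat_lit 3, nat_lit 8, nat_lit 6, nat_lit 7, nat_lit 5, nat_lit 6, nat_lit 4, nat_lit 5, nat_lit 3, nat_lit 4, nat_lit 2, nat_lit 3, nat_lit 8, nat_lit 0, nat_lit 1, nat_lit 2, nat_lit 3, nat_lit 4, nat_lit 5, nat_lit 6, nat_lit 7, nat_lit 8, nat_lit 6, nat_lit 4, nat_lit 5, nat_lit 2, nat_lit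 3, nat_lit 4, nat_lit 1, nat_lit 2, nat_lit 3, nat_lit 8, nat_lit 0, nat_lit 1, nat_lit 2, nat_lit 3, nat_lit 4, nat_lit 5, nat_lit 1, nat_lit 9, nat_lit 4, nat_lit 3, nat_lit 2, nat_lit 8, nat_lit 3, nat_lit 8, nat_lit 10, nat_lit 1, nat_lit 16, nat_lit 15, nat_lit 14, nat_lit 16, nat_lit 8, nat_lit 19] (Rl.t1 (nat_lit 208) (nat_lit 2337))))))) (FT.node (nat_lit 2346) (FT.node (nat_lit 2344) (FT.leaf (Fct.mk false (nat_lit 2) (nat_lit 0) (nat_lit 2) [nat_lit 7, nat_lit 5, nat_lit 4, nat_lit 3, nat_lit 8, nat_lit 2, nat_lit 3, nat_lit 4, nat_lit 5, nat_lit 0, nat_lit 1, nat_lit 4, nat_lit 3, nat_lit 2, nat_lit 8, nat_lit 3, nat_lit 8, nat_lit 10, nat_lit 1, nat_lit 14, nat_lit 8] (Rl.cmp (nat_lit 2340) (nat_lit 2330)))) (FT.node (nat_lit 2345) (FT.leaf (Fct.mk false (nat_lit 2) (nat_lit 0) (nat_lit 2) [nat_lit 7, nat_lit 5, nat_lit 4, nat_lit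 3, nat_lit 8, nat_lit 2, nat_lit 3, nat_lit 4, nat_lit 5, nat_lit 0, nat_lit 1, nat_lit 4, nat_lit 3, nat_lit 2, nat_lit 8, nat_lit 3, nat_lit 8, nat_lit 10, nat_lit 1, nat_lit 14, nat_lit 12, nat_lit 18] (Rl.cmp (nat_lit 84) (nat_lit 2343)))) (FT.leaf (Fct.mk false (nat_lit 2) (nat_lit 0) (nat_lit 2) [nat_lit 4, nat_lit 5, nat_lit 3, nat_lit 4, nat_lit 1, nat_lit 2, nat_lit 3, nat_lit 8, nat_lit 6, nat_lit 7, nat_lit 5, nat_lit 6, nat_lit 4, nat_lit 5, nat_lit 3, nat_lit 4, nat_lit 2, nat_lit 3, nat_lit 8, nat_lit 1, nat_lit 2, nat_lit 3, nat_lit 4, nat_lit 5, nat_lit 6, nat_lit 7, nat_lit 8, nat_lit 5, nat_lit 3, nat_lit 4, nat_lit 2, nat_lit 3, nat_lit 8, nat_lit 1, nat_lit 2, nat_lit 3, nat_lit 4, nat_lit 5, nat_lit 8, nat_lit 3, nat_lit 11, nat_lit 10, nat_lit 8, nat_lit 16, nat_lit 14, nat_lit 17, nat_lit 12, nat_lit 19, nat_lit 16] (Rl.cmp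 (nat_lit 2330) (nat_lit 2344)))))) (FT.node (nat_lit 2348) (FT.node (nat_lit 2347) (FT.leaf (Fct.mk true (nat_lit 2) (nat_lit 16191) (nat_lit 1) [nat_lit 5, nat_lit 6, nat_lit 7, nat_lit 4, nat_lit 5, nat_lit 6, nat_lit 3, nat_lit 4, nat_lit 5, nat_lit 2, nat_lit 3, nat_lit 4, nat_lit 1, nat_lit 2, nat_lit 3, nat_lit 8, nat_lit 0, nat_lit 1, nat_lit 2, nat_lit 3, nat_lit 4, nat_lit 5, nat_lit 6, nat_lit 7, nat_lit 4, nat_lit 3, nat_lit 8, nat_lit 5, nat_lit 6, nat_lit 4, nat_lit 5, nat_lit 3, nat_lit 4, nat_lit 2, nat_lit 3, nat_lit 8, nat_lit 0, nat_lit 1, nat_lit 2, nat_lit 3, nat_lit 4, nat_lit 5, nat_lit 0, nat_lit 1, nat_lit 2, nat_lit 3, nat_lit 1, nat_lit 0, nat_lit 2, nat_lit 14, nat_lit 8, nat_lit 18, nat_lit 16] (Rl.t1 (nat_lit 2342) (nat_lit 2345)))) (FT.leaf (Fct.mk true (nat_lit 2) (nat_lit 126088) (nat_lit 5) [nat_lit 1, nat_lit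 2, nat_lit 3, nat_lit 8, nat_lit 4, nat_lit 5, nat_lit 3, nat_lit 4, nat_lit 2, nat_lit 3, nat_lit 8, nat_lit 6, nat_lit 7, nat_lit 5, nat_lit 6, nat_lit 4, nat_lit 5, nat_lit 3, nat_lit 4, nat_lit 2, nat_lit 3, nat_lit 8, nat_lit 0, nat_lit 1, nat_lit 2, nat_lit 3, nat_lit 4, nat_lit 5, nat_lit 6, nat_lit 7, nat_lit 3, nat_lit 8, nat_lit 6, nat_lit 5, nat_lit 2, nat_lit 3, nat_lit 4, nat_lit 1, nat_lit 2, nat_lit 3, nat_lit 8, nat_lit 0, nat_lit 1, nat_lit 2, nat_lit 3, nat_lit 4, nat_lit 5, nat_lit 2, nat_lit 3, nat_lit 10, nat_lit 2, nat_lit 8, nat_lit 10, nat_lit 1, nat_lit 12, nat_lit 15, nat_lit 14, nat_lit 19] (Rl.t1 (nat_lit 486) (nat_lit 2337))))) (FT.node (nat_lit 2349) (FT.leaf (Fct.mk false (nat_lit 2) (nat_lit 0) (nat_lit 2) [nat_lit 18] (Rl.cmp (nat_lit 86) (nat_lit 84)))) (FT.leaf (Fct.mk false (nat_lit 2) (nat_lit 0) (nat_lit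 2) [nat_lit 4, nat_lit 5, nat_lit 3, nat_lit 4, nat_lit 1, nat_lit 2, nat_lit 3, nat_lit 8, nat_lit 6, nat_lit 7, nat_lit 5, nat_lit 6, nat_lit 4, nat_lit 5, nat_lit 3, nat_lit 4, nat_lit 2, nat_lit 3, nat_lit 8, nat_lit 1, nat_lit 2, nat_lit 3, nat_lit 4, nat_lit 5, nat_lit 6, nat_lit 7, nat_lit 4, nat_lit 5, nat_lit 3, nat_lit 4, nat_lit 2, nat_lit 3, nat_lit 8, nat_lit 1, nat_lit 2, nat_lit 3, nat_lit 4, nat_lit 5, nat_lit 1, nat_lit 2, nat_lit 3, nat_lit 8, nat_lit 10, nat_lit 1, nat_lit 14, nat_lit 12, nat_lit 19] (Rl.cmp (nat_lit 2340) (nat_lit 2348)))))))))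

/-- some facts -/
noncomputable def ftc47 : FT := FT.node (nat_lit 2375) (FT.node (nat_lit 2362) (FT.node (nat_lit 2356) (FT.node (nat_lit 2353) (FT.node (nat_lit 2351) (FT.leaf (Fct.mk false (nat_lit 2) (nat_lit 0) (nat_lit 2) [nat_lit 5, nat_lit 4, nat_lit 1, nat_lit 2, nat_lit 3, nat_lit 8, nat_lit 6, nat_lit 7, nat_lit 5, nat_lit 6, nat_lit 4, nat_lit 5, nat_lit 3, nat_lit 4, nat_lit 2, nat_lit 3, nat_lit 8, nat_lit 1, nat_lit 2, nat_lit 3, nat_lit 4, nat_lit 5, nat_lit 6, nat_lit 7, nat_lit 8, nat_lit 5, nat_lit 3, nat_lit 4, nat_lit 2, nat_lit 3, nat_lit 8, nat_lit 1, nat_lit 2, nat_lit 3, nat_lit 4, nat_lit 5, nat_lit 8, nat_lit 3, nat_lit 2, nat_lit 1, nat_lit 4, nat_lit 3, nat_lit 2, nat_lit 8, nat_lit 3, nat_lit 9, nat_lit 8, nat_lit 16, nat_lit 14, nat_lit 16, nat_lit 8] (Rl.cmp (nat_lit 87) (nat_lit 2349)))) (FT.node (nat_lit 2352)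 (FT.leaf (Fct.mk false (nat_lit 2) (nat_lit 0) (nat_lit 2) [nat_lit 1, nat_lit 2, nat_lit 3, nat_lit 8, nat_lit 6, nat_lit 4, nat_lit 5, nat_lit 3, nat_lit 4, nat_lit 2, nat_lit 3, nat_lit 8, nat_lit 1, nat_lit 2, nat_lit 3, nat_lit 4, nat_lit 5, nat_lit 3, nat_lit 2, nat_lit 1, nat_lit 8, nat_lit 3, nat_lit 2, nat_lit 0, nat_lit 1, nat_lit 4, nat_lit 3, nat_lit 2, nat_lit 8, nat_lit 3, nat_lit 2, nat_lit 10, nat_lit 1, nat_lit 8, nat_lit 12, nat_lit 15, nat_lit 14, nat_lit 12, nat_lit 18] (Rl.cmp (nat_lit 2330) (nat_lit 2350)))) (FT.leaf (Fct.mk true (nat_lit 2) (nat_lit 16227) (nat_lit 5) [nat_lit 5, nat_lit 6, nat_lit 7, nat_lit 4, nat_lit 5, nat_lit 6, nat_lit 3, nat_lit 4, nat_lit 5, nat_lit 2, nat_lit 3, nat_lit 4, nat_lit 1, nat_lit 2, nat_lit 3, nat_lit 8, nat_lit 0, nat_lit 1, nat_lit 2, nat_lit 3, nat_lit 4, nat_lit 5, nat_lit 6,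 nat_lit 7, nat_lit 3, nat_lit 4, nat_lit 5, nat_lit 2, nat_lit 3, nat_lit 4, nat_lit 1, nat_lit 2, nat_lit 3, nat_lit 8, nat_lit 0, nat_lit 1, nat_lit 2, nat_lit 3, nat_lit 4, nat_lit 5, nat_lit 3, nat_lit 2, nat_lit 1, nat_lit 9, nat_lit 4, nat_lit 3, nat_lit 2, nat_lit 8, nat_lit 3, nat_lit 10, nat_lit 16, nat_lit 15, nat_lit 14, nat_lit 17, nat_lit 12] (Rl.t1 (nat_lit 2347) (nat_lit 2351)))))) (FT.node (nat_lit 2354) (FT.leaf (Fct.mk true (nat_lit 2) (nat_lit 47299) (nat_lit 14) [nat_lit 6, nat_lit 7, nat_lit 5, nat_lit 6, nat_lit 4, nat_lit 5, nat_lit 3, nat_lit 4, nat_lit 2, nat_lit 3, nat_lit 8, nat_lit 1, nat_lit 2, nat_lit 3, nat_lit 4, nat_lit 5, nat_lit 6, nat_lit 7, nat_lit 5, nat_lit 4, nat_lit 3, nat_lit 8, nat_lit 2, nat_lit 3, nat_lit 4, nat_lit 1, nat_lit 2, nat_lit 3, nat_lit 8, nat_lit 5, nat_lit 6, nat_lit 4, nat_lit 5, nat_lit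 3, nat_lit 4, nat_lit 2, nat_lit 3, nat_lit 8, nat_lit 1, nat_lit 2, nat_lit 3, nat_lit 4, nat_lit 5, nat_lit 3, nat_lit 2, nat_lit 1, nat_lit 8, nat_lit 3, nat_lit 2, nat_lit 0, nat_lit 1, nat_lit 9, nat_lit 4, nat_lit 3, nat_lit 2, nat_lit 8, nat_lit 3, nat_lit 11, nat_lit 15, nat_lit 14, nat_lit 8, nat_lit 18] (Rl.t1 (nat_lit 881) (nat_lit 2337)))) (FT.node (nat_lit 2355) (FT.leaf (Fct.mk false (nat_lit 2) (nat_lit 0) (nat_lit 2) [nat_lit 7, nat_lit 6, nat_lit 8, nat_lit 3, nat_lit 10] (Rl.cmp (nat_lit 87) (nat_lit 172)))) (FT.leaf (Fct.mk false (nat_lit 2) (nat_lit 0) (nat_lit 2) [nat_lit 4, nat_lit 5, nat_lit 3, nat_lit 4, nat_lit 1, nat_lit 2, nat_lit 3, nat_lit 8, nat_lit 6, nat_lit 7, nat_lit 5, nat_lit 6, nat_lit 4, nat_lit 5, nat_lit 3, nat_lit 4, nat_lit 2, nat_lit 3, nat_lit 8, nat_lit 1, nat_lit 2, nat_lit 3, nat_lit 4, nat_lit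 5, nat_lit 6, nat_lit 7, nat_lit 8, nat_lit 6, nat_lit 5, nat_lit 3, nat_lit 4, nat_lit 2, nat_lit 3, nat_lit 8, nat_lit 1, nat_lit 2, nat_lit 3, nat_lit 4, nat_lit 5, nat_lit 2, nat_lit 1, nat_lit 8, nat_lit 3, nat_lit 2, nat_lit 0, nat_lit 1, nat_lit 4, nat_lit 3, nat_lit 2, nat_lit 8, nat_lit 3, nat_lit 2, nat_lit 8, nat_lit 10, nat_lit 1, nat_lit 16, nat_lit 12, nat_lit 15, nat_lit 14, nat_lit 17] (Rl.cmp (nat_lit 2330) (nat_lit 2354))))))) (FT.node (nat_lit 2359) (FT.node (nat_lit 2357) (FT.leaf (Fct.mk true (nat_lit 2) (nat_lit 430) (nat_lit 14) [nat_lit 2, nat_lit 3, nat_lit 4, nat_lit 1, nat_lit 2, nat_lit 3, nat_lit 8, nat_lit 0, nat_lit 1, nat_lit 2, nat_lit 3, nat_lit 4, nat_lit 5, nat_lit 6, nat_lit 7, nat_lit 5, nat_lit 2, nat_lit 3, nat_lit 4, nat_lit 1, nat_lit 2, nat_lit 3, nat_lit 8, nat_lit 0, nat_lit 1, nat_lit 2, nat_lit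 3, nat_lit 4, nat_lit 5, nat_lit 3, nat_lit 2, nat_lit 1, nat_lit 8, nat_lit 3, nat_lit 2, nat_lit 0, nat_lit 1, nat_lit 9, nat_lit 4, nat_lit 3, nat_lit 2, nat_lit 8, nat_lit 3, nat_lit 8, nat_lit 10, nat_lit 0, nat_lit 16, nat_lit 15, nat_lit 14, nat_lit 17, nat_lit 19] (Rl.t1 (nat_lit 2353) (nat_lit 2355)))) (FT.node (nat_lit 2358) (FT.leaf (Fct.mk false (nat_lit 9) (nat_lit 0) (nat_lit 14) [nat_lit 4, nat_lit 3, nat_lit 8, nat_lit 5, nat_lit 6, nat_lit 4, nat_lit 5, nat_lit 3, nat_lit 4, nat_lit 2, nat_lit 3, nat_lit 8, nat_lit 1, nat_lit 2, nat_lit 3, nat_lit 4, nat_lit 5, nat_lit 6, nat_lit 7, nat_lit 8, nat_lit 3, nat_lit 4, nat_lit 2, nat_lit 3, nat_lit 8, nat_lit 1, nat_lit 2, nat_lit 3, nat_lit 4, nat_lit 5, nat_lit 1, nat_lit 3, nat_lit 2, nat_lit 0, nat_lit 1, nat_lit 9, nat_lit 4, nat_lit 3, nat_lit 2, nat_lit 8, nat_lit 3, nat_lit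 8, nat_lit 10, nat_lit 8, nat_lit 12, nat_lit 15, nat_lit 14, nat_lit 19] (Rl.cc (nat_lit 649) (nat_lit 2356)))) (FT.leaf (Fct.mk true (nat_lit 2) (nat_lit 130317) (nat_lit 25) [nat_lit 1, nat_lit 2, nat_lit 3, nat_lit 8, nat_lit 4, nat_lit 5, nat_lit 3, nat_lit 4, nat_lit 2, nat_lit 3, nat_lit 8, nat_lit 6, nat_lit 7, nat_lit 5, nat_lit 6, nat_lit 4, nat_lit 5, nat_lit 3, nat_lit 4, nat_lit 2, nat_lit 3, nat_lit 8, nat_lit 0, nat_lit 1, nat_lit 2, nat_lit 3, nat_lit 4, nat_lit 5, nat_lit 6, nat_lit 7, nat_lit 5, nat_lit 3, nat_lit 4, nat_lit 2, nat_lit 3, nat_lit 8, nat_lit 1, nat_lit 2, nat_lit 3, nat_lit 4, nat_lit 5, nat_lit 2, nat_lit 1, nat_lit 3, nat_lit 2, nat_lit 0, nat_lit 1, nat_lit 9, nat_lit 4, nat_lit 3, nat_lit 2, nat_lit 8, nat_lit 3, nat_lit 9, nat_lit 12, nat_lit 15, nat_lit 8, nat_lit 18, nat_lit 16] (Rl.t1 (nat_lit 2140)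 (nat_lit 2337)))))) (FT.node (nat_lit 2360) (FT.leaf (Fct.mk false (nat_lit 2) (nat_lit 0) (nat_lit 2) [nat_lit 18] (Rl.cmp (nat_lit 86) (nat_lit 84)))) (FT.node (nat_lit 2361) (FT.leaf (Fct.mk false (nat_lit 2) (nat_lit 0) (nat_lit 2) [nat_lit 4, nat_lit 5, nat_lit 3, nat_lit 4, nat_lit 1, nat_lit 2, nat_lit 3, nat_lit 8, nat_lit 6, nat_lit 7, nat_lit 5, nat_lit 6, nat_lit 4, nat_lit 5, nat_lit 3, nat_lit 4, nat_lit 2, nat_lit 3, nat_lit 8, nat_lit 1, nat_lit 2, nat_lit 3, nat_lit 4, nat_lit 5, nat_lit 6, nat_lit 7, nat_lit 4, nat_lit 5, nat_lit 3, nat_lit 4, nat_lit 2, nat_lit 3, nat_lit 8, nat_lit 1, nat_lit 2, nat_lit 3, nat_lit 4, nat_lit 5, nat_lit 1, nat_lit 2, nat_lit 3, nat_lit 8, nat_lit 10, nat_lit 1, nat_lit 14, nat_lit 12, nat_lit 19] (Rl.cmp (nat_lit 2340) (nat_lit 2359)))) (FT.leaf (Fct.mk false (nat_lit 2) (nat_lit 0) (nat_lit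 2) [nat_lit 8, nat_lit 5, nat_lit 2, nat_lit 3, nat_lit 4, nat_lit 1, nat_lit 2, nat_lit 3, nat_lit 8, nat_lit 6, nat_lit 7, nat_lit 5, nat_lit 6, nat_lit 4, nat_lit 5, nat_lit 3, nat_lit 4, nat_lit 2, nat_lit 3, nat_lit 8, nat_lit 1, nat_lit 2, nat_lit 3, nat_lit 4, nat_lit 5, nat_lit 6, nat_lit 7, nat_lit 4, nat_lit 5, nat_lit 3, nat_lit 4, nat_lit 2, nat_lit 3, nat_lit 8, nat_lit 1, nat_lit 2, nat_lit 3, nat_lit 4, nat_lit 5, nat_lit 8, nat_lit 3, nat_lit 2, nat_lit 1, nat_lit 4, nat_lit 3, nat_lit 2, nat_lit 8, nat_lit 3, nat_lit 9, nat_lit 8, nat_lit 16, nat_lit 14, nat_lit 16, nat_lit 8] (Rl.cmp (nat_lit 84) (nat_lit 2360)))))))) (FT.node (nat_lit 2368) (FT.node (nat_lit 2365) (FT.node (nat_lit 2363) (FT.leaf (Fct.mk false (nat_lit 2) (nat_lit 0) (nat_lit 2) [nat_lit 6, nat_lit 7, nat_lit 1, nat_lit 2, nat_lit 3, nat_lit 8, nat_lit 4,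 nat_lit 5, nat_lit 3, nat_lit 4, nat_lit 2, nat_lit 3, nat_lit 8, nat_lit 1, nat_lit 2, nat_lit 3, nat_lit 4, nat_lit 5, nat_lit 3, nat_lit 2, nat_lit 1, nat_lit 8, nat_lit 3, nat_lit 2, nat_lit 0, nat_lit 1, nat_lit 4, nat_lit 3, nat_lit 2, nat_lit 8, nat_lit 3, nat_lit 2, nat_lit 10, nat_lit 1, nat_lit 8, nat_lit 12, nat_lit 15, nat_lit 14, nat_lit 12, nat_lit 18] (Rl.cmp (nat_lit 2330) (nat_lit 2361)))) (FT.node (nat_lit 2364) (FT.leaf (Fct.mk true (nat_lit 2) (nat_lit 16182) (nat_lit 25) [nat_lit 5, nat_lit 6, nat_lit 7, nat_lit 4, nat_lit 5, nat_lit 6, nat_lit 3, nat_lit 4, nat_lit 5, nat_lit 2, nat_lit 3, nat_lit 4, nat_lit 1, nat_lit 2, nat_lit 3, nat_lit 8, nat_lit 0, nat_lit 1, nat_lit 2, nat_lit 3, nat_lit 4, nat_lit 5, nat_lit 6, nat_lit 7, nat_lit 8, nat_lit 6, nat_lit 5, nat_lit 3, nat_lit 4, nat_lit 2, nat_lit 3, nat_lit 8, nat_lit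 1, nat_lit 2, nat_lit 3, nat_lit 4, nat_lit 5, nat_lit 1, nat_lit 8, nat_lit 4, nat_lit 3, nat_lit 2, nat_lit 0, nat_lit 1, nat_lit 9, nat_lit 4, nat_lit 3, nat_lit 2, nat_lit 8, nat_lit 3, nat_lit 11, nat_lit 2, nat_lit 16, nat_lit 14, nat_lit 16, nat_lit 8, nat_lit 19, nat_lit 16] (Rl.t1 (nat_lit 2358) (nat_lit 2362)))) (FT.leaf (Fct.mk true (nat_lit 2) (nat_lit 6782) (nat_lit 6) [nat_lit 4, nat_lit 5, nat_lit 3, nat_lit 4, nat_lit 1, nat_lit 2, nat_lit 3, nat_lit 8, nat_lit 6, nat_lit 7, nat_lit 5, nat_lit 6, nat_lit 4, nat_lit 5, nat_lit 3, nat_lit 4, nat_lit 2, nat_lit 3, nat_lit 8, nat_lit 1, nat_lit 2, nat_lit 3, nat_lit 4, nat_lit 5, nat_lit 6, nat_lit 7, nat_lit 2, nat_lit 3, nat_lit 4, nat_lit 1, nat_lit 2, nat_lit 3, nat_lit 8, nat_lit 5, nat_lit 6, nat_lit 4, nat_lit 5, nat_lit 3, nat_lit 4, nat_lit 2, nat_lit 3, nat_lit 8, nat_lit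 1, nat_lit 2, nat_lit 3, nat_lit 4, nat_lit 5, nat_lit 2, nat_lit 1, nat_lit 4, nat_lit 3, nat_lit 2, nat_lit 8, nat_lit 3, nat_lit 8, nat_lit 10, nat_lit 0, nat_lit 8, nat_lit 12, nat_lit 15, nat_lit 14, nat_lit 17] (Rl.t1 (nat_lit 2241) (nat_lit 2337)))))) (FT.node (nat_lit 2366) (FT.leaf (Fct.mk false (nat_lit 2) (nat_lit 0) (nat_lit 2) [nat_lit 7, nat_lit 6, nat_lit 3, nat_lit 2, nat_lit 8, nat_lit 3, nat_lit 8, nat_lit 10, nat_lit 8] (Rl.cmp (nat_lit 172) (nat_lit 86)))) (FT.node (nat_lit 2367) (FT.leaf (Fct.mk false (nat_lit 2) (nat_lit 0) (nat_lit 2) [nat_lit 5, nat_lit 4, nat_lit 1, nat_lit 2, nat_lit 3, nat_lit 8, nat_lit 6, nat_lit 7, nat_lit 5, nat_lit 6, nat_lit 4, nat_lit 5, nat_lit 3, nat_lit 4, nat_lit 2, nat_lit 3, nat_lit 8, nat_lit 1, nat_lit 2, nat_lit 3, nat_lit 4, nat_lit 5, nat_lit 6, nat_lit 7, nat_lit 6, nat_lit 5, nat_lit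 3, nat_lit 4, nat_lit 2, nat_lit 3, nat_lit 8, nat_lit 1, nat_lit 2, nat_lit 3, nat_lit 4, nat_lit 5, nat_lit 8, nat_lit 3, nat_lit 2, nat_lit 1, nat_lit 4, nat_lit 3, nat_lit 2, nat_lit 8, nat_lit 3, nat_lit 8, nat_lit 10, nat_lit 14, nat_lit 16] (Rl.cmp (nat_lit 2340) (nat_lit 2365)))) (FT.leaf (Fct.mk false (nat_lit 2) (nat_lit 0) (nat_lit 2) [nat_lit 5, nat_lit 4, nat_lit 3, nat_lit 8, nat_lit 2, nat_lit 3, nat_lit 4, nat_lit 1, nat_lit 2, nat_lit 3, nat_lit 8, nat_lit 5, nat_lit 6, nat_lit 4, nat_lit 5, nat_lit 3, nat_lit 4, nat_lit 2, nat_lit 3, nat_lit 8, nat_lit 1, nat_lit 2, nat_lit 3, nat_lit 4, nat_lit 5, nat_lit 3, nat_lit 2, nat_lit 0, nat_lit 1, nat_lit 4, nat_lit 3, nat_lit 2, nat_lit 8, nat_lit 3, nat_lit 0, nat_lit 2, nat_lit 8, nat_lit 12, nat_lit 15, nat_lit 8, nat_lit 18] (Rl.cmp (nat_lit 2330) (nat_lit 2366))))))) (FT.node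 (nat_lit 2371) (FT.node (nat_lit 2369) (FT.leaf (Fct.mk false (nat_lit 2) (nat_lit 0) (nat_lit 2) [nat_lit 1, nat_lit 2, nat_lit 3, nat_lit 8, nat_lit 6, nat_lit 4, nat_lit 5, nat_lit 3, nat_lit 4, nat_lit 2, nat_lit 3, nat_lit 8, nat_lit 1, nat_lit 2, nat_lit 3, nat_lit 4, nat_lit 5, nat_lit 2, nat_lit 1, nat_lit 8, nat_lit 3, nat_lit 2, nat_lit 0, nat_lit 1, nat_lit 4, nat_lit 3, nat_lit 2, nat_lit 8, nat_lit 3, nat_lit 10, nat_lit 8, nat_lit 12, nat_lit 15, nat_lit 14, nat_lit 8, nat_lit 18] (Rl.cmp (nat_lit 2019) (nat_lit 2367)))) (FT.node (nat_lit 2370) (FT.leaf (Fct.mk true (nat_lit 2) (nat_lit 640) (nat_lit 6) [nat_lit 5, nat_lit 3, nat_lit 4, nat_lit 1, nat_lit 2, nat_lit 3, nat_lit 8, nat_lit 6, nat_lit 7, nat_lit 5, nat_lit 6, nat_lit 4, nat_lit 5, nat_lit 3, nat_lit 4, nat_lit 2, nat_lit 3, nat_lit 8, nat_lit 1, nat_lit 2, nat_lit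 3, nat_lit 4, nat_lit 5, nat_lit 6, nat_lit 7, nat_lit 4, nat_lit 1, nat_lit 2, nat_lit 3, nat_lit 8, nat_lit 0, nat_lit 1, nat_lit 2, nat_lit 3, nat_lit 4, nat_lit 5, nat_lit 3, nat_lit 2, nat_lit 1, nat_lit 4, nat_lit 3, nat_lit 2, nat_lit 8, nat_lit 3, nat_lit 0, nat_lit 12, nat_lit 15, nat_lit 14, nat_lit 12, nat_lit 16] (Rl.t1 (nat_lit 2364) (nat_lit 2368)))) (FT.leaf (Fct.mk false (nat_lit 4) (nat_lit 0) (nat_lit 9) [nat_lit 2, nat_lit 3, nat_lit 8, nat_lit 1, nat_lit 2, nat_lit 3, nat_lit 4, nat_lit 5, nat_lit 2, nat_lit 1, nat_lit 3, nat_lit 2, nat_lit 8, nat_lit 3, nat_lit 0, nat_lit 12, nat_lit 8, nat_lit 16, nat_lit 14, nat_lit 17, nat_lit 12, nat_lit 16] (Rl.einv (nat_lit 1967)))))) (FT.node (nat_lit 2373) (FT.node (nat_lit 2372) (FT.leaf (Fct.mk false (nat_lit 4) (nat_lit 0) (nat_lit 14) [nat_lit 8, nat_lit 5, nat_lit 6, nat_lit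 4, nat_lit 5, nat_lit 2, nat_lit 3, nat_lit 4, nat_lit 1, nat_lit 2, nat_lit 3, nat_lit 8, nat_lit 0, nat_lit 1, nat_lit 2, nat_lit 3, nat_lit 4, nat_lit 5, nat_lit 6, nat_lit 7, nat_lit 4, nat_lit 5, nat_lit 2, nat_lit 3, nat_lit 4, nat_lit 1, nat_lit 2, nat_lit 3, nat_lit 8, nat_lit 0, nat_lit 1, nat_lit 2, nat_lit 3, nat_lit 4, nat_lit 5, nat_lit 0, nat_lit 1, nat_lit 9, nat_lit 4, nat_lit 3, nat_lit 2, nat_lit 8, nat_lit 3, nat_lit 9, nat_lit 15, nat_lit 14, nat_lit 13, nat_lit 19] (Rl.cmp (nat_lit 2370) (nat_lit 2357)))) (FT.leaf (Fct.mk false (nat_lit 4) (nat_lit 0) (nat_lit 4) [nat_lit 64] (Rl.cmp (nat_lit 2371) (nat_lit 2049))))) (FT.node (nat_lit 2374) (FT.leaf (Fct.mk false (nat_lit 4) (nat_lit 0) (nat_lit 4) [nat_lit 6, nat_lit 7, nat_lit 5, nat_lit 6, nat_lit 4, nat_lit 5, nat_lit 3, nat_lit 4, nat_lit 2, nat_lit 3, nat_lit 8, nat_lit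 1, nat_lit 2, nat_lit 3, nat_lit 4, nat_lit 5, nat_lit 6, nat_lit 7, nat_lit 4, nat_lit 5, nat_lit 2, nat_lit 8, nat_lit 3, nat_lit 10, nat_lit 9, nat_lit 2, nat_lit 12, nat_lit 8, nat_lit 16, nat_lit 14, nat_lit 12, nat_lit 16] (Rl.cmp (nat_lit 1995) (nat_lit 2372)))) (FT.leaf (Fct.mk false (nat_lit 4) (nat_lit 0) (nat_lit 4) [nat_lit 6, nat_lit 5, nat_lit 4, nat_lit 3, nat_lit 8, nat_lit 2, nat_lit 3, nat_lit 4, nat_lit 1, nat_lit 2, nat_lit 3, nat_lit 8, nat_lit 5, nat_lit 6, nat_lit 4, nat_lit 5, nat_lit 3, nat_lit 4, nat_lit 2, nat_lit 3, nat_lit 8, nat_lit 1, nat_lit 2, nat_lit 3, nat_lit 4, nat_lit 5, nat_lit 6, nat_lit 7, nat_lit 3, nat_lit 8, nat_lit 6, nat_lit 4, nat_lit 5, nat_lit 3, nat_lit 4, nat_lit 2, nat_lit 3, nat_lit 8, nat_lit 1, nat_lit 2, nat_lit 3, nat_lit 4, nat_lit 5, nat_lit 2, nat_lit 3, nat_lit 8, nat_lit 4, nat_lit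 3, nat_lit 2, nat_lit 1, nat_lit 9, nat_lit 4, nat_lit 3, nat_lit 2, nat_lit 8, nat_lit 3, nat_lit 10, nat_lit 9, nat_lit 2, nat_lit 12, nat_lit 8, nat_lit 16, nat_lit 14, nat_lit 8, nat_lit 18, nat_lit 16] (Rl.cmp (nat_lit 2284) (nat_lit 2372))))))))) (FT.node (nat_lit 2387) (FT.node (nat_lit 2381) (FT.node (nat_lit 2378) (FT.node (nat_lit 2376) (FT.leaf (Fct.mk false (nat_lit 4) (nat_lit 0) (nat_lit 4) [nat_lit 6, nat_lit 7, nat_lit 5, nat_lit 6, nat_lit 4, nat_lit 5, nat_lit 3, nat_lit 4, nat_lit 2, nat_lit 3, nat_lit 8, nat_lit 1, nat_lit 2, nat_lit 3, nat_lit 4, nat_lit 5, nat_lit 6, nat_lit 7, nat_lit 8, nat_lit 4, nat_lit 5, nat_lit 3, nat_lit 4, nat_lit 2, nat_lit 3, nat_lit 8, nat_lit 1, nat_lit 2, nat_lit 3, nat_lit 4, nat_lit 5, nat_lit 2, nat_lit 3, nat_lit 8, nat_lit 4, nat_lit 3, nat_lit 2, nat_lit 1, nat_lit 9, nat_lit 4, nat_lit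 3, nat_lit 2, nat_lit 8, nat_lit 3, nat_lit 9, nat_lit 2, nat_lit 8, nat_lit 16] (Rl.cmp (nat_lit 2372) (nat_lit 2374)))) (FT.node (nat_lit 2377) (FT.leaf (Fct.mk false (nat_lit 4) (nat_lit 0) (nat_lit 4) [nat_lit 6, nat_lit 7, nat_lit 5, nat_lit 6, nat_lit 4, nat_lit 5, nat_lit 3, nat_lit 4, nat_lit 2, nat_lit 3, nat_lit 8, nat_lit 1, nat_lit 2, nat_lit 3, nat_lit 4, nat_lit 5, nat_lit 6, nat_lit 7, nat_lit 8, nat_lit 5, nat_lit 3, nat_lit 4, nat_lit 2, nat_lit 3, nat_lit 8, nat_lit 1, nat_lit 2, nat_lit 3, nat_lit 4, nat_lit 5, nat_lit 1, nat_lit 2, nat_lit 3, nat_lit 8, nat_lit 4, nat_lit 3, nat_lit 2, nat_lit 1, nat_lit 9, nat_lit 4, nat_lit 3, nat_lit 2, nat_lit 8, nat_lit 3, nat_lit 9, nat_lit 2, nat_lit 8, nat_lit 16] (Rl.cmp (nat_lit 239) (nat_lit 2375)))) (FT.leaf (Fct.mk false (nat_lit 4) (nat_lit 0) (nat_lit 4) [nat_lit 3, nat_lit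 4, nat_lit 5, nat_lit 1, nat_lit 2, nat_lit 8, nat_lit 3, nat_lit 1, nat_lit 8, nat_lit 18] (Rl.cmp (nat_lit 2284) (nat_lit 2376)))))) (FT.node (nat_lit 2379) (FT.leaf (Fct.mk true (nat_lit 4) (nat_lit 126) (nat_lit 26) [nat_lit 4, nat_lit 2, nat_lit 3, nat_lit 8, nat_lit 5, nat_lit 6, nat_lit 4, nat_lit 5, nat_lit 3, nat_lit 4, nat_lit 2, nat_lit 3, nat_lit 8, nat_lit 0, nat_lit 1, nat_lit 2, nat_lit 3, nat_lit 4, nat_lit 5, nat_lit 10, nat_lit 16, nat_lit 14, nat_lit 12, nat_lit 19] (Rl.t1 (nat_lit 1982) (nat_lit 2377)))) (FT.node (nat_lit 2380) (FT.leaf (Fct.mk false (nat_lit 4) (nat_lit 0) (nat_lit 4) [nat_lit 5, nat_lit 4, nat_lit 3, nat_lit 8, nat_lit 6, nat_lit 7, nat_lit 5, nat_lit 6, nat_lit 4, nat_lit 5, nat_lit 3, nat_lit 4, nat_lit 2, nat_lit 3, nat_lit 8, nat_lit 1, nat_lit 2, nat_lit 3, nat_lit 4, nat_lit 5, nat_lit 6, nat_lit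 7, nat_lit 2, nat_lit 3, nat_lit 8, nat_lit 5, nat_lit 6, nat_lit 4, nat_lit 5, nat_lit 3, nat_lit 4, nat_lit 2, nat_lit 3, nat_lit 8, nat_lit 1, nat_lit 2, nat_lit 3, nat_lit 4, nat_lit 5, nat_lit 3, nat_lit 1, nat_lit 16, nat_lit 8, nat_lit 16] (Rl.cmp (nat_lit 2372) (nat_lit 1995)))) (FT.leaf (Fct.mk false (nat_lit 4) (nat_lit 0) (nat_lit 4) [nat_lit 6, nat_lit 7, nat_lit 5, nat_lit 6, nat_lit 4, nat_lit 5, nat_lit 3, nat_lit 4, nat_lit 2, nat_lit 3, nat_lit 8, nat_lit 1, nat_lit 2, nat_lit 3, nat_lit 4, nat_lit 5, nat_lit 6, nat_lit 7, nat_lit 4, nat_lit 3, nat_lit 8, nat_lit 1, nat_lit 2, nat_lit 3, nat_lit 4, nat_lit 5, nat_lit 2, nat_lit 3, nat_lit 9, nat_lit 2, nat_lit 16, nat_lit 14, nat_lit 8, nat_lit 16] (Rl.cmp (nat_lit 1995) (nat_lit 2379))))))) (FT.node (nat_lit 2384) (FT.node (nat_lit 2382) (FT.leaf (Fct.mk false (nat_lit 4)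 (nat_lit 0) (nat_lit 4) [nat_lit 6, nat_lit 7, nat_lit 5, nat_lit 6, nat_lit 4, nat_lit 5, nat_lit 3, nat_lit 4, nat_lit 2, nat_lit 3, nat_lit 8, nat_lit 1, nat_lit 2, nat_lit 3, nat_lit 4, nat_lit 5, nat_lit 6, nat_lit 7, nat_lit 2, nat_lit 3, nat_lit 8, nat_lit 5, nat_lit 6, nat_lit 4, nat_lit 5, nat_lit 3, nat_lit 4, nat_lit 2, nat_lit 3, nat_lit 8, nat_lit 1, nat_lit 2, nat_lit 3, nat_lit 4, nat_lit 5, nat_lit 8, nat_lit 3, nat_lit 2, nat_lit 1, nat_lit 9, nat_lit 4, nat_lit 3, nat_lit 2, nat_lit 8, nat_lit 3, nat_lit 10, nat_lit 2, nat_lit 8, nat_lit 10, nat_lit 1, nat_lit 16, nat_lit 14, nat_lit 19, nat_lit 16] (Rl.cmp (nat_lit 234) (nat_lit 2380)))) (FT.node (nat_lit 2383) (FT.leaf (Fct.mk false (nat_lit 4) (nat_lit 0) (nat_lit 4) [nat_lit 3, nat_lit 8, nat_lit 6, nat_lit 4, nat_lit 5, nat_lit 3, nat_lit 4, nat_lit 2, nat_lit 3, nat_lit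 8, nat_lit 1, nat_lit 2, nat_lit 3, nat_lit 4, nat_lit 5, nat_lit 8, nat_lit 3, nat_lit 2, nat_lit 1, nat_lit 4, nat_lit 3, nat_lit 2, nat_lit 8, nat_lit 3, nat_lit 1, nat_lit 8, nat_lit 16, nat_lit 14, nat_lit 18, nat_lit 16] (Rl.cmp (nat_lit 2284) (nat_lit 2381)))) (FT.leaf (Fct.mk true (nat_lit 4) (nat_lit 216) (nat_lit 25) [nat_lit 3, nat_lit 8, nat_lit 0, nat_lit 1, nat_lit 2, nat_lit 3, nat_lit 4, nat_lit 5, nat_lit 0, nat_lit 1, nat_lit 9, nat_lit 4, nat_lit 3, nat_lit 2, nat_lit 8, nat_lit 3, nat_lit 12, nat_lit 8, nat_lit 16, nat_lit 14, nat_lit 8, nat_lit 18, nat_lit 16] (Rl.t1 (nat_lit 1998) (nat_lit 2382)))))) (FT.node (nat_lit 2385) (FT.leaf (Fct.mk false (nat_lit 4) (nat_lit 0) (nat_lit 4) [nat_lit 5, nat_lit 4, nat_lit 3, nat_lit 8, nat_lit 6, nat_lit 7, nat_lit 5, nat_lit 6, nat_lit 4, nat_lit 5, nat_lit 3, nat_lit 4, nat_lit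 2, nat_lit 3, nat_lit 8, nat_lit 1, nat_lit 2, nat_lit 3, nat_lit 4, nat_lit 5, nat_lit 6, nat_lit 7, nat_lit 6, nat_lit 5, nat_lit 4, nat_lit 3, nat_lit 8, nat_lit 1, nat_lit 2, nat_lit 3, nat_lit 4, nat_lit 5, nat_lit 3, nat_lit 2, nat_lit 16, nat_lit 14, nat_lit 8, nat_lit 18, nat_lit 16] (Rl.cmp (nat_lit 263) (nat_lit 2372)))) (FT.node (nat_lit 2386) (FT.leaf (Fct.mk false (nat_lit 4) (nat_lit 0) (nat_lit 4) [nat_lit 6, nat_lit 7, nat_lit 5, nat_lit 6, nat_lit 4, nat_lit 5, nat_lit 3, nat_lit 4, nat_lit 2, nat_lit 3, nat_lit 8, nat_lit 1, nat_lit 2, nat_lit 3, nat_lit 4, nat_lit 5, nat_lit 6, nat_lit 7, nat_lit 4, nat_lit 2, nat_lit 3, nat_lit 8, nat_lit 5, nat_lit 6, nat_lit 4, nat_lit 5, nat_lit 3, nat_lit 4, nat_lit 2, nat_lit 3, nat_lit 8, nat_lit 1, nat_lit 2, nat_lit 3, nat_lit 4, nat_lit 5, nat_lit 2, nat_lit 14, nat_lit 16, nat_lit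 8, nat_lit 16] (Rl.cmp (nat_lit 1995) (nat_lit 2384)))) (FT.leaf (Fct.mk false (nat_lit 4) (nat_lit 0) (nat_lit 4) [nat_lit 8, nat_lit 6, nat_lit 5, nat_lit 3, nat_lit 4, nat_lit 2, nat_lit 3, nat_lit 8, nat_lit 1, nat_lit 2, nat_lit 3, nat_lit 4, nat_lit 5, nat_lit 1, nat_lit 2, nat_lit 3, nat_lit 9, nat_lit 12, nat_lit 8, nat_lit 16, nat_lit 14, nat_lit 8, nat_lit 19] (Rl.cmp (nat_lit 2284) (nat_lit 2385)))))))) (FT.node (nat_lit 2393) (FT.node (nat_lit 2390) (FT.node (nat_lit 2388) (FT.leaf (Fct.mk false (nat_lit 4) (nat_lit 0) (nat_lit 4) [nat_lit 8, nat_lit 2, nat_lit 3, nat_lit 4, nat_lit 5, nat_lit 4, nat_lit 10, nat_lit 2, nat_lit 8, nat_lit 10, nat_lit 1, nat_lit 12, nat_lit 18] (Rl.cmp (nat_lit 1995) (nat_lit 2386)))) (FT.node (nat_lit 2389) (FT.leaf (Fct.mk true (nat_lit 4) (nat_lit 50) (nat_lit 26) [nat_lit 6, nat_lit 5, nat_lit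 4, nat_lit 3, nat_lit 8, nat_lit 2, nat_lit 3, nat_lit 4, nat_lit 5, nat_lit 8, nat_lit 4, nat_lit 3, nat_lit 2, nat_lit 1, nat_lit 9, nat_lit 4, nat_lit 3, nat_lit 2, nat_lit 8, nat_lit 3, nat_lit 0, nat_lit 2, nat_lit 16, nat_lit 8, nat_lit 12, nat_lit 15] (Rl.t1 (nat_lit 2001) (nat_lit 2387)))) (FT.leaf (Fct.mk false (nat_lit 5) (nat_lit 0) (nat_lit 26) [nat_lit 8, nat_lit 6, nat_lit 5, nat_lit 3, nat_lit 4, nat_lit 1, nat_lit 2, nat_lit 3, nat_lit 8, nat_lit 0, nat_lit 1, nat_lit 2, nat_lit 3, nat_lit 4, nat_lit 5, nat_lit 0, nat_lit 1, nat_lit 4, nat_lit 3, nat_lit 2, nat_lit 8, nat_lit 3, nat_lit 2, nat_lit 8, nat_lit 10, nat_lit 1, nat_lit 16, nat_lit 14, nat_lit 18, nat_lit 16] (Rl.cc (nat_lit 1980) (nat_lit 2388)))))) (FT.node (nat_lit 2391) (FT.leaf (Fct.mk false (nat_lit 4) (nat_lit 0) (nat_lit 4) [nat_lit 5, nat_lit 4, nat_lit 3,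 nat_lit 8, nat_lit 6, nat_lit 7, nat_lit 5, nat_lit 6, nat_lit 4, nat_lit 5, nat_lit 3, nat_lit 4, nat_lit 2, nat_lit 3, nat_lit 8, nat_lit 1, nat_lit 2, nat_lit 3, nat_lit 4, nat_lit 5, nat_lit 6, nat_lit 7, nat_lit 6, nat_lit 5, nat_lit 4, nat_lit 3, nat_lit 8, nat_lit 2, nat_lit 3, nat_lit 4, nat_lit 5, nat_lit 16, nat_lit 14, nat_lit 8, nat_lit 18, nat_lit 16] (Rl.cmp (nat_lit 2372) (nat_lit 239)))) (FT.node (nat_lit 2392) (FT.leaf (Fct.mk false (nat_lit 4) (nat_lit 0) (nat_lit 4) [nat_lit 7, nat_lit 5, nat_lit 6, nat_lit 4, nat_lit 5, nat_lit 3, nat_lit 4, nat_lit 2, nat_lit 3, nat_lit 8, nat_lit 1, nat_lit 2, nat_lit 3, nat_lit 4, nat_lit 5, nat_lit 2, nat_lit 1, nat_lit 9, nat_lit 4, nat_lit 3, nat_lit 2, nat_lit 8, nat_lit 3, nat_lit 9, nat_lit 12, nat_lit 8, nat_lit 16, nat_lit 14, nat_lit 18, nat_lit 16] (Rl.cmp (nat_lit 2372) (nat_lit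 2390)))) (FT.leaf (Fct.mk false (nat_lit 4) (nat_lit 0) (nat_lit 4) [nat_lit 2, nat_lit 3, nat_lit 4, nat_lit 1, nat_lit 2, nat_lit 3, nat_lit 8, nat_lit 6, nat_lit 7, nat_lit 5, nat_lit 6, nat_lit 4, nat_lit 5, nat_lit 3, nat_lit 4, nat_lit 2, nat_lit 3, nat_lit 8, nat_lit 1, nat_lit 2, nat_lit 3, nat_lit 4, nat_lit 5, nat_lit 6, nat_lit 7, nat_lit 3, nat_lit 8, nat_lit 2, nat_lit 3, nat_lit 4, nat_lit 1, nat_lit 2, nat_lit 3, nat_lit 8, nat_lit 5, nat_lit 6, nat_lit 4, nat_lit 5, nat_lit 3, nat_lit 4, nat_lit 2, nat_lit 3, nat_lit 8, nat_lit 1, nat_lit 2, nat_lit 3, nat_lit 4, nat_lit 5, nat_lit 4, nat_lit 3, nat_lit 2, nat_lit 8, nat_lit 3, nat_lit 2, nat_lit 8, nat_lit 10, nat_lit 1, nat_lit 16, nat_lit 8, nat_lit 18] (Rl.cmp (nat_lit 2372) (nat_lit 2391))))))) (FT.node (nat_lit 2396) (FT.node (nat_lit 2394) (FT.leaf (Fct.mk false (nat_lit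 4) (nat_lit 0) (nat_lit 4) [nat_lit 7, nat_lit 3, nat_lit 8, nat_lit 1, nat_lit 2, nat_lit 3, nat_lit 4, nat_lit 5, nat_lit 4, nat_lit 14, nat_lit 8, nat_lit 18] (Rl.cmp (nat_lit 2284) (nat_lit 2392)))) (FT.node (nat_lit 2395) (FT.leaf (Fct.mk true (nat_lit 4) (nat_lit 2583) (nat_lit 6) [nat_lit 5, nat_lit 6, nat_lit 7, nat_lit 3, nat_lit 8, nat_lit 5, nat_lit 6, nat_lit 4, nat_lit 5, nat_lit 3, nat_lit 4, nat_lit 2, nat_lit 3, nat_lit 8, nat_lit 1, nat_lit 2, nat_lit 3, nat_lit 4, nat_lit 5, nat_lit 4, nat_lit 1, nat_lit 0, nat_lit 2, nat_lit 14, nat_lit 8] (Rl.t1 (nat_lit 2261) (nat_lit 2393)))) (FT.leaf (Fct.mk false (nat_lit 4) (nat_lit 0) (nat_lit 4) [nat_lit 5, nat_lit 4, nat_lit 3, nat_lit 8, nat_lit 6, nat_lit 7, nat_lit 5, nat_lit 6, nat_lit 4, nat_lit 5, nat_lit 3, nat_lit 4, nat_lit 2, nat_lit 3, nat_lit 8, nat_lit 1, nat_lit 2,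 nat_lit 3, nat_lit 4, nat_lit 5, nat_lit 6, nat_lit 7, nat_lit 6, nat_lit 5, nat_lit 4, nat_lit 3, nat_lit 8, nat_lit 2, nat_lit 3, nat_lit 4, nat_lit 5, nat_lit 2, nat_lit 3, nat_lit 2, nat_lit 16, nat_lit 14, nat_lit 8, nat_lit 18, nat_lit 16] (Rl.cmp (nat_lit 240) (nat_lit 2372)))))) (FT.node (nat_lit 2398) (FT.node (nat_lit 2397) (FT.leaf (Fct.mk false (nat_lit 4) (nat_lit 0) (nat_lit 4) [nat_lit 6, nat_lit 5, nat_lit 4, nat_lit 3, nat_lit 8, nat_lit 2, nat_lit 3, nat_lit 4, nat_lit 1, nat_lit 2, nat_lit 3, nat_lit 8, nat_lit 5, nat_lit 6, nat_lit 4, nat_lit 5, nat_lit 3, nat_lit 4, nat_lit 2, nat_lit 3, nat_lit 8, nat_lit 1, nat_lit 2, nat_lit 3, nat_lit 4, nat_lit 5, nat_lit 6, nat_lit 7, nat_lit 3, nat_lit 8, nat_lit 6, nat_lit 4, nat_lit 5, nat_lit 3, nat_lit 4, nat_lit 2, nat_lit 3, nat_lit 8, nat_lit 1, nat_lit 2, nat_lit 3, nat_lit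 4, nat_lit 5, nat_lit 8, nat_lit 3, nat_lit 2, nat_lit 1, nat_lit 4, nat_lit 3, nat_lit 2, nat_lit 8, nat_lit 3, nat_lit 9, nat_lit 2, nat_lit 12, nat_lit 8, nat_lit 16, nat_lit 14, nat_lit 16, nat_lit 8, nat_lit 19] (Rl.cmp (nat_lit 2284) (nat_lit 2395)))) (FT.leaf (Fct.mk false (nat_lit 4) (nat_lit 0) (nat_lit 4) [nat_lit 8, nat_lit 3, nat_lit 4, nat_lit 2, nat_lit 3, nat_lit 8, nat_lit 6, nat_lit 7, nat_lit 5, nat_lit 6, nat_lit 4, nat_lit 5, nat_lit 3, nat_lit 4, nat_lit 2, nat_lit 3, nat_lit 8, nat_lit 1, nat_lit 2, nat_lit 3, nat_lit 4, nat_lit 5, nat_lit 6, nat_lit 7, nat_lit 8, nat_lit 5, nat_lit 3, nat_lit 4, nat_lit 2, nat_lit 3, nat_lit 8, nat_lit 1, nat_lit 2, nat_lit 3, nat_lit 4, nat_lit 5, nat_lit 4, nat_lit 3, nat_lit 2, nat_lit 1, nat_lit 9, nat_lit 4, nat_lit 3, nat_lit 2, nat_lit 8, nat_lit 3, nat_lit 9, nat_lit 2, nat_lit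 16, nat_lit 14, nat_lit 8] (Rl.cmp (nat_lit 2284) (nat_lit 2396))))) (FT.node (nat_lit 2399) (FT.leaf (Fct.mk true (nat_lit 4) (nat_lit 4338) (nat_lit 14) [nat_lit 8, nat_lit 4, nat_lit 5, nat_lit 2, nat_lit 3, nat_lit 4, nat_lit 1, nat_lit 2, nat_lit 3, nat_lit 8, nat_lit 0, nat_lit 1, nat_lit 2, nat_lit 3, nat_lit 4, nat_lit 5, nat_lit 6, nat_lit 7, nat_lit 5, nat_lit 2, nat_lit 3, nat_lit 4, nat_lit 1, nat_lit 2, nat_lit 3, nat_lit 8, nat_lit 0, nat_lit 1, nat_lit 2, nat_lit 3, nat_lit 4, nat_lit 5, nat_lit 1, nat_lit 2, nat_lit 0, nat_lit 1, nat_lit 3, nat_lit 2, nat_lit 8, nat_lit 3, nat_lit 11, nat_lit 2, nat_lit 10, nat_lit 1, nat_lit 8, nat_lit 12, nat_lit 15, nat_lit 14, nat_lit 13, nat_lit 18, nat_lit 16] (Rl.t1 (nat_lit 2297) (nat_lit 2397)))) (FT.leaf (Fct.mk false (nat_lit 4) (nat_lit 0) (nat_lit 4) [nat_lit 2, nat_lit 3, nat_lit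 8, nat_lit 6, nat_lit 4, nat_lit 5, nat_lit 3, nat_lit 4, nat_lit 2, nat_lit 3, nat_lit 8, nat_lit 1, nat_lit 2, nat_lit 3, nat_lit 4, nat_lit 5, nat_lit 1, nat_lit 2, nat_lit 8, nat_lit 3, nat_lit 9, nat_lit 8, nat_lit 16, nat_lit 14, nat_lit 16, nat_lit 8, nat_lit 18, nat_lit 16] (Rl.cmp (nat_lit 1995) (nat_lit 239)))))))))

/-- some facts -/
noncomputable def ftc48 : FT := FT.node (nat_lit 2425) (FT.node (nat_lit 2412) (FT.node (nat_lit 2406) (FT.node (nat_lit 2403) (FT.node (nat_lit 2401) (FT.leaf (Fct.mk false (nat_lit 4) (nat_lit 0) (nat_lit 4) [nat_lit 2, nat_lit 3, nat_lit 8, nat_lit 4, nat_lit 5, nat_lit 3, nat_lit 4, nat_lit 2, nat_lit 3, nat_lit 8, nat_lit 6, nat_lit 7, nat_lit 5, nat_lit 6, nat_lit 4, nat_lit 5, nat_lit 3, nat_lit 4, nat_lit 2, nat_lit 3, nat_lit 8, nat_lit 1, nat_lit 2, nat_lit 3, nat_lit 4, nat_lit 5, nat_lit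 6, nat_lit 7, nat_lit 8, nat_lit 1, nat_lit 2, nat_lit 3, nat_lit 4, nat_lit 5, nat_lit 3, nat_lit 10, nat_lit 9, nat_lit 2, nat_lit 14, nat_lit 8, nat_lit 18, nat_lit 16] (Rl.cmp (nat_lit 2284) (nat_lit 2399)))) (FT.node (nat_lit 2402) (FT.leaf (Fct.mk false (nat_lit 4) (nat_lit 0) (nat_lit 4) [nat_lit 5, nat_lit 4, nat_lit 3, nat_lit 8, nat_lit 6, nat_lit 7, nat_lit 5, nat_lit 6, nat_lit 4, nat_lit 5, nat_lit 3, nat_lit 4, nat_lit 2, nat_lit 3, nat_lit 8, nat_lit 1, nat_lit 2, nat_lit 3, nat_lit 4, nat_lit 5, nat_lit 6, nat_lit 7, nat_lit 4, nat_lit 2, nat_lit 3, nat_lit 8, nat_lit 5, nat_lit 6, nat_lit 4, nat_lit 5, nat_lit 3, nat_lit 4, nat_lit 2, nat_lit 3, nat_lit 8, nat_lit 1, nat_lit 2, nat_lit 3, nat_lit 4, nat_lit 5, nat_lit 1, nat_lit 4, nat_lit 3, nat_lit 2, nat_lit 8, nat_lit 3, nat_lit 2, nat_lit 10, nat_lit 1, nat_lit 12, nat_lit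 8, nat_lit 16, nat_lit 14, nat_lit 16] (Rl.cmp (nat_lit 2284) (nat_lit 2400)))) (FT.leaf (Fct.mk false (nat_lit 4) (nat_lit 0) (nat_lit 4) [nat_lit 7, nat_lit 6, nat_lit 4, nat_lit 5, nat_lit 3, nat_lit 4, nat_lit 2, nat_lit 3, nat_lit 8, nat_lit 1, nat_lit 2, nat_lit 3, nat_lit 4, nat_lit 5, nat_lit 3, nat_lit 2, nat_lit 1, nat_lit 9, nat_lit 4, nat_lit 3, nat_lit 2, nat_lit 8, nat_lit 3, nat_lit 10, nat_lit 12, nat_lit 8, nat_lit 16, nat_lit 14, nat_lit 16, nat_lit 8, nat_lit 18, nat_lit 16] (Rl.cmp (nat_lit 2372) (nat_lit 2401)))))) (FT.node (nat_lit 2404) (FT.leaf (Fct.mk true (nat_lit 4) (nat_lit 440) (nat_lit 6) [nat_lit 8, nat_lit 6, nat_lit 4, nat_lit 5, nat_lit 2, nat_lit 3, nat_lit 4, nat_lit 1, nat_lit 2, nat_lit 3, nat_lit 8, nat_lit 0, nat_lit 1, nat_lit 2, nat_lit 3, nat_lit 4, nat_lit 5, nat_lit 6, nat_lit 7, nat_lit 5, nat_lit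 4, nat_lit 2, nat_lit 3, nat_lit 8, nat_lit 1, nat_lit 2, nat_lit 3, nat_lit 4, nat_lit 5, nat_lit 3, nat_lit 2, nat_lit 1, nat_lit 9, nat_lit 4, nat_lit 3, nat_lit 2, nat_lit 8, nat_lit 3, nat_lit 16, nat_lit 12, nat_lit 15, nat_lit 14, nat_lit 17, nat_lit 12, nat_lit 18, nat_lit 16] (Rl.t1 (nat_lit 2301) (nat_lit 2402)))) (FT.node (nat_lit 2405) (FT.leaf (Fct.mk false (nat_lit 4) (nat_lit 0) (nat_lit 4) [nat_lit 8, nat_lit 3, nat_lit 4, nat_lit 1, nat_lit 2, nat_lit 3, nat_lit 8, nat_lit 6, nat_lit 7, nat_lit 5, nat_lit 6, nat_lit 4, nat_lit 5, nat_lit 3, nat_lit 4, nat_lit 2, nat_lit 3, nat_lit 8, nat_lit 1, nat_lit 2, nat_lit 3, nat_lit 4, nat_lit 5, nat_lit 6, nat_lit 7, nat_lit 5, nat_lit 4, nat_lit 3, nat_lit 8, nat_lit 2, nat_lit 3, nat_lit 4, nat_lit 5, nat_lit 10, nat_lit 16, nat_lit 14, nat_lit 8, nat_lit 16] (Rl.cmp (nat_lit 1995)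 (nat_lit 2284)))) (FT.leaf (Fct.mk false (nat_lit 4) (nat_lit 0) (nat_lit 4) [nat_lit 6, nat_lit 7, nat_lit 5, nat_lit 6, nat_lit 4, nat_lit 5, nat_lit 3, nat_lit 4, nat_lit 2, nat_lit 3, nat_lit 8, nat_lit 1, nat_lit 2, nat_lit 3, nat_lit 4, nat_lit 5, nat_lit 6, nat_lit 7, nat_lit 1, nat_lit 2, nat_lit 3, nat_lit 4, nat_lit 5, nat_lit 2, nat_lit 1, nat_lit 9, nat_lit 4, nat_lit 3, nat_lit 2, nat_lit 8, nat_lit 3, nat_lit 10, nat_lit 2, nat_lit 8, nat_lit 10, nat_lit 1, nat_lit 12, nat_lit 8, nat_lit 16, nat_lit 14, nat_lit 16, nat_lit 8] (Rl.cmp (nat_lit 2284) (nat_lit 2404))))))) (FT.node (nat_lit 2409) (FT.node (nat_lit 2407) (FT.leaf (Fct.mk false (nat_lit 4) (nat_lit 0) (nat_lit 4) [nat_lit 3, nat_lit 8, nat_lit 4, nat_lit 5, nat_lit 3, nat_lit 4, nat_lit 2, nat_lit 3, nat_lit 8, nat_lit 1, nat_lit 2, nat_lit 3, nat_lit 4, nat_lit 5,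 nat_lit 3, nat_lit 8, nat_lit 10, nat_lit 14] (Rl.cmp (nat_lit 2372) (nat_lit 2405)))) (FT.node (nat_lit 2408) (FT.leaf (Fct.mk false (nat_lit 4) (nat_lit 0) (nat_lit 4) [nat_lit 2, nat_lit 3, nat_lit 8, nat_lit 4, nat_lit 5, nat_lit 3, nat_lit 4, nat_lit 2, nat_lit 3, nat_lit 8, nat_lit 6, nat_lit 7, nat_lit 5, nat_lit 6, nat_lit 4, nat_lit 5, nat_lit 3, nat_lit 4, nat_lit 2, nat_lit 3, nat_lit 8, nat_lit 1, nat_lit 2, nat_lit 3, nat_lit 4, nat_lit 5, nat_lit 6, nat_lit 7, nat_lit 3, nat_lit 8, nat_lit 2, nat_lit 3, nat_lit 4, nat_lit 1, nat_lit 2, nat_lit 3, nat_lit 8, nat_lit 5, nat_lit 6, nat_lit 4, nat_lit 5, nat_lit 3, nat_lit 4, nat_lit 2, nat_lit 3, nat_lit 8, nat_lit 1, nat_lit 2, nat_lit 3, nat_lit 4, nat_lit 5, nat_lit 8, nat_lit 3, nat_lit 2, nat_lit 8, nat_lit 16, nat_lit 14, nat_lit 12] (Rl.cmp (nat_lit 2284) (nat_lit 2406))))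 (FT.leaf (Fct.mk false (nat_lit 4) (nat_lit 0) (nat_lit 4) [nat_lit 8, nat_lit 3, nat_lit 4, nat_lit 1, nat_lit 2, nat_lit 3, nat_lit 8, nat_lit 6, nat_lit 7, nat_lit 5, nat_lit 6, nat_lit 4, nat_lit 5, nat_lit 3, nat_lit 4, nat_lit 2, nat_lit 3, nat_lit 8, nat_lit 1, nat_lit 2, nat_lit 3, nat_lit 4, nat_lit 5, nat_lit 6, nat_lit 7, nat_lit 8, nat_lit 2, nat_lit 3, nat_lit 4, nat_lit 1, nat_lit 2, nat_lit 3, nat_lit 8, nat_lit 5, nat_lit 6, nat_lit 4, nat_lit 5, nat_lit 3, nat_lit 4, nat_lit 2, nat_lit 3, nat_lit 8, nat_lit 1, nat_lit 2, nat_lit 3, nat_lit 4, nat_lit 5, nat_lit 3, nat_lit 2, nat_lit 8, nat_lit 3, nat_lit 1, nat_lit 16, nat_lit 14, nat_lit 12, nat_lit 16] (Rl.cmp (nat_lit 243) (nat_lit 2407)))))) (FT.node (nat_lit 2410) (FT.leaf (Fct.mk true (nat_lit 4) (nat_lit 2292) (nat_lit 5) [nat_lit 3, nat_lit 8, nat_lit 4, nat_lit 5,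 nat_lit 3, nat_lit 4, nat_lit 2, nat_lit 3, nat_lit 8, nat_lit 1, nat_lit 2, nat_lit 3, nat_lit 4, nat_lit 5, nat_lit 6, nat_lit 7, nat_lit 4, nat_lit 1, nat_lit 2, nat_lit 3, nat_lit 8, nat_lit 0, nat_lit 1, nat_lit 2, nat_lit 3, nat_lit 4, nat_lit 5, nat_lit 2, nat_lit 1, nat_lit 3, nat_lit 2, nat_lit 0, nat_lit 1, nat_lit 9, nat_lit 4, nat_lit 3, nat_lit 2, nat_lit 8, nat_lit 3, nat_lit 11, nat_lit 10, nat_lit 1, nat_lit 16, nat_lit 12, nat_lit 15, nat_lit 14, nat_lit 12, nat_lit 18] (Rl.t1 (nat_lit 2310) (nat_lit 2408)))) (FT.node (nat_lit 2411) (FT.leaf (Fct.mk false (nat_lit 4) (nat_lit 0) (nat_lit 4) [nat_lit 8, nat_lit 3, nat_lit 4, nat_lit 1, nat_lit 2, nat_lit 3, nat_lit 8, nat_lit 6, nat_lit 7, nat_lit 5, nat_lit 6, nat_lit 4, nat_lit 5, nat_lit 3, nat_lit 4, nat_lit 2, nat_lit 3, nat_lit 8, nat_lit 1, nat_lit 2, nat_lit 3, nat_lit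 4, nat_lit 5, nat_lit 6, nat_lit 7, nat_lit 6, nat_lit 5, nat_lit 4, nat_lit 3, nat_lit 8, nat_lit 2, nat_lit 3, nat_lit 4, nat_lit 1, nat_lit 2, nat_lit 3, nat_lit 8, nat_lit 5, nat_lit 6, nat_lit 4, nat_lit 5, nat_lit 3, nat_lit 4, nat_lit 2, nat_lit 3, nat_lit 8, nat_lit 1, nat_lit 2, nat_lit 3, nat_lit 4, nat_lit 5, nat_lit 1, nat_lit 9, nat_lit 4, nat_lit 3, nat_lit 2, nat_lit 8, nat_lit 3, nat_lit 1, nat_lit 16, nat_lit 8, nat_lit 19, nat_lit 16] (Rl.cmp (nat_lit 2284) (nat_lit 263)))) (FT.leaf (Fct.mk false (nat_lit 4) (nat_lit 0) (nat_lit 4) [nat_lit 8, nat_lit 3, nat_lit 4, nat_lit 2, nat_lit 3, nat_lit 8, nat_lit 6, nat_lit 7, nat_lit 5, nat_lit 6, nat_lit 4, nat_lit 5, nat_lit 3, nat_lit 4, nat_lit 2, nat_lit 3, nat_lit 8, nat_lit 1, nat_lit 2, nat_lit 3, nat_lit 4, nat_lit 5, nat_lit 6, nat_lit 7, nat_lit 8, nat_lit 3, nat_lit 4,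 nat_lit 5, nat_lit 2, nat_lit 8, nat_lit 3, nat_lit 9, nat_lit 8, nat_lit 16, nat_lit 14, nat_lit 12, nat_lit 16] (Rl.cmp (nat_lit 243) (nat_lit 2410)))))))) (FT.node (nat_lit 2418) (FT.node (nat_lit 2415) (FT.node (nat_lit 2413) (FT.leaf (Fct.mk false (nat_lit 4) (nat_lit 0) (nat_lit 4) [nat_lit 8, nat_lit 5, nat_lit 2, nat_lit 3, nat_lit 4, nat_lit 1, nat_lit 2, nat_lit 3, nat_lit 8, nat_lit 6, nat_lit 7, nat_lit 5, nat_lit 6, nat_lit 4, nat_lit 5, nat_lit 3, nat_lit 4, nat_lit 2, nat_lit 3, nat_lit 8, nat_lit 1, nat_lit 2, nat_lit 3, nat_lit 4, nat_lit 5, nat_lit 6, nat_lit 7, nat_lit 4, nat_lit 5, nat_lit 8, nat_lit 4, nat_lit 3, nat_lit 2, nat_lit 1, nat_lit 9, nat_lit 4, nat_lit 3, nat_lit 2, nat_lit 8, nat_lit 3, nat_lit 8, nat_lit 10, nat_lit 1, nat_lit 16, nat_lit 14, nat_lit 16, nat_lit 8, nat_lit 19, nat_lit 16] (Rl.cmp (nat_lit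 2372) (nat_lit 2411)))) (FT.node (nat_lit 2414) (FT.leaf (Fct.mk true (nat_lit 4) (nat_lit 1087) (nat_lit 1) [nat_lit 5, nat_lit 4, nat_lit 3, nat_lit 8, nat_lit 1, nat_lit 2, nat_lit 3, nat_lit 4, nat_lit 5, nat_lit 6, nat_lit 7, nat_lit 8, nat_lit 3, nat_lit 4, nat_lit 5, nat_lit 3, nat_lit 2, nat_lit 1, nat_lit 9, nat_lit 4, nat_lit 3, nat_lit 2, nat_lit 8, nat_lit 3, nat_lit 11, nat_lit 2, nat_lit 8, nat_lit 10, nat_lit 1, nat_lit 8, nat_lit 12, nat_lit 15, nat_lit 14, nat_lit 13, nat_lit 18] (Rl.t1 (nat_lit 2316) (nat_lit 2412)))) (FT.leaf (Fct.mk false (nat_lit 4) (nat_lit 0) (nat_lit 4) [nat_lit 6, nat_lit 5, nat_lit 4, nat_lit 3, nat_lit 8, nat_lit 2, nat_lit 3, nat_lit 4, nat_lit 1, nat_lit 2, nat_lit 3, nat_lit 8, nat_lit 5, nat_lit 6, nat_lit 4, nat_lit 5, nat_lit 3, nat_lit 4, nat_lit 2, nat_lit 3, nat_lit 8, nat_lit 1, nat_lit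 2, nat_lit 3, nat_lit 4, nat_lit 5, nat_lit 6, nat_lit 7, nat_lit 3, nat_lit 8, nat_lit 6, nat_lit 4, nat_lit 5, nat_lit 3, nat_lit 4, nat_lit 2, nat_lit 3, nat_lit 8, nat_lit 1, nat_lit 2, nat_lit 3, nat_lit 4, nat_lit 5, nat_lit 2, nat_lit 3, nat_lit 8, nat_lit 4, nat_lit 3, nat_lit 2, nat_lit 1, nat_lit 9, nat_lit 4, nat_lit 3, nat_lit 2, nat_lit 8, nat_lit 3, nat_lit 10, nat_lit 9, nat_lit 2, nat_lit 12, nat_lit 8, nat_lit 16, nat_lit 14, nat_lit 8, nat_lit 18, nat_lit 16] (Rl.cmp (nat_lit 2284) (nat_lit 2372)))))) (FT.node (nat_lit 2416) (FT.leaf (Fct.mk false (nat_lit 4) (nat_lit 0) (nat_lit 4) [nat_lit 8, nat_lit 3, nat_lit 4, nat_lit 2, nat_lit 3, nat_lit 8, nat_lit 6, nat_lit 7, nat_lit 5, nat_lit 6, nat_lit 4, nat_lit 5, nat_lit 3, nat_lit 4, nat_lit 2, nat_lit 3, nat_lit 8, nat_lit 1, nat_lit 2, nat_lit 3, nat_lit 4, nat_lit 5, nat_lit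 6, nat_lit 7, nat_lit 8, nat_lit 5, nat_lit 3, nat_lit 4, nat_lit 2, nat_lit 3, nat_lit 8, nat_lit 1, nat_lit 2, nat_lit 3, nat_lit 4, nat_lit 5, nat_lit 8, nat_lit 4, nat_lit 3, nat_lit 2, nat_lit 1, nat_lit 9, nat_lit 4, nat_lit 3, nat_lit 2, nat_lit 8, nat_lit 3, nat_lit 9, nat_lit 2, nat_lit 16, nat_lit 14, nat_lit 8] (Rl.cmp (nat_lit 2284) (nat_lit 2414)))) (FT.node (nat_lit 2417) (FT.leaf (Fct.mk false (nat_lit 4) (nat_lit 0) (nat_lit 4) [nat_lit 8, nat_lit 5, nat_lit 2, nat_lit 3, nat_lit 4, nat_lit 1, nat_lit 2, nat_lit 3, nat_lit 8, nat_lit 6, nat_lit 7, nat_lit 5, nat_lit 6, nat_lit 4, nat_lit 5, nat_lit 3, nat_lit 4, nat_lit 2, nat_lit 3, nat_lit 8, nat_lit 1, nat_lit 2, nat_lit 3, nat_lit 4, nat_lit 5, nat_lit 6, nat_lit 7, nat_lit 5, nat_lit 4, nat_lit 3, nat_lit 8, nat_lit 1, nat_lit 2, nat_lit 3, nat_lit 4, nat_lit 5, nat_lit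 9, nat_lit 4, nat_lit 10, nat_lit 9, nat_lit 2, nat_lit 16, nat_lit 14, nat_lit 8, nat_lit 18, nat_lit 16] (Rl.cmp (nat_lit 2372) (nat_lit 2415)))) (FT.leaf (Fct.mk false (nat_lit 4) (nat_lit 0) (nat_lit 4) [nat_lit 8, nat_lit 5, nat_lit 2, nat_lit 3, nat_lit 4, nat_lit 1, nat_lit 2, nat_lit 3, nat_lit 8, nat_lit 6, nat_lit 7, nat_lit 5, nat_lit 6, nat_lit 4, nat_lit 5, nat_lit 3, nat_lit 4, nat_lit 2, nat_lit 3, nat_lit 8, nat_lit 1, nat_lit 2, nat_lit 3, nat_lit 4, nat_lit 5, nat_lit 6, nat_lit 7, nat_lit 8, nat_lit 1, nat_lit 2, nat_lit 3, nat_lit 4, nat_lit 5, nat_lit 3, nat_lit 10, nat_lit 9, nat_lit 2, nat_lit 16, nat_lit 14, nat_lit 8, nat_lit 16] (Rl.cmp (nat_lit 312) (nat_lit 2416))))))) (FT.node (nat_lit 2421) (FT.node (nat_lit 2419) (FT.leaf (Fct.mk true (nat_lit 4) (nat_lit 3081) (nat_lit 5) [nat_lit 2, nat_lit 3, nat_lit 4, nat_lit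 1, nat_lit 2, nat_lit 3, nat_lit 8, nat_lit 0, nat_lit 1, nat_lit 2, nat_lit 3, nat_lit 4, nat_lit 5, nat_lit 6, nat_lit 7, nat_lit 1, nat_lit 2, nat_lit 3, nat_lit 8, nat_lit 6, nat_lit 4, nat_lit 5, nat_lit 3, nat_lit 4, nat_lit 2, nat_lit 3, nat_lit 8, nat_lit 1, nat_lit 2, nat_lit 3, nat_lit 4, nat_lit 5, nat_lit 2, nat_lit 3, nat_lit 8, nat_lit 4, nat_lit 3, nat_lit 2, nat_lit 1, nat_lit 9, nat_lit 4, nat_lit 3, nat_lit 2, nat_lit 8, nat_lit 3, nat_lit 11, nat_lit 10, nat_lit 2, nat_lit 8, nat_lit 10, nat_lit 1, nat_lit 16, nat_lit 15, nat_lit 14, nat_lit 13, nat_lit 19, nat_lit 16] (Rl.t1 (nat_lit 2321) (nat_lit 2417)))) (FT.node (nat_lit 2420) (FT.leaf (Fct.mk false (nat_lit 4) (nat_lit 0) (nat_lit 4) [nat_lit 5, nat_lit 4, nat_lit 3, nat_lit 8, nat_lit 6, nat_lit 7, nat_lit 5, nat_lit 6, nat_lit 4, nat_lit 5, nat_lit 3, nat_lit 4, nat_lit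 2, nat_lit 3, nat_lit 8, nat_lit 1, nat_lit 2, nat_lit 3, nat_lit 4, nat_lit 5, nat_lit 6, nat_lit 7, nat_lit 1, nat_lit 2, nat_lit 3, nat_lit 8, nat_lit 4, nat_lit 5, nat_lit 3, nat_lit 4, nat_lit 2, nat_lit 3, nat_lit 8, nat_lit 1, nat_lit 2, nat_lit 3, nat_lit 4, nat_lit 5, nat_lit 8, nat_lit 3, nat_lit 2, nat_lit 1, nat_lit 9, nat_lit 4, nat_lit 3, nat_lit 2, nat_lit 8, nat_lit 3, nat_lit 10, nat_lit 1, nat_lit 16, nat_lit 14, nat_lit 18] (Rl.cmp (nat_lit 312) (nat_lit 2372)))) (FT.leaf (Fct.mk false (nat_lit 4) (nat_lit 0) (nat_lit 4) [nat_lit 6, nat_lit 7, nat_lit 5, nat_lit 6, nat_lit 4, nat_lit 5, nat_lit 3, nat_lit 4, nat_lit 2, nat_lit 3, nat_lit 8, nat_lit 1, nat_lit 2, nat_lit 3, nat_lit 4, nat_lit 5, nat_lit 6, nat_lit 7, nat_lit 3, nat_lit 8, nat_lit 2, nat_lit 3, nat_lit 4, nat_lit 1, nat_lit 2, nat_lit 3, nat_lit 8, nat_lit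 5, nat_lit 6, nat_lit 4, nat_lit 5, nat_lit 3, nat_lit 4, nat_lit 2, nat_lit 3, nat_lit 8, nat_lit 1, nat_lit 2, nat_lit 3, nat_lit 4, nat_lit 5, nat_lit 9, nat_lit 4, nat_lit 3, nat_lit 2, nat_lit 8, nat_lit 3, nat_lit 8, nat_lit 10, nat_lit 1, nat_lit 14, nat_lit 16, nat_lit 8, nat_lit 19, nat_lit 16] (Rl.cmp (nat_lit 1995) (nat_lit 2419)))))) (FT.node (nat_lit 2423) (FT.node (nat_lit 2422) (FT.leaf (Fct.mk false (nat_lit 4) (nat_lit 0) (nat_lit 4) [nat_lit 4, nat_lit 3, nat_lit 8, nat_lit 1, nat_lit 2, nat_lit 3, nat_lit 4, nat_lit 5, nat_lit 8, nat_lit 3, nat_lit 2, nat_lit 8, nat_lit 10, nat_lit 1, nat_lit 14, nat_lit 12, nat_lit 18] (Rl.cmp (nat_lit 2284) (nat_lit 2420)))) (FT.leaf (Fct.mk true (nat_lit 4) (nat_lit 2289) (nat_lit 3) [nat_lit 2, nat_lit 3, nat_lit 8, nat_lit 4, nat_lit 5, nat_lit 3, nat_lit 4, nat_lit 2, nat_lit 3, nat_lit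 8, nat_lit 0, nat_lit 1, nat_lit 2, nat_lit 3, nat_lit 4, nat_lit 5, nat_lit 6, nat_lit 7, nat_lit 4, nat_lit 5, nat_lit 6, nat_lit 3, nat_lit 4, nat_lit 5, nat_lit 2, nat_lit 3, nat_lit 4, nat_lit 1, nat_lit 2, nat_lit 3, nat_lit 8, nat_lit 0, nat_lit 1, nat_lit 2, nat_lit 3, nat_lit 4, nat_lit 5, nat_lit 0, nat_lit 1, nat_lit 3, nat_lit 2, nat_lit 8, nat_lit 3, nat_lit 0, nat_lit 2, nat_lit 15, nat_lit 14, nat_lit 17, nat_lit 12, nat_lit 18, nat_lit 16] (Rl.t1 (nat_lit 2325) (nat_lit 2421))))) (FT.node (nat_lit 2424) (FT.leaf (Fct.mk false (nat_lit 4) (nat_lit 0) (nat_lit 4) [nat_lit 4, nat_lit 10, nat_lit 1] (Rl.cmp (nat_lit 240) (nat_lit 239)))) (FT.leaf (Fct.mk false (nat_lit 4) (nat_lit 0) (nat_lit 4) [nat_lit 8, nat_lit 3, nat_lit 4, nat_lit 2, nat_lit 3, nat_lit 8, nat_lit 1, nat_lit 2, nat_lit 3, nat_lit 4, nat_lit 5, nat_lit 4, nat_lit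 3, nat_lit 2, nat_lit 8, nat_lit 3, nat_lit 10, nat_lit 1, nat_lit 8, nat_lit 18] (Rl.cmp (nat_lit 239) (nat_lit 234))))))))) (FT.node (nat_lit 2437) (FT.node (nat_lit 2431) (FT.node (nat_lit 2428) (FT.node (nat_lit 2426) (FT.leaf (Fct.mk false (nat_lit 26) (nat_lit 0) (nat_lit 5) [nat_lit 6, nat_lit 4, nat_lit 5, nat_lit 3, nat_lit 4, nat_lit 2, nat_lit 3, nat_lit 8, nat_lit 1, nat_lit 2, nat_lit 3, nat_lit 4, nat_lit 5, nat_lit 2, nat_lit 1, nat_lit 8, nat_lit 4, nat_lit 3, nat_lit 2, nat_lit 0, nat_lit 1, nat_lit 9, nat_lit 4, nat_lit 3, nat_lit 2, nat_lit 8, nat_lit 3, nat_lit 10, nat_lit 0, nat_lit 12, nat_lit 15, nat_lit 14, nat_lit 16, nat_lit 8] (Rl.einv (nat_lit 2389)))) (FT.node (nat_lit 2427) (FT.leaf (Fct.mk true (nat_lit 5) (nat_lit 120594) (nat_lit 25) [nat_lit 2, nat_lit 3, nat_lit 4, nat_lit 1, nat_lit 2, nat_lit 3, nat_lit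 8, nat_lit 0, nat_lit 1, nat_lit 2, nat_lit 3, nat_lit 4, nat_lit 5, nat_lit 0, nat_lit 1, nat_lit 9, nat_lit 4, nat_lit 3, nat_lit 2, nat_lit 8, nat_lit 3, nat_lit 11, nat_lit 10, nat_lit 2, nat_lit 8, nat_lit 10, nat_lit 1, nat_lit 12, nat_lit 8, nat_lit 16, nat_lit 14, nat_lit 17, nat_lit 18] (Rl.t1 (nat_lit 1686) (nat_lit 2425)))) (FT.leaf (Fct.mk false (nat_lit 5) (nat_lit 0) (nat_lit 5) [nat_lit 2, nat_lit 3, nat_lit 4, nat_lit 5, nat_lit 0, nat_lit 1, nat_lit 2, nat_lit 3, nat_lit 10, nat_lit 1, nat_lit 12, nat_lit 15, nat_lit 12, nat_lit 16] (Rl.cmp (nat_lit 511) (nat_lit 2160)))))) (FT.node (nat_lit 2429) (FT.leaf (Fct.mk false (nat_lit 5) (nat_lit 0) (nat_lit 5) [nat_lit 1, nat_lit 2, nat_lit 3, nat_lit 4, nat_lit 5, nat_lit 9, nat_lit 4, nat_lit 0, nat_lit 2, nat_lit 16, nat_lit 15, nat_lit 14, nat_lit 12] (Rl.cmp (nat_lit 1754)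 (nat_lit 2427)))) (FT.node (nat_lit 2430) (FT.leaf (Fct.mk false (nat_lit 5) (nat_lit 0) (nat_lit 5) [nat_lit 4, nat_lit 3, nat_lit 8, nat_lit 2, nat_lit 3, nat_lit 4, nat_lit 1, nat_lit 2, nat_lit 3, nat_lit 8, nat_lit 5, nat_lit 6, nat_lit 4, nat_lit 5, nat_lit 3, nat_lit 4, nat_lit 2, nat_lit 3, nat_lit 8, nat_lit 1, nat_lit 2, nat_lit 3, nat_lit 4, nat_lit 5, nat_lit 8, nat_lit 3, nat_lit 2, nat_lit 1, nat_lit 9, nat_lit 4, nat_lit 3, nat_lit 2, nat_lit 8, nat_lit 3, nat_lit 10, nat_lit 1, nat_lit 8, nat_lit 16, nat_lit 14, nat_lit 8, nat_lit 19] (Rl.cmp (nat_lit 2094) (nat_lit 2428)))) (FT.leaf (Fct.mk true (nat_lit 5) (nat_lit 28) (nat_lit 25) [nat_lit 2, nat_lit 3, nat_lit 8, nat_lit 6, nat_lit 4, nat_lit 5, nat_lit 3, nat_lit 4, nat_lit 2, nat_lit 3, nat_lit 8, nat_lit 0, nat_lit 1, nat_lit 2, nat_lit 3, nat_lit 4, nat_lit 5, nat_lit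 4, nat_lit 3, nat_lit 2, nat_lit 8, nat_lit 3, nat_lit 10, nat_lit 0, nat_lit 18] (Rl.t1 (nat_lit 2426) (nat_lit 2429))))))) (FT.node (nat_lit 2434) (FT.node (nat_lit 2432) (FT.leaf (Fct.mk true (nat_lit 5) (nat_lit 117545) (nat_lit 5) [nat_lit 3, nat_lit 4, nat_lit 5, nat_lit 2, nat_lit 3, nat_lit 4, nat_lit 1, nat_lit 2, nat_lit 3, nat_lit 8, nat_lit 0, nat_lit 1, nat_lit 2, nat_lit 3, nat_lit 4, nat_lit 5, nat_lit 1, nat_lit 2, nat_lit 0, nat_lit 1, nat_lit 4, nat_lit 3, nat_lit 2, nat_lit 8, nat_lit 3, nat_lit 10, nat_lit 1, nat_lit 14, nat_lit 17, nat_lit 12, nat_lit 16] (Rl.t1 (nat_lit 2104) (nat_lit 2425)))) (FT.node (nat_lit 2433) (FT.leaf (Fct.mk true (nat_lit 5) (nat_lit 86) (nat_lit 5) [nat_lit 8, nat_lit 6, nat_lit 4, nat_lit 5, nat_lit 2, nat_lit 3, nat_lit 4, nat_lit 1, nat_lit 2, nat_lit 3, nat_lit 8, nat_lit 0, nat_lit 1, nat_lit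 2, nat_lit 3, nat_lit 4, nat_lit 5, nat_lit 2, nat_lit 0, nat_lit 1, nat_lit 4, nat_lit 3, nat_lit 2, nat_lit 8, nat_lit 3, nat_lit 11, nat_lit 2, nat_lit 8, nat_lit 10, nat_lit 1, nat_lit 14, nat_lit 8, nat_lit 18, nat_lit 16] (Rl.t1 (nat_lit 2431) (nat_lit 2176)))) (FT.leaf (Fct.mk false (nat_lit 5) (nat_lit 0) (nat_lit 5) [nat_lit 6, nat_lit 12, nat_lit 15, nat_lit 12] (Rl.cmp (nat_lit 1859) (nat_lit 2166)))))) (FT.node (nat_lit 2435) (FT.leaf (Fct.mk true (nat_lit 5) (nat_lit 2887) (nat_lit 25) [nat_lit 1, nat_lit 2, nat_lit 3, nat_lit 8, nat_lit 6, nat_lit 4, nat_lit 5, nat_lit 3, nat_lit 4, nat_lit 2, nat_lit 3, nat_lit 8, nat_lit 1, nat_lit 2, nat_lit 3, nat_lit 4, nat_lit 5, nat_lit 0, nat_lit 1, nat_lit 2, nat_lit 8, nat_lit 3, nat_lit 11, nat_lit 8, nat_lit 10, nat_lit 1, nat_lit 8, nat_lit 12, nat_lit 15, nat_lit 17, nat_lit 18]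 (Rl.rel (nat_lit 0) [nat_lit 4, nat_lit 5, nat_lit 6, nat_lit 3, nat_lit 4, nat_lit 5, nat_lit 2, nat_lit 3, nat_lit 4, nat_lit 1, nat_lit 2, nat_lit 3, nat_lit 8, nat_lit 0, nat_lit 1, nat_lit 2, nat_lit 3, nat_lit 4, nat_lit 5, nat_lit 3, nat_lit 2, nat_lit 1, nat_lit 8, nat_lit 3, nat_lit 2, nat_lit 0, nat_lit 1, nat_lit 9, nat_lit 4, nat_lit 3, nat_lit 2, nat_lit 8, nat_lit 3, nat_lit 10, nat_lit 0, nat_lit 8, nat_lit 12, nat_lit 15, nat_lit 14, nat_lit 8, nat_lit 19] (nat_lit 5) (nat_lit 1) [nat_lit 2432] [nat_lit 2433, nat_lit 2134]))) (FT.node (nat_lit 2436) (FT.leaf (Fct.mk true (nat_lit 5) (nat_lit 53) (nat_lit 25) [nat_lit 4, nat_lit 1, nat_lit 2, nat_lit 3, nat_lit 8, nat_lit 5, nat_lit 6, nat_lit 4, nat_lit 5, nat_lit 3, nat_lit 4, nat_lit 2, nat_lit 3, nat_lit 8, nat_lit 1, nat_lit 2, nat_lit 3, nat_lit 4, nat_lit 5, nat_lit 0,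 nat_lit 1, nat_lit 3, nat_lit 2, nat_lit 8, nat_lit 3, nat_lit 11, nat_lit 8, nat_lit 10, nat_lit 8, nat_lit 12, nat_lit 15, nat_lit 17, nat_lit 18] (Rl.t1 (nat_lit 2434) (nat_lit 2162)))) (FT.leaf (Fct.mk true (nat_lit 25) (nat_lit 80354) (nat_lit 5) [nat_lit 2, nat_lit 3, nat_lit 8, nat_lit 5, nat_lit 6, nat_lit 4, nat_lit 5, nat_lit 3, nat_lit 4, nat_lit 2, nat_lit 3, nat_lit 8, nat_lit 1, nat_lit 2, nat_lit 3, nat_lit 4, nat_lit 5, nat_lit 1, nat_lit 2, nat_lit 3, nat_lit 9, nat_lit 10, nat_lit 2, nat_lit 8, nat_lit 10, nat_lit 1, nat_lit 12, nat_lit 8, nat_lit 16, nat_lit 14, nat_lit 17, nat_lit 12, nat_lit 19, nat_lit 16] (Rl.inv (nat_lit 2435)))))))) (FT.node (nat_lit 2443) (FT.node (nat_lit 2440) (FT.node (nat_lit 2438) (FT.leaf (Fct.mk true (nat_lit 25) (nat_lit 171) (nat_lit 5) [nat_lit 3, nat_lit 4, nat_lit 2, nat_lit 3, nat_lit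 8, nat_lit 1, nat_lit 2, nat_lit 3, nat_lit 4, nat_lit 5, nat_lit 1, nat_lit 2, nat_lit 0, nat_lit 1, nat_lit 4, nat_lit 3, nat_lit 2, nat_lit 8, nat_lit 3, nat_lit 11, nat_lit 8, nat_lit 10, nat_lit 15, nat_lit 14, nat_lit 13, nat_lit 19, nat_lit 16] (Rl.t1 (nat_lit 2436) (nat_lit 2145)))) (FT.node (nat_lit 2439) (FT.leaf (Fct.mk false (nat_lit 4) (nat_lit 0) (nat_lit 4) [nat_lit 2, nat_lit 3, nat_lit 8, nat_lit 4, nat_lit 5, nat_lit 3, nat_lit 4, nat_lit 2, nat_lit 3, nat_lit 8, nat_lit 6, nat_lit 7, nat_lit 5, nat_lit 6, nat_lit 4, nat_lit 5, nat_lit 3, nat_lit 4, nat_lit 2, nat_lit 3, nat_lit 8, nat_lit 1, nat_lit 2, nat_lit 3, nat_lit 4, nat_lit 5, nat_lit 6, nat_lit 7, nat_lit 6, nat_lit 4, nat_lit 3, nat_lit 2, nat_lit 8, nat_lit 3, nat_lit 9, nat_lit 12, nat_lit 8, nat_lit 16, nat_lit 14, nat_lit 12, nat_lit 18, nat_lit 16] (Rl.cmp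 (nat_lit 2284) (nat_lit 239)))) (FT.leaf (Fct.mk false (nat_lit 4) (nat_lit 0) (nat_lit 4) [nat_lit 5, nat_lit 4, nat_lit 3, nat_lit 8, nat_lit 6, nat_lit 7, nat_lit 5, nat_lit 6, nat_lit 4, nat_lit 5, nat_lit 3, nat_lit 4, nat_lit 2, nat_lit 3, nat_lit 8, nat_lit 1, nat_lit 2, nat_lit 3, nat_lit 4, nat_lit 5, nat_lit 6, nat_lit 7, nat_lit 8, nat_lit 2, nat_lit 3, nat_lit 4, nat_lit 1, nat_lit 2, nat_lit 3, nat_lit 8, nat_lit 5, nat_lit 6, nat_lit 4, nat_lit 5, nat_lit 3, nat_lit 4, nat_lit 2, nat_lit 3, nat_lit 8, nat_lit 1, nat_lit 2, nat_lit 3, nat_lit 4, nat_lit 5, nat_lit 8, nat_lit 3, nat_lit 9, nat_lit 16, nat_lit 14, nat_lit 12] (Rl.cmp (nat_lit 2284) (nat_lit 2438)))))) (FT.node (nat_lit 2441) (FT.leaf (Fct.mk false (nat_lit 4) (nat_lit 0) (nat_lit 4) [nat_lit 6, nat_lit 7, nat_lit 5, nat_lit 6, nat_lit 4, nat_lit 5, nat_lit 3, nat_lit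 4, nat_lit 2, nat_lit 3, nat_lit 8, nat_lit 1, nat_lit 2, nat_lit 3, nat_lit 4, nat_lit 5, nat_lit 6, nat_lit 7, nat_lit 3, nat_lit 4, nat_lit 1, nat_lit 2, nat_lit 3, nat_lit 8, nat_lit 5, nat_lit 6, nat_lit 4, nat_lit 5, nat_lit 3, nat_lit 4, nat_lit 2, nat_lit 3, nat_lit 8, nat_lit 1, nat_lit 2, nat_lit 3, nat_lit 4, nat_lit 5, nat_lit 2, nat_lit 1, nat_lit 4, nat_lit 3, nat_lit 2, nat_lit 8, nat_lit 3, nat_lit 10, nat_lit 9, nat_lit 2, nat_lit 14, nat_lit 12, nat_lit 19, nat_lit 16] (Rl.cmp (nat_lit 1995) (nat_lit 2439)))) (FT.node (nat_lit 2442) (FT.leaf (Fct.mk false (nat_lit 4) (nat_lit 0) (nat_lit 4) [nat_lit 3, nat_lit 8, nat_lit 2, nat_lit 3, nat_lit 4, nat_lit 1, nat_lit 2, nat_lit 3, nat_lit 8, nat_lit 5, nat_lit 6, nat_lit 4, nat_lit 5, nat_lit 3, nat_lit 4, nat_lit 2, nat_lit 3, nat_lit 8, nat_lit 1, nat_lit 2, nat_lit 3, nat_lit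 4, nat_lit 5, nat_lit 2, nat_lit 1, nat_lit 4, nat_lit 3, nat_lit 2, nat_lit 8, nat_lit 3, nat_lit 9, nat_lit 12, nat_lit 8, nat_lit 16, nat_lit 14, nat_lit 8, nat_lit 18, nat_lit 16] (Rl.cmp (nat_lit 2372) (nat_lit 2440)))) (FT.leaf (Fct.mk false (nat_lit 4) (nat_lit 0) (nat_lit 4) [nat_lit 6, nat_lit 5, nat_lit 4, nat_lit 2, nat_lit 3, nat_lit 8, nat_lit 1, nat_lit 2, nat_lit 3, nat_lit 4, nat_lit 5, nat_lit 2, nat_lit 1, nat_lit 3, nat_lit 2, nat_lit 8, nat_lit 3, nat_lit 8, nat_lit 16, nat_lit 14, nat_lit 8, nat_lit 19] (Rl.cmp (nat_lit 243) (nat_lit 2441))))))) (FT.node (nat_lit 2446) (FT.node (nat_lit 2444) (FT.leaf (Fct.mk false (nat_lit 25) (nat_lit 0) (nat_lit 25) [nat_lit 4, nat_lit 1, nat_lit 2, nat_lit 3, nat_lit 8, nat_lit 5, nat_lit 6, nat_lit 4, nat_lit 5, nat_lit 3, nat_lit 4, nat_lit 2, nat_lit 3, nat_lit 8, nat_lit 1, nat_lit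 2, nat_lit 3, nat_lit 4, nat_lit 5, nat_lit 3, nat_lit 2, nat_lit 1, nat_lit 8, nat_lit 3, nat_lit 2, nat_lit 0, nat_lit 1, nat_lit 4, nat_lit 3, nat_lit 2, nat_lit 8, nat_lit 3, nat_lit 11, nat_lit 2, nat_lit 14, nat_lit 16, nat_lit 8] (Rl.cmp (nat_lit 1231) (nat_lit 2155)))) (FT.node (nat_lit 2445) (FT.leaf (Fct.mk false (nat_lit 25) (nat_lit 0) (nat_lit 25) [nat_lit 3, nat_lit 8, nat_lit 5, nat_lit 6, nat_lit 4, nat_lit 5, nat_lit 3, nat_lit 4, nat_lit 1, nat_lit 2, nat_lit 3, nat_lit 8, nat_lit 0, nat_lit 1, nat_lit 2, nat_lit 3, nat_lit 4, nat_lit 5, nat_lit 8, nat_lit 3, nat_lit 2, nat_lit 1, nat_lit 4, nat_lit 3, nat_lit 2, nat_lit 8, nat_lit 3, nat_lit 0, nat_lit 2, nat_lit 16, nat_lit 8, nat_lit 12, nat_lit 15, nat_lit 12, nat_lit 18, nat_lit 16] (Rl.cmp (nat_lit 1813) (nat_lit 2443)))) (FT.leaf (Fct.mk true (nat_lit 25) (nat_lit 116711)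 (nat_lit 5) [nat_lit 5, nat_lit 3, nat_lit 4, nat_lit 2, nat_lit 3, nat_lit 8, nat_lit 0, nat_lit 1, nat_lit 2, nat_lit 3, nat_lit 4, nat_lit 5, nat_lit 6, nat_lit 7, nat_lit 3, nat_lit 4, nat_lit 2, nat_lit 3, nat_lit 8, nat_lit 1, nat_lit 2, nat_lit 3, nat_lit 4, nat_lit 5, nat_lit 3, nat_lit 2, nat_lit 8, nat_lit 3, nat_lit 2, nat_lit 8, nat_lit 10, nat_lit 1, nat_lit 16, nat_lit 8, nat_lit 12, nat_lit 15, nat_lit 16, nat_lit 8] (Rl.rel (nat_lit 0) [nat_lit 8, nat_lit 3, nat_lit 4, nat_lit 5, nat_lit 6, nat_lit 7, nat_lit 2, nat_lit 3, nat_lit 4, nat_lit 5, nat_lit 2, nat_lit 8, nat_lit 3, nat_lit 10, nat_lit 0, nat_lit 12, nat_lit 15, nat_lit 8] (nat_lit 5) (nat_lit 1) [nat_lit 2430] [nat_lit 2211]))))) (FT.node (nat_lit 2448) (FT.node (nat_lit 2447) (FT.leaf (Fct.mk true (nat_lit 25) (nat_lit 30685) (nat_lit 5) [nat_lit 3, nat_lit 8, nat_lit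 5, nat_lit 6, nat_lit 4, nat_lit 5, nat_lit 3, nat_lit 4, nat_lit 2, nat_lit 3, nat_lit 8, nat_lit 1, nat_lit 2, nat_lit 3, nat_lit 4, nat_lit 5, nat_lit 6, nat_lit 7, nat_lit 0, nat_lit 1, nat_lit 2, nat_lit 3, nat_lit 4, nat_lit 5, nat_lit 0, nat_lit 1, nat_lit 3, nat_lit 2, nat_lit 8, nat_lit 3, nat_lit 16, nat_lit 8, nat_lit 12, nat_lit 15, nat_lit 17, nat_lit 12] (Rl.t1 (nat_lit 2445) (nat_lit 2444)))) (FT.leaf (Fct.mk true (nat_lit 5) (nat_lit 5677) (nat_lit 25) [nat_lit 4, nat_lit 3, nat_lit 8, nat_lit 0, nat_lit 1, nat_lit 2, nat_lit 3, nat_lit 4, nat_lit 5, nat_lit 6, nat_lit 7, nat_lit 8, nat_lit 3, nat_lit 4, nat_lit 2, nat_lit 3, nat_lit 8, nat_lit 5, nat_lit 6, nat_lit 4, nat_lit 5, nat_lit 3, nat_lit 4, nat_lit 2, nat_lit 3, nat_lit 8, nat_lit 1, nat_lit 2, nat_lit 3, nat_lit 4, nat_lit 5, nat_lit 1, nat_lit 4, nat_lit 3, nat_lit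 2, nat_lit 8, nat_lit 3, nat_lit 11, nat_lit 8, nat_lit 10, nat_lit 1, nat_lit 8, nat_lit 12, nat_lit 15, nat_lit 14, nat_lit 13] (Rl.inv (nat_lit 2446))))) (FT.node (nat_lit 2449) (FT.leaf (Fct.mk true (nat_lit 5) (nat_lit 517) (nat_lit 25) [nat_lit 6, nat_lit 5, nat_lit 4, nat_lit 3, nat_lit 8, nat_lit 0, nat_lit 1, nat_lit 2, nat_lit 3, nat_lit 4, nat_lit 5, nat_lit 6, nat_lit 7, nat_lit 2, nat_lit 3, nat_lit 8, nat_lit 6, nat_lit 4, nat_lit 5, nat_lit 3, nat_lit 4, nat_lit 2, nat_lit 3, nat_lit 8, nat_lit 0, nat_lit 1, nat_lit 2, nat_lit 3, nat_lit 4, nat_lit 5, nat_lit 1, nat_lit 3, nat_lit 2, nat_lit 8, nat_lit 3, nat_lit 11, nat_lit 8, nat_lit 10, nat_lit 1, nat_lit 12, nat_lit 15, nat_lit 14, nat_lit 13] (Rl.t1 (nat_lit 2447) (nat_lit 1859)))) (FT.leaf (Fct.mk false (nat_lit 25) (nat_lit 0) (nat_lit 25) [nat_lit 4, nat_lit 3, nat_lit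 8, nat_lit 2, nat_lit 3, nat_lit 4, nat_lit 5, nat_lit 1, nat_lit 2, nat_lit 3, nat_lit 2, nat_lit 8, nat_lit 10, nat_lit 1, nat_lit 15, nat_lit 12, nat_lit 18, nat_lit 16] (Rl.cmp (nat_lit 2004) (nat_lit 1244)))))))))

/-- some facts -/
noncomputable def ftc49 : FT := FT.node (nat_lit 2475) (FT.node (nat_lit 2462) (FT.node (nat_lit 2456) (FT.node (nat_lit 2453) (FT.node (nat_lit 2451) (FT.leaf (Fct.mk true (nat_lit 5) (nat_lit 1074) (nat_lit 5) [nat_lit 6, nat_lit 7, nat_lit 3, nat_lit 1, nat_lit 9, nat_lit 12, nat_lit 15, nat_lit 12] (Rl.rel (nat_lit 0) [nat_lit 3, nat_lit 8, nat_lit 2, nat_lit 3, nat_lit 4, nat_lit 5, nat_lit 6, nat_lit 7, nat_lit 3, nat_lit 0, nat_lit 15, nat_lit 8] (nat_lit 5) (nat_lit 2) [nat_lit 2448, nat_lit 2159, nat_lit 2446] []))) (FT.node (nat_lit 2452) (FT.leaf (Fct.mk true (nat_lit 5) (nat_lit 21) (nat_lit 5)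 [nat_lit 0, nat_lit 1, nat_lit 2, nat_lit 3, nat_lit 4, nat_lit 5, nat_lit 6, nat_lit 7, nat_lit 4, nat_lit 5, nat_lit 2, nat_lit 3, nat_lit 11, nat_lit 16, nat_lit 14, nat_lit 13] (Rl.t1 (nat_lit 2450) (nat_lit 1859)))) (FT.leaf (Fct.mk true (nat_lit 25) (nat_lit 30600) (nat_lit 25) [nat_lit 5, nat_lit 6, nat_lit 4, nat_lit 5, nat_lit 2, nat_lit 3, nat_lit 4, nat_lit 1, nat_lit 2, nat_lit 3, nat_lit 8, nat_lit 0, nat_lit 1, nat_lit 2, nat_lit 3, nat_lit 4, nat_lit 5, nat_lit 6, nat_lit 7, nat_lit 6, nat_lit 5, nat_lit 4, nat_lit 2, nat_lit 3, nat_lit 8, nat_lit 1, nat_lit 2, nat_lit 3, nat_lit 4, nat_lit 5, nat_lit 3, nat_lit 2, nat_lit 0, nat_lit 1, nat_lit 4, nat_lit 3, nat_lit 2, nat_lit 8, nat_lit 3, nat_lit 8, nat_lit 10, nat_lit 1, nat_lit 14, nat_lit 12, nat_lit 18] (Rl.rel (nat_lit 0) [nat_lit 3, nat_lit 4, nat_lit 5, nat_lit 6, nat_lit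 7, nat_lit 2, nat_lit 8, nat_lit 3, nat_lit 10, nat_lit 0, nat_lit 12, nat_lit 15, nat_lit 8] (nat_lit 5) (nat_lit 1) [nat_lit 2448] [nat_lit 2430]))))) (FT.node (nat_lit 2454) (FT.leaf (Fct.mk true (nat_lit 25) (nat_lit 30553) (nat_lit 25) [nat_lit 3, nat_lit 4, nat_lit 1, nat_lit 2, nat_lit 3, nat_lit 8, nat_lit 5, nat_lit 6, nat_lit 4, nat_lit 5, nat_lit 3, nat_lit 4, nat_lit 2, nat_lit 3, nat_lit 8, nat_lit 1, nat_lit 2, nat_lit 3, nat_lit 4, nat_lit 5, nat_lit 6, nat_lit 7, nat_lit 2, nat_lit 3, nat_lit 8, nat_lit 6, nat_lit 4, nat_lit 5, nat_lit 3, nat_lit 4, nat_lit 2, nat_lit 3, nat_lit 8, nat_lit 0, nat_lit 1, nat_lit 2, nat_lit 3, nat_lit 4, nat_lit 5, nat_lit 3, nat_lit 2, nat_lit 1, nat_lit 4, nat_lit 3, nat_lit 2, nat_lit 8, nat_lit 3, nat_lit 11, nat_lit 12, nat_lit 15, nat_lit 14, nat_lit 16, nat_lit 8, nat_lit 16] (Rl.t1 (nat_lit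 2452) (nat_lit 1813)))) (FT.node (nat_lit 2455) (FT.leaf (Fct.mk false (nat_lit 25) (nat_lit 0) (nat_lit 25) [nat_lit 4, nat_lit 5, nat_lit 2, nat_lit 3, nat_lit 4, nat_lit 1, nat_lit 2, nat_lit 3, nat_lit 8, nat_lit 0, nat_lit 1, nat_lit 2, nat_lit 3, nat_lit 4, nat_lit 5, nat_lit 2, nat_lit 0, nat_lit 1, nat_lit 9, nat_lit 4, nat_lit 3, nat_lit 2, nat_lit 8, nat_lit 3, nat_lit 15, nat_lit 14, nat_lit 16] (Rl.cmp (nat_lit 2117) (nat_lit 2449)))) (FT.leaf (Fct.mk false (nat_lit 25) (nat_lit 0) (nat_lit 25) [nat_lit 6, nat_lit 5, nat_lit 3, nat_lit 4, nat_lit 1, nat_lit 2, nat_lit 3, nat_lit 8, nat_lit 0, nat_lit 1, nat_lit 2, nat_lit 3, nat_lit 4, nat_lit 5, nat_lit 2, nat_lit 0, nat_lit 1, nat_lit 9, nat_lit 4, nat_lit 3, nat_lit 2, nat_lit 8, nat_lit 3, nat_lit 9, nat_lit 2, nat_lit 15, nat_lit 14, nat_lit 16] (Rl.cmp (nat_lit 1258) (nat_lit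 2454))))))) (FT.node (nat_lit 2459) (FT.node (nat_lit 2457) (FT.leaf (Fct.mk true (nat_lit 5) (nat_lit 5690) (nat_lit 5) [nat_lit 6, nat_lit 7, nat_lit 0, nat_lit 1, nat_lit 2, nat_lit 3, nat_lit 4, nat_lit 5, nat_lit 2, nat_lit 3, nat_lit 11, nat_lit 10, nat_lit 16, nat_lit 14, nat_lit 13] (Rl.rel (nat_lit 0) [nat_lit 8, nat_lit 3, nat_lit 4, nat_lit 2, nat_lit 3, nat_lit 8, nat_lit 1, nat_lit 2, nat_lit 3, nat_lit 4, nat_lit 5, nat_lit 6, nat_lit 7, nat_lit 0, nat_lit 1, nat_lit 2, nat_lit 3, nat_lit 0, nat_lit 15, nat_lit 8] (nat_lit 5) (nat_lit 2) [nat_lit 2448, nat_lit 2455, nat_lit 2446] []))) (FT.node (nat_lit 2458) (FT.leaf (Fct.mk true (nat_lit 5) (nat_lit 2181) (nat_lit 5) [nat_lit 0, nat_lit 1, nat_lit 2, nat_lit 3, nat_lit 4, nat_lit 5, nat_lit 6, nat_lit 7, nat_lit 5, nat_lit 2, nat_lit 3, nat_lit 9, nat_lit 2, nat_lit 12, nat_lit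 15] (Rl.t1 (nat_lit 2456) (nat_lit 1859)))) (FT.leaf (Fct.mk false (nat_lit 25) (nat_lit 0) (nat_lit 25) [nat_lit 8, nat_lit 3, nat_lit 4, nat_lit 5, nat_lit 1, nat_lit 2, nat_lit 3, nat_lit 8, nat_lit 10, nat_lit 12, nat_lit 15, nat_lit 12, nat_lit 19] (Rl.cmp (nat_lit 2117) (nat_lit 1244)))))) (FT.node (nat_lit 2460) (FT.leaf (Fct.mk false (nat_lit 25) (nat_lit 0) (nat_lit 25) [nat_lit 8, nat_lit 5, nat_lit 6, nat_lit 4, nat_lit 5, nat_lit 3, nat_lit 4, nat_lit 2, nat_lit 3, nat_lit 8, nat_lit 1, nat_lit 2, nat_lit 3, nat_lit 4, nat_lit 5, nat_lit 9, nat_lit 4, nat_lit 8, nat_lit 10, nat_lit 15, nat_lit 19] (Rl.cmp (nat_lit 2117) (nat_lit 2458)))) (FT.node (nat_lit 2461) (FT.leaf (Fct.mk false (nat_lit 4) (nat_lit 0) (nat_lit 4) [nat_lit 1, nat_lit 2, nat_lit 3, nat_lit 4, nat_lit 5, nat_lit 2, nat_lit 3, nat_lit 12] (Rl.cmp (nat_lit 243)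 (nat_lit 234)))) (FT.leaf (Fct.mk false (nat_lit 4) (nat_lit 0) (nat_lit 4) [nat_lit 2, nat_lit 3, nat_lit 4, nat_lit 1, nat_lit 2, nat_lit 3, nat_lit 8, nat_lit 5, nat_lit 6, nat_lit 4, nat_lit 5, nat_lit 3, nat_lit 4, nat_lit 2, nat_lit 3, nat_lit 8, nat_lit 1, nat_lit 2, nat_lit 3, nat_lit 4, nat_lit 5, nat_lit 1, nat_lit 2, nat_lit 8, nat_lit 3, nat_lit 9, nat_lit 8, nat_lit 16, nat_lit 14, nat_lit 8, nat_lit 18, nat_lit 16] (Rl.cmp (nat_lit 1995) (nat_lit 2460)))))))) (FT.node (nat_lit 2468) (FT.node (nat_lit 2465) (FT.node (nat_lit 2463) (FT.leaf (Fct.mk false (nat_lit 4) (nat_lit 0) (nat_lit 4) [nat_lit 7, nat_lit 2, nat_lit 3, nat_lit 4, nat_lit 1, nat_lit 2, nat_lit 3, nat_lit 8, nat_lit 5, nat_lit 6, nat_lit 4, nat_lit 5, nat_lit 3, nat_lit 4, nat_lit 2, nat_lit 3, nat_lit 8, nat_lit 1, nat_lit 2, nat_lit 3, nat_lit 4, nat_lit 5,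 nat_lit 1, nat_lit 2, nat_lit 8, nat_lit 3, nat_lit 9, nat_lit 8, nat_lit 16, nat_lit 14, nat_lit 8, nat_lit 18, nat_lit 16] (Rl.cmp (nat_lit 263) (nat_lit 2461)))) (FT.node (nat_lit 2464) (FT.leaf (Fct.mk true (nat_lit 25) (nat_lit 73577) (nat_lit 4) [nat_lit 8, nat_lit 4, nat_lit 5, nat_lit 3, nat_lit 4, nat_lit 1, nat_lit 2, nat_lit 3, nat_lit 8, nat_lit 6, nat_lit 7, nat_lit 5, nat_lit 6, nat_lit 4, nat_lit 5, nat_lit 3, nat_lit 4, nat_lit 2, nat_lit 3, nat_lit 8, nat_lit 1, nat_lit 2, nat_lit 3, nat_lit 4, nat_lit 5, nat_lit 6, nat_lit 7, nat_lit 8, nat_lit 6, nat_lit 5, nat_lit 2, nat_lit 3, nat_lit 4, nat_lit 1, nat_lit 2, nat_lit 3, nat_lit 8, nat_lit 0, nat_lit 1, nat_lit 2, nat_lit 3, nat_lit 4, nat_lit 5, nat_lit 1, nat_lit 2, nat_lit 3, nat_lit 8, nat_lit 12, nat_lit 15, nat_lit 12, nat_lit 19] (Rl.rel (nat_lit 0) [nat_lit 3, nat_lit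 4, nat_lit 5, nat_lit 2, nat_lit 3, nat_lit 4, nat_lit 1, nat_lit 2, nat_lit 3, nat_lit 8, nat_lit 0, nat_lit 1, nat_lit 2, nat_lit 3, nat_lit 4, nat_lit 5, nat_lit 6, nat_lit 7, nat_lit 3, nat_lit 8, nat_lit 2, nat_lit 3, nat_lit 4, nat_lit 1, nat_lit 2, nat_lit 3, nat_lit 8, nat_lit 0, nat_lit 1, nat_lit 2, nat_lit 3, nat_lit 4, nat_lit 5, nat_lit 3, nat_lit 2, nat_lit 1, nat_lit 8, nat_lit 3, nat_lit 2, nat_lit 0, nat_lit 1, nat_lit 4, nat_lit 3, nat_lit 2, nat_lit 8, nat_lit 3, nat_lit 10, nat_lit 9, nat_lit 2, nat_lit 16, nat_lit 8, nat_lit 12, nat_lit 15, nat_lit 16, nat_lit 8] (nat_lit 5) (nat_lit 1) [nat_lit 2448] [nat_lit 2217, nat_lit 1865, nat_lit 2281]))) (FT.leaf (Fct.mk true (nat_lit 25) (nat_lit 14440) (nat_lit 4) [nat_lit 7, nat_lit 6, nat_lit 5, nat_lit 3, nat_lit 4, nat_lit 1, nat_lit 2, nat_lit 3, nat_lit 8, nat_lit 0, nat_lit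 1, nat_lit 2, nat_lit 3, nat_lit 4, nat_lit 5, nat_lit 6, nat_lit 7, nat_lit 5, nat_lit 6, nat_lit 4, nat_lit 5, nat_lit 2, nat_lit 3, nat_lit 4, nat_lit 1, nat_lit 2, nat_lit 3, nat_lit 8, nat_lit 0, nat_lit 1, nat_lit 2, nat_lit 3, nat_lit 4, nat_lit 5, nat_lit 0, nat_lit 1, nat_lit 2, nat_lit 3, nat_lit 1, nat_lit 9, nat_lit 15, nat_lit 12, nat_lit 19, nat_lit 16] (Rl.t1 (nat_lit 2463) (nat_lit 2459)))))) (FT.node (nat_lit 2466) (FT.leaf (Fct.mk true (nat_lit 4) (nat_lit 91227) (nat_lit 25) [nat_lit 7, nat_lit 6, nat_lit 5, nat_lit 2, nat_lit 3, nat_lit 4, nat_lit 1, nat_lit 2, nat_lit 3, nat_lit 8, nat_lit 0, nat_lit 1, nat_lit 2, nat_lit 3, nat_lit 4, nat_lit 5, nat_lit 6, nat_lit 7, nat_lit 8, nat_lit 4, nat_lit 5, nat_lit 3, nat_lit 4, nat_lit 1, nat_lit 2, nat_lit 3, nat_lit 8, nat_lit 0, nat_lit 1, nat_lit 2, nat_lit 3, nat_lit 4,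 nat_lit 5, nat_lit 1, nat_lit 8, nat_lit 3, nat_lit 2, nat_lit 0, nat_lit 1, nat_lit 9, nat_lit 4, nat_lit 3, nat_lit 2, nat_lit 8, nat_lit 3, nat_lit 1, nat_lit 9, nat_lit 16, nat_lit 14, nat_lit 16, nat_lit 8] (Rl.inv (nat_lit 2464)))) (FT.node (nat_lit 2467) (FT.leaf (Fct.mk true (nat_lit 4) (nat_lit 3084) (nat_lit 25) [nat_lit 8, nat_lit 4, nat_lit 5, nat_lit 2, nat_lit 3, nat_lit 4, nat_lit 1, nat_lit 2, nat_lit 3, nat_lit 8, nat_lit 0, nat_lit 1, nat_lit 2, nat_lit 3, nat_lit 4, nat_lit 5, nat_lit 6, nat_lit 7, nat_lit 8, nat_lit 4, nat_lit 5, nat_lit 3, nat_lit 4, nat_lit 1, nat_lit 2, nat_lit 3, nat_lit 8, nat_lit 0, nat_lit 1, nat_lit 2, nat_lit 3, nat_lit 4, nat_lit 5, nat_lit 4, nat_lit 3, nat_lit 2, nat_lit 1, nat_lit 9, nat_lit 4, nat_lit 3, nat_lit 2, nat_lit 8, nat_lit 3, nat_lit 11, nat_lit 10, nat_lit 1, nat_lit 14, nat_lit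 16] (Rl.t1 (nat_lit 2465) (nat_lit 2462)))) (FT.leaf (Fct.mk false (nat_lit 25) (nat_lit 0) (nat_lit 25) [nat_lit 91] (Rl.rel (nat_lit 0) [nat_lit 3, nat_lit 4, nat_lit 5, nat_lit 6, nat_lit 7, nat_lit 8, nat_lit 2, nat_lit 3, nat_lit 4, nat_lit 1, nat_lit 2, nat_lit 3, nat_lit 8, nat_lit 0, nat_lit 1, nat_lit 2, nat_lit 3, nat_lit 4, nat_lit 5, nat_lit 2, nat_lit 3, nat_lit 11, nat_lit 2, nat_lit 12, nat_lit 8, nat_lit 16, nat_lit 14, nat_lit 13] (nat_lit 4) (nat_lit 1) [nat_lit 2466] [nat_lit 243, nat_lit 1397, nat_lit 1792, nat_lit 2460, nat_lit 2466])))))) (FT.node (nat_lit 2471) (FT.node (nat_lit 2469) (FT.leaf (Fct.mk false (nat_lit 25) (nat_lit 0) (nat_lit 25) [nat_lit 8, nat_lit 7, nat_lit 6, nat_lit 5, nat_lit 2, nat_lit 3, nat_lit 4, nat_lit 1, nat_lit 2, nat_lit 3, nat_lit 8, nat_lit 0, nat_lit 1, nat_lit 2, nat_lit 3, nat_lit 4,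 nat_lit 5, nat_lit 6, nat_lit 7, nat_lit 5, nat_lit 4, nat_lit 1, nat_lit 2, nat_lit 3, nat_lit 8, nat_lit 0, nat_lit 1, nat_lit 2, nat_lit 3, nat_lit 4, nat_lit 5, nat_lit 1, nat_lit 2, nat_lit 0, nat_lit 1, nat_lit 3, nat_lit 2, nat_lit 8, nat_lit 3, nat_lit 8, nat_lit 10, nat_lit 9, nat_lit 2, nat_lit 17, nat_lit 12, nat_lit 19] (Rl.cmp (nat_lit 2467) (nat_lit 1258)))) (FT.node (nat_lit 2470) (FT.leaf (Fct.mk false (nat_lit 25) (nat_lit 0) (nat_lit 25) [nat_lit 8, nat_lit 7, nat_lit 6, nat_lit 5, nat_lit 2, nat_lit 3, nat_lit 4, nat_lit 1, nat_lit 2, nat_lit 3, nat_lit 8, nat_lit 0, nat_lit 1, nat_lit 2, nat_lit 3, nat_lit 4, nat_lit 5, nat_lit 6, nat_lit 7, nat_lit 6, nat_lit 5, nat_lit 4, nat_lit 3, nat_lit 8, nat_lit 2, nat_lit 3, nat_lit 4, nat_lit 5, nat_lit 3, nat_lit 2, nat_lit 1, nat_lit 8, nat_lit 3, nat_lit 2, nat_lit 0, nat_lit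 1, nat_lit 4, nat_lit 3, nat_lit 2, nat_lit 8, nat_lit 3, nat_lit 0, nat_lit 15, nat_lit 14, nat_lit 13, nat_lit 12] (Rl.cmp (nat_lit 1813) (nat_lit 2468)))) (FT.leaf (Fct.mk false (nat_lit 25) (nat_lit 0) (nat_lit 25) [nat_lit 8, nat_lit 7, nat_lit 6, nat_lit 4, nat_lit 5, nat_lit 3, nat_lit 4, nat_lit 1, nat_lit 2, nat_lit 3, nat_lit 8, nat_lit 0, nat_lit 1, nat_lit 2, nat_lit 3, nat_lit 4, nat_lit 5, nat_lit 6, nat_lit 7, nat_lit 5, nat_lit 4, nat_lit 3, nat_lit 8, nat_lit 2, nat_lit 3, nat_lit 4, nat_lit 5, nat_lit 3, nat_lit 2, nat_lit 1, nat_lit 8, nat_lit 3, nat_lit 2, nat_lit 0, nat_lit 1, nat_lit 4, nat_lit 3, nat_lit 2, nat_lit 8, nat_lit 3, nat_lit 2, nat_lit 15, nat_lit 14, nat_lit 13, nat_lit 12] (Rl.cmp (nat_lit 1258) (nat_lit 2469)))))) (FT.node (nat_lit 2473) (FT.node (nat_lit 2472) (FT.leaf (Fct.mk false (nat_lit 25) (nat_lit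 0) (nat_lit 25) [nat_lit 5, nat_lit 6, nat_lit 7, nat_lit 4, nat_lit 5, nat_lit 6, nat_lit 3, nat_lit 4, nat_lit 5, nat_lit 2, nat_lit 3, nat_lit 4, nat_lit 1, nat_lit 2, nat_lit 3, nat_lit 8, nat_lit 0, nat_lit 1, nat_lit 2, nat_lit 3, nat_lit 4, nat_lit 5, nat_lit 6, nat_lit 7, nat_lit 6, nat_lit 5, nat_lit 4, nat_lit 1, nat_lit 2, nat_lit 3, nat_lit 8, nat_lit 0, nat_lit 1, nat_lit 2, nat_lit 3, nat_lit 4, nat_lit 5, nat_lit 0, nat_lit 1, nat_lit 9, nat_lit 4, nat_lit 3, nat_lit 2, nat_lit 8, nat_lit 3, nat_lit 10, nat_lit 2, nat_lit 8, nat_lit 10, nat_lit 1, nat_lit 14, nat_lit 13, nat_lit 12] (Rl.cmp (nat_lit 2004) (nat_lit 2470)))) (FT.leaf (Fct.mk false (nat_lit 25) (nat_lit 0) (nat_lit 25) [nat_lit 8, nat_lit 5, nat_lit 2, nat_lit 3, nat_lit 4, nat_lit 1, nat_lit 2, nat_lit 3, nat_lit 8, nat_lit 6, nat_lit 7, nat_lit 5, nat_lit 6, nat_lit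 4, nat_lit 5, nat_lit 3, nat_lit 4, nat_lit 2, nat_lit 3, nat_lit 8, nat_lit 1, nat_lit 2, nat_lit 3, nat_lit 4, nat_lit 5, nat_lit 6, nat_lit 7, nat_lit 1, nat_lit 2, nat_lit 3, nat_lit 8, nat_lit 6, nat_lit 4, nat_lit 5, nat_lit 3, nat_lit 4, nat_lit 2, nat_lit 3, nat_lit 8, nat_lit 1, nat_lit 2, nat_lit 3, nat_lit 4, nat_lit 5, nat_lit 3, nat_lit 8, nat_lit 4, nat_lit 3, nat_lit 2, nat_lit 0, nat_lit 1, nat_lit 9, nat_lit 4, nat_lit 3, nat_lit 2, nat_lit 8, nat_lit 3, nat_lit 11, nat_lit 2, nat_lit 8, nat_lit 10, nat_lit 1, nat_lit 12, nat_lit 15, nat_lit 17, nat_lit 12, nat_lit 19] (Rl.cmp (nat_lit 2467) (nat_lit 2471))))) (FT.node (nat_lit 2474) (FT.leaf (Fct.mk true (nat_lit 25) (nat_lit 3517) (nat_lit 5) [nat_lit 3, nat_lit 8, nat_lit 7, nat_lit 6, nat_lit 4, nat_lit 5, nat_lit 3, nat_lit 4, nat_lit 2, nat_lit 3, nat_lit 8, nat_lit 1,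 nat_lit 2, nat_lit 3, nat_lit 4, nat_lit 5, nat_lit 6, nat_lit 7, nat_lit 8, nat_lit 3, nat_lit 4, nat_lit 2, nat_lit 3, nat_lit 8, nat_lit 0, nat_lit 1, nat_lit 2, nat_lit 3, nat_lit 4, nat_lit 5, nat_lit 2, nat_lit 10, nat_lit 1, nat_lit 15, nat_lit 8, nat_lit 18] (Rl.t1 (nat_lit 2446) (nat_lit 2472)))) (FT.leaf (Fct.mk false (nat_lit 25) (nat_lit 0) (nat_lit 25) [nat_lit 5, nat_lit 3, nat_lit 4, nat_lit 1, nat_lit 2, nat_lit 3, nat_lit 8, nat_lit 0, nat_lit 1, nat_lit 2, nat_lit 3, nat_lit 4, nat_lit 5, nat_lit 1, nat_lit 2, nat_lit 0, nat_lit 1, nat_lit 3, nat_lit 2, nat_lit 8, nat_lit 3, nat_lit 11, nat_lit 2, nat_lit 8, nat_lit 10, nat_lit 1, nat_lit 12, nat_lit 15, nat_lit 16, nat_lit 8, nat_lit 18] (Rl.cmp (nat_lit 1258) (nat_lit 1247))))))))) (FT.node (nat_lit 2487) (FT.node (nat_lit 2481) (FT.node (nat_lit 2478) (FT.node (nat_lit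 2476) (FT.leaf (Fct.mk false (nat_lit 25) (nat_lit 0) (nat_lit 25) [nat_lit 8, nat_lit 2, nat_lit 3, nat_lit 4, nat_lit 1, nat_lit 2, nat_lit 3, nat_lit 8, nat_lit 0, nat_lit 1, nat_lit 2, nat_lit 3, nat_lit 4, nat_lit 5, nat_lit 4, nat_lit 3, nat_lit 2, nat_lit 8, nat_lit 3, nat_lit 8, nat_lit 10, nat_lit 9, nat_lit 2, nat_lit 12, nat_lit 19] (Rl.cmp (nat_lit 2004) (nat_lit 2474)))) (FT.node (nat_lit 2477) (FT.leaf (Fct.mk false (nat_lit 25) (nat_lit 0) (nat_lit 25) [nat_lit 8, nat_lit 7, nat_lit 6, nat_lit 5, nat_lit 2, nat_lit 3, nat_lit 4, nat_lit 1, nat_lit 2, nat_lit 3, nat_lit 8, nat_lit 0, nat_lit 1, nat_lit 2, nat_lit 3, nat_lit 4, nat_lit 5, nat_lit 6, nat_lit 7, nat_lit 5, nat_lit 3, nat_lit 2, nat_lit 1, nat_lit 8, nat_lit 3, nat_lit 2, nat_lit 0, nat_lit 1, nat_lit 9, nat_lit 4, nat_lit 3, nat_lit 2, nat_lit 8, nat_lit 3, nat_lit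 10, nat_lit 1, nat_lit 8, nat_lit 12, nat_lit 15, nat_lit 14, nat_lit 13, nat_lit 19] (Rl.cmp (nat_lit 2467) (nat_lit 2475)))) (FT.leaf (Fct.mk true (nat_lit 25) (nat_lit 3513) (nat_lit 25) [nat_lit 6, nat_lit 5, nat_lit 4, nat_lit 3, nat_lit 8, nat_lit 2, nat_lit 3, nat_lit 4, nat_lit 1, nat_lit 2, nat_lit 3, nat_lit 8, nat_lit 5, nat_lit 6, nat_lit 4, nat_lit 5, nat_lit 3, nat_lit 4, nat_lit 2, nat_lit 3, nat_lit 8, nat_lit 1, nat_lit 2, nat_lit 3, nat_lit 4, nat_lit 5, nat_lit 6, nat_lit 7, nat_lit 6, nat_lit 5, nat_lit 4, nat_lit 3, nat_lit 8, nat_lit 2, nat_lit 3, nat_lit 4, nat_lit 5, nat_lit 3, nat_lit 2, nat_lit 0, nat_lit 1, nat_lit 4, nat_lit 3, nat_lit 2, nat_lit 8, nat_lit 3, nat_lit 11, nat_lit 2, nat_lit 8, nat_lit 10, nat_lit 1, nat_lit 14, nat_lit 17, nat_lit 18] (Rl.t1 (nat_lit 2453) (nat_lit 2476)))))) (FT.node (nat_lit 2479)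 (FT.leaf (Fct.mk false (nat_lit 25) (nat_lit 0) (nat_lit 25) [nat_lit 4, nat_lit 3, nat_lit 8, nat_lit 5, nat_lit 6, nat_lit 4, nat_lit 5, nat_lit 3, nat_lit 4, nat_lit 2, nat_lit 3, nat_lit 8, nat_lit 1, nat_lit 2, nat_lit 3, nat_lit 4, nat_lit 5, nat_lit 2, nat_lit 1, nat_lit 3, nat_lit 2, nat_lit 0, nat_lit 1, nat_lit 4, nat_lit 3, nat_lit 2, nat_lit 8, nat_lit 3, nat_lit 12, nat_lit 15, nat_lit 14, nat_lit 13, nat_lit 19] (Rl.cmp (nat_lit 2004) (nat_lit 2117)))) (FT.node (nat_lit 2480) (FT.leaf (Fct.mk false (nat_lit 25) (nat_lit 0) (nat_lit 25) [nat_lit 8, nat_lit 5, nat_lit 6, nat_lit 4, nat_lit 5, nat_lit 3, nat_lit 4, nat_lit 2, nat_lit 3, nat_lit 8, nat_lit 0, nat_lit 1, nat_lit 2, nat_lit 3, nat_lit 4, nat_lit 5, nat_lit 11, nat_lit 1, nat_lit 15, nat_lit 17, nat_lit 12, nat_lit 18, nat_lit 16] (Rl.cmp (nat_lit 1244) (nat_lit 2478))))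 (FT.leaf (Fct.mk false (nat_lit 4) (nat_lit 0) (nat_lit 4) [nat_lit 1, nat_lit 2, nat_lit 3, nat_lit 4, nat_lit 5, nat_lit 2, nat_lit 3, nat_lit 12] (Rl.cmp (nat_lit 243) (nat_lit 234))))))) (FT.node (nat_lit 2484) (FT.node (nat_lit 2482) (FT.leaf (Fct.mk false (nat_lit 4) (nat_lit 0) (nat_lit 4) [nat_lit 2, nat_lit 3, nat_lit 8, nat_lit 4, nat_lit 5, nat_lit 3, nat_lit 4, nat_lit 2, nat_lit 3, nat_lit 8, nat_lit 6, nat_lit 7, nat_lit 5, nat_lit 6, nat_lit 4, nat_lit 5, nat_lit 3, nat_lit 4, nat_lit 2, nat_lit 3, nat_lit 8, nat_lit 1, nat_lit 2, nat_lit 3, nat_lit 4, nat_lit 5, nat_lit 6, nat_lit 7, nat_lit 3, nat_lit 4, nat_lit 5, nat_lit 2, nat_lit 8, nat_lit 3, nat_lit 9, nat_lit 2, nat_lit 8, nat_lit 16, nat_lit 14, nat_lit 12, nat_lit 18, nat_lit 16] (Rl.cmp (nat_lit 2284) (nat_lit 2480)))) (FT.node (nat_lit 2483) (FT.leaf (Fct.mk false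 (nat_lit 4) (nat_lit 0) (nat_lit 4) [nat_lit 8, nat_lit 3, nat_lit 4, nat_lit 2, nat_lit 3, nat_lit 8, nat_lit 6, nat_lit 7, nat_lit 5, nat_lit 6, nat_lit 4, nat_lit 5, nat_lit 3, nat_lit 4, nat_lit 2, nat_lit 3, nat_lit 8, nat_lit 1, nat_lit 2, nat_lit 3, nat_lit 4, nat_lit 5, nat_lit 6, nat_lit 7, nat_lit 2, nat_lit 3, nat_lit 4, nat_lit 1, nat_lit 2, nat_lit 3, nat_lit 8, nat_lit 5, nat_lit 6, nat_lit 4, nat_lit 5, nat_lit 3, nat_lit 4, nat_lit 2, nat_lit 3, nat_lit 8, nat_lit 1, nat_lit 2, nat_lit 3, nat_lit 4, nat_lit 5, nat_lit 8, nat_lit 3, nat_lit 2, nat_lit 1, nat_lit 9, nat_lit 4, nat_lit 3, nat_lit 2, nat_lit 8, nat_lit 3, nat_lit 8, nat_lit 10, nat_lit 1, nat_lit 14, nat_lit 16, nat_lit 8, nat_lit 19, nat_lit 16] (Rl.cmp (nat_lit 312) (nat_lit 2481)))) (FT.leaf (Fct.mk true (nat_lit 25) (nat_lit 54898) (nat_lit 5) [nat_lit 3, nat_lit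 4, nat_lit 1, nat_lit 2, nat_lit 3, nat_lit 8, nat_lit 5, nat_lit 6, nat_lit 4, nat_lit 5, nat_lit 3, nat_lit 4, nat_lit 2, nat_lit 3, nat_lit 8, nat_lit 1, nat_lit 2, nat_lit 3, nat_lit 4, nat_lit 5, nat_lit 2, nat_lit 1, nat_lit 8, nat_lit 3, nat_lit 2, nat_lit 0, nat_lit 1, nat_lit 9, nat_lit 4, nat_lit 3, nat_lit 2, nat_lit 8, nat_lit 3, nat_lit 9, nat_lit 10, nat_lit 2, nat_lit 8, nat_lit 10, nat_lit 1, nat_lit 12, nat_lit 8, nat_lit 16, nat_lit 14, nat_lit 17, nat_lit 16] (Rl.rel (nat_lit 0) [nat_lit 3, nat_lit 8, nat_lit 2, nat_lit 3, nat_lit 4, nat_lit 5, nat_lit 6, nat_lit 7, nat_lit 3, nat_lit 4, nat_lit 1, nat_lit 2, nat_lit 3, nat_lit 8, nat_lit 0, nat_lit 1, nat_lit 2, nat_lit 3, nat_lit 4, nat_lit 5, nat_lit 2, nat_lit 3, nat_lit 11, nat_lit 12, nat_lit 8, nat_lit 16, nat_lit 14, nat_lit 13] (nat_lit 4) (nat_lit 1) [nat_lit 2466]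 [nat_lit 2482, nat_lit 2409]))))) (FT.node (nat_lit 2485) (FT.leaf (Fct.mk true (nat_lit 25) (nat_lit 9067) (nat_lit 5) [nat_lit 4, nat_lit 3, nat_lit 8, nat_lit 2, nat_lit 3, nat_lit 4, nat_lit 1, nat_lit 2, nat_lit 3, nat_lit 8, nat_lit 5, nat_lit 6, nat_lit 4, nat_lit 5, nat_lit 3, nat_lit 4, nat_lit 2, nat_lit 3, nat_lit 8, nat_lit 1, nat_lit 2, nat_lit 3, nat_lit 4, nat_lit 5, nat_lit 2, nat_lit 1, nat_lit 3, nat_lit 2, nat_lit 0, nat_lit 1, nat_lit 9, nat_lit 4, nat_lit 3, nat_lit 2, nat_lit 8, nat_lit 3, nat_lit 10, nat_lit 12, nat_lit 15, nat_lit 14, nat_lit 13, nat_lit 12] (Rl.t1 (nat_lit 2483) (nat_lit 2479)))) (FT.node (nat_lit 2486) (FT.leaf (Fct.mk true (nat_lit 5) (nat_lit 24664) (nat_lit 25) [nat_lit 4, nat_lit 2, nat_lit 3, nat_lit 8, nat_lit 5, nat_lit 6, nat_lit 4, nat_lit 5, nat_lit 3, nat_lit 4, nat_lit 2, nat_lit 3, nat_lit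 8, nat_lit 0, nat_lit 1, nat_lit 2, nat_lit 3, nat_lit 4, nat_lit 5, nat_lit 8, nat_lit 4, nat_lit 3, nat_lit 2, nat_lit 1, nat_lit 9, nat_lit 4, nat_lit 3, nat_lit 2, nat_lit 8, nat_lit 3, nat_lit 11, nat_lit 2, nat_lit 8, nat_lit 10, nat_lit 1, nat_lit 12, nat_lit 15, nat_lit 14, nat_lit 8, nat_lit 18] (Rl.inv (nat_lit 2484)))) (FT.leaf (Fct.mk true (nat_lit 5) (nat_lit 14695) (nat_lit 25) [nat_lit 4, nat_lit 2, nat_lit 3, nat_lit 8, nat_lit 5, nat_lit 6, nat_lit 4, nat_lit 5, nat_lit 3, nat_lit 4, nat_lit 2, nat_lit 3, nat_lit 8, nat_lit 0, nat_lit 1, nat_lit 2, nat_lit 3, nat_lit 4, nat_lit 5, nat_lit 8, nat_lit 4, nat_lit 3, nat_lit 2, nat_lit 1, nat_lit 9, nat_lit 4, nat_lit 3, nat_lit 2, nat_lit 8, nat_lit 3, nat_lit 10, nat_lit 1, nat_lit 8, nat_lit 12, nat_lit 15, nat_lit 13, nat_lit 12, nat_lit 19] (Rl.t1 (nat_lit 2485) (nat_lit 472))))))))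 (FT.node (nat_lit 2493) (FT.node (nat_lit 2490) (FT.node (nat_lit 2488) (FT.leaf (Fct.mk false (nat_lit 25) (nat_lit 0) (nat_lit 25) [nat_lit 8, nat_lit 6, nat_lit 5, nat_lit 2, nat_lit 3, nat_lit 4, nat_lit 1, nat_lit 2, nat_lit 3, nat_lit 8, nat_lit 0, nat_lit 1, nat_lit 2, nat_lit 3, nat_lit 4, nat_lit 5, nat_lit 3, nat_lit 8, nat_lit 4, nat_lit 3, nat_lit 2, nat_lit 0, nat_lit 1, nat_lit 9, nat_lit 4, nat_lit 3, nat_lit 2, nat_lit 8, nat_lit 3, nat_lit 10, nat_lit 2, nat_lit 8, nat_lit 10, nat_lit 1, nat_lit 16, nat_lit 8, nat_lit 12, nat_lit 15, nat_lit 12, nat_lit 19] (Rl.cmp (nat_lit 1672) (nat_lit 1244)))) (FT.node (nat_lit 2489) (FT.leaf (Fct.mk false (nat_lit 25) (nat_lit 0) (nat_lit 25) [nat_lit 8, nat_lit 4, nat_lit 5, nat_lit 3, nat_lit 4, nat_lit 1, nat_lit 2, nat_lit 3, nat_lit 8, nat_lit 0, nat_lit 1, nat_lit 2, nat_lit 3, nat_lit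 4, nat_lit 5, nat_lit 2, nat_lit 3, nat_lit 8, nat_lit 4, nat_lit 3, nat_lit 2, nat_lit 0, nat_lit 1, nat_lit 9, nat_lit 4, nat_lit 3, nat_lit 2, nat_lit 8, nat_lit 3, nat_lit 9, nat_lit 10, nat_lit 2, nat_lit 8, nat_lit 10, nat_lit 1, nat_lit 16, nat_lit 8, nat_lit 12, nat_lit 15, nat_lit 12, nat_lit 19] (Rl.cmp (nat_lit 1258) (nat_lit 2487)))) (FT.leaf (Fct.mk false (nat_lit 25) (nat_lit 0) (nat_lit 25) [nat_lit 6, nat_lit 4, nat_lit 5, nat_lit 2, nat_lit 3, nat_lit 4, nat_lit 1, nat_lit 2, nat_lit 3, nat_lit 8, nat_lit 0, nat_lit 1, nat_lit 2, nat_lit 3, nat_lit 4, nat_lit 5, nat_lit 1, nat_lit 9, nat_lit 4, nat_lit 3, nat_lit 2, nat_lit 8, nat_lit 3, nat_lit 9, nat_lit 15, nat_lit 14, nat_lit 16] (Rl.cmp (nat_lit 1813) (nat_lit 2488)))))) (FT.node (nat_lit 2491) (FT.leaf (Fct.mk false (nat_lit 4) (nat_lit 0) (nat_lit 4) [nat_lit 1, nat_lit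 2, nat_lit 3, nat_lit 8, nat_lit 4, nat_lit 5, nat_lit 3, nat_lit 4, nat_lit 2, nat_lit 3, nat_lit 8, nat_lit 1, nat_lit 2, nat_lit 3, nat_lit 4, nat_lit 5, nat_lit 3, nat_lit 2, nat_lit 1, nat_lit 4, nat_lit 3, nat_lit 2, nat_lit 8, nat_lit 3, nat_lit 2, nat_lit 8, nat_lit 10, nat_lit 1, nat_lit 14, nat_lit 8, nat_lit 18] (Rl.cmp (nat_lit 243) (nat_lit 240)))) (FT.node (nat_lit 2492) (FT.leaf (Fct.mk false (nat_lit 5) (nat_lit 0) (nat_lit 5) [nat_lit 76] (Rl.rel (nat_lit 0) [nat_lit 3, nat_lit 4, nat_lit 5, nat_lit 6, nat_lit 7, nat_lit 8, nat_lit 2, nat_lit 3, nat_lit 4, nat_lit 1, nat_lit 2, nat_lit 3, nat_lit 8, nat_lit 0, nat_lit 1, nat_lit 2, nat_lit 3, nat_lit 4, nat_lit 5, nat_lit 0, nat_lit 1, nat_lit 2, nat_lit 3, nat_lit 11, nat_lit 2, nat_lit 12, nat_lit 8, nat_lit 16, nat_lit 14, nat_lit 13] (nat_lit 4) (nat_lit 2) [nat_lit 2466,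 nat_lit 2489, nat_lit 2484] [nat_lit 2490, nat_lit 469]))) (FT.leaf (Fct.mk false (nat_lit 5) (nat_lit 0) (nat_lit 5) [nat_lit 8, nat_lit 3, nat_lit 4, nat_lit 2, nat_lit 3, nat_lit 8, nat_lit 7, nat_lit 5, nat_lit 6, nat_lit 4, nat_lit 5, nat_lit 3, nat_lit 4, nat_lit 2, nat_lit 3, nat_lit 8, nat_lit 0, nat_lit 1, nat_lit 2, nat_lit 3, nat_lit 4, nat_lit 5, nat_lit 6, nat_lit 7, nat_lit 5, nat_lit 6, nat_lit 4, nat_lit 5, nat_lit 3, nat_lit 4, nat_lit 2, nat_lit 3, nat_lit 8, nat_lit 1, nat_lit 2, nat_lit 3, nat_lit 4, nat_lit 5, nat_lit 1, nat_lit 3, nat_lit 2, nat_lit 8, nat_lit 3, nat_lit 10, nat_lit 2, nat_lit 8, nat_lit 10, nat_lit 1, nat_lit 12, nat_lit 15, nat_lit 17, nat_lit 12, nat_lit 16] (Rl.cmp (nat_lit 470) (nat_lit 2491))))))) (FT.node (nat_lit 2496) (FT.node (nat_lit 2494) (FT.leaf (Fct.mk false (nat_lit 5) (nat_lit 0) (nat_lit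 5) [nat_lit 2, nat_lit 3, nat_lit 8, nat_lit 4, nat_lit 5, nat_lit 3, nat_lit 4, nat_lit 2, nat_lit 3, nat_lit 8, nat_lit 6, nat_lit 7, nat_lit 5, nat_lit 6, nat_lit 4, nat_lit 5, nat_lit 3, nat_lit 4, nat_lit 2, nat_lit 3, nat_lit 8, nat_lit 1, nat_lit 2, nat_lit 3, nat_lit 4, nat_lit 5, nat_lit 6, nat_lit 7, nat_lit 6, nat_lit 5, nat_lit 4, nat_lit 2, nat_lit 3, nat_lit 8, nat_lit 1, nat_lit 2, nat_lit 3, nat_lit 4, nat_lit 5, nat_lit 1, nat_lit 9, nat_lit 4, nat_lit 3, nat_lit 2, nat_lit 8, nat_lit 3, nat_lit 9, nat_lit 2, nat_lit 8, nat_lit 19, nat_lit 16] (Rl.cmp (nat_lit 2094) (nat_lit 2492)))) (FT.node (nat_lit 2495) (FT.leaf (Fct.mk false (nat_lit 5) (nat_lit 0) (nat_lit 5) [nat_lit 2, nat_lit 3, nat_lit 8, nat_lit 4, nat_lit 5, nat_lit 3, nat_lit 4, nat_lit 2, nat_lit 3, nat_lit 8, nat_lit 6, nat_lit 7, nat_lit 5, nat_lit 6, nat_lit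 4, nat_lit 5, nat_lit 3, nat_lit 4, nat_lit 2, nat_lit 3, nat_lit 8, nat_lit 1, nat_lit 2, nat_lit 3, nat_lit 4, nat_lit 5, nat_lit 6, nat_lit 7, nat_lit 0, nat_lit 1, nat_lit 2, nat_lit 3, nat_lit 4, nat_lit 5, nat_lit 4, nat_lit 3, nat_lit 2, nat_lit 1, nat_lit 8, nat_lit 3, nat_lit 2, nat_lit 0, nat_lit 1, nat_lit 4, nat_lit 3, nat_lit 2, nat_lit 8, nat_lit 3, nat_lit 2, nat_lit 12, nat_lit 8, nat_lit 16, nat_lit 14, nat_lit 17, nat_lit 12] (Rl.cmp (nat_lit 1859) (nat_lit 2493)))) (FT.leaf (Fct.mk false (nat_lit 5) (nat_lit 0) (nat_lit 5) [nat_lit 2, nat_lit 3, nat_lit 8, nat_lit 4, nat_lit 5, nat_lit 3, nat_lit 4, nat_lit 2, nat_lit 3, nat_lit 8, nat_lit 6, nat_lit 7, nat_lit 5, nat_lit 6, nat_lit 4, nat_lit 5, nat_lit 3, nat_lit 4, nat_lit 2, nat_lit 3, nat_lit 8, nat_lit 1, nat_lit 2, nat_lit 3, nat_lit 4, nat_lit 5, nat_lit 6, nat_lit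 7, nat_lit 6, nat_lit 5, nat_lit 4, nat_lit 3, nat_lit 8, nat_lit 1, nat_lit 2, nat_lit 3, nat_lit 4, nat_lit 5, nat_lit 1, nat_lit 3, nat_lit 2, nat_lit 8, nat_lit 3, nat_lit 2, nat_lit 8, nat_lit 12, nat_lit 15, nat_lit 12, nat_lit 19] (Rl.cmp (nat_lit 1754) (nat_lit 2494)))))) (FT.node (nat_lit 2498) (FT.node (nat_lit 2497) (FT.leaf (Fct.mk true (nat_lit 5) (nat_lit 2594) (nat_lit 11) [nat_lit 4, nat_lit 5, nat_lit 2, nat_lit 3, nat_lit 4, nat_lit 1, nat_lit 2, nat_lit 3, nat_lit 8, nat_lit 0, nat_lit 1, nat_lit 2, nat_lit 3, nat_lit 4, nat_lit 5, nat_lit 6, nat_lit 7, nat_lit 3, nat_lit 4, nat_lit 2, nat_lit 3, nat_lit 8, nat_lit 5, nat_lit 6, nat_lit 4, nat_lit 5, nat_lit 3, nat_lit 4, nat_lit 2, nat_lit 3, nat_lit 8, nat_lit 0, nat_lit 1, nat_lit 2, nat_lit 3, nat_lit 4, nat_lit 5, nat_lit 2, nat_lit 3, nat_lit 0, nat_lit 16, nat_lit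 14, nat_lit 12] (Rl.t1 (nat_lit 1867) (nat_lit 2495)))) (FT.leaf (Fct.mk false (nat_lit 5) (nat_lit 0) (nat_lit 5) [nat_lit 8, nat_lit 3, nat_lit 4, nat_lit 2, nat_lit 3, nat_lit 8, nat_lit 7, nat_lit 5, nat_lit 6, nat_lit 4, nat_lit 5, nat_lit 3, nat_lit 4, nat_lit 2, nat_lit 3, nat_lit 8, nat_lit 0, nat_lit 1, nat_lit 2, nat_lit 3, nat_lit 4, nat_lit 5, nat_lit 6, nat_lit 7, nat_lit 0, nat_lit 1, nat_lit 2, nat_lit 3, nat_lit 4, nat_lit 5, nat_lit 8, nat_lit 3, nat_lit 2, nat_lit 0, nat_lit 1, nat_lit 4, nat_lit 3, nat_lit 2, nat_lit 8, nat_lit 3, nat_lit 11, nat_lit 2, nat_lit 8, nat_lit 12, nat_lit 15, nat_lit 14, nat_lit 13, nat_lit 12, nat_lit 19] (Rl.cmp (nat_lit 2491) (nat_lit 470))))) (FT.node (nat_lit 2499) (FT.leaf (Fct.mk false (nat_lit 5) (nat_lit 0) (nat_lit 5) [nat_lit 8, nat_lit 4, nat_lit 5, nat_lit 2, nat_lit 3, nat_lit 4,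 nat_lit 1, nat_lit 2, nat_lit 3, nat_lit 8, nat_lit 6, nat_lit 7, nat_lit 5, nat_lit 6, nat_lit 4, nat_lit 5, nat_lit 3, nat_lit 4, nat_lit 2, nat_lit 3, nat_lit 8, nat_lit 1, nat_lit 2, nat_lit 3, nat_lit 4, nat_lit 5, nat_lit 6, nat_lit 7, nat_lit 6, nat_lit 5, nat_lit 4, nat_lit 3, nat_lit 8, nat_lit 2, nat_lit 3, nat_lit 4, nat_lit 5, nat_lit 1, nat_lit 4, nat_lit 3, nat_lit 2, nat_lit 8, nat_lit 3, nat_lit 11, nat_lit 8, nat_lit 16, nat_lit 14, nat_lit 13, nat_lit 12, nat_lit 19, nat_lit 16] (Rl.cmp (nat_lit 2491) (nat_lit 2497)))) (FT.leaf (Fct.mk false (nat_lit 5) (nat_lit 0) (nat_lit 5) [nat_lit 8, nat_lit 4, nat_lit 5, nat_lit 2, nat_lit 3, nat_lit 4, nat_lit 1, nat_lit 2, nat_lit 3, nat_lit 8, nat_lit 6, nat_lit 7, nat_lit 5, nat_lit 6, nat_lit 4, nat_lit 5, nat_lit 3, nat_lit 4, nat_lit 2, nat_lit 3, nat_lit 8, nat_lit 1, nat_lit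 2, nat_lit 3, nat_lit 4, nat_lit 5, nat_lit 6, nat_lit 7, nat_lit 6, nat_lit 5, nat_lit 4, nat_lit 3, nat_lit 8, nat_lit 2, nat_lit 3, nat_lit 4, nat_lit 5, nat_lit 1, nat_lit 9, nat_lit 4, nat_lit 3, nat_lit 2, nat_lit 8, nat_lit 3, nat_lit 11, nat_lit 15, nat_lit 14, nat_lit 16, nat_lit 8, nat_lit 18] (Rl.cmp (nat_lit 1859) (nat_lit 2498)))))))))

/-- some facts -/
noncomputable def ftc50 : FT := FT.node (nat_lit 2525) (FT.node (nat_lit 2512) (FT.node (nat_lit 2506) (FT.node (nat_lit 2503) (FT.node (nat_lit 2501) (FT.leaf (Fct.mk false (nat_lit 5) (nat_lit 0) (nat_lit 5) [nat_lit 8, nat_lit 3, nat_lit 4, nat_lit 2, nat_lit 3, nat_lit 8, nat_lit 7, nat_lit 5, nat_lit 6, nat_lit 4, nat_lit 5, nat_lit 3, nat_lit 4, nat_lit 2, nat_lit 3, nat_lit 8, nat_lit 0, nat_lit 1, nat_lit 2, nat_lit 3, nat_lit 4, nat_lit 5, nat_lit 6, nat_lit 7, nat_lit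 6, nat_lit 3, nat_lit 8, nat_lit 4, nat_lit 3, nat_lit 2, nat_lit 1, nat_lit 9, nat_lit 4, nat_lit 3, nat_lit 2, nat_lit 8, nat_lit 3, nat_lit 11, nat_lit 2, nat_lit 10, nat_lit 1, nat_lit 15, nat_lit 8, nat_lit 18] (Rl.cmp (nat_lit 2094) (nat_lit 2499)))) (FT.node (nat_lit 2502) (FT.leaf (Fct.mk true (nat_lit 5) (nat_lit 1083) (nat_lit 14) [nat_lit 2, nat_lit 3, nat_lit 8, nat_lit 6, nat_lit 7, nat_lit 5, nat_lit 6, nat_lit 4, nat_lit 5, nat_lit 3, nat_lit 4, nat_lit 2, nat_lit 3, nat_lit 8, nat_lit 0, nat_lit 1, nat_lit 2, nat_lit 3, nat_lit 4, nat_lit 5, nat_lit 6, nat_lit 7, nat_lit 8, nat_lit 4, nat_lit 5, nat_lit 3, nat_lit 4, nat_lit 2, nat_lit 3, nat_lit 8, nat_lit 1, nat_lit 2, nat_lit 3, nat_lit 4, nat_lit 5, nat_lit 8, nat_lit 3, nat_lit 2, nat_lit 1, nat_lit 4, nat_lit 3, nat_lit 2, nat_lit 8, nat_lit 3, nat_lit 11, nat_lit 8, nat_lit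 10, nat_lit 12, nat_lit 15, nat_lit 19] (Rl.t1 (nat_lit 1869) (nat_lit 2500)))) (FT.leaf (Fct.mk false (nat_lit 5) (nat_lit 0) (nat_lit 5) [nat_lit 6, nat_lit 9, nat_lit 4, nat_lit 10, nat_lit 12, nat_lit 15, nat_lit 12, nat_lit 16] (Rl.cmp (nat_lit 1754) (nat_lit 1859)))))) (FT.node (nat_lit 2504) (FT.leaf (Fct.mk false (nat_lit 5) (nat_lit 0) (nat_lit 5) [nat_lit 0, nat_lit 1, nat_lit 2, nat_lit 3, nat_lit 2, nat_lit 14, nat_lit 16] (Rl.cmp (nat_lit 511) (nat_lit 2502)))) (FT.node (nat_lit 2505) (FT.leaf (Fct.mk false (nat_lit 5) (nat_lit 0) (nat_lit 5) [nat_lit 8, nat_lit 3, nat_lit 4, nat_lit 2, nat_lit 3, nat_lit 8, nat_lit 7, nat_lit 5, nat_lit 6, nat_lit 4, nat_lit 5, nat_lit 3, nat_lit 4, nat_lit 2, nat_lit 3, nat_lit 8, nat_lit 0, nat_lit 1, nat_lit 2, nat_lit 3, nat_lit 4, nat_lit 5, nat_lit 6, nat_lit 7, nat_lit 8, nat_lit 3, nat_lit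 4, nat_lit 2, nat_lit 3, nat_lit 8, nat_lit 1, nat_lit 2, nat_lit 3, nat_lit 4, nat_lit 5, nat_lit 1, nat_lit 4, nat_lit 3, nat_lit 2, nat_lit 8, nat_lit 3, nat_lit 10, nat_lit 2, nat_lit 8, nat_lit 10, nat_lit 1, nat_lit 12, nat_lit 15, nat_lit 12, nat_lit 18] (Rl.cmp (nat_lit 2491) (nat_lit 2503)))) (FT.leaf (Fct.mk true (nat_lit 5) (nat_lit 530) (nat_lit 4) [nat_lit 7, nat_lit 5, nat_lit 6, nat_lit 4, nat_lit 5, nat_lit 3, nat_lit 4, nat_lit 2, nat_lit 3, nat_lit 8, nat_lit 1, nat_lit 2, nat_lit 3, nat_lit 4, nat_lit 5, nat_lit 6, nat_lit 7, nat_lit 6, nat_lit 3, nat_lit 4, nat_lit 5, nat_lit 2, nat_lit 3, nat_lit 4, nat_lit 1, nat_lit 2, nat_lit 3, nat_lit 8, nat_lit 0, nat_lit 1, nat_lit 2, nat_lit 3, nat_lit 4, nat_lit 5, nat_lit 2, nat_lit 8, nat_lit 3, nat_lit 10, nat_lit 14, nat_lit 17, nat_lit 19, nat_lit 16] (Rl.t1 (nat_lit 2208)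 (nat_lit 2504))))))) (FT.node (nat_lit 2509) (FT.node (nat_lit 2507) (FT.leaf (Fct.mk false (nat_lit 5) (nat_lit 0) (nat_lit 5) [nat_lit 70] (Rl.cmp (nat_lit 511) (nat_lit 470)))) (FT.node (nat_lit 2508) (FT.leaf (Fct.mk false (nat_lit 5) (nat_lit 0) (nat_lit 5) [nat_lit 8, nat_lit 3, nat_lit 4, nat_lit 2, nat_lit 3, nat_lit 8, nat_lit 7, nat_lit 5, nat_lit 6, nat_lit 4, nat_lit 5, nat_lit 3, nat_lit 4, nat_lit 2, nat_lit 3, nat_lit 8, nat_lit 0, nat_lit 1, nat_lit 2, nat_lit 3, nat_lit 4, nat_lit 5, nat_lit 6, nat_lit 7, nat_lit 8, nat_lit 5, nat_lit 3, nat_lit 4, nat_lit 2, nat_lit 3, nat_lit 8, nat_lit 1, nat_lit 2, nat_lit 3, nat_lit 4, nat_lit 5, nat_lit 9, nat_lit 4, nat_lit 11, nat_lit 2, nat_lit 8, nat_lit 10, nat_lit 1, nat_lit 15, nat_lit 18] (Rl.cmp (nat_lit 2491) (nat_lit 2506)))) (FT.leaf (Fct.mk true (nat_lit 5) (nat_lit 196)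 (nat_lit 25) [nat_lit 8, nat_lit 4, nat_lit 5, nat_lit 2, nat_lit 3, nat_lit 4, nat_lit 1, nat_lit 2, nat_lit 3, nat_lit 8, nat_lit 6, nat_lit 7, nat_lit 5, nat_lit 6, nat_lit 4, nat_lit 5, nat_lit 3, nat_lit 4, nat_lit 2, nat_lit 3, nat_lit 8, nat_lit 1, nat_lit 2, nat_lit 3, nat_lit 4, nat_lit 5, nat_lit 6, nat_lit 7, nat_lit 4, nat_lit 2, nat_lit 3, nat_lit 8, nat_lit 5, nat_lit 6, nat_lit 4, nat_lit 5, nat_lit 3, nat_lit 4, nat_lit 2, nat_lit 3, nat_lit 8, nat_lit 1, nat_lit 2, nat_lit 3, nat_lit 4, nat_lit 5, nat_lit 1, nat_lit 2, nat_lit 8, nat_lit 3, nat_lit 11, nat_lit 8, nat_lit 10, nat_lit 1, nat_lit 12, nat_lit 15, nat_lit 14, nat_lit 17, nat_lit 18] (Rl.t1 (nat_lit 2486) (nat_lit 2507)))))) (FT.node (nat_lit 2510) (FT.leaf (Fct.mk false (nat_lit 5) (nat_lit 0) (nat_lit 5) [nat_lit 5, nat_lit 2, nat_lit 3, nat_lit 14] (Rl.cmp (nat_lit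 511) (nat_lit 1859)))) (FT.node (nat_lit 2511) (FT.leaf (Fct.mk false (nat_lit 5) (nat_lit 0) (nat_lit 5) [nat_lit 4, nat_lit 5, nat_lit 4, nat_lit 10, nat_lit 1] (Rl.cmp (nat_lit 1754) (nat_lit 470)))) (FT.leaf (Fct.mk false (nat_lit 5) (nat_lit 0) (nat_lit 5) [nat_lit 6, nat_lit 1, nat_lit 12, nat_lit 15, nat_lit 12] (Rl.cmp (nat_lit 1859) (nat_lit 470)))))))) (FT.node (nat_lit 2518) (FT.node (nat_lit 2515) (FT.node (nat_lit 2513) (FT.leaf (Fct.mk false (nat_lit 25) (nat_lit 0) (nat_lit 25) [nat_lit 8, nat_lit 7, nat_lit 6, nat_lit 5, nat_lit 2, nat_lit 3, nat_lit 4, nat_lit 1, nat_lit 2, nat_lit 3, nat_lit 8, nat_lit 0, nat_lit 1, nat_lit 2, nat_lit 3, nat_lit 4, nat_lit 5, nat_lit 6, nat_lit 7, nat_lit 8, nat_lit 3, nat_lit 4, nat_lit 1, nat_lit 2, nat_lit 3, nat_lit 8, nat_lit 0, nat_lit 1, nat_lit 2, nat_lit 3, nat_lit 4, nat_lit 5, nat_lit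 1, nat_lit 4, nat_lit 3, nat_lit 2, nat_lit 0, nat_lit 1, nat_lit 9, nat_lit 4, nat_lit 3, nat_lit 2, nat_lit 8, nat_lit 3, nat_lit 10, nat_lit 15, nat_lit 13, nat_lit 12, nat_lit 18] (Rl.cmp (nat_lit 2467) (nat_lit 2478)))) (FT.node (nat_lit 2514) (FT.leaf (Fct.mk false (nat_lit 25) (nat_lit 0) (nat_lit 25) [nat_lit 8, nat_lit 7, nat_lit 6, nat_lit 5, nat_lit 2, nat_lit 3, nat_lit 4, nat_lit 1, nat_lit 2, nat_lit 3, nat_lit 8, nat_lit 0, nat_lit 1, nat_lit 2, nat_lit 3, nat_lit 4, nat_lit 5, nat_lit 6, nat_lit 7, nat_lit 5, nat_lit 6, nat_lit 4, nat_lit 5, nat_lit 2, nat_lit 3, nat_lit 4, nat_lit 1, nat_lit 2, nat_lit 3, nat_lit 8, nat_lit 0, nat_lit 1, nat_lit 2, nat_lit 3, nat_lit 4, nat_lit 5, nat_lit 2, nat_lit 1, nat_lit 3, nat_lit 2, nat_lit 0, nat_lit 1, nat_lit 9, nat_lit 4, nat_lit 3, nat_lit 2, nat_lit 8, nat_lit 3, nat_lit 9, nat_lit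 2, nat_lit 16, nat_lit 15, nat_lit 14] (Rl.cmp (nat_lit 1231) (nat_lit 2512)))) (FT.leaf (Fct.mk false (nat_lit 5) (nat_lit 0) (nat_lit 5) [nat_lit 8, nat_lit 3, nat_lit 4, nat_lit 2, nat_lit 3, nat_lit 8, nat_lit 5, nat_lit 6, nat_lit 4, nat_lit 5, nat_lit 3, nat_lit 4, nat_lit 2, nat_lit 3, nat_lit 8, nat_lit 1, nat_lit 2, nat_lit 3, nat_lit 4, nat_lit 5, nat_lit 2, nat_lit 3, nat_lit 8, nat_lit 4, nat_lit 3, nat_lit 2, nat_lit 1, nat_lit 9, nat_lit 4, nat_lit 3, nat_lit 2, nat_lit 8, nat_lit 3, nat_lit 2, nat_lit 8, nat_lit 12, nat_lit 15, nat_lit 14, nat_lit 13, nat_lit 12, nat_lit 19] (Rl.cmp (nat_lit 2094) (nat_lit 511)))))) (FT.node (nat_lit 2516) (FT.leaf (Fct.mk false (nat_lit 5) (nat_lit 0) (nat_lit 5) [nat_lit 8, nat_lit 3, nat_lit 4, nat_lit 2, nat_lit 3, nat_lit 8, nat_lit 7, nat_lit 5, nat_lit 6, nat_lit 4, nat_lit 5, nat_lit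 3, nat_lit 4, nat_lit 2, nat_lit 3, nat_lit 8, nat_lit 0, nat_lit 1, nat_lit 2, nat_lit 3, nat_lit 4, nat_lit 5, nat_lit 6, nat_lit 7, nat_lit 6, nat_lit 5, nat_lit 4, nat_lit 3, nat_lit 8, nat_lit 2, nat_lit 3, nat_lit 4, nat_lit 5, nat_lit 1, nat_lit 9, nat_lit 4, nat_lit 3, nat_lit 2, nat_lit 8, nat_lit 3, nat_lit 11, nat_lit 2, nat_lit 16, nat_lit 15, nat_lit 14, nat_lit 16, nat_lit 8, nat_lit 18, nat_lit 16] (Rl.cmp (nat_lit 2491) (nat_lit 2514)))) (FT.node (nat_lit 2517) (FT.leaf (Fct.mk false (nat_lit 5) (nat_lit 0) (nat_lit 5) [nat_lit 8, nat_lit 3, nat_lit 4, nat_lit 2, nat_lit 3, nat_lit 8, nat_lit 7, nat_lit 5, nat_lit 6, nat_lit 4, nat_lit 5, nat_lit 3, nat_lit 4, nat_lit 2, nat_lit 3, nat_lit 8, nat_lit 0, nat_lit 1, nat_lit 2, nat_lit 3, nat_lit 4, nat_lit 5, nat_lit 6, nat_lit 7, nat_lit 1, nat_lit 2, nat_lit 3, nat_lit 8, nat_lit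 4, nat_lit 5, nat_lit 3, nat_lit 4, nat_lit 2, nat_lit 3, nat_lit 8, nat_lit 1, nat_lit 2, nat_lit 3, nat_lit 4, nat_lit 5, nat_lit 4, nat_lit 3, nat_lit 2, nat_lit 1, nat_lit 8, nat_lit 3, nat_lit 2, nat_lit 0, nat_lit 1, nat_lit 4, nat_lit 3, nat_lit 2, nat_lit 8, nat_lit 3, nat_lit 9, nat_lit 15, nat_lit 16] (Rl.cmp (nat_lit 1754) (nat_lit 2515)))) (FT.leaf (Fct.mk false (nat_lit 5) (nat_lit 0) (nat_lit 5) [nat_lit 2, nat_lit 3, nat_lit 8, nat_lit 4, nat_lit 5, nat_lit 3, nat_lit 4, nat_lit 2, nat_lit 3, nat_lit 8, nat_lit 6, nat_lit 7, nat_lit 5, nat_lit 6, nat_lit 4, nat_lit 5, nat_lit 3, nat_lit 4, nat_lit 2, nat_lit 3, nat_lit 8, nat_lit 1, nat_lit 2, nat_lit 3, nat_lit 4, nat_lit 5, nat_lit 6, nat_lit 7, nat_lit 6, nat_lit 8, nat_lit 4, nat_lit 3, nat_lit 2, nat_lit 1, nat_lit 9, nat_lit 4, nat_lit 3, nat_lit 2, nat_lit 8, nat_lit 3,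 nat_lit 8, nat_lit 10, nat_lit 1, nat_lit 12, nat_lit 8, nat_lit 16, nat_lit 14, nat_lit 8, nat_lit 19] (Rl.cmp (nat_lit 2094) (nat_lit 2516))))))) (FT.node (nat_lit 2521) (FT.node (nat_lit 2519) (FT.leaf (Fct.mk false (nat_lit 4) (nat_lit 0) (nat_lit 4) [nat_lit 2, nat_lit 3, nat_lit 4, nat_lit 5, nat_lit 1, nat_lit 2, nat_lit 8, nat_lit 3, nat_lit 8, nat_lit 10, nat_lit 1, nat_lit 14, nat_lit 12] (Rl.cmp (nat_lit 312) (nat_lit 239)))) (FT.node (nat_lit 2520) (FT.leaf (Fct.mk false (nat_lit 4) (nat_lit 0) (nat_lit 4) [nat_lit 5, nat_lit 4, nat_lit 3, nat_lit 8, nat_lit 6, nat_lit 7, nat_lit 5, nat_lit 6, nat_lit 4, nat_lit 5, nat_lit 3, nat_lit 4, nat_lit 2, nat_lit 3, nat_lit 8, nat_lit 1, nat_lit 2, nat_lit 3, nat_lit 4, nat_lit 5, nat_lit 6, nat_lit 7, nat_lit 5, nat_lit 4, nat_lit 3, nat_lit 8, nat_lit 2, nat_lit 3, nat_lit 4, nat_lit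 5, nat_lit 8, nat_lit 4, nat_lit 3, nat_lit 2, nat_lit 1, nat_lit 9, nat_lit 4, nat_lit 3, nat_lit 2, nat_lit 8, nat_lit 3, nat_lit 10, nat_lit 12, nat_lit 8, nat_lit 16, nat_lit 14, nat_lit 12, nat_lit 19, nat_lit 16] (Rl.cmp (nat_lit 2372) (nat_lit 2518)))) (FT.leaf (Fct.mk false (nat_lit 4) (nat_lit 0) (nat_lit 4) [nat_lit 6, nat_lit 7, nat_lit 5, nat_lit 6, nat_lit 4, nat_lit 5, nat_lit 3, nat_lit 4, nat_lit 2, nat_lit 3, nat_lit 8, nat_lit 1, nat_lit 2, nat_lit 3, nat_lit 4, nat_lit 5, nat_lit 6, nat_lit 7, nat_lit 1, nat_lit 2, nat_lit 3, nat_lit 8, nat_lit 16, nat_lit 14, nat_lit 12, nat_lit 18, nat_lit 16] (Rl.cmp (nat_lit 1995) (nat_lit 2519)))))) (FT.node (nat_lit 2523) (FT.node (nat_lit 2522) (FT.leaf (Fct.mk false (nat_lit 4) (nat_lit 0) (nat_lit 4) [nat_lit 4, nat_lit 2, nat_lit 3, nat_lit 8, nat_lit 5, nat_lit 6, nat_lit 4, nat_lit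 5, nat_lit 3, nat_lit 4, nat_lit 2, nat_lit 3, nat_lit 8, nat_lit 1, nat_lit 2, nat_lit 3, nat_lit 4, nat_lit 5, nat_lit 8, nat_lit 3, nat_lit 2, nat_lit 1, nat_lit 9, nat_lit 4, nat_lit 3, nat_lit 2, nat_lit 8, nat_lit 3, nat_lit 2, nat_lit 10, nat_lit 1, nat_lit 8, nat_lit 16, nat_lit 14, nat_lit 19] (Rl.cmp (nat_lit 2284) (nat_lit 2520)))) (FT.leaf (Fct.mk true (nat_lit 5) (nat_lit 34310) (nat_lit 4) [nat_lit 8, nat_lit 3, nat_lit 4, nat_lit 2, nat_lit 3, nat_lit 8, nat_lit 7, nat_lit 5, nat_lit 6, nat_lit 4, nat_lit 5, nat_lit 3, nat_lit 4, nat_lit 2, nat_lit 3, nat_lit 8, nat_lit 1, nat_lit 2, nat_lit 3, nat_lit 4, nat_lit 5, nat_lit 6, nat_lit 7, nat_lit 8, nat_lit 5, nat_lit 3, nat_lit 4, nat_lit 2, nat_lit 3, nat_lit 8, nat_lit 1, nat_lit 2, nat_lit 3, nat_lit 4, nat_lit 5, nat_lit 4, nat_lit 3, nat_lit 2, nat_lit 1, nat_lit 9, nat_lit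 4, nat_lit 3, nat_lit 2, nat_lit 8, nat_lit 3, nat_lit 9, nat_lit 10, nat_lit 2, nat_lit 8, nat_lit 10, nat_lit 1, nat_lit 12, nat_lit 15, nat_lit 13, nat_lit 12, nat_lit 18, nat_lit 16] (Rl.rel (nat_lit 0) [nat_lit 3, nat_lit 8, nat_lit 2, nat_lit 3, nat_lit 4, nat_lit 5, nat_lit 6, nat_lit 7, nat_lit 3, nat_lit 8, nat_lit 2, nat_lit 3, nat_lit 4, nat_lit 1, nat_lit 2, nat_lit 3, nat_lit 8, nat_lit 0, nat_lit 1, nat_lit 2, nat_lit 3, nat_lit 4, nat_lit 5, nat_lit 3, nat_lit 11, nat_lit 12, nat_lit 8, nat_lit 16, nat_lit 14, nat_lit 13] (nat_lit 4) (nat_lit 2) [nat_lit 2466, nat_lit 2513, nat_lit 2484] [])))) (FT.node (nat_lit 2524) (FT.leaf (Fct.mk true (nat_lit 5) (nat_lit 3229) (nat_lit 4) [nat_lit 6, nat_lit 5, nat_lit 4, nat_lit 3, nat_lit 8, nat_lit 2, nat_lit 3, nat_lit 4, nat_lit 1, nat_lit 2, nat_lit 3, nat_lit 8, nat_lit 5, nat_lit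 6, nat_lit 4, nat_lit 5, nat_lit 3, nat_lit 4, nat_lit 2, nat_lit 3, nat_lit 8, nat_lit 1, nat_lit 2, nat_lit 3, nat_lit 4, nat_lit 5, nat_lit 6, nat_lit 7, nat_lit 5, nat_lit 6, nat_lit 4, nat_lit 5, nat_lit 3, nat_lit 4, nat_lit 2, nat_lit 3, nat_lit 8, nat_lit 1, nat_lit 2, nat_lit 3, nat_lit 4, nat_lit 5, nat_lit 3, nat_lit 8, nat_lit 4, nat_lit 3, nat_lit 2, nat_lit 1, nat_lit 9, nat_lit 4, nat_lit 3, nat_lit 2, nat_lit 8, nat_lit 3, nat_lit 8, nat_lit 16, nat_lit 15, nat_lit 14, nat_lit 8, nat_lit 18] (Rl.t1 (nat_lit 2522) (nat_lit 2517)))) (FT.leaf (Fct.mk true (nat_lit 4) (nat_lit 6098) (nat_lit 5) [nat_lit 2, nat_lit 3, nat_lit 8, nat_lit 5, nat_lit 6, nat_lit 4, nat_lit 5, nat_lit 3, nat_lit 4, nat_lit 2, nat_lit 3, nat_lit 8, nat_lit 0, nat_lit 1, nat_lit 2, nat_lit 3, nat_lit 4, nat_lit 5, nat_lit 6, nat_lit 7, nat_lit 2, nat_lit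 3, nat_lit 8, nat_lit 5, nat_lit 6, nat_lit 4, nat_lit 5, nat_lit 3, nat_lit 4, nat_lit 2, nat_lit 3, nat_lit 8, nat_lit 0, nat_lit 1, nat_lit 2, nat_lit 3, nat_lit 4, nat_lit 5, nat_lit 1, nat_lit 2, nat_lit 3, nat_lit 9, nat_lit 2, nat_lit 12, nat_lit 15, nat_lit 14, nat_lit 13, nat_lit 12, nat_lit 16] (Rl.inv (nat_lit 2523))))))))) (FT.node (nat_lit 2537) (FT.node (nat_lit 2531) (FT.node (nat_lit 2528) (FT.node (nat_lit 2526) (FT.leaf (Fct.mk true (nat_lit 4) (nat_lit 2593) (nat_lit 5) [nat_lit 5, nat_lit 4, nat_lit 1, nat_lit 2, nat_lit 3, nat_lit 8, nat_lit 0, nat_lit 1, nat_lit 2, nat_lit 3, nat_lit 4, nat_lit 5, nat_lit 6, nat_lit 7, nat_lit 2, nat_lit 3, nat_lit 4, nat_lit 1, nat_lit 2, nat_lit 3, nat_lit 8, nat_lit 5, nat_lit 6, nat_lit 4, nat_lit 5, nat_lit 3, nat_lit 4, nat_lit 2, nat_lit 3, nat_lit 8, nat_lit 1, nat_lit 2, nat_lit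 3, nat_lit 4, nat_lit 5, nat_lit 2, nat_lit 3, nat_lit 8, nat_lit 4, nat_lit 3, nat_lit 2, nat_lit 1, nat_lit 9, nat_lit 4, nat_lit 3, nat_lit 2, nat_lit 8, nat_lit 3, nat_lit 11, nat_lit 10, nat_lit 2, nat_lit 8, nat_lit 10, nat_lit 1, nat_lit 12, nat_lit 15, nat_lit 18, nat_lit 16] (Rl.t1 (nat_lit 2524) (nat_lit 2521)))) (FT.node (nat_lit 2527) (FT.leaf (Fct.mk false (nat_lit 4) (nat_lit 0) (nat_lit 4) [nat_lit 8, nat_lit 3, nat_lit 4, nat_lit 2, nat_lit 3, nat_lit 8, nat_lit 5, nat_lit 6, nat_lit 4, nat_lit 5, nat_lit 3, nat_lit 4, nat_lit 2, nat_lit 3, nat_lit 8, nat_lit 1, nat_lit 2, nat_lit 3, nat_lit 4, nat_lit 5, nat_lit 3, nat_lit 2, nat_lit 1, nat_lit 4, nat_lit 3, nat_lit 2, nat_lit 8, nat_lit 3, nat_lit 1, nat_lit 9, nat_lit 8, nat_lit 16, nat_lit 14, nat_lit 16, nat_lit 8, nat_lit 19] (Rl.cmp (nat_lit 1995) (nat_lit 234)))) (FT.leaf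 (Fct.mk false (nat_lit 4) (nat_lit 0) (nat_lit 4) [nat_lit 2, nat_lit 3, nat_lit 8, nat_lit 4, nat_lit 5, nat_lit 3, nat_lit 4, nat_lit 2, nat_lit 3, nat_lit 8, nat_lit 6, nat_lit 7, nat_lit 5, nat_lit 6, nat_lit 4, nat_lit 5, nat_lit 3, nat_lit 4, nat_lit 2, nat_lit 3, nat_lit 8, nat_lit 1, nat_lit 2, nat_lit 3, nat_lit 4, nat_lit 5, nat_lit 6, nat_lit 7, nat_lit 8, nat_lit 2, nat_lit 3, nat_lit 4, nat_lit 1, nat_lit 2, nat_lit 3, nat_lit 8, nat_lit 5, nat_lit 6, nat_lit 4, nat_lit 5, nat_lit 3, nat_lit 4, nat_lit 2, nat_lit 3, nat_lit 8, nat_lit 1, nat_lit 2, nat_lit 3, nat_lit 4, nat_lit 5, nat_lit 2, nat_lit 1, nat_lit 4, nat_lit 3, nat_lit 2, nat_lit 8, nat_lit 3, nat_lit 1, nat_lit 16, nat_lit 8, nat_lit 19, nat_lit 16] (Rl.cmp (nat_lit 2284) (nat_lit 2526)))))) (FT.node (nat_lit 2529) (FT.leaf (Fct.mk false (nat_lit 25) (nat_lit 0) (nat_lit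 25) [nat_lit 7, nat_lit 6, nat_lit 5, nat_lit 4, nat_lit 3, nat_lit 8, nat_lit 2, nat_lit 3, nat_lit 4, nat_lit 5, nat_lit 6, nat_lit 7, nat_lit 2, nat_lit 3, nat_lit 4, nat_lit 1, nat_lit 2, nat_lit 3, nat_lit 8, nat_lit 0, nat_lit 1, nat_lit 2, nat_lit 3, nat_lit 4, nat_lit 5, nat_lit 1, nat_lit 8, nat_lit 3, nat_lit 2, nat_lit 0, nat_lit 1, nat_lit 9, nat_lit 4, nat_lit 3, nat_lit 2, nat_lit 8, nat_lit 3, nat_lit 9, nat_lit 2, nat_lit 16, nat_lit 15, nat_lit 14] (Rl.cmp (nat_lit 2117) (nat_lit 2467)))) (FT.node (nat_lit 2530) (FT.leaf (Fct.mk false (nat_lit 25) (nat_lit 0) (nat_lit 25) [nat_lit 7, nat_lit 6, nat_lit 5, nat_lit 3, nat_lit 4, nat_lit 1, nat_lit 2, nat_lit 3, nat_lit 8, nat_lit 0, nat_lit 1, nat_lit 2, nat_lit 3, nat_lit 4, nat_lit 5, nat_lit 6, nat_lit 7, nat_lit 3, nat_lit 8, nat_lit 5, nat_lit 6, nat_lit 4, nat_lit 5, nat_lit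 3, nat_lit 4, nat_lit 2, nat_lit 3, nat_lit 8, nat_lit 1, nat_lit 2, nat_lit 3, nat_lit 4, nat_lit 5, nat_lit 1, nat_lit 3, nat_lit 2, nat_lit 8, nat_lit 3, nat_lit 2, nat_lit 16, nat_lit 15, nat_lit 14, nat_lit 13, nat_lit 12, nat_lit 19] (Rl.cmp (nat_lit 2467) (nat_lit 2528)))) (FT.leaf (Fct.mk false (nat_lit 25) (nat_lit 0) (nat_lit 25) [nat_lit 7, nat_lit 6, nat_lit 4, nat_lit 5, nat_lit 2, nat_lit 3, nat_lit 4, nat_lit 1, nat_lit 2, nat_lit 3, nat_lit 8, nat_lit 0, nat_lit 1, nat_lit 2, nat_lit 3, nat_lit 4, nat_lit 5, nat_lit 6, nat_lit 7, nat_lit 8, nat_lit 4, nat_lit 5, nat_lit 3, nat_lit 4, nat_lit 2, nat_lit 3, nat_lit 8, nat_lit 1, nat_lit 2, nat_lit 3, nat_lit 4, nat_lit 5, nat_lit 2, nat_lit 8, nat_lit 3, nat_lit 11, nat_lit 2, nat_lit 8, nat_lit 10, nat_lit 1, nat_lit 16, nat_lit 14, nat_lit 17, nat_lit 12, nat_lit 18, nat_lit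 16] (Rl.cmp (nat_lit 2117) (nat_lit 2529))))))) (FT.node (nat_lit 2534) (FT.node (nat_lit 2532) (FT.leaf (Fct.mk false (nat_lit 4) (nat_lit 0) (nat_lit 4) [nat_lit 2, nat_lit 3, nat_lit 8, nat_lit 4, nat_lit 5, nat_lit 3, nat_lit 4, nat_lit 2, nat_lit 3, nat_lit 8, nat_lit 6, nat_lit 7, nat_lit 5, nat_lit 6, nat_lit 4, nat_lit 5, nat_lit 3, nat_lit 4, nat_lit 2, nat_lit 3, nat_lit 8, nat_lit 1, nat_lit 2, nat_lit 3, nat_lit 4, nat_lit 5, nat_lit 6, nat_lit 7, nat_lit 1, nat_lit 2, nat_lit 3, nat_lit 8, nat_lit 4, nat_lit 5, nat_lit 3, nat_lit 4, nat_lit 2, nat_lit 3, nat_lit 8, nat_lit 1, nat_lit 2, nat_lit 3, nat_lit 4, nat_lit 5, nat_lit 2, nat_lit 3, nat_lit 8, nat_lit 4, nat_lit 3, nat_lit 2, nat_lit 1, nat_lit 9, nat_lit 4, nat_lit 3, nat_lit 2, nat_lit 8, nat_lit 3, nat_lit 2, nat_lit 8, nat_lit 10, nat_lit 1, nat_lit 8, nat_lit 16, nat_lit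 14, nat_lit 19, nat_lit 16] (Rl.cmp (nat_lit 2284) (nat_lit 2424)))) (FT.node (nat_lit 2533) (FT.leaf (Fct.mk false (nat_lit 4) (nat_lit 0) (nat_lit 4) [nat_lit 8, nat_lit 3, nat_lit 4, nat_lit 1, nat_lit 2, nat_lit 3, nat_lit 8, nat_lit 6, nat_lit 7, nat_lit 5, nat_lit 6, nat_lit 4, nat_lit 5, nat_lit 3, nat_lit 4, nat_lit 2, nat_lit 3, nat_lit 8, nat_lit 1, nat_lit 2, nat_lit 3, nat_lit 4, nat_lit 5, nat_lit 6, nat_lit 7, nat_lit 8, nat_lit 3, nat_lit 4, nat_lit 1, nat_lit 2, nat_lit 3, nat_lit 8, nat_lit 5, nat_lit 6, nat_lit 4, nat_lit 5, nat_lit 3, nat_lit 4, nat_lit 2, nat_lit 3, nat_lit 8, nat_lit 1, nat_lit 2, nat_lit 3, nat_lit 4, nat_lit 5, nat_lit 3, nat_lit 8, nat_lit 4, nat_lit 3, nat_lit 2, nat_lit 1, nat_lit 9, nat_lit 4, nat_lit 3, nat_lit 2, nat_lit 8, nat_lit 3, nat_lit 2, nat_lit 10, nat_lit 1, nat_lit 16, nat_lit 14, nat_lit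 18] (Rl.cmp (nat_lit 243) (nat_lit 2531)))) (FT.leaf (Fct.mk false (nat_lit 4) (nat_lit 0) (nat_lit 4) [nat_lit 6, nat_lit 7, nat_lit 5, nat_lit 6, nat_lit 4, nat_lit 5, nat_lit 3, nat_lit 4, nat_lit 2, nat_lit 3, nat_lit 8, nat_lit 1, nat_lit 2, nat_lit 3, nat_lit 4, nat_lit 5, nat_lit 6, nat_lit 7, nat_lit 8, nat_lit 3, nat_lit 4, nat_lit 1, nat_lit 2, nat_lit 3, nat_lit 8, nat_lit 5, nat_lit 6, nat_lit 4, nat_lit 5, nat_lit 3, nat_lit 4, nat_lit 2, nat_lit 3, nat_lit 8, nat_lit 1, nat_lit 2, nat_lit 3, nat_lit 4, nat_lit 5, nat_lit 8, nat_lit 3, nat_lit 10, nat_lit 9, nat_lit 2, nat_lit 12, nat_lit 19] (Rl.cmp (nat_lit 2284) (nat_lit 2532)))))) (FT.node (nat_lit 2535) (FT.leaf (Fct.mk false (nat_lit 4) (nat_lit 0) (nat_lit 4) [nat_lit 8, nat_lit 2, nat_lit 3, nat_lit 4, nat_lit 1, nat_lit 2, nat_lit 3, nat_lit 8, nat_lit 5, nat_lit 6, nat_lit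 4, nat_lit 5, nat_lit 3, nat_lit 4, nat_lit 2, nat_lit 3, nat_lit 8, nat_lit 1, nat_lit 2, nat_lit 3, nat_lit 4, nat_lit 5, nat_lit 1, nat_lit 3, nat_lit 2, nat_lit 8, nat_lit 3, nat_lit 1, nat_lit 12, nat_lit 8, nat_lit 16, nat_lit 14, nat_lit 18, nat_lit 16] (Rl.cmp (nat_lit 2372) (nat_lit 2533)))) (FT.node (nat_lit 2536) (FT.leaf (Fct.mk false (nat_lit 5) (nat_lit 0) (nat_lit 5) [nat_lit 70] (Rl.cmp (nat_lit 511) (nat_lit 470)))) (FT.leaf (Fct.mk false (nat_lit 5) (nat_lit 0) (nat_lit 5) [nat_lit 8, nat_lit 3, nat_lit 4, nat_lit 1, nat_lit 2, nat_lit 3, nat_lit 8, nat_lit 5, nat_lit 6, nat_lit 4, nat_lit 5, nat_lit 3, nat_lit 4, nat_lit 2, nat_lit 3, nat_lit 8, nat_lit 1, nat_lit 2, nat_lit 3, nat_lit 4, nat_lit 5, nat_lit 2, nat_lit 3, nat_lit 8, nat_lit 4, nat_lit 3, nat_lit 2, nat_lit 1, nat_lit 9, nat_lit 4, nat_lit 3, nat_lit 2, nat_lit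 8, nat_lit 3, nat_lit 8, nat_lit 12, nat_lit 15, nat_lit 14, nat_lit 13, nat_lit 12, nat_lit 19] (Rl.cmp (nat_lit 2094) (nat_lit 2535)))))))) (FT.node (nat_lit 2543) (FT.node (nat_lit 2540) (FT.node (nat_lit 2538) (FT.leaf (Fct.mk true (nat_lit 25) (nat_lit 54563) (nat_lit 5) [nat_lit 4, nat_lit 3, nat_lit 8, nat_lit 7, nat_lit 5, nat_lit 6, nat_lit 4, nat_lit 5, nat_lit 3, nat_lit 4, nat_lit 2, nat_lit 3, nat_lit 8, nat_lit 0, nat_lit 1, nat_lit 2, nat_lit 3, nat_lit 4, nat_lit 5, nat_lit 6, nat_lit 7, nat_lit 6, nat_lit 5, nat_lit 3, nat_lit 4, nat_lit 2, nat_lit 3, nat_lit 8, nat_lit 0, nat_lit 1, nat_lit 2, nat_lit 3, nat_lit 4, nat_lit 5, nat_lit 1, nat_lit 8, nat_lit 3, nat_lit 2, nat_lit 0, nat_lit 1, nat_lit 4, nat_lit 3, nat_lit 2, nat_lit 8, nat_lit 3, nat_lit 8, nat_lit 10, nat_lit 9, nat_lit 2, nat_lit 12, nat_lit 15, nat_lit 19]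 (Rl.rel (nat_lit 0) [nat_lit 3, nat_lit 8, nat_lit 2, nat_lit 3, nat_lit 4, nat_lit 5, nat_lit 6, nat_lit 7, nat_lit 8, nat_lit 4, nat_lit 5, nat_lit 3, nat_lit 4, nat_lit 1, nat_lit 2, nat_lit 3, nat_lit 8, nat_lit 0, nat_lit 1, nat_lit 2, nat_lit 3, nat_lit 4, nat_lit 5, nat_lit 1, nat_lit 8, nat_lit 3, nat_lit 2, nat_lit 0, nat_lit 1, nat_lit 4, nat_lit 3, nat_lit 2, nat_lit 8, nat_lit 3, nat_lit 11, nat_lit 10, nat_lit 1, nat_lit 16, nat_lit 12, nat_lit 15, nat_lit 14, nat_lit 16, nat_lit 8, nat_lit 19, nat_lit 16] (nat_lit 4) (nat_lit 1) [nat_lit 2466] [nat_lit 2534, nat_lit 2418]))) (FT.node (nat_lit 2539) (FT.leaf (Fct.mk true (nat_lit 25) (nat_lit 188) (nat_lit 5) [nat_lit 1, nat_lit 2, nat_lit 3, nat_lit 8, nat_lit 4, nat_lit 5, nat_lit 3, nat_lit 4, nat_lit 2, nat_lit 3, nat_lit 8, nat_lit 1, nat_lit 2, nat_lit 3, nat_lit 4, nat_lit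 5, nat_lit 6, nat_lit 7, nat_lit 4, nat_lit 2, nat_lit 3, nat_lit 8, nat_lit 5, nat_lit 6, nat_lit 4, nat_lit 5, nat_lit 3, nat_lit 4, nat_lit 2, nat_lit 3, nat_lit 8, nat_lit 1, nat_lit 2, nat_lit 3, nat_lit 4, nat_lit 5, nat_lit 4, nat_lit 3, nat_lit 2, nat_lit 1, nat_lit 9, nat_lit 4, nat_lit 3, nat_lit 2, nat_lit 8, nat_lit 3, nat_lit 11, nat_lit 8, nat_lit 10, nat_lit 12, nat_lit 15, nat_lit 14, nat_lit 18] (Rl.t1 (nat_lit 2537) (nat_lit 2530)))) (FT.leaf (Fct.mk true (nat_lit 5) (nat_lit 15949) (nat_lit 25) [nat_lit 8, nat_lit 3, nat_lit 4, nat_lit 2, nat_lit 3, nat_lit 8, nat_lit 5, nat_lit 6, nat_lit 4, nat_lit 5, nat_lit 3, nat_lit 4, nat_lit 2, nat_lit 3, nat_lit 8, nat_lit 1, nat_lit 2, nat_lit 3, nat_lit 4, nat_lit 5, nat_lit 6, nat_lit 7, nat_lit 1, nat_lit 2, nat_lit 3, nat_lit 8, nat_lit 6, nat_lit 4, nat_lit 5, nat_lit 3, nat_lit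 4, nat_lit 2, nat_lit 3, nat_lit 8, nat_lit 1, nat_lit 2, nat_lit 3, nat_lit 4, nat_lit 5, nat_lit 8, nat_lit 3, nat_lit 2, nat_lit 0, nat_lit 1, nat_lit 4, nat_lit 3, nat_lit 2, nat_lit 8, nat_lit 3, nat_lit 11, nat_lit 2, nat_lit 10, nat_lit 1, nat_lit 12, nat_lit 8, nat_lit 16, nat_lit 14, nat_lit 13] (Rl.inv (nat_lit 2538)))))) (FT.node (nat_lit 2541) (FT.leaf (Fct.mk true (nat_lit 5) (nat_lit 2043) (nat_lit 25) [nat_lit 5, nat_lit 6, nat_lit 7, nat_lit 2, nat_lit 3, nat_lit 8, nat_lit 5, nat_lit 6, nat_lit 4, nat_lit 5, nat_lit 3, nat_lit 4, nat_lit 2, nat_lit 3, nat_lit 8, nat_lit 0, nat_lit 1, nat_lit 2, nat_lit 3, nat_lit 4, nat_lit 5, nat_lit 1, nat_lit 3, nat_lit 2, nat_lit 8, nat_lit 3, nat_lit 8, nat_lit 10, nat_lit 1, nat_lit 14, nat_lit 12] (Rl.t1 (nat_lit 2539) (nat_lit 2536)))) (FT.node (nat_lit 2542) (FT.leaf (Fct.mk false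 (nat_lit 25) (nat_lit 0) (nat_lit 25) [nat_lit 8, nat_lit 7, nat_lit 6, nat_lit 5, nat_lit 2, nat_lit 3, nat_lit 4, nat_lit 1, nat_lit 2, nat_lit 3, nat_lit 8, nat_lit 0, nat_lit 1, nat_lit 2, nat_lit 3, nat_lit 4, nat_lit 5, nat_lit 6, nat_lit 7, nat_lit 2, nat_lit 1, nat_lit 4, nat_lit 3, nat_lit 2, nat_lit 8, nat_lit 3, nat_lit 2, nat_lit 8, nat_lit 10, nat_lit 1, nat_lit 12, nat_lit 15, nat_lit 12, nat_lit 18] (Rl.cmp (nat_lit 2467) (nat_lit 1231)))) (FT.leaf (Fct.mk false (nat_lit 25) (nat_lit 0) (nat_lit 25) [nat_lit 3, nat_lit 8, nat_lit 2, nat_lit 3, nat_lit 4, nat_lit 5, nat_lit 8, nat_lit 4, nat_lit 3, nat_lit 2, nat_lit 0, nat_lit 1, nat_lit 9, nat_lit 4, nat_lit 3, nat_lit 2, nat_lit 8, nat_lit 3, nat_lit 10, nat_lit 0, nat_lit 16, nat_lit 12, nat_lit 15, nat_lit 14, nat_lit 8] (Rl.cmp (nat_lit 2117) (nat_lit 1672))))))) (FT.node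 (nat_lit 2546) (FT.node (nat_lit 2544) (FT.leaf (Fct.mk false (nat_lit 25) (nat_lit 0) (nat_lit 25) [nat_lit 4, nat_lit 3, nat_lit 8, nat_lit 5, nat_lit 6, nat_lit 4, nat_lit 5, nat_lit 3, nat_lit 4, nat_lit 2, nat_lit 3, nat_lit 8, nat_lit 1, nat_lit 2, nat_lit 3, nat_lit 4, nat_lit 5, nat_lit 3, nat_lit 2, nat_lit 1, nat_lit 4, nat_lit 3, nat_lit 2, nat_lit 0, nat_lit 1, nat_lit 9, nat_lit 4, nat_lit 3, nat_lit 2, nat_lit 8, nat_lit 3, nat_lit 10, nat_lit 12, nat_lit 15, nat_lit 14, nat_lit 13, nat_lit 19] (Rl.cmp (nat_lit 2117) (nat_lit 2542)))) (FT.node (nat_lit 2545) (FT.leaf (Fct.mk false (nat_lit 4) (nat_lit 0) (nat_lit 4) [nat_lit 5, nat_lit 4, nat_lit 3, nat_lit 8, nat_lit 6, nat_lit 7, nat_lit 5, nat_lit 6, nat_lit 4, nat_lit 5, nat_lit 3, nat_lit 4, nat_lit 2, nat_lit 3, nat_lit 8, nat_lit 1, nat_lit 2, nat_lit 3, nat_lit 4, nat_lit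 5, nat_lit 6, nat_lit 7, nat_lit 2, nat_lit 3, nat_lit 8, nat_lit 5, nat_lit 6, nat_lit 4, nat_lit 5, nat_lit 3, nat_lit 4, nat_lit 2, nat_lit 3, nat_lit 8, nat_lit 1, nat_lit 2, nat_lit 3, nat_lit 4, nat_lit 5, nat_lit 3, nat_lit 1, nat_lit 16, nat_lit 8, nat_lit 16] (Rl.cmp (nat_lit 2372) (nat_lit 1995)))) (FT.leaf (Fct.mk false (nat_lit 4) (nat_lit 0) (nat_lit 4) [nat_lit 5, nat_lit 4, nat_lit 3, nat_lit 8, nat_lit 6, nat_lit 7, nat_lit 5, nat_lit 6, nat_lit 4, nat_lit 5, nat_lit 3, nat_lit 4, nat_lit 2, nat_lit 3, nat_lit 8, nat_lit 1, nat_lit 2, nat_lit 3, nat_lit 4, nat_lit 5, nat_lit 6, nat_lit 7, nat_lit 4, nat_lit 3, nat_lit 8, nat_lit 1, nat_lit 2, nat_lit 3, nat_lit 4, nat_lit 5, nat_lit 3, nat_lit 8, nat_lit 4, nat_lit 3, nat_lit 2, nat_lit 1, nat_lit 9, nat_lit 4, nat_lit 3, nat_lit 2, nat_lit 8, nat_lit 3, nat_lit 12, nat_lit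 8, nat_lit 16, nat_lit 14, nat_lit 12, nat_lit 19, nat_lit 16] (Rl.cmp (nat_lit 312) (nat_lit 2544)))))) (FT.node (nat_lit 2548) (FT.node (nat_lit 2547) (FT.leaf (Fct.mk false (nat_lit 4) (nat_lit 0) (nat_lit 4) [nat_lit 6, nat_lit 5, nat_lit 4, nat_lit 3, nat_lit 8, nat_lit 2, nat_lit 3, nat_lit 4, nat_lit 1, nat_lit 2, nat_lit 3, nat_lit 8, nat_lit 5, nat_lit 6, nat_lit 4, nat_lit 5, nat_lit 3, nat_lit 4, nat_lit 2, nat_lit 3, nat_lit 8, nat_lit 1, nat_lit 2, nat_lit 3, nat_lit 4, nat_lit 5, nat_lit 6, nat_lit 7, nat_lit 2, nat_lit 3, nat_lit 4, nat_lit 1, nat_lit 2, nat_lit 3, nat_lit 8, nat_lit 5, nat_lit 6, nat_lit 4, nat_lit 5, nat_lit 3, nat_lit 4, nat_lit 2, nat_lit 3, nat_lit 8, nat_lit 1, nat_lit 2, nat_lit 3, nat_lit 4, nat_lit 5, nat_lit 2, nat_lit 3, nat_lit 8, nat_lit 4, nat_lit 3, nat_lit 2, nat_lit 1, nat_lit 9, nat_lit 4, nat_lit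 3, nat_lit 2, nat_lit 8, nat_lit 3, nat_lit 9, nat_lit 2, nat_lit 8, nat_lit 16, nat_lit 14, nat_lit 16, nat_lit 8, nat_lit 18, nat_lit 16] (Rl.cmp (nat_lit 2284) (nat_lit 2545)))) (FT.leaf (Fct.mk true (nat_lit 4) (nat_lit 78595) (nat_lit 4) [nat_lit 8, nat_lit 7, nat_lit 6, nat_lit 5, nat_lit 2, nat_lit 3, nat_lit 4, nat_lit 1, nat_lit 2, nat_lit 3, nat_lit 8, nat_lit 0, nat_lit 1, nat_lit 2, nat_lit 3, nat_lit 4, nat_lit 5, nat_lit 6, nat_lit 7, nat_lit 5, nat_lit 3, nat_lit 4, nat_lit 2, nat_lit 3, nat_lit 8, nat_lit 0, nat_lit 1, nat_lit 2, nat_lit 3, nat_lit 4, nat_lit 5, nat_lit 0, nat_lit 1, nat_lit 3, nat_lit 2, nat_lit 8, nat_lit 3, nat_lit 11, nat_lit 1, nat_lit 16, nat_lit 12, nat_lit 15, nat_lit 14, nat_lit 17, nat_lit 18, nat_lit 16] (Rl.rel (nat_lit 0) [nat_lit 8, nat_lit 3, nat_lit 4, nat_lit 2, nat_lit 3, nat_lit 8, nat_lit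 1, nat_lit 2, nat_lit 3, nat_lit 4, nat_lit 5, nat_lit 6, nat_lit 7, nat_lit 2, nat_lit 3, nat_lit 4, nat_lit 1, nat_lit 2, nat_lit 3, nat_lit 8, nat_lit 0, nat_lit 1, nat_lit 2, nat_lit 3, nat_lit 4, nat_lit 5, nat_lit 2, nat_lit 8, nat_lit 3, nat_lit 11, nat_lit 12, nat_lit 8, nat_lit 16, nat_lit 14, nat_lit 13] (nat_lit 4) (nat_lit 2) [nat_lit 2466, nat_lit 2543, nat_lit 2464] [])))) (FT.node (nat_lit 2549) (FT.leaf (Fct.mk true (nat_lit 4) (nat_lit 2285) (nat_lit 4) [nat_lit 2, nat_lit 3, nat_lit 8, nat_lit 0, nat_lit 1, nat_lit 2, nat_lit 3, nat_lit 4, nat_lit 5, nat_lit 6, nat_lit 7, nat_lit 8, nat_lit 3, nat_lit 4, nat_lit 5, nat_lit 0, nat_lit 1, nat_lit 9, nat_lit 4, nat_lit 3, nat_lit 2, nat_lit 8, nat_lit 3, nat_lit 11, nat_lit 8, nat_lit 10, nat_lit 16, nat_lit 14, nat_lit 17, nat_lit 19] (Rl.t1 (nat_lit 2547) (nat_lit 2546))))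 (FT.leaf (Fct.mk false (nat_lit 25) (nat_lit 0) (nat_lit 25) [nat_lit 8, nat_lit 7, nat_lit 6, nat_lit 5, nat_lit 2, nat_lit 3, nat_lit 4, nat_lit 1, nat_lit 2, nat_lit 3, nat_lit 8, nat_lit 0, nat_lit 1, nat_lit 2, nat_lit 3, nat_lit 4, nat_lit 5, nat_lit 6, nat_lit 7, nat_lit 3, nat_lit 8, nat_lit 5, nat_lit 2, nat_lit 3, nat_lit 4, nat_lit 1, nat_lit 2, nat_lit 3, nat_lit 8, nat_lit 0, nat_lit 1, nat_lit 2, nat_lit 3, nat_lit 4, nat_lit 5, nat_lit 2, nat_lit 1, nat_lit 3, nat_lit 2, nat_lit 0, nat_lit 1, nat_lit 4, nat_lit 3, nat_lit 2, nat_lit 8, nat_lit 3, nat_lit 10, nat_lit 9, nat_lit 2, nat_lit 8, nat_lit 16, nat_lit 15, nat_lit 14, nat_lit 18, nat_lit 16] (Rl.cmp (nat_lit 2467) (nat_lit 1672)))))))))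

/-- some facts -/
noncomputable def ftc51 : FT := FT.node (nat_lit 2575) (FT.node (nat_lit 2562) (FT.node (nat_lit 2556) (FT.node (nat_lit 2553) (FT.node (nat_lit 2551) (FT.leaf (Fct.mk false (nat_lit 25) (nat_lit 0) (nat_lit 25) [nat_lit 8, nat_lit 7, nat_lit 6, nat_lit 5, nat_lit 2, nat_lit 3, nat_lit 4, nat_lit 1, nat_lit 2, nat_lit 3, nat_lit 8, nat_lit 0, nat_lit 1, nat_lit 2, nat_lit 3, nat_lit 4, nat_lit 5, nat_lit 6, nat_lit 7, nat_lit 6, nat_lit 5, nat_lit 4, nat_lit 3, nat_lit 8, nat_lit 2, nat_lit 3, nat_lit 4, nat_lit 5, nat_lit 3, nat_lit 2, nat_lit 0, nat_lit 1, nat_lit 9, nat_lit 4, nat_lit 3, nat_lit 2, nat_lit 8, nat_lit 3, nat_lit 2, nat_lit 8, nat_lit 10, nat_lit 1, nat_lit 8, nat_lit 12, nat_lit 15, nat_lit 12, nat_lit 18, nat_lit 16] (Rl.cmp (nat_lit 1231) (nat_lit 2549)))) (FT.node (nat_lit 2552) (FT.leaf (Fct.mk false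 (nat_lit 4) (nat_lit 0) (nat_lit 4) [nat_lit 8, nat_lit 3, nat_lit 4, nat_lit 2, nat_lit 3, nat_lit 8, nat_lit 1, nat_lit 2, nat_lit 3, nat_lit 4, nat_lit 5, nat_lit 2, nat_lit 1, nat_lit 3, nat_lit 2, nat_lit 8, nat_lit 3, nat_lit 10, nat_lit 1, nat_lit 8, nat_lit 18] (Rl.cmp (nat_lit 243) (nat_lit 312)))) (FT.leaf (Fct.mk false (nat_lit 4) (nat_lit 0) (nat_lit 4) [nat_lit 2, nat_lit 3, nat_lit 8, nat_lit 4, nat_lit 5, nat_lit 3, nat_lit 4, nat_lit 2, nat_lit 3, nat_lit 8, nat_lit 6, nat_lit 7, nat_lit 5, nat_lit 6, nat_lit 4, nat_lit 5, nat_lit 3, nat_lit 4, nat_lit 2, nat_lit 3, nat_lit 8, nat_lit 1, nat_lit 2, nat_lit 3, nat_lit 4, nat_lit 5, nat_lit 6, nat_lit 7, nat_lit 1, nat_lit 2, nat_lit 3, nat_lit 8, nat_lit 4, nat_lit 5, nat_lit 3, nat_lit 4, nat_lit 2, nat_lit 3, nat_lit 8, nat_lit 1, nat_lit 2, nat_lit 3, nat_lit 4, nat_lit 5,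 nat_lit 3, nat_lit 10, nat_lit 14, nat_lit 16, nat_lit 8, nat_lit 18, nat_lit 16] (Rl.cmp (nat_lit 2284) (nat_lit 2551)))))) (FT.node (nat_lit 2554) (FT.leaf (Fct.mk false (nat_lit 4) (nat_lit 0) (nat_lit 4) [nat_lit 5, nat_lit 4, nat_lit 3, nat_lit 8, nat_lit 6, nat_lit 7, nat_lit 5, nat_lit 6, nat_lit 4, nat_lit 5, nat_lit 3, nat_lit 4, nat_lit 2, nat_lit 3, nat_lit 8, nat_lit 1, nat_lit 2, nat_lit 3, nat_lit 4, nat_lit 5, nat_lit 6, nat_lit 7, nat_lit 2, nat_lit 3, nat_lit 4, nat_lit 1, nat_lit 2, nat_lit 3, nat_lit 8, nat_lit 5, nat_lit 6, nat_lit 4, nat_lit 5, nat_lit 3, nat_lit 4, nat_lit 2, nat_lit 3, nat_lit 8, nat_lit 1, nat_lit 2, nat_lit 3, nat_lit 4, nat_lit 5, nat_lit 2, nat_lit 3, nat_lit 9, nat_lit 16, nat_lit 14, nat_lit 12] (Rl.cmp (nat_lit 2284) (nat_lit 2552)))) (FT.node (nat_lit 2555) (FT.leaf (Fct.mk false (nat_lit 5) (nat_lit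 0) (nat_lit 5) [nat_lit 4, nat_lit 3, nat_lit 8, nat_lit 2, nat_lit 3, nat_lit 4, nat_lit 1, nat_lit 2, nat_lit 3, nat_lit 8, nat_lit 6, nat_lit 7, nat_lit 5, nat_lit 6, nat_lit 4, nat_lit 5, nat_lit 3, nat_lit 4, nat_lit 2, nat_lit 3, nat_lit 8, nat_lit 1, nat_lit 2, nat_lit 3, nat_lit 4, nat_lit 5, nat_lit 6, nat_lit 7, nat_lit 3, nat_lit 8, nat_lit 4, nat_lit 5, nat_lit 3, nat_lit 4, nat_lit 2, nat_lit 3, nat_lit 8, nat_lit 1, nat_lit 2, nat_lit 3, nat_lit 4, nat_lit 5, nat_lit 4, nat_lit 3, nat_lit 2, nat_lit 1, nat_lit 8, nat_lit 3, nat_lit 2, nat_lit 0, nat_lit 1, nat_lit 4, nat_lit 3, nat_lit 2, nat_lit 8, nat_lit 3, nat_lit 11, nat_lit 1, nat_lit 14, nat_lit 13, nat_lit 12] (Rl.cmp (nat_lit 511) (nat_lit 2491)))) (FT.leaf (Fct.mk false (nat_lit 5) (nat_lit 0) (nat_lit 5) [nat_lit 2, nat_lit 3, nat_lit 8, nat_lit 4, nat_lit 5, nat_lit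 3, nat_lit 4, nat_lit 2, nat_lit 3, nat_lit 8, nat_lit 6, nat_lit 7, nat_lit 5, nat_lit 6, nat_lit 4, nat_lit 5, nat_lit 3, nat_lit 4, nat_lit 2, nat_lit 3, nat_lit 8, nat_lit 1, nat_lit 2, nat_lit 3, nat_lit 4, nat_lit 5, nat_lit 6, nat_lit 7, nat_lit 3, nat_lit 8, nat_lit 4, nat_lit 5, nat_lit 3, nat_lit 4, nat_lit 2, nat_lit 3, nat_lit 8, nat_lit 1, nat_lit 2, nat_lit 3, nat_lit 4, nat_lit 5, nat_lit 1, nat_lit 4, nat_lit 3, nat_lit 2, nat_lit 8, nat_lit 3, nat_lit 11, nat_lit 2, nat_lit 10, nat_lit 1, nat_lit 12, nat_lit 8, nat_lit 16, nat_lit 14, nat_lit 13, nat_lit 16] (Rl.cmp (nat_lit 2491) (nat_lit 2554))))))) (FT.node (nat_lit 2559) (FT.node (nat_lit 2557) (FT.leaf (Fct.mk false (nat_lit 5) (nat_lit 0) (nat_lit 5) [nat_lit 4, nat_lit 3, nat_lit 8, nat_lit 2, nat_lit 3, nat_lit 4, nat_lit 1, nat_lit 2, nat_lit 3, nat_lit 8, nat_lit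 6, nat_lit 7, nat_lit 5, nat_lit 6, nat_lit 4, nat_lit 5, nat_lit 3, nat_lit 4, nat_lit 2, nat_lit 3, nat_lit 8, nat_lit 1, nat_lit 2, nat_lit 3, nat_lit 4, nat_lit 5, nat_lit 6, nat_lit 7, nat_lit 3, nat_lit 8, nat_lit 4, nat_lit 5, nat_lit 3, nat_lit 4, nat_lit 2, nat_lit 3, nat_lit 8, nat_lit 1, nat_lit 2, nat_lit 3, nat_lit 4, nat_lit 5, nat_lit 4, nat_lit 3, nat_lit 2, nat_lit 1, nat_lit 8, nat_lit 3, nat_lit 2, nat_lit 0, nat_lit 1, nat_lit 4, nat_lit 3, nat_lit 2, nat_lit 8, nat_lit 3, nat_lit 10, nat_lit 14, nat_lit 12] (Rl.cmp (nat_lit 2094) (nat_lit 2555)))) (FT.node (nat_lit 2558) (FT.leaf (Fct.mk true (nat_lit 25) (nat_lit 101190) (nat_lit 5) [nat_lit 7, nat_lit 6, nat_lit 4, nat_lit 5, nat_lit 3, nat_lit 4, nat_lit 2, nat_lit 3, nat_lit 8, nat_lit 0, nat_lit 1, nat_lit 2, nat_lit 3, nat_lit 4, nat_lit 5, nat_lit 6, nat_lit 7, nat_lit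 8, nat_lit 3, nat_lit 4, nat_lit 2, nat_lit 3, nat_lit 8, nat_lit 1, nat_lit 2, nat_lit 3, nat_lit 4, nat_lit 5, nat_lit 8, nat_lit 3, nat_lit 2, nat_lit 1, nat_lit 4, nat_lit 3, nat_lit 2, nat_lit 8, nat_lit 3, nat_lit 9, nat_lit 2, nat_lit 12, nat_lit 15, nat_lit 13, nat_lit 12, nat_lit 18, nat_lit 16] (Rl.rel (nat_lit 0) [nat_lit 8, nat_lit 3, nat_lit 4, nat_lit 2, nat_lit 3, nat_lit 8, nat_lit 1, nat_lit 2, nat_lit 3, nat_lit 4, nat_lit 5, nat_lit 6, nat_lit 7, nat_lit 2, nat_lit 3, nat_lit 4, nat_lit 1, nat_lit 2, nat_lit 3, nat_lit 8, nat_lit 0, nat_lit 1, nat_lit 2, nat_lit 3, nat_lit 4, nat_lit 5, nat_lit 1, nat_lit 2, nat_lit 8, nat_lit 3, nat_lit 11, nat_lit 12, nat_lit 8, nat_lit 16, nat_lit 14, nat_lit 13] (nat_lit 4) (nat_lit 1) [nat_lit 2466] [nat_lit 2553, nat_lit 479]))) (FT.leaf (Fct.mk true (nat_lit 25) (nat_lit 6535) (nat_lit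 5) [nat_lit 8, nat_lit 3, nat_lit 4, nat_lit 2, nat_lit 3, nat_lit 8, nat_lit 5, nat_lit 6, nat_lit 4, nat_lit 5, nat_lit 3, nat_lit 4, nat_lit 2, nat_lit 3, nat_lit 8, nat_lit 1, nat_lit 2, nat_lit 3, nat_lit 4, nat_lit 5, nat_lit 6, nat_lit 7, nat_lit 2, nat_lit 3, nat_lit 4, nat_lit 1, nat_lit 2, nat_lit 3, nat_lit 8, nat_lit 5, nat_lit 6, nat_lit 4, nat_lit 5, nat_lit 3, nat_lit 4, nat_lit 2, nat_lit 3, nat_lit 8, nat_lit 1, nat_lit 2, nat_lit 3, nat_lit 4, nat_lit 5, nat_lit 4, nat_lit 3, nat_lit 2, nat_lit 8, nat_lit 3, nat_lit 1, nat_lit 12, nat_lit 15, nat_lit 14, nat_lit 18, nat_lit 16] (Rl.t1 (nat_lit 2557) (nat_lit 2550)))))) (FT.node (nat_lit 2560) (FT.leaf (Fct.mk true (nat_lit 5) (nat_lit 69344) (nat_lit 25) [nat_lit 8, nat_lit 5, nat_lit 6, nat_lit 4, nat_lit 5, nat_lit 2, nat_lit 3, nat_lit 4, nat_lit 1, nat_lit 2, nat_lit 3,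 nat_lit 8, nat_lit 0, nat_lit 1, nat_lit 2, nat_lit 3, nat_lit 4, nat_lit 5, nat_lit 6, nat_lit 7, nat_lit 4, nat_lit 3, nat_lit 8, nat_lit 2, nat_lit 3, nat_lit 4, nat_lit 1, nat_lit 2, nat_lit 3, nat_lit 8, nat_lit 5, nat_lit 6, nat_lit 4, nat_lit 5, nat_lit 3, nat_lit 4, nat_lit 2, nat_lit 3, nat_lit 8, nat_lit 1, nat_lit 2, nat_lit 3, nat_lit 4, nat_lit 5, nat_lit 3, nat_lit 2, nat_lit 1, nat_lit 9, nat_lit 4, nat_lit 3, nat_lit 2, nat_lit 8, nat_lit 3, nat_lit 11, nat_lit 2, nat_lit 8, nat_lit 10, nat_lit 1, nat_lit 8, nat_lit 12, nat_lit 15, nat_lit 14, nat_lit 17, nat_lit 18] (Rl.inv (nat_lit 2558)))) (FT.node (nat_lit 2561) (FT.leaf (Fct.mk true (nat_lit 5) (nat_lit 355) (nat_lit 25) [nat_lit 8, nat_lit 6, nat_lit 5, nat_lit 3, nat_lit 4, nat_lit 2, nat_lit 3, nat_lit 8, nat_lit 1, nat_lit 2, nat_lit 3, nat_lit 4, nat_lit 5, nat_lit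 6, nat_lit 7, nat_lit 5, nat_lit 4, nat_lit 3, nat_lit 8, nat_lit 2, nat_lit 3, nat_lit 4, nat_lit 5, nat_lit 0, nat_lit 1, nat_lit 9, nat_lit 4, nat_lit 3, nat_lit 2, nat_lit 8, nat_lit 3, nat_lit 0, nat_lit 2, nat_lit 8, nat_lit 12, nat_lit 15, nat_lit 18] (Rl.t1 (nat_lit 2559) (nat_lit 2556)))) (FT.leaf (Fct.mk false (nat_lit 25) (nat_lit 0) (nat_lit 25) [nat_lit 5, nat_lit 4, nat_lit 3, nat_lit 8, nat_lit 2, nat_lit 3, nat_lit 4, nat_lit 5, nat_lit 3, nat_lit 2, nat_lit 8, nat_lit 3, nat_lit 11, nat_lit 17, nat_lit 18] (Rl.cmp (nat_lit 1672) (nat_lit 1231)))))))) (FT.node (nat_lit 2568) (FT.node (nat_lit 2565) (FT.node (nat_lit 2563) (FT.leaf (Fct.mk false (nat_lit 4) (nat_lit 0) (nat_lit 4) [nat_lit 2, nat_lit 3, nat_lit 8, nat_lit 4, nat_lit 5, nat_lit 3, nat_lit 4, nat_lit 2, nat_lit 3, nat_lit 8, nat_lit 6, nat_lit 7, nat_lit 5, nat_lit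 6, nat_lit 4, nat_lit 5, nat_lit 3, nat_lit 4, nat_lit 2, nat_lit 3, nat_lit 8, nat_lit 1, nat_lit 2, nat_lit 3, nat_lit 4, nat_lit 5, nat_lit 6, nat_lit 7, nat_lit 8, nat_lit 3, nat_lit 4, nat_lit 5, nat_lit 1, nat_lit 4, nat_lit 3, nat_lit 2, nat_lit 8, nat_lit 3, nat_lit 10, nat_lit 12, nat_lit 8, nat_lit 16, nat_lit 14, nat_lit 12, nat_lit 16] (Rl.cmp (nat_lit 2284) (nat_lit 312)))) (FT.node (nat_lit 2564) (FT.leaf (Fct.mk false (nat_lit 25) (nat_lit 0) (nat_lit 25) [nat_lit 8, nat_lit 7, nat_lit 6, nat_lit 5, nat_lit 2, nat_lit 3, nat_lit 4, nat_lit 1, nat_lit 2, nat_lit 3, nat_lit 8, nat_lit 0, nat_lit 1, nat_lit 2, nat_lit 3, nat_lit 4, nat_lit 5, nat_lit 6, nat_lit 7, nat_lit 6, nat_lit 5, nat_lit 4, nat_lit 1, nat_lit 2, nat_lit 3, nat_lit 8, nat_lit 0, nat_lit 1, nat_lit 2, nat_lit 3, nat_lit 4, nat_lit 5, nat_lit 8, nat_lit 3, nat_lit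 2, nat_lit 0, nat_lit 1, nat_lit 9, nat_lit 4, nat_lit 3, nat_lit 2, nat_lit 8, nat_lit 3, nat_lit 12, nat_lit 15, nat_lit 14, nat_lit 16] (Rl.cmp (nat_lit 2467) (nat_lit 1244)))) (FT.leaf (Fct.mk false (nat_lit 25) (nat_lit 0) (nat_lit 25) [nat_lit 8, nat_lit 7, nat_lit 6, nat_lit 5, nat_lit 2, nat_lit 3, nat_lit 4, nat_lit 1, nat_lit 2, nat_lit 3, nat_lit 8, nat_lit 0, nat_lit 1, nat_lit 2, nat_lit 3, nat_lit 4, nat_lit 5, nat_lit 6, nat_lit 7, nat_lit 5, nat_lit 4, nat_lit 3, nat_lit 8, nat_lit 2, nat_lit 3, nat_lit 4, nat_lit 5, nat_lit 8, nat_lit 3, nat_lit 2, nat_lit 0, nat_lit 1, nat_lit 9, nat_lit 4, nat_lit 3, nat_lit 2, nat_lit 8, nat_lit 3, nat_lit 2, nat_lit 8, nat_lit 10, nat_lit 1, nat_lit 8, nat_lit 12, nat_lit 15, nat_lit 12, nat_lit 19] (Rl.cmp (nat_lit 1813) (nat_lit 2563)))))) (FT.node (nat_lit 2566) (FT.leaf (Fct.mk false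 (nat_lit 5) (nat_lit 0) (nat_lit 5) [nat_lit 4, nat_lit 5, nat_lit 4, nat_lit 10, nat_lit 1] (Rl.cmp (nat_lit 1754) (nat_lit 470)))) (FT.node (nat_lit 2567) (FT.leaf (Fct.mk false (nat_lit 5) (nat_lit 0) (nat_lit 5) [nat_lit 2, nat_lit 3, nat_lit 4, nat_lit 5, nat_lit 0, nat_lit 1, nat_lit 2, nat_lit 3, nat_lit 10, nat_lit 1, nat_lit 12, nat_lit 15, nat_lit 12, nat_lit 16] (Rl.cmp (nat_lit 511) (nat_lit 2565)))) (FT.leaf (Fct.mk false (nat_lit 5) (nat_lit 0) (nat_lit 5) [nat_lit 8, nat_lit 3, nat_lit 4, nat_lit 2, nat_lit 3, nat_lit 8, nat_lit 7, nat_lit 5, nat_lit 6, nat_lit 4, nat_lit 5, nat_lit 3, nat_lit 4, nat_lit 2, nat_lit 3, nat_lit 8, nat_lit 0, nat_lit 1, nat_lit 2, nat_lit 3, nat_lit 4, nat_lit 5, nat_lit 6, nat_lit 7, nat_lit 6, nat_lit 8, nat_lit 4, nat_lit 3, nat_lit 2, nat_lit 1, nat_lit 9, nat_lit 4, nat_lit 3, nat_lit 2, nat_lit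 8, nat_lit 3, nat_lit 2, nat_lit 8, nat_lit 10, nat_lit 1, nat_lit 16, nat_lit 14, nat_lit 8, nat_lit 19, nat_lit 16] (Rl.cmp (nat_lit 2491) (nat_lit 2566))))))) (FT.node (nat_lit 2571) (FT.node (nat_lit 2569) (FT.leaf (Fct.mk false (nat_lit 4) (nat_lit 0) (nat_lit 4) [nat_lit 1, nat_lit 2, nat_lit 3, nat_lit 8, nat_lit 4, nat_lit 5, nat_lit 3, nat_lit 4, nat_lit 2, nat_lit 3, nat_lit 8, nat_lit 1, nat_lit 2, nat_lit 3, nat_lit 4, nat_lit 5, nat_lit 1, nat_lit 4, nat_lit 3, nat_lit 2, nat_lit 8, nat_lit 3, nat_lit 1, nat_lit 18] (Rl.cmp (nat_lit 243) (nat_lit 239)))) (FT.node (nat_lit 2570) (FT.leaf (Fct.mk false (nat_lit 4) (nat_lit 0) (nat_lit 4) [nat_lit 5, nat_lit 4, nat_lit 3, nat_lit 8, nat_lit 6, nat_lit 7, nat_lit 5, nat_lit 6, nat_lit 4, nat_lit 5, nat_lit 3, nat_lit 4, nat_lit 2, nat_lit 3, nat_lit 8, nat_lit 1, nat_lit 2, nat_lit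 3, nat_lit 4, nat_lit 5, nat_lit 6, nat_lit 7, nat_lit 4, nat_lit 3, nat_lit 8, nat_lit 2, nat_lit 3, nat_lit 4, nat_lit 1, nat_lit 2, nat_lit 3, nat_lit 8, nat_lit 5, nat_lit 6, nat_lit 4, nat_lit 5, nat_lit 3, nat_lit 4, nat_lit 2, nat_lit 3, nat_lit 8, nat_lit 1, nat_lit 2, nat_lit 3, nat_lit 4, nat_lit 5, nat_lit 2, nat_lit 1, nat_lit 9, nat_lit 4, nat_lit 3, nat_lit 2, nat_lit 8, nat_lit 3, nat_lit 8, nat_lit 10, nat_lit 1, nat_lit 14, nat_lit 16, nat_lit 8, nat_lit 19, nat_lit 16] (Rl.cmp (nat_lit 2372) (nat_lit 2568)))) (FT.leaf (Fct.mk false (nat_lit 4) (nat_lit 0) (nat_lit 4) [nat_lit 6, nat_lit 7, nat_lit 5, nat_lit 6, nat_lit 4, nat_lit 5, nat_lit 3, nat_lit 4, nat_lit 2, nat_lit 3, nat_lit 8, nat_lit 1, nat_lit 2, nat_lit 3, nat_lit 4, nat_lit 5, nat_lit 6, nat_lit 7, nat_lit 1, nat_lit 2, nat_lit 3, nat_lit 8, nat_lit 5, nat_lit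 6, nat_lit 4, nat_lit 5, nat_lit 3, nat_lit 4, nat_lit 2, nat_lit 3, nat_lit 8, nat_lit 1, nat_lit 2, nat_lit 3, nat_lit 4, nat_lit 5, nat_lit 8, nat_lit 3, nat_lit 2, nat_lit 1, nat_lit 9, nat_lit 4, nat_lit 3, nat_lit 2, nat_lit 8, nat_lit 3, nat_lit 10, nat_lit 1, nat_lit 8, nat_lit 16, nat_lit 14, nat_lit 18] (Rl.cmp (nat_lit 1995) (nat_lit 2569)))))) (FT.node (nat_lit 2573) (FT.node (nat_lit 2572) (FT.leaf (Fct.mk true (nat_lit 5) (nat_lit 25557) (nat_lit 4) [nat_lit 4, nat_lit 3, nat_lit 8, nat_lit 2, nat_lit 3, nat_lit 4, nat_lit 1, nat_lit 2, nat_lit 3, nat_lit 8, nat_lit 7, nat_lit 5, nat_lit 6, nat_lit 4, nat_lit 5, nat_lit 3, nat_lit 4, nat_lit 2, nat_lit 3, nat_lit 8, nat_lit 1, nat_lit 2, nat_lit 3, nat_lit 4, nat_lit 5, nat_lit 6, nat_lit 7, nat_lit 3, nat_lit 8, nat_lit 4, nat_lit 5, nat_lit 3, nat_lit 4, nat_lit 2, nat_lit 3,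 nat_lit 8, nat_lit 1, nat_lit 2, nat_lit 3, nat_lit 4, nat_lit 5, nat_lit 3, nat_lit 2, nat_lit 1, nat_lit 8, nat_lit 3, nat_lit 2, nat_lit 0, nat_lit 1, nat_lit 9, nat_lit 4, nat_lit 3, nat_lit 2, nat_lit 8, nat_lit 3, nat_lit 11, nat_lit 9, nat_lit 10, nat_lit 2, nat_lit 8, nat_lit 10, nat_lit 1, nat_lit 8, nat_lit 12, nat_lit 15, nat_lit 8] (Rl.rel (nat_lit 0) [nat_lit 3, nat_lit 8, nat_lit 2, nat_lit 3, nat_lit 4, nat_lit 5, nat_lit 6, nat_lit 7, nat_lit 8, nat_lit 4, nat_lit 5, nat_lit 3, nat_lit 4, nat_lit 1, nat_lit 2, nat_lit 3, nat_lit 8, nat_lit 0, nat_lit 1, nat_lit 2, nat_lit 3, nat_lit 4, nat_lit 5, nat_lit 8, nat_lit 3, nat_lit 2, nat_lit 1, nat_lit 4, nat_lit 3, nat_lit 2, nat_lit 8, nat_lit 3, nat_lit 2, nat_lit 8, nat_lit 10, nat_lit 1, nat_lit 16, nat_lit 8, nat_lit 12, nat_lit 15, nat_lit 13] (nat_lit 4) (nat_lit 2) [nat_lit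 2466, nat_lit 2564, nat_lit 2484] []))) (FT.leaf (Fct.mk true (nat_lit 5) (nat_lit 499) (nat_lit 4) [nat_lit 2, nat_lit 3, nat_lit 4, nat_lit 5, nat_lit 6, nat_lit 7, nat_lit 3, nat_lit 4, nat_lit 5, nat_lit 2, nat_lit 0, nat_lit 1, nat_lit 3, nat_lit 2, nat_lit 8, nat_lit 3, nat_lit 1, nat_lit 9, nat_lit 16, nat_lit 8, nat_lit 12, nat_lit 15, nat_lit 16, nat_lit 8, nat_lit 18] (Rl.t1 (nat_lit 2571) (nat_lit 2567))))) (FT.node (nat_lit 2574) (FT.leaf (Fct.mk true (nat_lit 4) (nat_lit 77836) (nat_lit 5) [nat_lit 8, nat_lit 0, nat_lit 1, nat_lit 2, nat_lit 3, nat_lit 4, nat_lit 5, nat_lit 6, nat_lit 7, nat_lit 2, nat_lit 3, nat_lit 8, nat_lit 0, nat_lit 1, nat_lit 2, nat_lit 3, nat_lit 4, nat_lit 5, nat_lit 10, nat_lit 9, nat_lit 2, nat_lit 15, nat_lit 14, nat_lit 12, nat_lit 16] (Rl.inv (nat_lit 2572)))) (FT.leaf (Fct.mk true (nat_lit 4) (nat_lit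 2599) (nat_lit 5) [nat_lit 5, nat_lit 4, nat_lit 2, nat_lit 3, nat_lit 8, nat_lit 0, nat_lit 1, nat_lit 2, nat_lit 3, nat_lit 4, nat_lit 5, nat_lit 6, nat_lit 7, nat_lit 5, nat_lit 6, nat_lit 3, nat_lit 4, nat_lit 5, nat_lit 2, nat_lit 3, nat_lit 4, nat_lit 1, nat_lit 2, nat_lit 3, nat_lit 8, nat_lit 0, nat_lit 1, nat_lit 2, nat_lit 3, nat_lit 4, nat_lit 5, nat_lit 1, nat_lit 8, nat_lit 4, nat_lit 3, nat_lit 2, nat_lit 0, nat_lit 1, nat_lit 9, nat_lit 4, nat_lit 3, nat_lit 2, nat_lit 8, nat_lit 3, nat_lit 8, nat_lit 10, nat_lit 0, nat_lit 16, nat_lit 12, nat_lit 15, nat_lit 14, nat_lit 16, nat_lit 8, nat_lit 18, nat_lit 16] (Rl.t1 (nat_lit 2573) (nat_lit 2570))))))))) (FT.node (nat_lit 2587) (FT.node (nat_lit 2581) (FT.node (nat_lit 2578) (FT.node (nat_lit 2576) (FT.leaf (Fct.mk false (nat_lit 25) (nat_lit 0) (nat_lit 25) [nat_lit 6, nat_lit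 4, nat_lit 5, nat_lit 2, nat_lit 3, nat_lit 4, nat_lit 1, nat_lit 2, nat_lit 3, nat_lit 8, nat_lit 0, nat_lit 1, nat_lit 2, nat_lit 3, nat_lit 4, nat_lit 5, nat_lit 4, nat_lit 11, nat_lit 10, nat_lit 8, nat_lit 12, nat_lit 15, nat_lit 14, nat_lit 16, nat_lit 8, nat_lit 19] (Rl.cmp (nat_lit 1247) (nat_lit 1244)))) (FT.node (nat_lit 2577) (FT.leaf (Fct.mk false (nat_lit 25) (nat_lit 0) (nat_lit 25) [nat_lit 8, nat_lit 7, nat_lit 6, nat_lit 5, nat_lit 2, nat_lit 3, nat_lit 4, nat_lit 1, nat_lit 2, nat_lit 3, nat_lit 8, nat_lit 0, nat_lit 1, nat_lit 2, nat_lit 3, nat_lit 4, nat_lit 5, nat_lit 6, nat_lit 7, nat_lit 2, nat_lit 1, nat_lit 4, nat_lit 3, nat_lit 2, nat_lit 8, nat_lit 3, nat_lit 2, nat_lit 8, nat_lit 10, nat_lit 1, nat_lit 12, nat_lit 15, nat_lit 12, nat_lit 18] (Rl.cmp (nat_lit 2467) (nat_lit 1231)))) (FT.leaf (Fct.mk false (nat_lit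 25) (nat_lit 0) (nat_lit 25) [nat_lit 6, nat_lit 4, nat_lit 0, nat_lit 2] (Rl.cmp (nat_lit 1258) (nat_lit 1237)))))) (FT.node (nat_lit 2579) (FT.leaf (Fct.mk false (nat_lit 25) (nat_lit 0) (nat_lit 25) [nat_lit 5, nat_lit 4, nat_lit 3, nat_lit 8, nat_lit 2, nat_lit 3, nat_lit 4, nat_lit 5, nat_lit 4, nat_lit 3, nat_lit 2, nat_lit 1, nat_lit 8, nat_lit 3, nat_lit 2, nat_lit 0, nat_lit 1, nat_lit 4, nat_lit 3, nat_lit 2, nat_lit 8, nat_lit 3, nat_lit 11, nat_lit 8, nat_lit 10, nat_lit 1, nat_lit 8, nat_lit 12, nat_lit 15, nat_lit 14, nat_lit 17, nat_lit 12, nat_lit 18] (Rl.cmp (nat_lit 1813) (nat_lit 2577)))) (FT.node (nat_lit 2580) (FT.leaf (Fct.mk false (nat_lit 25) (nat_lit 0) (nat_lit 25) [nat_lit 3, nat_lit 4, nat_lit 1, nat_lit 2, nat_lit 3, nat_lit 8, nat_lit 0, nat_lit 1, nat_lit 2, nat_lit 3, nat_lit 4, nat_lit 5, nat_lit 4, nat_lit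 2, nat_lit 15, nat_lit 14, nat_lit 16, nat_lit 8, nat_lit 18, nat_lit 16] (Rl.cmp (nat_lit 2004) (nat_lit 2578)))) (FT.leaf (Fct.mk false (nat_lit 25) (nat_lit 0) (nat_lit 25) [nat_lit 8, nat_lit 7, nat_lit 6, nat_lit 5, nat_lit 2, nat_lit 3, nat_lit 4, nat_lit 1, nat_lit 2, nat_lit 3, nat_lit 8, nat_lit 0, nat_lit 1, nat_lit 2, nat_lit 3, nat_lit 4, nat_lit 5, nat_lit 6, nat_lit 7, nat_lit 3, nat_lit 8, nat_lit 2, nat_lit 3, nat_lit 4, nat_lit 1, nat_lit 2, nat_lit 3, nat_lit 8, nat_lit 0, nat_lit 1, nat_lit 2, nat_lit 3, nat_lit 4, nat_lit 5, nat_lit 1, nat_lit 2, nat_lit 0, nat_lit 1, nat_lit 9, nat_lit 4, nat_lit 3, nat_lit 2, nat_lit 8, nat_lit 3, nat_lit 11, nat_lit 15, nat_lit 14, nat_lit 12, nat_lit 18] (Rl.cmp (nat_lit 2467) (nat_lit 2579))))))) (FT.node (nat_lit 2584) (FT.node (nat_lit 2582) (FT.leaf (Fct.mk false (nat_lit 5) (nat_lit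 0) (nat_lit 5) [nat_lit 5, nat_lit 4, nat_lit 3, nat_lit 8, nat_lit 2, nat_lit 3, nat_lit 4, nat_lit 1, nat_lit 2, nat_lit 3, nat_lit 8, nat_lit 5, nat_lit 6, nat_lit 4, nat_lit 5, nat_lit 3, nat_lit 4, nat_lit 2, nat_lit 3, nat_lit 8, nat_lit 1, nat_lit 2, nat_lit 3, nat_lit 4, nat_lit 5, nat_lit 1, nat_lit 2, nat_lit 3, nat_lit 8, nat_lit 4, nat_lit 3, nat_lit 2, nat_lit 1, nat_lit 9, nat_lit 4, nat_lit 3, nat_lit 2, nat_lit 8, nat_lit 3, nat_lit 11, nat_lit 10, nat_lit 15, nat_lit 14, nat_lit 8, nat_lit 18, nat_lit 16] (Rl.cmp (nat_lit 1754) (nat_lit 2094)))) (FT.node (nat_lit 2583) (FT.leaf (Fct.mk false (nat_lit 5) (nat_lit 0) (nat_lit 5) [nat_lit 8, nat_lit 3, nat_lit 4, nat_lit 2, nat_lit 3, nat_lit 8, nat_lit 5, nat_lit 6, nat_lit 4, nat_lit 5, nat_lit 3, nat_lit 4, nat_lit 2, nat_lit 3, nat_lit 8, nat_lit 0, nat_lit 1, nat_lit 2, nat_lit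 3, nat_lit 4, nat_lit 5, nat_lit 3, nat_lit 8, nat_lit 4, nat_lit 3, nat_lit 2, nat_lit 1, nat_lit 9, nat_lit 4, nat_lit 3, nat_lit 2, nat_lit 8, nat_lit 3, nat_lit 8, nat_lit 10, nat_lit 1, nat_lit 8, nat_lit 16, nat_lit 14, nat_lit 8, nat_lit 19, nat_lit 16] (Rl.cmp (nat_lit 1859) (nat_lit 2581)))) (FT.leaf (Fct.mk false (nat_lit 5) (nat_lit 0) (nat_lit 5) [nat_lit 8, nat_lit 3, nat_lit 4, nat_lit 2, nat_lit 3, nat_lit 8, nat_lit 7, nat_lit 5, nat_lit 6, nat_lit 4, nat_lit 5, nat_lit 3, nat_lit 4, nat_lit 2, nat_lit 3, nat_lit 8, nat_lit 0, nat_lit 1, nat_lit 2, nat_lit 3, nat_lit 4, nat_lit 5, nat_lit 6, nat_lit 7, nat_lit 6, nat_lit 5, nat_lit 3, nat_lit 4, nat_lit 2, nat_lit 3, nat_lit 8, nat_lit 1, nat_lit 2, nat_lit 3, nat_lit 4, nat_lit 5, nat_lit 2, nat_lit 3, nat_lit 8, nat_lit 4, nat_lit 3, nat_lit 2, nat_lit 0, nat_lit 1, nat_lit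 9, nat_lit 4, nat_lit 3, nat_lit 2, nat_lit 8, nat_lit 3, nat_lit 1, nat_lit 16, nat_lit 12, nat_lit 15, nat_lit 14, nat_lit 13, nat_lit 12, nat_lit 16] (Rl.cmp (nat_lit 2491) (nat_lit 2582)))))) (FT.node (nat_lit 2585) (FT.leaf (Fct.mk false (nat_lit 4) (nat_lit 0) (nat_lit 4) [nat_lit 1, nat_lit 2, nat_lit 3, nat_lit 8, nat_lit 4, nat_lit 5, nat_lit 3, nat_lit 4, nat_lit 2, nat_lit 3, nat_lit 8, nat_lit 1, nat_lit 2, nat_lit 3, nat_lit 4, nat_lit 5, nat_lit 1, nat_lit 4, nat_lit 3, nat_lit 2, nat_lit 8, nat_lit 3, nat_lit 1, nat_lit 18] (Rl.cmp (nat_lit 243) (nat_lit 239)))) (FT.node (nat_lit 2586) (FT.leaf (Fct.mk false (nat_lit 4) (nat_lit 0) (nat_lit 4) [nat_lit 2, nat_lit 3, nat_lit 8, nat_lit 4, nat_lit 5, nat_lit 3, nat_lit 4, nat_lit 2, nat_lit 3, nat_lit 8, nat_lit 6, nat_lit 7, nat_lit 5, nat_lit 6, nat_lit 4, nat_lit 5, nat_lit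 3, nat_lit 4, nat_lit 2, nat_lit 3, nat_lit 8, nat_lit 1, nat_lit 2, nat_lit 3, nat_lit 4, nat_lit 5, nat_lit 6, nat_lit 7, nat_lit 3, nat_lit 4, nat_lit 1, nat_lit 2, nat_lit 3, nat_lit 8, nat_lit 5, nat_lit 6, nat_lit 4, nat_lit 5, nat_lit 3, nat_lit 4, nat_lit 2, nat_lit 3, nat_lit 8, nat_lit 1, nat_lit 2, nat_lit 3, nat_lit 4, nat_lit 5, nat_lit 3, nat_lit 8, nat_lit 4, nat_lit 3, nat_lit 2, nat_lit 1, nat_lit 9, nat_lit 4, nat_lit 3, nat_lit 2, nat_lit 8, nat_lit 3, nat_lit 10, nat_lit 1, nat_lit 16, nat_lit 14, nat_lit 19, nat_lit 16] (Rl.cmp (nat_lit 2284) (nat_lit 2584)))) (FT.leaf (Fct.mk false (nat_lit 4) (nat_lit 0) (nat_lit 4) [nat_lit 8, nat_lit 4, nat_lit 5, nat_lit 2, nat_lit 3, nat_lit 4, nat_lit 1, nat_lit 2, nat_lit 3, nat_lit 8, nat_lit 6, nat_lit 7, nat_lit 5, nat_lit 6, nat_lit 4, nat_lit 5, nat_lit 3, nat_lit 4, nat_lit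 2, nat_lit 3, nat_lit 8, nat_lit 1, nat_lit 2, nat_lit 3, nat_lit 4, nat_lit 5, nat_lit 6, nat_lit 7, nat_lit 2, nat_lit 3, nat_lit 8, nat_lit 4, nat_lit 5, nat_lit 3, nat_lit 4, nat_lit 2, nat_lit 3, nat_lit 8, nat_lit 1, nat_lit 2, nat_lit 3, nat_lit 4, nat_lit 5, nat_lit 1, nat_lit 4, nat_lit 3, nat_lit 2, nat_lit 8, nat_lit 3, nat_lit 2, nat_lit 10, nat_lit 1, nat_lit 12, nat_lit 8, nat_lit 16, nat_lit 14] (Rl.cmp (nat_lit 2372) (nat_lit 2585)))))))) (FT.node (nat_lit 2593) (FT.node (nat_lit 2590) (FT.node (nat_lit 2588) (FT.leaf (Fct.mk false (nat_lit 4) (nat_lit 0) (nat_lit 4) [nat_lit 8, nat_lit 5, nat_lit 2, nat_lit 3, nat_lit 4, nat_lit 1, nat_lit 2, nat_lit 3, nat_lit 8, nat_lit 6, nat_lit 7, nat_lit 5, nat_lit 6, nat_lit 4, nat_lit 5, nat_lit 3, nat_lit 4, nat_lit 2, nat_lit 3, nat_lit 8, nat_lit 1, nat_lit 2, nat_lit 3, nat_lit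 4, nat_lit 5, nat_lit 6, nat_lit 7, nat_lit 3, nat_lit 4, nat_lit 1, nat_lit 2, nat_lit 3, nat_lit 8, nat_lit 5, nat_lit 6, nat_lit 4, nat_lit 5, nat_lit 3, nat_lit 4, nat_lit 2, nat_lit 3, nat_lit 8, nat_lit 1, nat_lit 2, nat_lit 3, nat_lit 4, nat_lit 5, nat_lit 1, nat_lit 2, nat_lit 3, nat_lit 10, nat_lit 16, nat_lit 8, nat_lit 16] (Rl.cmp (nat_lit 2284) (nat_lit 2586)))) (FT.node (nat_lit 2589) (FT.leaf (Fct.mk false (nat_lit 4) (nat_lit 0) (nat_lit 4) [nat_lit 3, nat_lit 8, nat_lit 5, nat_lit 2, nat_lit 3, nat_lit 4, nat_lit 1, nat_lit 2, nat_lit 3, nat_lit 8, nat_lit 6, nat_lit 7, nat_lit 5, nat_lit 6, nat_lit 4, nat_lit 5, nat_lit 3, nat_lit 4, nat_lit 2, nat_lit 3, nat_lit 8, nat_lit 1, nat_lit 2, nat_lit 3, nat_lit 4, nat_lit 5, nat_lit 6, nat_lit 7, nat_lit 4, nat_lit 2, nat_lit 3, nat_lit 8, nat_lit 1, nat_lit 2, nat_lit 3, nat_lit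 4, nat_lit 5, nat_lit 2, nat_lit 3, nat_lit 10, nat_lit 9, nat_lit 2, nat_lit 8, nat_lit 16, nat_lit 14, nat_lit 16, nat_lit 8, nat_lit 18] (Rl.cmp (nat_lit 2284) (nat_lit 2587)))) (FT.leaf (Fct.mk true (nat_lit 5) (nat_lit 33774) (nat_lit 4) [nat_lit 3, nat_lit 4, nat_lit 5, nat_lit 2, nat_lit 3, nat_lit 4, nat_lit 1, nat_lit 2, nat_lit 3, nat_lit 8, nat_lit 6, nat_lit 7, nat_lit 5, nat_lit 6, nat_lit 4, nat_lit 5, nat_lit 3, nat_lit 4, nat_lit 2, nat_lit 3, nat_lit 8, nat_lit 1, nat_lit 2, nat_lit 3, nat_lit 4, nat_lit 5, nat_lit 6, nat_lit 7, nat_lit 5, nat_lit 4, nat_lit 3, nat_lit 8, nat_lit 0, nat_lit 1, nat_lit 2, nat_lit 3, nat_lit 4, nat_lit 5, nat_lit 1, nat_lit 3, nat_lit 8, nat_lit 4, nat_lit 3, nat_lit 2, nat_lit 0, nat_lit 1, nat_lit 9, nat_lit 4, nat_lit 3, nat_lit 2, nat_lit 8, nat_lit 3, nat_lit 11, nat_lit 1, nat_lit 8, nat_lit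 16, nat_lit 14, nat_lit 17, nat_lit 12, nat_lit 16] (Rl.rel (nat_lit 0) [nat_lit 3, nat_lit 4, nat_lit 5, nat_lit 2, nat_lit 3, nat_lit 4, nat_lit 1, nat_lit 2, nat_lit 3, nat_lit 8, nat_lit 0, nat_lit 1, nat_lit 2, nat_lit 3, nat_lit 4, nat_lit 5, nat_lit 6, nat_lit 7, nat_lit 5, nat_lit 2, nat_lit 1, nat_lit 4, nat_lit 3, nat_lit 2, nat_lit 8, nat_lit 3, nat_lit 11, nat_lit 2, nat_lit 10, nat_lit 1, nat_lit 16, nat_lit 12, nat_lit 15, nat_lit 14, nat_lit 13] (nat_lit 4) (nat_lit 2) [nat_lit 2466, nat_lit 2580, nat_lit 2484] []))))) (FT.node (nat_lit 2591) (FT.leaf (Fct.mk true (nat_lit 5) (nat_lit 112) (nat_lit 4) [nat_lit 2, nat_lit 3, nat_lit 4, nat_lit 1, nat_lit 2, nat_lit 3, nat_lit 8, nat_lit 0, nat_lit 1, nat_lit 2, nat_lit 3, nat_lit 4, nat_lit 5, nat_lit 6, nat_lit 7, nat_lit 8, nat_lit 3, nat_lit 4, nat_lit 2, nat_lit 3, nat_lit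 8, nat_lit 1, nat_lit 2, nat_lit 3, nat_lit 4, nat_lit 5, nat_lit 2, nat_lit 3, nat_lit 8, nat_lit 4, nat_lit 3, nat_lit 2, nat_lit 0, nat_lit 1, nat_lit 9, nat_lit 4, nat_lit 3, nat_lit 2, nat_lit 8, nat_lit 3, nat_lit 9, nat_lit 15, nat_lit 17, nat_lit 19] (Rl.t1 (nat_lit 2589) (nat_lit 2583)))) (FT.node (nat_lit 2592) (FT.leaf (Fct.mk true (nat_lit 4) (nat_lit 3076) (nat_lit 5) [nat_lit 2, nat_lit 3, nat_lit 8, nat_lit 1, nat_lit 2, nat_lit 3, nat_lit 4, nat_lit 5, nat_lit 6, nat_lit 7, nat_lit 3, nat_lit 8, nat_lit 4, nat_lit 5, nat_lit 3, nat_lit 4, nat_lit 2, nat_lit 3, nat_lit 8, nat_lit 1, nat_lit 2, nat_lit 3, nat_lit 4, nat_lit 5, nat_lit 2, nat_lit 1, nat_lit 9, nat_lit 4, nat_lit 3, nat_lit 2, nat_lit 8, nat_lit 3, nat_lit 0, nat_lit 2, nat_lit 12, nat_lit 15, nat_lit 14, nat_lit 16, nat_lit 8, nat_lit 18, nat_lit 16] (Rl.inv (nat_lit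 2590)))) (FT.leaf (Fct.mk true (nat_lit 4) (nat_lit 2588) (nat_lit 5) [nat_lit 8, nat_lit 1, nat_lit 2, nat_lit 3, nat_lit 4, nat_lit 5, nat_lit 6, nat_lit 7, nat_lit 3, nat_lit 8, nat_lit 2, nat_lit 3, nat_lit 4, nat_lit 1, nat_lit 2, nat_lit 3, nat_lit 8, nat_lit 5, nat_lit 6, nat_lit 4, nat_lit 5, nat_lit 3, nat_lit 4, nat_lit 2, nat_lit 3, nat_lit 8, nat_lit 1, nat_lit 2, nat_lit 3, nat_lit 4, nat_lit 5, nat_lit 11, nat_lit 12, nat_lit 15, nat_lit 12, nat_lit 16] (Rl.t1 (nat_lit 2591) (nat_lit 2588))))))) (FT.node (nat_lit 2596) (FT.node (nat_lit 2594) (FT.leaf (Fct.mk false (nat_lit 5) (nat_lit 0) (nat_lit 5) [nat_lit 1, nat_lit 2, nat_lit 3, nat_lit 4, nat_lit 5, nat_lit 0, nat_lit 1, nat_lit 2, nat_lit 3, nat_lit 1, nat_lit 12, nat_lit 15, nat_lit 12, nat_lit 16] (Rl.cmp (nat_lit 511) (nat_lit 1754)))) (FT.node (nat_lit 2595) (FT.leaf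 (Fct.mk false (nat_lit 5) (nat_lit 0) (nat_lit 5) [nat_lit 2, nat_lit 3, nat_lit 4, nat_lit 5, nat_lit 9, nat_lit 4, nat_lit 0, nat_lit 16, nat_lit 15, nat_lit 14, nat_lit 12] (Rl.cmp (nat_lit 1754) (nat_lit 2593)))) (FT.leaf (Fct.mk false (nat_lit 5) (nat_lit 0) (nat_lit 5) [nat_lit 4, nat_lit 5, nat_lit 4, nat_lit 11, nat_lit 13, nat_lit 12, nat_lit 16] (Rl.cmp (nat_lit 511) (nat_lit 2594)))))) (FT.node (nat_lit 2598) (FT.node (nat_lit 2597) (FT.leaf (Fct.mk false (nat_lit 5) (nat_lit 0) (nat_lit 5) [nat_lit 8, nat_lit 3, nat_lit 4, nat_lit 2, nat_lit 3, nat_lit 8, nat_lit 5, nat_lit 6, nat_lit 4, nat_lit 5, nat_lit 3, nat_lit 4, nat_lit 2, nat_lit 3, nat_lit 8, nat_lit 0, nat_lit 1, nat_lit 2, nat_lit 3, nat_lit 4, nat_lit 5, nat_lit 8, nat_lit 4, nat_lit 3, nat_lit 2, nat_lit 1, nat_lit 9, nat_lit 4, nat_lit 3, nat_lit 2, nat_lit 8, nat_lit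 3, nat_lit 11, nat_lit 10, nat_lit 1, nat_lit 8, nat_lit 16, nat_lit 14, nat_lit 17] (Rl.cmp (nat_lit 2094) (nat_lit 2595)))) (FT.leaf (Fct.mk false (nat_lit 4) (nat_lit 0) (nat_lit 4) [nat_lit 2, nat_lit 3, nat_lit 8, nat_lit 4, nat_lit 5, nat_lit 3, nat_lit 4, nat_lit 2, nat_lit 3, nat_lit 8, nat_lit 6, nat_lit 7, nat_lit 5, nat_lit 6, nat_lit 4, nat_lit 5, nat_lit 3, nat_lit 4, nat_lit 2, nat_lit 3, nat_lit 8, nat_lit 1, nat_lit 2, nat_lit 3, nat_lit 4, nat_lit 5, nat_lit 6, nat_lit 7, nat_lit 6, nat_lit 4, nat_lit 3, nat_lit 2, nat_lit 8, nat_lit 3, nat_lit 9, nat_lit 12, nat_lit 8, nat_lit 16, nat_lit 14, nat_lit 12, nat_lit 18, nat_lit 16] (Rl.cmp (nat_lit 2284) (nat_lit 239))))) (FT.node (nat_lit 2599) (FT.leaf (Fct.mk false (nat_lit 4) (nat_lit 0) (nat_lit 4) [nat_lit 8, nat_lit 3, nat_lit 4, nat_lit 1, nat_lit 2, nat_lit 3, nat_lit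 8, nat_lit 6, nat_lit 7, nat_lit 5, nat_lit 6, nat_lit 4, nat_lit 5, nat_lit 3, nat_lit 4, nat_lit 2, nat_lit 3, nat_lit 8, nat_lit 1, nat_lit 2, nat_lit 3, nat_lit 4, nat_lit 5, nat_lit 6, nat_lit 7, nat_lit 8, nat_lit 3, nat_lit 4, nat_lit 5, nat_lit 3, nat_lit 2, nat_lit 8, nat_lit 3, nat_lit 9, nat_lit 2, nat_lit 8, nat_lit 16, nat_lit 14, nat_lit 12, nat_lit 16] (Rl.cmp (nat_lit 243) (nat_lit 2597)))) (FT.leaf (Fct.mk false (nat_lit 4) (nat_lit 0) (nat_lit 4) [nat_lit 3, nat_lit 8, nat_lit 5, nat_lit 2, nat_lit 3, nat_lit 4, nat_lit 1, nat_lit 2, nat_lit 3, nat_lit 8, nat_lit 6, nat_lit 7, nat_lit 5, nat_lit 6, nat_lit 4, nat_lit 5, nat_lit 3, nat_lit 4, nat_lit 2, nat_lit 3, nat_lit 8, nat_lit 1, nat_lit 2, nat_lit 3, nat_lit 4, nat_lit 5, nat_lit 6, nat_lit 7, nat_lit 4, nat_lit 5, nat_lit 8, nat_lit 3, nat_lit 2, nat_lit 1, nat_lit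 9, nat_lit 4, nat_lit 3, nat_lit 2, nat_lit 8, nat_lit 3, nat_lit 2, nat_lit 8, nat_lit 10, nat_lit 1, nat_lit 16, nat_lit 14, nat_lit 16, nat_lit 8, nat_lit 19, nat_lit 16] (Rl.cmp (nat_lit 2372) (nat_lit 2598)))))))))

/-- some facts -/
noncomputable def ftc52 : FT := FT.node (nat_lit 2625) (FT.node (nat_lit 2612) (FT.node (nat_lit 2606) (FT.node (nat_lit 2603) (FT.node (nat_lit 2601) (FT.leaf (Fct.mk false (nat_lit 4) (nat_lit 0) (nat_lit 4) [nat_lit 8, nat_lit 4, nat_lit 5, nat_lit 2, nat_lit 3, nat_lit 4, nat_lit 1, nat_lit 2, nat_lit 3, nat_lit 8, nat_lit 6, nat_lit 7, nat_lit 5, nat_lit 6, nat_lit 4, nat_lit 5, nat_lit 3, nat_lit 4, nat_lit 2, nat_lit 3, nat_lit 8, nat_lit 1, nat_lit 2, nat_lit 3, nat_lit 4, nat_lit 5, nat_lit 6, nat_lit 7, nat_lit 4, nat_lit 3, nat_lit 8, nat_lit 1, nat_lit 2, nat_lit 3, nat_lit 4, nat_lit 5, nat_lit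 8, nat_lit 4, nat_lit 3, nat_lit 2, nat_lit 1, nat_lit 9, nat_lit 4, nat_lit 3, nat_lit 2, nat_lit 8, nat_lit 3, nat_lit 2, nat_lit 10, nat_lit 1, nat_lit 8, nat_lit 16, nat_lit 14, nat_lit 12, nat_lit 19, nat_lit 16] (Rl.cmp (nat_lit 2284) (nat_lit 2599)))) (FT.node (nat_lit 2602) (FT.leaf (Fct.mk false (nat_lit 4) (nat_lit 0) (nat_lit 4) [nat_lit 8, nat_lit 5, nat_lit 2, nat_lit 3, nat_lit 4, nat_lit 1, nat_lit 2, nat_lit 3, nat_lit 8, nat_lit 6, nat_lit 7, nat_lit 5, nat_lit 6, nat_lit 4, nat_lit 5, nat_lit 3, nat_lit 4, nat_lit 2, nat_lit 3, nat_lit 8, nat_lit 1, nat_lit 2, nat_lit 3, nat_lit 4, nat_lit 5, nat_lit 6, nat_lit 7, nat_lit 2, nat_lit 3, nat_lit 8, nat_lit 1, nat_lit 2, nat_lit 3, nat_lit 4, nat_lit 5, nat_lit 3, nat_lit 2, nat_lit 1, nat_lit 9, nat_lit 4, nat_lit 3, nat_lit 2, nat_lit 8, nat_lit 3, nat_lit 8, nat_lit 10, nat_lit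 9, nat_lit 2, nat_lit 16, nat_lit 14, nat_lit 16, nat_lit 8] (Rl.cmp (nat_lit 2284) (nat_lit 2600)))) (FT.leaf (Fct.mk false (nat_lit 5) (nat_lit 0) (nat_lit 5) [nat_lit 6, nat_lit 1, nat_lit 2, nat_lit 3, nat_lit 9, nat_lit 2, nat_lit 16, nat_lit 15, nat_lit 14, nat_lit 12] (Rl.cmp (nat_lit 1754) (nat_lit 511)))))) (FT.node (nat_lit 2604) (FT.leaf (Fct.mk false (nat_lit 5) (nat_lit 0) (nat_lit 5) [nat_lit 8, nat_lit 3, nat_lit 4, nat_lit 1, nat_lit 2, nat_lit 3, nat_lit 8, nat_lit 5, nat_lit 6, nat_lit 4, nat_lit 5, nat_lit 3, nat_lit 4, nat_lit 2, nat_lit 3, nat_lit 8, nat_lit 1, nat_lit 2, nat_lit 3, nat_lit 4, nat_lit 5, nat_lit 3, nat_lit 8, nat_lit 4, nat_lit 3, nat_lit 2, nat_lit 1, nat_lit 9, nat_lit 4, nat_lit 3, nat_lit 2, nat_lit 8, nat_lit 3, nat_lit 12, nat_lit 8, nat_lit 16, nat_lit 14, nat_lit 16, nat_lit 8, nat_lit 19] (Rl.cmp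 (nat_lit 2094) (nat_lit 2602)))) (FT.node (nat_lit 2605) (FT.leaf (Fct.mk false (nat_lit 5) (nat_lit 0) (nat_lit 5) [nat_lit 3, nat_lit 8, nat_lit 2, nat_lit 3, nat_lit 4, nat_lit 1, nat_lit 2, nat_lit 3, nat_lit 8, nat_lit 5, nat_lit 6, nat_lit 4, nat_lit 5, nat_lit 3, nat_lit 4, nat_lit 2, nat_lit 3, nat_lit 8, nat_lit 1, nat_lit 2, nat_lit 3, nat_lit 4, nat_lit 5, nat_lit 1, nat_lit 2, nat_lit 3, nat_lit 8, nat_lit 4, nat_lit 3, nat_lit 2, nat_lit 1, nat_lit 9, nat_lit 4, nat_lit 3, nat_lit 2, nat_lit 8, nat_lit 3, nat_lit 11, nat_lit 8, nat_lit 10, nat_lit 8, nat_lit 12, nat_lit 15, nat_lit 8, nat_lit 18, nat_lit 16] (Rl.cmp (nat_lit 511) (nat_lit 2603)))) (FT.leaf (Fct.mk true (nat_lit 5) (nat_lit 82417) (nat_lit 5) [nat_lit 8, nat_lit 4, nat_lit 5, nat_lit 3, nat_lit 4, nat_lit 2, nat_lit 3, nat_lit 8, nat_lit 1, nat_lit 2, nat_lit 3,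 nat_lit 4, nat_lit 5, nat_lit 6, nat_lit 7, nat_lit 6, nat_lit 5, nat_lit 4, nat_lit 2, nat_lit 3, nat_lit 8, nat_lit 1, nat_lit 2, nat_lit 3, nat_lit 4, nat_lit 5, nat_lit 1, nat_lit 2, nat_lit 3, nat_lit 1, nat_lit 12, nat_lit 15, nat_lit 16, nat_lit 8, nat_lit 18] (Rl.rel (nat_lit 0) [nat_lit 8, nat_lit 4, nat_lit 5, nat_lit 2, nat_lit 3, nat_lit 4, nat_lit 1, nat_lit 2, nat_lit 3, nat_lit 8, nat_lit 0, nat_lit 1, nat_lit 2, nat_lit 3, nat_lit 4, nat_lit 5, nat_lit 6, nat_lit 7, nat_lit 3, nat_lit 8, nat_lit 2, nat_lit 3, nat_lit 4, nat_lit 1, nat_lit 2, nat_lit 3, nat_lit 8, nat_lit 0, nat_lit 1, nat_lit 2, nat_lit 3, nat_lit 4, nat_lit 5, nat_lit 2, nat_lit 0, nat_lit 1, nat_lit 3, nat_lit 2, nat_lit 8, nat_lit 3, nat_lit 11, nat_lit 10, nat_lit 1, nat_lit 12, nat_lit 15, nat_lit 17, nat_lit 16] (nat_lit 4) (nat_lit 1) [nat_lit 2592] [nat_lit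 2601, nat_lit 2418])))))) (FT.node (nat_lit 2609) (FT.node (nat_lit 2607) (FT.leaf (Fct.mk true (nat_lit 5) (nat_lit 113) (nat_lit 5) [nat_lit 3, nat_lit 4, nat_lit 5, nat_lit 2, nat_lit 3, nat_lit 4, nat_lit 1, nat_lit 2, nat_lit 3, nat_lit 8, nat_lit 0, nat_lit 1, nat_lit 2, nat_lit 3, nat_lit 4, nat_lit 5, nat_lit 6, nat_lit 7, nat_lit 4, nat_lit 3, nat_lit 8, nat_lit 2, nat_lit 3, nat_lit 4, nat_lit 1, nat_lit 2, nat_lit 3, nat_lit 8, nat_lit 5, nat_lit 6, nat_lit 4, nat_lit 5, nat_lit 3, nat_lit 4, nat_lit 2, nat_lit 3, nat_lit 8, nat_lit 1, nat_lit 2, nat_lit 3, nat_lit 4, nat_lit 5, nat_lit 2, nat_lit 3, nat_lit 8, nat_lit 4, nat_lit 3, nat_lit 2, nat_lit 1, nat_lit 9, nat_lit 4, nat_lit 3, nat_lit 2, nat_lit 8, nat_lit 3, nat_lit 1, nat_lit 15, nat_lit 14, nat_lit 8, nat_lit 18, nat_lit 16] (Rl.t1 (nat_lit 2605) (nat_lit 2596)))) (FT.node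 (nat_lit 2608) (FT.leaf (Fct.mk true (nat_lit 5) (nat_lit 83270) (nat_lit 5) [nat_lit 3, nat_lit 4, nat_lit 5, nat_lit 2, nat_lit 3, nat_lit 4, nat_lit 1, nat_lit 2, nat_lit 3, nat_lit 8, nat_lit 0, nat_lit 1, nat_lit 2, nat_lit 3, nat_lit 4, nat_lit 5, nat_lit 6, nat_lit 7, nat_lit 8, nat_lit 6, nat_lit 4, nat_lit 5, nat_lit 2, nat_lit 3, nat_lit 4, nat_lit 1, nat_lit 2, nat_lit 3, nat_lit 8, nat_lit 0, nat_lit 1, nat_lit 2, nat_lit 3, nat_lit 4, nat_lit 5, nat_lit 1, nat_lit 9, nat_lit 4, nat_lit 3, nat_lit 2, nat_lit 8, nat_lit 3, nat_lit 1, nat_lit 9, nat_lit 8, nat_lit 16, nat_lit 14, nat_lit 13, nat_lit 19] (Rl.inv (nat_lit 2606)))) (FT.leaf (Fct.mk true (nat_lit 5) (nat_lit 528) (nat_lit 5) [nat_lit 8, nat_lit 3, nat_lit 4, nat_lit 2, nat_lit 3, nat_lit 8, nat_lit 1, nat_lit 2, nat_lit 3, nat_lit 4, nat_lit 5, nat_lit 6, nat_lit 7, nat_lit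 6, nat_lit 5, nat_lit 4, nat_lit 2, nat_lit 3, nat_lit 8, nat_lit 0, nat_lit 1, nat_lit 2, nat_lit 3, nat_lit 4, nat_lit 5, nat_lit 0, nat_lit 1, nat_lit 2, nat_lit 8, nat_lit 3, nat_lit 10, nat_lit 1, nat_lit 12, nat_lit 15, nat_lit 12, nat_lit 16] (Rl.t1 (nat_lit 2607) (nat_lit 2604)))))) (FT.node (nat_lit 2610) (FT.leaf (Fct.mk false (nat_lit 5) (nat_lit 0) (nat_lit 5) [nat_lit 6, nat_lit 1, nat_lit 2, nat_lit 3, nat_lit 9, nat_lit 2, nat_lit 16, nat_lit 15, nat_lit 14, nat_lit 12] (Rl.cmp (nat_lit 1754) (nat_lit 511)))) (FT.node (nat_lit 2611) (FT.leaf (Fct.mk false (nat_lit 5) (nat_lit 0) (nat_lit 5) [nat_lit 8, nat_lit 3, nat_lit 4, nat_lit 1, nat_lit 2, nat_lit 3, nat_lit 8, nat_lit 5, nat_lit 6, nat_lit 4, nat_lit 5, nat_lit 3, nat_lit 4, nat_lit 2, nat_lit 3, nat_lit 8, nat_lit 1, nat_lit 2, nat_lit 3, nat_lit 4, nat_lit 5, nat_lit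 3, nat_lit 8, nat_lit 4, nat_lit 3, nat_lit 2, nat_lit 1, nat_lit 9, nat_lit 4, nat_lit 3, nat_lit 2, nat_lit 8, nat_lit 3, nat_lit 12, nat_lit 8, nat_lit 16, nat_lit 14, nat_lit 16, nat_lit 8, nat_lit 19] (Rl.cmp (nat_lit 2094) (nat_lit 2609)))) (FT.leaf (Fct.mk false (nat_lit 5) (nat_lit 0) (nat_lit 5) [nat_lit 3, nat_lit 8, nat_lit 2, nat_lit 3, nat_lit 4, nat_lit 1, nat_lit 2, nat_lit 3, nat_lit 8, nat_lit 5, nat_lit 6, nat_lit 4, nat_lit 5, nat_lit 3, nat_lit 4, nat_lit 2, nat_lit 3, nat_lit 8, nat_lit 1, nat_lit 2, nat_lit 3, nat_lit 4, nat_lit 5, nat_lit 1, nat_lit 2, nat_lit 3, nat_lit 8, nat_lit 4, nat_lit 3, nat_lit 2, nat_lit 1, nat_lit 9, nat_lit 4, nat_lit 3, nat_lit 2, nat_lit 8, nat_lit 3, nat_lit 11, nat_lit 8, nat_lit 10, nat_lit 8, nat_lit 12, nat_lit 15, nat_lit 8, nat_lit 18, nat_lit 16] (Rl.cmp (nat_lit 511) (nat_lit 2610))))))))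 (FT.node (nat_lit 2618) (FT.node (nat_lit 2615) (FT.node (nat_lit 2613) (FT.leaf (Fct.mk false (nat_lit 4) (nat_lit 0) (nat_lit 4) [nat_lit 8, nat_lit 3, nat_lit 4, nat_lit 2, nat_lit 3, nat_lit 8, nat_lit 1, nat_lit 2, nat_lit 3, nat_lit 4, nat_lit 5, nat_lit 4, nat_lit 3, nat_lit 2, nat_lit 8, nat_lit 3, nat_lit 10, nat_lit 1, nat_lit 8, nat_lit 18] (Rl.cmp (nat_lit 239) (nat_lit 234)))) (FT.node (nat_lit 2614) (FT.leaf (Fct.mk false (nat_lit 4) (nat_lit 0) (nat_lit 4) [nat_lit 5, nat_lit 4, nat_lit 3, nat_lit 8, nat_lit 6, nat_lit 7, nat_lit 5, nat_lit 6, nat_lit 4, nat_lit 5, nat_lit 3, nat_lit 4, nat_lit 2, nat_lit 3, nat_lit 8, nat_lit 1, nat_lit 2, nat_lit 3, nat_lit 4, nat_lit 5, nat_lit 6, nat_lit 7, nat_lit 6, nat_lit 5, nat_lit 4, nat_lit 3, nat_lit 8, nat_lit 2, nat_lit 3, nat_lit 4, nat_lit 1, nat_lit 2, nat_lit 3, nat_lit 8, nat_lit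 5, nat_lit 6, nat_lit 4, nat_lit 5, nat_lit 3, nat_lit 4, nat_lit 2, nat_lit 3, nat_lit 8, nat_lit 1, nat_lit 2, nat_lit 3, nat_lit 4, nat_lit 5, nat_lit 2, nat_lit 1, nat_lit 9, nat_lit 4, nat_lit 3, nat_lit 2, nat_lit 8, nat_lit 3, nat_lit 8, nat_lit 10, nat_lit 1, nat_lit 14, nat_lit 16, nat_lit 8, nat_lit 19, nat_lit 16] (Rl.cmp (nat_lit 2372) (nat_lit 2612)))) (FT.leaf (Fct.mk false (nat_lit 4) (nat_lit 0) (nat_lit 4) [nat_lit 6, nat_lit 5, nat_lit 4, nat_lit 3, nat_lit 8, nat_lit 2, nat_lit 3, nat_lit 4, nat_lit 1, nat_lit 2, nat_lit 3, nat_lit 8, nat_lit 5, nat_lit 6, nat_lit 4, nat_lit 5, nat_lit 3, nat_lit 4, nat_lit 2, nat_lit 3, nat_lit 8, nat_lit 1, nat_lit 2, nat_lit 3, nat_lit 4, nat_lit 5, nat_lit 6, nat_lit 7, nat_lit 3, nat_lit 8, nat_lit 5, nat_lit 6, nat_lit 4, nat_lit 5, nat_lit 3, nat_lit 4, nat_lit 2, nat_lit 3, nat_lit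 8, nat_lit 1, nat_lit 2, nat_lit 3, nat_lit 4, nat_lit 5, nat_lit 2, nat_lit 1, nat_lit 3, nat_lit 2, nat_lit 8, nat_lit 3, nat_lit 10, nat_lit 12, nat_lit 8, nat_lit 16, nat_lit 14, nat_lit 19] (Rl.cmp (nat_lit 2284) (nat_lit 2613)))))) (FT.node (nat_lit 2616) (FT.leaf (Fct.mk false (nat_lit 4) (nat_lit 0) (nat_lit 4) [nat_lit 8, nat_lit 3, nat_lit 4, nat_lit 2, nat_lit 3, nat_lit 8, nat_lit 6, nat_lit 7, nat_lit 5, nat_lit 6, nat_lit 4, nat_lit 5, nat_lit 3, nat_lit 4, nat_lit 2, nat_lit 3, nat_lit 8, nat_lit 1, nat_lit 2, nat_lit 3, nat_lit 4, nat_lit 5, nat_lit 6, nat_lit 7, nat_lit 2, nat_lit 3, nat_lit 8, nat_lit 1, nat_lit 2, nat_lit 3, nat_lit 4, nat_lit 5, nat_lit 4, nat_lit 8, nat_lit 10, nat_lit 1, nat_lit 12, nat_lit 8, nat_lit 16, nat_lit 14, nat_lit 19, nat_lit 16] (Rl.cmp (nat_lit 2284) (nat_lit 2614)))) (FT.node (nat_lit 2617)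 (FT.leaf (Fct.mk true (nat_lit 5) (nat_lit 38546) (nat_lit 4) [nat_lit 3, nat_lit 8, nat_lit 5, nat_lit 6, nat_lit 4, nat_lit 5, nat_lit 3, nat_lit 4, nat_lit 1, nat_lit 2, nat_lit 3, nat_lit 8, nat_lit 0, nat_lit 1, nat_lit 2, nat_lit 3, nat_lit 4, nat_lit 5, nat_lit 6, nat_lit 7, nat_lit 8, nat_lit 4, nat_lit 5, nat_lit 2, nat_lit 3, nat_lit 4, nat_lit 1, nat_lit 2, nat_lit 3, nat_lit 8, nat_lit 0, nat_lit 1, nat_lit 2, nat_lit 3, nat_lit 4, nat_lit 5, nat_lit 3, nat_lit 11, nat_lit 8, nat_lit 10, nat_lit 1, nat_lit 16, nat_lit 15, nat_lit 14, nat_lit 17, nat_lit 19] (Rl.rel (nat_lit 0) [nat_lit 4, nat_lit 5, nat_lit 6, nat_lit 3, nat_lit 4, nat_lit 5, nat_lit 2, nat_lit 3, nat_lit 4, nat_lit 1, nat_lit 2, nat_lit 3, nat_lit 8, nat_lit 0, nat_lit 1, nat_lit 2, nat_lit 3, nat_lit 4, nat_lit 5, nat_lit 6, nat_lit 7, nat_lit 5, nat_lit 2, nat_lit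 1, nat_lit 8, nat_lit 3, nat_lit 2, nat_lit 0, nat_lit 1, nat_lit 4, nat_lit 3, nat_lit 2, nat_lit 8, nat_lit 3, nat_lit 8, nat_lit 10, nat_lit 9, nat_lit 2, nat_lit 8, nat_lit 16, nat_lit 15, nat_lit 14, nat_lit 18, nat_lit 16] (nat_lit 4) (nat_lit 2) [nat_lit 2592, nat_lit 470, nat_lit 2606] []))) (FT.leaf (Fct.mk true (nat_lit 5) (nat_lit 519) (nat_lit 4) [nat_lit 4, nat_lit 3, nat_lit 8, nat_lit 1, nat_lit 2, nat_lit 3, nat_lit 4, nat_lit 5, nat_lit 6, nat_lit 7, nat_lit 5, nat_lit 2, nat_lit 3, nat_lit 4, nat_lit 1, nat_lit 2, nat_lit 3, nat_lit 8, nat_lit 0, nat_lit 1, nat_lit 2, nat_lit 3, nat_lit 4, nat_lit 5, nat_lit 3, nat_lit 2, nat_lit 0, nat_lit 1, nat_lit 4, nat_lit 3, nat_lit 2, nat_lit 8, nat_lit 3, nat_lit 9, nat_lit 12, nat_lit 15, nat_lit 14, nat_lit 8, nat_lit 18] (Rl.t1 (nat_lit 2616) (nat_lit 2611))))))) (FT.node (nat_lit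 2621) (FT.node (nat_lit 2619) (FT.leaf (Fct.mk true (nat_lit 4) (nat_lit 2584) (nat_lit 5) [nat_lit 8, nat_lit 0, nat_lit 1, nat_lit 2, nat_lit 3, nat_lit 4, nat_lit 5, nat_lit 6, nat_lit 7, nat_lit 1, nat_lit 2, nat_lit 3, nat_lit 8, nat_lit 0, nat_lit 1, nat_lit 2, nat_lit 3, nat_lit 4, nat_lit 5, nat_lit 2, nat_lit 0, nat_lit 1, nat_lit 3, nat_lit 2, nat_lit 8, nat_lit 3, nat_lit 9, nat_lit 10, nat_lit 2, nat_lit 8, nat_lit 10, nat_lit 1, nat_lit 8, nat_lit 12, nat_lit 15, nat_lit 14, nat_lit 8, nat_lit 19, nat_lit 16] (Rl.inv (nat_lit 2617)))) (FT.node (nat_lit 2620) (FT.leaf (Fct.mk true (nat_lit 4) (nat_lit 226) (nat_lit 5) [nat_lit 4, nat_lit 5, nat_lit 2, nat_lit 3, nat_lit 4, nat_lit 1, nat_lit 2, nat_lit 3, nat_lit 8, nat_lit 0, nat_lit 1, nat_lit 2, nat_lit 3, nat_lit 4, nat_lit 5, nat_lit 6, nat_lit 7, nat_lit 2, nat_lit 3, nat_lit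 4, nat_lit 1, nat_lit 2, nat_lit 3, nat_lit 8, nat_lit 0, nat_lit 1, nat_lit 2, nat_lit 3, nat_lit 4, nat_lit 5, nat_lit 2, nat_lit 1, nat_lit 3, nat_lit 2, nat_lit 8, nat_lit 3, nat_lit 11, nat_lit 10, nat_lit 1, nat_lit 12, nat_lit 15, nat_lit 14, nat_lit 13] (Rl.t1 (nat_lit 2618) (nat_lit 2615)))) (FT.leaf (Fct.mk false (nat_lit 5) (nat_lit 0) (nat_lit 5) [nat_lit 4, nat_lit 5, nat_lit 4, nat_lit 10, nat_lit 1] (Rl.cmp (nat_lit 1754) (nat_lit 470)))))) (FT.node (nat_lit 2623) (FT.node (nat_lit 2622) (FT.leaf (Fct.mk false (nat_lit 4) (nat_lit 0) (nat_lit 4) [nat_lit 2, nat_lit 3, nat_lit 8, nat_lit 4, nat_lit 5, nat_lit 3, nat_lit 4, nat_lit 2, nat_lit 3, nat_lit 8, nat_lit 6, nat_lit 7, nat_lit 5, nat_lit 6, nat_lit 4, nat_lit 5, nat_lit 3, nat_lit 4, nat_lit 2, nat_lit 3, nat_lit 8, nat_lit 1, nat_lit 2, nat_lit 3, nat_lit 4, nat_lit 5,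 nat_lit 6, nat_lit 7, nat_lit 1, nat_lit 2, nat_lit 3, nat_lit 8, nat_lit 4, nat_lit 5, nat_lit 3, nat_lit 4, nat_lit 2, nat_lit 3, nat_lit 8, nat_lit 1, nat_lit 2, nat_lit 3, nat_lit 4, nat_lit 5, nat_lit 1, nat_lit 2, nat_lit 3, nat_lit 8, nat_lit 4, nat_lit 3, nat_lit 2, nat_lit 1, nat_lit 9, nat_lit 4, nat_lit 3, nat_lit 2, nat_lit 8, nat_lit 3, nat_lit 2, nat_lit 10, nat_lit 1, nat_lit 8, nat_lit 16, nat_lit 14, nat_lit 19, nat_lit 16] (Rl.cmp (nat_lit 2284) (nat_lit 234)))) (FT.leaf (Fct.mk false (nat_lit 5) (nat_lit 0) (nat_lit 5) [nat_lit 5, nat_lit 11, nat_lit 10, nat_lit 16, nat_lit 15, nat_lit 14, nat_lit 13, nat_lit 16] (Rl.cmp (nat_lit 472) (nat_lit 470))))) (FT.node (nat_lit 2624) (FT.leaf (Fct.mk false (nat_lit 5) (nat_lit 0) (nat_lit 5) [nat_lit 6, nat_lit 12, nat_lit 15, nat_lit 12] (Rl.cmp (nat_lit 1859) (nat_lit 2622))))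 (FT.leaf (Fct.mk false (nat_lit 5) (nat_lit 0) (nat_lit 5) [nat_lit 0, nat_lit 1, nat_lit 2, nat_lit 3, nat_lit 4, nat_lit 5, nat_lit 4, nat_lit 9, nat_lit 2, nat_lit 15, nat_lit 16] (Rl.cmp (nat_lit 1754) (nat_lit 2623))))))))) (FT.node (nat_lit 2637) (FT.node (nat_lit 2631) (FT.node (nat_lit 2628) (FT.node (nat_lit 2626) (FT.leaf (Fct.mk false (nat_lit 4) (nat_lit 0) (nat_lit 4) [nat_lit 8, nat_lit 3, nat_lit 4, nat_lit 2, nat_lit 3, nat_lit 8, nat_lit 1, nat_lit 2, nat_lit 3, nat_lit 4, nat_lit 5, nat_lit 1, nat_lit 4, nat_lit 3, nat_lit 2, nat_lit 8, nat_lit 3, nat_lit 2, nat_lit 8, nat_lit 10, nat_lit 1, nat_lit 8, nat_lit 18] (Rl.cmp (nat_lit 240) (nat_lit 234)))) (FT.node (nat_lit 2627) (FT.leaf (Fct.mk false (nat_lit 4) (nat_lit 0) (nat_lit 4) [nat_lit 2, nat_lit 3, nat_lit 8, nat_lit 4, nat_lit 5, nat_lit 3, nat_lit 4, nat_lit 2, nat_lit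 3, nat_lit 8, nat_lit 6, nat_lit 7, nat_lit 5, nat_lit 6, nat_lit 4, nat_lit 5, nat_lit 3, nat_lit 4, nat_lit 2, nat_lit 3, nat_lit 8, nat_lit 1, nat_lit 2, nat_lit 3, nat_lit 4, nat_lit 5, nat_lit 6, nat_lit 7, nat_lit 1, nat_lit 2, nat_lit 3, nat_lit 8, nat_lit 4, nat_lit 5, nat_lit 3, nat_lit 4, nat_lit 2, nat_lit 3, nat_lit 8, nat_lit 1, nat_lit 2, nat_lit 3, nat_lit 4, nat_lit 5, nat_lit 1, nat_lit 2, nat_lit 3, nat_lit 8, nat_lit 4, nat_lit 3, nat_lit 2, nat_lit 1, nat_lit 9, nat_lit 4, nat_lit 3, nat_lit 2, nat_lit 8, nat_lit 3, nat_lit 10, nat_lit 1, nat_lit 8, nat_lit 16, nat_lit 14, nat_lit 19, nat_lit 16] (Rl.cmp (nat_lit 2284) (nat_lit 2625)))) (FT.leaf (Fct.mk false (nat_lit 4) (nat_lit 0) (nat_lit 4) [nat_lit 8, nat_lit 3, nat_lit 4, nat_lit 2, nat_lit 3, nat_lit 8, nat_lit 6, nat_lit 7, nat_lit 5, nat_lit 6, nat_lit 4, nat_lit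 5, nat_lit 3, nat_lit 4, nat_lit 2, nat_lit 3, nat_lit 8, nat_lit 1, nat_lit 2, nat_lit 3, nat_lit 4, nat_lit 5, nat_lit 6, nat_lit 7, nat_lit 6, nat_lit 5, nat_lit 4, nat_lit 3, nat_lit 8, nat_lit 2, nat_lit 3, nat_lit 4, nat_lit 5, nat_lit 4, nat_lit 9, nat_lit 2, nat_lit 14, nat_lit 8, nat_lit 18, nat_lit 16] (Rl.cmp (nat_lit 312) (nat_lit 2626)))))) (FT.node (nat_lit 2629) (FT.leaf (Fct.mk false (nat_lit 4) (nat_lit 0) (nat_lit 4) [nat_lit 8, nat_lit 3, nat_lit 4, nat_lit 2, nat_lit 3, nat_lit 8, nat_lit 6, nat_lit 7, nat_lit 5, nat_lit 6, nat_lit 4, nat_lit 5, nat_lit 3, nat_lit 4, nat_lit 2, nat_lit 3, nat_lit 8, nat_lit 1, nat_lit 2, nat_lit 3, nat_lit 4, nat_lit 5, nat_lit 6, nat_lit 7, nat_lit 3, nat_lit 2, nat_lit 8, nat_lit 3, nat_lit 9, nat_lit 2, nat_lit 8, nat_lit 16, nat_lit 14, nat_lit 12, nat_lit 18, nat_lit 16] (Rl.cmp (nat_lit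 1995) (nat_lit 2627)))) (FT.node (nat_lit 2630) (FT.leaf (Fct.mk true (nat_lit 5) (nat_lit 9575) (nat_lit 5) [nat_lit 7, nat_lit 6, nat_lit 5, nat_lit 3, nat_lit 4, nat_lit 2, nat_lit 3, nat_lit 8, nat_lit 0, nat_lit 1, nat_lit 2, nat_lit 3, nat_lit 4, nat_lit 5, nat_lit 6, nat_lit 7, nat_lit 4, nat_lit 3, nat_lit 8, nat_lit 5, nat_lit 6, nat_lit 4, nat_lit 5, nat_lit 3, nat_lit 4, nat_lit 2, nat_lit 3, nat_lit 8, nat_lit 1, nat_lit 2, nat_lit 3, nat_lit 4, nat_lit 5, nat_lit 3, nat_lit 8, nat_lit 4, nat_lit 3, nat_lit 2, nat_lit 1, nat_lit 9, nat_lit 4, nat_lit 3, nat_lit 2, nat_lit 8, nat_lit 3, nat_lit 11, nat_lit 9, nat_lit 10, nat_lit 2, nat_lit 8, nat_lit 10, nat_lit 1, nat_lit 16, nat_lit 8, nat_lit 12, nat_lit 15, nat_lit 17, nat_lit 19, nat_lit 16] (Rl.rel (nat_lit 0) [nat_lit 5, nat_lit 4, nat_lit 1, nat_lit 2, nat_lit 3, nat_lit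 8, nat_lit 0, nat_lit 1, nat_lit 2, nat_lit 3, nat_lit 4, nat_lit 5, nat_lit 6, nat_lit 7, nat_lit 4, nat_lit 3, nat_lit 8, nat_lit 2, nat_lit 3, nat_lit 4, nat_lit 1, nat_lit 2, nat_lit 3, nat_lit 8, nat_lit 0, nat_lit 1, nat_lit 2, nat_lit 3, nat_lit 4, nat_lit 5, nat_lit 1, nat_lit 3, nat_lit 2, nat_lit 8, nat_lit 3, nat_lit 11, nat_lit 2, nat_lit 8, nat_lit 10, nat_lit 1, nat_lit 15, nat_lit 17, nat_lit 16] (nat_lit 4) (nat_lit 1) [nat_lit 2592] [nat_lit 2628, nat_lit 1980]))) (FT.leaf (Fct.mk true (nat_lit 5) (nat_lit 396) (nat_lit 5) [nat_lit 7, nat_lit 6, nat_lit 5, nat_lit 4, nat_lit 3, nat_lit 8, nat_lit 1, nat_lit 2, nat_lit 3, nat_lit 4, nat_lit 5, nat_lit 6, nat_lit 7, nat_lit 8, nat_lit 3, nat_lit 4, nat_lit 2, nat_lit 3, nat_lit 8, nat_lit 0, nat_lit 1, nat_lit 2, nat_lit 3, nat_lit 4, nat_lit 5, nat_lit 3, nat_lit 8, nat_lit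 4, nat_lit 3, nat_lit 2, nat_lit 1, nat_lit 9, nat_lit 4, nat_lit 3, nat_lit 2, nat_lit 8, nat_lit 3, nat_lit 11, nat_lit 9, nat_lit 10, nat_lit 2, nat_lit 8, nat_lit 10, nat_lit 1, nat_lit 16, nat_lit 8, nat_lit 12, nat_lit 15, nat_lit 17, nat_lit 18] (Rl.t1 (nat_lit 2629) (nat_lit 2624))))))) (FT.node (nat_lit 2634) (FT.node (nat_lit 2632) (FT.leaf (Fct.mk false (nat_lit 5) (nat_lit 0) (nat_lit 5) [nat_lit 6, nat_lit 9, nat_lit 4, nat_lit 10, nat_lit 12, nat_lit 15, nat_lit 12, nat_lit 16] (Rl.cmp (nat_lit 1754) (nat_lit 1859)))) (FT.node (nat_lit 2633) (FT.leaf (Fct.mk false (nat_lit 5) (nat_lit 0) (nat_lit 5) [nat_lit 0, nat_lit 1, nat_lit 2, nat_lit 3, nat_lit 2, nat_lit 14, nat_lit 16] (Rl.cmp (nat_lit 511) (nat_lit 2631)))) (FT.leaf (Fct.mk false (nat_lit 5) (nat_lit 0) (nat_lit 5) [nat_lit 8, nat_lit 3, nat_lit 4, nat_lit 2, nat_lit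 3, nat_lit 8, nat_lit 7, nat_lit 5, nat_lit 6, nat_lit 4, nat_lit 5, nat_lit 3, nat_lit 4, nat_lit 2, nat_lit 3, nat_lit 8, nat_lit 0, nat_lit 1, nat_lit 2, nat_lit 3, nat_lit 4, nat_lit 5, nat_lit 6, nat_lit 7, nat_lit 8, nat_lit 3, nat_lit 4, nat_lit 2, nat_lit 3, nat_lit 8, nat_lit 1, nat_lit 2, nat_lit 3, nat_lit 4, nat_lit 5, nat_lit 1, nat_lit 4, nat_lit 3, nat_lit 2, nat_lit 8, nat_lit 3, nat_lit 10, nat_lit 2, nat_lit 8, nat_lit 10, nat_lit 1, nat_lit 12, nat_lit 15, nat_lit 12, nat_lit 18] (Rl.cmp (nat_lit 2491) (nat_lit 2632)))))) (FT.node (nat_lit 2635) (FT.leaf (Fct.mk false (nat_lit 5) (nat_lit 0) (nat_lit 5) [nat_lit 8, nat_lit 4, nat_lit 5, nat_lit 2, nat_lit 3, nat_lit 4, nat_lit 1, nat_lit 2, nat_lit 3, nat_lit 8, nat_lit 6, nat_lit 7, nat_lit 5, nat_lit 6, nat_lit 4, nat_lit 5, nat_lit 3, nat_lit 4, nat_lit 2, nat_lit 3, nat_lit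 8, nat_lit 1, nat_lit 2, nat_lit 3, nat_lit 4, nat_lit 5, nat_lit 6, nat_lit 7, nat_lit 6, nat_lit 5, nat_lit 4, nat_lit 3, nat_lit 8, nat_lit 2, nat_lit 3, nat_lit 4, nat_lit 1, nat_lit 2, nat_lit 3, nat_lit 8, nat_lit 5, nat_lit 6, nat_lit 4, nat_lit 5, nat_lit 3, nat_lit 4, nat_lit 2, nat_lit 3, nat_lit 8, nat_lit 1, nat_lit 2, nat_lit 3, nat_lit 4, nat_lit 5, nat_lit 9] (Rl.cmp (nat_lit 2491) (nat_lit 2633)))) (FT.node (nat_lit 2636) (FT.leaf (Fct.mk false (nat_lit 4) (nat_lit 0) (nat_lit 4) [nat_lit 6, nat_lit 7, nat_lit 5, nat_lit 6, nat_lit 4, nat_lit 5, nat_lit 3, nat_lit 4, nat_lit 2, nat_lit 3, nat_lit 8, nat_lit 1, nat_lit 2, nat_lit 3, nat_lit 4, nat_lit 5, nat_lit 6, nat_lit 7, nat_lit 8, nat_lit 4, nat_lit 5, nat_lit 3, nat_lit 4, nat_lit 2, nat_lit 3, nat_lit 8, nat_lit 1, nat_lit 2, nat_lit 3, nat_lit 4, nat_lit 5, nat_lit 2,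 nat_lit 3, nat_lit 8, nat_lit 4, nat_lit 3, nat_lit 2, nat_lit 1, nat_lit 9, nat_lit 4, nat_lit 3, nat_lit 2, nat_lit 8, nat_lit 3, nat_lit 9, nat_lit 2, nat_lit 8, nat_lit 16] (Rl.cmp (nat_lit 2372) (nat_lit 2414)))) (FT.leaf (Fct.mk false (nat_lit 4) (nat_lit 0) (nat_lit 4) [nat_lit 5, nat_lit 1, nat_lit 2, nat_lit 8, nat_lit 3, nat_lit 1, nat_lit 8, nat_lit 18] (Rl.cmp (nat_lit 2284) (nat_lit 2635)))))))) (FT.node (nat_lit 2643) (FT.node (nat_lit 2640) (FT.node (nat_lit 2638) (FT.leaf (Fct.mk false (nat_lit 5) (nat_lit 0) (nat_lit 5) [nat_lit 0, nat_lit 1, nat_lit 2, nat_lit 3, nat_lit 4, nat_lit 5, nat_lit 3, nat_lit 11, nat_lit 10, nat_lit 14, nat_lit 13] (Rl.cmp (nat_lit 1859) (nat_lit 472)))) (FT.node (nat_lit 2639) (FT.leaf (Fct.mk false (nat_lit 5) (nat_lit 0) (nat_lit 5) [nat_lit 8, nat_lit 3, nat_lit 4, nat_lit 2, nat_lit 3, nat_lit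 8, nat_lit 7, nat_lit 5, nat_lit 6, nat_lit 4, nat_lit 5, nat_lit 3, nat_lit 4, nat_lit 2, nat_lit 3, nat_lit 8, nat_lit 0, nat_lit 1, nat_lit 2, nat_lit 3, nat_lit 4, nat_lit 5, nat_lit 6, nat_lit 7, nat_lit 8, nat_lit 4, nat_lit 5, nat_lit 3, nat_lit 4, nat_lit 2, nat_lit 3, nat_lit 8, nat_lit 1, nat_lit 2, nat_lit 3, nat_lit 4, nat_lit 5, nat_lit 3, nat_lit 2, nat_lit 1, nat_lit 4, nat_lit 3, nat_lit 2, nat_lit 8, nat_lit 3, nat_lit 11, nat_lit 10, nat_lit 2, nat_lit 8, nat_lit 10, nat_lit 1, nat_lit 12, nat_lit 15, nat_lit 14, nat_lit 13, nat_lit 12, nat_lit 18, nat_lit 16] (Rl.cmp (nat_lit 2491) (nat_lit 2637)))) (FT.leaf (Fct.mk false (nat_lit 5) (nat_lit 0) (nat_lit 5) [nat_lit 8, nat_lit 4, nat_lit 5, nat_lit 2, nat_lit 3, nat_lit 4, nat_lit 1, nat_lit 2, nat_lit 3, nat_lit 8, nat_lit 6, nat_lit 7, nat_lit 5, nat_lit 6, nat_lit 4, nat_lit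 5, nat_lit 3, nat_lit 4, nat_lit 2, nat_lit 3, nat_lit 8, nat_lit 1, nat_lit 2, nat_lit 3, nat_lit 4, nat_lit 5, nat_lit 6, nat_lit 7, nat_lit 6, nat_lit 5, nat_lit 4, nat_lit 2, nat_lit 3, nat_lit 8, nat_lit 1, nat_lit 2, nat_lit 3, nat_lit 4, nat_lit 5, nat_lit 1, nat_lit 4, nat_lit 3, nat_lit 2, nat_lit 8, nat_lit 3, nat_lit 11, nat_lit 2, nat_lit 17, nat_lit 16] (Rl.cmp (nat_lit 2491) (nat_lit 2638)))))) (FT.node (nat_lit 2641) (FT.leaf (Fct.mk false (nat_lit 5) (nat_lit 0) (nat_lit 5) [nat_lit 2, nat_lit 3, nat_lit 8, nat_lit 4, nat_lit 5, nat_lit 3, nat_lit 4, nat_lit 2, nat_lit 3, nat_lit 8, nat_lit 6, nat_lit 7, nat_lit 5, nat_lit 6, nat_lit 4, nat_lit 5, nat_lit 3, nat_lit 4, nat_lit 2, nat_lit 3, nat_lit 8, nat_lit 1, nat_lit 2, nat_lit 3, nat_lit 4, nat_lit 5, nat_lit 6, nat_lit 7, nat_lit 8, nat_lit 3, nat_lit 4, nat_lit 2, nat_lit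 3, nat_lit 8, nat_lit 5, nat_lit 6, nat_lit 4, nat_lit 5, nat_lit 3, nat_lit 4, nat_lit 2, nat_lit 3, nat_lit 8, nat_lit 0, nat_lit 1, nat_lit 2, nat_lit 3, nat_lit 4, nat_lit 5, nat_lit 3, nat_lit 8, nat_lit 4, nat_lit 3, nat_lit 2, nat_lit 0, nat_lit 1, nat_lit 9, nat_lit 4, nat_lit 3, nat_lit 2, nat_lit 8, nat_lit 3, nat_lit 11, nat_lit 2, nat_lit 10, nat_lit 1, nat_lit 8, nat_lit 12, nat_lit 15, nat_lit 18] (Rl.cmp (nat_lit 511) (nat_lit 2639)))) (FT.node (nat_lit 2642) (FT.leaf (Fct.mk true (nat_lit 5) (nat_lit 7225) (nat_lit 5) [nat_lit 7, nat_lit 6, nat_lit 5, nat_lit 4, nat_lit 1, nat_lit 2, nat_lit 3, nat_lit 8, nat_lit 0, nat_lit 1, nat_lit 2, nat_lit 3, nat_lit 4, nat_lit 5, nat_lit 6, nat_lit 7, nat_lit 8, nat_lit 4, nat_lit 5, nat_lit 3, nat_lit 4, nat_lit 2, nat_lit 3, nat_lit 8, nat_lit 0, nat_lit 1, nat_lit 2, nat_lit 3, nat_lit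 4, nat_lit 5, nat_lit 1, nat_lit 2, nat_lit 3, nat_lit 1, nat_lit 0, nat_lit 2, nat_lit 15, nat_lit 16, nat_lit 8, nat_lit 16] (Rl.rel (nat_lit 0) [nat_lit 5, nat_lit 4, nat_lit 1, nat_lit 2, nat_lit 3, nat_lit 8, nat_lit 0, nat_lit 1, nat_lit 2, nat_lit 3, nat_lit 4, nat_lit 5, nat_lit 6, nat_lit 7, nat_lit 8, nat_lit 3, nat_lit 4, nat_lit 1, nat_lit 2, nat_lit 3, nat_lit 8, nat_lit 0, nat_lit 1, nat_lit 2, nat_lit 3, nat_lit 4, nat_lit 5, nat_lit 2, nat_lit 0, nat_lit 1, nat_lit 3, nat_lit 2, nat_lit 8, nat_lit 3, nat_lit 11, nat_lit 2, nat_lit 10, nat_lit 1, nat_lit 15, nat_lit 17, nat_lit 16] (nat_lit 4) (nat_lit 1) [nat_lit 2592] [nat_lit 2636, nat_lit 2418]))) (FT.leaf (Fct.mk true (nat_lit 5) (nat_lit 1408) (nat_lit 5) [nat_lit 4, nat_lit 5, nat_lit 3, nat_lit 4, nat_lit 1, nat_lit 2, nat_lit 3, nat_lit 8, nat_lit 0, nat_lit 1, nat_lit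 2, nat_lit 3, nat_lit 4, nat_lit 5, nat_lit 6, nat_lit 7, nat_lit 8, nat_lit 5, nat_lit 6, nat_lit 4, nat_lit 5, nat_lit 2, nat_lit 3, nat_lit 4, nat_lit 1, nat_lit 2, nat_lit 3, nat_lit 8, nat_lit 0, nat_lit 1, nat_lit 2, nat_lit 3, nat_lit 4, nat_lit 5, nat_lit 2, nat_lit 1, nat_lit 8, nat_lit 3, nat_lit 2, nat_lit 0, nat_lit 1, nat_lit 9, nat_lit 4, nat_lit 3, nat_lit 2, nat_lit 8, nat_lit 3, nat_lit 2, nat_lit 8, nat_lit 10, nat_lit 1, nat_lit 12, nat_lit 15, nat_lit 14, nat_lit 17] (Rl.t1 (nat_lit 2641) (nat_lit 2634))))))) (FT.node (nat_lit 2646) (FT.node (nat_lit 2644) (FT.leaf (Fct.mk true (nat_lit 5) (nat_lit 127203) (nat_lit 5) [nat_lit 5, nat_lit 6, nat_lit 4, nat_lit 5, nat_lit 3, nat_lit 4, nat_lit 2, nat_lit 3, nat_lit 8, nat_lit 1, nat_lit 2, nat_lit 3, nat_lit 4, nat_lit 5, nat_lit 6, nat_lit 7, nat_lit 5, nat_lit 4, nat_lit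 3, nat_lit 8, nat_lit 2, nat_lit 3, nat_lit 4, nat_lit 1, nat_lit 2, nat_lit 3, nat_lit 8, nat_lit 5, nat_lit 6, nat_lit 4, nat_lit 5, nat_lit 3, nat_lit 4, nat_lit 2, nat_lit 3, nat_lit 8, nat_lit 1, nat_lit 2, nat_lit 3, nat_lit 4, nat_lit 5, nat_lit 1, nat_lit 8, nat_lit 4, nat_lit 3, nat_lit 2, nat_lit 0, nat_lit 1, nat_lit 9, nat_lit 4, nat_lit 3, nat_lit 2, nat_lit 8, nat_lit 3, nat_lit 15, nat_lit 18] (Rl.inv (nat_lit 2642)))) (FT.node (nat_lit 2645) (FT.leaf (Fct.mk true (nat_lit 5) (nat_lit 2204) (nat_lit 5) [nat_lit 2, nat_lit 3, nat_lit 8, nat_lit 6, nat_lit 7, nat_lit 5, nat_lit 6, nat_lit 4, nat_lit 5, nat_lit 3, nat_lit 4, nat_lit 2, nat_lit 3, nat_lit 8, nat_lit 1, nat_lit 2, nat_lit 3, nat_lit 4, nat_lit 5, nat_lit 6, nat_lit 7, nat_lit 0, nat_lit 1, nat_lit 2, nat_lit 3, nat_lit 4, nat_lit 5, nat_lit 2, nat_lit 3, nat_lit 8,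 nat_lit 4, nat_lit 3, nat_lit 2, nat_lit 1, nat_lit 9, nat_lit 4, nat_lit 3, nat_lit 2, nat_lit 8, nat_lit 3, nat_lit 8, nat_lit 10, nat_lit 1, nat_lit 12, nat_lit 15, nat_lit 13, nat_lit 19] (Rl.t1 (nat_lit 2643) (nat_lit 2640)))) (FT.leaf (Fct.mk false (nat_lit 4) (nat_lit 0) (nat_lit 4) [nat_lit 8, nat_lit 4, nat_lit 5, nat_lit 2, nat_lit 3, nat_lit 4, nat_lit 1, nat_lit 2, nat_lit 3, nat_lit 8, nat_lit 6, nat_lit 7, nat_lit 5, nat_lit 6, nat_lit 4, nat_lit 5, nat_lit 3, nat_lit 4, nat_lit 2, nat_lit 3, nat_lit 8, nat_lit 1, nat_lit 2, nat_lit 3, nat_lit 4, nat_lit 5, nat_lit 6, nat_lit 7, nat_lit 4, nat_lit 1, nat_lit 2, nat_lit 3, nat_lit 8, nat_lit 5, nat_lit 6, nat_lit 4, nat_lit 5, nat_lit 3, nat_lit 4, nat_lit 2, nat_lit 3, nat_lit 8, nat_lit 1, nat_lit 2, nat_lit 3, nat_lit 4, nat_lit 5, nat_lit 1, nat_lit 4, nat_lit 3, nat_lit 2,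 nat_lit 8, nat_lit 3, nat_lit 10, nat_lit 9, nat_lit 2, nat_lit 14, nat_lit 12, nat_lit 19, nat_lit 16] (Rl.cmp (nat_lit 2372) (nat_lit 2284)))))) (FT.node (nat_lit 2648) (FT.node (nat_lit 2647) (FT.leaf (Fct.mk false (nat_lit 4) (nat_lit 0) (nat_lit 4) [nat_lit 5, nat_lit 4, nat_lit 3, nat_lit 8, nat_lit 6, nat_lit 7, nat_lit 5, nat_lit 6, nat_lit 4, nat_lit 5, nat_lit 3, nat_lit 4, nat_lit 2, nat_lit 3, nat_lit 8, nat_lit 1, nat_lit 2, nat_lit 3, nat_lit 4, nat_lit 5, nat_lit 6, nat_lit 7, nat_lit 6, nat_lit 5, nat_lit 4, nat_lit 3, nat_lit 8, nat_lit 2, nat_lit 3, nat_lit 4, nat_lit 1, nat_lit 2, nat_lit 3, nat_lit 8, nat_lit 5, nat_lit 6, nat_lit 4, nat_lit 5, nat_lit 3, nat_lit 4, nat_lit 2, nat_lit 3, nat_lit 8, nat_lit 1, nat_lit 2, nat_lit 3, nat_lit 4, nat_lit 5, nat_lit 3, nat_lit 2, nat_lit 1, nat_lit 9, nat_lit 4, nat_lit 3, nat_lit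 2, nat_lit 8, nat_lit 3, nat_lit 2, nat_lit 8, nat_lit 10, nat_lit 1, nat_lit 14, nat_lit 16, nat_lit 8, nat_lit 19, nat_lit 16] (Rl.cmp (nat_lit 2372) (nat_lit 234)))) (FT.leaf (Fct.mk false (nat_lit 4) (nat_lit 0) (nat_lit 4) [nat_lit 8, nat_lit 4, nat_lit 5, nat_lit 2, nat_lit 3, nat_lit 4, nat_lit 1, nat_lit 2, nat_lit 3, nat_lit 8, nat_lit 6, nat_lit 7, nat_lit 5, nat_lit 6, nat_lit 4, nat_lit 5, nat_lit 3, nat_lit 4, nat_lit 2, nat_lit 3, nat_lit 8, nat_lit 1, nat_lit 2, nat_lit 3, nat_lit 4, nat_lit 5, nat_lit 6, nat_lit 7, nat_lit 4, nat_lit 1, nat_lit 2, nat_lit 3, nat_lit 8, nat_lit 5, nat_lit 6, nat_lit 4, nat_lit 5, nat_lit 3, nat_lit 4, nat_lit 2, nat_lit 3, nat_lit 8, nat_lit 1, nat_lit 2, nat_lit 3, nat_lit 4, nat_lit 5, nat_lit 1, nat_lit 4, nat_lit 3, nat_lit 2, nat_lit 8, nat_lit 3, nat_lit 10, nat_lit 9, nat_lit 2, nat_lit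 14, nat_lit 12, nat_lit 19, nat_lit 16] (Rl.cmp (nat_lit 2372) (nat_lit 2284))))) (FT.node (nat_lit 2649) (FT.leaf (Fct.mk false (nat_lit 4) (nat_lit 0) (nat_lit 4) [nat_lit 8, nat_lit 5, nat_lit 2, nat_lit 3, nat_lit 4, nat_lit 1, nat_lit 2, nat_lit 3, nat_lit 8, nat_lit 6, nat_lit 7, nat_lit 5, nat_lit 6, nat_lit 4, nat_lit 5, nat_lit 3, nat_lit 4, nat_lit 2, nat_lit 3, nat_lit 8, nat_lit 1, nat_lit 2, nat_lit 3, nat_lit 4, nat_lit 5, nat_lit 6, nat_lit 7, nat_lit 2, nat_lit 3, nat_lit 8, nat_lit 6, nat_lit 4, nat_lit 5, nat_lit 3, nat_lit 4, nat_lit 2, nat_lit 3, nat_lit 8, nat_lit 1, nat_lit 2, nat_lit 3, nat_lit 4, nat_lit 5, nat_lit 3, nat_lit 10, nat_lit 1, nat_lit 16, nat_lit 8, nat_lit 18, nat_lit 16] (Rl.cmp (nat_lit 2284) (nat_lit 2647)))) (FT.leaf (Fct.mk false (nat_lit 4) (nat_lit 0) (nat_lit 4) [nat_lit 3, nat_lit 8, nat_lit 5,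 nat_lit 2, nat_lit 3, nat_lit 4, nat_lit 1, nat_lit 2, nat_lit 3, nat_lit 8, nat_lit 6, nat_lit 7, nat_lit 5, nat_lit 6, nat_lit 4, nat_lit 5, nat_lit 3, nat_lit 4, nat_lit 2, nat_lit 3, nat_lit 8, nat_lit 1, nat_lit 2, nat_lit 3, nat_lit 4, nat_lit 5, nat_lit 6, nat_lit 7, nat_lit 2, nat_lit 3, nat_lit 8, nat_lit 5, nat_lit 6, nat_lit 4, nat_lit 5, nat_lit 3, nat_lit 4, nat_lit 2, nat_lit 3, nat_lit 8, nat_lit 1, nat_lit 2, nat_lit 3, nat_lit 4, nat_lit 5, nat_lit 3, nat_lit 14, nat_lit 16, nat_lit 8, nat_lit 16] (Rl.cmp (nat_lit 243) (nat_lit 2648)))))))))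

/-- some facts -/
noncomputable def ftc53 : FT := FT.node (nat_lit 2675) (FT.node (nat_lit 2662) (FT.node (nat_lit 2656) (FT.node (nat_lit 2653) (FT.node (nat_lit 2651) (FT.leaf (Fct.mk false (nat_lit 4) (nat_lit 0) (nat_lit 4) [nat_lit 8, nat_lit 4, nat_lit 5, nat_lit 2, nat_lit 3, nat_lit 4, nat_lit 1, nat_lit 2, nat_lit 3, nat_lit 8, nat_lit 6, nat_lit 7, nat_lit 5, nat_lit 6, nat_lit 4, nat_lit 5, nat_lit 3, nat_lit 4, nat_lit 2, nat_lit 3, nat_lit 8, nat_lit 1, nat_lit 2, nat_lit 3, nat_lit 4, nat_lit 5, nat_lit 6, nat_lit 7, nat_lit 2, nat_lit 3, nat_lit 8, nat_lit 1, nat_lit 2, nat_lit 3, nat_lit 4, nat_lit 5, nat_lit 3, nat_lit 2, nat_lit 1, nat_lit 9, nat_lit 4, nat_lit 3, nat_lit 2, nat_lit 8, nat_lit 3, nat_lit 9, nat_lit 2, nat_lit 8, nat_lit 16, nat_lit 14, nat_lit 16, nat_lit 8] (Rl.cmp (nat_lit 2284) (nat_lit 2649)))) (FT.node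 (nat_lit 2652) (FT.leaf (Fct.mk true (nat_lit 5) (nat_lit 13003) (nat_lit 5) [nat_lit 7, nat_lit 0, nat_lit 1, nat_lit 2, nat_lit 3, nat_lit 4, nat_lit 5, nat_lit 8, nat_lit 3, nat_lit 2, nat_lit 0, nat_lit 1, nat_lit 4, nat_lit 3, nat_lit 2, nat_lit 8, nat_lit 3, nat_lit 11, nat_lit 10, nat_lit 1, nat_lit 12, nat_lit 15, nat_lit 14, nat_lit 13] (Rl.rel (nat_lit 0) [nat_lit 8, nat_lit 5, nat_lit 6, nat_lit 4, nat_lit 5, nat_lit 3, nat_lit 4, nat_lit 1, nat_lit 2, nat_lit 3, nat_lit 8, nat_lit 0, nat_lit 1, nat_lit 2, nat_lit 3, nat_lit 4, nat_lit 5, nat_lit 6, nat_lit 7, nat_lit 3, nat_lit 8, nat_lit 2, nat_lit 3, nat_lit 4, nat_lit 1, nat_lit 2, nat_lit 3, nat_lit 8, nat_lit 0, nat_lit 1, nat_lit 2, nat_lit 3, nat_lit 4, nat_lit 5, nat_lit 1, nat_lit 4, nat_lit 3, nat_lit 2, nat_lit 8, nat_lit 3, nat_lit 11, nat_lit 12, nat_lit 15, nat_lit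 14, nat_lit 17, nat_lit 18, nat_lit 16] (nat_lit 4) (nat_lit 1) [nat_lit 2592] [nat_lit 2650, nat_lit 469]))) (FT.leaf (Fct.mk true (nat_lit 5) (nat_lit 1129) (nat_lit 5) [nat_lit 0, nat_lit 1, nat_lit 2, nat_lit 3, nat_lit 4, nat_lit 5, nat_lit 6, nat_lit 7, nat_lit 8, nat_lit 3, nat_lit 2, nat_lit 0, nat_lit 1, nat_lit 4, nat_lit 3, nat_lit 2, nat_lit 8, nat_lit 3, nat_lit 11, nat_lit 10, nat_lit 1, nat_lit 12, nat_lit 15, nat_lit 14, nat_lit 13] (Rl.t1 (nat_lit 2651) (nat_lit 493)))))) (FT.node (nat_lit 2654) (FT.leaf (Fct.mk false (nat_lit 5) (nat_lit 0) (nat_lit 5) [nat_lit 6, nat_lit 3, nat_lit 1, nat_lit 9, nat_lit 12, nat_lit 15, nat_lit 12] (Rl.cmp (nat_lit 1859) (nat_lit 488)))) (FT.node (nat_lit 2655) (FT.leaf (Fct.mk false (nat_lit 5) (nat_lit 0) (nat_lit 5) [nat_lit 3, nat_lit 11, nat_lit 10, nat_lit 1, nat_lit 16, nat_lit 15,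 nat_lit 14, nat_lit 13, nat_lit 16] (Rl.cmp (nat_lit 488) (nat_lit 470)))) (FT.leaf (Fct.mk false (nat_lit 5) (nat_lit 0) (nat_lit 5) [nat_lit 6, nat_lit 5, nat_lit 4, nat_lit 3, nat_lit 8, nat_lit 2, nat_lit 3, nat_lit 4, nat_lit 1, nat_lit 2, nat_lit 3, nat_lit 8, nat_lit 5, nat_lit 6, nat_lit 4, nat_lit 5, nat_lit 3, nat_lit 4, nat_lit 2, nat_lit 3, nat_lit 8, nat_lit 1, nat_lit 2, nat_lit 3, nat_lit 4, nat_lit 5, nat_lit 3, nat_lit 8, nat_lit 4, nat_lit 3, nat_lit 2, nat_lit 1, nat_lit 9, nat_lit 4, nat_lit 3, nat_lit 2, nat_lit 8, nat_lit 3, nat_lit 10, nat_lit 1, nat_lit 8, nat_lit 12, nat_lit 15, nat_lit 17, nat_lit 12, nat_lit 19, nat_lit 16] (Rl.cmp (nat_lit 2094) (nat_lit 1754))))))) (FT.node (nat_lit 2659) (FT.node (nat_lit 2657) (FT.leaf (Fct.mk false (nat_lit 5) (nat_lit 0) (nat_lit 5) [nat_lit 8, nat_lit 3, nat_lit 4, nat_lit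 2, nat_lit 3, nat_lit 8, nat_lit 5, nat_lit 6, nat_lit 4, nat_lit 5, nat_lit 3, nat_lit 4, nat_lit 2, nat_lit 3, nat_lit 8, nat_lit 0, nat_lit 1, nat_lit 2, nat_lit 3, nat_lit 4, nat_lit 5, nat_lit 2, nat_lit 3, nat_lit 8, nat_lit 4, nat_lit 3, nat_lit 2, nat_lit 1, nat_lit 9, nat_lit 4, nat_lit 3, nat_lit 2, nat_lit 8, nat_lit 3, nat_lit 2, nat_lit 8, nat_lit 10, nat_lit 1, nat_lit 8, nat_lit 16, nat_lit 14, nat_lit 8, nat_lit 19, nat_lit 16] (Rl.cmp (nat_lit 1754) (nat_lit 2655)))) (FT.node (nat_lit 2658) (FT.leaf (Fct.mk false (nat_lit 5) (nat_lit 0) (nat_lit 5) [nat_lit 8, nat_lit 3, nat_lit 4, nat_lit 2, nat_lit 3, nat_lit 8, nat_lit 7, nat_lit 5, nat_lit 6, nat_lit 4, nat_lit 5, nat_lit 3, nat_lit 4, nat_lit 2, nat_lit 3, nat_lit 8, nat_lit 0, nat_lit 1, nat_lit 2, nat_lit 3, nat_lit 4, nat_lit 5, nat_lit 6, nat_lit 7, nat_lit 6, nat_lit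 5, nat_lit 3, nat_lit 4, nat_lit 2, nat_lit 3, nat_lit 8, nat_lit 1, nat_lit 2, nat_lit 3, nat_lit 4, nat_lit 5, nat_lit 1, nat_lit 9, nat_lit 4, nat_lit 3, nat_lit 2, nat_lit 8, nat_lit 3, nat_lit 11, nat_lit 10, nat_lit 2, nat_lit 8, nat_lit 10, nat_lit 1, nat_lit 12, nat_lit 15, nat_lit 16, nat_lit 8, nat_lit 19] (Rl.cmp (nat_lit 2491) (nat_lit 2656)))) (FT.leaf (Fct.mk false (nat_lit 4) (nat_lit 0) (nat_lit 4) [nat_lit 5, nat_lit 4, nat_lit 3, nat_lit 8, nat_lit 6, nat_lit 7, nat_lit 5, nat_lit 6, nat_lit 4, nat_lit 5, nat_lit 3, nat_lit 4, nat_lit 2, nat_lit 3, nat_lit 8, nat_lit 1, nat_lit 2, nat_lit 3, nat_lit 4, nat_lit 5, nat_lit 6, nat_lit 7, nat_lit 4, nat_lit 3, nat_lit 8, nat_lit 2, nat_lit 3, nat_lit 4, nat_lit 1, nat_lit 2, nat_lit 3, nat_lit 8, nat_lit 5, nat_lit 6, nat_lit 4, nat_lit 5, nat_lit 3, nat_lit 4, nat_lit 2, nat_lit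 3, nat_lit 8, nat_lit 1, nat_lit 2, nat_lit 3, nat_lit 4, nat_lit 5, nat_lit 8, nat_lit 3, nat_lit 2, nat_lit 1, nat_lit 9, nat_lit 4, nat_lit 3, nat_lit 2, nat_lit 8, nat_lit 3, nat_lit 8, nat_lit 10, nat_lit 1, nat_lit 14, nat_lit 16, nat_lit 8, nat_lit 19, nat_lit 16] (Rl.cmp (nat_lit 2372) (nat_lit 243)))))) (FT.node (nat_lit 2660) (FT.leaf (Fct.mk false (nat_lit 4) (nat_lit 0) (nat_lit 4) [nat_lit 5, nat_lit 4, nat_lit 3, nat_lit 8, nat_lit 6, nat_lit 7, nat_lit 5, nat_lit 6, nat_lit 4, nat_lit 5, nat_lit 3, nat_lit 4, nat_lit 2, nat_lit 3, nat_lit 8, nat_lit 1, nat_lit 2, nat_lit 3, nat_lit 4, nat_lit 5, nat_lit 6, nat_lit 7, nat_lit 5, nat_lit 3, nat_lit 2, nat_lit 8, nat_lit 3, nat_lit 9, nat_lit 8, nat_lit 16, nat_lit 14, nat_lit 12, nat_lit 16] (Rl.cmp (nat_lit 312) (nat_lit 2658)))) (FT.node (nat_lit 2661) (FT.leaf (Fct.mk true (nat_lit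 5) (nat_lit 90913) (nat_lit 5) [nat_lit 6, nat_lit 5, nat_lit 4, nat_lit 2, nat_lit 3, nat_lit 8, nat_lit 1, nat_lit 2, nat_lit 3, nat_lit 4, nat_lit 5, nat_lit 6, nat_lit 7, nat_lit 8, nat_lit 3, nat_lit 4, nat_lit 1, nat_lit 2, nat_lit 3, nat_lit 8, nat_lit 5, nat_lit 6, nat_lit 4, nat_lit 5, nat_lit 3, nat_lit 4, nat_lit 2, nat_lit 3, nat_lit 8, nat_lit 1, nat_lit 2, nat_lit 3, nat_lit 4, nat_lit 5, nat_lit 2, nat_lit 0, nat_lit 1, nat_lit 3, nat_lit 2, nat_lit 8, nat_lit 3, nat_lit 2, nat_lit 10, nat_lit 1, nat_lit 16, nat_lit 15, nat_lit 14, nat_lit 17, nat_lit 18, nat_lit 16] (Rl.rel (nat_lit 0) [nat_lit 6, nat_lit 5, nat_lit 4, nat_lit 3, nat_lit 8, nat_lit 0, nat_lit 1, nat_lit 2, nat_lit 3, nat_lit 4, nat_lit 5, nat_lit 6, nat_lit 7, nat_lit 8, nat_lit 3, nat_lit 4, nat_lit 1, nat_lit 2, nat_lit 3, nat_lit 8, nat_lit 0, nat_lit 1,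 nat_lit 2, nat_lit 3, nat_lit 4, nat_lit 5, nat_lit 1, nat_lit 4, nat_lit 3, nat_lit 2, nat_lit 8, nat_lit 3, nat_lit 11, nat_lit 2, nat_lit 15, nat_lit 14, nat_lit 17, nat_lit 18] (nat_lit 4) (nat_lit 1) [nat_lit 2592] [nat_lit 2659, nat_lit 2409]))) (FT.leaf (Fct.mk true (nat_lit 5) (nat_lit 648) (nat_lit 5) [nat_lit 6, nat_lit 7, nat_lit 4, nat_lit 5, nat_lit 6, nat_lit 3, nat_lit 4, nat_lit 5, nat_lit 2, nat_lit 3, nat_lit 4, nat_lit 1, nat_lit 2, nat_lit 3, nat_lit 8, nat_lit 0, nat_lit 1, nat_lit 2, nat_lit 3, nat_lit 4, nat_lit 5, nat_lit 6, nat_lit 7, nat_lit 1, nat_lit 2, nat_lit 3, nat_lit 8, nat_lit 5, nat_lit 6, nat_lit 4, nat_lit 5, nat_lit 3, nat_lit 4, nat_lit 2, nat_lit 3, nat_lit 8, nat_lit 1, nat_lit 2, nat_lit 3, nat_lit 4, nat_lit 5, nat_lit 1, nat_lit 2, nat_lit 8, nat_lit 3, nat_lit 9, nat_lit 10, nat_lit 2, nat_lit 8,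 nat_lit 10, nat_lit 1, nat_lit 14, nat_lit 16, nat_lit 8] (Rl.t1 (nat_lit 2660) (nat_lit 2657)))))))) (FT.node (nat_lit 2668) (FT.node (nat_lit 2665) (FT.node (nat_lit 2663) (FT.leaf (Fct.mk false (nat_lit 5) (nat_lit 0) (nat_lit 5) [nat_lit 70] (Rl.cmp (nat_lit 511) (nat_lit 470)))) (FT.node (nat_lit 2664) (FT.leaf (Fct.mk false (nat_lit 4) (nat_lit 0) (nat_lit 4) [nat_lit 6, nat_lit 7, nat_lit 5, nat_lit 6, nat_lit 4, nat_lit 5, nat_lit 3, nat_lit 4, nat_lit 2, nat_lit 3, nat_lit 8, nat_lit 1, nat_lit 2, nat_lit 3, nat_lit 4, nat_lit 5, nat_lit 6, nat_lit 7, nat_lit 4, nat_lit 5, nat_lit 2, nat_lit 8, nat_lit 3, nat_lit 10, nat_lit 9, nat_lit 2, nat_lit 12, nat_lit 8, nat_lit 16, nat_lit 14, nat_lit 12, nat_lit 16] (Rl.cmp (nat_lit 1995) (nat_lit 2372)))) (FT.leaf (Fct.mk false (nat_lit 5) (nat_lit 0) (nat_lit 5) [nat_lit 3, nat_lit 4, nat_lit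 5, nat_lit 4, nat_lit 11, nat_lit 1, nat_lit 16, nat_lit 15, nat_lit 14, nat_lit 13, nat_lit 16] (Rl.cmp (nat_lit 1754) (nat_lit 472)))))) (FT.node (nat_lit 2666) (FT.leaf (Fct.mk false (nat_lit 5) (nat_lit 0) (nat_lit 5) [nat_lit 3, nat_lit 4, nat_lit 5, nat_lit 10] (Rl.cmp (nat_lit 470) (nat_lit 2664)))) (FT.node (nat_lit 2667) (FT.leaf (Fct.mk true (nat_lit 5) (nat_lit 3968) (nat_lit 5) [nat_lit 5, nat_lit 4, nat_lit 2, nat_lit 3, nat_lit 8, nat_lit 0, nat_lit 1, nat_lit 2, nat_lit 3, nat_lit 4, nat_lit 5, nat_lit 6, nat_lit 7, nat_lit 1, nat_lit 2, nat_lit 3, nat_lit 8, nat_lit 4, nat_lit 5, nat_lit 3, nat_lit 4, nat_lit 2, nat_lit 3, nat_lit 8, nat_lit 1, nat_lit 2, nat_lit 3, nat_lit 4, nat_lit 5, nat_lit 9, nat_lit 4, nat_lit 3, nat_lit 2, nat_lit 8, nat_lit 3, nat_lit 11, nat_lit 1, nat_lit 12, nat_lit 15, nat_lit 14, nat_lit 16, nat_lit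 8, nat_lit 18] (Rl.rel (nat_lit 0) [nat_lit 6, nat_lit 5, nat_lit 4, nat_lit 3, nat_lit 8, nat_lit 0, nat_lit 1, nat_lit 2, nat_lit 3, nat_lit 4, nat_lit 5, nat_lit 6, nat_lit 7, nat_lit 8, nat_lit 3, nat_lit 4, nat_lit 1, nat_lit 2, nat_lit 3, nat_lit 8, nat_lit 0, nat_lit 1, nat_lit 2, nat_lit 3, nat_lit 4, nat_lit 5, nat_lit 0, nat_lit 1, nat_lit 4, nat_lit 3, nat_lit 2, nat_lit 8, nat_lit 3, nat_lit 11, nat_lit 2, nat_lit 12, nat_lit 15, nat_lit 14, nat_lit 17, nat_lit 18] (nat_lit 4) (nat_lit 1) [nat_lit 2592] [nat_lit 2663, nat_lit 2574]))) (FT.leaf (Fct.mk true (nat_lit 5) (nat_lit 412) (nat_lit 5) [nat_lit 8, nat_lit 2, nat_lit 3, nat_lit 4, nat_lit 5, nat_lit 6, nat_lit 7, nat_lit 2, nat_lit 3, nat_lit 8, nat_lit 4, nat_lit 5, nat_lit 3, nat_lit 4, nat_lit 2, nat_lit 3, nat_lit 8, nat_lit 0, nat_lit 1, nat_lit 2, nat_lit 3, nat_lit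 4, nat_lit 5, nat_lit 1, nat_lit 9, nat_lit 4, nat_lit 3, nat_lit 2, nat_lit 8, nat_lit 3, nat_lit 10, nat_lit 2, nat_lit 8, nat_lit 10, nat_lit 1, nat_lit 16, nat_lit 8, nat_lit 12, nat_lit 15, nat_lit 13, nat_lit 19] (Rl.t1 (nat_lit 2666) (nat_lit 2662))))))) (FT.node (nat_lit 2671) (FT.node (nat_lit 2669) (FT.leaf (Fct.mk true (nat_lit 5) (nat_lit 11789) (nat_lit 5) [nat_lit 8, nat_lit 3, nat_lit 4, nat_lit 1, nat_lit 2, nat_lit 3, nat_lit 8, nat_lit 0, nat_lit 1, nat_lit 2, nat_lit 3, nat_lit 4, nat_lit 5, nat_lit 6, nat_lit 7, nat_lit 4, nat_lit 3, nat_lit 8, nat_lit 1, nat_lit 2, nat_lit 3, nat_lit 4, nat_lit 5, nat_lit 2, nat_lit 1, nat_lit 3, nat_lit 2, nat_lit 8, nat_lit 3, nat_lit 11, nat_lit 2, nat_lit 10, nat_lit 1, nat_lit 17, nat_lit 12, nat_lit 16] (Rl.inv (nat_lit 2667)))) (FT.node (nat_lit 2670) (FT.leaf (Fct.mk true (nat_lit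 5) (nat_lit 2586) (nat_lit 5) [nat_lit 3, nat_lit 8, nat_lit 4, nat_lit 5, nat_lit 3, nat_lit 4, nat_lit 1, nat_lit 2, nat_lit 3, nat_lit 8, nat_lit 0, nat_lit 1, nat_lit 2, nat_lit 3, nat_lit 4, nat_lit 5, nat_lit 6, nat_lit 7, nat_lit 4, nat_lit 3, nat_lit 8, nat_lit 1, nat_lit 2, nat_lit 3, nat_lit 4, nat_lit 5, nat_lit 2, nat_lit 1, nat_lit 3, nat_lit 2, nat_lit 8, nat_lit 3, nat_lit 11, nat_lit 10, nat_lit 1, nat_lit 17, nat_lit 12, nat_lit 16] (Rl.t1 (nat_lit 2668) (nat_lit 2665)))) (FT.leaf (Fct.mk false (nat_lit 4) (nat_lit 0) (nat_lit 4) [nat_lit 2, nat_lit 3, nat_lit 4, nat_lit 1, nat_lit 2, nat_lit 3, nat_lit 8, nat_lit 6, nat_lit 7, nat_lit 5, nat_lit 6, nat_lit 4, nat_lit 5, nat_lit 3, nat_lit 4, nat_lit 2, nat_lit 3, nat_lit 8, nat_lit 1, nat_lit 2, nat_lit 3, nat_lit 4, nat_lit 5, nat_lit 6, nat_lit 7, nat_lit 4, nat_lit 1, nat_lit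 2, nat_lit 3, nat_lit 8, nat_lit 5, nat_lit 6, nat_lit 4, nat_lit 5, nat_lit 3, nat_lit 4, nat_lit 2, nat_lit 3, nat_lit 8, nat_lit 1, nat_lit 2, nat_lit 3, nat_lit 4, nat_lit 5, nat_lit 2, nat_lit 3, nat_lit 8, nat_lit 4, nat_lit 3, nat_lit 2, nat_lit 1, nat_lit 9, nat_lit 4, nat_lit 3, nat_lit 2, nat_lit 8, nat_lit 3, nat_lit 8, nat_lit 10, nat_lit 1, nat_lit 8, nat_lit 16, nat_lit 14, nat_lit 19, nat_lit 16] (Rl.cmp (nat_lit 2372) (nat_lit 263)))))) (FT.node (nat_lit 2673) (FT.node (nat_lit 2672) (FT.leaf (Fct.mk false (nat_lit 5) (nat_lit 0) (nat_lit 5) [nat_lit 0, nat_lit 1, nat_lit 2, nat_lit 3, nat_lit 4, nat_lit 5, nat_lit 1, nat_lit 2, nat_lit 3, nat_lit 11, nat_lit 10, nat_lit 15, nat_lit 14, nat_lit 13] (Rl.cmp (nat_lit 488) (nat_lit 511)))) (FT.leaf (Fct.mk false (nat_lit 5) (nat_lit 0) (nat_lit 5) [nat_lit 6, nat_lit 1, nat_lit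 2, nat_lit 3, nat_lit 16, nat_lit 15, nat_lit 14, nat_lit 12] (Rl.cmp (nat_lit 1754) (nat_lit 2671))))) (FT.node (nat_lit 2674) (FT.leaf (Fct.mk false (nat_lit 5) (nat_lit 0) (nat_lit 5) [nat_lit 3, nat_lit 11, nat_lit 10, nat_lit 13, nat_lit 12, nat_lit 16] (Rl.cmp (nat_lit 511) (nat_lit 2672)))) (FT.leaf (Fct.mk false (nat_lit 5) (nat_lit 0) (nat_lit 5) [nat_lit 8, nat_lit 2, nat_lit 3, nat_lit 4, nat_lit 1, nat_lit 2, nat_lit 3, nat_lit 8, nat_lit 5, nat_lit 6, nat_lit 4, nat_lit 5, nat_lit 3, nat_lit 4, nat_lit 2, nat_lit 3, nat_lit 8, nat_lit 1, nat_lit 2, nat_lit 3, nat_lit 4, nat_lit 5, nat_lit 1, nat_lit 2, nat_lit 3, nat_lit 8, nat_lit 4, nat_lit 3, nat_lit 2, nat_lit 1, nat_lit 9, nat_lit 4, nat_lit 3, nat_lit 2, nat_lit 8, nat_lit 3, nat_lit 11, nat_lit 10, nat_lit 1, nat_lit 15, nat_lit 14, nat_lit 18, nat_lit 16] (Rl.cmp (nat_lit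 2094) (nat_lit 488))))))))) (FT.node (nat_lit 2687) (FT.node (nat_lit 2681) (FT.node (nat_lit 2678) (FT.node (nat_lit 2676) (FT.leaf (Fct.mk false (nat_lit 5) (nat_lit 0) (nat_lit 5) [nat_lit 8, nat_lit 3, nat_lit 4, nat_lit 2, nat_lit 3, nat_lit 8, nat_lit 7, nat_lit 5, nat_lit 6, nat_lit 4, nat_lit 5, nat_lit 3, nat_lit 4, nat_lit 2, nat_lit 3, nat_lit 8, nat_lit 0, nat_lit 1, nat_lit 2, nat_lit 3, nat_lit 4, nat_lit 5, nat_lit 6, nat_lit 7, nat_lit 6, nat_lit 5, nat_lit 4, nat_lit 2, nat_lit 3, nat_lit 8, nat_lit 1, nat_lit 2, nat_lit 3, nat_lit 4, nat_lit 5, nat_lit 1, nat_lit 4, nat_lit 3, nat_lit 2, nat_lit 8, nat_lit 3, nat_lit 11, nat_lit 10, nat_lit 2, nat_lit 8, nat_lit 10, nat_lit 1, nat_lit 8, nat_lit 16, nat_lit 14, nat_lit 17, nat_lit 18] (Rl.cmp (nat_lit 2491) (nat_lit 2674)))) (FT.node (nat_lit 2677) (FT.leaf (Fct.mk false (nat_lit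 5) (nat_lit 0) (nat_lit 5) [nat_lit 4, nat_lit 3, nat_lit 8, nat_lit 2, nat_lit 3, nat_lit 4, nat_lit 1, nat_lit 2, nat_lit 3, nat_lit 8, nat_lit 6, nat_lit 7, nat_lit 5, nat_lit 6, nat_lit 4, nat_lit 5, nat_lit 3, nat_lit 4, nat_lit 2, nat_lit 3, nat_lit 8, nat_lit 1, nat_lit 2, nat_lit 3, nat_lit 4, nat_lit 5, nat_lit 6, nat_lit 7, nat_lit 6, nat_lit 5, nat_lit 4, nat_lit 3, nat_lit 8, nat_lit 1, nat_lit 2, nat_lit 3, nat_lit 4, nat_lit 5, nat_lit 1, nat_lit 9, nat_lit 4, nat_lit 3, nat_lit 2, nat_lit 8, nat_lit 3, nat_lit 10, nat_lit 9, nat_lit 2, nat_lit 15, nat_lit 14, nat_lit 17, nat_lit 12, nat_lit 18, nat_lit 16] (Rl.cmp (nat_lit 511) (nat_lit 2675)))) (FT.leaf (Fct.mk false (nat_lit 5) (nat_lit 0) (nat_lit 5) [nat_lit 8, nat_lit 4, nat_lit 5, nat_lit 2, nat_lit 3, nat_lit 4, nat_lit 1, nat_lit 2, nat_lit 3, nat_lit 8, nat_lit 6, nat_lit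 7, nat_lit 5, nat_lit 6, nat_lit 4, nat_lit 5, nat_lit 3, nat_lit 4, nat_lit 2, nat_lit 3, nat_lit 8, nat_lit 1, nat_lit 2, nat_lit 3, nat_lit 4, nat_lit 5, nat_lit 6, nat_lit 7, nat_lit 0, nat_lit 1, nat_lit 2, nat_lit 3, nat_lit 4, nat_lit 5, nat_lit 3, nat_lit 2, nat_lit 1, nat_lit 8, nat_lit 3, nat_lit 2, nat_lit 0, nat_lit 1, nat_lit 4, nat_lit 3, nat_lit 2, nat_lit 8, nat_lit 3, nat_lit 2, nat_lit 8, nat_lit 12, nat_lit 15, nat_lit 14, nat_lit 8, nat_lit 18] (Rl.cmp (nat_lit 1754) (nat_lit 2676)))))) (FT.node (nat_lit 2679) (FT.leaf (Fct.mk false (nat_lit 5) (nat_lit 0) (nat_lit 5) [nat_lit 8, nat_lit 3, nat_lit 4, nat_lit 2, nat_lit 3, nat_lit 8, nat_lit 7, nat_lit 5, nat_lit 6, nat_lit 4, nat_lit 5, nat_lit 3, nat_lit 4, nat_lit 2, nat_lit 3, nat_lit 8, nat_lit 0, nat_lit 1, nat_lit 2, nat_lit 3, nat_lit 4, nat_lit 5, nat_lit 6, nat_lit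 7, nat_lit 8, nat_lit 4, nat_lit 5, nat_lit 3, nat_lit 4, nat_lit 2, nat_lit 3, nat_lit 8, nat_lit 1, nat_lit 2, nat_lit 3, nat_lit 4, nat_lit 5, nat_lit 3, nat_lit 2, nat_lit 1, nat_lit 4, nat_lit 3, nat_lit 2, nat_lit 8, nat_lit 3, nat_lit 0, nat_lit 16, nat_lit 14, nat_lit 17, nat_lit 16] (Rl.cmp (nat_lit 2491) (nat_lit 1859)))) (FT.node (nat_lit 2680) (FT.leaf (Fct.mk false (nat_lit 5) (nat_lit 0) (nat_lit 5) [nat_lit 8, nat_lit 2, nat_lit 3, nat_lit 4, nat_lit 1, nat_lit 2, nat_lit 3, nat_lit 8, nat_lit 5, nat_lit 6, nat_lit 4, nat_lit 5, nat_lit 3, nat_lit 4, nat_lit 2, nat_lit 3, nat_lit 8, nat_lit 1, nat_lit 2, nat_lit 3, nat_lit 4, nat_lit 5, nat_lit 0, nat_lit 1, nat_lit 2, nat_lit 3, nat_lit 9, nat_lit 16, nat_lit 15, nat_lit 14, nat_lit 13] (Rl.cmp (nat_lit 2094) (nat_lit 470)))) (FT.leaf (Fct.mk false (nat_lit 5) (nat_lit 0) (nat_lit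 5) [nat_lit 8, nat_lit 3, nat_lit 4, nat_lit 2, nat_lit 3, nat_lit 8, nat_lit 7, nat_lit 5, nat_lit 6, nat_lit 4, nat_lit 5, nat_lit 3, nat_lit 4, nat_lit 2, nat_lit 3, nat_lit 8, nat_lit 0, nat_lit 1, nat_lit 2, nat_lit 3, nat_lit 4, nat_lit 5, nat_lit 6, nat_lit 7, nat_lit 6, nat_lit 5, nat_lit 4, nat_lit 2, nat_lit 3, nat_lit 8, nat_lit 1, nat_lit 2, nat_lit 3, nat_lit 4, nat_lit 5, nat_lit 1, nat_lit 3, nat_lit 2, nat_lit 8, nat_lit 3, nat_lit 0, nat_lit 16, nat_lit 8, nat_lit 19, nat_lit 16] (Rl.cmp (nat_lit 2491) (nat_lit 2679))))))) (FT.node (nat_lit 2684) (FT.node (nat_lit 2682) (FT.leaf (Fct.mk false (nat_lit 5) (nat_lit 0) (nat_lit 5) [nat_lit 8, nat_lit 3, nat_lit 4, nat_lit 2, nat_lit 3, nat_lit 8, nat_lit 7, nat_lit 5, nat_lit 6, nat_lit 4, nat_lit 5, nat_lit 3, nat_lit 4, nat_lit 2, nat_lit 3, nat_lit 8, nat_lit 0, nat_lit 1,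 nat_lit 2, nat_lit 3, nat_lit 4, nat_lit 5, nat_lit 6, nat_lit 7, nat_lit 2, nat_lit 3, nat_lit 8, nat_lit 4, nat_lit 5, nat_lit 3, nat_lit 4, nat_lit 2, nat_lit 3, nat_lit 8, nat_lit 1, nat_lit 2, nat_lit 3, nat_lit 4, nat_lit 5, nat_lit 2, nat_lit 1, nat_lit 4, nat_lit 3, nat_lit 2, nat_lit 8, nat_lit 3, nat_lit 11, nat_lit 2, nat_lit 8, nat_lit 10, nat_lit 1, nat_lit 12, nat_lit 8, nat_lit 16, nat_lit 14, nat_lit 13, nat_lit 12, nat_lit 16] (Rl.cmp (nat_lit 470) (nat_lit 2680)))) (FT.node (nat_lit 2683) (FT.leaf (Fct.mk false (nat_lit 5) (nat_lit 0) (nat_lit 5) [nat_lit 8, nat_lit 4, nat_lit 5, nat_lit 2, nat_lit 3, nat_lit 4, nat_lit 1, nat_lit 2, nat_lit 3, nat_lit 8, nat_lit 6, nat_lit 7, nat_lit 5, nat_lit 6, nat_lit 4, nat_lit 5, nat_lit 3, nat_lit 4, nat_lit 2, nat_lit 3, nat_lit 8, nat_lit 1, nat_lit 2, nat_lit 3, nat_lit 4, nat_lit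 5, nat_lit 6, nat_lit 7, nat_lit 6, nat_lit 5, nat_lit 4, nat_lit 3, nat_lit 8, nat_lit 2, nat_lit 3, nat_lit 4, nat_lit 1, nat_lit 2, nat_lit 3, nat_lit 8, nat_lit 5, nat_lit 6, nat_lit 4, nat_lit 5, nat_lit 3, nat_lit 4, nat_lit 2, nat_lit 3, nat_lit 8, nat_lit 1, nat_lit 2, nat_lit 3, nat_lit 4, nat_lit 5, nat_lit 2, nat_lit 3, nat_lit 11, nat_lit 2, nat_lit 10, nat_lit 1, nat_lit 13] (Rl.cmp (nat_lit 2491) (nat_lit 2491)))) (FT.leaf (Fct.mk false (nat_lit 5) (nat_lit 0) (nat_lit 5) [nat_lit 8, nat_lit 4, nat_lit 5, nat_lit 2, nat_lit 3, nat_lit 4, nat_lit 1, nat_lit 2, nat_lit 3, nat_lit 8, nat_lit 6, nat_lit 7, nat_lit 5, nat_lit 6, nat_lit 4, nat_lit 5, nat_lit 3, nat_lit 4, nat_lit 2, nat_lit 3, nat_lit 8, nat_lit 1, nat_lit 2, nat_lit 3, nat_lit 4, nat_lit 5, nat_lit 6, nat_lit 7, nat_lit 6, nat_lit 8, nat_lit 3, nat_lit 2, nat_lit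 1, nat_lit 9, nat_lit 4, nat_lit 3, nat_lit 2, nat_lit 8, nat_lit 3, nat_lit 11, nat_lit 12, nat_lit 8, nat_lit 16, nat_lit 14, nat_lit 17] (Rl.cmp (nat_lit 488) (nat_lit 2682)))))) (FT.node (nat_lit 2685) (FT.leaf (Fct.mk false (nat_lit 5) (nat_lit 0) (nat_lit 5) [nat_lit 8, nat_lit 4, nat_lit 5, nat_lit 2, nat_lit 3, nat_lit 4, nat_lit 1, nat_lit 2, nat_lit 3, nat_lit 8, nat_lit 6, nat_lit 7, nat_lit 5, nat_lit 6, nat_lit 4, nat_lit 5, nat_lit 3, nat_lit 4, nat_lit 2, nat_lit 3, nat_lit 8, nat_lit 1, nat_lit 2, nat_lit 3, nat_lit 4, nat_lit 5, nat_lit 6, nat_lit 7, nat_lit 6, nat_lit 8, nat_lit 3, nat_lit 2, nat_lit 1, nat_lit 4, nat_lit 3, nat_lit 2, nat_lit 8, nat_lit 3, nat_lit 11, nat_lit 12, nat_lit 15, nat_lit 14, nat_lit 8, nat_lit 18] (Rl.cmp (nat_lit 1859) (nat_lit 2683)))) (FT.node (nat_lit 2686) (FT.leaf (Fct.mk false (nat_lit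 25) (nat_lit 0) (nat_lit 25) [nat_lit 6, nat_lit 4, nat_lit 5, nat_lit 2, nat_lit 3, nat_lit 4, nat_lit 1, nat_lit 2, nat_lit 3, nat_lit 8, nat_lit 0, nat_lit 1, nat_lit 2, nat_lit 3, nat_lit 4, nat_lit 5, nat_lit 1, nat_lit 2, nat_lit 0, nat_lit 1, nat_lit 3, nat_lit 2, nat_lit 8, nat_lit 3, nat_lit 11, nat_lit 8, nat_lit 10, nat_lit 1, nat_lit 12, nat_lit 15, nat_lit 16, nat_lit 8, nat_lit 18] (Rl.cmp (nat_lit 1247) (nat_lit 1237)))) (FT.leaf (Fct.mk false (nat_lit 25) (nat_lit 0) (nat_lit 25) [nat_lit 4, nat_lit 3, nat_lit 8, nat_lit 2, nat_lit 3, nat_lit 4, nat_lit 1, nat_lit 2, nat_lit 3, nat_lit 8, nat_lit 5, nat_lit 6, nat_lit 4, nat_lit 5, nat_lit 3, nat_lit 4, nat_lit 2, nat_lit 3, nat_lit 8, nat_lit 1, nat_lit 2, nat_lit 3, nat_lit 4, nat_lit 5, nat_lit 3, nat_lit 10, nat_lit 9, nat_lit 2, nat_lit 8, nat_lit 16, nat_lit 15, nat_lit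 14, nat_lit 17, nat_lit 12, nat_lit 18, nat_lit 16] (Rl.cmp (nat_lit 2004) (nat_lit 2685)))))))) (FT.node (nat_lit 2693) (FT.node (nat_lit 2690) (FT.node (nat_lit 2688) (FT.leaf (Fct.mk false (nat_lit 25) (nat_lit 0) (nat_lit 25) [nat_lit 1, nat_lit 2, nat_lit 3, nat_lit 8, nat_lit 6, nat_lit 4, nat_lit 5, nat_lit 3, nat_lit 4, nat_lit 2, nat_lit 3, nat_lit 8, nat_lit 1, nat_lit 2, nat_lit 3, nat_lit 4, nat_lit 5, nat_lit 2, nat_lit 3, nat_lit 8, nat_lit 4, nat_lit 3, nat_lit 2, nat_lit 0, nat_lit 1, nat_lit 9, nat_lit 4, nat_lit 3, nat_lit 2, nat_lit 8, nat_lit 3, nat_lit 2, nat_lit 8, nat_lit 10, nat_lit 1, nat_lit 12, nat_lit 8, nat_lit 16, nat_lit 14, nat_lit 8] (Rl.cmp (nat_lit 2117) (nat_lit 2686)))) (FT.node (nat_lit 2689) (FT.leaf (Fct.mk false (nat_lit 25) (nat_lit 0) (nat_lit 25) [nat_lit 6, nat_lit 5, nat_lit 4, nat_lit 3, nat_lit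 8, nat_lit 2, nat_lit 3, nat_lit 4, nat_lit 1, nat_lit 2, nat_lit 3, nat_lit 8, nat_lit 5, nat_lit 6, nat_lit 4, nat_lit 5, nat_lit 3, nat_lit 4, nat_lit 2, nat_lit 3, nat_lit 8, nat_lit 1, nat_lit 2, nat_lit 3, nat_lit 4, nat_lit 5, nat_lit 2, nat_lit 3, nat_lit 8, nat_lit 4, nat_lit 3, nat_lit 2, nat_lit 1, nat_lit 9, nat_lit 4, nat_lit 3, nat_lit 2, nat_lit 8, nat_lit 3, nat_lit 11, nat_lit 8, nat_lit 10, nat_lit 1, nat_lit 12, nat_lit 8, nat_lit 16, nat_lit 14, nat_lit 17] (Rl.cmp (nat_lit 1813) (nat_lit 2687)))) (FT.leaf (Fct.mk true (nat_lit 5) (nat_lit 118570) (nat_lit 25) [nat_lit 7, nat_lit 6, nat_lit 3, nat_lit 2, nat_lit 1, nat_lit 9, nat_lit 4, nat_lit 3, nat_lit 2, nat_lit 8, nat_lit 3, nat_lit 11, nat_lit 10, nat_lit 2, nat_lit 8, nat_lit 10, nat_lit 1, nat_lit 8, nat_lit 16, nat_lit 15, nat_lit 14, nat_lit 16, nat_lit 8, nat_lit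 19, nat_lit 16] (Rl.rel (nat_lit 0) [nat_lit 8, nat_lit 4, nat_lit 5, nat_lit 2, nat_lit 3, nat_lit 4, nat_lit 1, nat_lit 2, nat_lit 3, nat_lit 8, nat_lit 0, nat_lit 1, nat_lit 2, nat_lit 3, nat_lit 4, nat_lit 5, nat_lit 6, nat_lit 7, nat_lit 3, nat_lit 8, nat_lit 2, nat_lit 3, nat_lit 4, nat_lit 1, nat_lit 2, nat_lit 3, nat_lit 8, nat_lit 0, nat_lit 1, nat_lit 2, nat_lit 3, nat_lit 4, nat_lit 5, nat_lit 1, nat_lit 2, nat_lit 0, nat_lit 1, nat_lit 3, nat_lit 2, nat_lit 8, nat_lit 3, nat_lit 15, nat_lit 16, nat_lit 8, nat_lit 19] (nat_lit 5) (nat_lit 1) [nat_lit 2669] [nat_lit 2684, nat_lit 2540]))))) (FT.node (nat_lit 2691) (FT.leaf (Fct.mk true (nat_lit 5) (nat_lit 933) (nat_lit 25) [nat_lit 0, nat_lit 1, nat_lit 2, nat_lit 3, nat_lit 4, nat_lit 5, nat_lit 6, nat_lit 7, nat_lit 5, nat_lit 4, nat_lit 3, nat_lit 8, nat_lit 2, nat_lit 3, nat_lit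 4, nat_lit 1, nat_lit 2, nat_lit 3, nat_lit 8, nat_lit 5, nat_lit 6, nat_lit 4, nat_lit 5, nat_lit 3, nat_lit 4, nat_lit 2, nat_lit 3, nat_lit 8, nat_lit 1, nat_lit 2, nat_lit 3, nat_lit 4, nat_lit 5, nat_lit 2, nat_lit 1, nat_lit 4, nat_lit 3, nat_lit 2, nat_lit 0, nat_lit 1, nat_lit 9, nat_lit 4, nat_lit 3, nat_lit 2, nat_lit 8, nat_lit 3, nat_lit 8, nat_lit 10, nat_lit 8, nat_lit 12, nat_lit 15, nat_lit 14, nat_lit 13, nat_lit 12, nat_lit 19, nat_lit 16] (Rl.t1 (nat_lit 2689) (nat_lit 2681)))) (FT.node (nat_lit 2692) (FT.leaf (Fct.mk true (nat_lit 25) (nat_lit 80842) (nat_lit 5) [nat_lit 5, nat_lit 4, nat_lit 3, nat_lit 8, nat_lit 2, nat_lit 3, nat_lit 4, nat_lit 5, nat_lit 6, nat_lit 7, nat_lit 5, nat_lit 4, nat_lit 3, nat_lit 8, nat_lit 1, nat_lit 2, nat_lit 3, nat_lit 4, nat_lit 5, nat_lit 3, nat_lit 2, nat_lit 1, nat_lit 8, nat_lit 3,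 nat_lit 2, nat_lit 0, nat_lit 1, nat_lit 4, nat_lit 3, nat_lit 2, nat_lit 8, nat_lit 3, nat_lit 11, nat_lit 10, nat_lit 8, nat_lit 16, nat_lit 14, nat_lit 8, nat_lit 19] (Rl.inv (nat_lit 2690)))) (FT.leaf (Fct.mk true (nat_lit 25) (nat_lit 186) (nat_lit 5) [nat_lit 1, nat_lit 2, nat_lit 3, nat_lit 8, nat_lit 4, nat_lit 5, nat_lit 3, nat_lit 4, nat_lit 2, nat_lit 3, nat_lit 8, nat_lit 1, nat_lit 2, nat_lit 3, nat_lit 4, nat_lit 5, nat_lit 6, nat_lit 7, nat_lit 1, nat_lit 2, nat_lit 3, nat_lit 8, nat_lit 0, nat_lit 1, nat_lit 2, nat_lit 3, nat_lit 4, nat_lit 5, nat_lit 0, nat_lit 1, nat_lit 2, nat_lit 3, nat_lit 9, nat_lit 2, nat_lit 12, nat_lit 15] (Rl.t1 (nat_lit 2691) (nat_lit 2688))))))) (FT.node (nat_lit 2696) (FT.node (nat_lit 2694) (FT.leaf (Fct.mk false (nat_lit 5) (nat_lit 0) (nat_lit 5) [nat_lit 8, nat_lit 3, nat_lit 4, nat_lit 2, nat_lit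 3, nat_lit 8, nat_lit 7, nat_lit 5, nat_lit 6, nat_lit 4, nat_lit 5, nat_lit 3, nat_lit 4, nat_lit 2, nat_lit 3, nat_lit 8, nat_lit 0, nat_lit 1, nat_lit 2, nat_lit 3, nat_lit 4, nat_lit 5, nat_lit 6, nat_lit 7, nat_lit 6, nat_lit 5, nat_lit 4, nat_lit 3, nat_lit 8, nat_lit 1, nat_lit 2, nat_lit 3, nat_lit 4, nat_lit 5, nat_lit 1, nat_lit 3, nat_lit 2, nat_lit 8, nat_lit 3, nat_lit 11, nat_lit 10, nat_lit 2, nat_lit 8, nat_lit 10, nat_lit 1, nat_lit 8, nat_lit 16, nat_lit 14, nat_lit 17, nat_lit 18] (Rl.cmp (nat_lit 2491) (nat_lit 2094)))) (FT.node (nat_lit 2695) (FT.leaf (Fct.mk false (nat_lit 5) (nat_lit 0) (nat_lit 5) [nat_lit 1, nat_lit 2, nat_lit 3, nat_lit 11, nat_lit 2, nat_lit 10, nat_lit 1, nat_lit 16, nat_lit 12, nat_lit 15, nat_lit 14, nat_lit 13, nat_lit 16] (Rl.cmp (nat_lit 1859) (nat_lit 511)))) (FT.leaf (Fct.mk false (nat_lit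 5) (nat_lit 0) (nat_lit 5) [nat_lit 5, nat_lit 1, nat_lit 2, nat_lit 3, nat_lit 11, nat_lit 10, nat_lit 1, nat_lit 16, nat_lit 12, nat_lit 15, nat_lit 14, nat_lit 13, nat_lit 16] (Rl.cmp (nat_lit 488) (nat_lit 2694)))))) (FT.node (nat_lit 2698) (FT.node (nat_lit 2697) (FT.leaf (Fct.mk false (nat_lit 5) (nat_lit 0) (nat_lit 5) [nat_lit 8, nat_lit 3, nat_lit 4, nat_lit 2, nat_lit 3, nat_lit 8, nat_lit 7, nat_lit 5, nat_lit 6, nat_lit 4, nat_lit 5, nat_lit 3, nat_lit 4, nat_lit 2, nat_lit 3, nat_lit 8, nat_lit 0, nat_lit 1, nat_lit 2, nat_lit 3, nat_lit 4, nat_lit 5, nat_lit 6, nat_lit 7, nat_lit 0, nat_lit 1, nat_lit 2, nat_lit 3, nat_lit 4, nat_lit 5, nat_lit 8, nat_lit 3, nat_lit 2, nat_lit 1, nat_lit 4, nat_lit 3, nat_lit 2, nat_lit 8, nat_lit 3, nat_lit 2, nat_lit 8, nat_lit 10, nat_lit 1, nat_lit 12, nat_lit 15, nat_lit 14, nat_lit 18, nat_lit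 16] (Rl.cmp (nat_lit 2491) (nat_lit 2695)))) (FT.leaf (Fct.mk false (nat_lit 5) (nat_lit 0) (nat_lit 5) [nat_lit 8, nat_lit 4, nat_lit 5, nat_lit 2, nat_lit 3, nat_lit 4, nat_lit 1, nat_lit 2, nat_lit 3, nat_lit 8, nat_lit 6, nat_lit 7, nat_lit 5, nat_lit 6, nat_lit 4, nat_lit 5, nat_lit 3, nat_lit 4, nat_lit 2, nat_lit 3, nat_lit 8, nat_lit 1, nat_lit 2, nat_lit 3, nat_lit 4, nat_lit 5, nat_lit 6, nat_lit 7, nat_lit 6, nat_lit 5, nat_lit 4, nat_lit 3, nat_lit 8, nat_lit 2, nat_lit 3, nat_lit 4, nat_lit 5, nat_lit 2, nat_lit 3, nat_lit 8, nat_lit 4, nat_lit 3, nat_lit 2, nat_lit 0, nat_lit 1, nat_lit 9, nat_lit 4, nat_lit 3, nat_lit 2, nat_lit 8, nat_lit 3, nat_lit 11, nat_lit 10, nat_lit 1, nat_lit 12, nat_lit 15, nat_lit 12, nat_lit 16] (Rl.cmp (nat_lit 2491) (nat_lit 2696))))) (FT.node (nat_lit 2699) (FT.leaf (Fct.mk false (nat_lit 5) (nat_lit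 0) (nat_lit 5) [nat_lit 8, nat_lit 3, nat_lit 4, nat_lit 2, nat_lit 3, nat_lit 8, nat_lit 7, nat_lit 5, nat_lit 6, nat_lit 4, nat_lit 5, nat_lit 3, nat_lit 4, nat_lit 2, nat_lit 3, nat_lit 8, nat_lit 0, nat_lit 1, nat_lit 2, nat_lit 3, nat_lit 4, nat_lit 5, nat_lit 6, nat_lit 7, nat_lit 8, nat_lit 3, nat_lit 4, nat_lit 2, nat_lit 3, nat_lit 8, nat_lit 1, nat_lit 2, nat_lit 3, nat_lit 4, nat_lit 5, nat_lit 3, nat_lit 2, nat_lit 1, nat_lit 4, nat_lit 3, nat_lit 2, nat_lit 8, nat_lit 3, nat_lit 2, nat_lit 8, nat_lit 10, nat_lit 1, nat_lit 16, nat_lit 15, nat_lit 14, nat_lit 17, nat_lit 12] (Rl.cmp (nat_lit 2491) (nat_lit 472)))) (FT.leaf (Fct.mk false (nat_lit 5) (nat_lit 0) (nat_lit 5) [nat_lit 8, nat_lit 3, nat_lit 4, nat_lit 2, nat_lit 3, nat_lit 8, nat_lit 7, nat_lit 5, nat_lit 6, nat_lit 4, nat_lit 5, nat_lit 3, nat_lit 4, nat_lit 2, nat_lit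 3, nat_lit 8, nat_lit 0, nat_lit 1, nat_lit 2, nat_lit 3, nat_lit 4, nat_lit 5, nat_lit 6, nat_lit 7, nat_lit 5, nat_lit 6, nat_lit 4, nat_lit 5, nat_lit 3, nat_lit 4, nat_lit 2, nat_lit 3, nat_lit 8, nat_lit 1, nat_lit 2, nat_lit 3, nat_lit 4, nat_lit 5, nat_lit 1, nat_lit 3, nat_lit 2, nat_lit 8, nat_lit 3, nat_lit 9, nat_lit 2, nat_lit 8, nat_lit 12, nat_lit 15, nat_lit 12, nat_lit 19] (Rl.cmp (nat_lit 470) (nat_lit 2698)))))))))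

/-- some facts -/
noncomputable def ftc54 : FT := FT.node (nat_lit 2725) (FT.node (nat_lit 2712) (FT.node (nat_lit 2706) (FT.node (nat_lit 2703) (FT.node (nat_lit 2701) (FT.leaf (Fct.mk false (nat_lit 5) (nat_lit 0) (nat_lit 5) [nat_lit 8, nat_lit 3, nat_lit 4, nat_lit 2, nat_lit 3, nat_lit 8, nat_lit 7, nat_lit 5, nat_lit 6, nat_lit 4, nat_lit 5, nat_lit 3, nat_lit 4, nat_lit 2, nat_lit 3, nat_lit 8, nat_lit 0, nat_lit 1, nat_lit 2, nat_lit 3, nat_lit 4, nat_lit 5, nat_lit 6, nat_lit 7, nat_lit 0, nat_lit 1, nat_lit 2, nat_lit 3, nat_lit 4, nat_lit 5, nat_lit 2, nat_lit 1, nat_lit 8, nat_lit 3, nat_lit 2, nat_lit 0, nat_lit 1, nat_lit 4, nat_lit 3, nat_lit 2, nat_lit 8, nat_lit 3, nat_lit 1, nat_lit 8, nat_lit 16, nat_lit 14, nat_lit 17, nat_lit 12] (Rl.cmp (nat_lit 1754) (nat_lit 2699)))) (FT.node (nat_lit 2702) (FT.leaf (Fct.mk false (nat_lit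 5) (nat_lit 0) (nat_lit 5) [nat_lit 4, nat_lit 3, nat_lit 8, nat_lit 2, nat_lit 3, nat_lit 4, nat_lit 1, nat_lit 2, nat_lit 3, nat_lit 8, nat_lit 6, nat_lit 7, nat_lit 5, nat_lit 6, nat_lit 4, nat_lit 5, nat_lit 3, nat_lit 4, nat_lit 2, nat_lit 3, nat_lit 8, nat_lit 1, nat_lit 2, nat_lit 3, nat_lit 4, nat_lit 5, nat_lit 6, nat_lit 7, nat_lit 6, nat_lit 4, nat_lit 5, nat_lit 3, nat_lit 4, nat_lit 2, nat_lit 3, nat_lit 8, nat_lit 1, nat_lit 2, nat_lit 3, nat_lit 4, nat_lit 5, nat_lit 1, nat_lit 3, nat_lit 2, nat_lit 8, nat_lit 3, nat_lit 2, nat_lit 8, nat_lit 19, nat_lit 16] (Rl.cmp (nat_lit 1859) (nat_lit 2700)))) (FT.leaf (Fct.mk true (nat_lit 5) (nat_lit 77386) (nat_lit 5) [nat_lit 8, nat_lit 4, nat_lit 5, nat_lit 2, nat_lit 3, nat_lit 4, nat_lit 1, nat_lit 2, nat_lit 3, nat_lit 8, nat_lit 0, nat_lit 1, nat_lit 2, nat_lit 3, nat_lit 4, nat_lit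 5, nat_lit 6, nat_lit 7, nat_lit 3, nat_lit 8, nat_lit 5, nat_lit 6, nat_lit 4, nat_lit 5, nat_lit 3, nat_lit 4, nat_lit 2, nat_lit 3, nat_lit 8, nat_lit 1, nat_lit 2, nat_lit 3, nat_lit 4, nat_lit 5, nat_lit 2, nat_lit 1, nat_lit 3, nat_lit 2, nat_lit 0, nat_lit 1, nat_lit 4, nat_lit 3, nat_lit 2, nat_lit 8, nat_lit 3, nat_lit 2, nat_lit 10, nat_lit 1, nat_lit 12, nat_lit 15, nat_lit 14, nat_lit 16] (Rl.rel (nat_lit 0) [nat_lit 4, nat_lit 5, nat_lit 6, nat_lit 3, nat_lit 4, nat_lit 5, nat_lit 2, nat_lit 3, nat_lit 4, nat_lit 1, nat_lit 2, nat_lit 3, nat_lit 8, nat_lit 0, nat_lit 1, nat_lit 2, nat_lit 3, nat_lit 4, nat_lit 5, nat_lit 6, nat_lit 7, nat_lit 3, nat_lit 8, nat_lit 5, nat_lit 2, nat_lit 3, nat_lit 4, nat_lit 1, nat_lit 2, nat_lit 3, nat_lit 8, nat_lit 0, nat_lit 1, nat_lit 2, nat_lit 3, nat_lit 4, nat_lit 5, nat_lit 4, nat_lit 2,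 nat_lit 10, nat_lit 1, nat_lit 8, nat_lit 12, nat_lit 15, nat_lit 14, nat_lit 16, nat_lit 8, nat_lit 18] (nat_lit 5) (nat_lit 2) [nat_lit 2669, nat_lit 2697, nat_lit 2496, nat_lit 2091] []))))) (FT.node (nat_lit 2704) (FT.leaf (Fct.mk true (nat_lit 5) (nat_lit 932) (nat_lit 5) [nat_lit 4, nat_lit 3, nat_lit 8, nat_lit 7, nat_lit 5, nat_lit 6, nat_lit 4, nat_lit 5, nat_lit 3, nat_lit 4, nat_lit 1, nat_lit 2, nat_lit 3, nat_lit 8, nat_lit 0, nat_lit 1, nat_lit 2, nat_lit 3, nat_lit 4, nat_lit 5, nat_lit 6, nat_lit 7, nat_lit 2, nat_lit 3, nat_lit 8, nat_lit 6, nat_lit 4, nat_lit 5, nat_lit 3, nat_lit 4, nat_lit 2, nat_lit 3, nat_lit 8, nat_lit 1, nat_lit 2, nat_lit 3, nat_lit 4, nat_lit 5, nat_lit 2, nat_lit 3, nat_lit 11, nat_lit 10, nat_lit 1, nat_lit 8, nat_lit 12, nat_lit 15, nat_lit 14, nat_lit 13, nat_lit 12, nat_lit 18, nat_lit 16] (Rl.t1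 (nat_lit 2702) (nat_lit 2701)))) (FT.node (nat_lit 2705) (FT.leaf (Fct.mk false (nat_lit 5) (nat_lit 0) (nat_lit 5) [nat_lit 8, nat_lit 3, nat_lit 4, nat_lit 2, nat_lit 3, nat_lit 8, nat_lit 7, nat_lit 5, nat_lit 6, nat_lit 4, nat_lit 5, nat_lit 3, nat_lit 4, nat_lit 2, nat_lit 3, nat_lit 8, nat_lit 0, nat_lit 1, nat_lit 2, nat_lit 3, nat_lit 4, nat_lit 5, nat_lit 6, nat_lit 7, nat_lit 5, nat_lit 6, nat_lit 4, nat_lit 5, nat_lit 3, nat_lit 4, nat_lit 2, nat_lit 3, nat_lit 8, nat_lit 1, nat_lit 2, nat_lit 3, nat_lit 4, nat_lit 5, nat_lit 1, nat_lit 2, nat_lit 8, nat_lit 3, nat_lit 10, nat_lit 2, nat_lit 8, nat_lit 10, nat_lit 1, nat_lit 12, nat_lit 15, nat_lit 17, nat_lit 12, nat_lit 16] (Rl.cmp (nat_lit 493) (nat_lit 2491)))) (FT.leaf (Fct.mk false (nat_lit 5) (nat_lit 0) (nat_lit 5) [nat_lit 11, nat_lit 10, nat_lit 16, nat_lit 15, nat_lit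 14, nat_lit 13, nat_lit 16] (Rl.cmp (nat_lit 493) (nat_lit 472))))))) (FT.node (nat_lit 2709) (FT.node (nat_lit 2707) (FT.leaf (Fct.mk false (nat_lit 5) (nat_lit 0) (nat_lit 5) [nat_lit 70] (Rl.cmp (nat_lit 511) (nat_lit 470)))) (FT.node (nat_lit 2708) (FT.leaf (Fct.mk false (nat_lit 5) (nat_lit 0) (nat_lit 5) [nat_lit 3, nat_lit 4, nat_lit 5, nat_lit 4, nat_lit 11, nat_lit 1, nat_lit 16, nat_lit 15, nat_lit 14, nat_lit 13, nat_lit 16] (Rl.cmp (nat_lit 1754) (nat_lit 472)))) (FT.leaf (Fct.mk false (nat_lit 5) (nat_lit 0) (nat_lit 5) [nat_lit 8, nat_lit 2, nat_lit 3, nat_lit 4, nat_lit 1, nat_lit 2, nat_lit 3, nat_lit 8, nat_lit 5, nat_lit 6, nat_lit 4, nat_lit 5, nat_lit 3, nat_lit 4, nat_lit 2, nat_lit 3, nat_lit 8, nat_lit 1, nat_lit 2, nat_lit 3, nat_lit 4, nat_lit 5, nat_lit 0, nat_lit 1, nat_lit 2, nat_lit 3, nat_lit 9, nat_lit 16, nat_lit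 15, nat_lit 14, nat_lit 13] (Rl.cmp (nat_lit 2094) (nat_lit 470)))))) (FT.node (nat_lit 2710) (FT.leaf (Fct.mk false (nat_lit 5) (nat_lit 0) (nat_lit 5) [nat_lit 1, nat_lit 2, nat_lit 3, nat_lit 4, nat_lit 5, nat_lit 0, nat_lit 1, nat_lit 2, nat_lit 3, nat_lit 1, nat_lit 12, nat_lit 15, nat_lit 12, nat_lit 16] (Rl.cmp (nat_lit 511) (nat_lit 1754)))) (FT.node (nat_lit 2711) (FT.leaf (Fct.mk false (nat_lit 5) (nat_lit 0) (nat_lit 5) [nat_lit 3, nat_lit 8, nat_lit 2, nat_lit 3, nat_lit 4, nat_lit 1, nat_lit 2, nat_lit 3, nat_lit 8, nat_lit 5, nat_lit 6, nat_lit 4, nat_lit 5, nat_lit 3, nat_lit 4, nat_lit 2, nat_lit 3, nat_lit 8, nat_lit 1, nat_lit 2, nat_lit 3, nat_lit 4, nat_lit 5, nat_lit 0, nat_lit 1, nat_lit 2, nat_lit 3, nat_lit 1, nat_lit 16, nat_lit 15, nat_lit 14, nat_lit 13] (Rl.cmp (nat_lit 2094) (nat_lit 472)))) (FT.leaf (Fct.mk false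 (nat_lit 5) (nat_lit 0) (nat_lit 5) [nat_lit 8, nat_lit 3, nat_lit 4, nat_lit 2, nat_lit 3, nat_lit 8, nat_lit 7, nat_lit 5, nat_lit 6, nat_lit 4, nat_lit 5, nat_lit 3, nat_lit 4, nat_lit 2, nat_lit 3, nat_lit 8, nat_lit 0, nat_lit 1, nat_lit 2, nat_lit 3, nat_lit 4, nat_lit 5, nat_lit 6, nat_lit 7, nat_lit 0, nat_lit 1, nat_lit 2, nat_lit 3, nat_lit 4, nat_lit 5, nat_lit 8, nat_lit 3, nat_lit 2, nat_lit 0, nat_lit 1, nat_lit 4, nat_lit 3, nat_lit 2, nat_lit 8, nat_lit 3, nat_lit 11, nat_lit 2, nat_lit 8, nat_lit 12, nat_lit 15, nat_lit 14, nat_lit 13, nat_lit 12, nat_lit 19] (Rl.cmp (nat_lit 2491) (nat_lit 470)))))))) (FT.node (nat_lit 2718) (FT.node (nat_lit 2715) (FT.node (nat_lit 2713) (FT.leaf (Fct.mk false (nat_lit 5) (nat_lit 0) (nat_lit 5) [nat_lit 0, nat_lit 1, nat_lit 2, nat_lit 3, nat_lit 4, nat_lit 5, nat_lit 1, nat_lit 2, nat_lit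 3, nat_lit 11, nat_lit 10, nat_lit 15, nat_lit 14, nat_lit 13] (Rl.cmp (nat_lit 488) (nat_lit 511)))) (FT.node (nat_lit 2714) (FT.leaf (Fct.mk false (nat_lit 5) (nat_lit 0) (nat_lit 5) [nat_lit 4, nat_lit 3, nat_lit 8, nat_lit 2, nat_lit 3, nat_lit 4, nat_lit 1, nat_lit 2, nat_lit 3, nat_lit 8, nat_lit 6, nat_lit 7, nat_lit 5, nat_lit 6, nat_lit 4, nat_lit 5, nat_lit 3, nat_lit 4, nat_lit 2, nat_lit 3, nat_lit 8, nat_lit 1, nat_lit 2, nat_lit 3, nat_lit 4, nat_lit 5, nat_lit 6, nat_lit 7, nat_lit 6, nat_lit 4, nat_lit 5, nat_lit 3, nat_lit 4, nat_lit 2, nat_lit 3, nat_lit 8, nat_lit 1, nat_lit 2, nat_lit 3, nat_lit 4, nat_lit 5, nat_lit 2, nat_lit 3, nat_lit 8, nat_lit 4, nat_lit 3, nat_lit 2, nat_lit 0, nat_lit 1, nat_lit 9, nat_lit 4, nat_lit 3, nat_lit 2, nat_lit 8, nat_lit 3, nat_lit 11, nat_lit 2, nat_lit 10, nat_lit 1, nat_lit 16, nat_lit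 12, nat_lit 15, nat_lit 14, nat_lit 16] (Rl.cmp (nat_lit 1859) (nat_lit 2711)))) (FT.leaf (Fct.mk false (nat_lit 5) (nat_lit 0) (nat_lit 5) [nat_lit 2, nat_lit 3, nat_lit 8, nat_lit 4, nat_lit 5, nat_lit 3, nat_lit 4, nat_lit 2, nat_lit 3, nat_lit 8, nat_lit 6, nat_lit 7, nat_lit 5, nat_lit 6, nat_lit 4, nat_lit 5, nat_lit 3, nat_lit 4, nat_lit 2, nat_lit 3, nat_lit 8, nat_lit 1, nat_lit 2, nat_lit 3, nat_lit 4, nat_lit 5, nat_lit 6, nat_lit 7, nat_lit 6, nat_lit 5, nat_lit 4, nat_lit 3, nat_lit 8, nat_lit 2, nat_lit 3, nat_lit 4, nat_lit 1, nat_lit 2, nat_lit 3, nat_lit 8, nat_lit 5, nat_lit 6, nat_lit 4, nat_lit 5, nat_lit 3, nat_lit 4, nat_lit 2, nat_lit 3, nat_lit 8, nat_lit 1, nat_lit 2, nat_lit 3, nat_lit 4, nat_lit 5, nat_lit 2, nat_lit 3, nat_lit 11, nat_lit 10, nat_lit 1, nat_lit 13] (Rl.cmp (nat_lit 2491) (nat_lit 2713)))))) (FT.node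 (nat_lit 2716) (FT.leaf (Fct.mk false (nat_lit 5) (nat_lit 0) (nat_lit 5) [nat_lit 4, nat_lit 3, nat_lit 8, nat_lit 2, nat_lit 3, nat_lit 4, nat_lit 1, nat_lit 2, nat_lit 3, nat_lit 8, nat_lit 6, nat_lit 7, nat_lit 5, nat_lit 6, nat_lit 4, nat_lit 5, nat_lit 3, nat_lit 4, nat_lit 2, nat_lit 3, nat_lit 8, nat_lit 1, nat_lit 2, nat_lit 3, nat_lit 4, nat_lit 5, nat_lit 6, nat_lit 7, nat_lit 6, nat_lit 5, nat_lit 4, nat_lit 3, nat_lit 8, nat_lit 2, nat_lit 3, nat_lit 4, nat_lit 5, nat_lit 2, nat_lit 3, nat_lit 8, nat_lit 4, nat_lit 3, nat_lit 2, nat_lit 0, nat_lit 1, nat_lit 9, nat_lit 4, nat_lit 3, nat_lit 2, nat_lit 8, nat_lit 3, nat_lit 11, nat_lit 10, nat_lit 12, nat_lit 15, nat_lit 12, nat_lit 16] (Rl.cmp (nat_lit 2094) (nat_lit 2714)))) (FT.node (nat_lit 2717) (FT.leaf (Fct.mk false (nat_lit 5) (nat_lit 0) (nat_lit 5) [nat_lit 8, nat_lit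 3, nat_lit 4, nat_lit 2, nat_lit 3, nat_lit 8, nat_lit 7, nat_lit 5, nat_lit 6, nat_lit 4, nat_lit 5, nat_lit 3, nat_lit 4, nat_lit 2, nat_lit 3, nat_lit 8, nat_lit 0, nat_lit 1, nat_lit 2, nat_lit 3, nat_lit 4, nat_lit 5, nat_lit 6, nat_lit 7, nat_lit 0, nat_lit 1, nat_lit 2, nat_lit 3, nat_lit 4, nat_lit 5, nat_lit 8, nat_lit 3, nat_lit 2, nat_lit 0, nat_lit 1, nat_lit 4, nat_lit 3, nat_lit 2, nat_lit 8, nat_lit 3, nat_lit 11, nat_lit 2, nat_lit 8, nat_lit 12, nat_lit 15, nat_lit 14, nat_lit 13, nat_lit 12, nat_lit 19] (Rl.cmp (nat_lit 2491) (nat_lit 470)))) (FT.leaf (Fct.mk false (nat_lit 5) (nat_lit 0) (nat_lit 5) [nat_lit 8, nat_lit 4, nat_lit 5, nat_lit 2, nat_lit 3, nat_lit 4, nat_lit 1, nat_lit 2, nat_lit 3, nat_lit 8, nat_lit 6, nat_lit 7, nat_lit 5, nat_lit 6, nat_lit 4, nat_lit 5, nat_lit 3, nat_lit 4, nat_lit 2, nat_lit 3, nat_lit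 8, nat_lit 1, nat_lit 2, nat_lit 3, nat_lit 4, nat_lit 5, nat_lit 6, nat_lit 7, nat_lit 6, nat_lit 5, nat_lit 4, nat_lit 3, nat_lit 8, nat_lit 2, nat_lit 3, nat_lit 4, nat_lit 5, nat_lit 1, nat_lit 4, nat_lit 3, nat_lit 2, nat_lit 8, nat_lit 3, nat_lit 11, nat_lit 8, nat_lit 16, nat_lit 14, nat_lit 13, nat_lit 12, nat_lit 19, nat_lit 16] (Rl.cmp (nat_lit 2491) (nat_lit 2716))))))) (FT.node (nat_lit 2721) (FT.node (nat_lit 2719) (FT.leaf (Fct.mk false (nat_lit 5) (nat_lit 0) (nat_lit 5) [nat_lit 8, nat_lit 4, nat_lit 5, nat_lit 2, nat_lit 3, nat_lit 4, nat_lit 1, nat_lit 2, nat_lit 3, nat_lit 8, nat_lit 6, nat_lit 7, nat_lit 5, nat_lit 6, nat_lit 4, nat_lit 5, nat_lit 3, nat_lit 4, nat_lit 2, nat_lit 3, nat_lit 8, nat_lit 1, nat_lit 2, nat_lit 3, nat_lit 4, nat_lit 5, nat_lit 6, nat_lit 7, nat_lit 6, nat_lit 5, nat_lit 4, nat_lit 3, nat_lit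 8, nat_lit 2, nat_lit 3, nat_lit 4, nat_lit 5, nat_lit 1, nat_lit 4, nat_lit 3, nat_lit 2, nat_lit 8, nat_lit 3, nat_lit 2, nat_lit 8, nat_lit 10, nat_lit 1, nat_lit 12, nat_lit 15, nat_lit 17] (Rl.cmp (nat_lit 470) (nat_lit 2717)))) (FT.node (nat_lit 2720) (FT.leaf (Fct.mk false (nat_lit 5) (nat_lit 0) (nat_lit 5) [nat_lit 8, nat_lit 3, nat_lit 4, nat_lit 2, nat_lit 3, nat_lit 8, nat_lit 7, nat_lit 5, nat_lit 6, nat_lit 4, nat_lit 5, nat_lit 3, nat_lit 4, nat_lit 2, nat_lit 3, nat_lit 8, nat_lit 0, nat_lit 1, nat_lit 2, nat_lit 3, nat_lit 4, nat_lit 5, nat_lit 6, nat_lit 7, nat_lit 6, nat_lit 2, nat_lit 3, nat_lit 8, nat_lit 4, nat_lit 3, nat_lit 2, nat_lit 1, nat_lit 9, nat_lit 4, nat_lit 3, nat_lit 2, nat_lit 8, nat_lit 3, nat_lit 2, nat_lit 8, nat_lit 10, nat_lit 1, nat_lit 15, nat_lit 13, nat_lit 12, nat_lit 19] (Rl.cmp (nat_lit 2094)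 (nat_lit 2718)))) (FT.leaf (Fct.mk false (nat_lit 5) (nat_lit 0) (nat_lit 5) [nat_lit 8, nat_lit 3, nat_lit 4, nat_lit 2, nat_lit 3, nat_lit 8, nat_lit 5, nat_lit 6, nat_lit 4, nat_lit 5, nat_lit 3, nat_lit 4, nat_lit 2, nat_lit 3, nat_lit 8, nat_lit 1, nat_lit 2, nat_lit 3, nat_lit 4, nat_lit 5, nat_lit 2, nat_lit 3, nat_lit 8, nat_lit 4, nat_lit 3, nat_lit 2, nat_lit 1, nat_lit 9, nat_lit 4, nat_lit 3, nat_lit 2, nat_lit 8, nat_lit 3, nat_lit 2, nat_lit 8, nat_lit 12, nat_lit 15, nat_lit 14, nat_lit 13, nat_lit 12, nat_lit 19] (Rl.cmp (nat_lit 2094) (nat_lit 511)))))) (FT.node (nat_lit 2723) (FT.node (nat_lit 2722) (FT.leaf (Fct.mk false (nat_lit 5) (nat_lit 0) (nat_lit 5) [nat_lit 8, nat_lit 3, nat_lit 4, nat_lit 1, nat_lit 2, nat_lit 3, nat_lit 8, nat_lit 5, nat_lit 6, nat_lit 4, nat_lit 5, nat_lit 3, nat_lit 4, nat_lit 2, nat_lit 3, nat_lit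 8, nat_lit 1, nat_lit 2, nat_lit 3, nat_lit 4, nat_lit 5, nat_lit 8, nat_lit 3, nat_lit 2, nat_lit 1, nat_lit 9, nat_lit 4, nat_lit 3, nat_lit 2, nat_lit 8, nat_lit 3, nat_lit 11, nat_lit 10, nat_lit 1, nat_lit 8, nat_lit 16, nat_lit 14, nat_lit 17, nat_lit 12] (Rl.cmp (nat_lit 1754) (nat_lit 2720)))) (FT.leaf (Fct.mk false (nat_lit 5) (nat_lit 0) (nat_lit 5) [nat_lit 9, nat_lit 4, nat_lit 11, nat_lit 1, nat_lit 15, nat_lit 14, nat_lit 13] (Rl.cmp (nat_lit 2094) (nat_lit 2721))))) (FT.node (nat_lit 2724) (FT.leaf (Fct.mk false (nat_lit 5) (nat_lit 0) (nat_lit 5) [nat_lit 8, nat_lit 2, nat_lit 3, nat_lit 4, nat_lit 1, nat_lit 2, nat_lit 3, nat_lit 8, nat_lit 5, nat_lit 6, nat_lit 4, nat_lit 5, nat_lit 3, nat_lit 4, nat_lit 2, nat_lit 3, nat_lit 8, nat_lit 1, nat_lit 2, nat_lit 3, nat_lit 4, nat_lit 5, nat_lit 0, nat_lit 1, nat_lit 2, nat_lit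 3, nat_lit 9, nat_lit 16, nat_lit 15, nat_lit 14, nat_lit 13] (Rl.cmp (nat_lit 2094) (nat_lit 470)))) (FT.leaf (Fct.mk false (nat_lit 5) (nat_lit 0) (nat_lit 5) [nat_lit 3, nat_lit 8, nat_lit 2, nat_lit 3, nat_lit 4, nat_lit 1, nat_lit 2, nat_lit 3, nat_lit 8, nat_lit 5, nat_lit 6, nat_lit 4, nat_lit 5, nat_lit 3, nat_lit 4, nat_lit 2, nat_lit 3, nat_lit 8, nat_lit 1, nat_lit 2, nat_lit 3, nat_lit 4, nat_lit 5, nat_lit 0, nat_lit 1, nat_lit 2, nat_lit 3, nat_lit 1, nat_lit 9, nat_lit 16, nat_lit 15, nat_lit 14, nat_lit 13] (Rl.cmp (nat_lit 488) (nat_lit 2723))))))))) (FT.node (nat_lit 2737) (FT.node (nat_lit 2731) (FT.node (nat_lit 2728) (FT.node (nat_lit 2726) (FT.leaf (Fct.mk false (nat_lit 5) (nat_lit 0) (nat_lit 5) [nat_lit 8, nat_lit 3, nat_lit 4, nat_lit 2, nat_lit 3, nat_lit 8, nat_lit 7, nat_lit 5, nat_lit 6, nat_lit 4, nat_lit 5, nat_lit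 3, nat_lit 4, nat_lit 2, nat_lit 3, nat_lit 8, nat_lit 0, nat_lit 1, nat_lit 2, nat_lit 3, nat_lit 4, nat_lit 5, nat_lit 6, nat_lit 7, nat_lit 6, nat_lit 5, nat_lit 4, nat_lit 3, nat_lit 8, nat_lit 1, nat_lit 2, nat_lit 3, nat_lit 4, nat_lit 5, nat_lit 1, nat_lit 3, nat_lit 2, nat_lit 8, nat_lit 3, nat_lit 2, nat_lit 8, nat_lit 10, nat_lit 1, nat_lit 15, nat_lit 14, nat_lit 16, nat_lit 8] (Rl.cmp (nat_lit 2491) (nat_lit 2724)))) (FT.node (nat_lit 2727) (FT.leaf (Fct.mk false (nat_lit 5) (nat_lit 0) (nat_lit 5) [nat_lit 8, nat_lit 4, nat_lit 5, nat_lit 2, nat_lit 3, nat_lit 4, nat_lit 1, nat_lit 2, nat_lit 3, nat_lit 8, nat_lit 6, nat_lit 7, nat_lit 5, nat_lit 6, nat_lit 4, nat_lit 5, nat_lit 3, nat_lit 4, nat_lit 2, nat_lit 3, nat_lit 8, nat_lit 1, nat_lit 2, nat_lit 3, nat_lit 4, nat_lit 5, nat_lit 6, nat_lit 7, nat_lit 8, nat_lit 5, nat_lit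 3, nat_lit 4, nat_lit 2, nat_lit 3, nat_lit 8, nat_lit 1, nat_lit 2, nat_lit 3, nat_lit 4, nat_lit 5, nat_lit 2, nat_lit 1, nat_lit 4, nat_lit 3, nat_lit 2, nat_lit 8, nat_lit 3, nat_lit 10, nat_lit 0, nat_lit 8, nat_lit 16, nat_lit 14, nat_lit 17, nat_lit 16] (Rl.cmp (nat_lit 2491) (nat_lit 2725)))) (FT.leaf (Fct.mk true (nat_lit 5) (nat_lit 59467) (nat_lit 5) [nat_lit 6, nat_lit 5, nat_lit 4, nat_lit 2, nat_lit 3, nat_lit 8, nat_lit 0, nat_lit 1, nat_lit 2, nat_lit 3, nat_lit 4, nat_lit 5, nat_lit 6, nat_lit 7, nat_lit 3, nat_lit 0, nat_lit 16, nat_lit 14, nat_lit 8] (Rl.rel (nat_lit 0) [nat_lit 3, nat_lit 8, nat_lit 2, nat_lit 3, nat_lit 4, nat_lit 5, nat_lit 6, nat_lit 7, nat_lit 8, nat_lit 4, nat_lit 5, nat_lit 3, nat_lit 4, nat_lit 1, nat_lit 2, nat_lit 3, nat_lit 8, nat_lit 0, nat_lit 1, nat_lit 2, nat_lit 3, nat_lit 4, nat_lit 5, nat_lit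 2, nat_lit 1, nat_lit 8, nat_lit 3, nat_lit 2, nat_lit 0, nat_lit 1, nat_lit 4, nat_lit 3, nat_lit 2, nat_lit 8, nat_lit 3, nat_lit 1, nat_lit 0, nat_lit 2, nat_lit 12, nat_lit 15, nat_lit 12] (nat_lit 5) (nat_lit 2) [nat_lit 2703, nat_lit 2722, nat_lit 2703] []))))) (FT.node (nat_lit 2729) (FT.leaf (Fct.mk true (nat_lit 5) (nat_lit 1319) (nat_lit 5) [nat_lit 1, nat_lit 2, nat_lit 3, nat_lit 8, nat_lit 5, nat_lit 6, nat_lit 4, nat_lit 5, nat_lit 3, nat_lit 4, nat_lit 2, nat_lit 3, nat_lit 8, nat_lit 1, nat_lit 2, nat_lit 3, nat_lit 4, nat_lit 5, nat_lit 6, nat_lit 7, nat_lit 3, nat_lit 8, nat_lit 5, nat_lit 6, nat_lit 4, nat_lit 5, nat_lit 3, nat_lit 4, nat_lit 2, nat_lit 3, nat_lit 8, nat_lit 1, nat_lit 2, nat_lit 3, nat_lit 4, nat_lit 5, nat_lit 3, nat_lit 2, nat_lit 1, nat_lit 4, nat_lit 3, nat_lit 2, nat_lit 8, nat_lit 3, nat_lit 8, nat_lit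 10, nat_lit 1, nat_lit 8, nat_lit 12, nat_lit 15, nat_lit 8] (Rl.t1 (nat_lit 2727) (nat_lit 2726)))) (FT.node (nat_lit 2730) (FT.leaf (Fct.mk false (nat_lit 5) (nat_lit 0) (nat_lit 5) [nat_lit 8, nat_lit 3, nat_lit 4, nat_lit 2, nat_lit 3, nat_lit 8, nat_lit 7, nat_lit 5, nat_lit 6, nat_lit 4, nat_lit 5, nat_lit 3, nat_lit 4, nat_lit 2, nat_lit 3, nat_lit 8, nat_lit 0, nat_lit 1, nat_lit 2, nat_lit 3, nat_lit 4, nat_lit 5, nat_lit 6, nat_lit 7, nat_lit 0, nat_lit 1, nat_lit 2, nat_lit 3, nat_lit 4, nat_lit 5, nat_lit 8, nat_lit 3, nat_lit 2, nat_lit 0, nat_lit 1, nat_lit 4, nat_lit 3, nat_lit 2, nat_lit 8, nat_lit 3, nat_lit 11, nat_lit 2, nat_lit 8, nat_lit 12, nat_lit 15, nat_lit 14, nat_lit 13, nat_lit 12, nat_lit 19] (Rl.cmp (nat_lit 2491) (nat_lit 470)))) (FT.leaf (Fct.mk false (nat_lit 5) (nat_lit 0) (nat_lit 5) [nat_lit 8, nat_lit 3,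 nat_lit 4, nat_lit 2, nat_lit 3, nat_lit 8, nat_lit 7, nat_lit 5, nat_lit 6, nat_lit 4, nat_lit 5, nat_lit 3, nat_lit 4, nat_lit 2, nat_lit 3, nat_lit 8, nat_lit 0, nat_lit 1, nat_lit 2, nat_lit 3, nat_lit 4, nat_lit 5, nat_lit 6, nat_lit 7, nat_lit 5, nat_lit 6, nat_lit 4, nat_lit 5, nat_lit 3, nat_lit 4, nat_lit 2, nat_lit 3, nat_lit 8, nat_lit 1, nat_lit 2, nat_lit 3, nat_lit 4, nat_lit 5, nat_lit 1, nat_lit 9, nat_lit 4, nat_lit 3, nat_lit 2, nat_lit 8, nat_lit 3, nat_lit 10, nat_lit 2, nat_lit 8, nat_lit 10, nat_lit 1, nat_lit 12, nat_lit 15, nat_lit 17, nat_lit 12] (Rl.cmp (nat_lit 1754) (nat_lit 2729))))))) (FT.node (nat_lit 2734) (FT.node (nat_lit 2732) (FT.leaf (Fct.mk false (nat_lit 5) (nat_lit 0) (nat_lit 5) [nat_lit 4, nat_lit 3, nat_lit 8, nat_lit 2, nat_lit 3, nat_lit 4, nat_lit 1, nat_lit 2, nat_lit 3, nat_lit 8, nat_lit 6, nat_lit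 7, nat_lit 5, nat_lit 6, nat_lit 4, nat_lit 5, nat_lit 3, nat_lit 4, nat_lit 2, nat_lit 3, nat_lit 8, nat_lit 1, nat_lit 2, nat_lit 3, nat_lit 4, nat_lit 5, nat_lit 6, nat_lit 7, nat_lit 6, nat_lit 5, nat_lit 4, nat_lit 2, nat_lit 3, nat_lit 8, nat_lit 1, nat_lit 2, nat_lit 3, nat_lit 4, nat_lit 5, nat_lit 1, nat_lit 9, nat_lit 4, nat_lit 3, nat_lit 2, nat_lit 8, nat_lit 3, nat_lit 11, nat_lit 2, nat_lit 15, nat_lit 14, nat_lit 19, nat_lit 16] (Rl.cmp (nat_lit 511) (nat_lit 2730)))) (FT.node (nat_lit 2733) (FT.leaf (Fct.mk false (nat_lit 5) (nat_lit 0) (nat_lit 5) [nat_lit 2, nat_lit 3, nat_lit 8, nat_lit 4, nat_lit 5, nat_lit 3, nat_lit 4, nat_lit 2, nat_lit 3, nat_lit 8, nat_lit 6, nat_lit 7, nat_lit 5, nat_lit 6, nat_lit 4, nat_lit 5, nat_lit 3, nat_lit 4, nat_lit 2, nat_lit 3, nat_lit 8, nat_lit 1, nat_lit 2, nat_lit 3, nat_lit 4, nat_lit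 5, nat_lit 6, nat_lit 7, nat_lit 6, nat_lit 5, nat_lit 4, nat_lit 2, nat_lit 3, nat_lit 8, nat_lit 1, nat_lit 2, nat_lit 3, nat_lit 4, nat_lit 5, nat_lit 1, nat_lit 2, nat_lit 3, nat_lit 11, nat_lit 10, nat_lit 2, nat_lit 8, nat_lit 10, nat_lit 1, nat_lit 14, nat_lit 13, nat_lit 18] (Rl.cmp (nat_lit 2491) (nat_lit 2731)))) (FT.leaf (Fct.mk false (nat_lit 5) (nat_lit 0) (nat_lit 5) [nat_lit 70] (Rl.cmp (nat_lit 511) (nat_lit 470)))))) (FT.node (nat_lit 2735) (FT.leaf (Fct.mk false (nat_lit 5) (nat_lit 0) (nat_lit 5) [nat_lit 8, nat_lit 3, nat_lit 4, nat_lit 2, nat_lit 3, nat_lit 8, nat_lit 7, nat_lit 5, nat_lit 6, nat_lit 4, nat_lit 5, nat_lit 3, nat_lit 4, nat_lit 2, nat_lit 3, nat_lit 8, nat_lit 0, nat_lit 1, nat_lit 2, nat_lit 3, nat_lit 4, nat_lit 5, nat_lit 6, nat_lit 7, nat_lit 8, nat_lit 5, nat_lit 3, nat_lit 4, nat_lit 2, nat_lit 3,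 nat_lit 8, nat_lit 1, nat_lit 2, nat_lit 3, nat_lit 4, nat_lit 5, nat_lit 9, nat_lit 4, nat_lit 11, nat_lit 2, nat_lit 8, nat_lit 10, nat_lit 1, nat_lit 15, nat_lit 18] (Rl.cmp (nat_lit 2491) (nat_lit 2733)))) (FT.node (nat_lit 2736) (FT.leaf (Fct.mk false (nat_lit 5) (nat_lit 0) (nat_lit 5) [nat_lit 8, nat_lit 3, nat_lit 4, nat_lit 2, nat_lit 3, nat_lit 8, nat_lit 7, nat_lit 5, nat_lit 6, nat_lit 4, nat_lit 5, nat_lit 3, nat_lit 4, nat_lit 2, nat_lit 3, nat_lit 8, nat_lit 0, nat_lit 1, nat_lit 2, nat_lit 3, nat_lit 4, nat_lit 5, nat_lit 6, nat_lit 7, nat_lit 6, nat_lit 5, nat_lit 4, nat_lit 2, nat_lit 3, nat_lit 8, nat_lit 1, nat_lit 2, nat_lit 3, nat_lit 4, nat_lit 5, nat_lit 1, nat_lit 2, nat_lit 3, nat_lit 8, nat_lit 4, nat_lit 3, nat_lit 2, nat_lit 1, nat_lit 9, nat_lit 4, nat_lit 3, nat_lit 2, nat_lit 8, nat_lit 3, nat_lit 14, nat_lit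 16] (Rl.cmp (nat_lit 1754) (nat_lit 2734)))) (FT.leaf (Fct.mk false (nat_lit 5) (nat_lit 0) (nat_lit 5) [nat_lit 8, nat_lit 4, nat_lit 5, nat_lit 2, nat_lit 3, nat_lit 4, nat_lit 1, nat_lit 2, nat_lit 3, nat_lit 8, nat_lit 6, nat_lit 7, nat_lit 5, nat_lit 6, nat_lit 4, nat_lit 5, nat_lit 3, nat_lit 4, nat_lit 2, nat_lit 3, nat_lit 8, nat_lit 1, nat_lit 2, nat_lit 3, nat_lit 4, nat_lit 5, nat_lit 6, nat_lit 7, nat_lit 8, nat_lit 3, nat_lit 4, nat_lit 2, nat_lit 3, nat_lit 8, nat_lit 1, nat_lit 2, nat_lit 3, nat_lit 4, nat_lit 5, nat_lit 3, nat_lit 2, nat_lit 1, nat_lit 4, nat_lit 3, nat_lit 2, nat_lit 8, nat_lit 3, nat_lit 0, nat_lit 15, nat_lit 14, nat_lit 8, nat_lit 18] (Rl.cmp (nat_lit 2491) (nat_lit 2735)))))))) (FT.node (nat_lit 2743) (FT.node (nat_lit 2740) (FT.node (nat_lit 2738) (FT.leaf (Fct.mk true (nat_lit 5) (nat_lit 51570) (nat_lit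 5) [nat_lit 8, nat_lit 4, nat_lit 5, nat_lit 3, nat_lit 4, nat_lit 2, nat_lit 3, nat_lit 8, nat_lit 0, nat_lit 1, nat_lit 2, nat_lit 3, nat_lit 4, nat_lit 5, nat_lit 6, nat_lit 7, nat_lit 6, nat_lit 5, nat_lit 4, nat_lit 3, nat_lit 8, nat_lit 2, nat_lit 3, nat_lit 4, nat_lit 5, nat_lit 1, nat_lit 3, nat_lit 2, nat_lit 8, nat_lit 3, nat_lit 11, nat_lit 1, nat_lit 15, nat_lit 13, nat_lit 12, nat_lit 18] (Rl.rel (nat_lit 0) [nat_lit 8, nat_lit 3, nat_lit 4, nat_lit 2, nat_lit 3, nat_lit 8, nat_lit 1, nat_lit 2, nat_lit 3, nat_lit 4, nat_lit 5, nat_lit 6, nat_lit 7, nat_lit 3, nat_lit 8, nat_lit 5, nat_lit 2, nat_lit 3, nat_lit 4, nat_lit 1, nat_lit 2, nat_lit 3, nat_lit 8, nat_lit 0, nat_lit 1, nat_lit 2, nat_lit 3, nat_lit 4, nat_lit 5, nat_lit 3, nat_lit 2, nat_lit 1, nat_lit 8, nat_lit 3, nat_lit 2, nat_lit 0, nat_lit 1, nat_lit 4, nat_lit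 3, nat_lit 2, nat_lit 8, nat_lit 3, nat_lit 1, nat_lit 0, nat_lit 2, nat_lit 8, nat_lit 12, nat_lit 15, nat_lit 14, nat_lit 12] (nat_lit 5) (nat_lit 2) [nat_lit 2703, nat_lit 2732, nat_lit 2703] []))) (FT.node (nat_lit 2739) (FT.leaf (Fct.mk true (nat_lit 5) (nat_lit 954) (nat_lit 5) [nat_lit 5, nat_lit 3, nat_lit 4, nat_lit 2, nat_lit 3, nat_lit 8, nat_lit 1, nat_lit 2, nat_lit 3, nat_lit 4, nat_lit 5, nat_lit 6, nat_lit 7, nat_lit 0, nat_lit 1, nat_lit 2, nat_lit 3, nat_lit 4, nat_lit 5, nat_lit 3, nat_lit 2, nat_lit 8, nat_lit 3, nat_lit 10, nat_lit 16, nat_lit 12, nat_lit 15, nat_lit 14, nat_lit 8] (Rl.t1 (nat_lit 2737) (nat_lit 2736)))) (FT.leaf (Fct.mk false (nat_lit 5) (nat_lit 0) (nat_lit 5) [nat_lit 8, nat_lit 3, nat_lit 4, nat_lit 2, nat_lit 3, nat_lit 8, nat_lit 5, nat_lit 6, nat_lit 4, nat_lit 5, nat_lit 3, nat_lit 4, nat_lit 2,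 nat_lit 3, nat_lit 8, nat_lit 1, nat_lit 2, nat_lit 3, nat_lit 4, nat_lit 5, nat_lit 2, nat_lit 3, nat_lit 8, nat_lit 4, nat_lit 3, nat_lit 2, nat_lit 1, nat_lit 9, nat_lit 4, nat_lit 3, nat_lit 2, nat_lit 8, nat_lit 3, nat_lit 2, nat_lit 8, nat_lit 12, nat_lit 15, nat_lit 14, nat_lit 13, nat_lit 12, nat_lit 19] (Rl.cmp (nat_lit 2094) (nat_lit 511)))))) (FT.node (nat_lit 2741) (FT.leaf (Fct.mk false (nat_lit 5) (nat_lit 0) (nat_lit 5) [nat_lit 8, nat_lit 3, nat_lit 4, nat_lit 1, nat_lit 2, nat_lit 3, nat_lit 8, nat_lit 5, nat_lit 6, nat_lit 4, nat_lit 5, nat_lit 3, nat_lit 4, nat_lit 2, nat_lit 3, nat_lit 8, nat_lit 1, nat_lit 2, nat_lit 3, nat_lit 4, nat_lit 5, nat_lit 8, nat_lit 3, nat_lit 2, nat_lit 1, nat_lit 9, nat_lit 4, nat_lit 3, nat_lit 2, nat_lit 8, nat_lit 3, nat_lit 11, nat_lit 10, nat_lit 1, nat_lit 8, nat_lit 16, nat_lit 14, nat_lit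 17, nat_lit 12] (Rl.cmp (nat_lit 1754) (nat_lit 2739)))) (FT.node (nat_lit 2742) (FT.leaf (Fct.mk false (nat_lit 5) (nat_lit 0) (nat_lit 5) [nat_lit 9, nat_lit 4, nat_lit 11, nat_lit 1, nat_lit 15, nat_lit 14, nat_lit 13] (Rl.cmp (nat_lit 2094) (nat_lit 2740)))) (FT.leaf (Fct.mk false (nat_lit 5) (nat_lit 0) (nat_lit 5) [nat_lit 6, nat_lit 1, nat_lit 2, nat_lit 3, nat_lit 2, nat_lit 12, nat_lit 15, nat_lit 14, nat_lit 12] (Rl.cmp (nat_lit 511) (nat_lit 488))))))) (FT.node (nat_lit 2746) (FT.node (nat_lit 2744) (FT.leaf (Fct.mk false (nat_lit 5) (nat_lit 0) (nat_lit 5) [nat_lit 8, nat_lit 3, nat_lit 4, nat_lit 2, nat_lit 3, nat_lit 8, nat_lit 7, nat_lit 5, nat_lit 6, nat_lit 4, nat_lit 5, nat_lit 3, nat_lit 4, nat_lit 2, nat_lit 3, nat_lit 8, nat_lit 0, nat_lit 1, nat_lit 2, nat_lit 3, nat_lit 4, nat_lit 5, nat_lit 6, nat_lit 7, nat_lit 0, nat_lit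 1, nat_lit 2, nat_lit 3, nat_lit 4, nat_lit 5, nat_lit 8, nat_lit 3, nat_lit 2, nat_lit 0, nat_lit 1, nat_lit 4, nat_lit 3, nat_lit 2, nat_lit 8, nat_lit 3, nat_lit 11, nat_lit 2, nat_lit 8, nat_lit 12, nat_lit 15, nat_lit 14, nat_lit 13, nat_lit 12, nat_lit 19] (Rl.cmp (nat_lit 2491) (nat_lit 470)))) (FT.node (nat_lit 2745) (FT.leaf (Fct.mk false (nat_lit 5) (nat_lit 0) (nat_lit 5) [nat_lit 3, nat_lit 8, nat_lit 2, nat_lit 3, nat_lit 4, nat_lit 1, nat_lit 2, nat_lit 3, nat_lit 8, nat_lit 5, nat_lit 6, nat_lit 4, nat_lit 5, nat_lit 3, nat_lit 4, nat_lit 2, nat_lit 3, nat_lit 8, nat_lit 1, nat_lit 2, nat_lit 3, nat_lit 4, nat_lit 5, nat_lit 0, nat_lit 1, nat_lit 2, nat_lit 3, nat_lit 1, nat_lit 16, nat_lit 15, nat_lit 14, nat_lit 13] (Rl.cmp (nat_lit 2094) (nat_lit 472)))) (FT.leaf (Fct.mk false (nat_lit 5) (nat_lit 0) (nat_lit 5) [nat_lit 6,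 nat_lit 9, nat_lit 4, nat_lit 10, nat_lit 12, nat_lit 15, nat_lit 12, nat_lit 16] (Rl.cmp (nat_lit 1754) (nat_lit 1859)))))) (FT.node (nat_lit 2748) (FT.node (nat_lit 2747) (FT.leaf (Fct.mk false (nat_lit 5) (nat_lit 0) (nat_lit 5) [nat_lit 5, nat_lit 0, nat_lit 1, nat_lit 2, nat_lit 3, nat_lit 15, nat_lit 16] (Rl.cmp (nat_lit 1859) (nat_lit 2745)))) (FT.leaf (Fct.mk false (nat_lit 5) (nat_lit 0) (nat_lit 5) [nat_lit 6, nat_lit 4, nat_lit 10, nat_lit 1, nat_lit 15, nat_lit 14, nat_lit 12, nat_lit 16] (Rl.cmp (nat_lit 511) (nat_lit 2746))))) (FT.node (nat_lit 2749) (FT.leaf (Fct.mk false (nat_lit 5) (nat_lit 0) (nat_lit 5) [nat_lit 3, nat_lit 4, nat_lit 5, nat_lit 0, nat_lit 1, nat_lit 2, nat_lit 3, nat_lit 10, nat_lit 0, nat_lit 12, nat_lit 15, nat_lit 16] (Rl.cmp (nat_lit 1859) (nat_lit 1754)))) (FT.leaf (Fct.mk false (nat_lit 5) (nat_lit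 0) (nat_lit 5) [nat_lit 1, nat_lit 2, nat_lit 3, nat_lit 4, nat_lit 5, nat_lit 0, nat_lit 1, nat_lit 2, nat_lit 3, nat_lit 1, nat_lit 12, nat_lit 15, nat_lit 12, nat_lit 16] (Rl.cmp (nat_lit 511) (nat_lit 1754)))))))))

/-- some facts -/
noncomputable def ftc55 : FT := FT.node (nat_lit 2775) (FT.node (nat_lit 2762) (FT.node (nat_lit 2756) (FT.node (nat_lit 2753) (FT.node (nat_lit 2751) (FT.leaf (Fct.mk false (nat_lit 5) (nat_lit 0) (nat_lit 5) [nat_lit 2, nat_lit 3, nat_lit 4, nat_lit 5, nat_lit 4, nat_lit 2, nat_lit 10, nat_lit 1, nat_lit 12] (Rl.cmp (nat_lit 1859) (nat_lit 2749)))) (FT.node (nat_lit 2752) (FT.leaf (Fct.mk false (nat_lit 5) (nat_lit 0) (nat_lit 5) [nat_lit 8, nat_lit 3, nat_lit 4, nat_lit 2, nat_lit 3, nat_lit 8, nat_lit 7, nat_lit 5, nat_lit 6, nat_lit 4, nat_lit 5, nat_lit 3, nat_lit 4, nat_lit 2, nat_lit 3, nat_lit 8, nat_lit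 0, nat_lit 1, nat_lit 2, nat_lit 3, nat_lit 4, nat_lit 5, nat_lit 6, nat_lit 7, nat_lit 6, nat_lit 8, nat_lit 3, nat_lit 2, nat_lit 1, nat_lit 4, nat_lit 3, nat_lit 2, nat_lit 8, nat_lit 3, nat_lit 11, nat_lit 10, nat_lit 15, nat_lit 14, nat_lit 8, nat_lit 18, nat_lit 16] (Rl.cmp (nat_lit 2491) (nat_lit 2750)))) (FT.leaf (Fct.mk false (nat_lit 5) (nat_lit 0) (nat_lit 5) [nat_lit 5, nat_lit 2, nat_lit 3, nat_lit 11, nat_lit 2, nat_lit 10, nat_lit 1, nat_lit 16, nat_lit 12, nat_lit 15, nat_lit 14, nat_lit 13, nat_lit 16] (Rl.cmp (nat_lit 1859) (nat_lit 2742)))))) (FT.node (nat_lit 2754) (FT.leaf (Fct.mk false (nat_lit 5) (nat_lit 0) (nat_lit 5) [nat_lit 4, nat_lit 5, nat_lit 1, nat_lit 2, nat_lit 3, nat_lit 14, nat_lit 12] (Rl.cmp (nat_lit 1754) (nat_lit 2752)))) (FT.node (nat_lit 2755) (FT.leaf (Fct.mk false (nat_lit 5) (nat_lit 0) (nat_lit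 5) [nat_lit 4, nat_lit 5, nat_lit 4, nat_lit 10, nat_lit 1] (Rl.cmp (nat_lit 1754) (nat_lit 470)))) (FT.leaf (Fct.mk false (nat_lit 5) (nat_lit 0) (nat_lit 5) [nat_lit 8, nat_lit 3, nat_lit 4, nat_lit 2, nat_lit 3, nat_lit 8, nat_lit 5, nat_lit 6, nat_lit 4, nat_lit 5, nat_lit 3, nat_lit 4, nat_lit 2, nat_lit 3, nat_lit 8, nat_lit 0, nat_lit 1, nat_lit 2, nat_lit 3, nat_lit 4, nat_lit 5, nat_lit 8, nat_lit 4, nat_lit 3, nat_lit 2, nat_lit 1, nat_lit 9, nat_lit 4, nat_lit 3, nat_lit 2, nat_lit 8, nat_lit 3, nat_lit 2, nat_lit 8, nat_lit 10, nat_lit 1, nat_lit 16, nat_lit 14, nat_lit 8, nat_lit 19, nat_lit 16] (Rl.cmp (nat_lit 2094) (nat_lit 2754))))))) (FT.node (nat_lit 2759) (FT.node (nat_lit 2757) (FT.leaf (Fct.mk false (nat_lit 5) (nat_lit 0) (nat_lit 5) [nat_lit 6, nat_lit 5, nat_lit 4, nat_lit 3, nat_lit 8, nat_lit 2, nat_lit 3, nat_lit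 4, nat_lit 1, nat_lit 2, nat_lit 3, nat_lit 8, nat_lit 5, nat_lit 6, nat_lit 4, nat_lit 5, nat_lit 3, nat_lit 4, nat_lit 2, nat_lit 3, nat_lit 8, nat_lit 1, nat_lit 2, nat_lit 3, nat_lit 4, nat_lit 5, nat_lit 1, nat_lit 2, nat_lit 3, nat_lit 8, nat_lit 4, nat_lit 3, nat_lit 2, nat_lit 1, nat_lit 9, nat_lit 4, nat_lit 3, nat_lit 2, nat_lit 8, nat_lit 3, nat_lit 10, nat_lit 1, nat_lit 12, nat_lit 15, nat_lit 17, nat_lit 12, nat_lit 19, nat_lit 16] (Rl.cmp (nat_lit 1754) (nat_lit 2755)))) (FT.node (nat_lit 2758) (FT.leaf (Fct.mk false (nat_lit 5) (nat_lit 0) (nat_lit 5) [nat_lit 8, nat_lit 3, nat_lit 4, nat_lit 2, nat_lit 3, nat_lit 8, nat_lit 7, nat_lit 5, nat_lit 6, nat_lit 4, nat_lit 5, nat_lit 3, nat_lit 4, nat_lit 2, nat_lit 3, nat_lit 8, nat_lit 0, nat_lit 1, nat_lit 2, nat_lit 3, nat_lit 4, nat_lit 5, nat_lit 6, nat_lit 7, nat_lit 1, nat_lit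 2, nat_lit 3, nat_lit 8, nat_lit 4, nat_lit 5, nat_lit 3, nat_lit 4, nat_lit 2, nat_lit 3, nat_lit 8, nat_lit 1, nat_lit 2, nat_lit 3, nat_lit 4, nat_lit 5, nat_lit 2, nat_lit 1, nat_lit 4, nat_lit 3, nat_lit 2, nat_lit 8, nat_lit 3, nat_lit 11, nat_lit 2, nat_lit 8, nat_lit 10, nat_lit 1, nat_lit 12, nat_lit 15, nat_lit 14, nat_lit 17, nat_lit 19, nat_lit 16] (Rl.cmp (nat_lit 2491) (nat_lit 2709)))) (FT.leaf (Fct.mk false (nat_lit 5) (nat_lit 0) (nat_lit 5) [nat_lit 8, nat_lit 4, nat_lit 5, nat_lit 2, nat_lit 3, nat_lit 4, nat_lit 1, nat_lit 2, nat_lit 3, nat_lit 8, nat_lit 6, nat_lit 7, nat_lit 5, nat_lit 6, nat_lit 4, nat_lit 5, nat_lit 3, nat_lit 4, nat_lit 2, nat_lit 3, nat_lit 8, nat_lit 1, nat_lit 2, nat_lit 3, nat_lit 4, nat_lit 5, nat_lit 6, nat_lit 7, nat_lit 8, nat_lit 3, nat_lit 4, nat_lit 2, nat_lit 3, nat_lit 8, nat_lit 5, nat_lit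 6, nat_lit 4, nat_lit 5, nat_lit 3, nat_lit 4, nat_lit 2, nat_lit 3, nat_lit 8, nat_lit 0, nat_lit 1, nat_lit 2, nat_lit 3, nat_lit 4, nat_lit 5, nat_lit 8, nat_lit 3, nat_lit 2, nat_lit 0, nat_lit 1, nat_lit 9, nat_lit 4, nat_lit 3, nat_lit 2, nat_lit 8, nat_lit 3, nat_lit 11, nat_lit 1, nat_lit 8, nat_lit 12, nat_lit 15, nat_lit 14, nat_lit 18] (Rl.cmp (nat_lit 2491) (nat_lit 2757)))))) (FT.node (nat_lit 2760) (FT.leaf (Fct.mk false (nat_lit 5) (nat_lit 0) (nat_lit 5) [nat_lit 8, nat_lit 3, nat_lit 4, nat_lit 2, nat_lit 3, nat_lit 8, nat_lit 7, nat_lit 5, nat_lit 6, nat_lit 4, nat_lit 5, nat_lit 3, nat_lit 4, nat_lit 2, nat_lit 3, nat_lit 8, nat_lit 0, nat_lit 1, nat_lit 2, nat_lit 3, nat_lit 4, nat_lit 5, nat_lit 6, nat_lit 7, nat_lit 0, nat_lit 1, nat_lit 2, nat_lit 3, nat_lit 4, nat_lit 5, nat_lit 2, nat_lit 1, nat_lit 8, nat_lit 3, nat_lit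 2, nat_lit 0, nat_lit 1, nat_lit 4, nat_lit 3, nat_lit 2, nat_lit 8, nat_lit 3, nat_lit 10, nat_lit 1, nat_lit 8, nat_lit 12, nat_lit 15, nat_lit 14, nat_lit 18] (Rl.cmp (nat_lit 2094) (nat_lit 2758)))) (FT.node (nat_lit 2761) (FT.leaf (Fct.mk false (nat_lit 5) (nat_lit 0) (nat_lit 5) [nat_lit 0, nat_lit 1, nat_lit 2, nat_lit 3, nat_lit 4, nat_lit 5, nat_lit 1, nat_lit 2, nat_lit 3, nat_lit 11, nat_lit 15, nat_lit 14, nat_lit 13] (Rl.cmp (nat_lit 511) (nat_lit 472)))) (FT.leaf (Fct.mk false (nat_lit 5) (nat_lit 0) (nat_lit 5) [nat_lit 8, nat_lit 3, nat_lit 4, nat_lit 2, nat_lit 3, nat_lit 8, nat_lit 7, nat_lit 5, nat_lit 6, nat_lit 4, nat_lit 5, nat_lit 3, nat_lit 4, nat_lit 2, nat_lit 3, nat_lit 8, nat_lit 0, nat_lit 1, nat_lit 2, nat_lit 3, nat_lit 4, nat_lit 5, nat_lit 6, nat_lit 7, nat_lit 0, nat_lit 1, nat_lit 2, nat_lit 3, nat_lit 4,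 nat_lit 5, nat_lit 8, nat_lit 3, nat_lit 2, nat_lit 0, nat_lit 1, nat_lit 4, nat_lit 3, nat_lit 2, nat_lit 8, nat_lit 3, nat_lit 11, nat_lit 2, nat_lit 8, nat_lit 12, nat_lit 15, nat_lit 14, nat_lit 13, nat_lit 12, nat_lit 19] (Rl.cmp (nat_lit 2491) (nat_lit 470)))))))) (FT.node (nat_lit 2768) (FT.node (nat_lit 2765) (FT.node (nat_lit 2763) (FT.leaf (Fct.mk false (nat_lit 5) (nat_lit 0) (nat_lit 5) [nat_lit 8, nat_lit 3, nat_lit 4, nat_lit 2, nat_lit 3, nat_lit 8, nat_lit 7, nat_lit 5, nat_lit 6, nat_lit 4, nat_lit 5, nat_lit 3, nat_lit 4, nat_lit 2, nat_lit 3, nat_lit 8, nat_lit 0, nat_lit 1, nat_lit 2, nat_lit 3, nat_lit 4, nat_lit 5, nat_lit 6, nat_lit 7, nat_lit 5, nat_lit 6, nat_lit 4, nat_lit 5, nat_lit 3, nat_lit 4, nat_lit 2, nat_lit 3, nat_lit 8, nat_lit 1, nat_lit 2, nat_lit 3, nat_lit 4, nat_lit 5, nat_lit 1, nat_lit 9, nat_lit 4,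 nat_lit 3, nat_lit 2, nat_lit 8, nat_lit 3, nat_lit 10, nat_lit 2, nat_lit 8, nat_lit 10, nat_lit 1, nat_lit 12, nat_lit 15, nat_lit 17, nat_lit 12] (Rl.cmp (nat_lit 1754) (nat_lit 2761)))) (FT.node (nat_lit 2764) (FT.leaf (Fct.mk false (nat_lit 5) (nat_lit 0) (nat_lit 5) [nat_lit 8, nat_lit 3, nat_lit 4, nat_lit 2, nat_lit 3, nat_lit 8, nat_lit 7, nat_lit 5, nat_lit 6, nat_lit 4, nat_lit 5, nat_lit 3, nat_lit 4, nat_lit 2, nat_lit 3, nat_lit 8, nat_lit 0, nat_lit 1, nat_lit 2, nat_lit 3, nat_lit 4, nat_lit 5, nat_lit 6, nat_lit 7, nat_lit 5, nat_lit 6, nat_lit 4, nat_lit 5, nat_lit 3, nat_lit 4, nat_lit 2, nat_lit 3, nat_lit 8, nat_lit 1, nat_lit 2, nat_lit 3, nat_lit 4, nat_lit 5, nat_lit 1, nat_lit 3, nat_lit 2, nat_lit 8, nat_lit 3, nat_lit 10, nat_lit 2, nat_lit 8, nat_lit 10, nat_lit 1, nat_lit 12, nat_lit 15, nat_lit 17, nat_lit 12,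 nat_lit 16] (Rl.cmp (nat_lit 470) (nat_lit 2491)))) (FT.leaf (Fct.mk false (nat_lit 5) (nat_lit 0) (nat_lit 5) [nat_lit 6, nat_lit 1, nat_lit 2, nat_lit 3, nat_lit 9, nat_lit 2, nat_lit 16, nat_lit 15, nat_lit 14, nat_lit 12] (Rl.cmp (nat_lit 1754) (nat_lit 511)))))) (FT.node (nat_lit 2766) (FT.leaf (Fct.mk false (nat_lit 5) (nat_lit 0) (nat_lit 5) [nat_lit 3, nat_lit 4, nat_lit 5, nat_lit 10, nat_lit 1] (Rl.cmp (nat_lit 470) (nat_lit 1754)))) (FT.node (nat_lit 2767) (FT.leaf (Fct.mk false (nat_lit 5) (nat_lit 0) (nat_lit 5) [nat_lit 8, nat_lit 2, nat_lit 3, nat_lit 4, nat_lit 1, nat_lit 2, nat_lit 3, nat_lit 8, nat_lit 5, nat_lit 6, nat_lit 4, nat_lit 5, nat_lit 3, nat_lit 4, nat_lit 2, nat_lit 3, nat_lit 8, nat_lit 1, nat_lit 2, nat_lit 3, nat_lit 4, nat_lit 5, nat_lit 1, nat_lit 2, nat_lit 3, nat_lit 8, nat_lit 4, nat_lit 3, nat_lit 2, nat_lit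 1, nat_lit 9, nat_lit 4, nat_lit 3, nat_lit 2, nat_lit 8, nat_lit 3, nat_lit 11, nat_lit 10, nat_lit 1, nat_lit 15, nat_lit 14, nat_lit 18, nat_lit 16] (Rl.cmp (nat_lit 2094) (nat_lit 488)))) (FT.leaf (Fct.mk false (nat_lit 5) (nat_lit 0) (nat_lit 5) [nat_lit 8, nat_lit 3, nat_lit 4, nat_lit 2, nat_lit 3, nat_lit 8, nat_lit 7, nat_lit 5, nat_lit 6, nat_lit 4, nat_lit 5, nat_lit 3, nat_lit 4, nat_lit 2, nat_lit 3, nat_lit 8, nat_lit 0, nat_lit 1, nat_lit 2, nat_lit 3, nat_lit 4, nat_lit 5, nat_lit 6, nat_lit 7, nat_lit 6, nat_lit 5, nat_lit 4, nat_lit 2, nat_lit 3, nat_lit 8, nat_lit 1, nat_lit 2, nat_lit 3, nat_lit 4, nat_lit 5, nat_lit 1, nat_lit 4, nat_lit 3, nat_lit 2, nat_lit 8, nat_lit 3, nat_lit 11, nat_lit 10, nat_lit 2, nat_lit 8, nat_lit 10, nat_lit 1, nat_lit 8, nat_lit 16, nat_lit 14, nat_lit 17, nat_lit 18] (Rl.cmp (nat_lit 2491)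 (nat_lit 2766))))))) (FT.node (nat_lit 2771) (FT.node (nat_lit 2769) (FT.leaf (Fct.mk false (nat_lit 5) (nat_lit 0) (nat_lit 5) [nat_lit 6, nat_lit 1, nat_lit 2, nat_lit 3, nat_lit 9, nat_lit 2, nat_lit 16, nat_lit 15, nat_lit 14, nat_lit 12] (Rl.cmp (nat_lit 1754) (nat_lit 511)))) (FT.node (nat_lit 2770) (FT.leaf (Fct.mk false (nat_lit 25) (nat_lit 0) (nat_lit 25) [nat_lit 6, nat_lit 1, nat_lit 2, nat_lit 0, nat_lit 1, nat_lit 4, nat_lit 3, nat_lit 2, nat_lit 8, nat_lit 3, nat_lit 8, nat_lit 10, nat_lit 1, nat_lit 8, nat_lit 12, nat_lit 15, nat_lit 14] (Rl.cmp (nat_lit 1813) (nat_lit 2561)))) (FT.leaf (Fct.mk false (nat_lit 25) (nat_lit 0) (nat_lit 25) [nat_lit 1, nat_lit 3, nat_lit 2, nat_lit 0, nat_lit 1, nat_lit 4, nat_lit 3, nat_lit 2, nat_lit 8, nat_lit 3, nat_lit 10, nat_lit 8, nat_lit 12, nat_lit 15, nat_lit 14, nat_lit 12] (Rl.cmp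 (nat_lit 1258) (nat_lit 2769)))))) (FT.node (nat_lit 2773) (FT.node (nat_lit 2772) (FT.leaf (Fct.mk false (nat_lit 5) (nat_lit 0) (nat_lit 5) [nat_lit 5] (Rl.cmp (nat_lit 493) (nat_lit 470)))) (FT.leaf (Fct.mk false (nat_lit 25) (nat_lit 0) (nat_lit 25) [nat_lit 7, nat_lit 6, nat_lit 5, nat_lit 4, nat_lit 3, nat_lit 8, nat_lit 2, nat_lit 3, nat_lit 4, nat_lit 5, nat_lit 6, nat_lit 7, nat_lit 4, nat_lit 3, nat_lit 8, nat_lit 2, nat_lit 3, nat_lit 4, nat_lit 5, nat_lit 3, nat_lit 2, nat_lit 0, nat_lit 1, nat_lit 4, nat_lit 3, nat_lit 2, nat_lit 8, nat_lit 3, nat_lit 8, nat_lit 10, nat_lit 1, nat_lit 12, nat_lit 15, nat_lit 12, nat_lit 16] (Rl.cmp (nat_lit 2004) (nat_lit 2576))))) (FT.node (nat_lit 2774) (FT.leaf (Fct.mk false (nat_lit 5) (nat_lit 0) (nat_lit 5) [nat_lit 8, nat_lit 3, nat_lit 4, nat_lit 2, nat_lit 3, nat_lit 8, nat_lit 7, nat_lit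 5, nat_lit 6, nat_lit 4, nat_lit 5, nat_lit 3, nat_lit 4, nat_lit 2, nat_lit 3, nat_lit 8, nat_lit 0, nat_lit 1, nat_lit 2, nat_lit 3, nat_lit 4, nat_lit 5, nat_lit 6, nat_lit 7, nat_lit 0, nat_lit 1, nat_lit 2, nat_lit 3, nat_lit 4, nat_lit 5, nat_lit 8, nat_lit 3, nat_lit 2, nat_lit 0, nat_lit 1, nat_lit 4, nat_lit 3, nat_lit 2, nat_lit 8, nat_lit 3, nat_lit 11, nat_lit 2, nat_lit 8, nat_lit 12, nat_lit 15, nat_lit 14, nat_lit 13, nat_lit 12, nat_lit 19] (Rl.cmp (nat_lit 2491) (nat_lit 470)))) (FT.leaf (Fct.mk false (nat_lit 5) (nat_lit 0) (nat_lit 5) [nat_lit 4, nat_lit 3, nat_lit 8, nat_lit 2, nat_lit 3, nat_lit 4, nat_lit 1, nat_lit 2, nat_lit 3, nat_lit 8, nat_lit 6, nat_lit 7, nat_lit 5, nat_lit 6, nat_lit 4, nat_lit 5, nat_lit 3, nat_lit 4, nat_lit 2, nat_lit 3, nat_lit 8, nat_lit 1, nat_lit 2, nat_lit 3, nat_lit 4, nat_lit 5, nat_lit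 6, nat_lit 7, nat_lit 5, nat_lit 6, nat_lit 4, nat_lit 5, nat_lit 3, nat_lit 4, nat_lit 2, nat_lit 3, nat_lit 8, nat_lit 1, nat_lit 2, nat_lit 3, nat_lit 4, nat_lit 5, nat_lit 2, nat_lit 3, nat_lit 8, nat_lit 4, nat_lit 3, nat_lit 2, nat_lit 0, nat_lit 1, nat_lit 9, nat_lit 4, nat_lit 3, nat_lit 2, nat_lit 8, nat_lit 3, nat_lit 11, nat_lit 10, nat_lit 1, nat_lit 16, nat_lit 12, nat_lit 15, nat_lit 14, nat_lit 16] (Rl.cmp (nat_lit 1859) (nat_lit 2491))))))))) (FT.node (nat_lit 2787) (FT.node (nat_lit 2781) (FT.node (nat_lit 2778) (FT.node (nat_lit 2776) (FT.leaf (Fct.mk false (nat_lit 5) (nat_lit 0) (nat_lit 5) [nat_lit 2, nat_lit 3, nat_lit 8, nat_lit 4, nat_lit 5, nat_lit 3, nat_lit 4, nat_lit 2, nat_lit 3, nat_lit 8, nat_lit 6, nat_lit 7, nat_lit 5, nat_lit 6, nat_lit 4, nat_lit 5, nat_lit 3, nat_lit 4, nat_lit 2, nat_lit 3, nat_lit 8, nat_lit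 1, nat_lit 2, nat_lit 3, nat_lit 4, nat_lit 5, nat_lit 6, nat_lit 7, nat_lit 6, nat_lit 5, nat_lit 4, nat_lit 3, nat_lit 8, nat_lit 2, nat_lit 3, nat_lit 4, nat_lit 5, nat_lit 1, nat_lit 4, nat_lit 3, nat_lit 2, nat_lit 8, nat_lit 3, nat_lit 11, nat_lit 10, nat_lit 8, nat_lit 16, nat_lit 14, nat_lit 13, nat_lit 12, nat_lit 19, nat_lit 16] (Rl.cmp (nat_lit 2491) (nat_lit 2774)))) (FT.node (nat_lit 2777) (FT.leaf (Fct.mk false (nat_lit 5) (nat_lit 0) (nat_lit 5) [nat_lit 8, nat_lit 4, nat_lit 5, nat_lit 2, nat_lit 3, nat_lit 4, nat_lit 1, nat_lit 2, nat_lit 3, nat_lit 8, nat_lit 6, nat_lit 7, nat_lit 5, nat_lit 6, nat_lit 4, nat_lit 5, nat_lit 3, nat_lit 4, nat_lit 2, nat_lit 3, nat_lit 8, nat_lit 1, nat_lit 2, nat_lit 3, nat_lit 4, nat_lit 5, nat_lit 6, nat_lit 7, nat_lit 6, nat_lit 5, nat_lit 4, nat_lit 3, nat_lit 8, nat_lit 2, nat_lit 3, nat_lit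 4, nat_lit 5, nat_lit 1, nat_lit 4, nat_lit 3, nat_lit 2, nat_lit 8, nat_lit 3, nat_lit 2, nat_lit 8, nat_lit 10, nat_lit 1, nat_lit 16, nat_lit 14, nat_lit 12, nat_lit 19, nat_lit 16] (Rl.cmp (nat_lit 511) (nat_lit 2775)))) (FT.leaf (Fct.mk false (nat_lit 5) (nat_lit 0) (nat_lit 5) [nat_lit 6, nat_lit 1, nat_lit 12, nat_lit 15, nat_lit 12] (Rl.cmp (nat_lit 1859) (nat_lit 470)))))) (FT.node (nat_lit 2779) (FT.leaf (Fct.mk false (nat_lit 5) (nat_lit 0) (nat_lit 5) [nat_lit 70] (Rl.cmp (nat_lit 511) (nat_lit 470)))) (FT.node (nat_lit 2780) (FT.leaf (Fct.mk false (nat_lit 5) (nat_lit 0) (nat_lit 5) [nat_lit 3] (Rl.cmp (nat_lit 493) (nat_lit 2654)))) (FT.leaf (Fct.mk false (nat_lit 5) (nat_lit 0) (nat_lit 5) [nat_lit 8, nat_lit 3, nat_lit 4, nat_lit 2, nat_lit 3, nat_lit 8, nat_lit 7, nat_lit 5, nat_lit 6, nat_lit 4, nat_lit 5, nat_lit 3, nat_lit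 4, nat_lit 2, nat_lit 3, nat_lit 8, nat_lit 0, nat_lit 1, nat_lit 2, nat_lit 3, nat_lit 4, nat_lit 5, nat_lit 6, nat_lit 7, nat_lit 6, nat_lit 5, nat_lit 4, nat_lit 3, nat_lit 8, nat_lit 1, nat_lit 2, nat_lit 3, nat_lit 4, nat_lit 5, nat_lit 1, nat_lit 3, nat_lit 2, nat_lit 8, nat_lit 3, nat_lit 11, nat_lit 10, nat_lit 2, nat_lit 8, nat_lit 10, nat_lit 1, nat_lit 8, nat_lit 16, nat_lit 14, nat_lit 17, nat_lit 18] (Rl.cmp (nat_lit 2491) (nat_lit 2094))))))) (FT.node (nat_lit 2784) (FT.node (nat_lit 2782) (FT.leaf (Fct.mk false (nat_lit 5) (nat_lit 0) (nat_lit 5) [nat_lit 8, nat_lit 3, nat_lit 4, nat_lit 2, nat_lit 3, nat_lit 8, nat_lit 7, nat_lit 5, nat_lit 6, nat_lit 4, nat_lit 5, nat_lit 3, nat_lit 4, nat_lit 2, nat_lit 3, nat_lit 8, nat_lit 0, nat_lit 1, nat_lit 2, nat_lit 3, nat_lit 4, nat_lit 5, nat_lit 6, nat_lit 7, nat_lit 8, nat_lit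 5, nat_lit 3, nat_lit 4, nat_lit 2, nat_lit 3, nat_lit 8, nat_lit 1, nat_lit 2, nat_lit 3, nat_lit 4, nat_lit 5, nat_lit 3, nat_lit 2, nat_lit 1, nat_lit 4, nat_lit 3, nat_lit 2, nat_lit 8, nat_lit 3, nat_lit 2, nat_lit 8, nat_lit 10, nat_lit 1, nat_lit 12, nat_lit 15, nat_lit 14, nat_lit 8] (Rl.cmp (nat_lit 1754) (nat_lit 2780)))) (FT.node (nat_lit 2783) (FT.leaf (Fct.mk false (nat_lit 5) (nat_lit 0) (nat_lit 5) [nat_lit 3, nat_lit 8, nat_lit 2, nat_lit 3, nat_lit 4, nat_lit 1, nat_lit 2, nat_lit 3, nat_lit 8, nat_lit 5, nat_lit 6, nat_lit 4, nat_lit 5, nat_lit 3, nat_lit 4, nat_lit 2, nat_lit 3, nat_lit 8, nat_lit 1, nat_lit 2, nat_lit 3, nat_lit 4, nat_lit 5, nat_lit 0, nat_lit 1, nat_lit 2, nat_lit 3, nat_lit 1, nat_lit 16, nat_lit 15, nat_lit 14, nat_lit 13] (Rl.cmp (nat_lit 2094) (nat_lit 472)))) (FT.leaf (Fct.mk false (nat_lit 5) (nat_lit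 0) (nat_lit 5) [nat_lit 8, nat_lit 3, nat_lit 4, nat_lit 2, nat_lit 3, nat_lit 8, nat_lit 7, nat_lit 5, nat_lit 6, nat_lit 4, nat_lit 5, nat_lit 3, nat_lit 4, nat_lit 2, nat_lit 3, nat_lit 8, nat_lit 0, nat_lit 1, nat_lit 2, nat_lit 3, nat_lit 4, nat_lit 5, nat_lit 6, nat_lit 7, nat_lit 6, nat_lit 5, nat_lit 4, nat_lit 3, nat_lit 8, nat_lit 1, nat_lit 2, nat_lit 3, nat_lit 4, nat_lit 5, nat_lit 1, nat_lit 3, nat_lit 2, nat_lit 8, nat_lit 3, nat_lit 10, nat_lit 9, nat_lit 2, nat_lit 12, nat_lit 15, nat_lit 14, nat_lit 13, nat_lit 19, nat_lit 16] (Rl.cmp (nat_lit 2491) (nat_lit 2782)))))) (FT.node (nat_lit 2785) (FT.leaf (Fct.mk false (nat_lit 5) (nat_lit 0) (nat_lit 5) [nat_lit 8, nat_lit 3, nat_lit 4, nat_lit 1, nat_lit 2, nat_lit 3, nat_lit 8, nat_lit 5, nat_lit 6, nat_lit 4, nat_lit 5, nat_lit 3, nat_lit 4, nat_lit 2, nat_lit 3, nat_lit 8,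 nat_lit 1, nat_lit 2, nat_lit 3, nat_lit 4, nat_lit 5, nat_lit 3, nat_lit 8, nat_lit 4, nat_lit 3, nat_lit 2, nat_lit 1, nat_lit 9, nat_lit 4, nat_lit 3, nat_lit 2, nat_lit 8, nat_lit 3, nat_lit 12, nat_lit 8, nat_lit 16, nat_lit 14, nat_lit 16, nat_lit 8, nat_lit 19] (Rl.cmp (nat_lit 2094) (nat_lit 2768)))) (FT.node (nat_lit 2786) (FT.leaf (Fct.mk false (nat_lit 5) (nat_lit 0) (nat_lit 5) [nat_lit 8, nat_lit 3, nat_lit 4, nat_lit 2, nat_lit 3, nat_lit 8, nat_lit 7, nat_lit 5, nat_lit 6, nat_lit 4, nat_lit 5, nat_lit 3, nat_lit 4, nat_lit 2, nat_lit 3, nat_lit 8, nat_lit 0, nat_lit 1, nat_lit 2, nat_lit 3, nat_lit 4, nat_lit 5, nat_lit 6, nat_lit 7, nat_lit 6, nat_lit 5, nat_lit 4, nat_lit 3, nat_lit 8, nat_lit 2, nat_lit 3, nat_lit 4, nat_lit 1, nat_lit 2, nat_lit 3, nat_lit 8, nat_lit 5, nat_lit 6, nat_lit 4, nat_lit 5, nat_lit 3, nat_lit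 4, nat_lit 2, nat_lit 3, nat_lit 8, nat_lit 1, nat_lit 2, nat_lit 3, nat_lit 4, nat_lit 5, nat_lit 0, nat_lit 1, nat_lit 2, nat_lit 3, nat_lit 11, nat_lit 10, nat_lit 1, nat_lit 12, nat_lit 15, nat_lit 13] (Rl.cmp (nat_lit 2491) (nat_lit 2784)))) (FT.leaf (Fct.mk false (nat_lit 5) (nat_lit 0) (nat_lit 5) [nat_lit 6, nat_lit 1, nat_lit 2, nat_lit 3, nat_lit 9, nat_lit 2, nat_lit 16, nat_lit 15, nat_lit 14, nat_lit 12] (Rl.cmp (nat_lit 1754) (nat_lit 511)))))))) (FT.node (nat_lit 2793) (FT.node (nat_lit 2790) (FT.node (nat_lit 2788) (FT.leaf (Fct.mk false (nat_lit 5) (nat_lit 0) (nat_lit 5) [nat_lit 8, nat_lit 3, nat_lit 4, nat_lit 2, nat_lit 3, nat_lit 8, nat_lit 7, nat_lit 5, nat_lit 6, nat_lit 4, nat_lit 5, nat_lit 3, nat_lit 4, nat_lit 2, nat_lit 3, nat_lit 8, nat_lit 0, nat_lit 1, nat_lit 2, nat_lit 3, nat_lit 4, nat_lit 5, nat_lit 6, nat_lit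 7, nat_lit 8, nat_lit 5, nat_lit 3, nat_lit 4, nat_lit 2, nat_lit 3, nat_lit 8, nat_lit 1, nat_lit 2, nat_lit 3, nat_lit 4, nat_lit 5, nat_lit 8, nat_lit 3, nat_lit 2, nat_lit 1, nat_lit 4, nat_lit 3, nat_lit 2, nat_lit 8, nat_lit 3, nat_lit 0, nat_lit 15, nat_lit 18, nat_lit 16] (Rl.cmp (nat_lit 2491) (nat_lit 2786)))) (FT.node (nat_lit 2789) (FT.leaf (Fct.mk false (nat_lit 5) (nat_lit 0) (nat_lit 5) [nat_lit 8, nat_lit 3, nat_lit 4, nat_lit 2, nat_lit 3, nat_lit 8, nat_lit 7, nat_lit 5, nat_lit 6, nat_lit 4, nat_lit 5, nat_lit 3, nat_lit 4, nat_lit 2, nat_lit 3, nat_lit 8, nat_lit 0, nat_lit 1, nat_lit 2, nat_lit 3, nat_lit 4, nat_lit 5, nat_lit 6, nat_lit 7, nat_lit 0, nat_lit 1, nat_lit 2, nat_lit 3, nat_lit 4, nat_lit 5, nat_lit 8, nat_lit 3, nat_lit 2, nat_lit 0, nat_lit 1, nat_lit 4, nat_lit 3, nat_lit 2, nat_lit 8, nat_lit 3, nat_lit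 11, nat_lit 8, nat_lit 12, nat_lit 15, nat_lit 14, nat_lit 13, nat_lit 12, nat_lit 19] (Rl.cmp (nat_lit 472) (nat_lit 2491)))) (FT.leaf (Fct.mk false (nat_lit 5) (nat_lit 0) (nat_lit 5) [nat_lit 4, nat_lit 3, nat_lit 8, nat_lit 2, nat_lit 3, nat_lit 4, nat_lit 1, nat_lit 2, nat_lit 3, nat_lit 8, nat_lit 6, nat_lit 7, nat_lit 5, nat_lit 6, nat_lit 4, nat_lit 5, nat_lit 3, nat_lit 4, nat_lit 2, nat_lit 3, nat_lit 8, nat_lit 1, nat_lit 2, nat_lit 3, nat_lit 4, nat_lit 5, nat_lit 6, nat_lit 7, nat_lit 3, nat_lit 8, nat_lit 4, nat_lit 5, nat_lit 3, nat_lit 4, nat_lit 2, nat_lit 3, nat_lit 8, nat_lit 1, nat_lit 2, nat_lit 3, nat_lit 4, nat_lit 5, nat_lit 4, nat_lit 3, nat_lit 2, nat_lit 1, nat_lit 8, nat_lit 3, nat_lit 2, nat_lit 0, nat_lit 1, nat_lit 4, nat_lit 3, nat_lit 2, nat_lit 8, nat_lit 3, nat_lit 11, nat_lit 1, nat_lit 14, nat_lit 13, nat_lit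 12] (Rl.cmp (nat_lit 511) (nat_lit 2491)))))) (FT.node (nat_lit 2791) (FT.leaf (Fct.mk false (nat_lit 5) (nat_lit 0) (nat_lit 5) [nat_lit 8, nat_lit 4, nat_lit 5, nat_lit 2, nat_lit 3, nat_lit 4, nat_lit 1, nat_lit 2, nat_lit 3, nat_lit 8, nat_lit 6, nat_lit 7, nat_lit 5, nat_lit 6, nat_lit 4, nat_lit 5, nat_lit 3, nat_lit 4, nat_lit 2, nat_lit 3, nat_lit 8, nat_lit 1, nat_lit 2, nat_lit 3, nat_lit 4, nat_lit 5, nat_lit 6, nat_lit 7, nat_lit 6, nat_lit 5, nat_lit 4, nat_lit 2, nat_lit 3, nat_lit 8, nat_lit 1, nat_lit 2, nat_lit 3, nat_lit 4, nat_lit 5, nat_lit 1, nat_lit 2, nat_lit 8, nat_lit 3, nat_lit 0, nat_lit 16, nat_lit 15, nat_lit 14, nat_lit 13, nat_lit 19] (Rl.cmp (nat_lit 1754) (nat_lit 2789)))) (FT.node (nat_lit 2792) (FT.leaf (Fct.mk false (nat_lit 5) (nat_lit 0) (nat_lit 5) [nat_lit 8, nat_lit 4, nat_lit 5, nat_lit 2, nat_lit 3,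 nat_lit 4, nat_lit 1, nat_lit 2, nat_lit 3, nat_lit 8, nat_lit 6, nat_lit 7, nat_lit 5, nat_lit 6, nat_lit 4, nat_lit 5, nat_lit 3, nat_lit 4, nat_lit 2, nat_lit 3, nat_lit 8, nat_lit 1, nat_lit 2, nat_lit 3, nat_lit 4, nat_lit 5, nat_lit 6, nat_lit 7, nat_lit 8, nat_lit 3, nat_lit 4, nat_lit 2, nat_lit 3, nat_lit 8, nat_lit 5, nat_lit 6, nat_lit 4, nat_lit 5, nat_lit 3, nat_lit 4, nat_lit 2, nat_lit 3, nat_lit 8, nat_lit 0, nat_lit 1, nat_lit 2, nat_lit 3, nat_lit 4, nat_lit 5, nat_lit 8, nat_lit 4, nat_lit 3, nat_lit 2, nat_lit 0, nat_lit 1, nat_lit 9, nat_lit 4, nat_lit 3, nat_lit 2, nat_lit 8, nat_lit 3, nat_lit 11, nat_lit 10, nat_lit 1, nat_lit 8, nat_lit 16, nat_lit 14, nat_lit 17, nat_lit 12] (Rl.cmp (nat_lit 1859) (nat_lit 2790)))) (FT.leaf (Fct.mk false (nat_lit 5) (nat_lit 0) (nat_lit 5) [nat_lit 8, nat_lit 3, nat_lit 4, nat_lit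 2, nat_lit 3, nat_lit 8, nat_lit 7, nat_lit 5, nat_lit 6, nat_lit 4, nat_lit 5, nat_lit 3, nat_lit 4, nat_lit 2, nat_lit 3, nat_lit 8, nat_lit 0, nat_lit 1, nat_lit 2, nat_lit 3, nat_lit 4, nat_lit 5, nat_lit 6, nat_lit 7, nat_lit 6, nat_lit 5, nat_lit 4, nat_lit 3, nat_lit 8, nat_lit 1, nat_lit 2, nat_lit 3, nat_lit 4, nat_lit 5, nat_lit 1, nat_lit 3, nat_lit 2, nat_lit 8, nat_lit 3, nat_lit 11, nat_lit 10, nat_lit 2, nat_lit 8, nat_lit 10, nat_lit 1, nat_lit 8, nat_lit 16, nat_lit 14, nat_lit 17, nat_lit 18] (Rl.cmp (nat_lit 2491) (nat_lit 2094))))))) (FT.node (nat_lit 2796) (FT.node (nat_lit 2794) (FT.leaf (Fct.mk false (nat_lit 5) (nat_lit 0) (nat_lit 5) [nat_lit 6, nat_lit 1, nat_lit 2, nat_lit 3, nat_lit 9, nat_lit 2, nat_lit 16, nat_lit 15, nat_lit 14, nat_lit 12] (Rl.cmp (nat_lit 1754) (nat_lit 511)))) (FT.node (nat_lit 2795) (FT.leaf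 (Fct.mk false (nat_lit 5) (nat_lit 0) (nat_lit 5) [nat_lit 8, nat_lit 3, nat_lit 4, nat_lit 1, nat_lit 2, nat_lit 3, nat_lit 8, nat_lit 5, nat_lit 6, nat_lit 4, nat_lit 5, nat_lit 3, nat_lit 4, nat_lit 2, nat_lit 3, nat_lit 8, nat_lit 1, nat_lit 2, nat_lit 3, nat_lit 4, nat_lit 5, nat_lit 3, nat_lit 8, nat_lit 4, nat_lit 3, nat_lit 2, nat_lit 1, nat_lit 9, nat_lit 4, nat_lit 3, nat_lit 2, nat_lit 8, nat_lit 3, nat_lit 12, nat_lit 8, nat_lit 16, nat_lit 14, nat_lit 16, nat_lit 8, nat_lit 19] (Rl.cmp (nat_lit 2094) (nat_lit 2793)))) (FT.leaf (Fct.mk false (nat_lit 5) (nat_lit 0) (nat_lit 5) [nat_lit 4, nat_lit 3, nat_lit 8, nat_lit 2, nat_lit 3, nat_lit 4, nat_lit 1, nat_lit 2, nat_lit 3, nat_lit 8, nat_lit 6, nat_lit 7, nat_lit 5, nat_lit 6, nat_lit 4, nat_lit 5, nat_lit 3, nat_lit 4, nat_lit 2, nat_lit 3, nat_lit 8, nat_lit 1, nat_lit 2, nat_lit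 3, nat_lit 4, nat_lit 5, nat_lit 6, nat_lit 7, nat_lit 8, nat_lit 3, nat_lit 4, nat_lit 2, nat_lit 3, nat_lit 8, nat_lit 1, nat_lit 2, nat_lit 3, nat_lit 4, nat_lit 5, nat_lit 8, nat_lit 3, nat_lit 2, nat_lit 1, nat_lit 4, nat_lit 3, nat_lit 2, nat_lit 8, nat_lit 3, nat_lit 10, nat_lit 1, nat_lit 14, nat_lit 8, nat_lit 18, nat_lit 16] (Rl.cmp (nat_lit 511) (nat_lit 2787)))))) (FT.node (nat_lit 2798) (FT.node (nat_lit 2797) (FT.leaf (Fct.mk false (nat_lit 5) (nat_lit 0) (nat_lit 5) [nat_lit 70] (Rl.cmp (nat_lit 511) (nat_lit 470)))) (FT.leaf (Fct.mk false (nat_lit 5) (nat_lit 0) (nat_lit 5) [nat_lit 70] (Rl.cmp (nat_lit 511) (nat_lit 470))))) (FT.node (nat_lit 2799) (FT.leaf (Fct.mk false (nat_lit 5) (nat_lit 0) (nat_lit 5) [nat_lit 0, nat_lit 1, nat_lit 2, nat_lit 3, nat_lit 4, nat_lit 5, nat_lit 0, nat_lit 1, nat_lit 2, nat_lit 3, nat_lit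 11, nat_lit 10, nat_lit 12, nat_lit 15, nat_lit 13] (Rl.cmp (nat_lit 1754) (nat_lit 2797)))) (FT.leaf (Fct.mk false (nat_lit 5) (nat_lit 0) (nat_lit 5) [nat_lit 5, nat_lit 3, nat_lit 1, nat_lit 16, nat_lit 15, nat_lit 14, nat_lit 16] (Rl.cmp (nat_lit 511) (nat_lit 2798)))))))))

/-- some facts -/
noncomputable def ftc56 : FT := FT.node (nat_lit 2825) (FT.node (nat_lit 2812) (FT.node (nat_lit 2806) (FT.node (nat_lit 2803) (FT.node (nat_lit 2801) (FT.leaf (Fct.mk false (nat_lit 5) (nat_lit 0) (nat_lit 5) [nat_lit 8, nat_lit 3, nat_lit 4, nat_lit 2, nat_lit 3, nat_lit 8, nat_lit 7, nat_lit 5, nat_lit 6, nat_lit 4, nat_lit 5, nat_lit 3, nat_lit 4, nat_lit 2, nat_lit 3, nat_lit 8, nat_lit 0, nat_lit 1, nat_lit 2, nat_lit 3, nat_lit 4, nat_lit 5, nat_lit 6, nat_lit 7, nat_lit 0, nat_lit 1, nat_lit 2, nat_lit 3, nat_lit 4, nat_lit 5, nat_lit 8, nat_lit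 3, nat_lit 2, nat_lit 0, nat_lit 1, nat_lit 4, nat_lit 3, nat_lit 2, nat_lit 8, nat_lit 3, nat_lit 11, nat_lit 2, nat_lit 8, nat_lit 12, nat_lit 15, nat_lit 14, nat_lit 13, nat_lit 12, nat_lit 19] (Rl.cmp (nat_lit 2491) (nat_lit 470)))) (FT.node (nat_lit 2802) (FT.leaf (Fct.mk false (nat_lit 5) (nat_lit 0) (nat_lit 5) [nat_lit 8, nat_lit 4, nat_lit 5, nat_lit 2, nat_lit 3, nat_lit 4, nat_lit 1, nat_lit 2, nat_lit 3, nat_lit 8, nat_lit 6, nat_lit 7, nat_lit 5, nat_lit 6, nat_lit 4, nat_lit 5, nat_lit 3, nat_lit 4, nat_lit 2, nat_lit 3, nat_lit 8, nat_lit 1, nat_lit 2, nat_lit 3, nat_lit 4, nat_lit 5, nat_lit 6, nat_lit 7, nat_lit 6, nat_lit 5, nat_lit 4, nat_lit 3, nat_lit 8, nat_lit 2, nat_lit 3, nat_lit 4, nat_lit 5, nat_lit 1, nat_lit 4, nat_lit 3, nat_lit 2, nat_lit 8, nat_lit 3, nat_lit 11, nat_lit 8, nat_lit 16, nat_lit 14, nat_lit 13,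 nat_lit 12, nat_lit 19, nat_lit 16] (Rl.cmp (nat_lit 2491) (nat_lit 2800)))) (FT.leaf (Fct.mk false (nat_lit 5) (nat_lit 0) (nat_lit 5) [nat_lit 8, nat_lit 3, nat_lit 4, nat_lit 2, nat_lit 3, nat_lit 8, nat_lit 7, nat_lit 5, nat_lit 6, nat_lit 4, nat_lit 5, nat_lit 3, nat_lit 4, nat_lit 2, nat_lit 3, nat_lit 8, nat_lit 0, nat_lit 1, nat_lit 2, nat_lit 3, nat_lit 4, nat_lit 5, nat_lit 6, nat_lit 7, nat_lit 3, nat_lit 8, nat_lit 4, nat_lit 5, nat_lit 3, nat_lit 4, nat_lit 2, nat_lit 3, nat_lit 8, nat_lit 1, nat_lit 2, nat_lit 3, nat_lit 4, nat_lit 5, nat_lit 1, nat_lit 4, nat_lit 3, nat_lit 2, nat_lit 8, nat_lit 3, nat_lit 10, nat_lit 0, nat_lit 15, nat_lit 18] (Rl.cmp (nat_lit 493) (nat_lit 2767)))))) (FT.node (nat_lit 2804) (FT.leaf (Fct.mk false (nat_lit 5) (nat_lit 0) (nat_lit 5) [nat_lit 0, nat_lit 1, nat_lit 2, nat_lit 3, nat_lit 4, nat_lit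 5, nat_lit 3, nat_lit 9, nat_lit 2, nat_lit 15] (Rl.cmp (nat_lit 1859) (nat_lit 493)))) (FT.node (nat_lit 2805) (FT.leaf (Fct.mk false (nat_lit 4) (nat_lit 0) (nat_lit 4) [nat_lit 6, nat_lit 7, nat_lit 5, nat_lit 6, nat_lit 4, nat_lit 5, nat_lit 3, nat_lit 4, nat_lit 2, nat_lit 3, nat_lit 8, nat_lit 1, nat_lit 2, nat_lit 3, nat_lit 4, nat_lit 5, nat_lit 6, nat_lit 7, nat_lit 4, nat_lit 5, nat_lit 2, nat_lit 8, nat_lit 3, nat_lit 10, nat_lit 9, nat_lit 2, nat_lit 12, nat_lit 8, nat_lit 16, nat_lit 14, nat_lit 12, nat_lit 16] (Rl.cmp (nat_lit 1995) (nat_lit 2372)))) (FT.leaf (Fct.mk false (nat_lit 5) (nat_lit 0) (nat_lit 5) [nat_lit 5, nat_lit 4, nat_lit 3, nat_lit 8, nat_lit 2, nat_lit 3, nat_lit 4, nat_lit 1, nat_lit 2, nat_lit 3, nat_lit 8, nat_lit 5, nat_lit 6, nat_lit 4, nat_lit 5, nat_lit 3, nat_lit 4, nat_lit 2, nat_lit 3, nat_lit 8, nat_lit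 1, nat_lit 2, nat_lit 3, nat_lit 4, nat_lit 5, nat_lit 1, nat_lit 2, nat_lit 3, nat_lit 8, nat_lit 4, nat_lit 3, nat_lit 2, nat_lit 1, nat_lit 9, nat_lit 4, nat_lit 3, nat_lit 2, nat_lit 8, nat_lit 3, nat_lit 11, nat_lit 10, nat_lit 15, nat_lit 14, nat_lit 8, nat_lit 18, nat_lit 16] (Rl.cmp (nat_lit 1754) (nat_lit 2094))))))) (FT.node (nat_lit 2809) (FT.node (nat_lit 2807) (FT.leaf (Fct.mk false (nat_lit 5) (nat_lit 0) (nat_lit 5) [nat_lit 3, nat_lit 4, nat_lit 5, nat_lit 10, nat_lit 1] (Rl.cmp (nat_lit 470) (nat_lit 1754)))) (FT.node (nat_lit 2808) (FT.leaf (Fct.mk false (nat_lit 5) (nat_lit 0) (nat_lit 5) [nat_lit 1, nat_lit 2, nat_lit 3, nat_lit 4, nat_lit 5, nat_lit 9, nat_lit 4, nat_lit 0, nat_lit 12, nat_lit 15, nat_lit 14, nat_lit 12] (Rl.cmp (nat_lit 511) (nat_lit 2806)))) (FT.leaf (Fct.mk false (nat_lit 5) (nat_lit 0) (nat_lit 5) [nat_lit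 0, nat_lit 1, nat_lit 2, nat_lit 3, nat_lit 4, nat_lit 5, nat_lit 1, nat_lit 2, nat_lit 3, nat_lit 11, nat_lit 15, nat_lit 14, nat_lit 13] (Rl.cmp (nat_lit 511) (nat_lit 472)))))) (FT.node (nat_lit 2810) (FT.leaf (Fct.mk false (nat_lit 5) (nat_lit 0) (nat_lit 5) [nat_lit 3, nat_lit 4, nat_lit 5, nat_lit 4, nat_lit 11, nat_lit 1, nat_lit 16, nat_lit 15, nat_lit 14, nat_lit 13, nat_lit 16] (Rl.cmp (nat_lit 1754) (nat_lit 472)))) (FT.node (nat_lit 2811) (FT.leaf (Fct.mk false (nat_lit 5) (nat_lit 0) (nat_lit 5) [nat_lit 3, nat_lit 4, nat_lit 5, nat_lit 10] (Rl.cmp (nat_lit 470) (nat_lit 2809)))) (FT.leaf (Fct.mk false (nat_lit 5) (nat_lit 0) (nat_lit 5) [nat_lit 1, nat_lit 2, nat_lit 3, nat_lit 4, nat_lit 5, nat_lit 9, nat_lit 4, nat_lit 0, nat_lit 2, nat_lit 12, nat_lit 15, nat_lit 14, nat_lit 12] (Rl.cmp (nat_lit 511) (nat_lit 2810)))))))) (FT.node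 (nat_lit 2818) (FT.node (nat_lit 2815) (FT.node (nat_lit 2813) (FT.leaf (Fct.mk false (nat_lit 5) (nat_lit 0) (nat_lit 5) [nat_lit 6, nat_lit 3, nat_lit 1, nat_lit 9, nat_lit 12, nat_lit 15, nat_lit 12] (Rl.cmp (nat_lit 1859) (nat_lit 488)))) (FT.node (nat_lit 2814) (FT.leaf (Fct.mk false (nat_lit 5) (nat_lit 0) (nat_lit 5) [nat_lit 70] (Rl.cmp (nat_lit 511) (nat_lit 470)))) (FT.leaf (Fct.mk false (nat_lit 5) (nat_lit 0) (nat_lit 5) [nat_lit 6, nat_lit 2, nat_lit 3, nat_lit 12, nat_lit 15, nat_lit 14, nat_lit 12] (Rl.cmp (nat_lit 488) (nat_lit 2813)))))) (FT.node (nat_lit 2816) (FT.leaf (Fct.mk false (nat_lit 5) (nat_lit 0) (nat_lit 5) [nat_lit 4, nat_lit 3, nat_lit 8, nat_lit 2, nat_lit 3, nat_lit 4, nat_lit 1, nat_lit 2, nat_lit 3, nat_lit 8, nat_lit 6, nat_lit 7, nat_lit 5, nat_lit 6, nat_lit 4, nat_lit 5, nat_lit 3, nat_lit 4, nat_lit 2,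 nat_lit 3, nat_lit 8, nat_lit 1, nat_lit 2, nat_lit 3, nat_lit 4, nat_lit 5, nat_lit 6, nat_lit 7, nat_lit 8, nat_lit 3, nat_lit 4, nat_lit 2, nat_lit 3, nat_lit 8, nat_lit 1, nat_lit 2, nat_lit 3, nat_lit 4, nat_lit 5, nat_lit 4, nat_lit 3, nat_lit 2, nat_lit 1, nat_lit 8, nat_lit 3, nat_lit 2, nat_lit 0, nat_lit 1, nat_lit 4, nat_lit 3, nat_lit 2, nat_lit 8, nat_lit 3, nat_lit 11, nat_lit 10, nat_lit 1, nat_lit 13, nat_lit 12] (Rl.cmp (nat_lit 1859) (nat_lit 2704)))) (FT.node (nat_lit 2817) (FT.leaf (Fct.mk false (nat_lit 5) (nat_lit 0) (nat_lit 5) [nat_lit 2, nat_lit 3, nat_lit 8, nat_lit 4, nat_lit 5, nat_lit 3, nat_lit 4, nat_lit 2, nat_lit 3, nat_lit 8, nat_lit 6, nat_lit 7, nat_lit 5, nat_lit 6, nat_lit 4, nat_lit 5, nat_lit 3, nat_lit 4, nat_lit 2, nat_lit 3, nat_lit 8, nat_lit 1, nat_lit 2, nat_lit 3, nat_lit 4, nat_lit 5, nat_lit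 6, nat_lit 7, nat_lit 1, nat_lit 2, nat_lit 3, nat_lit 8, nat_lit 4, nat_lit 5, nat_lit 3, nat_lit 4, nat_lit 2, nat_lit 3, nat_lit 8, nat_lit 1, nat_lit 2, nat_lit 3, nat_lit 4, nat_lit 5, nat_lit 1, nat_lit 4, nat_lit 3, nat_lit 2, nat_lit 8, nat_lit 3, nat_lit 11, nat_lit 1, nat_lit 14, nat_lit 17, nat_lit 12, nat_lit 19, nat_lit 16] (Rl.cmp (nat_lit 2491) (nat_lit 2815)))) (FT.leaf (Fct.mk false (nat_lit 5) (nat_lit 0) (nat_lit 5) [nat_lit 4, nat_lit 3, nat_lit 8, nat_lit 2, nat_lit 3, nat_lit 4, nat_lit 1, nat_lit 2, nat_lit 3, nat_lit 8, nat_lit 6, nat_lit 7, nat_lit 5, nat_lit 6, nat_lit 4, nat_lit 5, nat_lit 3, nat_lit 4, nat_lit 2, nat_lit 3, nat_lit 8, nat_lit 1, nat_lit 2, nat_lit 3, nat_lit 4, nat_lit 5, nat_lit 6, nat_lit 7, nat_lit 6, nat_lit 0, nat_lit 1, nat_lit 2, nat_lit 3, nat_lit 11, nat_lit 16, nat_lit 15, nat_lit 14, nat_lit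 12] (Rl.cmp (nat_lit 2094) (nat_lit 2816))))))) (FT.node (nat_lit 2821) (FT.node (nat_lit 2819) (FT.leaf (Fct.mk false (nat_lit 5) (nat_lit 0) (nat_lit 5) [nat_lit 3, nat_lit 8, nat_lit 2, nat_lit 3, nat_lit 4, nat_lit 1, nat_lit 2, nat_lit 3, nat_lit 8, nat_lit 5, nat_lit 6, nat_lit 4, nat_lit 5, nat_lit 3, nat_lit 4, nat_lit 2, nat_lit 3, nat_lit 8, nat_lit 1, nat_lit 2, nat_lit 3, nat_lit 4, nat_lit 5, nat_lit 0, nat_lit 1, nat_lit 2, nat_lit 3, nat_lit 1, nat_lit 16, nat_lit 15, nat_lit 14, nat_lit 13] (Rl.cmp (nat_lit 2094) (nat_lit 472)))) (FT.node (nat_lit 2820) (FT.leaf (Fct.mk false (nat_lit 5) (nat_lit 0) (nat_lit 5) [nat_lit 8, nat_lit 3, nat_lit 4, nat_lit 2, nat_lit 3, nat_lit 8, nat_lit 7, nat_lit 5, nat_lit 6, nat_lit 4, nat_lit 5, nat_lit 3, nat_lit 4, nat_lit 2, nat_lit 3, nat_lit 8, nat_lit 0, nat_lit 1, nat_lit 2, nat_lit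 3, nat_lit 4, nat_lit 5, nat_lit 6, nat_lit 7, nat_lit 6, nat_lit 5, nat_lit 4, nat_lit 3, nat_lit 8, nat_lit 1, nat_lit 2, nat_lit 3, nat_lit 4, nat_lit 5, nat_lit 1, nat_lit 3, nat_lit 2, nat_lit 8, nat_lit 3, nat_lit 10, nat_lit 9, nat_lit 2, nat_lit 12, nat_lit 15, nat_lit 14, nat_lit 13, nat_lit 19, nat_lit 16] (Rl.cmp (nat_lit 2491) (nat_lit 2818)))) (FT.leaf (Fct.mk false (nat_lit 5) (nat_lit 0) (nat_lit 5) [nat_lit 8, nat_lit 3, nat_lit 4, nat_lit 2, nat_lit 3, nat_lit 8, nat_lit 7, nat_lit 5, nat_lit 6, nat_lit 4, nat_lit 5, nat_lit 3, nat_lit 4, nat_lit 2, nat_lit 3, nat_lit 8, nat_lit 0, nat_lit 1, nat_lit 2, nat_lit 3, nat_lit 4, nat_lit 5, nat_lit 6, nat_lit 7, nat_lit 8, nat_lit 3, nat_lit 4, nat_lit 2, nat_lit 3, nat_lit 8, nat_lit 5, nat_lit 6, nat_lit 4, nat_lit 5, nat_lit 3, nat_lit 4, nat_lit 2, nat_lit 3, nat_lit 8, nat_lit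 0, nat_lit 1, nat_lit 2, nat_lit 3, nat_lit 4, nat_lit 5, nat_lit 3, nat_lit 8, nat_lit 4, nat_lit 3, nat_lit 2, nat_lit 0, nat_lit 1, nat_lit 9, nat_lit 4, nat_lit 3, nat_lit 2, nat_lit 8, nat_lit 3, nat_lit 11, nat_lit 1, nat_lit 12, nat_lit 8, nat_lit 16, nat_lit 14, nat_lit 17, nat_lit 12, nat_lit 16] (Rl.cmp (nat_lit 1754) (nat_lit 2491)))))) (FT.node (nat_lit 2823) (FT.node (nat_lit 2822) (FT.leaf (Fct.mk false (nat_lit 5) (nat_lit 0) (nat_lit 5) [nat_lit 2, nat_lit 3, nat_lit 8, nat_lit 4, nat_lit 5, nat_lit 3, nat_lit 4, nat_lit 2, nat_lit 3, nat_lit 8, nat_lit 6, nat_lit 7, nat_lit 5, nat_lit 6, nat_lit 4, nat_lit 5, nat_lit 3, nat_lit 4, nat_lit 2, nat_lit 3, nat_lit 8, nat_lit 1, nat_lit 2, nat_lit 3, nat_lit 4, nat_lit 5, nat_lit 6, nat_lit 7, nat_lit 6, nat_lit 4, nat_lit 5, nat_lit 3, nat_lit 4, nat_lit 2, nat_lit 3, nat_lit 8,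 nat_lit 1, nat_lit 2, nat_lit 3, nat_lit 4, nat_lit 5, nat_lit 2, nat_lit 3, nat_lit 8, nat_lit 4, nat_lit 3, nat_lit 2, nat_lit 0, nat_lit 1, nat_lit 9, nat_lit 4, nat_lit 3, nat_lit 2, nat_lit 8, nat_lit 3, nat_lit 11, nat_lit 2, nat_lit 10, nat_lit 1, nat_lit 12] (Rl.cmp (nat_lit 2094) (nat_lit 2783)))) (FT.leaf (Fct.mk false (nat_lit 5) (nat_lit 0) (nat_lit 5) [nat_lit 2, nat_lit 3, nat_lit 8, nat_lit 4, nat_lit 5, nat_lit 3, nat_lit 4, nat_lit 2, nat_lit 3, nat_lit 8, nat_lit 6, nat_lit 7, nat_lit 5, nat_lit 6, nat_lit 4, nat_lit 5, nat_lit 3, nat_lit 4, nat_lit 2, nat_lit 3, nat_lit 8, nat_lit 1, nat_lit 2, nat_lit 3, nat_lit 4, nat_lit 5, nat_lit 6, nat_lit 7, nat_lit 8, nat_lit 5, nat_lit 3, nat_lit 4, nat_lit 2, nat_lit 3, nat_lit 8, nat_lit 1, nat_lit 2, nat_lit 3, nat_lit 4, nat_lit 5, nat_lit 2, nat_lit 1, nat_lit 4, nat_lit 3,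 nat_lit 2, nat_lit 8, nat_lit 3, nat_lit 11, nat_lit 2, nat_lit 8, nat_lit 10, nat_lit 1, nat_lit 12, nat_lit 8, nat_lit 16, nat_lit 14, nat_lit 13, nat_lit 16] (Rl.cmp (nat_lit 1859) (nat_lit 2821))))) (FT.node (nat_lit 2824) (FT.leaf (Fct.mk false (nat_lit 5) (nat_lit 0) (nat_lit 5) [nat_lit 3, nat_lit 8, nat_lit 2, nat_lit 3, nat_lit 4, nat_lit 1, nat_lit 2, nat_lit 3, nat_lit 8, nat_lit 5, nat_lit 6, nat_lit 4, nat_lit 5, nat_lit 3, nat_lit 4, nat_lit 2, nat_lit 3, nat_lit 8, nat_lit 1, nat_lit 2, nat_lit 3, nat_lit 4, nat_lit 5, nat_lit 0, nat_lit 1, nat_lit 2, nat_lit 3, nat_lit 1, nat_lit 16, nat_lit 15, nat_lit 14, nat_lit 13] (Rl.cmp (nat_lit 2094) (nat_lit 472)))) (FT.leaf (Fct.mk false (nat_lit 5) (nat_lit 0) (nat_lit 5) [nat_lit 8, nat_lit 3, nat_lit 4, nat_lit 2, nat_lit 3, nat_lit 8, nat_lit 7, nat_lit 5, nat_lit 6, nat_lit 4,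 nat_lit 5, nat_lit 3, nat_lit 4, nat_lit 2, nat_lit 3, nat_lit 8, nat_lit 0, nat_lit 1, nat_lit 2, nat_lit 3, nat_lit 4, nat_lit 5, nat_lit 6, nat_lit 7, nat_lit 6, nat_lit 5, nat_lit 4, nat_lit 3, nat_lit 8, nat_lit 1, nat_lit 2, nat_lit 3, nat_lit 4, nat_lit 5, nat_lit 1, nat_lit 3, nat_lit 2, nat_lit 8, nat_lit 3, nat_lit 10, nat_lit 9, nat_lit 2, nat_lit 12, nat_lit 15, nat_lit 14, nat_lit 13, nat_lit 19, nat_lit 16] (Rl.cmp (nat_lit 2491) (nat_lit 2823))))))))) (FT.node (nat_lit 2837) (FT.node (nat_lit 2831) (FT.node (nat_lit 2828) (FT.node (nat_lit 2826) (FT.leaf (Fct.mk false (nat_lit 5) (nat_lit 0) (nat_lit 5) [nat_lit 2, nat_lit 3, nat_lit 8, nat_lit 4, nat_lit 5, nat_lit 3, nat_lit 4, nat_lit 2, nat_lit 3, nat_lit 8, nat_lit 6, nat_lit 7, nat_lit 5, nat_lit 6, nat_lit 4, nat_lit 5, nat_lit 3, nat_lit 4, nat_lit 2, nat_lit 3, nat_lit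 8, nat_lit 1, nat_lit 2, nat_lit 3, nat_lit 4, nat_lit 5, nat_lit 6, nat_lit 7, nat_lit 6, nat_lit 4, nat_lit 5, nat_lit 3, nat_lit 4, nat_lit 2, nat_lit 3, nat_lit 8, nat_lit 1, nat_lit 2, nat_lit 3, nat_lit 4, nat_lit 5, nat_lit 2, nat_lit 3, nat_lit 8, nat_lit 4, nat_lit 3, nat_lit 2, nat_lit 0, nat_lit 1, nat_lit 9, nat_lit 4, nat_lit 3, nat_lit 2, nat_lit 8, nat_lit 3, nat_lit 11, nat_lit 2, nat_lit 10, nat_lit 1, nat_lit 12] (Rl.cmp (nat_lit 2094) (nat_lit 2824)))) (FT.node (nat_lit 2827) (FT.leaf (Fct.mk false (nat_lit 5) (nat_lit 0) (nat_lit 5) [nat_lit 2, nat_lit 3, nat_lit 8, nat_lit 4, nat_lit 5, nat_lit 3, nat_lit 4, nat_lit 2, nat_lit 3, nat_lit 8, nat_lit 6, nat_lit 7, nat_lit 5, nat_lit 6, nat_lit 4, nat_lit 5, nat_lit 3, nat_lit 4, nat_lit 2, nat_lit 3, nat_lit 8, nat_lit 1, nat_lit 2, nat_lit 3, nat_lit 4, nat_lit 5, nat_lit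 6, nat_lit 7, nat_lit 8, nat_lit 5, nat_lit 3, nat_lit 4, nat_lit 2, nat_lit 3, nat_lit 8, nat_lit 1, nat_lit 2, nat_lit 3, nat_lit 4, nat_lit 5, nat_lit 2, nat_lit 1, nat_lit 4, nat_lit 3, nat_lit 2, nat_lit 8, nat_lit 3, nat_lit 11, nat_lit 2, nat_lit 8, nat_lit 10, nat_lit 1, nat_lit 12, nat_lit 8, nat_lit 16, nat_lit 14, nat_lit 13, nat_lit 16] (Rl.cmp (nat_lit 1859) (nat_lit 2825)))) (FT.leaf (Fct.mk false (nat_lit 5) (nat_lit 0) (nat_lit 5) [nat_lit 2, nat_lit 3, nat_lit 11, nat_lit 10, nat_lit 1, nat_lit 16, nat_lit 12, nat_lit 15, nat_lit 14, nat_lit 13, nat_lit 16] (Rl.cmp (nat_lit 511) (nat_lit 2777)))))) (FT.node (nat_lit 2829) (FT.leaf (Fct.mk false (nat_lit 4) (nat_lit 0) (nat_lit 4) [nat_lit 7, nat_lit 4, nat_lit 10] (Rl.cmp (nat_lit 263) (nat_lit 239)))) (FT.node (nat_lit 2830) (FT.leaf (Fct.mk false (nat_lit 4) (nat_lit 0) (nat_lit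 4) [nat_lit 2, nat_lit 3, nat_lit 4, nat_lit 1, nat_lit 2, nat_lit 3, nat_lit 8, nat_lit 6, nat_lit 7, nat_lit 5, nat_lit 6, nat_lit 4, nat_lit 5, nat_lit 3, nat_lit 4, nat_lit 2, nat_lit 3, nat_lit 8, nat_lit 1, nat_lit 2, nat_lit 3, nat_lit 4, nat_lit 5, nat_lit 6, nat_lit 7, nat_lit 4, nat_lit 1, nat_lit 2, nat_lit 3, nat_lit 8, nat_lit 5, nat_lit 6, nat_lit 4, nat_lit 5, nat_lit 3, nat_lit 4, nat_lit 2, nat_lit 3, nat_lit 8, nat_lit 1, nat_lit 2, nat_lit 3, nat_lit 4, nat_lit 5, nat_lit 1, nat_lit 2, nat_lit 3, nat_lit 8, nat_lit 4, nat_lit 3, nat_lit 2, nat_lit 1, nat_lit 9, nat_lit 4, nat_lit 3, nat_lit 2, nat_lit 8, nat_lit 3, nat_lit 10, nat_lit 1, nat_lit 8, nat_lit 16, nat_lit 14, nat_lit 19, nat_lit 16] (Rl.cmp (nat_lit 2372) (nat_lit 2828)))) (FT.leaf (Fct.mk false (nat_lit 4) (nat_lit 0) (nat_lit 4) [nat_lit 7, nat_lit 4, nat_lit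 1, nat_lit 2, nat_lit 3, nat_lit 8, nat_lit 5, nat_lit 6, nat_lit 4, nat_lit 5, nat_lit 3, nat_lit 4, nat_lit 2, nat_lit 3, nat_lit 8, nat_lit 1, nat_lit 2, nat_lit 3, nat_lit 4, nat_lit 5, nat_lit 4, nat_lit 3, nat_lit 2, nat_lit 1, nat_lit 9, nat_lit 4, nat_lit 3, nat_lit 2, nat_lit 8, nat_lit 3, nat_lit 1, nat_lit 8, nat_lit 16, nat_lit 14, nat_lit 8, nat_lit 18, nat_lit 16] (Rl.cmp (nat_lit 2284) (nat_lit 2829))))))) (FT.node (nat_lit 2834) (FT.node (nat_lit 2832) (FT.leaf (Fct.mk false (nat_lit 4) (nat_lit 0) (nat_lit 4) [nat_lit 2, nat_lit 3, nat_lit 4, nat_lit 1, nat_lit 2, nat_lit 3, nat_lit 8, nat_lit 6, nat_lit 7, nat_lit 5, nat_lit 6, nat_lit 4, nat_lit 5, nat_lit 3, nat_lit 4, nat_lit 2, nat_lit 3, nat_lit 8, nat_lit 1, nat_lit 2, nat_lit 3, nat_lit 4, nat_lit 5, nat_lit 6, nat_lit 7, nat_lit 8, nat_lit 5, nat_lit 3, nat_lit 4,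 nat_lit 2, nat_lit 3, nat_lit 8, nat_lit 1, nat_lit 2, nat_lit 3, nat_lit 4, nat_lit 5, nat_lit 3, nat_lit 9, nat_lit 2, nat_lit 8, nat_lit 16, nat_lit 14, nat_lit 8, nat_lit 18] (Rl.cmp (nat_lit 2372) (nat_lit 2830)))) (FT.node (nat_lit 2833) (FT.leaf (Fct.mk false (nat_lit 4) (nat_lit 0) (nat_lit 4) [nat_lit 7, nat_lit 5, nat_lit 2, nat_lit 8, nat_lit 3, nat_lit 8, nat_lit 10, nat_lit 1, nat_lit 18] (Rl.cmp (nat_lit 2284) (nat_lit 2831)))) (FT.leaf (Fct.mk false (nat_lit 5) (nat_lit 0) (nat_lit 5) [nat_lit 1, nat_lit 2, nat_lit 3, nat_lit 4, nat_lit 5, nat_lit 0, nat_lit 1, nat_lit 2, nat_lit 3, nat_lit 1, nat_lit 12, nat_lit 15, nat_lit 12, nat_lit 16] (Rl.cmp (nat_lit 511) (nat_lit 1754)))))) (FT.node (nat_lit 2835) (FT.leaf (Fct.mk false (nat_lit 5) (nat_lit 0) (nat_lit 5) [nat_lit 8, nat_lit 3, nat_lit 4, nat_lit 2, nat_lit 3, nat_lit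 8, nat_lit 7, nat_lit 5, nat_lit 6, nat_lit 4, nat_lit 5, nat_lit 3, nat_lit 4, nat_lit 2, nat_lit 3, nat_lit 8, nat_lit 0, nat_lit 1, nat_lit 2, nat_lit 3, nat_lit 4, nat_lit 5, nat_lit 6, nat_lit 7, nat_lit 1, nat_lit 2, nat_lit 3, nat_lit 8, nat_lit 4, nat_lit 5, nat_lit 3, nat_lit 4, nat_lit 2, nat_lit 3, nat_lit 8, nat_lit 1, nat_lit 2, nat_lit 3, nat_lit 4, nat_lit 5, nat_lit 2, nat_lit 1, nat_lit 4, nat_lit 3, nat_lit 2, nat_lit 8, nat_lit 3, nat_lit 11, nat_lit 2, nat_lit 8, nat_lit 10, nat_lit 1, nat_lit 12, nat_lit 15, nat_lit 14, nat_lit 17, nat_lit 19, nat_lit 16] (Rl.cmp (nat_lit 2491) (nat_lit 2833)))) (FT.node (nat_lit 2836) (FT.leaf (Fct.mk false (nat_lit 4) (nat_lit 0) (nat_lit 4) [nat_lit 7, nat_lit 8, nat_lit 3, nat_lit 4, nat_lit 2, nat_lit 3, nat_lit 8, nat_lit 1, nat_lit 2, nat_lit 3, nat_lit 4, nat_lit 5, nat_lit 1, nat_lit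 4, nat_lit 3, nat_lit 2, nat_lit 8, nat_lit 3, nat_lit 8, nat_lit 10, nat_lit 1, nat_lit 8, nat_lit 18] (Rl.cmp (nat_lit 263) (nat_lit 234)))) (FT.leaf (Fct.mk false (nat_lit 4) (nat_lit 0) (nat_lit 4) [nat_lit 1, nat_lit 2, nat_lit 3, nat_lit 8, nat_lit 4, nat_lit 5, nat_lit 3, nat_lit 4, nat_lit 2, nat_lit 3, nat_lit 8, nat_lit 1, nat_lit 2, nat_lit 3, nat_lit 4, nat_lit 5, nat_lit 1, nat_lit 4, nat_lit 3, nat_lit 2, nat_lit 8, nat_lit 3, nat_lit 1, nat_lit 18] (Rl.cmp (nat_lit 243) (nat_lit 239)))))))) (FT.node (nat_lit 2843) (FT.node (nat_lit 2840) (FT.node (nat_lit 2838) (FT.leaf (Fct.mk false (nat_lit 4) (nat_lit 0) (nat_lit 4) [nat_lit 6, nat_lit 7, nat_lit 5, nat_lit 6, nat_lit 4, nat_lit 5, nat_lit 3, nat_lit 4, nat_lit 2, nat_lit 3, nat_lit 8, nat_lit 1, nat_lit 2, nat_lit 3, nat_lit 4, nat_lit 5, nat_lit 6, nat_lit 7, nat_lit 4,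 nat_lit 1, nat_lit 2, nat_lit 3, nat_lit 8, nat_lit 5, nat_lit 6, nat_lit 4, nat_lit 5, nat_lit 3, nat_lit 4, nat_lit 2, nat_lit 3, nat_lit 8, nat_lit 1, nat_lit 2, nat_lit 3, nat_lit 4, nat_lit 5, nat_lit 8, nat_lit 4, nat_lit 3, nat_lit 2, nat_lit 1, nat_lit 9, nat_lit 4, nat_lit 3, nat_lit 2, nat_lit 8, nat_lit 3, nat_lit 2, nat_lit 8, nat_lit 10, nat_lit 1, nat_lit 16, nat_lit 14, nat_lit 19, nat_lit 16] (Rl.cmp (nat_lit 1995) (nat_lit 2646)))) (FT.node (nat_lit 2839) (FT.leaf (Fct.mk false (nat_lit 4) (nat_lit 0) (nat_lit 4) [nat_lit 8, nat_lit 4, nat_lit 5, nat_lit 2, nat_lit 3, nat_lit 4, nat_lit 1, nat_lit 2, nat_lit 3, nat_lit 8, nat_lit 6, nat_lit 7, nat_lit 5, nat_lit 6, nat_lit 4, nat_lit 5, nat_lit 3, nat_lit 4, nat_lit 2, nat_lit 3, nat_lit 8, nat_lit 1, nat_lit 2, nat_lit 3, nat_lit 4, nat_lit 5, nat_lit 6, nat_lit 7, nat_lit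 4, nat_lit 1, nat_lit 2, nat_lit 3, nat_lit 8, nat_lit 5, nat_lit 6, nat_lit 4, nat_lit 5, nat_lit 3, nat_lit 4, nat_lit 2, nat_lit 3, nat_lit 8, nat_lit 1, nat_lit 2, nat_lit 3, nat_lit 4, nat_lit 5, nat_lit 1, nat_lit 4, nat_lit 3, nat_lit 2, nat_lit 8, nat_lit 3, nat_lit 10, nat_lit 9, nat_lit 2, nat_lit 14, nat_lit 12, nat_lit 19, nat_lit 16] (Rl.cmp (nat_lit 2372) (nat_lit 2284)))) (FT.leaf (Fct.mk false (nat_lit 4) (nat_lit 0) (nat_lit 4) [nat_lit 5, nat_lit 4, nat_lit 3, nat_lit 8, nat_lit 2, nat_lit 3, nat_lit 4, nat_lit 5, nat_lit 2, nat_lit 1, nat_lit 4, nat_lit 3, nat_lit 2, nat_lit 8, nat_lit 3, nat_lit 8, nat_lit 10, nat_lit 1, nat_lit 14, nat_lit 12, nat_lit 18] (Rl.cmp (nat_lit 312) (nat_lit 234)))))) (FT.node (nat_lit 2841) (FT.leaf (Fct.mk false (nat_lit 4) (nat_lit 0) (nat_lit 4) [nat_lit 5, nat_lit 4, nat_lit 3, nat_lit 8,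 nat_lit 6, nat_lit 7, nat_lit 5, nat_lit 6, nat_lit 4, nat_lit 5, nat_lit 3, nat_lit 4, nat_lit 2, nat_lit 3, nat_lit 8, nat_lit 1, nat_lit 2, nat_lit 3, nat_lit 4, nat_lit 5, nat_lit 6, nat_lit 7, nat_lit 5, nat_lit 4, nat_lit 3, nat_lit 8, nat_lit 2, nat_lit 3, nat_lit 4, nat_lit 5, nat_lit 3, nat_lit 8, nat_lit 4, nat_lit 3, nat_lit 2, nat_lit 1, nat_lit 9, nat_lit 4, nat_lit 3, nat_lit 2, nat_lit 8, nat_lit 3, nat_lit 12, nat_lit 8, nat_lit 16, nat_lit 14, nat_lit 12, nat_lit 19, nat_lit 16] (Rl.cmp (nat_lit 2372) (nat_lit 312)))) (FT.node (nat_lit 2842) (FT.leaf (Fct.mk false (nat_lit 5) (nat_lit 0) (nat_lit 5) [nat_lit 6, nat_lit 9, nat_lit 4, nat_lit 12, nat_lit 15, nat_lit 12, nat_lit 16] (Rl.cmp (nat_lit 1754) (nat_lit 2803)))) (FT.leaf (Fct.mk false (nat_lit 5) (nat_lit 0) (nat_lit 5) [nat_lit 4, nat_lit 5, nat_lit 4, nat_lit 10,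 nat_lit 1] (Rl.cmp (nat_lit 1754) (nat_lit 470))))))) (FT.node (nat_lit 2846) (FT.node (nat_lit 2844) (FT.leaf (Fct.mk false (nat_lit 5) (nat_lit 0) (nat_lit 5) [nat_lit 8, nat_lit 3, nat_lit 4, nat_lit 2, nat_lit 3, nat_lit 8, nat_lit 7, nat_lit 5, nat_lit 6, nat_lit 4, nat_lit 5, nat_lit 3, nat_lit 4, nat_lit 2, nat_lit 3, nat_lit 8, nat_lit 0, nat_lit 1, nat_lit 2, nat_lit 3, nat_lit 4, nat_lit 5, nat_lit 6, nat_lit 7, nat_lit 0, nat_lit 1, nat_lit 2, nat_lit 3, nat_lit 4, nat_lit 5, nat_lit 1, nat_lit 8, nat_lit 3, nat_lit 2, nat_lit 0, nat_lit 1, nat_lit 4, nat_lit 3, nat_lit 2, nat_lit 8, nat_lit 3, nat_lit 10, nat_lit 1, nat_lit 8, nat_lit 12, nat_lit 15, nat_lit 18] (Rl.cmp (nat_lit 2491) (nat_lit 2799)))) (FT.node (nat_lit 2845) (FT.leaf (Fct.mk false (nat_lit 5) (nat_lit 0) (nat_lit 5) [nat_lit 8, nat_lit 2, nat_lit 3, nat_lit 4,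 nat_lit 1, nat_lit 2, nat_lit 3, nat_lit 8, nat_lit 5, nat_lit 6, nat_lit 4, nat_lit 5, nat_lit 3, nat_lit 4, nat_lit 2, nat_lit 3, nat_lit 8, nat_lit 1, nat_lit 2, nat_lit 3, nat_lit 4, nat_lit 5, nat_lit 0, nat_lit 1, nat_lit 2, nat_lit 3, nat_lit 9, nat_lit 16, nat_lit 15, nat_lit 14, nat_lit 13] (Rl.cmp (nat_lit 2094) (nat_lit 470)))) (FT.leaf (Fct.mk false (nat_lit 5) (nat_lit 0) (nat_lit 5) [nat_lit 4, nat_lit 3, nat_lit 8, nat_lit 2, nat_lit 3, nat_lit 4, nat_lit 1, nat_lit 2, nat_lit 3, nat_lit 8, nat_lit 6, nat_lit 7, nat_lit 5, nat_lit 6, nat_lit 4, nat_lit 5, nat_lit 3, nat_lit 4, nat_lit 2, nat_lit 3, nat_lit 8, nat_lit 1, nat_lit 2, nat_lit 3, nat_lit 4, nat_lit 5, nat_lit 6, nat_lit 7, nat_lit 0, nat_lit 1, nat_lit 2, nat_lit 3, nat_lit 4, nat_lit 5, nat_lit 1, nat_lit 8, nat_lit 3, nat_lit 2, nat_lit 0, nat_lit 1, nat_lit 4,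 nat_lit 3, nat_lit 2, nat_lit 8, nat_lit 3, nat_lit 1, nat_lit 8, nat_lit 12, nat_lit 15, nat_lit 8, nat_lit 18] (Rl.cmp (nat_lit 1859) (nat_lit 2792)))))) (FT.node (nat_lit 2848) (FT.node (nat_lit 2847) (FT.leaf (Fct.mk false (nat_lit 5) (nat_lit 0) (nat_lit 5) [nat_lit 8, nat_lit 3, nat_lit 4, nat_lit 2, nat_lit 3, nat_lit 8, nat_lit 7, nat_lit 5, nat_lit 6, nat_lit 4, nat_lit 5, nat_lit 3, nat_lit 4, nat_lit 2, nat_lit 3, nat_lit 8, nat_lit 0, nat_lit 1, nat_lit 2, nat_lit 3, nat_lit 4, nat_lit 5, nat_lit 6, nat_lit 7, nat_lit 6, nat_lit 5, nat_lit 4, nat_lit 3, nat_lit 8, nat_lit 2, nat_lit 3, nat_lit 4, nat_lit 5, nat_lit 1, nat_lit 2, nat_lit 3, nat_lit 2, nat_lit 8, nat_lit 10, nat_lit 1, nat_lit 16, nat_lit 14, nat_lit 12, nat_lit 19] (Rl.cmp (nat_lit 1754) (nat_lit 2834)))) (FT.leaf (Fct.mk false (nat_lit 5) (nat_lit 0) (nat_lit 5)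 [nat_lit 0, nat_lit 1, nat_lit 2, nat_lit 3, nat_lit 4, nat_lit 5, nat_lit 4, nat_lit 11, nat_lit 14, nat_lit 13, nat_lit 16] (Rl.cmp (nat_lit 1754) (nat_lit 2511))))) (FT.node (nat_lit 2849) (FT.leaf (Fct.mk false (nat_lit 5) (nat_lit 0) (nat_lit 5) [nat_lit 8, nat_lit 2, nat_lit 3, nat_lit 4, nat_lit 1, nat_lit 2, nat_lit 3, nat_lit 8, nat_lit 5, nat_lit 6, nat_lit 4, nat_lit 5, nat_lit 3, nat_lit 4, nat_lit 2, nat_lit 3, nat_lit 8, nat_lit 1, nat_lit 2, nat_lit 3, nat_lit 4, nat_lit 5, nat_lit 0, nat_lit 1, nat_lit 2, nat_lit 3, nat_lit 9, nat_lit 16, nat_lit 15, nat_lit 14, nat_lit 13] (Rl.cmp (nat_lit 2094) (nat_lit 470)))) (FT.leaf (Fct.mk false (nat_lit 5) (nat_lit 0) (nat_lit 5) [nat_lit 8, nat_lit 3, nat_lit 4, nat_lit 2, nat_lit 3, nat_lit 8, nat_lit 7, nat_lit 5, nat_lit 6, nat_lit 4, nat_lit 5, nat_lit 3, nat_lit 4, nat_lit 2, nat_lit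 3, nat_lit 8, nat_lit 0, nat_lit 1, nat_lit 2, nat_lit 3, nat_lit 4, nat_lit 5, nat_lit 6, nat_lit 7, nat_lit 6, nat_lit 5, nat_lit 4, nat_lit 2, nat_lit 3, nat_lit 8, nat_lit 1, nat_lit 2, nat_lit 3, nat_lit 4, nat_lit 5, nat_lit 1, nat_lit 3, nat_lit 2, nat_lit 8, nat_lit 3, nat_lit 0, nat_lit 16, nat_lit 8, nat_lit 19, nat_lit 16] (Rl.cmp (nat_lit 2491) (nat_lit 2848)))))))))

/-- some facts -/
noncomputable def ftc57 : FT := FT.node (nat_lit 2875) (FT.node (nat_lit 2862) (FT.node (nat_lit 2856) (FT.node (nat_lit 2853) (FT.node (nat_lit 2851) (FT.leaf (Fct.mk false (nat_lit 5) (nat_lit 0) (nat_lit 5) [nat_lit 2, nat_lit 3, nat_lit 8, nat_lit 4, nat_lit 5, nat_lit 3, nat_lit 4, nat_lit 2, nat_lit 3, nat_lit 8, nat_lit 6, nat_lit 7, nat_lit 5, nat_lit 6, nat_lit 4, nat_lit 5, nat_lit 3, nat_lit 4, nat_lit 2, nat_lit 3, nat_lit 8, nat_lit 1,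 nat_lit 2, nat_lit 3, nat_lit 4, nat_lit 5, nat_lit 6, nat_lit 7, nat_lit 5, nat_lit 6, nat_lit 4, nat_lit 5, nat_lit 3, nat_lit 4, nat_lit 2, nat_lit 3, nat_lit 8, nat_lit 1, nat_lit 2, nat_lit 3, nat_lit 4, nat_lit 5, nat_lit 2, nat_lit 3, nat_lit 8, nat_lit 4, nat_lit 3, nat_lit 2, nat_lit 0, nat_lit 1, nat_lit 9, nat_lit 4, nat_lit 3, nat_lit 2, nat_lit 8, nat_lit 3, nat_lit 16, nat_lit 15, nat_lit 14, nat_lit 13, nat_lit 12, nat_lit 16] (Rl.cmp (nat_lit 2094) (nat_lit 2849)))) (FT.node (nat_lit 2852) (FT.leaf (Fct.mk false (nat_lit 5) (nat_lit 0) (nat_lit 5) [nat_lit 4, nat_lit 3, nat_lit 8, nat_lit 2, nat_lit 3, nat_lit 4, nat_lit 1, nat_lit 2, nat_lit 3, nat_lit 8, nat_lit 5, nat_lit 6, nat_lit 4, nat_lit 5, nat_lit 3, nat_lit 4, nat_lit 2, nat_lit 3, nat_lit 8, nat_lit 1, nat_lit 2, nat_lit 3, nat_lit 4, nat_lit 5, nat_lit 3, nat_lit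 8, nat_lit 4, nat_lit 3, nat_lit 2, nat_lit 1, nat_lit 9, nat_lit 4, nat_lit 3, nat_lit 2, nat_lit 8, nat_lit 3, nat_lit 10, nat_lit 1, nat_lit 12, nat_lit 8, nat_lit 16, nat_lit 14, nat_lit 8, nat_lit 19] (Rl.cmp (nat_lit 2491) (nat_lit 2850)))) (FT.leaf (Fct.mk false (nat_lit 5) (nat_lit 0) (nat_lit 5) [nat_lit 4, nat_lit 5, nat_lit 4, nat_lit 10, nat_lit 1] (Rl.cmp (nat_lit 1754) (nat_lit 470)))))) (FT.node (nat_lit 2854) (FT.leaf (Fct.mk false (nat_lit 5) (nat_lit 0) (nat_lit 5) [nat_lit 8, nat_lit 4, nat_lit 5, nat_lit 2, nat_lit 3, nat_lit 4, nat_lit 1, nat_lit 2, nat_lit 3, nat_lit 8, nat_lit 6, nat_lit 7, nat_lit 5, nat_lit 6, nat_lit 4, nat_lit 5, nat_lit 3, nat_lit 4, nat_lit 2, nat_lit 3, nat_lit 8, nat_lit 1, nat_lit 2, nat_lit 3, nat_lit 4, nat_lit 5, nat_lit 6, nat_lit 7, nat_lit 8, nat_lit 3, nat_lit 4, nat_lit 2, nat_lit 3,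 nat_lit 8, nat_lit 1, nat_lit 2, nat_lit 3, nat_lit 4, nat_lit 5, nat_lit 4, nat_lit 3, nat_lit 2, nat_lit 1, nat_lit 8, nat_lit 3, nat_lit 2, nat_lit 0, nat_lit 1, nat_lit 4, nat_lit 3, nat_lit 2, nat_lit 8, nat_lit 3, nat_lit 11, nat_lit 2, nat_lit 10, nat_lit 1, nat_lit 16, nat_lit 12, nat_lit 15, nat_lit 14, nat_lit 13, nat_lit 16] (Rl.cmp (nat_lit 2094) (nat_lit 2845)))) (FT.node (nat_lit 2855) (FT.leaf (Fct.mk false (nat_lit 4) (nat_lit 0) (nat_lit 4) [nat_lit 2, nat_lit 3, nat_lit 8, nat_lit 4, nat_lit 5, nat_lit 3, nat_lit 4, nat_lit 2, nat_lit 3, nat_lit 8, nat_lit 6, nat_lit 7, nat_lit 5, nat_lit 6, nat_lit 4, nat_lit 5, nat_lit 3, nat_lit 4, nat_lit 2, nat_lit 3, nat_lit 8, nat_lit 1, nat_lit 2, nat_lit 3, nat_lit 4, nat_lit 5, nat_lit 6, nat_lit 7, nat_lit 8, nat_lit 1, nat_lit 2, nat_lit 3, nat_lit 4, nat_lit 5, nat_lit 9, nat_lit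 2, nat_lit 14, nat_lit 8, nat_lit 18, nat_lit 16] (Rl.cmp (nat_lit 2284) (nat_lit 1995)))) (FT.leaf (Fct.mk false (nat_lit 4) (nat_lit 0) (nat_lit 4) [nat_lit 4, nat_lit 10, nat_lit 1] (Rl.cmp (nat_lit 240) (nat_lit 239))))))) (FT.node (nat_lit 2859) (FT.node (nat_lit 2857) (FT.leaf (Fct.mk false (nat_lit 4) (nat_lit 0) (nat_lit 4) [nat_lit 5, nat_lit 4, nat_lit 3, nat_lit 8, nat_lit 2, nat_lit 3, nat_lit 4, nat_lit 5, nat_lit 2, nat_lit 1, nat_lit 4, nat_lit 3, nat_lit 2, nat_lit 8, nat_lit 3, nat_lit 8, nat_lit 10, nat_lit 1, nat_lit 14, nat_lit 12, nat_lit 18] (Rl.cmp (nat_lit 312) (nat_lit 234)))) (FT.node (nat_lit 2858) (FT.leaf (Fct.mk false (nat_lit 5) (nat_lit 0) (nat_lit 5) [nat_lit 8, nat_lit 2, nat_lit 3, nat_lit 4, nat_lit 1, nat_lit 2, nat_lit 3, nat_lit 8, nat_lit 5, nat_lit 6, nat_lit 4, nat_lit 5, nat_lit 3, nat_lit 4, nat_lit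 2, nat_lit 3, nat_lit 8, nat_lit 1, nat_lit 2, nat_lit 3, nat_lit 4, nat_lit 5, nat_lit 0, nat_lit 1, nat_lit 2, nat_lit 3, nat_lit 9, nat_lit 16, nat_lit 15, nat_lit 14, nat_lit 13] (Rl.cmp (nat_lit 2094) (nat_lit 470)))) (FT.leaf (Fct.mk false (nat_lit 5) (nat_lit 0) (nat_lit 5) [nat_lit 8, nat_lit 3, nat_lit 4, nat_lit 2, nat_lit 3, nat_lit 8, nat_lit 7, nat_lit 5, nat_lit 6, nat_lit 4, nat_lit 5, nat_lit 3, nat_lit 4, nat_lit 2, nat_lit 3, nat_lit 8, nat_lit 0, nat_lit 1, nat_lit 2, nat_lit 3, nat_lit 4, nat_lit 5, nat_lit 6, nat_lit 7, nat_lit 6, nat_lit 5, nat_lit 4, nat_lit 2, nat_lit 3, nat_lit 8, nat_lit 1, nat_lit 2, nat_lit 3, nat_lit 4, nat_lit 5, nat_lit 1, nat_lit 3, nat_lit 2, nat_lit 8, nat_lit 3, nat_lit 0, nat_lit 16, nat_lit 8, nat_lit 19, nat_lit 16] (Rl.cmp (nat_lit 2491) (nat_lit 2857)))))) (FT.node (nat_lit 2860) (FT.leaf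 (Fct.mk false (nat_lit 4) (nat_lit 0) (nat_lit 4) [nat_lit 5, nat_lit 4, nat_lit 3, nat_lit 8, nat_lit 6, nat_lit 7, nat_lit 5, nat_lit 6, nat_lit 4, nat_lit 5, nat_lit 3, nat_lit 4, nat_lit 2, nat_lit 3, nat_lit 8, nat_lit 1, nat_lit 2, nat_lit 3, nat_lit 4, nat_lit 5, nat_lit 6, nat_lit 7, nat_lit 6, nat_lit 5, nat_lit 4, nat_lit 3, nat_lit 8, nat_lit 2, nat_lit 3, nat_lit 4, nat_lit 5, nat_lit 16, nat_lit 14, nat_lit 8, nat_lit 18, nat_lit 16] (Rl.cmp (nat_lit 2372) (nat_lit 239)))) (FT.node (nat_lit 2861) (FT.leaf (Fct.mk false (nat_lit 4) (nat_lit 0) (nat_lit 4) [nat_lit 8, nat_lit 3, nat_lit 4, nat_lit 1, nat_lit 2, nat_lit 3, nat_lit 8, nat_lit 6, nat_lit 7, nat_lit 5, nat_lit 6, nat_lit 4, nat_lit 5, nat_lit 3, nat_lit 4, nat_lit 2, nat_lit 3, nat_lit 8, nat_lit 1, nat_lit 2, nat_lit 3, nat_lit 4, nat_lit 5, nat_lit 6, nat_lit 7, nat_lit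 5, nat_lit 4, nat_lit 3, nat_lit 8, nat_lit 2, nat_lit 3, nat_lit 4, nat_lit 1, nat_lit 2, nat_lit 3, nat_lit 8, nat_lit 5, nat_lit 6, nat_lit 4, nat_lit 5, nat_lit 3, nat_lit 4, nat_lit 2, nat_lit 3, nat_lit 8, nat_lit 1, nat_lit 2, nat_lit 3, nat_lit 4, nat_lit 5, nat_lit 2, nat_lit 1, nat_lit 9, nat_lit 4, nat_lit 3, nat_lit 2, nat_lit 8, nat_lit 3, nat_lit 2, nat_lit 8, nat_lit 10, nat_lit 1, nat_lit 14, nat_lit 16, nat_lit 8, nat_lit 18] (Rl.cmp (nat_lit 1995) (nat_lit 2621)))) (FT.leaf (Fct.mk false (nat_lit 4) (nat_lit 0) (nat_lit 4) [nat_lit 2, nat_lit 3, nat_lit 8, nat_lit 6, nat_lit 4, nat_lit 5, nat_lit 3, nat_lit 4, nat_lit 2, nat_lit 3, nat_lit 8, nat_lit 1, nat_lit 2, nat_lit 3, nat_lit 4, nat_lit 5, nat_lit 1, nat_lit 2, nat_lit 8, nat_lit 3, nat_lit 9, nat_lit 8, nat_lit 16, nat_lit 14, nat_lit 16, nat_lit 8, nat_lit 18, nat_lit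 16] (Rl.cmp (nat_lit 1995) (nat_lit 239)))))))) (FT.node (nat_lit 2868) (FT.node (nat_lit 2865) (FT.node (nat_lit 2863) (FT.leaf (Fct.mk false (nat_lit 4) (nat_lit 0) (nat_lit 4) [nat_lit 8, nat_lit 3, nat_lit 4, nat_lit 2, nat_lit 3, nat_lit 8, nat_lit 6, nat_lit 7, nat_lit 5, nat_lit 6, nat_lit 4, nat_lit 5, nat_lit 3, nat_lit 4, nat_lit 2, nat_lit 3, nat_lit 8, nat_lit 1, nat_lit 2, nat_lit 3, nat_lit 4, nat_lit 5, nat_lit 6, nat_lit 7, nat_lit 5, nat_lit 4, nat_lit 3, nat_lit 8, nat_lit 2, nat_lit 3, nat_lit 4, nat_lit 1, nat_lit 2, nat_lit 3, nat_lit 8, nat_lit 5, nat_lit 6, nat_lit 4, nat_lit 5, nat_lit 3, nat_lit 4, nat_lit 2, nat_lit 3, nat_lit 8, nat_lit 1, nat_lit 2, nat_lit 3, nat_lit 4, nat_lit 5, nat_lit 1, nat_lit 4, nat_lit 3, nat_lit 2, nat_lit 8, nat_lit 3, nat_lit 1, nat_lit 16, nat_lit 8, nat_lit 19, nat_lit 16] (Rl.cmp (nat_lit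 312) (nat_lit 2562)))) (FT.node (nat_lit 2864) (FT.leaf (Fct.mk false (nat_lit 4) (nat_lit 0) (nat_lit 4) [nat_lit 8, nat_lit 3, nat_lit 4, nat_lit 2, nat_lit 3, nat_lit 8, nat_lit 1, nat_lit 2, nat_lit 3, nat_lit 4, nat_lit 5, nat_lit 4, nat_lit 3, nat_lit 2, nat_lit 8, nat_lit 3, nat_lit 10, nat_lit 1, nat_lit 8, nat_lit 18] (Rl.cmp (nat_lit 239) (nat_lit 234)))) (FT.leaf (Fct.mk false (nat_lit 4) (nat_lit 0) (nat_lit 4) [nat_lit 5, nat_lit 4, nat_lit 3, nat_lit 8, nat_lit 6, nat_lit 7, nat_lit 5, nat_lit 6, nat_lit 4, nat_lit 5, nat_lit 3, nat_lit 4, nat_lit 2, nat_lit 3, nat_lit 8, nat_lit 1, nat_lit 2, nat_lit 3, nat_lit 4, nat_lit 5, nat_lit 6, nat_lit 7, nat_lit 6, nat_lit 5, nat_lit 4, nat_lit 3, nat_lit 8, nat_lit 2, nat_lit 3, nat_lit 4, nat_lit 1, nat_lit 2, nat_lit 3, nat_lit 8, nat_lit 5, nat_lit 6, nat_lit 4, nat_lit 5, nat_lit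 3, nat_lit 4, nat_lit 2, nat_lit 3, nat_lit 8, nat_lit 1, nat_lit 2, nat_lit 3, nat_lit 4, nat_lit 5, nat_lit 2, nat_lit 1, nat_lit 9, nat_lit 4, nat_lit 3, nat_lit 2, nat_lit 8, nat_lit 3, nat_lit 8, nat_lit 10, nat_lit 1, nat_lit 14, nat_lit 16, nat_lit 8, nat_lit 19, nat_lit 16] (Rl.cmp (nat_lit 2372) (nat_lit 2863)))))) (FT.node (nat_lit 2866) (FT.leaf (Fct.mk false (nat_lit 4) (nat_lit 0) (nat_lit 4) [nat_lit 6, nat_lit 5, nat_lit 4, nat_lit 3, nat_lit 8, nat_lit 2, nat_lit 3, nat_lit 4, nat_lit 1, nat_lit 2, nat_lit 3, nat_lit 8, nat_lit 5, nat_lit 6, nat_lit 4, nat_lit 5, nat_lit 3, nat_lit 4, nat_lit 2, nat_lit 3, nat_lit 8, nat_lit 1, nat_lit 2, nat_lit 3, nat_lit 4, nat_lit 5, nat_lit 6, nat_lit 7, nat_lit 3, nat_lit 8, nat_lit 5, nat_lit 6, nat_lit 4, nat_lit 5, nat_lit 3, nat_lit 4, nat_lit 2, nat_lit 3, nat_lit 8, nat_lit 1, nat_lit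 2, nat_lit 3, nat_lit 4, nat_lit 5, nat_lit 2, nat_lit 1, nat_lit 3, nat_lit 2, nat_lit 8, nat_lit 3, nat_lit 10, nat_lit 12, nat_lit 8, nat_lit 16, nat_lit 14, nat_lit 19] (Rl.cmp (nat_lit 2284) (nat_lit 2864)))) (FT.node (nat_lit 2867) (FT.leaf (Fct.mk false (nat_lit 4) (nat_lit 0) (nat_lit 4) [nat_lit 8, nat_lit 3, nat_lit 4, nat_lit 2, nat_lit 3, nat_lit 8, nat_lit 6, nat_lit 7, nat_lit 5, nat_lit 6, nat_lit 4, nat_lit 5, nat_lit 3, nat_lit 4, nat_lit 2, nat_lit 3, nat_lit 8, nat_lit 1, nat_lit 2, nat_lit 3, nat_lit 4, nat_lit 5, nat_lit 6, nat_lit 7, nat_lit 2, nat_lit 3, nat_lit 8, nat_lit 1, nat_lit 2, nat_lit 3, nat_lit 4, nat_lit 5, nat_lit 4, nat_lit 8, nat_lit 10, nat_lit 1, nat_lit 12, nat_lit 8, nat_lit 16, nat_lit 14, nat_lit 19, nat_lit 16] (Rl.cmp (nat_lit 2284) (nat_lit 2865)))) (FT.leaf (Fct.mk false (nat_lit 4) (nat_lit 0)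 (nat_lit 4) [nat_lit 8, nat_lit 5, nat_lit 2, nat_lit 3, nat_lit 4, nat_lit 1, nat_lit 2, nat_lit 3, nat_lit 8, nat_lit 6, nat_lit 7, nat_lit 5, nat_lit 6, nat_lit 4, nat_lit 5, nat_lit 3, nat_lit 4, nat_lit 2, nat_lit 3, nat_lit 8, nat_lit 1, nat_lit 2, nat_lit 3, nat_lit 4, nat_lit 5, nat_lit 6, nat_lit 7, nat_lit 5, nat_lit 4, nat_lit 3, nat_lit 8, nat_lit 2, nat_lit 3, nat_lit 4, nat_lit 1, nat_lit 2, nat_lit 3, nat_lit 8, nat_lit 5, nat_lit 6, nat_lit 4, nat_lit 5, nat_lit 3, nat_lit 4, nat_lit 2, nat_lit 3, nat_lit 8, nat_lit 1, nat_lit 2, nat_lit 3, nat_lit 4, nat_lit 5, nat_lit 2, nat_lit 1, nat_lit 4, nat_lit 3, nat_lit 2, nat_lit 8, nat_lit 3, nat_lit 1, nat_lit 14, nat_lit 16, nat_lit 8, nat_lit 18] (Rl.cmp (nat_lit 2372) (nat_lit 2866))))))) (FT.node (nat_lit 2871) (FT.node (nat_lit 2869) (FT.leaf (Fct.mk false (nat_lit 5) (nat_lit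 0) (nat_lit 5) [nat_lit 3, nat_lit 4, nat_lit 5, nat_lit 4, nat_lit 10] (Rl.cmp (nat_lit 1754) (nat_lit 2705)))) (FT.node (nat_lit 2870) (FT.leaf (Fct.mk false (nat_lit 25) (nat_lit 0) (nat_lit 25) [nat_lit 4, nat_lit 3, nat_lit 8, nat_lit 2, nat_lit 3, nat_lit 4, nat_lit 5, nat_lit 1, nat_lit 2, nat_lit 3, nat_lit 2, nat_lit 8, nat_lit 10, nat_lit 1, nat_lit 15, nat_lit 12, nat_lit 18, nat_lit 16] (Rl.cmp (nat_lit 2004) (nat_lit 1244)))) (FT.leaf (Fct.mk false (nat_lit 25) (nat_lit 0) (nat_lit 25) [nat_lit 3, nat_lit 4, nat_lit 1, nat_lit 2, nat_lit 3, nat_lit 8, nat_lit 5, nat_lit 6, nat_lit 4, nat_lit 5, nat_lit 3, nat_lit 4, nat_lit 2, nat_lit 3, nat_lit 8, nat_lit 1, nat_lit 2, nat_lit 3, nat_lit 4, nat_lit 5, nat_lit 3, nat_lit 2, nat_lit 1, nat_lit 4, nat_lit 3, nat_lit 2, nat_lit 8, nat_lit 3, nat_lit 11, nat_lit 15, nat_lit 16, nat_lit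 8, nat_lit 19] (Rl.cmp (nat_lit 1247) (nat_lit 2869)))))) (FT.node (nat_lit 2873) (FT.node (nat_lit 2872) (FT.leaf (Fct.mk false (nat_lit 25) (nat_lit 0) (nat_lit 25) [nat_lit 1, nat_lit 2, nat_lit 3, nat_lit 8, nat_lit 6, nat_lit 4, nat_lit 5, nat_lit 3, nat_lit 4, nat_lit 2, nat_lit 3, nat_lit 8, nat_lit 1, nat_lit 2, nat_lit 3, nat_lit 4, nat_lit 5, nat_lit 2, nat_lit 1, nat_lit 9, nat_lit 4, nat_lit 3, nat_lit 2, nat_lit 8, nat_lit 3, nat_lit 2, nat_lit 8, nat_lit 10, nat_lit 1, nat_lit 12, nat_lit 8, nat_lit 16, nat_lit 14] (Rl.cmp (nat_lit 2004) (nat_lit 2870)))) (FT.leaf (Fct.mk false (nat_lit 5) (nat_lit 0) (nat_lit 5) [nat_lit 4, nat_lit 3, nat_lit 8, nat_lit 2, nat_lit 3, nat_lit 4, nat_lit 1, nat_lit 2, nat_lit 3, nat_lit 8, nat_lit 6, nat_lit 7, nat_lit 5, nat_lit 6, nat_lit 4, nat_lit 5, nat_lit 3, nat_lit 4, nat_lit 2, nat_lit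 3, nat_lit 8, nat_lit 1, nat_lit 2, nat_lit 3, nat_lit 4, nat_lit 5, nat_lit 6, nat_lit 7, nat_lit 0, nat_lit 1, nat_lit 2, nat_lit 3, nat_lit 4, nat_lit 5, nat_lit 1, nat_lit 8, nat_lit 3, nat_lit 2, nat_lit 0, nat_lit 1, nat_lit 4, nat_lit 3, nat_lit 2, nat_lit 8, nat_lit 3, nat_lit 1, nat_lit 8, nat_lit 12, nat_lit 15, nat_lit 8, nat_lit 18] (Rl.cmp (nat_lit 1859) (nat_lit 2693))))) (FT.node (nat_lit 2874) (FT.leaf (Fct.mk false (nat_lit 5) (nat_lit 0) (nat_lit 5) [nat_lit 6, nat_lit 5, nat_lit 4, nat_lit 3, nat_lit 8, nat_lit 2, nat_lit 3, nat_lit 4, nat_lit 1, nat_lit 2, nat_lit 3, nat_lit 8, nat_lit 5, nat_lit 6, nat_lit 4, nat_lit 5, nat_lit 3, nat_lit 4, nat_lit 2, nat_lit 3, nat_lit 8, nat_lit 1, nat_lit 2, nat_lit 3, nat_lit 4, nat_lit 5, nat_lit 3, nat_lit 8, nat_lit 4, nat_lit 3, nat_lit 2, nat_lit 1, nat_lit 9, nat_lit 4, nat_lit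 3, nat_lit 2, nat_lit 8, nat_lit 3, nat_lit 10, nat_lit 1, nat_lit 8, nat_lit 12, nat_lit 15, nat_lit 17, nat_lit 12, nat_lit 19, nat_lit 16] (Rl.cmp (nat_lit 2094) (nat_lit 1754)))) (FT.leaf (Fct.mk false (nat_lit 5) (nat_lit 0) (nat_lit 5) [nat_lit 8, nat_lit 3, nat_lit 4, nat_lit 2, nat_lit 3, nat_lit 8, nat_lit 7, nat_lit 5, nat_lit 6, nat_lit 4, nat_lit 5, nat_lit 3, nat_lit 4, nat_lit 2, nat_lit 3, nat_lit 8, nat_lit 0, nat_lit 1, nat_lit 2, nat_lit 3, nat_lit 4, nat_lit 5, nat_lit 6, nat_lit 7, nat_lit 0, nat_lit 1, nat_lit 2, nat_lit 3, nat_lit 4, nat_lit 5, nat_lit 8, nat_lit 3, nat_lit 2, nat_lit 0, nat_lit 1, nat_lit 4, nat_lit 3, nat_lit 2, nat_lit 8, nat_lit 3, nat_lit 11, nat_lit 2, nat_lit 8, nat_lit 12, nat_lit 15, nat_lit 14, nat_lit 13, nat_lit 12, nat_lit 19] (Rl.cmp (nat_lit 2491) (nat_lit 470))))))))) (FT.node (nat_lit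 2887) (FT.node (nat_lit 2881) (FT.node (nat_lit 2878) (FT.node (nat_lit 2876) (FT.leaf (Fct.mk false (nat_lit 5) (nat_lit 0) (nat_lit 5) [nat_lit 8, nat_lit 2, nat_lit 3, nat_lit 4, nat_lit 1, nat_lit 2, nat_lit 3, nat_lit 8, nat_lit 5, nat_lit 6, nat_lit 4, nat_lit 5, nat_lit 3, nat_lit 4, nat_lit 2, nat_lit 3, nat_lit 8, nat_lit 1, nat_lit 2, nat_lit 3, nat_lit 4, nat_lit 5, nat_lit 0, nat_lit 1, nat_lit 2, nat_lit 3, nat_lit 1, nat_lit 16, nat_lit 15, nat_lit 14, nat_lit 13] (Rl.cmp (nat_lit 488) (nat_lit 2094)))) (FT.node (nat_lit 2877) (FT.leaf (Fct.mk false (nat_lit 5) (nat_lit 0) (nat_lit 5) [nat_lit 8, nat_lit 3, nat_lit 4, nat_lit 2, nat_lit 3, nat_lit 8, nat_lit 7, nat_lit 5, nat_lit 6, nat_lit 4, nat_lit 5, nat_lit 3, nat_lit 4, nat_lit 2, nat_lit 3, nat_lit 8, nat_lit 0, nat_lit 1, nat_lit 2, nat_lit 3, nat_lit 4, nat_lit 5, nat_lit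 6, nat_lit 7, nat_lit 6, nat_lit 5, nat_lit 4, nat_lit 2, nat_lit 3, nat_lit 8, nat_lit 1, nat_lit 2, nat_lit 3, nat_lit 4, nat_lit 5, nat_lit 1, nat_lit 3, nat_lit 2, nat_lit 8, nat_lit 3, nat_lit 10, nat_lit 9, nat_lit 2, nat_lit 12, nat_lit 15, nat_lit 14, nat_lit 13, nat_lit 19, nat_lit 16] (Rl.cmp (nat_lit 2491) (nat_lit 2875)))) (FT.leaf (Fct.mk false (nat_lit 5) (nat_lit 0) (nat_lit 5) [nat_lit 4, nat_lit 3, nat_lit 8, nat_lit 2, nat_lit 3, nat_lit 4, nat_lit 1, nat_lit 2, nat_lit 3, nat_lit 8, nat_lit 6, nat_lit 7, nat_lit 5, nat_lit 6, nat_lit 4, nat_lit 5, nat_lit 3, nat_lit 4, nat_lit 2, nat_lit 3, nat_lit 8, nat_lit 1, nat_lit 2, nat_lit 3, nat_lit 4, nat_lit 5, nat_lit 6, nat_lit 7, nat_lit 2, nat_lit 3, nat_lit 8, nat_lit 4, nat_lit 5, nat_lit 3, nat_lit 4, nat_lit 2, nat_lit 3, nat_lit 8, nat_lit 1, nat_lit 2, nat_lit 3, nat_lit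 4, nat_lit 5, nat_lit 3, nat_lit 2, nat_lit 1, nat_lit 4, nat_lit 3, nat_lit 2, nat_lit 8, nat_lit 3, nat_lit 2, nat_lit 8, nat_lit 10, nat_lit 1, nat_lit 12, nat_lit 15, nat_lit 14, nat_lit 12, nat_lit 18] (Rl.cmp (nat_lit 1859) (nat_lit 2876)))))) (FT.node (nat_lit 2879) (FT.leaf (Fct.mk false (nat_lit 5) (nat_lit 0) (nat_lit 5) [nat_lit 8, nat_lit 3, nat_lit 4, nat_lit 2, nat_lit 3, nat_lit 8, nat_lit 7, nat_lit 5, nat_lit 6, nat_lit 4, nat_lit 5, nat_lit 3, nat_lit 4, nat_lit 2, nat_lit 3, nat_lit 8, nat_lit 0, nat_lit 1, nat_lit 2, nat_lit 3, nat_lit 4, nat_lit 5, nat_lit 6, nat_lit 7, nat_lit 8, nat_lit 3, nat_lit 4, nat_lit 2, nat_lit 3, nat_lit 8, nat_lit 1, nat_lit 2, nat_lit 3, nat_lit 4, nat_lit 5, nat_lit 2, nat_lit 1, nat_lit 4, nat_lit 3, nat_lit 2, nat_lit 8, nat_lit 3, nat_lit 2, nat_lit 10, nat_lit 1, nat_lit 12, nat_lit 15,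 nat_lit 14, nat_lit 12, nat_lit 18] (Rl.cmp (nat_lit 2491) (nat_lit 2673)))) (FT.node (nat_lit 2880) (FT.leaf (Fct.mk false (nat_lit 4) (nat_lit 0) (nat_lit 4) [nat_lit 5, nat_lit 4, nat_lit 3, nat_lit 8, nat_lit 6, nat_lit 7, nat_lit 5, nat_lit 6, nat_lit 4, nat_lit 5, nat_lit 3, nat_lit 4, nat_lit 2, nat_lit 3, nat_lit 8, nat_lit 1, nat_lit 2, nat_lit 3, nat_lit 4, nat_lit 5, nat_lit 6, nat_lit 7, nat_lit 6, nat_lit 5, nat_lit 4, nat_lit 3, nat_lit 8, nat_lit 2, nat_lit 3, nat_lit 4, nat_lit 5, nat_lit 16, nat_lit 14, nat_lit 8, nat_lit 18, nat_lit 16] (Rl.cmp (nat_lit 2372) (nat_lit 239)))) (FT.leaf (Fct.mk false (nat_lit 4) (nat_lit 0) (nat_lit 4) [nat_lit 5, nat_lit 6, nat_lit 4, nat_lit 5, nat_lit 3, nat_lit 4, nat_lit 2, nat_lit 3, nat_lit 8, nat_lit 1, nat_lit 2, nat_lit 3, nat_lit 4, nat_lit 5, nat_lit 1, nat_lit 9, nat_lit 4, nat_lit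 3, nat_lit 2, nat_lit 8, nat_lit 3, nat_lit 9, nat_lit 2, nat_lit 12, nat_lit 8, nat_lit 16, nat_lit 14, nat_lit 18, nat_lit 16] (Rl.cmp (nat_lit 312) (nat_lit 1995))))))) (FT.node (nat_lit 2884) (FT.node (nat_lit 2882) (FT.leaf (Fct.mk false (nat_lit 4) (nat_lit 0) (nat_lit 4) [nat_lit 2, nat_lit 3, nat_lit 8, nat_lit 4, nat_lit 5, nat_lit 3, nat_lit 4, nat_lit 2, nat_lit 3, nat_lit 8, nat_lit 6, nat_lit 7, nat_lit 5, nat_lit 6, nat_lit 4, nat_lit 5, nat_lit 3, nat_lit 4, nat_lit 2, nat_lit 3, nat_lit 8, nat_lit 1, nat_lit 2, nat_lit 3, nat_lit 4, nat_lit 5, nat_lit 6, nat_lit 7, nat_lit 6, nat_lit 5, nat_lit 4, nat_lit 3, nat_lit 8, nat_lit 2, nat_lit 3, nat_lit 4, nat_lit 5, nat_lit 4, nat_lit 14, nat_lit 8, nat_lit 16] (Rl.cmp (nat_lit 2284) (nat_lit 2880)))) (FT.node (nat_lit 2883) (FT.leaf (Fct.mk false (nat_lit 5) (nat_lit 0) (nat_lit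 5) [nat_lit 0, nat_lit 1, nat_lit 2, nat_lit 3, nat_lit 4, nat_lit 5, nat_lit 11, nat_lit 2, nat_lit 14, nat_lit 13, nat_lit 16] (Rl.cmp (nat_lit 1754) (nat_lit 2653)))) (FT.leaf (Fct.mk false (nat_lit 5) (nat_lit 0) (nat_lit 5) [nat_lit 8, nat_lit 3, nat_lit 4, nat_lit 2, nat_lit 3, nat_lit 8, nat_lit 7, nat_lit 5, nat_lit 6, nat_lit 4, nat_lit 5, nat_lit 3, nat_lit 4, nat_lit 2, nat_lit 3, nat_lit 8, nat_lit 0, nat_lit 1, nat_lit 2, nat_lit 3, nat_lit 4, nat_lit 5, nat_lit 6, nat_lit 7, nat_lit 6, nat_lit 5, nat_lit 4, nat_lit 3, nat_lit 8, nat_lit 1, nat_lit 2, nat_lit 3, nat_lit 4, nat_lit 5, nat_lit 1, nat_lit 3, nat_lit 2, nat_lit 8, nat_lit 3, nat_lit 11, nat_lit 10, nat_lit 2, nat_lit 8, nat_lit 10, nat_lit 1, nat_lit 8, nat_lit 16, nat_lit 14, nat_lit 17, nat_lit 18] (Rl.cmp (nat_lit 2491) (nat_lit 2094)))))) (FT.node (nat_lit 2885)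 (FT.leaf (Fct.mk false (nat_lit 25) (nat_lit 0) (nat_lit 25) [nat_lit 6, nat_lit 5, nat_lit 3, nat_lit 4, nat_lit 1, nat_lit 2, nat_lit 3, nat_lit 8, nat_lit 0, nat_lit 1, nat_lit 2, nat_lit 3, nat_lit 4, nat_lit 5, nat_lit 0, nat_lit 1, nat_lit 9, nat_lit 4, nat_lit 3, nat_lit 2, nat_lit 8, nat_lit 3, nat_lit 15, nat_lit 14, nat_lit 16] (Rl.cmp (nat_lit 1237) (nat_lit 1231)))) (FT.node (nat_lit 2886) (FT.leaf (Fct.mk false (nat_lit 5) (nat_lit 0) (nat_lit 5) [nat_lit 8, nat_lit 3, nat_lit 4, nat_lit 1, nat_lit 2, nat_lit 3, nat_lit 8, nat_lit 5, nat_lit 6, nat_lit 4, nat_lit 5, nat_lit 3, nat_lit 4, nat_lit 2, nat_lit 3, nat_lit 8, nat_lit 1, nat_lit 2, nat_lit 3, nat_lit 4, nat_lit 5, nat_lit 3, nat_lit 8, nat_lit 4, nat_lit 3, nat_lit 2, nat_lit 1, nat_lit 9, nat_lit 4, nat_lit 3, nat_lit 2, nat_lit 8, nat_lit 3, nat_lit 11, nat_lit 2, nat_lit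 10, nat_lit 1, nat_lit 8, nat_lit 16, nat_lit 14, nat_lit 17, nat_lit 12, nat_lit 16] (Rl.cmp (nat_lit 511) (nat_lit 2744)))) (FT.leaf (Fct.mk false (nat_lit 5) (nat_lit 0) (nat_lit 5) [nat_lit 8, nat_lit 3, nat_lit 4, nat_lit 2, nat_lit 3, nat_lit 8, nat_lit 7, nat_lit 5, nat_lit 6, nat_lit 4, nat_lit 5, nat_lit 3, nat_lit 4, nat_lit 2, nat_lit 3, nat_lit 8, nat_lit 0, nat_lit 1, nat_lit 2, nat_lit 3, nat_lit 4, nat_lit 5, nat_lit 6, nat_lit 7, nat_lit 6, nat_lit 5, nat_lit 4, nat_lit 3, nat_lit 8, nat_lit 2, nat_lit 3, nat_lit 4, nat_lit 1, nat_lit 2, nat_lit 3, nat_lit 8, nat_lit 5, nat_lit 6, nat_lit 4, nat_lit 5, nat_lit 3, nat_lit 4, nat_lit 2, nat_lit 3, nat_lit 8, nat_lit 1, nat_lit 2, nat_lit 3, nat_lit 4, nat_lit 5, nat_lit 0, nat_lit 1, nat_lit 2, nat_lit 3, nat_lit 11, nat_lit 15, nat_lit 14, nat_lit 13] (Rl.cmp (nat_lit 2491) (nat_lit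 2885)))))))) (FT.node (nat_lit 2893) (FT.node (nat_lit 2890) (FT.node (nat_lit 2888) (FT.leaf (Fct.mk false (nat_lit 5) (nat_lit 0) (nat_lit 5) [nat_lit 3, nat_lit 11, nat_lit 10, nat_lit 1, nat_lit 16, nat_lit 15, nat_lit 14, nat_lit 13, nat_lit 16] (Rl.cmp (nat_lit 488) (nat_lit 470)))) (FT.node (nat_lit 2889) (FT.leaf (Fct.mk false (nat_lit 5) (nat_lit 0) (nat_lit 5) [nat_lit 3] (Rl.cmp (nat_lit 493) (nat_lit 2887)))) (FT.leaf (Fct.mk false (nat_lit 5) (nat_lit 0) (nat_lit 5) [nat_lit 5, nat_lit 3, nat_lit 11, nat_lit 10, nat_lit 1, nat_lit 16, nat_lit 15, nat_lit 14, nat_lit 13, nat_lit 16] (Rl.cmp (nat_lit 493) (nat_lit 488)))))) (FT.node (nat_lit 2891) (FT.leaf (Fct.mk false (nat_lit 5) (nat_lit 0) (nat_lit 5) [nat_lit 4, nat_lit 5, nat_lit 10, nat_lit 1] (Rl.cmp (nat_lit 1754) (nat_lit 2889)))) (FT.node (nat_lit 2892) (FT.leaf (Fct.mk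 false (nat_lit 5) (nat_lit 0) (nat_lit 5) [nat_lit 8, nat_lit 3, nat_lit 4, nat_lit 2, nat_lit 3, nat_lit 8, nat_lit 5, nat_lit 6, nat_lit 4, nat_lit 5, nat_lit 3, nat_lit 4, nat_lit 2, nat_lit 3, nat_lit 8, nat_lit 1, nat_lit 2, nat_lit 3, nat_lit 4, nat_lit 5, nat_lit 8, nat_lit 3, nat_lit 2, nat_lit 1, nat_lit 9, nat_lit 4, nat_lit 3, nat_lit 2, nat_lit 8, nat_lit 3, nat_lit 11, nat_lit 1, nat_lit 8, nat_lit 12, nat_lit 15, nat_lit 14, nat_lit 18] (Rl.cmp (nat_lit 2094) (nat_lit 2882)))) (FT.leaf (Fct.mk false (nat_lit 4) (nat_lit 0) (nat_lit 4) [nat_lit 5, nat_lit 4, nat_lit 3, nat_lit 8, nat_lit 6, nat_lit 7, nat_lit 5, nat_lit 6, nat_lit 4, nat_lit 5, nat_lit 3, nat_lit 4, nat_lit 2, nat_lit 3, nat_lit 8, nat_lit 1, nat_lit 2, nat_lit 3, nat_lit 4, nat_lit 5, nat_lit 6, nat_lit 7, nat_lit 6, nat_lit 5, nat_lit 4, nat_lit 3, nat_lit 8,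 nat_lit 2, nat_lit 3, nat_lit 4, nat_lit 1, nat_lit 2, nat_lit 3, nat_lit 8, nat_lit 5, nat_lit 6, nat_lit 4, nat_lit 5, nat_lit 3, nat_lit 4, nat_lit 2, nat_lit 3, nat_lit 8, nat_lit 1, nat_lit 2, nat_lit 3, nat_lit 4, nat_lit 5, nat_lit 3, nat_lit 2, nat_lit 1, nat_lit 9, nat_lit 4, nat_lit 3, nat_lit 2, nat_lit 8, nat_lit 3, nat_lit 2, nat_lit 8, nat_lit 10, nat_lit 1, nat_lit 14, nat_lit 16, nat_lit 8, nat_lit 19, nat_lit 16] (Rl.cmp (nat_lit 2372) (nat_lit 234))))))) (FT.node (nat_lit 2896) (FT.node (nat_lit 2894) (FT.leaf (Fct.mk false (nat_lit 4) (nat_lit 0) (nat_lit 4) [nat_lit 5, nat_lit 4, nat_lit 3, nat_lit 8, nat_lit 6, nat_lit 7, nat_lit 5, nat_lit 6, nat_lit 4, nat_lit 5, nat_lit 3, nat_lit 4, nat_lit 2, nat_lit 3, nat_lit 8, nat_lit 1, nat_lit 2, nat_lit 3, nat_lit 4, nat_lit 5, nat_lit 6, nat_lit 7, nat_lit 6, nat_lit 5, nat_lit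 4, nat_lit 3, nat_lit 8, nat_lit 2, nat_lit 3, nat_lit 4, nat_lit 1, nat_lit 2, nat_lit 3, nat_lit 8, nat_lit 5, nat_lit 6, nat_lit 4, nat_lit 5, nat_lit 3, nat_lit 4, nat_lit 2, nat_lit 3, nat_lit 8, nat_lit 1, nat_lit 2, nat_lit 3, nat_lit 4, nat_lit 5, nat_lit 8, nat_lit 3, nat_lit 2, nat_lit 1, nat_lit 9, nat_lit 4, nat_lit 3, nat_lit 2, nat_lit 8, nat_lit 3, nat_lit 2, nat_lit 8, nat_lit 10, nat_lit 1, nat_lit 14, nat_lit 16, nat_lit 8, nat_lit 19, nat_lit 16] (Rl.cmp (nat_lit 240) (nat_lit 2892)))) (FT.node (nat_lit 2895) (FT.leaf (Fct.mk false (nat_lit 25) (nat_lit 0) (nat_lit 25) [nat_lit 8, nat_lit 4, nat_lit 5, nat_lit 3, nat_lit 4, nat_lit 1, nat_lit 2, nat_lit 3, nat_lit 8, nat_lit 0, nat_lit 1, nat_lit 2, nat_lit 3, nat_lit 4, nat_lit 5, nat_lit 2, nat_lit 1, nat_lit 9, nat_lit 4, nat_lit 3, nat_lit 2, nat_lit 8, nat_lit 3, nat_lit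 11, nat_lit 2, nat_lit 10, nat_lit 1, nat_lit 12, nat_lit 15, nat_lit 17, nat_lit 19] (Rl.cmp (nat_lit 1258) (nat_lit 1672)))) (FT.leaf (Fct.mk false (nat_lit 25) (nat_lit 0) (nat_lit 25) [nat_lit 8, nat_lit 7, nat_lit 6, nat_lit 5, nat_lit 2, nat_lit 3, nat_lit 4, nat_lit 1, nat_lit 2, nat_lit 3, nat_lit 8, nat_lit 0, nat_lit 1, nat_lit 2, nat_lit 3, nat_lit 4, nat_lit 5, nat_lit 6, nat_lit 7, nat_lit 5, nat_lit 4, nat_lit 3, nat_lit 8, nat_lit 2, nat_lit 3, nat_lit 4, nat_lit 1, nat_lit 2, nat_lit 3, nat_lit 8, nat_lit 5, nat_lit 6, nat_lit 4, nat_lit 5, nat_lit 3, nat_lit 4, nat_lit 2, nat_lit 3, nat_lit 8, nat_lit 1, nat_lit 2, nat_lit 3, nat_lit 4, nat_lit 5, nat_lit 2, nat_lit 1, nat_lit 9, nat_lit 4, nat_lit 3, nat_lit 2, nat_lit 8, nat_lit 3, nat_lit 9, nat_lit 2, nat_lit 15, nat_lit 14, nat_lit 13, nat_lit 16] (Rl.cmp (nat_lit 2467)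 (nat_lit 2894)))))) (FT.node (nat_lit 2898) (FT.node (nat_lit 2897) (FT.leaf (Fct.mk false (nat_lit 25) (nat_lit 0) (nat_lit 25) [nat_lit 7, nat_lit 6, nat_lit 5, nat_lit 4, nat_lit 3, nat_lit 8, nat_lit 2, nat_lit 3, nat_lit 4, nat_lit 5, nat_lit 6, nat_lit 7, nat_lit 1, nat_lit 2, nat_lit 3, nat_lit 8, nat_lit 5, nat_lit 6, nat_lit 4, nat_lit 5, nat_lit 3, nat_lit 4, nat_lit 2, nat_lit 3, nat_lit 8, nat_lit 1, nat_lit 2, nat_lit 3, nat_lit 4, nat_lit 5, nat_lit 2, nat_lit 3, nat_lit 8, nat_lit 4, nat_lit 3, nat_lit 2, nat_lit 1, nat_lit 9, nat_lit 4, nat_lit 3, nat_lit 2, nat_lit 8, nat_lit 3, nat_lit 2, nat_lit 16, nat_lit 15, nat_lit 14, nat_lit 8, nat_lit 16] (Rl.cmp (nat_lit 2004) (nat_lit 2895)))) (FT.leaf (Fct.mk false (nat_lit 5) (nat_lit 0) (nat_lit 5) [nat_lit 4, nat_lit 5, nat_lit 0, nat_lit 1, nat_lit 2, nat_lit 3, nat_lit 0, nat_lit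 12, nat_lit 15, nat_lit 16] (Rl.cmp (nat_lit 1859) (nat_lit 2842))))) (FT.node (nat_lit 2899) (FT.leaf (Fct.mk false (nat_lit 5) (nat_lit 0) (nat_lit 5) [nat_lit 6, nat_lit 1, nat_lit 12, nat_lit 15, nat_lit 12] (Rl.cmp (nat_lit 1859) (nat_lit 470)))) (FT.leaf (Fct.mk false (nat_lit 4) (nat_lit 0) (nat_lit 4) [nat_lit 2, nat_lit 3, nat_lit 8, nat_lit 6, nat_lit 4, nat_lit 5, nat_lit 3, nat_lit 4, nat_lit 2, nat_lit 3, nat_lit 8, nat_lit 1, nat_lit 2, nat_lit 3, nat_lit 4, nat_lit 5, nat_lit 2, nat_lit 3, nat_lit 8, nat_lit 4, nat_lit 3, nat_lit 2, nat_lit 1, nat_lit 9, nat_lit 4, nat_lit 3, nat_lit 2, nat_lit 8, nat_lit 3, nat_lit 10, nat_lit 12, nat_lit 8, nat_lit 16, nat_lit 14, nat_lit 8, nat_lit 19] (Rl.cmp (nat_lit 234) (nat_lit 2861)))))))))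

/-- some facts -/
noncomputable def ftc58 : FT := FT.node (nat_lit 2925) (FT.node (nat_lit 2912) (FT.node (nat_lit 2906) (FT.node (nat_lit 2903) (FT.node (nat_lit 2901) (FT.leaf (Fct.mk false (nat_lit 4) (nat_lit 0) (nat_lit 4) [nat_lit 5, nat_lit 4, nat_lit 3, nat_lit 8, nat_lit 6, nat_lit 7, nat_lit 5, nat_lit 6, nat_lit 4, nat_lit 5, nat_lit 3, nat_lit 4, nat_lit 2, nat_lit 3, nat_lit 8, nat_lit 1, nat_lit 2, nat_lit 3, nat_lit 4, nat_lit 5, nat_lit 6, nat_lit 7, nat_lit 2, nat_lit 3, nat_lit 8, nat_lit 5, nat_lit 6, nat_lit 4, nat_lit 5, nat_lit 3, nat_lit 4, nat_lit 2, nat_lit 3, nat_lit 8, nat_lit 1, nat_lit 2, nat_lit 3, nat_lit 4, nat_lit 5, nat_lit 3, nat_lit 8, nat_lit 4, nat_lit 3, nat_lit 2, nat_lit 1, nat_lit 9, nat_lit 4, nat_lit 3, nat_lit 2, nat_lit 8, nat_lit 3, nat_lit 2, nat_lit 8, nat_lit 10, nat_lit 1, nat_lit 16, nat_lit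 14, nat_lit 18] (Rl.cmp (nat_lit 2372) (nat_lit 2899)))) (FT.node (nat_lit 2902) (FT.leaf (Fct.mk false (nat_lit 4) (nat_lit 0) (nat_lit 4) [nat_lit 2, nat_lit 3, nat_lit 4, nat_lit 1, nat_lit 2, nat_lit 3, nat_lit 8, nat_lit 6, nat_lit 7, nat_lit 5, nat_lit 6, nat_lit 4, nat_lit 5, nat_lit 3, nat_lit 4, nat_lit 2, nat_lit 3, nat_lit 8, nat_lit 1, nat_lit 2, nat_lit 3, nat_lit 4, nat_lit 5, nat_lit 6, nat_lit 7, nat_lit 8, nat_lit 1, nat_lit 2, nat_lit 3, nat_lit 4, nat_lit 5, nat_lit 9, nat_lit 2, nat_lit 14, nat_lit 8, nat_lit 16] (Rl.cmp (nat_lit 243) (nat_lit 2900)))) (FT.leaf (Fct.mk false (nat_lit 4) (nat_lit 0) (nat_lit 4) [nat_lit 8, nat_lit 4, nat_lit 5, nat_lit 2, nat_lit 3, nat_lit 4, nat_lit 1, nat_lit 2, nat_lit 3, nat_lit 8, nat_lit 6, nat_lit 7, nat_lit 5, nat_lit 6, nat_lit 4, nat_lit 5, nat_lit 3, nat_lit 4, nat_lit 2, nat_lit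 3, nat_lit 8, nat_lit 1, nat_lit 2, nat_lit 3, nat_lit 4, nat_lit 5, nat_lit 6, nat_lit 7, nat_lit 4, nat_lit 1, nat_lit 2, nat_lit 3, nat_lit 8, nat_lit 5, nat_lit 6, nat_lit 4, nat_lit 5, nat_lit 3, nat_lit 4, nat_lit 2, nat_lit 3, nat_lit 8, nat_lit 1, nat_lit 2, nat_lit 3, nat_lit 4, nat_lit 5, nat_lit 1, nat_lit 4, nat_lit 3, nat_lit 2, nat_lit 8, nat_lit 3, nat_lit 10, nat_lit 9, nat_lit 2, nat_lit 14, nat_lit 12, nat_lit 19, nat_lit 16] (Rl.cmp (nat_lit 2372) (nat_lit 2284)))))) (FT.node (nat_lit 2904) (FT.leaf (Fct.mk false (nat_lit 4) (nat_lit 0) (nat_lit 4) [nat_lit 8, nat_lit 5, nat_lit 2, nat_lit 3, nat_lit 4, nat_lit 1, nat_lit 2, nat_lit 3, nat_lit 8, nat_lit 6, nat_lit 7, nat_lit 5, nat_lit 6, nat_lit 4, nat_lit 5, nat_lit 3, nat_lit 4, nat_lit 2, nat_lit 3, nat_lit 8, nat_lit 1, nat_lit 2, nat_lit 3, nat_lit 4, nat_lit 5, nat_lit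 6, nat_lit 7, nat_lit 2, nat_lit 3, nat_lit 8, nat_lit 6, nat_lit 4, nat_lit 5, nat_lit 3, nat_lit 4, nat_lit 2, nat_lit 3, nat_lit 8, nat_lit 1, nat_lit 2, nat_lit 3, nat_lit 4, nat_lit 5, nat_lit 3, nat_lit 10, nat_lit 1, nat_lit 16, nat_lit 8, nat_lit 18, nat_lit 16] (Rl.cmp (nat_lit 2284) (nat_lit 2902)))) (FT.node (nat_lit 2905) (FT.leaf (Fct.mk false (nat_lit 4) (nat_lit 0) (nat_lit 4) [nat_lit 7, nat_lit 4, nat_lit 1, nat_lit 2, nat_lit 3, nat_lit 8, nat_lit 5, nat_lit 6, nat_lit 4, nat_lit 5, nat_lit 3, nat_lit 4, nat_lit 2, nat_lit 3, nat_lit 8, nat_lit 1, nat_lit 2, nat_lit 3, nat_lit 4, nat_lit 5, nat_lit 1, nat_lit 2, nat_lit 3, nat_lit 2, nat_lit 10, nat_lit 1, nat_lit 8, nat_lit 16, nat_lit 14, nat_lit 8, nat_lit 19] (Rl.cmp (nat_lit 2284) (nat_lit 2670)))) (FT.leaf (Fct.mk false (nat_lit 4) (nat_lit 0) (nat_lit 4) [nat_lit 2,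 nat_lit 3, nat_lit 4, nat_lit 1, nat_lit 2, nat_lit 3, nat_lit 8, nat_lit 6, nat_lit 7, nat_lit 5, nat_lit 6, nat_lit 4, nat_lit 5, nat_lit 3, nat_lit 4, nat_lit 2, nat_lit 3, nat_lit 8, nat_lit 1, nat_lit 2, nat_lit 3, nat_lit 4, nat_lit 5, nat_lit 6, nat_lit 7, nat_lit 8, nat_lit 5, nat_lit 3, nat_lit 4, nat_lit 2, nat_lit 3, nat_lit 8, nat_lit 1, nat_lit 2, nat_lit 3, nat_lit 4, nat_lit 5, nat_lit 3, nat_lit 8, nat_lit 4, nat_lit 3, nat_lit 2, nat_lit 1, nat_lit 9, nat_lit 4, nat_lit 3, nat_lit 2, nat_lit 8, nat_lit 3, nat_lit 9, nat_lit 16] (Rl.cmp (nat_lit 2372) (nat_lit 2904))))))) (FT.node (nat_lit 2909) (FT.node (nat_lit 2907) (FT.leaf (Fct.mk false (nat_lit 4) (nat_lit 0) (nat_lit 4) [nat_lit 5, nat_lit 4, nat_lit 3, nat_lit 8, nat_lit 6, nat_lit 7, nat_lit 5, nat_lit 6, nat_lit 4, nat_lit 5, nat_lit 3, nat_lit 4, nat_lit 2, nat_lit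 3, nat_lit 8, nat_lit 1, nat_lit 2, nat_lit 3, nat_lit 4, nat_lit 5, nat_lit 6, nat_lit 7, nat_lit 6, nat_lit 5, nat_lit 3, nat_lit 4, nat_lit 2, nat_lit 3, nat_lit 8, nat_lit 1, nat_lit 2, nat_lit 3, nat_lit 4, nat_lit 5, nat_lit 9, nat_lit 4, nat_lit 2, nat_lit 8, nat_lit 10, nat_lit 1, nat_lit 8, nat_lit 16, nat_lit 14, nat_lit 19, nat_lit 16] (Rl.cmp (nat_lit 234) (nat_lit 2905)))) (FT.node (nat_lit 2908) (FT.leaf (Fct.mk false (nat_lit 4) (nat_lit 0) (nat_lit 4) [nat_lit 2, nat_lit 3, nat_lit 4, nat_lit 1, nat_lit 2, nat_lit 3, nat_lit 8, nat_lit 6, nat_lit 7, nat_lit 5, nat_lit 6, nat_lit 4, nat_lit 5, nat_lit 3, nat_lit 4, nat_lit 2, nat_lit 3, nat_lit 8, nat_lit 1, nat_lit 2, nat_lit 3, nat_lit 4, nat_lit 5, nat_lit 6, nat_lit 7, nat_lit 8, nat_lit 3, nat_lit 4, nat_lit 1, nat_lit 2, nat_lit 3, nat_lit 8, nat_lit 5, nat_lit 6, nat_lit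 4, nat_lit 5, nat_lit 3, nat_lit 4, nat_lit 2, nat_lit 3, nat_lit 8, nat_lit 1, nat_lit 2, nat_lit 3, nat_lit 4, nat_lit 5, nat_lit 1, nat_lit 2, nat_lit 3, nat_lit 8, nat_lit 4, nat_lit 3, nat_lit 2, nat_lit 1, nat_lit 9, nat_lit 4, nat_lit 3, nat_lit 2, nat_lit 8, nat_lit 3, nat_lit 2, nat_lit 10, nat_lit 1, nat_lit 8, nat_lit 16, nat_lit 14, nat_lit 19, nat_lit 16] (Rl.cmp (nat_lit 234) (nat_lit 2859)))) (FT.leaf (Fct.mk false (nat_lit 4) (nat_lit 0) (nat_lit 4) [nat_lit 2, nat_lit 3, nat_lit 4, nat_lit 1, nat_lit 2, nat_lit 3, nat_lit 8, nat_lit 6, nat_lit 7, nat_lit 5, nat_lit 6, nat_lit 4, nat_lit 5, nat_lit 3, nat_lit 4, nat_lit 2, nat_lit 3, nat_lit 8, nat_lit 1, nat_lit 2, nat_lit 3, nat_lit 4, nat_lit 5, nat_lit 6, nat_lit 7, nat_lit 8, nat_lit 3, nat_lit 4, nat_lit 2, nat_lit 3, nat_lit 8, nat_lit 5, nat_lit 6, nat_lit 4, nat_lit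 5, nat_lit 3, nat_lit 4, nat_lit 2, nat_lit 3, nat_lit 8, nat_lit 1, nat_lit 2, nat_lit 3, nat_lit 4, nat_lit 5, nat_lit 1, nat_lit 2, nat_lit 3, nat_lit 8, nat_lit 4, nat_lit 3, nat_lit 2, nat_lit 1, nat_lit 9, nat_lit 4, nat_lit 3, nat_lit 2, nat_lit 8, nat_lit 3, nat_lit 2, nat_lit 10, nat_lit 1, nat_lit 8, nat_lit 16, nat_lit 14, nat_lit 19, nat_lit 16] (Rl.cmp (nat_lit 263) (nat_lit 2907)))))) (FT.node (nat_lit 2910) (FT.leaf (Fct.mk false (nat_lit 4) (nat_lit 0) (nat_lit 4) [nat_lit 2, nat_lit 3, nat_lit 8, nat_lit 4, nat_lit 5, nat_lit 3, nat_lit 4, nat_lit 2, nat_lit 3, nat_lit 8, nat_lit 6, nat_lit 7, nat_lit 5, nat_lit 6, nat_lit 4, nat_lit 5, nat_lit 3, nat_lit 4, nat_lit 2, nat_lit 3, nat_lit 8, nat_lit 1, nat_lit 2, nat_lit 3, nat_lit 4, nat_lit 5, nat_lit 6, nat_lit 7, nat_lit 6, nat_lit 4, nat_lit 3, nat_lit 2, nat_lit 8, nat_lit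 3, nat_lit 9, nat_lit 12, nat_lit 8, nat_lit 16, nat_lit 14, nat_lit 12, nat_lit 18, nat_lit 16] (Rl.cmp (nat_lit 2284) (nat_lit 239)))) (FT.node (nat_lit 2911) (FT.leaf (Fct.mk false (nat_lit 4) (nat_lit 0) (nat_lit 4) [nat_lit 8, nat_lit 3, nat_lit 4, nat_lit 2, nat_lit 3, nat_lit 8, nat_lit 6, nat_lit 7, nat_lit 5, nat_lit 6, nat_lit 4, nat_lit 5, nat_lit 3, nat_lit 4, nat_lit 2, nat_lit 3, nat_lit 8, nat_lit 1, nat_lit 2, nat_lit 3, nat_lit 4, nat_lit 5, nat_lit 6, nat_lit 7, nat_lit 6, nat_lit 5, nat_lit 4, nat_lit 3, nat_lit 8, nat_lit 2, nat_lit 3, nat_lit 4, nat_lit 1, nat_lit 2, nat_lit 3, nat_lit 8, nat_lit 5, nat_lit 6, nat_lit 4, nat_lit 5, nat_lit 3, nat_lit 4, nat_lit 2, nat_lit 3, nat_lit 8, nat_lit 1, nat_lit 2, nat_lit 3, nat_lit 4, nat_lit 5, nat_lit 2, nat_lit 1, nat_lit 9, nat_lit 4, nat_lit 3, nat_lit 2, nat_lit 8, nat_lit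 3, nat_lit 10, nat_lit 2, nat_lit 8, nat_lit 10, nat_lit 1, nat_lit 14, nat_lit 16, nat_lit 8, nat_lit 18] (Rl.cmp (nat_lit 312) (nat_lit 2909)))) (FT.leaf (Fct.mk false (nat_lit 5) (nat_lit 0) (nat_lit 5) [nat_lit 8, nat_lit 4, nat_lit 5, nat_lit 2, nat_lit 3, nat_lit 4, nat_lit 1, nat_lit 2, nat_lit 3, nat_lit 8, nat_lit 6, nat_lit 7, nat_lit 5, nat_lit 6, nat_lit 4, nat_lit 5, nat_lit 3, nat_lit 4, nat_lit 2, nat_lit 3, nat_lit 8, nat_lit 1, nat_lit 2, nat_lit 3, nat_lit 4, nat_lit 5, nat_lit 6, nat_lit 7, nat_lit 6, nat_lit 5, nat_lit 4, nat_lit 3, nat_lit 8, nat_lit 2, nat_lit 3, nat_lit 4, nat_lit 5, nat_lit 1, nat_lit 4, nat_lit 3, nat_lit 2, nat_lit 8, nat_lit 3, nat_lit 11, nat_lit 8, nat_lit 16, nat_lit 14, nat_lit 13, nat_lit 12, nat_lit 19, nat_lit 16] (Rl.cmp (nat_lit 2491) (nat_lit 2743)))))))) (FT.node (nat_lit 2918) (FT.node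 (nat_lit 2915) (FT.node (nat_lit 2913) (FT.leaf (Fct.mk false (nat_lit 5) (nat_lit 0) (nat_lit 5) [nat_lit 8, nat_lit 3, nat_lit 4, nat_lit 1, nat_lit 2, nat_lit 3, nat_lit 8, nat_lit 5, nat_lit 6, nat_lit 4, nat_lit 5, nat_lit 3, nat_lit 4, nat_lit 2, nat_lit 3, nat_lit 8, nat_lit 1, nat_lit 2, nat_lit 3, nat_lit 4, nat_lit 5, nat_lit 3, nat_lit 8, nat_lit 4, nat_lit 3, nat_lit 2, nat_lit 1, nat_lit 9, nat_lit 4, nat_lit 3, nat_lit 2, nat_lit 8, nat_lit 3, nat_lit 11, nat_lit 2, nat_lit 10, nat_lit 1, nat_lit 8, nat_lit 16, nat_lit 14, nat_lit 17, nat_lit 12, nat_lit 16] (Rl.cmp (nat_lit 511) (nat_lit 2710)))) (FT.node (nat_lit 2914) (FT.leaf (Fct.mk false (nat_lit 5) (nat_lit 0) (nat_lit 5) [nat_lit 8, nat_lit 3, nat_lit 4, nat_lit 2, nat_lit 3, nat_lit 8, nat_lit 7, nat_lit 5, nat_lit 6, nat_lit 4, nat_lit 5, nat_lit 3, nat_lit 4, nat_lit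 2, nat_lit 3, nat_lit 8, nat_lit 0, nat_lit 1, nat_lit 2, nat_lit 3, nat_lit 4, nat_lit 5, nat_lit 6, nat_lit 7, nat_lit 6, nat_lit 5, nat_lit 4, nat_lit 3, nat_lit 8, nat_lit 2, nat_lit 3, nat_lit 4, nat_lit 1, nat_lit 2, nat_lit 3, nat_lit 8, nat_lit 5, nat_lit 6, nat_lit 4, nat_lit 5, nat_lit 3, nat_lit 4, nat_lit 2, nat_lit 3, nat_lit 8, nat_lit 1, nat_lit 2, nat_lit 3, nat_lit 4, nat_lit 5, nat_lit 0, nat_lit 1, nat_lit 2, nat_lit 3, nat_lit 11, nat_lit 15, nat_lit 14, nat_lit 13] (Rl.cmp (nat_lit 2491) (nat_lit 2912)))) (FT.leaf (Fct.mk false (nat_lit 5) (nat_lit 0) (nat_lit 5) [nat_lit 4, nat_lit 3, nat_lit 8, nat_lit 2, nat_lit 3, nat_lit 4, nat_lit 1, nat_lit 2, nat_lit 3, nat_lit 8, nat_lit 6, nat_lit 7, nat_lit 5, nat_lit 6, nat_lit 4, nat_lit 5, nat_lit 3, nat_lit 4, nat_lit 2, nat_lit 3, nat_lit 8, nat_lit 1, nat_lit 2, nat_lit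 3, nat_lit 4, nat_lit 5, nat_lit 6, nat_lit 7, nat_lit 6, nat_lit 8, nat_lit 3, nat_lit 2, nat_lit 1, nat_lit 9, nat_lit 4, nat_lit 3, nat_lit 2, nat_lit 8, nat_lit 3, nat_lit 11, nat_lit 12, nat_lit 15, nat_lit 14, nat_lit 8, nat_lit 18] (Rl.cmp (nat_lit 1859) (nat_lit 2913)))))) (FT.node (nat_lit 2916) (FT.leaf (Fct.mk false (nat_lit 5) (nat_lit 0) (nat_lit 5) [nat_lit 4, nat_lit 3, nat_lit 8, nat_lit 2, nat_lit 3, nat_lit 4, nat_lit 1, nat_lit 2, nat_lit 3, nat_lit 8, nat_lit 6, nat_lit 7, nat_lit 5, nat_lit 6, nat_lit 4, nat_lit 5, nat_lit 3, nat_lit 4, nat_lit 2, nat_lit 3, nat_lit 8, nat_lit 1, nat_lit 2, nat_lit 3, nat_lit 4, nat_lit 5, nat_lit 6, nat_lit 7, nat_lit 8, nat_lit 3, nat_lit 4, nat_lit 2, nat_lit 3, nat_lit 8, nat_lit 1, nat_lit 2, nat_lit 3, nat_lit 4, nat_lit 5, nat_lit 4, nat_lit 3, nat_lit 2, nat_lit 1, nat_lit 8, nat_lit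 3, nat_lit 2, nat_lit 0, nat_lit 1, nat_lit 4, nat_lit 3, nat_lit 2, nat_lit 8, nat_lit 3, nat_lit 2, nat_lit 14] (Rl.cmp (nat_lit 511) (nat_lit 2781)))) (FT.node (nat_lit 2917) (FT.leaf (Fct.mk false (nat_lit 5) (nat_lit 0) (nat_lit 5) [nat_lit 8, nat_lit 3, nat_lit 4, nat_lit 2, nat_lit 3, nat_lit 8, nat_lit 7, nat_lit 5, nat_lit 6, nat_lit 4, nat_lit 5, nat_lit 3, nat_lit 4, nat_lit 2, nat_lit 3, nat_lit 8, nat_lit 0, nat_lit 1, nat_lit 2, nat_lit 3, nat_lit 4, nat_lit 5, nat_lit 6, nat_lit 7, nat_lit 6, nat_lit 5, nat_lit 4, nat_lit 3, nat_lit 8, nat_lit 1, nat_lit 2, nat_lit 3, nat_lit 4, nat_lit 5, nat_lit 1, nat_lit 3, nat_lit 2, nat_lit 8, nat_lit 3, nat_lit 11, nat_lit 10, nat_lit 2, nat_lit 8, nat_lit 10, nat_lit 1, nat_lit 8, nat_lit 16, nat_lit 14, nat_lit 17, nat_lit 18] (Rl.cmp (nat_lit 2491) (nat_lit 2094)))) (FT.leaf (Fct.mk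 false (nat_lit 5) (nat_lit 0) (nat_lit 5) [nat_lit 8, nat_lit 3, nat_lit 4, nat_lit 2, nat_lit 3, nat_lit 8, nat_lit 7, nat_lit 5, nat_lit 6, nat_lit 4, nat_lit 5, nat_lit 3, nat_lit 4, nat_lit 2, nat_lit 3, nat_lit 8, nat_lit 0, nat_lit 1, nat_lit 2, nat_lit 3, nat_lit 4, nat_lit 5, nat_lit 6, nat_lit 7, nat_lit 8, nat_lit 5, nat_lit 3, nat_lit 4, nat_lit 2, nat_lit 3, nat_lit 8, nat_lit 1, nat_lit 2, nat_lit 3, nat_lit 4, nat_lit 5, nat_lit 3, nat_lit 2, nat_lit 1, nat_lit 4, nat_lit 3, nat_lit 2, nat_lit 8, nat_lit 3, nat_lit 2, nat_lit 8, nat_lit 10, nat_lit 1, nat_lit 12, nat_lit 15, nat_lit 14, nat_lit 8] (Rl.cmp (nat_lit 1754) (nat_lit 2916))))))) (FT.node (nat_lit 2921) (FT.node (nat_lit 2919) (FT.leaf (Fct.mk false (nat_lit 5) (nat_lit 0) (nat_lit 5) [nat_lit 4, nat_lit 3, nat_lit 8, nat_lit 2, nat_lit 3, nat_lit 4, nat_lit 1, nat_lit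 2, nat_lit 3, nat_lit 8, nat_lit 6, nat_lit 7, nat_lit 5, nat_lit 6, nat_lit 4, nat_lit 5, nat_lit 3, nat_lit 4, nat_lit 2, nat_lit 3, nat_lit 8, nat_lit 1, nat_lit 2, nat_lit 3, nat_lit 4, nat_lit 5, nat_lit 6, nat_lit 7, nat_lit 8, nat_lit 3, nat_lit 4, nat_lit 2, nat_lit 3, nat_lit 8, nat_lit 1, nat_lit 2, nat_lit 3, nat_lit 4, nat_lit 5, nat_lit 4, nat_lit 3, nat_lit 2, nat_lit 1, nat_lit 8, nat_lit 3, nat_lit 2, nat_lit 0, nat_lit 1, nat_lit 4, nat_lit 3, nat_lit 2, nat_lit 8, nat_lit 3, nat_lit 2, nat_lit 14] (Rl.cmp (nat_lit 511) (nat_lit 2917)))) (FT.node (nat_lit 2920) (FT.leaf (Fct.mk false (nat_lit 5) (nat_lit 0) (nat_lit 5) [nat_lit 4, nat_lit 5, nat_lit 4, nat_lit 10, nat_lit 1] (Rl.cmp (nat_lit 1754) (nat_lit 470)))) (FT.leaf (Fct.mk false (nat_lit 5) (nat_lit 0) (nat_lit 5) [nat_lit 4, nat_lit 3, nat_lit 8, nat_lit 2, nat_lit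 3, nat_lit 4, nat_lit 1, nat_lit 2, nat_lit 3, nat_lit 8, nat_lit 6, nat_lit 7, nat_lit 5, nat_lit 6, nat_lit 4, nat_lit 5, nat_lit 3, nat_lit 4, nat_lit 2, nat_lit 3, nat_lit 8, nat_lit 1, nat_lit 2, nat_lit 3, nat_lit 4, nat_lit 5, nat_lit 6, nat_lit 7, nat_lit 8, nat_lit 4, nat_lit 5, nat_lit 3, nat_lit 4, nat_lit 2, nat_lit 3, nat_lit 8, nat_lit 1, nat_lit 2, nat_lit 3, nat_lit 4, nat_lit 5, nat_lit 4, nat_lit 3, nat_lit 2, nat_lit 1, nat_lit 8, nat_lit 3, nat_lit 2, nat_lit 0, nat_lit 1, nat_lit 4, nat_lit 3, nat_lit 2, nat_lit 8, nat_lit 3, nat_lit 11, nat_lit 10, nat_lit 1, nat_lit 14, nat_lit 13, nat_lit 12] (Rl.cmp (nat_lit 511) (nat_lit 2773)))))) (FT.node (nat_lit 2923) (FT.node (nat_lit 2922) (FT.leaf (Fct.mk false (nat_lit 5) (nat_lit 0) (nat_lit 5) [nat_lit 8, nat_lit 4, nat_lit 5, nat_lit 2, nat_lit 3, nat_lit 4, nat_lit 1, nat_lit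 2, nat_lit 3, nat_lit 8, nat_lit 6, nat_lit 7, nat_lit 5, nat_lit 6, nat_lit 4, nat_lit 5, nat_lit 3, nat_lit 4, nat_lit 2, nat_lit 3, nat_lit 8, nat_lit 1, nat_lit 2, nat_lit 3, nat_lit 4, nat_lit 5, nat_lit 6, nat_lit 7, nat_lit 6, nat_lit 5, nat_lit 3, nat_lit 4, nat_lit 2, nat_lit 3, nat_lit 8, nat_lit 1, nat_lit 2, nat_lit 3, nat_lit 4, nat_lit 5, nat_lit 1, nat_lit 2, nat_lit 8, nat_lit 3, nat_lit 11, nat_lit 2, nat_lit 12, nat_lit 15, nat_lit 14, nat_lit 19] (Rl.cmp (nat_lit 1754) (nat_lit 2920)))) (FT.leaf (Fct.mk false (nat_lit 5) (nat_lit 0) (nat_lit 5) [nat_lit 8, nat_lit 4, nat_lit 5, nat_lit 2, nat_lit 3, nat_lit 4, nat_lit 1, nat_lit 2, nat_lit 3, nat_lit 8, nat_lit 6, nat_lit 7, nat_lit 5, nat_lit 6, nat_lit 4, nat_lit 5, nat_lit 3, nat_lit 4, nat_lit 2, nat_lit 3, nat_lit 8, nat_lit 1, nat_lit 2, nat_lit 3, nat_lit 4, nat_lit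 5, nat_lit 6, nat_lit 7, nat_lit 6, nat_lit 5, nat_lit 4, nat_lit 3, nat_lit 8, nat_lit 1, nat_lit 2, nat_lit 3, nat_lit 4, nat_lit 5, nat_lit 1, nat_lit 3, nat_lit 2, nat_lit 8, nat_lit 3, nat_lit 9, nat_lit 10, nat_lit 2, nat_lit 8, nat_lit 10, nat_lit 1, nat_lit 12, nat_lit 15, nat_lit 17, nat_lit 12, nat_lit 16] (Rl.cmp (nat_lit 1859) (nat_lit 2921))))) (FT.node (nat_lit 2924) (FT.leaf (Fct.mk false (nat_lit 5) (nat_lit 0) (nat_lit 5) [nat_lit 8, nat_lit 4, nat_lit 5, nat_lit 2, nat_lit 3, nat_lit 4, nat_lit 1, nat_lit 2, nat_lit 3, nat_lit 8, nat_lit 6, nat_lit 7, nat_lit 5, nat_lit 6, nat_lit 4, nat_lit 5, nat_lit 3, nat_lit 4, nat_lit 2, nat_lit 3, nat_lit 8, nat_lit 1, nat_lit 2, nat_lit 3, nat_lit 4, nat_lit 5, nat_lit 6, nat_lit 7, nat_lit 8, nat_lit 3, nat_lit 4, nat_lit 2, nat_lit 3, nat_lit 8, nat_lit 1, nat_lit 2, nat_lit 3, nat_lit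 4, nat_lit 5, nat_lit 4, nat_lit 3, nat_lit 2, nat_lit 1, nat_lit 8, nat_lit 3, nat_lit 2, nat_lit 0, nat_lit 1, nat_lit 4, nat_lit 3, nat_lit 2, nat_lit 8, nat_lit 3, nat_lit 11, nat_lit 2, nat_lit 10, nat_lit 1, nat_lit 16, nat_lit 12, nat_lit 15, nat_lit 14, nat_lit 13, nat_lit 16] (Rl.cmp (nat_lit 2094) (nat_lit 2872)))) (FT.leaf (Fct.mk false (nat_lit 5) (nat_lit 0) (nat_lit 5) [nat_lit 8, nat_lit 4, nat_lit 5, nat_lit 2, nat_lit 3, nat_lit 4, nat_lit 1, nat_lit 2, nat_lit 3, nat_lit 8, nat_lit 6, nat_lit 7, nat_lit 5, nat_lit 6, nat_lit 4, nat_lit 5, nat_lit 3, nat_lit 4, nat_lit 2, nat_lit 3, nat_lit 8, nat_lit 1, nat_lit 2, nat_lit 3, nat_lit 4, nat_lit 5, nat_lit 6, nat_lit 7, nat_lit 5, nat_lit 6, nat_lit 4, nat_lit 5, nat_lit 3, nat_lit 4, nat_lit 2, nat_lit 3, nat_lit 8, nat_lit 1, nat_lit 2, nat_lit 3, nat_lit 4, nat_lit 5, nat_lit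 2, nat_lit 3, nat_lit 8, nat_lit 4, nat_lit 3, nat_lit 2, nat_lit 0, nat_lit 1, nat_lit 9, nat_lit 4, nat_lit 3, nat_lit 2, nat_lit 8, nat_lit 3, nat_lit 11, nat_lit 10, nat_lit 1, nat_lit 12] (Rl.cmp (nat_lit 488) (nat_lit 2923))))))))) (FT.node (nat_lit 2937) (FT.node (nat_lit 2931) (FT.node (nat_lit 2928) (FT.node (nat_lit 2926) (FT.leaf (Fct.mk false (nat_lit 25) (nat_lit 0) (nat_lit 25) [nat_lit 1, nat_lit 2, nat_lit 3, nat_lit 8, nat_lit 0, nat_lit 1, nat_lit 2, nat_lit 3, nat_lit 4, nat_lit 5, nat_lit 8, nat_lit 4, nat_lit 3, nat_lit 2, nat_lit 1, nat_lit 9, nat_lit 4, nat_lit 3, nat_lit 2, nat_lit 8, nat_lit 3, nat_lit 11, nat_lit 10, nat_lit 2, nat_lit 8, nat_lit 10, nat_lit 1, nat_lit 8, nat_lit 12, nat_lit 15, nat_lit 14, nat_lit 17, nat_lit 12, nat_lit 18] (Rl.cmp (nat_lit 2004) (nat_lit 1231)))) (FT.node (nat_lit 2927) (FT.leaf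 (Fct.mk false (nat_lit 25) (nat_lit 0) (nat_lit 25) [nat_lit 8, nat_lit 7, nat_lit 6, nat_lit 5, nat_lit 2, nat_lit 3, nat_lit 4, nat_lit 1, nat_lit 2, nat_lit 3, nat_lit 8, nat_lit 0, nat_lit 1, nat_lit 2, nat_lit 3, nat_lit 4, nat_lit 5, nat_lit 6, nat_lit 7, nat_lit 3, nat_lit 8, nat_lit 2, nat_lit 3, nat_lit 4, nat_lit 5, nat_lit 2, nat_lit 8, nat_lit 3, nat_lit 11, nat_lit 10, nat_lit 17, nat_lit 19] (Rl.cmp (nat_lit 2467) (nat_lit 2925)))) (FT.leaf (Fct.mk false (nat_lit 25) (nat_lit 0) (nat_lit 25) [nat_lit 7, nat_lit 6, nat_lit 5, nat_lit 4, nat_lit 3, nat_lit 8, nat_lit 2, nat_lit 3, nat_lit 4, nat_lit 5, nat_lit 6, nat_lit 7, nat_lit 6, nat_lit 4, nat_lit 3, nat_lit 2, nat_lit 8, nat_lit 3, nat_lit 10, nat_lit 9, nat_lit 2, nat_lit 16, nat_lit 8, nat_lit 18, nat_lit 16] (Rl.cmp (nat_lit 2117) (nat_lit 2926)))))) (FT.node (nat_lit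 2929) (FT.leaf (Fct.mk false (nat_lit 5) (nat_lit 0) (nat_lit 5) [nat_lit 5, nat_lit 2, nat_lit 3, nat_lit 14] (Rl.cmp (nat_lit 511) (nat_lit 1859)))) (FT.node (nat_lit 2930) (FT.leaf (Fct.mk false (nat_lit 5) (nat_lit 0) (nat_lit 5) [nat_lit 5, nat_lit 11, nat_lit 10, nat_lit 16, nat_lit 15, nat_lit 14, nat_lit 13, nat_lit 16] (Rl.cmp (nat_lit 472) (nat_lit 470)))) (FT.leaf (Fct.mk false (nat_lit 5) (nat_lit 0) (nat_lit 5) [nat_lit 4, nat_lit 5, nat_lit 4, nat_lit 10] (Rl.cmp (nat_lit 1754) (nat_lit 2929))))))) (FT.node (nat_lit 2934) (FT.node (nat_lit 2932) (FT.leaf (Fct.mk false (nat_lit 5) (nat_lit 0) (nat_lit 5) [nat_lit 5, nat_lit 3, nat_lit 1] (Rl.cmp (nat_lit 488) (nat_lit 472)))) (FT.node (nat_lit 2933) (FT.leaf (Fct.mk false (nat_lit 5) (nat_lit 0) (nat_lit 5) [nat_lit 4, nat_lit 5, nat_lit 4, nat_lit 10, nat_lit 1] (Rl.cmp (nat_lit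 1754) (nat_lit 470)))) (FT.leaf (Fct.mk false (nat_lit 2) (nat_lit 0) (nat_lit 2) [nat_lit 7, nat_lit 5, nat_lit 4, nat_lit 3, nat_lit 8, nat_lit 2, nat_lit 3, nat_lit 4, nat_lit 5, nat_lit 0, nat_lit 1, nat_lit 4, nat_lit 3, nat_lit 2, nat_lit 8, nat_lit 3, nat_lit 8, nat_lit 10, nat_lit 1, nat_lit 14, nat_lit 8] (Rl.cmp (nat_lit 2340) (nat_lit 2330)))))) (FT.node (nat_lit 2935) (FT.leaf (Fct.mk false (nat_lit 2) (nat_lit 0) (nat_lit 2) [nat_lit 8, nat_lit 10, nat_lit 8] (Rl.cmp (nat_lit 88) (nat_lit 84)))) (FT.node (nat_lit 2936) (FT.leaf (Fct.mk false (nat_lit 2) (nat_lit 0) (nat_lit 2) [nat_lit 4, nat_lit 3, nat_lit 2, nat_lit 1, nat_lit 8, nat_lit 3, nat_lit 2, nat_lit 0, nat_lit 1, nat_lit 4, nat_lit 3, nat_lit 2, nat_lit 8, nat_lit 3, nat_lit 2, nat_lit 8, nat_lit 10, nat_lit 1, nat_lit 8, nat_lit 12, nat_lit 15, nat_lit 14, nat_lit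 18] (Rl.cmp (nat_lit 300) (nat_lit 84)))) (FT.leaf (Fct.mk false (nat_lit 5) (nat_lit 0) (nat_lit 5) [nat_lit 3, nat_lit 4, nat_lit 5, nat_lit 10] (Rl.cmp (nat_lit 470) (nat_lit 2707)))))))) (FT.node (nat_lit 2943) (FT.node (nat_lit 2940) (FT.node (nat_lit 2938) (FT.leaf (Fct.mk false (nat_lit 5) (nat_lit 0) (nat_lit 5) [nat_lit 6, nat_lit 9, nat_lit 4, nat_lit 10, nat_lit 12, nat_lit 15, nat_lit 12, nat_lit 16] (Rl.cmp (nat_lit 1754) (nat_lit 1859)))) (FT.node (nat_lit 2939) (FT.leaf (Fct.mk false (nat_lit 5) (nat_lit 0) (nat_lit 5) [nat_lit 8, nat_lit 3, nat_lit 4, nat_lit 2, nat_lit 3, nat_lit 8, nat_lit 7, nat_lit 5, nat_lit 6, nat_lit 4, nat_lit 5, nat_lit 3, nat_lit 4, nat_lit 2, nat_lit 3, nat_lit 8, nat_lit 0, nat_lit 1, nat_lit 2, nat_lit 3, nat_lit 4, nat_lit 5, nat_lit 6, nat_lit 7, nat_lit 8, nat_lit 3, nat_lit 4, nat_lit 2, nat_lit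 3, nat_lit 8, nat_lit 1, nat_lit 2, nat_lit 3, nat_lit 4, nat_lit 5, nat_lit 3, nat_lit 2, nat_lit 1, nat_lit 4, nat_lit 3, nat_lit 2, nat_lit 8, nat_lit 3, nat_lit 8, nat_lit 10, nat_lit 9, nat_lit 2, nat_lit 15, nat_lit 14, nat_lit 12, nat_lit 19, nat_lit 16] (Rl.cmp (nat_lit 2491) (nat_lit 493)))) (FT.leaf (Fct.mk false (nat_lit 5) (nat_lit 0) (nat_lit 5) [nat_lit 8, nat_lit 4, nat_lit 5, nat_lit 2, nat_lit 3, nat_lit 4, nat_lit 1, nat_lit 2, nat_lit 3, nat_lit 8, nat_lit 6, nat_lit 7, nat_lit 5, nat_lit 6, nat_lit 4, nat_lit 5, nat_lit 3, nat_lit 4, nat_lit 2, nat_lit 3, nat_lit 8, nat_lit 1, nat_lit 2, nat_lit 3, nat_lit 4, nat_lit 5, nat_lit 6, nat_lit 7, nat_lit 6, nat_lit 5, nat_lit 4, nat_lit 3, nat_lit 8, nat_lit 2, nat_lit 3, nat_lit 4, nat_lit 1, nat_lit 2, nat_lit 3, nat_lit 8, nat_lit 5, nat_lit 6, nat_lit 4, nat_lit 5, nat_lit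 3, nat_lit 4, nat_lit 2, nat_lit 3, nat_lit 8, nat_lit 1, nat_lit 2, nat_lit 3, nat_lit 4, nat_lit 5, nat_lit 2, nat_lit 3, nat_lit 11, nat_lit 10, nat_lit 1, nat_lit 13] (Rl.cmp (nat_lit 2491) (nat_lit 2938)))))) (FT.node (nat_lit 2941) (FT.leaf (Fct.mk false (nat_lit 5) (nat_lit 0) (nat_lit 5) [nat_lit 8, nat_lit 4, nat_lit 5, nat_lit 2, nat_lit 3, nat_lit 4, nat_lit 1, nat_lit 2, nat_lit 3, nat_lit 8, nat_lit 6, nat_lit 7, nat_lit 5, nat_lit 6, nat_lit 4, nat_lit 5, nat_lit 3, nat_lit 4, nat_lit 2, nat_lit 3, nat_lit 8, nat_lit 1, nat_lit 2, nat_lit 3, nat_lit 4, nat_lit 5, nat_lit 6, nat_lit 7, nat_lit 6, nat_lit 5, nat_lit 4, nat_lit 3, nat_lit 8, nat_lit 2, nat_lit 3, nat_lit 4, nat_lit 1, nat_lit 2, nat_lit 3, nat_lit 8, nat_lit 5, nat_lit 6, nat_lit 4, nat_lit 5, nat_lit 3, nat_lit 4, nat_lit 2, nat_lit 3, nat_lit 8, nat_lit 1, nat_lit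 2, nat_lit 3, nat_lit 4, nat_lit 5, nat_lit 1, nat_lit 2, nat_lit 3, nat_lit 11, nat_lit 10, nat_lit 1, nat_lit 12, nat_lit 15, nat_lit 14, nat_lit 13, nat_lit 16] (Rl.cmp (nat_lit 1859) (nat_lit 2939)))) (FT.node (nat_lit 2942) (FT.leaf (Fct.mk false (nat_lit 5) (nat_lit 0) (nat_lit 5) [nat_lit 8, nat_lit 3, nat_lit 4, nat_lit 2, nat_lit 3, nat_lit 8, nat_lit 7, nat_lit 5, nat_lit 6, nat_lit 4, nat_lit 5, nat_lit 3, nat_lit 4, nat_lit 2, nat_lit 3, nat_lit 8, nat_lit 0, nat_lit 1, nat_lit 2, nat_lit 3, nat_lit 4, nat_lit 5, nat_lit 6, nat_lit 7, nat_lit 1, nat_lit 2, nat_lit 3, nat_lit 8, nat_lit 4, nat_lit 5, nat_lit 3, nat_lit 4, nat_lit 2, nat_lit 3, nat_lit 8, nat_lit 1, nat_lit 2, nat_lit 3, nat_lit 4, nat_lit 5, nat_lit 3, nat_lit 2, nat_lit 1, nat_lit 4, nat_lit 3, nat_lit 2, nat_lit 8, nat_lit 3, nat_lit 11, nat_lit 10, nat_lit 2,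 nat_lit 8, nat_lit 10, nat_lit 1, nat_lit 8, nat_lit 12, nat_lit 15, nat_lit 14, nat_lit 17, nat_lit 19, nat_lit 16] (Rl.cmp (nat_lit 2094) (nat_lit 2940)))) (FT.leaf (Fct.mk false (nat_lit 4) (nat_lit 0) (nat_lit 4) [nat_lit 2, nat_lit 3, nat_lit 4, nat_lit 1, nat_lit 2, nat_lit 3, nat_lit 8, nat_lit 6, nat_lit 7, nat_lit 5, nat_lit 6, nat_lit 4, nat_lit 5, nat_lit 3, nat_lit 4, nat_lit 2, nat_lit 3, nat_lit 8, nat_lit 1, nat_lit 2, nat_lit 3, nat_lit 4, nat_lit 5, nat_lit 6, nat_lit 7, nat_lit 5, nat_lit 4, nat_lit 3, nat_lit 8, nat_lit 2, nat_lit 3, nat_lit 4, nat_lit 1, nat_lit 2, nat_lit 3, nat_lit 8, nat_lit 5, nat_lit 6, nat_lit 4, nat_lit 5, nat_lit 3, nat_lit 4, nat_lit 2, nat_lit 3, nat_lit 8, nat_lit 1, nat_lit 2, nat_lit 3, nat_lit 4, nat_lit 5, nat_lit 1, nat_lit 2, nat_lit 3, nat_lit 2, nat_lit 8, nat_lit 16, nat_lit 14, nat_lit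 12, nat_lit 16] (Rl.cmp (nat_lit 2284) (nat_lit 2910))))))) (FT.node (nat_lit 2946) (FT.node (nat_lit 2944) (FT.leaf (Fct.mk false (nat_lit 4) (nat_lit 0) (nat_lit 4) [nat_lit 6, nat_lit 7, nat_lit 5, nat_lit 6, nat_lit 4, nat_lit 5, nat_lit 3, nat_lit 4, nat_lit 2, nat_lit 3, nat_lit 8, nat_lit 1, nat_lit 2, nat_lit 3, nat_lit 4, nat_lit 5, nat_lit 6, nat_lit 7, nat_lit 4, nat_lit 1, nat_lit 2, nat_lit 3, nat_lit 8, nat_lit 5, nat_lit 6, nat_lit 4, nat_lit 5, nat_lit 3, nat_lit 4, nat_lit 2, nat_lit 3, nat_lit 8, nat_lit 1, nat_lit 2, nat_lit 3, nat_lit 4, nat_lit 5, nat_lit 8, nat_lit 3, nat_lit 2, nat_lit 1, nat_lit 9, nat_lit 4, nat_lit 3, nat_lit 2, nat_lit 8, nat_lit 3, nat_lit 2, nat_lit 8, nat_lit 10, nat_lit 1, nat_lit 16, nat_lit 14, nat_lit 19, nat_lit 16] (Rl.cmp (nat_lit 240) (nat_lit 2837)))) (FT.node (nat_lit 2945) (FT.leaf (Fct.mk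 false (nat_lit 4) (nat_lit 0) (nat_lit 4) [nat_lit 2, nat_lit 3, nat_lit 4, nat_lit 5, nat_lit 1, nat_lit 3, nat_lit 2, nat_lit 8, nat_lit 3, nat_lit 8, nat_lit 10, nat_lit 1, nat_lit 14, nat_lit 12] (Rl.cmp (nat_lit 312) (nat_lit 241)))) (FT.leaf (Fct.mk false (nat_lit 4) (nat_lit 0) (nat_lit 4) [nat_lit 5, nat_lit 4, nat_lit 3, nat_lit 8, nat_lit 6, nat_lit 7, nat_lit 5, nat_lit 6, nat_lit 4, nat_lit 5, nat_lit 3, nat_lit 4, nat_lit 2, nat_lit 3, nat_lit 8, nat_lit 1, nat_lit 2, nat_lit 3, nat_lit 4, nat_lit 5, nat_lit 6, nat_lit 7, nat_lit 5, nat_lit 4, nat_lit 3, nat_lit 8, nat_lit 2, nat_lit 3, nat_lit 4, nat_lit 5, nat_lit 3, nat_lit 8, nat_lit 4, nat_lit 3, nat_lit 2, nat_lit 1, nat_lit 9, nat_lit 4, nat_lit 3, nat_lit 2, nat_lit 8, nat_lit 3, nat_lit 10, nat_lit 12, nat_lit 8, nat_lit 16, nat_lit 14, nat_lit 12, nat_lit 19, nat_lit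 16] (Rl.cmp (nat_lit 2372) (nat_lit 2944)))))) (FT.node (nat_lit 2948) (FT.node (nat_lit 2947) (FT.leaf (Fct.mk false (nat_lit 4) (nat_lit 0) (nat_lit 4) [nat_lit 7, nat_lit 6, nat_lit 5, nat_lit 4, nat_lit 3, nat_lit 8, nat_lit 1, nat_lit 2, nat_lit 3, nat_lit 4, nat_lit 5, nat_lit 1, nat_lit 3, nat_lit 2, nat_lit 8, nat_lit 3, nat_lit 10, nat_lit 9, nat_lit 2, nat_lit 8, nat_lit 16, nat_lit 14, nat_lit 18, nat_lit 16] (Rl.cmp (nat_lit 2372) (nat_lit 2945)))) (FT.leaf (Fct.mk false (nat_lit 4) (nat_lit 0) (nat_lit 4) [nat_lit 2, nat_lit 3, nat_lit 8, nat_lit 4, nat_lit 5, nat_lit 3, nat_lit 4, nat_lit 2, nat_lit 3, nat_lit 8, nat_lit 6, nat_lit 7, nat_lit 5, nat_lit 6, nat_lit 4, nat_lit 5, nat_lit 3, nat_lit 4, nat_lit 2, nat_lit 3, nat_lit 8, nat_lit 1, nat_lit 2, nat_lit 3, nat_lit 4, nat_lit 5, nat_lit 6, nat_lit 7, nat_lit 2, nat_lit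 3, nat_lit 4, nat_lit 5, nat_lit 10, nat_lit 9, nat_lit 2, nat_lit 14, nat_lit 8, nat_lit 18, nat_lit 16] (Rl.cmp (nat_lit 234) (nat_lit 2881))))) (FT.node (nat_lit 2949) (FT.leaf (Fct.mk false (nat_lit 25) (nat_lit 0) (nat_lit 25) [nat_lit 8, nat_lit 3, nat_lit 4, nat_lit 1, nat_lit 2, nat_lit 3, nat_lit 8, nat_lit 5, nat_lit 6, nat_lit 4, nat_lit 5, nat_lit 3, nat_lit 4, nat_lit 2, nat_lit 3, nat_lit 8, nat_lit 1, nat_lit 2, nat_lit 3, nat_lit 4, nat_lit 5, nat_lit 4, nat_lit 8, nat_lit 10, nat_lit 9, nat_lit 2, nat_lit 16, nat_lit 15, nat_lit 14, nat_lit 17, nat_lit 12, nat_lit 19] (Rl.cmp (nat_lit 2117) (nat_lit 1247)))) (FT.leaf (Fct.mk false (nat_lit 25) (nat_lit 0) (nat_lit 25) [nat_lit 8, nat_lit 3, nat_lit 4, nat_lit 5, nat_lit 3, nat_lit 8, nat_lit 4, nat_lit 3, nat_lit 2, nat_lit 0, nat_lit 1, nat_lit 9, nat_lit 4, nat_lit 3, nat_lit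 2, nat_lit 8, nat_lit 3, nat_lit 10, nat_lit 0, nat_lit 12, nat_lit 15, nat_lit 14, nat_lit 8] (Rl.cmp (nat_lit 2117) (nat_lit 1237)))))))))

/-- some facts -/
noncomputable def ftc59 : FT := FT.node (nat_lit 2975) (FT.node (nat_lit 2962) (FT.node (nat_lit 2956) (FT.node (nat_lit 2953) (FT.node (nat_lit 2951) (FT.leaf (Fct.mk false (nat_lit 25) (nat_lit 0) (nat_lit 25) [nat_lit 5, nat_lit 6, nat_lit 4, nat_lit 5, nat_lit 3, nat_lit 4, nat_lit 1, nat_lit 2, nat_lit 3, nat_lit 8, nat_lit 0, nat_lit 1, nat_lit 2, nat_lit 3, nat_lit 4, nat_lit 5, nat_lit 3, nat_lit 2, nat_lit 1, nat_lit 4, nat_lit 3, nat_lit 2, nat_lit 8, nat_lit 3, nat_lit 1, nat_lit 12, nat_lit 8, nat_lit 16, nat_lit 14, nat_lit 8, nat_lit 18] (Rl.cmp (nat_lit 1813) (nat_lit 2948)))) (FT.node (nat_lit 2952) (FT.leaf (Fct.mk false (nat_lit 25) (nat_lit 0) (nat_lit 25) [nat_lit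 8, nat_lit 7, nat_lit 6, nat_lit 5, nat_lit 2, nat_lit 3, nat_lit 4, nat_lit 1, nat_lit 2, nat_lit 3, nat_lit 8, nat_lit 0, nat_lit 1, nat_lit 2, nat_lit 3, nat_lit 4, nat_lit 5, nat_lit 6, nat_lit 7, nat_lit 4, nat_lit 1, nat_lit 2, nat_lit 3, nat_lit 8, nat_lit 0, nat_lit 1, nat_lit 2, nat_lit 3, nat_lit 4, nat_lit 5, nat_lit 1, nat_lit 3, nat_lit 2, nat_lit 8, nat_lit 3, nat_lit 2, nat_lit 10, nat_lit 1, nat_lit 12, nat_lit 15, nat_lit 18, nat_lit 16] (Rl.cmp (nat_lit 2467) (nat_lit 2004)))) (FT.leaf (Fct.mk false (nat_lit 25) (nat_lit 0) (nat_lit 25) [nat_lit 8, nat_lit 7, nat_lit 6, nat_lit 5, nat_lit 2, nat_lit 3, nat_lit 4, nat_lit 1, nat_lit 2, nat_lit 3, nat_lit 8, nat_lit 0, nat_lit 1, nat_lit 2, nat_lit 3, nat_lit 4, nat_lit 5, nat_lit 6, nat_lit 7, nat_lit 3, nat_lit 8, nat_lit 2, nat_lit 3, nat_lit 4, nat_lit 1, nat_lit 2, nat_lit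 3, nat_lit 8, nat_lit 5, nat_lit 6, nat_lit 4, nat_lit 5, nat_lit 3, nat_lit 4, nat_lit 2, nat_lit 3, nat_lit 8, nat_lit 1, nat_lit 2, nat_lit 3, nat_lit 4, nat_lit 5, nat_lit 8, nat_lit 3, nat_lit 2, nat_lit 1, nat_lit 9, nat_lit 4, nat_lit 3, nat_lit 2, nat_lit 8, nat_lit 3, nat_lit 1, nat_lit 12, nat_lit 8, nat_lit 16, nat_lit 14, nat_lit 8, nat_lit 18] (Rl.cmp (nat_lit 1247) (nat_lit 2951)))))) (FT.node (nat_lit 2954) (FT.leaf (Fct.mk false (nat_lit 5) (nat_lit 0) (nat_lit 5) [nat_lit 70] (Rl.cmp (nat_lit 511) (nat_lit 470)))) (FT.node (nat_lit 2955) (FT.leaf (Fct.mk false (nat_lit 5) (nat_lit 0) (nat_lit 5) [nat_lit 8, nat_lit 3, nat_lit 4, nat_lit 2, nat_lit 3, nat_lit 8, nat_lit 5, nat_lit 6, nat_lit 4, nat_lit 5, nat_lit 3, nat_lit 4, nat_lit 2, nat_lit 3, nat_lit 8, nat_lit 1, nat_lit 2, nat_lit 3, nat_lit 4, nat_lit 5, nat_lit 2,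 nat_lit 3, nat_lit 8, nat_lit 4, nat_lit 3, nat_lit 2, nat_lit 1, nat_lit 9, nat_lit 4, nat_lit 3, nat_lit 2, nat_lit 8, nat_lit 3, nat_lit 2, nat_lit 8, nat_lit 12, nat_lit 15, nat_lit 14, nat_lit 13, nat_lit 12, nat_lit 19] (Rl.cmp (nat_lit 2094) (nat_lit 511)))) (FT.leaf (Fct.mk false (nat_lit 4) (nat_lit 0) (nat_lit 4) [nat_lit 8, nat_lit 3, nat_lit 4, nat_lit 2, nat_lit 3, nat_lit 8, nat_lit 1, nat_lit 2, nat_lit 3, nat_lit 4, nat_lit 5, nat_lit 1, nat_lit 4, nat_lit 3, nat_lit 2, nat_lit 8, nat_lit 3, nat_lit 2, nat_lit 8, nat_lit 10, nat_lit 1, nat_lit 8, nat_lit 18] (Rl.cmp (nat_lit 240) (nat_lit 234))))))) (FT.node (nat_lit 2959) (FT.node (nat_lit 2957) (FT.leaf (Fct.mk false (nat_lit 4) (nat_lit 0) (nat_lit 4) [nat_lit 1, nat_lit 2, nat_lit 3, nat_lit 8, nat_lit 6, nat_lit 4, nat_lit 5, nat_lit 3, nat_lit 4, nat_lit 2, nat_lit 3,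 nat_lit 8, nat_lit 1, nat_lit 2, nat_lit 3, nat_lit 4, nat_lit 5, nat_lit 2, nat_lit 3, nat_lit 8, nat_lit 4, nat_lit 3, nat_lit 2, nat_lit 1, nat_lit 9, nat_lit 4, nat_lit 3, nat_lit 2, nat_lit 8, nat_lit 3, nat_lit 1, nat_lit 12, nat_lit 8, nat_lit 16, nat_lit 14, nat_lit 8, nat_lit 19] (Rl.cmp (nat_lit 1995) (nat_lit 312)))) (FT.node (nat_lit 2958) (FT.leaf (Fct.mk false (nat_lit 5) (nat_lit 0) (nat_lit 5) [nat_lit 8, nat_lit 3, nat_lit 4, nat_lit 2, nat_lit 3, nat_lit 8, nat_lit 7, nat_lit 5, nat_lit 6, nat_lit 4, nat_lit 5, nat_lit 3, nat_lit 4, nat_lit 2, nat_lit 3, nat_lit 8, nat_lit 0, nat_lit 1, nat_lit 2, nat_lit 3, nat_lit 4, nat_lit 5, nat_lit 6, nat_lit 7, nat_lit 0, nat_lit 1, nat_lit 2, nat_lit 3, nat_lit 4, nat_lit 5, nat_lit 2, nat_lit 1, nat_lit 8, nat_lit 3, nat_lit 2, nat_lit 0, nat_lit 1, nat_lit 4, nat_lit 3, nat_lit 2,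 nat_lit 8, nat_lit 3, nat_lit 11, nat_lit 10, nat_lit 8, nat_lit 12, nat_lit 15, nat_lit 14, nat_lit 13, nat_lit 12, nat_lit 19, nat_lit 16] (Rl.cmp (nat_lit 1754) (nat_lit 2763)))) (FT.leaf (Fct.mk false (nat_lit 5) (nat_lit 0) (nat_lit 5) [nat_lit 6, nat_lit 1, nat_lit 2, nat_lit 3, nat_lit 9, nat_lit 2, nat_lit 16, nat_lit 15, nat_lit 14, nat_lit 12] (Rl.cmp (nat_lit 1754) (nat_lit 511)))))) (FT.node (nat_lit 2960) (FT.leaf (Fct.mk false (nat_lit 5) (nat_lit 0) (nat_lit 5) [nat_lit 0, nat_lit 1, nat_lit 2, nat_lit 3, nat_lit 4, nat_lit 5, nat_lit 1, nat_lit 2, nat_lit 3, nat_lit 11, nat_lit 10, nat_lit 15, nat_lit 14, nat_lit 13] (Rl.cmp (nat_lit 488) (nat_lit 511)))) (FT.node (nat_lit 2961) (FT.leaf (Fct.mk false (nat_lit 5) (nat_lit 0) (nat_lit 5) [nat_lit 8, nat_lit 3, nat_lit 4, nat_lit 2, nat_lit 3, nat_lit 8, nat_lit 7, nat_lit 5,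 nat_lit 6, nat_lit 4, nat_lit 5, nat_lit 3, nat_lit 4, nat_lit 2, nat_lit 3, nat_lit 8, nat_lit 0, nat_lit 1, nat_lit 2, nat_lit 3, nat_lit 4, nat_lit 5, nat_lit 6, nat_lit 7, nat_lit 8, nat_lit 3, nat_lit 4, nat_lit 2, nat_lit 3, nat_lit 8, nat_lit 1, nat_lit 2, nat_lit 3, nat_lit 4, nat_lit 5, nat_lit 4, nat_lit 3, nat_lit 2, nat_lit 8, nat_lit 3, nat_lit 9, nat_lit 2, nat_lit 15, nat_lit 14, nat_lit 12, nat_lit 19] (Rl.cmp (nat_lit 470) (nat_lit 2762)))) (FT.leaf (Fct.mk false (nat_lit 4) (nat_lit 0) (nat_lit 4) [nat_lit 2, nat_lit 3, nat_lit 8, nat_lit 4, nat_lit 5, nat_lit 3, nat_lit 4, nat_lit 2, nat_lit 3, nat_lit 8, nat_lit 6, nat_lit 7, nat_lit 5, nat_lit 6, nat_lit 4, nat_lit 5, nat_lit 3, nat_lit 4, nat_lit 2, nat_lit 3, nat_lit 8, nat_lit 1, nat_lit 2, nat_lit 3, nat_lit 4, nat_lit 5, nat_lit 6, nat_lit 7, nat_lit 6, nat_lit 9,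 nat_lit 4, nat_lit 3, nat_lit 2, nat_lit 8, nat_lit 3, nat_lit 9, nat_lit 12, nat_lit 8, nat_lit 16, nat_lit 14, nat_lit 12, nat_lit 18, nat_lit 16] (Rl.cmp (nat_lit 2284) (nat_lit 241)))))))) (FT.node (nat_lit 2968) (FT.node (nat_lit 2965) (FT.node (nat_lit 2963) (FT.leaf (Fct.mk false (nat_lit 4) (nat_lit 0) (nat_lit 4) [nat_lit 5, nat_lit 4, nat_lit 3, nat_lit 8, nat_lit 2, nat_lit 3, nat_lit 4, nat_lit 5, nat_lit 2, nat_lit 1, nat_lit 4, nat_lit 3, nat_lit 2, nat_lit 8, nat_lit 3, nat_lit 8, nat_lit 10, nat_lit 1, nat_lit 14, nat_lit 12, nat_lit 18] (Rl.cmp (nat_lit 312) (nat_lit 234)))) (FT.node (nat_lit 2964) (FT.leaf (Fct.mk false (nat_lit 5) (nat_lit 0) (nat_lit 5) [nat_lit 3, nat_lit 11, nat_lit 10, nat_lit 1, nat_lit 16, nat_lit 15, nat_lit 14, nat_lit 13, nat_lit 16] (Rl.cmp (nat_lit 488) (nat_lit 470)))) (FT.leaf (Fct.mk false (nat_lit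 5) (nat_lit 0) (nat_lit 5) [nat_lit 0, nat_lit 1, nat_lit 2, nat_lit 3, nat_lit 4, nat_lit 5, nat_lit 0, nat_lit 1, nat_lit 2, nat_lit 3, nat_lit 11, nat_lit 10, nat_lit 1, nat_lit 15, nat_lit 14, nat_lit 13] (Rl.cmp (nat_lit 511) (nat_lit 2963)))))) (FT.node (nat_lit 2966) (FT.leaf (Fct.mk false (nat_lit 5) (nat_lit 0) (nat_lit 5) [nat_lit 6, nat_lit 2, nat_lit 3, nat_lit 9, nat_lit 16, nat_lit 15, nat_lit 14, nat_lit 12] (Rl.cmp (nat_lit 1754) (nat_lit 2964)))) (FT.node (nat_lit 2967) (FT.leaf (Fct.mk false (nat_lit 5) (nat_lit 0) (nat_lit 5) [nat_lit 8, nat_lit 3, nat_lit 4, nat_lit 2, nat_lit 3, nat_lit 8, nat_lit 7, nat_lit 5, nat_lit 6, nat_lit 4, nat_lit 5, nat_lit 3, nat_lit 4, nat_lit 2, nat_lit 3, nat_lit 8, nat_lit 0, nat_lit 1, nat_lit 2, nat_lit 3, nat_lit 4, nat_lit 5, nat_lit 6, nat_lit 7, nat_lit 8, nat_lit 5, nat_lit 3, nat_lit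 4, nat_lit 2, nat_lit 3, nat_lit 8, nat_lit 1, nat_lit 2, nat_lit 3, nat_lit 4, nat_lit 5, nat_lit 9, nat_lit 4, nat_lit 11, nat_lit 10, nat_lit 2, nat_lit 8, nat_lit 10, nat_lit 1, nat_lit 16, nat_lit 14, nat_lit 17, nat_lit 16] (Rl.cmp (nat_lit 2491) (nat_lit 2965)))) (FT.leaf (Fct.mk false (nat_lit 5) (nat_lit 0) (nat_lit 5) [nat_lit 2, nat_lit 3, nat_lit 8, nat_lit 4, nat_lit 5, nat_lit 3, nat_lit 4, nat_lit 2, nat_lit 3, nat_lit 8, nat_lit 6, nat_lit 7, nat_lit 5, nat_lit 6, nat_lit 4, nat_lit 5, nat_lit 3, nat_lit 4, nat_lit 2, nat_lit 3, nat_lit 8, nat_lit 1, nat_lit 2, nat_lit 3, nat_lit 4, nat_lit 5, nat_lit 6, nat_lit 7, nat_lit 2, nat_lit 3, nat_lit 8, nat_lit 4, nat_lit 5, nat_lit 3, nat_lit 4, nat_lit 2, nat_lit 3, nat_lit 8, nat_lit 1, nat_lit 2, nat_lit 3, nat_lit 4, nat_lit 5, nat_lit 8, nat_lit 3, nat_lit 2, nat_lit 1, nat_lit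 4, nat_lit 3, nat_lit 2, nat_lit 8, nat_lit 3, nat_lit 2, nat_lit 10, nat_lit 1, nat_lit 8, nat_lit 12, nat_lit 15, nat_lit 12, nat_lit 18, nat_lit 16] (Rl.cmp (nat_lit 2094) (nat_lit 2966))))))) (FT.node (nat_lit 2971) (FT.node (nat_lit 2969) (FT.leaf (Fct.mk false (nat_lit 5) (nat_lit 0) (nat_lit 5) [nat_lit 8, nat_lit 3, nat_lit 4, nat_lit 2, nat_lit 3, nat_lit 8, nat_lit 7, nat_lit 5, nat_lit 6, nat_lit 4, nat_lit 5, nat_lit 3, nat_lit 4, nat_lit 2, nat_lit 3, nat_lit 8, nat_lit 0, nat_lit 1, nat_lit 2, nat_lit 3, nat_lit 4, nat_lit 5, nat_lit 6, nat_lit 7, nat_lit 0, nat_lit 1, nat_lit 2, nat_lit 3, nat_lit 4, nat_lit 5, nat_lit 8, nat_lit 3, nat_lit 2, nat_lit 0, nat_lit 1, nat_lit 4, nat_lit 3, nat_lit 2, nat_lit 8, nat_lit 3, nat_lit 11, nat_lit 2, nat_lit 8, nat_lit 12, nat_lit 15, nat_lit 14, nat_lit 13, nat_lit 12, nat_lit 19] (Rl.cmp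 (nat_lit 2491) (nat_lit 470)))) (FT.node (nat_lit 2970) (FT.leaf (Fct.mk false (nat_lit 5) (nat_lit 0) (nat_lit 5) [nat_lit 2, nat_lit 3, nat_lit 8, nat_lit 4, nat_lit 5, nat_lit 3, nat_lit 4, nat_lit 2, nat_lit 3, nat_lit 8, nat_lit 6, nat_lit 7, nat_lit 5, nat_lit 6, nat_lit 4, nat_lit 5, nat_lit 3, nat_lit 4, nat_lit 2, nat_lit 3, nat_lit 8, nat_lit 1, nat_lit 2, nat_lit 3, nat_lit 4, nat_lit 5, nat_lit 6, nat_lit 7, nat_lit 8, nat_lit 4, nat_lit 5, nat_lit 3, nat_lit 4, nat_lit 2, nat_lit 3, nat_lit 8, nat_lit 1, nat_lit 2, nat_lit 3, nat_lit 4, nat_lit 5, nat_lit 1, nat_lit 4, nat_lit 3, nat_lit 2, nat_lit 8, nat_lit 3, nat_lit 8, nat_lit 10, nat_lit 0, nat_lit 8, nat_lit 16, nat_lit 14, nat_lit 17, nat_lit 16] (Rl.cmp (nat_lit 2094) (nat_lit 2968)))) (FT.leaf (Fct.mk false (nat_lit 5) (nat_lit 0) (nat_lit 5) [nat_lit 2, nat_lit 3, nat_lit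 8, nat_lit 4, nat_lit 5, nat_lit 3, nat_lit 4, nat_lit 2, nat_lit 3, nat_lit 8, nat_lit 6, nat_lit 7, nat_lit 5, nat_lit 6, nat_lit 4, nat_lit 5, nat_lit 3, nat_lit 4, nat_lit 2, nat_lit 3, nat_lit 8, nat_lit 1, nat_lit 2, nat_lit 3, nat_lit 4, nat_lit 5, nat_lit 6, nat_lit 7, nat_lit 6, nat_lit 4, nat_lit 5, nat_lit 3, nat_lit 4, nat_lit 2, nat_lit 3, nat_lit 8, nat_lit 1, nat_lit 2, nat_lit 3, nat_lit 4, nat_lit 5, nat_lit 1, nat_lit 3, nat_lit 2, nat_lit 8, nat_lit 3, nat_lit 2, nat_lit 8, nat_lit 19, nat_lit 16] (Rl.cmp (nat_lit 1754) (nat_lit 2969)))))) (FT.node (nat_lit 2973) (FT.node (nat_lit 2972) (FT.leaf (Fct.mk false (nat_lit 5) (nat_lit 0) (nat_lit 5) [nat_lit 8, nat_lit 2, nat_lit 3, nat_lit 4, nat_lit 1, nat_lit 2, nat_lit 3, nat_lit 8, nat_lit 5, nat_lit 6, nat_lit 4, nat_lit 5, nat_lit 3, nat_lit 4, nat_lit 2, nat_lit 3, nat_lit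 8, nat_lit 1, nat_lit 2, nat_lit 3, nat_lit 4, nat_lit 5, nat_lit 1, nat_lit 2, nat_lit 3, nat_lit 8, nat_lit 4, nat_lit 3, nat_lit 2, nat_lit 1, nat_lit 9, nat_lit 4, nat_lit 3, nat_lit 2, nat_lit 8, nat_lit 3, nat_lit 11, nat_lit 10, nat_lit 1, nat_lit 15, nat_lit 14, nat_lit 18, nat_lit 16] (Rl.cmp (nat_lit 2094) (nat_lit 488)))) (FT.leaf (Fct.mk false (nat_lit 5) (nat_lit 0) (nat_lit 5) [nat_lit 8, nat_lit 3, nat_lit 4, nat_lit 2, nat_lit 3, nat_lit 8, nat_lit 7, nat_lit 5, nat_lit 6, nat_lit 4, nat_lit 5, nat_lit 3, nat_lit 4, nat_lit 2, nat_lit 3, nat_lit 8, nat_lit 0, nat_lit 1, nat_lit 2, nat_lit 3, nat_lit 4, nat_lit 5, nat_lit 6, nat_lit 7, nat_lit 6, nat_lit 5, nat_lit 4, nat_lit 2, nat_lit 3, nat_lit 8, nat_lit 1, nat_lit 2, nat_lit 3, nat_lit 4, nat_lit 5, nat_lit 1, nat_lit 4, nat_lit 3, nat_lit 2, nat_lit 8, nat_lit 3, nat_lit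 11, nat_lit 10, nat_lit 2, nat_lit 8, nat_lit 10, nat_lit 1, nat_lit 8, nat_lit 16, nat_lit 14, nat_lit 17, nat_lit 18] (Rl.cmp (nat_lit 2491) (nat_lit 2971))))) (FT.node (nat_lit 2974) (FT.leaf (Fct.mk false (nat_lit 2) (nat_lit 0) (nat_lit 2) [nat_lit 4, nat_lit 5, nat_lit 3, nat_lit 4, nat_lit 1, nat_lit 2, nat_lit 3, nat_lit 8, nat_lit 6, nat_lit 7, nat_lit 5, nat_lit 6, nat_lit 4, nat_lit 5, nat_lit 3, nat_lit 4, nat_lit 2, nat_lit 3, nat_lit 8, nat_lit 1, nat_lit 2, nat_lit 3, nat_lit 4, nat_lit 5, nat_lit 6, nat_lit 7, nat_lit 4, nat_lit 5, nat_lit 3, nat_lit 4, nat_lit 2, nat_lit 3, nat_lit 8, nat_lit 1, nat_lit 2, nat_lit 3, nat_lit 4, nat_lit 5, nat_lit 1, nat_lit 3, nat_lit 8, nat_lit 4, nat_lit 3, nat_lit 2, nat_lit 0, nat_lit 1, nat_lit 9, nat_lit 4, nat_lit 3, nat_lit 2, nat_lit 8, nat_lit 3, nat_lit 9, nat_lit 10, nat_lit 2,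 nat_lit 8, nat_lit 10, nat_lit 1, nat_lit 16, nat_lit 12, nat_lit 15, nat_lit 14, nat_lit 13, nat_lit 18, nat_lit 16] (Rl.cmp (nat_lit 2340) (nat_lit 2935)))) (FT.leaf (Fct.mk false (nat_lit 4) (nat_lit 0) (nat_lit 4) [nat_lit 6, nat_lit 7, nat_lit 5, nat_lit 6, nat_lit 4, nat_lit 5, nat_lit 3, nat_lit 4, nat_lit 2, nat_lit 3, nat_lit 8, nat_lit 1, nat_lit 2, nat_lit 3, nat_lit 4, nat_lit 5, nat_lit 6, nat_lit 7, nat_lit 2, nat_lit 3, nat_lit 4, nat_lit 1, nat_lit 2, nat_lit 3, nat_lit 8, nat_lit 5, nat_lit 6, nat_lit 4, nat_lit 5, nat_lit 3, nat_lit 4, nat_lit 2, nat_lit 3, nat_lit 8, nat_lit 1, nat_lit 2, nat_lit 3, nat_lit 4, nat_lit 5, nat_lit 2, nat_lit 16, nat_lit 14, nat_lit 12, nat_lit 16] (Rl.cmp (nat_lit 312) (nat_lit 2942))))))))) (FT.node (nat_lit 2987) (FT.node (nat_lit 2981) (FT.node (nat_lit 2978) (FT.node (nat_lit 2976) (FT.leaf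 (Fct.mk false (nat_lit 2) (nat_lit 0) (nat_lit 2) [nat_lit 1, nat_lit 2, nat_lit 3, nat_lit 8, nat_lit 4, nat_lit 5, nat_lit 3, nat_lit 4, nat_lit 2, nat_lit 3, nat_lit 8, nat_lit 1, nat_lit 2, nat_lit 3, nat_lit 4, nat_lit 5, nat_lit 3, nat_lit 2, nat_lit 1, nat_lit 9, nat_lit 4, nat_lit 3, nat_lit 2, nat_lit 8, nat_lit 3, nat_lit 10, nat_lit 2, nat_lit 8, nat_lit 10, nat_lit 1, nat_lit 12, nat_lit 8, nat_lit 16, nat_lit 14, nat_lit 8, nat_lit 18] (Rl.cmp (nat_lit 1850) (nat_lit 86)))) (FT.node (nat_lit 2977) (FT.leaf (Fct.mk false (nat_lit 4) (nat_lit 0) (nat_lit 4) [nat_lit 7, nat_lit 2, nat_lit 3, nat_lit 4, nat_lit 5, nat_lit 1, nat_lit 3, nat_lit 2, nat_lit 8, nat_lit 3, nat_lit 8, nat_lit 10, nat_lit 14, nat_lit 12] (Rl.cmp (nat_lit 312) (nat_lit 263)))) (FT.leaf (Fct.mk false (nat_lit 4) (nat_lit 0) (nat_lit 4) [nat_lit 8, nat_lit 3,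 nat_lit 4, nat_lit 2, nat_lit 3, nat_lit 8, nat_lit 1, nat_lit 2, nat_lit 3, nat_lit 4, nat_lit 5, nat_lit 4, nat_lit 3, nat_lit 2, nat_lit 8, nat_lit 3, nat_lit 10, nat_lit 1, nat_lit 8, nat_lit 18] (Rl.cmp (nat_lit 239) (nat_lit 234)))))) (FT.node (nat_lit 2979) (FT.leaf (Fct.mk false (nat_lit 4) (nat_lit 0) (nat_lit 4) [nat_lit 8, nat_lit 3, nat_lit 4, nat_lit 2, nat_lit 3, nat_lit 8, nat_lit 5, nat_lit 6, nat_lit 4, nat_lit 5, nat_lit 3, nat_lit 4, nat_lit 2, nat_lit 3, nat_lit 8, nat_lit 1, nat_lit 2, nat_lit 3, nat_lit 4, nat_lit 5, nat_lit 3, nat_lit 2, nat_lit 1, nat_lit 4, nat_lit 3, nat_lit 2, nat_lit 8, nat_lit 3, nat_lit 1, nat_lit 9, nat_lit 8, nat_lit 16, nat_lit 14, nat_lit 16, nat_lit 8, nat_lit 19] (Rl.cmp (nat_lit 1995) (nat_lit 234)))) (FT.node (nat_lit 2980) (FT.leaf (Fct.mk false (nat_lit 4) (nat_lit 0) (nat_lit 4) [nat_lit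 7, nat_lit 1, nat_lit 2, nat_lit 3, nat_lit 8, nat_lit 4, nat_lit 5, nat_lit 3, nat_lit 4, nat_lit 2, nat_lit 3, nat_lit 8, nat_lit 1, nat_lit 2, nat_lit 3, nat_lit 4, nat_lit 5, nat_lit 3, nat_lit 2, nat_lit 1, nat_lit 4, nat_lit 3, nat_lit 2, nat_lit 8, nat_lit 3, nat_lit 1, nat_lit 18] (Rl.cmp (nat_lit 263) (nat_lit 243)))) (FT.leaf (Fct.mk false (nat_lit 4) (nat_lit 0) (nat_lit 4) [nat_lit 7, nat_lit 1, nat_lit 2, nat_lit 3, nat_lit 8, nat_lit 4, nat_lit 5, nat_lit 3, nat_lit 4, nat_lit 2, nat_lit 3, nat_lit 8, nat_lit 1, nat_lit 2, nat_lit 3, nat_lit 4, nat_lit 5, nat_lit 3, nat_lit 2, nat_lit 1, nat_lit 4, nat_lit 3, nat_lit 2, nat_lit 8, nat_lit 3, nat_lit 1, nat_lit 18] (Rl.cmp (nat_lit 263) (nat_lit 243))))))) (FT.node (nat_lit 2984) (FT.node (nat_lit 2982) (FT.leaf (Fct.mk false (nat_lit 5) (nat_lit 0) (nat_lit 5) [nat_lit 4, nat_lit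 3, nat_lit 8, nat_lit 2, nat_lit 3, nat_lit 4, nat_lit 1, nat_lit 2, nat_lit 3, nat_lit 8, nat_lit 6, nat_lit 7, nat_lit 5, nat_lit 6, nat_lit 4, nat_lit 5, nat_lit 3, nat_lit 4, nat_lit 2, nat_lit 3, nat_lit 8, nat_lit 1, nat_lit 2, nat_lit 3, nat_lit 4, nat_lit 5, nat_lit 6, nat_lit 7, nat_lit 6, nat_lit 5, nat_lit 4, nat_lit 3, nat_lit 8, nat_lit 1, nat_lit 2, nat_lit 3, nat_lit 4, nat_lit 5, nat_lit 1, nat_lit 4, nat_lit 3, nat_lit 2, nat_lit 8, nat_lit 3, nat_lit 2, nat_lit 8, nat_lit 10, nat_lit 1, nat_lit 16, nat_lit 15, nat_lit 14, nat_lit 12, nat_lit 19, nat_lit 16] (Rl.cmp (nat_lit 511) (nat_lit 2858)))) (FT.node (nat_lit 2983) (FT.leaf (Fct.mk false (nat_lit 4) (nat_lit 0) (nat_lit 4) [nat_lit 5, nat_lit 4, nat_lit 3, nat_lit 8, nat_lit 2, nat_lit 3, nat_lit 4, nat_lit 5, nat_lit 2, nat_lit 1, nat_lit 4, nat_lit 3, nat_lit 2, nat_lit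 8, nat_lit 3, nat_lit 10, nat_lit 1, nat_lit 14, nat_lit 12, nat_lit 18] (Rl.cmp (nat_lit 312) (nat_lit 2955)))) (FT.leaf (Fct.mk false (nat_lit 4) (nat_lit 0) (nat_lit 4) [nat_lit 4] (Rl.cmp (nat_lit 239) (nat_lit 241)))))) (FT.node (nat_lit 2985) (FT.leaf (Fct.mk false (nat_lit 4) (nat_lit 0) (nat_lit 4) [nat_lit 7, nat_lit 8, nat_lit 3, nat_lit 4, nat_lit 5, nat_lit 8, nat_lit 3, nat_lit 2, nat_lit 1, nat_lit 4, nat_lit 3, nat_lit 2, nat_lit 8, nat_lit 3, nat_lit 10, nat_lit 1, nat_lit 14, nat_lit 18] (Rl.cmp (nat_lit 312) (nat_lit 2979)))) (FT.node (nat_lit 2986) (FT.leaf (Fct.mk false (nat_lit 4) (nat_lit 0) (nat_lit 4) [nat_lit 8, nat_lit 3, nat_lit 4, nat_lit 5, nat_lit 8, nat_lit 3, nat_lit 8, nat_lit 10, nat_lit 8] (Rl.cmp (nat_lit 243) (nat_lit 2856)))) (FT.leaf (Fct.mk false (nat_lit 4) (nat_lit 0) (nat_lit 4) [nat_lit 2, nat_lit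 3, nat_lit 8, nat_lit 4, nat_lit 5, nat_lit 3, nat_lit 4, nat_lit 2, nat_lit 3, nat_lit 8, nat_lit 6, nat_lit 7, nat_lit 5, nat_lit 6, nat_lit 4, nat_lit 5, nat_lit 3, nat_lit 4, nat_lit 2, nat_lit 3, nat_lit 8, nat_lit 1, nat_lit 2, nat_lit 3, nat_lit 4, nat_lit 5, nat_lit 6, nat_lit 7, nat_lit 6, nat_lit 9, nat_lit 4, nat_lit 3, nat_lit 2, nat_lit 8, nat_lit 3, nat_lit 2, nat_lit 12, nat_lit 8, nat_lit 16, nat_lit 14, nat_lit 12, nat_lit 18, nat_lit 16] (Rl.cmp (nat_lit 2284) (nat_lit 240)))))))) (FT.node (nat_lit 2993) (FT.node (nat_lit 2990) (FT.node (nat_lit 2988) (FT.leaf (Fct.mk false (nat_lit 4) (nat_lit 0) (nat_lit 4) [nat_lit 2, nat_lit 3, nat_lit 8, nat_lit 4, nat_lit 5, nat_lit 3, nat_lit 4, nat_lit 2, nat_lit 3, nat_lit 8, nat_lit 6, nat_lit 7, nat_lit 5, nat_lit 6, nat_lit 4, nat_lit 5, nat_lit 3, nat_lit 4, nat_lit 2, nat_lit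 3, nat_lit 8, nat_lit 1, nat_lit 2, nat_lit 3, nat_lit 4, nat_lit 5, nat_lit 6, nat_lit 7, nat_lit 8, nat_lit 3, nat_lit 4, nat_lit 2, nat_lit 3, nat_lit 8, nat_lit 5, nat_lit 6, nat_lit 4, nat_lit 5, nat_lit 3, nat_lit 4, nat_lit 2, nat_lit 3, nat_lit 8, nat_lit 1, nat_lit 2, nat_lit 3, nat_lit 4, nat_lit 5, nat_lit 2, nat_lit 3, nat_lit 8, nat_lit 4, nat_lit 3, nat_lit 2, nat_lit 1, nat_lit 9, nat_lit 4, nat_lit 3, nat_lit 2, nat_lit 8, nat_lit 3, nat_lit 2, nat_lit 8, nat_lit 10, nat_lit 1, nat_lit 8, nat_lit 16, nat_lit 14, nat_lit 18] (Rl.cmp (nat_lit 2284) (nat_lit 2839)))) (FT.node (nat_lit 2989) (FT.leaf (Fct.mk true (nat_lit 2) (nat_lit 437) (nat_lit 32) [] (Rl.df))) (FT.leaf (Fct.mk true (nat_lit 32) (nat_lit 437) (nat_lit 2) [] (Rl.inv (nat_lit 2988)))))) (FT.node (nat_lit 2991) (FT.leaf (Fct.mk false (nat_lit 4) (nat_lit 0) (nat_lit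 4) [nat_lit 5, nat_lit 4, nat_lit 3, nat_lit 8, nat_lit 2, nat_lit 3, nat_lit 4, nat_lit 5] (Rl.cmp (nat_lit 234) (nat_lit 2982)))) (FT.node (nat_lit 2992) (FT.leaf (Fct.mk true (nat_lit 4) (nat_lit 2708) (nat_lit 32) [nat_lit 3, nat_lit 8, nat_lit 6, nat_lit 5, nat_lit 2, nat_lit 3, nat_lit 4, nat_lit 1, nat_lit 2, nat_lit 3, nat_lit 8, nat_lit 0, nat_lit 1, nat_lit 2, nat_lit 3, nat_lit 4, nat_lit 5, nat_lit 2, nat_lit 1, nat_lit 4, nat_lit 3, nat_lit 2, nat_lit 8, nat_lit 3, nat_lit 11, nat_lit 10, nat_lit 1, nat_lit 8, nat_lit 16, nat_lit 14, nat_lit 12] (Rl.rel (nat_lit 0) [nat_lit 3, nat_lit 4, nat_lit 2, nat_lit 3, nat_lit 8, nat_lit 1, nat_lit 2, nat_lit 3, nat_lit 4, nat_lit 5, nat_lit 2, nat_lit 0, nat_lit 1, nat_lit 4, nat_lit 3, nat_lit 2, nat_lit 8, nat_lit 3, nat_lit 8, nat_lit 10, nat_lit 1, nat_lit 12, nat_lit 16] (nat_lit 32)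 (nat_lit 2) [nat_lit 2989, nat_lit 86, nat_lit 237] []))) (FT.leaf (Fct.mk true (nat_lit 4) (nat_lit 282) (nat_lit 32) [nat_lit 6, nat_lit 5, nat_lit 4, nat_lit 1, nat_lit 2, nat_lit 3, nat_lit 8, nat_lit 0, nat_lit 1, nat_lit 2, nat_lit 3, nat_lit 4, nat_lit 5, nat_lit 2, nat_lit 1, nat_lit 4, nat_lit 3, nat_lit 2, nat_lit 8, nat_lit 3, nat_lit 2, nat_lit 8, nat_lit 10, nat_lit 1, nat_lit 15, nat_lit 12, nat_lit 18, nat_lit 16] (Rl.t1 (nat_lit 2991) (nat_lit 2990))))))) (FT.node (nat_lit 2996) (FT.node (nat_lit 2994) (FT.leaf (Fct.mk true (nat_lit 32) (nat_lit 237) (nat_lit 4) [nat_lit 3, nat_lit 4, nat_lit 5, nat_lit 3, nat_lit 2, nat_lit 8, nat_lit 3, nat_lit 11, nat_lit 10, nat_lit 1, nat_lit 16, nat_lit 15, nat_lit 14, nat_lit 12, nat_lit 19] (Rl.inv (nat_lit 2992)))) (FT.node (nat_lit 2995) (FT.leaf (Fct.mk false (nat_lit 4) (nat_lit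 0) (nat_lit 4) [nat_lit 8, nat_lit 3, nat_lit 4, nat_lit 5, nat_lit 3, nat_lit 10, nat_lit 8] (Rl.cmp (nat_lit 239) (nat_lit 2985)))) (FT.leaf (Fct.mk false (nat_lit 32) (nat_lit 0) (nat_lit 32) [nat_lit 4] (Rl.rel (nat_lit 0) [nat_lit 3, nat_lit 4, nat_lit 2, nat_lit 3, nat_lit 8, nat_lit 1, nat_lit 2, nat_lit 3, nat_lit 4, nat_lit 5, nat_lit 0, nat_lit 1, nat_lit 4, nat_lit 3, nat_lit 2, nat_lit 8, nat_lit 3, nat_lit 8, nat_lit 10, nat_lit 1, nat_lit 12, nat_lit 16] (nat_lit 32) (nat_lit 3) [nat_lit 2989, nat_lit 87, nat_lit 237, nat_lit 2994, nat_lit 2992] []))))) (FT.node (nat_lit 2998) (FT.node (nat_lit 2997) (FT.leaf (Fct.mk true (nat_lit 32) (nat_lit 78) (nat_lit 4) [nat_lit 3, nat_lit 4, nat_lit 5, nat_lit 2, nat_lit 8, nat_lit 3, nat_lit 11, nat_lit 10, nat_lit 1, nat_lit 16, nat_lit 15, nat_lit 14, nat_lit 12, nat_lit 19] (Rl.t1 (nat_lit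 2993) (nat_lit 2995)))) (FT.leaf (Fct.mk false (nat_lit 4) (nat_lit 0) (nat_lit 4) [nat_lit 2, nat_lit 3, nat_lit 8, nat_lit 4, nat_lit 5, nat_lit 3, nat_lit 4, nat_lit 2, nat_lit 3, nat_lit 8, nat_lit 1, nat_lit 2, nat_lit 3, nat_lit 4, nat_lit 5, nat_lit 1, nat_lit 4, nat_lit 3, nat_lit 2, nat_lit 8, nat_lit 3, nat_lit 1, nat_lit 18] (Rl.cmp (nat_lit 240) (nat_lit 2836))))) (FT.node (nat_lit 2999) (FT.leaf (Fct.mk true (nat_lit 4) (nat_lit 38461) (nat_lit 32) [nat_lit 8, nat_lit 5, nat_lit 2, nat_lit 3, nat_lit 4, nat_lit 1, nat_lit 2, nat_lit 3, nat_lit 8, nat_lit 0, nat_lit 1, nat_lit 2, nat_lit 3, nat_lit 4, nat_lit 5, nat_lit 2, nat_lit 1, nat_lit 3, nat_lit 2, nat_lit 8, nat_lit 3, nat_lit 2, nat_lit 15, nat_lit 14, nat_lit 17, nat_lit 12, nat_lit 19] (Rl.rel (nat_lit 0) [nat_lit 3, nat_lit 4, nat_lit 2, nat_lit 3, nat_lit 8, nat_lit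 1, nat_lit 2, nat_lit 3, nat_lit 4, nat_lit 5, nat_lit 3, nat_lit 2, nat_lit 0, nat_lit 1, nat_lit 4, nat_lit 3, nat_lit 2, nat_lit 8, nat_lit 3, nat_lit 8, nat_lit 10, nat_lit 1, nat_lit 12, nat_lit 18, nat_lit 16] (nat_lit 32) (nat_lit 2) [nat_lit 2989, nat_lit 84, nat_lit 649, nat_lit 1967] []))) (FT.leaf (Fct.mk true (nat_lit 4) (nat_lit 89) (nat_lit 32) [nat_lit 8, nat_lit 4, nat_lit 5, nat_lit 2, nat_lit 3, nat_lit 4, nat_lit 1, nat_lit 2, nat_lit 3, nat_lit 8, nat_lit 0, nat_lit 1, nat_lit 2, nat_lit 3, nat_lit 4, nat_lit 5, nat_lit 3, nat_lit 2, nat_lit 0, nat_lit 1, nat_lit 4, nat_lit 3, nat_lit 2, nat_lit 8, nat_lit 3, nat_lit 1, nat_lit 0, nat_lit 2, nat_lit 8, nat_lit 12, nat_lit 15, nat_lit 14, nat_lit 17, nat_lit 12, nat_lit 19, nat_lit 16] (Rl.t1 (nat_lit 2998) (nat_lit 2997)))))))))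

/-- some facts -/
noncomputable def ftc60 : FT := FT.node (nat_lit 3025) (FT.node (nat_lit 3012) (FT.node (nat_lit 3006) (FT.node (nat_lit 3003) (FT.node (nat_lit 3001) (FT.leaf (Fct.mk true (nat_lit 32) (nat_lit 6155) (nat_lit 4) [nat_lit 3, nat_lit 8, nat_lit 4, nat_lit 5, nat_lit 3, nat_lit 4, nat_lit 2, nat_lit 3, nat_lit 8, nat_lit 1, nat_lit 2, nat_lit 3, nat_lit 4, nat_lit 5, nat_lit 8, nat_lit 3, nat_lit 8, nat_lit 10, nat_lit 8, nat_lit 16, nat_lit 15, nat_lit 14, nat_lit 13, nat_lit 18] (Rl.inv (nat_lit 2999)))) (FT.node (nat_lit 3002) (FT.leaf (Fct.mk false (nat_lit 4) (nat_lit 0) (nat_lit 4) [nat_lit 8, nat_lit 3, nat_lit 4, nat_lit 1, nat_lit 2, nat_lit 3, nat_lit 8, nat_lit 6, nat_lit 7, nat_lit 5, nat_lit 6, nat_lit 4, nat_lit 5, nat_lit 3, nat_lit 4, nat_lit 2, nat_lit 3, nat_lit 8, nat_lit 1, nat_lit 2, nat_lit 3, nat_lit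 4, nat_lit 5, nat_lit 6, nat_lit 7, nat_lit 5, nat_lit 4, nat_lit 3, nat_lit 8, nat_lit 1, nat_lit 2, nat_lit 3, nat_lit 4, nat_lit 5, nat_lit 4, nat_lit 10, nat_lit 16, nat_lit 14, nat_lit 8, nat_lit 16] (Rl.cmp (nat_lit 243) (nat_lit 2854)))) (FT.leaf (Fct.mk false (nat_lit 4) (nat_lit 0) (nat_lit 4) [nat_lit 6, nat_lit 7, nat_lit 5, nat_lit 6, nat_lit 4, nat_lit 5, nat_lit 3, nat_lit 4, nat_lit 2, nat_lit 3, nat_lit 8, nat_lit 1, nat_lit 2, nat_lit 3, nat_lit 4, nat_lit 5, nat_lit 6, nat_lit 7, nat_lit 6, nat_lit 5, nat_lit 4, nat_lit 3, nat_lit 8, nat_lit 1, nat_lit 2, nat_lit 3, nat_lit 4, nat_lit 5, nat_lit 1, nat_lit 9, nat_lit 4, nat_lit 3, nat_lit 2, nat_lit 8, nat_lit 3, nat_lit 9, nat_lit 10, nat_lit 2, nat_lit 8, nat_lit 10, nat_lit 1, nat_lit 8, nat_lit 16, nat_lit 14, nat_lit 16, nat_lit 8] (Rl.cmp (nat_lit 2284) (nat_lit 3001))))))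 (FT.node (nat_lit 3004) (FT.leaf (Fct.mk false (nat_lit 4) (nat_lit 0) (nat_lit 4) [nat_lit 8, nat_lit 5, nat_lit 3, nat_lit 4, nat_lit 2, nat_lit 3, nat_lit 8, nat_lit 1, nat_lit 2, nat_lit 3, nat_lit 4, nat_lit 5, nat_lit 2, nat_lit 1, nat_lit 3, nat_lit 2, nat_lit 8, nat_lit 3, nat_lit 2, nat_lit 10, nat_lit 1, nat_lit 14] (Rl.cmp (nat_lit 2372) (nat_lit 3002)))) (FT.node (nat_lit 3005) (FT.leaf (Fct.mk false (nat_lit 32) (nat_lit 0) (nat_lit 32) [nat_lit 92] (Rl.rel (nat_lit 0) [nat_lit 3, nat_lit 4, nat_lit 2, nat_lit 3, nat_lit 8, nat_lit 1, nat_lit 2, nat_lit 3, nat_lit 4, nat_lit 5, nat_lit 1, nat_lit 2, nat_lit 0, nat_lit 1, nat_lit 4, nat_lit 3, nat_lit 2, nat_lit 8, nat_lit 3, nat_lit 8, nat_lit 10, nat_lit 1, nat_lit 15, nat_lit 12, nat_lit 16] (nat_lit 32) (nat_lit 3) [nat_lit 2989, nat_lit 87, nat_lit 277, nat_lit 3003, nat_lit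 2999] []))) (FT.leaf (Fct.mk true (nat_lit 32) (nat_lit 263) (nat_lit 4) [nat_lit 3, nat_lit 4, nat_lit 2, nat_lit 3, nat_lit 8, nat_lit 1, nat_lit 2, nat_lit 3, nat_lit 4, nat_lit 5, nat_lit 1, nat_lit 2, nat_lit 3, nat_lit 8, nat_lit 4, nat_lit 3, nat_lit 2, nat_lit 1, nat_lit 9, nat_lit 4, nat_lit 3, nat_lit 2, nat_lit 8, nat_lit 3, nat_lit 2, nat_lit 16, nat_lit 12, nat_lit 15, nat_lit 14, nat_lit 13, nat_lit 19] (Rl.t1 (nat_lit 3000) (nat_lit 3004))))))) (FT.node (nat_lit 3009) (FT.node (nat_lit 3007) (FT.leaf (Fct.mk false (nat_lit 2) (nat_lit 0) (nat_lit 2) [nat_lit 5, nat_lit 4, nat_lit 1, nat_lit 2, nat_lit 3, nat_lit 8, nat_lit 6, nat_lit 7, nat_lit 5, nat_lit 6, nat_lit 4, nat_lit 5, nat_lit 3, nat_lit 4, nat_lit 2, nat_lit 3, nat_lit 8, nat_lit 1, nat_lit 2, nat_lit 3, nat_lit 4, nat_lit 5, nat_lit 6, nat_lit 7, nat_lit 8, nat_lit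 5, nat_lit 3, nat_lit 4, nat_lit 2, nat_lit 3, nat_lit 8, nat_lit 1, nat_lit 2, nat_lit 3, nat_lit 4, nat_lit 5, nat_lit 8, nat_lit 3, nat_lit 2, nat_lit 1, nat_lit 4, nat_lit 3, nat_lit 2, nat_lit 8, nat_lit 3, nat_lit 9, nat_lit 8, nat_lit 16, nat_lit 14, nat_lit 16, nat_lit 8, nat_lit 18] (Rl.cmp (nat_lit 87) (nat_lit 2340)))) (FT.node (nat_lit 3008) (FT.leaf (Fct.mk false (nat_lit 2) (nat_lit 0) (nat_lit 2) [nat_lit 5, nat_lit 4, nat_lit 1, nat_lit 2, nat_lit 3, nat_lit 8, nat_lit 6, nat_lit 7, nat_lit 5, nat_lit 6, nat_lit 4, nat_lit 5, nat_lit 3, nat_lit 4, nat_lit 2, nat_lit 3, nat_lit 8, nat_lit 1, nat_lit 2, nat_lit 3, nat_lit 4, nat_lit 5, nat_lit 6, nat_lit 7, nat_lit 8, nat_lit 4, nat_lit 5, nat_lit 3, nat_lit 4, nat_lit 2, nat_lit 3, nat_lit 8, nat_lit 1, nat_lit 2, nat_lit 3, nat_lit 4, nat_lit 5, nat_lit 1, nat_lit 4, nat_lit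 3, nat_lit 2, nat_lit 0, nat_lit 1, nat_lit 9, nat_lit 4, nat_lit 3, nat_lit 2, nat_lit 8, nat_lit 3, nat_lit 1, nat_lit 9, nat_lit 16, nat_lit 8, nat_lit 12, nat_lit 15, nat_lit 17, nat_lit 12] (Rl.cmp (nat_lit 300) (nat_lit 3006)))) (FT.leaf (Fct.mk false (nat_lit 2) (nat_lit 0) (nat_lit 2) [nat_lit 1, nat_lit 2, nat_lit 8, nat_lit 3, nat_lit 10, nat_lit 9, nat_lit 2, nat_lit 8, nat_lit 16, nat_lit 14, nat_lit 16, nat_lit 8, nat_lit 19] (Rl.cmp (nat_lit 2330) (nat_lit 3007)))))) (FT.node (nat_lit 3010) (FT.leaf (Fct.mk false (nat_lit 2) (nat_lit 0) (nat_lit 2) [nat_lit 6, nat_lit 1, nat_lit 3, nat_lit 2, nat_lit 8, nat_lit 3, nat_lit 9, nat_lit 8, nat_lit 16, nat_lit 14, nat_lit 16, nat_lit 8, nat_lit 19] (Rl.cmp (nat_lit 168) (nat_lit 3008)))) (FT.node (nat_lit 3011) (FT.leaf (Fct.mk false (nat_lit 32) (nat_lit 0) (nat_lit 32) [nat_lit 94]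 (Rl.rel (nat_lit 0) [nat_lit 3, nat_lit 4, nat_lit 2, nat_lit 3, nat_lit 8, nat_lit 1, nat_lit 2, nat_lit 3, nat_lit 4, nat_lit 5, nat_lit 3, nat_lit 2, nat_lit 0, nat_lit 1, nat_lit 4, nat_lit 3, nat_lit 2, nat_lit 8, nat_lit 3, nat_lit 10, nat_lit 2, nat_lit 8, nat_lit 10, nat_lit 1, nat_lit 12, nat_lit 16] (nat_lit 32) (nat_lit 3) [nat_lit 2989, nat_lit 3009, nat_lit 649, nat_lit 1967, nat_lit 2977, nat_lit 2999] []))) (FT.leaf (Fct.mk false (nat_lit 32) (nat_lit 0) (nat_lit 32) [nat_lit 2, nat_lit 3, nat_lit 4, nat_lit 1, nat_lit 2, nat_lit 3, nat_lit 8, nat_lit 0, nat_lit 1, nat_lit 2, nat_lit 3, nat_lit 4, nat_lit 5, nat_lit 3, nat_lit 8, nat_lit 4, nat_lit 3, nat_lit 2, nat_lit 0, nat_lit 1, nat_lit 9, nat_lit 4, nat_lit 3, nat_lit 2, nat_lit 8, nat_lit 3, nat_lit 11, nat_lit 10, nat_lit 8, nat_lit 16, nat_lit 14, nat_lit 19] (Rl.cmp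 (nat_lit 3010) (nat_lit 3004)))))))) (FT.node (nat_lit 3018) (FT.node (nat_lit 3015) (FT.node (nat_lit 3013) (FT.leaf (Fct.mk false (nat_lit 32) (nat_lit 0) (nat_lit 32) [nat_lit 3, nat_lit 4, nat_lit 1, nat_lit 2, nat_lit 3, nat_lit 8, nat_lit 5, nat_lit 6, nat_lit 4, nat_lit 5, nat_lit 3, nat_lit 4, nat_lit 2, nat_lit 3, nat_lit 8, nat_lit 1, nat_lit 2, nat_lit 3, nat_lit 4, nat_lit 5, nat_lit 0, nat_lit 1, nat_lit 2, nat_lit 8, nat_lit 3, nat_lit 11, nat_lit 1, nat_lit 12, nat_lit 15, nat_lit 12, nat_lit 19, nat_lit 16] (Rl.cmp (nat_lit 3004) (nat_lit 3011)))) (FT.node (nat_lit 3014) (FT.leaf (Fct.mk true (nat_lit 32) (nat_lit 173) (nat_lit 2) [nat_lit 8, nat_lit 3, nat_lit 4, nat_lit 1, nat_lit 2, nat_lit 3, nat_lit 8, nat_lit 5, nat_lit 6, nat_lit 4, nat_lit 5, nat_lit 3, nat_lit 4, nat_lit 2, nat_lit 3, nat_lit 8, nat_lit 1, nat_lit 2,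 nat_lit 3, nat_lit 4, nat_lit 5, nat_lit 3, nat_lit 2, nat_lit 1, nat_lit 4, nat_lit 3, nat_lit 2, nat_lit 8, nat_lit 3, nat_lit 11, nat_lit 2, nat_lit 15, nat_lit 19] (Rl.t1 (nat_lit 2989) (nat_lit 3012)))) (FT.leaf (Fct.mk false (nat_lit 32) (nat_lit 0) (nat_lit 32) [nat_lit 5, nat_lit 6, nat_lit 4, nat_lit 5, nat_lit 3, nat_lit 4, nat_lit 2, nat_lit 3, nat_lit 8, nat_lit 1, nat_lit 2, nat_lit 3, nat_lit 4, nat_lit 5, nat_lit 1, nat_lit 9, nat_lit 4, nat_lit 3, nat_lit 2, nat_lit 8, nat_lit 3, nat_lit 11, nat_lit 10, nat_lit 1, nat_lit 12, nat_lit 15, nat_lit 14, nat_lit 18, nat_lit 16] (Rl.cmp (nat_lit 3004) (nat_lit 3010)))))) (FT.node (nat_lit 3016) (FT.leaf (Fct.mk false (nat_lit 32) (nat_lit 0) (nat_lit 32) [nat_lit 3, nat_lit 8, nat_lit 6, nat_lit 4, nat_lit 5, nat_lit 3, nat_lit 4, nat_lit 2, nat_lit 3, nat_lit 8, nat_lit 0, nat_lit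 1, nat_lit 2, nat_lit 3, nat_lit 4, nat_lit 5, nat_lit 2, nat_lit 1, nat_lit 8, nat_lit 4, nat_lit 3, nat_lit 2, nat_lit 0, nat_lit 1, nat_lit 9, nat_lit 4, nat_lit 3, nat_lit 2, nat_lit 8, nat_lit 3, nat_lit 10, nat_lit 1, nat_lit 16, nat_lit 14, nat_lit 17, nat_lit 16] (Rl.cmp (nat_lit 3004) (nat_lit 3014)))) (FT.node (nat_lit 3017) (FT.leaf (Fct.mk false (nat_lit 32) (nat_lit 0) (nat_lit 32) [nat_lit 8, nat_lit 5, nat_lit 6, nat_lit 4, nat_lit 5, nat_lit 3, nat_lit 4, nat_lit 2, nat_lit 3, nat_lit 8, nat_lit 0, nat_lit 1, nat_lit 2, nat_lit 3, nat_lit 4, nat_lit 5, nat_lit 2, nat_lit 1, nat_lit 8, nat_lit 3, nat_lit 2, nat_lit 0, nat_lit 1, nat_lit 9, nat_lit 4, nat_lit 3, nat_lit 2, nat_lit 8, nat_lit 3, nat_lit 10, nat_lit 12, nat_lit 15, nat_lit 14, nat_lit 13, nat_lit 12, nat_lit 19] (Rl.cmp (nat_lit 3010) (nat_lit 3015)))) (FT.leaf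 (Fct.mk false (nat_lit 32) (nat_lit 0) (nat_lit 32) [nat_lit 5, nat_lit 4, nat_lit 2, nat_lit 3, nat_lit 8, nat_lit 1, nat_lit 2, nat_lit 3, nat_lit 4, nat_lit 5, nat_lit 0, nat_lit 1, nat_lit 4, nat_lit 3, nat_lit 2, nat_lit 8, nat_lit 3, nat_lit 11, nat_lit 8, nat_lit 10, nat_lit 1, nat_lit 8, nat_lit 16, nat_lit 15, nat_lit 14, nat_lit 13, nat_lit 12] (Rl.cmp (nat_lit 3004) (nat_lit 3016))))))) (FT.node (nat_lit 3021) (FT.node (nat_lit 3019) (FT.leaf (Fct.mk false (nat_lit 32) (nat_lit 0) (nat_lit 32) [nat_lit 8, nat_lit 1, nat_lit 2, nat_lit 3, nat_lit 4, nat_lit 5, nat_lit 2, nat_lit 0, nat_lit 1, nat_lit 4, nat_lit 3, nat_lit 2, nat_lit 8, nat_lit 3, nat_lit 11, nat_lit 2, nat_lit 8, nat_lit 10, nat_lit 1, nat_lit 16, nat_lit 15, nat_lit 14, nat_lit 16, nat_lit 8, nat_lit 19, nat_lit 16] (Rl.cmp (nat_lit 3010) (nat_lit 3017)))) (FT.node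 (nat_lit 3020) (FT.leaf (Fct.mk true (nat_lit 32) (nat_lit 163) (nat_lit 4) [nat_lit 5, nat_lit 4, nat_lit 1, nat_lit 2, nat_lit 3, nat_lit 8, nat_lit 0, nat_lit 1, nat_lit 2, nat_lit 3, nat_lit 4, nat_lit 5, nat_lit 2, nat_lit 0, nat_lit 1, nat_lit 3, nat_lit 2, nat_lit 8, nat_lit 3, nat_lit 8, nat_lit 10, nat_lit 9, nat_lit 2, nat_lit 16, nat_lit 8, nat_lit 12, nat_lit 15, nat_lit 19] (Rl.t1 (nat_lit 3005) (nat_lit 3018)))) (FT.leaf (Fct.mk false (nat_lit 2) (nat_lit 0) (nat_lit 2) [nat_lit 5, nat_lit 4, nat_lit 1, nat_lit 2, nat_lit 3, nat_lit 8, nat_lit 6, nat_lit 7, nat_lit 5, nat_lit 6, nat_lit 4, nat_lit 5, nat_lit 3, nat_lit 4, nat_lit 2, nat_lit 3, nat_lit 8, nat_lit 1, nat_lit 2, nat_lit 3, nat_lit 4, nat_lit 5, nat_lit 6, nat_lit 7, nat_lit 8, nat_lit 5, nat_lit 3, nat_lit 4, nat_lit 2, nat_lit 3, nat_lit 8, nat_lit 1, nat_lit 2,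 nat_lit 3, nat_lit 4, nat_lit 5, nat_lit 2, nat_lit 1, nat_lit 4, nat_lit 3, nat_lit 2, nat_lit 8, nat_lit 3, nat_lit 9, nat_lit 2, nat_lit 8, nat_lit 16, nat_lit 14, nat_lit 16, nat_lit 8, nat_lit 18] (Rl.cmp (nat_lit 87) (nat_lit 2341)))))) (FT.node (nat_lit 3023) (FT.node (nat_lit 3022) (FT.leaf (Fct.mk false (nat_lit 2) (nat_lit 0) (nat_lit 2) [nat_lit 1, nat_lit 2, nat_lit 3, nat_lit 8, nat_lit 6, nat_lit 4, nat_lit 5, nat_lit 3, nat_lit 4, nat_lit 2, nat_lit 3, nat_lit 8, nat_lit 1, nat_lit 2, nat_lit 3, nat_lit 4, nat_lit 5, nat_lit 1, nat_lit 3, nat_lit 2, nat_lit 0, nat_lit 1, nat_lit 4, nat_lit 3, nat_lit 2, nat_lit 8, nat_lit 3, nat_lit 10, nat_lit 1, nat_lit 8, nat_lit 12, nat_lit 15, nat_lit 14] (Rl.cmp (nat_lit 2330) (nat_lit 3020)))) (FT.leaf (Fct.mk false (nat_lit 2) (nat_lit 0) (nat_lit 2) [nat_lit 1, nat_lit 2, nat_lit 3,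 nat_lit 8, nat_lit 4, nat_lit 5, nat_lit 3, nat_lit 4, nat_lit 2, nat_lit 3, nat_lit 8, nat_lit 1, nat_lit 2, nat_lit 3, nat_lit 4, nat_lit 5, nat_lit 2, nat_lit 1, nat_lit 3, nat_lit 2, nat_lit 0, nat_lit 1, nat_lit 4, nat_lit 3, nat_lit 2, nat_lit 8, nat_lit 3, nat_lit 10, nat_lit 8, nat_lit 12, nat_lit 15, nat_lit 14, nat_lit 12] (Rl.cmp (nat_lit 168) (nat_lit 3021))))) (FT.node (nat_lit 3024) (FT.leaf (Fct.mk false (nat_lit 5) (nat_lit 0) (nat_lit 5) [nat_lit 3, nat_lit 8, nat_lit 2, nat_lit 3, nat_lit 4, nat_lit 1, nat_lit 2, nat_lit 3, nat_lit 8, nat_lit 5, nat_lit 6, nat_lit 4, nat_lit 5, nat_lit 3, nat_lit 4, nat_lit 2, nat_lit 3, nat_lit 8, nat_lit 1, nat_lit 2, nat_lit 3, nat_lit 4, nat_lit 5, nat_lit 1, nat_lit 2, nat_lit 3, nat_lit 8, nat_lit 4, nat_lit 3, nat_lit 2, nat_lit 1, nat_lit 9, nat_lit 4, nat_lit 3, nat_lit 2, nat_lit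 8, nat_lit 3, nat_lit 11, nat_lit 8, nat_lit 10, nat_lit 1, nat_lit 15, nat_lit 14, nat_lit 18, nat_lit 16] (Rl.cmp (nat_lit 470) (nat_lit 2094)))) (FT.leaf (Fct.mk false (nat_lit 32) (nat_lit 0) (nat_lit 32) [nat_lit 5, nat_lit 4, nat_lit 3, nat_lit 8, nat_lit 2, nat_lit 3, nat_lit 4, nat_lit 5, nat_lit 2, nat_lit 1, nat_lit 4, nat_lit 3, nat_lit 2, nat_lit 8, nat_lit 3, nat_lit 8, nat_lit 10, nat_lit 14, nat_lit 12, nat_lit 18] (Rl.cmp (nat_lit 3010) (nat_lit 2995))))))))) (FT.node (nat_lit 3037) (FT.node (nat_lit 3031) (FT.node (nat_lit 3028) (FT.node (nat_lit 3026) (FT.leaf (Fct.mk false (nat_lit 32) (nat_lit 0) (nat_lit 32) [nat_lit 95] (Rl.cmp (nat_lit 3010) (nat_lit 3024)))) (FT.node (nat_lit 3027) (FT.leaf (Fct.mk true (nat_lit 5) (nat_lit 15525) (nat_lit 32) [nat_lit 5, nat_lit 4, nat_lit 2, nat_lit 3, nat_lit 8, nat_lit 1, nat_lit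 2, nat_lit 3, nat_lit 4, nat_lit 5, nat_lit 1, nat_lit 2, nat_lit 3, nat_lit 8, nat_lit 4, nat_lit 3, nat_lit 2, nat_lit 1, nat_lit 9, nat_lit 4, nat_lit 3, nat_lit 2, nat_lit 8, nat_lit 3, nat_lit 11, nat_lit 2, nat_lit 8, nat_lit 12, nat_lit 15, nat_lit 14, nat_lit 17, nat_lit 19, nat_lit 16] (Rl.rel (nat_lit 0) [nat_lit 3, nat_lit 4, nat_lit 2, nat_lit 3, nat_lit 8, nat_lit 1, nat_lit 2, nat_lit 3, nat_lit 4, nat_lit 5, nat_lit 2, nat_lit 1, nat_lit 3, nat_lit 2, nat_lit 0, nat_lit 1, nat_lit 4, nat_lit 3, nat_lit 2, nat_lit 8, nat_lit 3, nat_lit 8, nat_lit 10, nat_lit 1, nat_lit 12, nat_lit 16] (nat_lit 32) (nat_lit 2) [nat_lit 3012, nat_lit 3013, nat_lit 3022, nat_lit 1272, nat_lit 2425] []))) (FT.leaf (Fct.mk true (nat_lit 5) (nat_lit 91) (nat_lit 32) [nat_lit 3, nat_lit 8, nat_lit 5, nat_lit 6, nat_lit 4, nat_lit 5, nat_lit 3, nat_lit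 4, nat_lit 2, nat_lit 3, nat_lit 8, nat_lit 0, nat_lit 1, nat_lit 2, nat_lit 3, nat_lit 4, nat_lit 5, nat_lit 4, nat_lit 3, nat_lit 2, nat_lit 1, nat_lit 8, nat_lit 3, nat_lit 2, nat_lit 0, nat_lit 1, nat_lit 4, nat_lit 3, nat_lit 2, nat_lit 8, nat_lit 3, nat_lit 11, nat_lit 2, nat_lit 10, nat_lit 1, nat_lit 12, nat_lit 8, nat_lit 16, nat_lit 14, nat_lit 13, nat_lit 12, nat_lit 19] (Rl.t1 (nat_lit 3026) (nat_lit 3023)))))) (FT.node (nat_lit 3029) (FT.leaf (Fct.mk true (nat_lit 32) (nat_lit 4536) (nat_lit 5) [nat_lit 4, nat_lit 5, nat_lit 6, nat_lit 3, nat_lit 4, nat_lit 5, nat_lit 2, nat_lit 3, nat_lit 4, nat_lit 1, nat_lit 2, nat_lit 3, nat_lit 8, nat_lit 0, nat_lit 1, nat_lit 2, nat_lit 3, nat_lit 4, nat_lit 5, nat_lit 1, nat_lit 2, nat_lit 0, nat_lit 1, nat_lit 4, nat_lit 3, nat_lit 2, nat_lit 8, nat_lit 3, nat_lit 0, nat_lit 8, nat_lit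 16, nat_lit 15, nat_lit 14, nat_lit 17] (Rl.inv (nat_lit 3027)))) (FT.node (nat_lit 3030) (FT.leaf (Fct.mk true (nat_lit 32) (nat_lit 80) (nat_lit 5) [nat_lit 8, nat_lit 6, nat_lit 4, nat_lit 5, nat_lit 3, nat_lit 4, nat_lit 2, nat_lit 3, nat_lit 8, nat_lit 0, nat_lit 1, nat_lit 2, nat_lit 3, nat_lit 4, nat_lit 5, nat_lit 1, nat_lit 3, nat_lit 2, nat_lit 0, nat_lit 1, nat_lit 9, nat_lit 4, nat_lit 3, nat_lit 2, nat_lit 8, nat_lit 3, nat_lit 1, nat_lit 9, nat_lit 12, nat_lit 15, nat_lit 8, nat_lit 18, nat_lit 16] (Rl.t1 (nat_lit 3028) (nat_lit 3025)))) (FT.leaf (Fct.mk false (nat_lit 2) (nat_lit 0) (nat_lit 2) [nat_lit 7, nat_lit 6, nat_lit 1, nat_lit 3, nat_lit 2, nat_lit 0, nat_lit 1, nat_lit 4, nat_lit 3, nat_lit 2, nat_lit 8, nat_lit 3, nat_lit 8, nat_lit 10, nat_lit 1, nat_lit 8, nat_lit 12, nat_lit 15, nat_lit 14, nat_lit 8, nat_lit 18]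 (Rl.cmp (nat_lit 300) (nat_lit 172))))))) (FT.node (nat_lit 3034) (FT.node (nat_lit 3032) (FT.leaf (Fct.mk false (nat_lit 2) (nat_lit 0) (nat_lit 2) [nat_lit 4, nat_lit 5, nat_lit 3, nat_lit 4, nat_lit 1, nat_lit 2, nat_lit 3, nat_lit 8, nat_lit 6, nat_lit 7, nat_lit 5, nat_lit 6, nat_lit 4, nat_lit 5, nat_lit 3, nat_lit 4, nat_lit 2, nat_lit 3, nat_lit 8, nat_lit 1, nat_lit 2, nat_lit 3, nat_lit 4, nat_lit 5, nat_lit 6, nat_lit 7, nat_lit 8, nat_lit 6, nat_lit 5, nat_lit 3, nat_lit 4, nat_lit 2, nat_lit 3, nat_lit 8, nat_lit 1, nat_lit 2, nat_lit 3, nat_lit 4, nat_lit 5, nat_lit 2, nat_lit 1, nat_lit 9, nat_lit 4, nat_lit 3, nat_lit 2, nat_lit 8, nat_lit 3, nat_lit 10, nat_lit 1, nat_lit 14, nat_lit 16, nat_lit 8, nat_lit 19, nat_lit 16] (Rl.cmp (nat_lit 2330) (nat_lit 3030)))) (FT.node (nat_lit 3033) (FT.leaf (Fct.mk false (nat_lit 2) (nat_lit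 0) (nat_lit 2) [nat_lit 6, nat_lit 3, nat_lit 2, nat_lit 1, nat_lit 9, nat_lit 4, nat_lit 3, nat_lit 2, nat_lit 8, nat_lit 3, nat_lit 9, nat_lit 10, nat_lit 2, nat_lit 8, nat_lit 10, nat_lit 1, nat_lit 12, nat_lit 8, nat_lit 16, nat_lit 14, nat_lit 8, nat_lit 18] (Rl.cmp (nat_lit 2340) (nat_lit 3031)))) (FT.leaf (Fct.mk false (nat_lit 2) (nat_lit 0) (nat_lit 2) [nat_lit 6, nat_lit 4, nat_lit 3, nat_lit 2, nat_lit 0, nat_lit 1, nat_lit 9, nat_lit 4, nat_lit 3, nat_lit 2, nat_lit 8, nat_lit 3, nat_lit 11, nat_lit 2, nat_lit 10, nat_lit 1, nat_lit 12, nat_lit 8, nat_lit 16, nat_lit 14, nat_lit 13, nat_lit 12] (Rl.cmp (nat_lit 300) (nat_lit 3032)))))) (FT.node (nat_lit 3035) (FT.leaf (Fct.mk false (nat_lit 25) (nat_lit 0) (nat_lit 25) [nat_lit 2, nat_lit 3, nat_lit 4, nat_lit 1, nat_lit 2, nat_lit 3, nat_lit 8, nat_lit 0, nat_lit 1, nat_lit 2,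 nat_lit 3, nat_lit 4, nat_lit 5, nat_lit 8, nat_lit 4, nat_lit 3, nat_lit 2, nat_lit 1, nat_lit 9, nat_lit 4, nat_lit 3, nat_lit 2, nat_lit 8, nat_lit 3, nat_lit 9, nat_lit 2, nat_lit 8, nat_lit 16, nat_lit 15, nat_lit 14, nat_lit 19] (Rl.cmp (nat_lit 1256) (nat_lit 2949)))) (FT.node (nat_lit 3036) (FT.leaf (Fct.mk false (nat_lit 25) (nat_lit 0) (nat_lit 25) [nat_lit 3, nat_lit 8, nat_lit 2, nat_lit 3, nat_lit 4, nat_lit 1, nat_lit 2, nat_lit 3, nat_lit 8, nat_lit 5, nat_lit 6, nat_lit 4, nat_lit 5, nat_lit 3, nat_lit 4, nat_lit 2, nat_lit 3, nat_lit 8, nat_lit 1, nat_lit 2, nat_lit 3, nat_lit 4, nat_lit 5, nat_lit 3, nat_lit 2, nat_lit 1, nat_lit 4, nat_lit 3, nat_lit 2, nat_lit 8, nat_lit 3, nat_lit 1, nat_lit 9, nat_lit 15, nat_lit 14, nat_lit 17, nat_lit 12, nat_lit 18] (Rl.cmp (nat_lit 1672) (nat_lit 3034)))) (FT.leaf (Fct.mk false (nat_lit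 32) (nat_lit 0) (nat_lit 32) [nat_lit 5, nat_lit 4, nat_lit 3, nat_lit 8, nat_lit 0, nat_lit 1, nat_lit 2, nat_lit 3, nat_lit 4, nat_lit 5, nat_lit 2, nat_lit 0, nat_lit 1, nat_lit 4, nat_lit 3, nat_lit 2, nat_lit 8, nat_lit 3, nat_lit 10, nat_lit 2, nat_lit 8, nat_lit 10, nat_lit 1, nat_lit 16, nat_lit 15, nat_lit 14, nat_lit 16, nat_lit 8] (Rl.cmp (nat_lit 3004) (nat_lit 3004)))))))) (FT.node (nat_lit 3043) (FT.node (nat_lit 3040) (FT.node (nat_lit 3038) (FT.leaf (Fct.mk false (nat_lit 32) (nat_lit 0) (nat_lit 32) [nat_lit 0, nat_lit 1, nat_lit 2, nat_lit 3, nat_lit 4, nat_lit 5, nat_lit 3, nat_lit 2, nat_lit 0, nat_lit 1, nat_lit 4, nat_lit 3, nat_lit 2, nat_lit 8, nat_lit 3, nat_lit 0, nat_lit 2, nat_lit 8, nat_lit 16, nat_lit 14, nat_lit 13, nat_lit 12, nat_lit 18, nat_lit 16] (Rl.cmp (nat_lit 3010) (nat_lit 3036)))) (FT.node (nat_lit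 3039) (FT.leaf (Fct.mk false (nat_lit 32) (nat_lit 0) (nat_lit 32) [nat_lit 5, nat_lit 4, nat_lit 3, nat_lit 8, nat_lit 0, nat_lit 1, nat_lit 2, nat_lit 3, nat_lit 4, nat_lit 5, nat_lit 3, nat_lit 2, nat_lit 0, nat_lit 1, nat_lit 9, nat_lit 4, nat_lit 3, nat_lit 2, nat_lit 8, nat_lit 3, nat_lit 11, nat_lit 12, nat_lit 15, nat_lit 14, nat_lit 12, nat_lit 18] (Rl.cmp (nat_lit 3004) (nat_lit 3037)))) (FT.leaf (Fct.mk true (nat_lit 25) (nat_lit 15212) (nat_lit 32) [nat_lit 4, nat_lit 3, nat_lit 8, nat_lit 0, nat_lit 1, nat_lit 2, nat_lit 3, nat_lit 4, nat_lit 5, nat_lit 8, nat_lit 3, nat_lit 11, nat_lit 1, nat_lit 14, nat_lit 13] (Rl.rel (nat_lit 0) [nat_lit 3, nat_lit 4, nat_lit 2, nat_lit 3, nat_lit 8, nat_lit 1, nat_lit 2, nat_lit 3, nat_lit 4, nat_lit 5, nat_lit 2, nat_lit 1, nat_lit 3, nat_lit 2, nat_lit 0, nat_lit 1, nat_lit 4, nat_lit 3,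 nat_lit 2, nat_lit 8, nat_lit 3, nat_lit 2, nat_lit 8, nat_lit 10, nat_lit 1, nat_lit 12, nat_lit 16] (nat_lit 32) (nat_lit 2) [nat_lit 3012, nat_lit 3013, nat_lit 3033, nat_lit 1225] []))))) (FT.node (nat_lit 3041) (FT.leaf (Fct.mk true (nat_lit 25) (nat_lit 16) (nat_lit 32) [nat_lit 4, nat_lit 1, nat_lit 2, nat_lit 3, nat_lit 8, nat_lit 5, nat_lit 6, nat_lit 4, nat_lit 5, nat_lit 3, nat_lit 4, nat_lit 2, nat_lit 3, nat_lit 8, nat_lit 1, nat_lit 2, nat_lit 3, nat_lit 4, nat_lit 5, nat_lit 1, nat_lit 3, nat_lit 2, nat_lit 0, nat_lit 1, nat_lit 4, nat_lit 3, nat_lit 2, nat_lit 8, nat_lit 3, nat_lit 11, nat_lit 2, nat_lit 10, nat_lit 1, nat_lit 14, nat_lit 12, nat_lit 16] (Rl.t1 (nat_lit 3039) (nat_lit 3035)))) (FT.node (nat_lit 3042) (FT.leaf (Fct.mk true (nat_lit 32) (nat_lit 2848) (nat_lit 25) [nat_lit 8, nat_lit 3, nat_lit 4, nat_lit 2, nat_lit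 3, nat_lit 8, nat_lit 5, nat_lit 6, nat_lit 4, nat_lit 5, nat_lit 3, nat_lit 4, nat_lit 2, nat_lit 3, nat_lit 8, nat_lit 0, nat_lit 1, nat_lit 2, nat_lit 3, nat_lit 4, nat_lit 5, nat_lit 2, nat_lit 0, nat_lit 1, nat_lit 9, nat_lit 4, nat_lit 3, nat_lit 2, nat_lit 8, nat_lit 3, nat_lit 11, nat_lit 9, nat_lit 10, nat_lit 2, nat_lit 8, nat_lit 10, nat_lit 1, nat_lit 16, nat_lit 8, nat_lit 12, nat_lit 15, nat_lit 8] (Rl.inv (nat_lit 3040)))) (FT.leaf (Fct.mk true (nat_lit 32) (nat_lit 137) (nat_lit 25) [nat_lit 8, nat_lit 5, nat_lit 6, nat_lit 4, nat_lit 5, nat_lit 3, nat_lit 4, nat_lit 2, nat_lit 3, nat_lit 8, nat_lit 0, nat_lit 1, nat_lit 2, nat_lit 3, nat_lit 4, nat_lit 5, nat_lit 8, nat_lit 3, nat_lit 2, nat_lit 0, nat_lit 1, nat_lit 4, nat_lit 3, nat_lit 2, nat_lit 8, nat_lit 3, nat_lit 11, nat_lit 2, nat_lit 8, nat_lit 10, nat_lit 1, nat_lit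 13, nat_lit 12, nat_lit 19] (Rl.t1 (nat_lit 3041) (nat_lit 3038))))))) (FT.node (nat_lit 3046) (FT.node (nat_lit 3044) (FT.leaf (Fct.mk false (nat_lit 2) (nat_lit 0) (nat_lit 2) [nat_lit 5, nat_lit 4, nat_lit 1, nat_lit 2, nat_lit 3, nat_lit 8, nat_lit 6, nat_lit 7, nat_lit 5, nat_lit 6, nat_lit 4, nat_lit 5, nat_lit 3, nat_lit 4, nat_lit 2, nat_lit 3, nat_lit 8, nat_lit 1, nat_lit 2, nat_lit 3, nat_lit 4, nat_lit 5, nat_lit 6, nat_lit 7, nat_lit 6, nat_lit 5, nat_lit 3, nat_lit 4, nat_lit 2, nat_lit 3, nat_lit 8, nat_lit 1, nat_lit 2, nat_lit 3, nat_lit 4, nat_lit 5, nat_lit 3, nat_lit 2, nat_lit 1, nat_lit 4, nat_lit 3, nat_lit 2, nat_lit 8, nat_lit 3, nat_lit 8, nat_lit 10, nat_lit 14, nat_lit 19, nat_lit 16] (Rl.cmp (nat_lit 2340) (nat_lit 172)))) (FT.node (nat_lit 3045) (FT.leaf (Fct.mk false (nat_lit 2) (nat_lit 0) (nat_lit 2) [nat_lit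 5, nat_lit 4, nat_lit 3, nat_lit 8, nat_lit 2, nat_lit 3, nat_lit 4, nat_lit 1, nat_lit 2, nat_lit 3, nat_lit 8, nat_lit 5, nat_lit 6, nat_lit 4, nat_lit 5, nat_lit 3, nat_lit 4, nat_lit 2, nat_lit 3, nat_lit 8, nat_lit 1, nat_lit 2, nat_lit 3, nat_lit 4, nat_lit 5, nat_lit 2, nat_lit 0, nat_lit 1, nat_lit 3, nat_lit 2, nat_lit 8, nat_lit 3, nat_lit 1, nat_lit 0, nat_lit 2, nat_lit 8, nat_lit 12, nat_lit 15, nat_lit 8] (Rl.cmp (nat_lit 2330) (nat_lit 3043)))) (FT.leaf (Fct.mk false (nat_lit 2) (nat_lit 0) (nat_lit 2) [nat_lit 5, nat_lit 4, nat_lit 3, nat_lit 8, nat_lit 2, nat_lit 3, nat_lit 4, nat_lit 1, nat_lit 2, nat_lit 3, nat_lit 8, nat_lit 5, nat_lit 6, nat_lit 4, nat_lit 5, nat_lit 3, nat_lit 4, nat_lit 2, nat_lit 3, nat_lit 8, nat_lit 1, nat_lit 2, nat_lit 3, nat_lit 4, nat_lit 5, nat_lit 0, nat_lit 1, nat_lit 2, nat_lit 3, nat_lit 10,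 nat_lit 0, nat_lit 8, nat_lit 12, nat_lit 15, nat_lit 18] (Rl.cmp (nat_lit 88) (nat_lit 3044)))))) (FT.node (nat_lit 3048) (FT.node (nat_lit 3047) (FT.leaf (Fct.mk false (nat_lit 2) (nat_lit 0) (nat_lit 2) [nat_lit 5, nat_lit 4, nat_lit 3, nat_lit 8, nat_lit 2, nat_lit 3, nat_lit 4, nat_lit 1, nat_lit 2, nat_lit 3, nat_lit 8, nat_lit 5, nat_lit 6, nat_lit 4, nat_lit 5, nat_lit 3, nat_lit 4, nat_lit 2, nat_lit 3, nat_lit 8, nat_lit 1, nat_lit 2, nat_lit 3, nat_lit 4, nat_lit 5, nat_lit 0, nat_lit 1, nat_lit 2, nat_lit 8, nat_lit 3, nat_lit 10, nat_lit 2, nat_lit 8, nat_lit 10, nat_lit 1, nat_lit 14, nat_lit 18] (Rl.cmp (nat_lit 300) (nat_lit 3045)))) (FT.leaf (Fct.mk false (nat_lit 32) (nat_lit 0) (nat_lit 32) [nat_lit 96] (Rl.rel (nat_lit 0) [nat_lit 3, nat_lit 8, nat_lit 4, nat_lit 5, nat_lit 3, nat_lit 4, nat_lit 2, nat_lit 3, nat_lit 8,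 nat_lit 1, nat_lit 2, nat_lit 3, nat_lit 4, nat_lit 5, nat_lit 3, nat_lit 2, nat_lit 0, nat_lit 1, nat_lit 4, nat_lit 3, nat_lit 2, nat_lit 8, nat_lit 3, nat_lit 8, nat_lit 10, nat_lit 12, nat_lit 16] (nat_lit 32) (nat_lit 3) [nat_lit 3012, nat_lit 3013, nat_lit 3046, nat_lit 1225, nat_lit 2950, nat_lit 3040] [])))) (FT.node (nat_lit 3049) (FT.leaf (Fct.mk false (nat_lit 32) (nat_lit 0) (nat_lit 32) [nat_lit 2, nat_lit 3, nat_lit 4, nat_lit 1, nat_lit 2, nat_lit 3, nat_lit 8, nat_lit 0, nat_lit 1, nat_lit 2, nat_lit 3, nat_lit 4, nat_lit 5, nat_lit 3, nat_lit 8, nat_lit 4, nat_lit 3, nat_lit 2, nat_lit 0, nat_lit 1, nat_lit 9, nat_lit 4, nat_lit 3, nat_lit 2, nat_lit 8, nat_lit 3, nat_lit 11, nat_lit 10, nat_lit 8, nat_lit 16, nat_lit 14, nat_lit 19] (Rl.cmp (nat_lit 3010) (nat_lit 3004)))) (FT.leaf (Fct.mk false (nat_lit 32) (nat_lit 0) (nat_lit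 32) [nat_lit 3, nat_lit 4, nat_lit 2, nat_lit 3, nat_lit 8, nat_lit 5, nat_lit 6, nat_lit 4, nat_lit 5, nat_lit 3, nat_lit 4, nat_lit 2, nat_lit 3, nat_lit 8, nat_lit 1, nat_lit 2, nat_lit 3, nat_lit 4, nat_lit 5, nat_lit 3, nat_lit 2, nat_lit 1, nat_lit 8, nat_lit 3, nat_lit 2, nat_lit 0, nat_lit 1, nat_lit 9, nat_lit 4, nat_lit 3, nat_lit 2, nat_lit 8, nat_lit 3, nat_lit 11, nat_lit 10, nat_lit 1, nat_lit 12, nat_lit 15, nat_lit 14, nat_lit 17, nat_lit 16] (Rl.cmp (nat_lit 3047) (nat_lit 3048)))))))))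

/-- some facts -/
noncomputable def ftc61 : FT := FT.node (nat_lit 3075) (FT.node (nat_lit 3062) (FT.node (nat_lit 3056) (FT.node (nat_lit 3053) (FT.node (nat_lit 3051) (FT.leaf (Fct.mk false (nat_lit 32) (nat_lit 0) (nat_lit 32) [nat_lit 5, nat_lit 4, nat_lit 3, nat_lit 8, nat_lit 0, nat_lit 1, nat_lit 2, nat_lit 3, nat_lit 4, nat_lit 5, nat_lit 2, nat_lit 1, nat_lit 8, nat_lit 3, nat_lit 2, nat_lit 0, nat_lit 1, nat_lit 9, nat_lit 4, nat_lit 3, nat_lit 2, nat_lit 8, nat_lit 3, nat_lit 11, nat_lit 16, nat_lit 14, nat_lit 17, nat_lit 12] (Rl.cmp (nat_lit 3047) (nat_lit 3049)))) (FT.node (nat_lit 3052) (FT.leaf (Fct.mk false (nat_lit 32) (nat_lit 0) (nat_lit 32) [nat_lit 5, nat_lit 4, nat_lit 3, nat_lit 8, nat_lit 2, nat_lit 3, nat_lit 4, nat_lit 1, nat_lit 2, nat_lit 3, nat_lit 8, nat_lit 5, nat_lit 6, nat_lit 4, nat_lit 5, nat_lit 3, nat_lit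 4, nat_lit 2, nat_lit 3, nat_lit 8, nat_lit 1, nat_lit 2, nat_lit 3, nat_lit 4, nat_lit 5, nat_lit 2, nat_lit 8, nat_lit 3, nat_lit 11, nat_lit 8, nat_lit 10, nat_lit 13, nat_lit 19] (Rl.cmp (nat_lit 3004) (nat_lit 3050)))) (FT.leaf (Fct.mk false (nat_lit 32) (nat_lit 0) (nat_lit 32) [nat_lit 6, nat_lit 3, nat_lit 2, nat_lit 8, nat_lit 3, nat_lit 8, nat_lit 10, nat_lit 12, nat_lit 18] (Rl.cmp (nat_lit 3047) (nat_lit 3051)))))) (FT.node (nat_lit 3054) (FT.leaf (Fct.mk true (nat_lit 32) (nat_lit 43) (nat_lit 4) [nat_lit 3, nat_lit 4, nat_lit 5, nat_lit 3, nat_lit 11, nat_lit 2, nat_lit 8, nat_lit 10, nat_lit 1, nat_lit 15, nat_lit 14, nat_lit 12, nat_lit 19] (Rl.t1 (nat_lit 2996) (nat_lit 3052)))) (FT.node (nat_lit 3055) (FT.leaf (Fct.mk false (nat_lit 32) (nat_lit 0) (nat_lit 32) [nat_lit 5, nat_lit 4, nat_lit 3, nat_lit 8, nat_lit 0, nat_lit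 1, nat_lit 2, nat_lit 3, nat_lit 4, nat_lit 5, nat_lit 2, nat_lit 0, nat_lit 1, nat_lit 4, nat_lit 3, nat_lit 2, nat_lit 8, nat_lit 3, nat_lit 10, nat_lit 2, nat_lit 8, nat_lit 10, nat_lit 1, nat_lit 16, nat_lit 15, nat_lit 14, nat_lit 16, nat_lit 8] (Rl.cmp (nat_lit 3004) (nat_lit 3004)))) (FT.leaf (Fct.mk false (nat_lit 32) (nat_lit 0) (nat_lit 32) [nat_lit 5, nat_lit 4, nat_lit 3, nat_lit 8, nat_lit 2, nat_lit 3, nat_lit 4, nat_lit 1, nat_lit 2, nat_lit 3, nat_lit 8, nat_lit 5, nat_lit 6, nat_lit 4, nat_lit 5, nat_lit 3, nat_lit 4, nat_lit 2, nat_lit 3, nat_lit 8, nat_lit 1, nat_lit 2, nat_lit 3, nat_lit 4, nat_lit 5, nat_lit 3, nat_lit 8, nat_lit 4, nat_lit 3, nat_lit 2, nat_lit 1, nat_lit 9, nat_lit 4, nat_lit 3, nat_lit 2, nat_lit 8, nat_lit 3, nat_lit 10, nat_lit 1, nat_lit 12, nat_lit 8, nat_lit 16, nat_lit 14, nat_lit 8, nat_lit 19]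 (Rl.cmp (nat_lit 3004) (nat_lit 3054))))))) (FT.node (nat_lit 3059) (FT.node (nat_lit 3057) (FT.leaf (Fct.mk false (nat_lit 32) (nat_lit 0) (nat_lit 32) [nat_lit 6, nat_lit 0, nat_lit 1, nat_lit 4, nat_lit 3, nat_lit 2, nat_lit 8, nat_lit 3, nat_lit 9, nat_lit 2, nat_lit 8, nat_lit 16, nat_lit 14, nat_lit 16, nat_lit 8, nat_lit 19] (Rl.cmp (nat_lit 3047) (nat_lit 3055)))) (FT.node (nat_lit 3058) (FT.leaf (Fct.mk false (nat_lit 32) (nat_lit 0) (nat_lit 32) [nat_lit 6, nat_lit 1, nat_lit 2, nat_lit 0, nat_lit 1, nat_lit 4, nat_lit 3, nat_lit 2, nat_lit 8, nat_lit 3, nat_lit 10, nat_lit 8, nat_lit 12, nat_lit 15, nat_lit 14, nat_lit 8] (Rl.cmp (nat_lit 3010) (nat_lit 3056)))) (FT.leaf (Fct.mk true (nat_lit 32) (nat_lit 29) (nat_lit 4) [nat_lit 6, nat_lit 5, nat_lit 4, nat_lit 1, nat_lit 2, nat_lit 3, nat_lit 8, nat_lit 0, nat_lit 1, nat_lit 2,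 nat_lit 3, nat_lit 4, nat_lit 5, nat_lit 0, nat_lit 1, nat_lit 3, nat_lit 2, nat_lit 8, nat_lit 3, nat_lit 8, nat_lit 10, nat_lit 9, nat_lit 2, nat_lit 16, nat_lit 12, nat_lit 15, nat_lit 14, nat_lit 17, nat_lit 18, nat_lit 16] (Rl.t1 (nat_lit 3019) (nat_lit 3057)))))) (FT.node (nat_lit 3060) (FT.leaf (Fct.mk false (nat_lit 32) (nat_lit 0) (nat_lit 32) [nat_lit 2, nat_lit 3, nat_lit 4, nat_lit 1, nat_lit 2, nat_lit 3, nat_lit 8, nat_lit 0, nat_lit 1, nat_lit 2, nat_lit 3, nat_lit 4, nat_lit 5, nat_lit 3, nat_lit 8, nat_lit 4, nat_lit 3, nat_lit 2, nat_lit 0, nat_lit 1, nat_lit 9, nat_lit 4, nat_lit 3, nat_lit 2, nat_lit 8, nat_lit 3, nat_lit 11, nat_lit 10, nat_lit 8, nat_lit 16, nat_lit 14, nat_lit 19] (Rl.cmp (nat_lit 3010) (nat_lit 3004)))) (FT.node (nat_lit 3061) (FT.leaf (Fct.mk false (nat_lit 32) (nat_lit 0) (nat_lit 32) [nat_lit 3, nat_lit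 4, nat_lit 1, nat_lit 2, nat_lit 3, nat_lit 8, nat_lit 5, nat_lit 6, nat_lit 4, nat_lit 5, nat_lit 3, nat_lit 4, nat_lit 2, nat_lit 3, nat_lit 8, nat_lit 1, nat_lit 2, nat_lit 3, nat_lit 4, nat_lit 5, nat_lit 0, nat_lit 1, nat_lit 2, nat_lit 8, nat_lit 3, nat_lit 11, nat_lit 1, nat_lit 12, nat_lit 15, nat_lit 12, nat_lit 19, nat_lit 16] (Rl.cmp (nat_lit 3004) (nat_lit 3059)))) (FT.leaf (Fct.mk false (nat_lit 32) (nat_lit 0) (nat_lit 32) [nat_lit 6, nat_lit 5, nat_lit 4, nat_lit 3, nat_lit 8, nat_lit 2, nat_lit 3, nat_lit 4, nat_lit 1, nat_lit 2, nat_lit 3, nat_lit 8, nat_lit 5, nat_lit 6, nat_lit 4, nat_lit 5, nat_lit 3, nat_lit 4, nat_lit 2, nat_lit 3, nat_lit 8, nat_lit 1, nat_lit 2, nat_lit 3, nat_lit 4, nat_lit 5, nat_lit 2, nat_lit 0, nat_lit 1, nat_lit 9, nat_lit 4, nat_lit 3, nat_lit 2, nat_lit 8, nat_lit 3, nat_lit 1, nat_lit 12, nat_lit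 8, nat_lit 16, nat_lit 14, nat_lit 16, nat_lit 8, nat_lit 18, nat_lit 16] (Rl.cmp (nat_lit 3010) (nat_lit 3047)))))))) (FT.node (nat_lit 3068) (FT.node (nat_lit 3065) (FT.node (nat_lit 3063) (FT.leaf (Fct.mk true (nat_lit 32) (nat_lit 4651) (nat_lit 32) [] (Rl.rel (nat_lit 0) [nat_lit 3, nat_lit 8, nat_lit 2, nat_lit 3, nat_lit 4, nat_lit 1, nat_lit 2, nat_lit 3, nat_lit 8, nat_lit 0, nat_lit 1, nat_lit 2, nat_lit 3, nat_lit 4, nat_lit 5, nat_lit 1, nat_lit 2, nat_lit 0, nat_lit 1, nat_lit 4, nat_lit 3, nat_lit 2, nat_lit 8, nat_lit 3, nat_lit 10, nat_lit 1, nat_lit 12, nat_lit 16] (nat_lit 32) (nat_lit 2) [nat_lit 3060, nat_lit 3013, nat_lit 2934, nat_lit 2988] []))) (FT.node (nat_lit 3064) (FT.leaf (Fct.mk true (nat_lit 32) (nat_lit 442) (nat_lit 32) [nat_lit 6, nat_lit 5, nat_lit 4, nat_lit 3, nat_lit 8, nat_lit 2, nat_lit 3, nat_lit 4,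 nat_lit 1, nat_lit 2, nat_lit 3, nat_lit 8, nat_lit 5, nat_lit 6, nat_lit 4, nat_lit 5, nat_lit 3, nat_lit 4, nat_lit 2, nat_lit 3, nat_lit 8, nat_lit 1, nat_lit 2, nat_lit 3, nat_lit 4, nat_lit 5, nat_lit 2, nat_lit 0, nat_lit 1, nat_lit 9, nat_lit 4, nat_lit 3, nat_lit 2, nat_lit 8, nat_lit 3, nat_lit 1, nat_lit 12, nat_lit 8, nat_lit 16, nat_lit 14, nat_lit 16, nat_lit 8, nat_lit 18, nat_lit 16] (Rl.t1 (nat_lit 3062) (nat_lit 3061)))) (FT.leaf (Fct.mk false (nat_lit 2) (nat_lit 0) (nat_lit 2) [nat_lit 6, nat_lit 2, nat_lit 3, nat_lit 2, nat_lit 8, nat_lit 18] (Rl.cmp (nat_lit 168) (nat_lit 87)))))) (FT.node (nat_lit 3066) (FT.leaf (Fct.mk false (nat_lit 2) (nat_lit 0) (nat_lit 2) [nat_lit 7, nat_lit 4, nat_lit 3, nat_lit 2, nat_lit 8, nat_lit 3, nat_lit 12] (Rl.cmp (nat_lit 172) (nat_lit 3064)))) (FT.node (nat_lit 3067) (FT.leaf (Fct.mk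 false (nat_lit 2) (nat_lit 0) (nat_lit 2) [nat_lit 7] (Rl.cmp (nat_lit 88) (nat_lit 3065)))) (FT.leaf (Fct.mk true (nat_lit 32) (nat_lit 1079) (nat_lit 32) [] (Rl.rel (nat_lit 0) [nat_lit 8, nat_lit 3, nat_lit 4, nat_lit 5, nat_lit 6, nat_lit 7, nat_lit 8, nat_lit 3, nat_lit 4, nat_lit 2, nat_lit 3, nat_lit 8, nat_lit 1, nat_lit 2, nat_lit 3, nat_lit 4, nat_lit 5, nat_lit 2, nat_lit 0, nat_lit 1, nat_lit 4, nat_lit 3, nat_lit 2, nat_lit 8, nat_lit 3, nat_lit 8, nat_lit 10, nat_lit 1, nat_lit 12, nat_lit 16] (nat_lit 32) (nat_lit 2) [nat_lit 3060, nat_lit 3013, nat_lit 3066, nat_lit 2988] [])))))) (FT.node (nat_lit 3071) (FT.node (nat_lit 3069) (FT.leaf (Fct.mk false (nat_lit 2) (nat_lit 0) (nat_lit 2) [nat_lit 10, nat_lit 8] (Rl.cmp (nat_lit 88) (nat_lit 87)))) (FT.node (nat_lit 3070) (FT.leaf (Fct.mk false (nat_lit 2) (nat_lit 0) (nat_lit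 2) [nat_lit 6, nat_lit 4] (Rl.cmp (nat_lit 168) (nat_lit 3068)))) (FT.leaf (Fct.mk false (nat_lit 32) (nat_lit 0) (nat_lit 32) [nat_lit 97] (Rl.cmp (nat_lit 3047) (nat_lit 3047)))))) (FT.node (nat_lit 3073) (FT.node (nat_lit 3072) (FT.leaf (Fct.mk false (nat_lit 32) (nat_lit 0) (nat_lit 32) [nat_lit 1, nat_lit 4, nat_lit 3, nat_lit 2, nat_lit 8, nat_lit 3, nat_lit 11, nat_lit 8, nat_lit 10, nat_lit 1, nat_lit 14, nat_lit 17, nat_lit 12] (Rl.cmp (nat_lit 3010) (nat_lit 3070)))) (FT.leaf (Fct.mk false (nat_lit 32) (nat_lit 0) (nat_lit 32) [nat_lit 0, nat_lit 1, nat_lit 2, nat_lit 3, nat_lit 4, nat_lit 5, nat_lit 2, nat_lit 0, nat_lit 1, nat_lit 9, nat_lit 4, nat_lit 3, nat_lit 2, nat_lit 8, nat_lit 3, nat_lit 8, nat_lit 10, nat_lit 0, nat_lit 16, nat_lit 14, nat_lit 13, nat_lit 12, nat_lit 19] (Rl.cmp (nat_lit 3004) (nat_lit 3071))))) (FT.node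 (nat_lit 3074) (FT.leaf (Fct.mk false (nat_lit 32) (nat_lit 0) (nat_lit 32) [nat_lit 3, nat_lit 8, nat_lit 6, nat_lit 4, nat_lit 5, nat_lit 3, nat_lit 4, nat_lit 2, nat_lit 3, nat_lit 8, nat_lit 1, nat_lit 2, nat_lit 3, nat_lit 4, nat_lit 5, nat_lit 2, nat_lit 0, nat_lit 1, nat_lit 3, nat_lit 2, nat_lit 8, nat_lit 3, nat_lit 1, nat_lit 9, nat_lit 8, nat_lit 12, nat_lit 15, nat_lit 16] (Rl.cmp (nat_lit 3047) (nat_lit 3072)))) (FT.leaf (Fct.mk true (nat_lit 32) (nat_lit 888) (nat_lit 32) [nat_lit 4] (Rl.rel (nat_lit 0) [nat_lit 3, nat_lit 4, nat_lit 2, nat_lit 3, nat_lit 8, nat_lit 1, nat_lit 2, nat_lit 3, nat_lit 4, nat_lit 5, nat_lit 2, nat_lit 1, nat_lit 8, nat_lit 3, nat_lit 2, nat_lit 0, nat_lit 1, nat_lit 4, nat_lit 3, nat_lit 2, nat_lit 8, nat_lit 3, nat_lit 2, nat_lit 8, nat_lit 10, nat_lit 1, nat_lit 12, nat_lit 18, nat_lit 16] (nat_lit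 32) (nat_lit 2) [nat_lit 3060, nat_lit 3013, nat_lit 3069, nat_lit 2988] [])))))))) (FT.node (nat_lit 3087) (FT.node (nat_lit 3081) (FT.node (nat_lit 3078) (FT.node (nat_lit 3076) (FT.leaf (Fct.mk true (nat_lit 32) (nat_lit 13) (nat_lit 32) [nat_lit 0, nat_lit 1, nat_lit 2, nat_lit 3, nat_lit 4, nat_lit 5, nat_lit 1, nat_lit 3, nat_lit 8, nat_lit 4, nat_lit 3, nat_lit 2, nat_lit 0, nat_lit 1, nat_lit 9, nat_lit 4, nat_lit 3, nat_lit 2, nat_lit 8, nat_lit 3, nat_lit 11, nat_lit 10, nat_lit 15, nat_lit 18, nat_lit 16] (Rl.t1 (nat_lit 3074) (nat_lit 3073)))) (FT.node (nat_lit 3077) (FT.leaf (Fct.mk false (nat_lit 2) (nat_lit 0) (nat_lit 2) [nat_lit 8, nat_lit 5, nat_lit 2, nat_lit 3, nat_lit 4, nat_lit 1, nat_lit 2, nat_lit 3, nat_lit 8, nat_lit 6, nat_lit 7, nat_lit 5, nat_lit 6, nat_lit 4, nat_lit 5, nat_lit 3, nat_lit 4, nat_lit 2, nat_lit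 3, nat_lit 8, nat_lit 1, nat_lit 2, nat_lit 3, nat_lit 4, nat_lit 5, nat_lit 6, nat_lit 7, nat_lit 6, nat_lit 4, nat_lit 5, nat_lit 3, nat_lit 4, nat_lit 2, nat_lit 3, nat_lit 8, nat_lit 1, nat_lit 2, nat_lit 3, nat_lit 4, nat_lit 5, nat_lit 8, nat_lit 3, nat_lit 2, nat_lit 1, nat_lit 4, nat_lit 3, nat_lit 2, nat_lit 8, nat_lit 3, nat_lit 9, nat_lit 8, nat_lit 16, nat_lit 14, nat_lit 16, nat_lit 8, nat_lit 18] (Rl.cmp (nat_lit 86) (nat_lit 2340)))) (FT.leaf (Fct.mk false (nat_lit 2) (nat_lit 0) (nat_lit 2) [nat_lit 4, nat_lit 5, nat_lit 3, nat_lit 4, nat_lit 1, nat_lit 2, nat_lit 3, nat_lit 8, nat_lit 6, nat_lit 7, nat_lit 5, nat_lit 6, nat_lit 4, nat_lit 5, nat_lit 3, nat_lit 4, nat_lit 2, nat_lit 3, nat_lit 8, nat_lit 1, nat_lit 2, nat_lit 3, nat_lit 4, nat_lit 5, nat_lit 6, nat_lit 7, nat_lit 8, nat_lit 5, nat_lit 3, nat_lit 4, nat_lit 2,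 nat_lit 3, nat_lit 8, nat_lit 1, nat_lit 2, nat_lit 3, nat_lit 4, nat_lit 5, nat_lit 8, nat_lit 3, nat_lit 11, nat_lit 10, nat_lit 8, nat_lit 16, nat_lit 14, nat_lit 13, nat_lit 12, nat_lit 19] (Rl.cmp (nat_lit 2330) (nat_lit 2933)))))) (FT.node (nat_lit 3079) (FT.leaf (Fct.mk false (nat_lit 2) (nat_lit 0) (nat_lit 2) [nat_lit 3, nat_lit 4, nat_lit 5, nat_lit 2, nat_lit 3, nat_lit 4, nat_lit 1, nat_lit 2, nat_lit 3, nat_lit 8, nat_lit 6, nat_lit 7, nat_lit 5, nat_lit 6, nat_lit 4, nat_lit 5, nat_lit 3, nat_lit 4, nat_lit 2, nat_lit 3, nat_lit 8, nat_lit 1, nat_lit 2, nat_lit 3, nat_lit 4, nat_lit 5, nat_lit 6, nat_lit 7, nat_lit 8, nat_lit 6, nat_lit 4, nat_lit 5, nat_lit 3, nat_lit 4, nat_lit 2, nat_lit 3, nat_lit 8, nat_lit 1, nat_lit 2, nat_lit 3, nat_lit 4, nat_lit 5, nat_lit 8, nat_lit 3, nat_lit 11, nat_lit 10, nat_lit 8, nat_lit 16,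 nat_lit 14, nat_lit 13, nat_lit 12, nat_lit 19] (Rl.cmp (nat_lit 88) (nat_lit 3077)))) (FT.node (nat_lit 3080) (FT.leaf (Fct.mk false (nat_lit 25) (nat_lit 0) (nat_lit 25) [nat_lit 1, nat_lit 2, nat_lit 3, nat_lit 8, nat_lit 4, nat_lit 5, nat_lit 3, nat_lit 4, nat_lit 2, nat_lit 3, nat_lit 8, nat_lit 1, nat_lit 2, nat_lit 3, nat_lit 4, nat_lit 5, nat_lit 4, nat_lit 3, nat_lit 2, nat_lit 1, nat_lit 9, nat_lit 4, nat_lit 3, nat_lit 2, nat_lit 8, nat_lit 3, nat_lit 1, nat_lit 0, nat_lit 2, nat_lit 16, nat_lit 8, nat_lit 12, nat_lit 15, nat_lit 18] (Rl.cmp (nat_lit 1247) (nat_lit 2884)))) (FT.leaf (Fct.mk false (nat_lit 25) (nat_lit 0) (nat_lit 25) [nat_lit 5, nat_lit 6, nat_lit 4, nat_lit 5, nat_lit 3, nat_lit 4, nat_lit 1, nat_lit 2, nat_lit 3, nat_lit 8, nat_lit 0, nat_lit 1, nat_lit 2, nat_lit 3, nat_lit 4, nat_lit 5, nat_lit 2, nat_lit 1,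 nat_lit 3, nat_lit 2, nat_lit 0, nat_lit 1, nat_lit 4, nat_lit 3, nat_lit 2, nat_lit 8, nat_lit 3, nat_lit 1, nat_lit 0, nat_lit 2, nat_lit 16, nat_lit 8, nat_lit 12, nat_lit 15, nat_lit 12, nat_lit 18] (Rl.cmp (nat_lit 2117) (nat_lit 3079))))))) (FT.node (nat_lit 3084) (FT.node (nat_lit 3082) (FT.leaf (Fct.mk false (nat_lit 25) (nat_lit 0) (nat_lit 25) [nat_lit 2, nat_lit 3, nat_lit 8, nat_lit 5, nat_lit 6, nat_lit 4, nat_lit 5, nat_lit 3, nat_lit 4, nat_lit 2, nat_lit 3, nat_lit 8, nat_lit 1, nat_lit 2, nat_lit 3, nat_lit 4, nat_lit 5, nat_lit 4, nat_lit 8, nat_lit 10, nat_lit 1, nat_lit 15, nat_lit 18, nat_lit 16] (Rl.cmp (nat_lit 2004) (nat_lit 3080)))) (FT.node (nat_lit 3083) (FT.leaf (Fct.mk false (nat_lit 25) (nat_lit 0) (nat_lit 25) [nat_lit 8, nat_lit 5, nat_lit 6, nat_lit 4, nat_lit 5, nat_lit 3, nat_lit 4, nat_lit 2, nat_lit 3, nat_lit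 8, nat_lit 0, nat_lit 1, nat_lit 2, nat_lit 3, nat_lit 4, nat_lit 5, nat_lit 2, nat_lit 1, nat_lit 4, nat_lit 3, nat_lit 2, nat_lit 0, nat_lit 1, nat_lit 9, nat_lit 4, nat_lit 3, nat_lit 2, nat_lit 8, nat_lit 3, nat_lit 10, nat_lit 2, nat_lit 8, nat_lit 10, nat_lit 1, nat_lit 8, nat_lit 12, nat_lit 15, nat_lit 17, nat_lit 18] (Rl.cmp (nat_lit 1256) (nat_lit 3081)))) (FT.leaf (Fct.mk false (nat_lit 32) (nat_lit 0) (nat_lit 32) [nat_lit 2, nat_lit 3, nat_lit 4, nat_lit 1, nat_lit 2, nat_lit 3, nat_lit 8, nat_lit 0, nat_lit 1, nat_lit 2, nat_lit 3, nat_lit 4, nat_lit 5, nat_lit 3, nat_lit 8, nat_lit 4, nat_lit 3, nat_lit 2, nat_lit 0, nat_lit 1, nat_lit 9, nat_lit 4, nat_lit 3, nat_lit 2, nat_lit 8, nat_lit 3, nat_lit 11, nat_lit 10, nat_lit 8, nat_lit 16, nat_lit 14, nat_lit 19] (Rl.cmp (nat_lit 3010) (nat_lit 3004)))))) (FT.node (nat_lit 3085)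 (FT.leaf (Fct.mk false (nat_lit 32) (nat_lit 0) (nat_lit 32) [nat_lit 3, nat_lit 4, nat_lit 1, nat_lit 2, nat_lit 3, nat_lit 8, nat_lit 5, nat_lit 6, nat_lit 4, nat_lit 5, nat_lit 3, nat_lit 4, nat_lit 2, nat_lit 3, nat_lit 8, nat_lit 1, nat_lit 2, nat_lit 3, nat_lit 4, nat_lit 5, nat_lit 0, nat_lit 1, nat_lit 2, nat_lit 8, nat_lit 3, nat_lit 11, nat_lit 1, nat_lit 12, nat_lit 15, nat_lit 12, nat_lit 19, nat_lit 16] (Rl.cmp (nat_lit 3004) (nat_lit 3083)))) (FT.node (nat_lit 3086) (FT.leaf (Fct.mk false (nat_lit 32) (nat_lit 0) (nat_lit 32) [nat_lit 0, nat_lit 1, nat_lit 2, nat_lit 3, nat_lit 4, nat_lit 5, nat_lit 2, nat_lit 1, nat_lit 8, nat_lit 3, nat_lit 2, nat_lit 0, nat_lit 1, nat_lit 4, nat_lit 3, nat_lit 2, nat_lit 8, nat_lit 3, nat_lit 9, nat_lit 2, nat_lit 16, nat_lit 15, nat_lit 14, nat_lit 12, nat_lit 18] (Rl.cmp (nat_lit 3047) (nat_lit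 3084)))) (FT.leaf (Fct.mk true (nat_lit 25) (nat_lit 79465) (nat_lit 32) [nat_lit 3, nat_lit 8, nat_lit 1, nat_lit 2, nat_lit 3, nat_lit 4, nat_lit 5, nat_lit 6, nat_lit 7, nat_lit 2, nat_lit 3, nat_lit 4, nat_lit 1, nat_lit 2, nat_lit 3, nat_lit 8, nat_lit 5, nat_lit 6, nat_lit 4, nat_lit 5, nat_lit 3, nat_lit 4, nat_lit 2, nat_lit 3, nat_lit 8, nat_lit 1, nat_lit 2, nat_lit 3, nat_lit 4, nat_lit 5, nat_lit 3, nat_lit 2, nat_lit 1, nat_lit 8, nat_lit 3, nat_lit 2, nat_lit 0, nat_lit 1, nat_lit 9, nat_lit 4, nat_lit 3, nat_lit 2, nat_lit 8, nat_lit 3, nat_lit 8, nat_lit 12, nat_lit 15, nat_lit 17, nat_lit 12] (Rl.rel (nat_lit 0) [nat_lit 8, nat_lit 3, nat_lit 4, nat_lit 5, nat_lit 6, nat_lit 7, nat_lit 8, nat_lit 3, nat_lit 4, nat_lit 2, nat_lit 3, nat_lit 8, nat_lit 1, nat_lit 2, nat_lit 3, nat_lit 4, nat_lit 5, nat_lit 1, nat_lit 3, nat_lit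 2, nat_lit 0, nat_lit 1, nat_lit 4, nat_lit 3, nat_lit 2, nat_lit 8, nat_lit 3, nat_lit 8, nat_lit 10, nat_lit 1, nat_lit 15, nat_lit 12, nat_lit 16] (nat_lit 32) (nat_lit 2) [nat_lit 3060, nat_lit 3013, nat_lit 3078, nat_lit 1225] []))))))) (FT.node (nat_lit 3093) (FT.node (nat_lit 3090) (FT.node (nat_lit 3088) (FT.leaf (Fct.mk true (nat_lit 25) (nat_lit 187) (nat_lit 32) [nat_lit 6, nat_lit 5, nat_lit 4, nat_lit 1, nat_lit 2, nat_lit 3, nat_lit 8, nat_lit 0, nat_lit 1, nat_lit 2, nat_lit 3, nat_lit 4, nat_lit 5, nat_lit 6, nat_lit 7, nat_lit 4, nat_lit 3, nat_lit 8, nat_lit 5, nat_lit 6, nat_lit 4, nat_lit 5, nat_lit 3, nat_lit 4, nat_lit 2, nat_lit 3, nat_lit 8, nat_lit 1, nat_lit 2, nat_lit 3, nat_lit 4, nat_lit 5, nat_lit 1, nat_lit 8, nat_lit 3, nat_lit 2, nat_lit 0, nat_lit 1, nat_lit 4, nat_lit 3, nat_lit 2, nat_lit 8, nat_lit 3, nat_lit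 1, nat_lit 9, nat_lit 8, nat_lit 12, nat_lit 15, nat_lit 14, nat_lit 17, nat_lit 12, nat_lit 19] (Rl.t1 (nat_lit 3086) (nat_lit 3082)))) (FT.node (nat_lit 3089) (FT.leaf (Fct.mk true (nat_lit 32) (nat_lit 88145) (nat_lit 25) [nat_lit 5, nat_lit 6, nat_lit 4, nat_lit 5, nat_lit 3, nat_lit 4, nat_lit 2, nat_lit 3, nat_lit 8, nat_lit 0, nat_lit 1, nat_lit 2, nat_lit 3, nat_lit 4, nat_lit 5, nat_lit 6, nat_lit 7, nat_lit 2, nat_lit 3, nat_lit 8, nat_lit 4, nat_lit 5, nat_lit 3, nat_lit 4, nat_lit 2, nat_lit 3, nat_lit 8, nat_lit 0, nat_lit 1, nat_lit 2, nat_lit 3, nat_lit 4, nat_lit 5, nat_lit 8, nat_lit 3, nat_lit 2, nat_lit 0, nat_lit 1, nat_lit 4, nat_lit 3, nat_lit 2, nat_lit 8, nat_lit 3, nat_lit 9, nat_lit 15, nat_lit 14, nat_lit 17, nat_lit 16] (Rl.inv (nat_lit 3087)))) (FT.leaf (Fct.mk true (nat_lit 32) (nat_lit 187) (nat_lit 25) [nat_lit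 6, nat_lit 5, nat_lit 4, nat_lit 1, nat_lit 2, nat_lit 3, nat_lit 8, nat_lit 0, nat_lit 1, nat_lit 2, nat_lit 3, nat_lit 4, nat_lit 5, nat_lit 6, nat_lit 7, nat_lit 5, nat_lit 4, nat_lit 1, nat_lit 2, nat_lit 3, nat_lit 8, nat_lit 0, nat_lit 1, nat_lit 2, nat_lit 3, nat_lit 4, nat_lit 5, nat_lit 4, nat_lit 3, nat_lit 2, nat_lit 8, nat_lit 3, nat_lit 11, nat_lit 2, nat_lit 10, nat_lit 1, nat_lit 8, nat_lit 12, nat_lit 15, nat_lit 14, nat_lit 19, nat_lit 16] (Rl.t1 (nat_lit 3088) (nat_lit 3085)))))) (FT.node (nat_lit 3091) (FT.leaf (Fct.mk false (nat_lit 2) (nat_lit 0) (nat_lit 2) [nat_lit 4, nat_lit 5, nat_lit 3, nat_lit 4, nat_lit 1, nat_lit 2, nat_lit 3, nat_lit 8, nat_lit 6, nat_lit 7, nat_lit 5, nat_lit 6, nat_lit 4, nat_lit 5, nat_lit 3, nat_lit 4, nat_lit 2, nat_lit 3, nat_lit 8, nat_lit 1, nat_lit 2, nat_lit 3, nat_lit 4, nat_lit 5, nat_lit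 6, nat_lit 7, nat_lit 6, nat_lit 4, nat_lit 5, nat_lit 3, nat_lit 4, nat_lit 2, nat_lit 3, nat_lit 8, nat_lit 1, nat_lit 2, nat_lit 3, nat_lit 4, nat_lit 5, nat_lit 1, nat_lit 2, nat_lit 3, nat_lit 8, nat_lit 10, nat_lit 1, nat_lit 14, nat_lit 12, nat_lit 18, nat_lit 16] (Rl.cmp (nat_lit 84) (nat_lit 3076)))) (FT.node (nat_lit 3092) (FT.leaf (Fct.mk false (nat_lit 2) (nat_lit 0) (nat_lit 2) [nat_lit 3, nat_lit 4, nat_lit 5, nat_lit 2, nat_lit 3, nat_lit 4, nat_lit 1, nat_lit 2, nat_lit 3, nat_lit 8, nat_lit 6, nat_lit 7, nat_lit 5, nat_lit 6, nat_lit 4, nat_lit 5, nat_lit 3, nat_lit 4, nat_lit 2, nat_lit 3, nat_lit 8, nat_lit 1, nat_lit 2, nat_lit 3, nat_lit 4, nat_lit 5, nat_lit 6, nat_lit 7, nat_lit 5, nat_lit 3, nat_lit 4, nat_lit 2, nat_lit 3, nat_lit 8, nat_lit 1, nat_lit 2, nat_lit 3, nat_lit 4, nat_lit 5, nat_lit 1, nat_lit 2, nat_lit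 3, nat_lit 8, nat_lit 10, nat_lit 1, nat_lit 14, nat_lit 12, nat_lit 18, nat_lit 16] (Rl.cmp (nat_lit 88) (nat_lit 3090)))) (FT.leaf (Fct.mk false (nat_lit 32) (nat_lit 0) (nat_lit 32) [nat_lit 2, nat_lit 3, nat_lit 4, nat_lit 1, nat_lit 2, nat_lit 3, nat_lit 8, nat_lit 0, nat_lit 1, nat_lit 2, nat_lit 3, nat_lit 4, nat_lit 5, nat_lit 3, nat_lit 8, nat_lit 4, nat_lit 3, nat_lit 2, nat_lit 0, nat_lit 1, nat_lit 9, nat_lit 4, nat_lit 3, nat_lit 2, nat_lit 8, nat_lit 3, nat_lit 11, nat_lit 10, nat_lit 8, nat_lit 16, nat_lit 14, nat_lit 19] (Rl.cmp (nat_lit 3010) (nat_lit 3004))))))) (FT.node (nat_lit 3096) (FT.node (nat_lit 3094) (FT.leaf (Fct.mk false (nat_lit 32) (nat_lit 0) (nat_lit 32) [nat_lit 3, nat_lit 4, nat_lit 1, nat_lit 2, nat_lit 3, nat_lit 8, nat_lit 5, nat_lit 6, nat_lit 4, nat_lit 5, nat_lit 3, nat_lit 4, nat_lit 2, nat_lit 3, nat_lit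 8, nat_lit 1, nat_lit 2, nat_lit 3, nat_lit 4, nat_lit 5, nat_lit 0, nat_lit 1, nat_lit 2, nat_lit 8, nat_lit 3, nat_lit 11, nat_lit 1, nat_lit 12, nat_lit 15, nat_lit 12, nat_lit 19, nat_lit 16] (Rl.cmp (nat_lit 3004) (nat_lit 3092)))) (FT.node (nat_lit 3095) (FT.leaf (Fct.mk false (nat_lit 32) (nat_lit 0) (nat_lit 32) [nat_lit 8, nat_lit 3, nat_lit 4, nat_lit 1, nat_lit 2, nat_lit 3, nat_lit 8, nat_lit 5, nat_lit 6, nat_lit 4, nat_lit 5, nat_lit 3, nat_lit 4, nat_lit 2, nat_lit 3, nat_lit 8, nat_lit 1, nat_lit 2, nat_lit 3, nat_lit 4, nat_lit 5, nat_lit 1, nat_lit 2, nat_lit 0, nat_lit 1, nat_lit 9, nat_lit 4, nat_lit 3, nat_lit 2, nat_lit 8, nat_lit 3, nat_lit 11, nat_lit 1, nat_lit 8, nat_lit 12, nat_lit 15, nat_lit 13, nat_lit 18] (Rl.cmp (nat_lit 3004) (nat_lit 3093)))) (FT.leaf (Fct.mk true (nat_lit 5) (nat_lit 64124) (nat_lit 32) [nat_lit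 6, nat_lit 5, nat_lit 4, nat_lit 3, nat_lit 8, nat_lit 0, nat_lit 1, nat_lit 2, nat_lit 3, nat_lit 4, nat_lit 5, nat_lit 6, nat_lit 7, nat_lit 8, nat_lit 6, nat_lit 5, nat_lit 3, nat_lit 4, nat_lit 1, nat_lit 2, nat_lit 3, nat_lit 8, nat_lit 0, nat_lit 1, nat_lit 2, nat_lit 3, nat_lit 4, nat_lit 5, nat_lit 2, nat_lit 1, nat_lit 3, nat_lit 2, nat_lit 0, nat_lit 1, nat_lit 4, nat_lit 3, nat_lit 2, nat_lit 8, nat_lit 3, nat_lit 10, nat_lit 0, nat_lit 8, nat_lit 16, nat_lit 14, nat_lit 17, nat_lit 12] (Rl.rel (nat_lit 0) [nat_lit 8, nat_lit 3, nat_lit 4, nat_lit 5, nat_lit 6, nat_lit 7, nat_lit 8, nat_lit 3, nat_lit 4, nat_lit 2, nat_lit 3, nat_lit 8, nat_lit 1, nat_lit 2, nat_lit 3, nat_lit 4, nat_lit 5, nat_lit 1, nat_lit 3, nat_lit 2, nat_lit 0, nat_lit 1, nat_lit 4, nat_lit 3, nat_lit 2, nat_lit 8, nat_lit 3, nat_lit 2, nat_lit 8, nat_lit 10,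 nat_lit 1, nat_lit 15, nat_lit 12, nat_lit 16] (nat_lit 32) (nat_lit 2) [nat_lit 3060, nat_lit 3013, nat_lit 3091, nat_lit 1272, nat_lit 2425] []))))) (FT.node (nat_lit 3098) (FT.node (nat_lit 3097) (FT.leaf (Fct.mk true (nat_lit 5) (nat_lit 940) (nat_lit 32) [nat_lit 8, nat_lit 6, nat_lit 5, nat_lit 3, nat_lit 4, nat_lit 2, nat_lit 3, nat_lit 8, nat_lit 1, nat_lit 2, nat_lit 3, nat_lit 4, nat_lit 5, nat_lit 6, nat_lit 7, nat_lit 4, nat_lit 1, nat_lit 2, nat_lit 3, nat_lit 8, nat_lit 5, nat_lit 6, nat_lit 4, nat_lit 5, nat_lit 3, nat_lit 4, nat_lit 2, nat_lit 3, nat_lit 8, nat_lit 1, nat_lit 2, nat_lit 3, nat_lit 4, nat_lit 5, nat_lit 2, nat_lit 1, nat_lit 3, nat_lit 2, nat_lit 0, nat_lit 1, nat_lit 9, nat_lit 4, nat_lit 3, nat_lit 2, nat_lit 8, nat_lit 3, nat_lit 11, nat_lit 2, nat_lit 10, nat_lit 1, nat_lit 12, nat_lit 8, nat_lit 16, nat_lit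 14, nat_lit 12, nat_lit 18] (Rl.t1 (nat_lit 3095) (nat_lit 2891)))) (FT.leaf (Fct.mk true (nat_lit 32) (nat_lit 87810) (nat_lit 5) [nat_lit 5, nat_lit 6, nat_lit 4, nat_lit 5, nat_lit 3, nat_lit 4, nat_lit 1, nat_lit 2, nat_lit 3, nat_lit 8, nat_lit 0, nat_lit 1, nat_lit 2, nat_lit 3, nat_lit 4, nat_lit 5, nat_lit 6, nat_lit 7, nat_lit 5, nat_lit 4, nat_lit 1, nat_lit 2, nat_lit 3, nat_lit 8, nat_lit 0, nat_lit 1, nat_lit 2, nat_lit 3, nat_lit 4, nat_lit 5, nat_lit 1, nat_lit 8, nat_lit 3, nat_lit 2, nat_lit 0, nat_lit 1, nat_lit 9, nat_lit 4, nat_lit 3, nat_lit 2, nat_lit 8, nat_lit 3, nat_lit 8, nat_lit 10, nat_lit 12, nat_lit 15, nat_lit 17, nat_lit 12, nat_lit 18] (Rl.inv (nat_lit 3096))))) (FT.node (nat_lit 3099) (FT.leaf (Fct.mk true (nat_lit 32) (nat_lit 1114) (nat_lit 5) [nat_lit 6, nat_lit 5, nat_lit 4, nat_lit 1, nat_lit 2, nat_lit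 3, nat_lit 8, nat_lit 0, nat_lit 1, nat_lit 2, nat_lit 3, nat_lit 4, nat_lit 5, nat_lit 6, nat_lit 7, nat_lit 4, nat_lit 5, nat_lit 2, nat_lit 1, nat_lit 9, nat_lit 4, nat_lit 3, nat_lit 2, nat_lit 8, nat_lit 3, nat_lit 10, nat_lit 9, nat_lit 2, nat_lit 14, nat_lit 16, nat_lit 8, nat_lit 18] (Rl.t1 (nat_lit 3097) (nat_lit 3094)))) (FT.leaf (Fct.mk false (nat_lit 2) (nat_lit 0) (nat_lit 2) [nat_lit 4, nat_lit 5, nat_lit 3, nat_lit 4, nat_lit 1, nat_lit 2, nat_lit 3, nat_lit 8, nat_lit 6, nat_lit 7, nat_lit 5, nat_lit 6, nat_lit 4, nat_lit 5, nat_lit 3, nat_lit 4, nat_lit 2, nat_lit 3, nat_lit 8, nat_lit 1, nat_lit 2, nat_lit 3, nat_lit 4, nat_lit 5, nat_lit 6, nat_lit 7, nat_lit 4, nat_lit 5, nat_lit 3, nat_lit 4, nat_lit 2, nat_lit 3, nat_lit 8, nat_lit 1, nat_lit 2, nat_lit 3, nat_lit 4, nat_lit 5, nat_lit 9, nat_lit 4, nat_lit 11, nat_lit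 1, nat_lit 12, nat_lit 8, nat_lit 16, nat_lit 14, nat_lit 13, nat_lit 12, nat_lit 18, nat_lit 16] (Rl.cmp (nat_lit 2340) (nat_lit 173)))))))))

/-- some facts -/
noncomputable def ftc62 : FT := FT.node (nat_lit 3125) (FT.node (nat_lit 3112) (FT.node (nat_lit 3106) (FT.node (nat_lit 3103) (FT.node (nat_lit 3101) (FT.leaf (Fct.mk false (nat_lit 2) (nat_lit 0) (nat_lit 2) [nat_lit 6, nat_lit 5, nat_lit 4, nat_lit 3, nat_lit 8, nat_lit 2, nat_lit 3, nat_lit 4, nat_lit 1, nat_lit 2, nat_lit 3, nat_lit 8, nat_lit 5, nat_lit 6, nat_lit 4, nat_lit 5, nat_lit 3, nat_lit 4, nat_lit 2, nat_lit 3, nat_lit 8, nat_lit 1, nat_lit 2, nat_lit 3, nat_lit 4, nat_lit 5, nat_lit 2, nat_lit 1, nat_lit 9, nat_lit 4, nat_lit 3, nat_lit 2, nat_lit 8, nat_lit 3, nat_lit 11, nat_lit 8, nat_lit 10, nat_lit 1, nat_lit 12, nat_lit 8, nat_lit 16, nat_lit 14, nat_lit 13,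 nat_lit 19] (Rl.cmp (nat_lit 2340) (nat_lit 3099)))) (FT.node (nat_lit 3102) (FT.leaf (Fct.mk false (nat_lit 2) (nat_lit 0) (nat_lit 2) [nat_lit 4, nat_lit 5, nat_lit 3, nat_lit 4, nat_lit 1, nat_lit 2, nat_lit 3, nat_lit 8, nat_lit 6, nat_lit 7, nat_lit 5, nat_lit 6, nat_lit 4, nat_lit 5, nat_lit 3, nat_lit 4, nat_lit 2, nat_lit 3, nat_lit 8, nat_lit 1, nat_lit 2, nat_lit 3, nat_lit 4, nat_lit 5, nat_lit 6, nat_lit 7, nat_lit 8, nat_lit 6, nat_lit 4, nat_lit 5, nat_lit 3, nat_lit 4, nat_lit 2, nat_lit 3, nat_lit 8, nat_lit 1, nat_lit 2, nat_lit 3, nat_lit 4, nat_lit 5, nat_lit 1, nat_lit 2, nat_lit 3, nat_lit 0, nat_lit 8, nat_lit 12, nat_lit 15, nat_lit 8, nat_lit 16] (Rl.cmp (nat_lit 2340) (nat_lit 3100)))) (FT.leaf (Fct.mk false (nat_lit 32) (nat_lit 0) (nat_lit 32) [nat_lit 2, nat_lit 3, nat_lit 4, nat_lit 1, nat_lit 2, nat_lit 3, nat_lit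 8, nat_lit 0, nat_lit 1, nat_lit 2, nat_lit 3, nat_lit 4, nat_lit 5, nat_lit 3, nat_lit 8, nat_lit 4, nat_lit 3, nat_lit 2, nat_lit 0, nat_lit 1, nat_lit 9, nat_lit 4, nat_lit 3, nat_lit 2, nat_lit 8, nat_lit 3, nat_lit 11, nat_lit 10, nat_lit 8, nat_lit 16, nat_lit 14, nat_lit 19] (Rl.cmp (nat_lit 3010) (nat_lit 3004)))))) (FT.node (nat_lit 3104) (FT.leaf (Fct.mk false (nat_lit 32) (nat_lit 0) (nat_lit 32) [nat_lit 3, nat_lit 4, nat_lit 1, nat_lit 2, nat_lit 3, nat_lit 8, nat_lit 5, nat_lit 6, nat_lit 4, nat_lit 5, nat_lit 3, nat_lit 4, nat_lit 2, nat_lit 3, nat_lit 8, nat_lit 1, nat_lit 2, nat_lit 3, nat_lit 4, nat_lit 5, nat_lit 0, nat_lit 1, nat_lit 2, nat_lit 8, nat_lit 3, nat_lit 11, nat_lit 1, nat_lit 12, nat_lit 15, nat_lit 12, nat_lit 19, nat_lit 16] (Rl.cmp (nat_lit 3004) (nat_lit 3102)))) (FT.node (nat_lit 3105) (FT.leaf (Fct.mk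 false (nat_lit 32) (nat_lit 0) (nat_lit 32) [nat_lit 8, nat_lit 3, nat_lit 4, nat_lit 1, nat_lit 2, nat_lit 3, nat_lit 8, nat_lit 5, nat_lit 6, nat_lit 4, nat_lit 5, nat_lit 3, nat_lit 4, nat_lit 2, nat_lit 3, nat_lit 8, nat_lit 1, nat_lit 2, nat_lit 3, nat_lit 4, nat_lit 5, nat_lit 1, nat_lit 2, nat_lit 0, nat_lit 1, nat_lit 9, nat_lit 4, nat_lit 3, nat_lit 2, nat_lit 8, nat_lit 3, nat_lit 11, nat_lit 1, nat_lit 8, nat_lit 12, nat_lit 15, nat_lit 13, nat_lit 18] (Rl.cmp (nat_lit 3004) (nat_lit 3103)))) (FT.leaf (Fct.mk true (nat_lit 4) (nat_lit 57198) (nat_lit 32) [nat_lit 3, nat_lit 8, nat_lit 7, nat_lit 6, nat_lit 5, nat_lit 2, nat_lit 3, nat_lit 4, nat_lit 1, nat_lit 2, nat_lit 3, nat_lit 8, nat_lit 0, nat_lit 1, nat_lit 2, nat_lit 3, nat_lit 4, nat_lit 5, nat_lit 6, nat_lit 7, nat_lit 5, nat_lit 6, nat_lit 4, nat_lit 5, nat_lit 3, nat_lit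 4, nat_lit 1, nat_lit 2, nat_lit 3, nat_lit 8, nat_lit 0, nat_lit 1, nat_lit 2, nat_lit 3, nat_lit 4, nat_lit 5, nat_lit 1, nat_lit 2, nat_lit 0, nat_lit 1, nat_lit 3, nat_lit 2, nat_lit 8, nat_lit 3, nat_lit 11, nat_lit 2, nat_lit 8, nat_lit 10, nat_lit 1, nat_lit 15, nat_lit 14, nat_lit 17, nat_lit 12] (Rl.rel (nat_lit 0) [nat_lit 8, nat_lit 3, nat_lit 4, nat_lit 5, nat_lit 6, nat_lit 7, nat_lit 8, nat_lit 2, nat_lit 3, nat_lit 4, nat_lit 1, nat_lit 2, nat_lit 3, nat_lit 8, nat_lit 0, nat_lit 1, nat_lit 2, nat_lit 3, nat_lit 4, nat_lit 5, nat_lit 1, nat_lit 2, nat_lit 0, nat_lit 1, nat_lit 4, nat_lit 3, nat_lit 2, nat_lit 8, nat_lit 3, nat_lit 8, nat_lit 10, nat_lit 1, nat_lit 15, nat_lit 12, nat_lit 16] (nat_lit 32) (nat_lit 2) [nat_lit 3060, nat_lit 3013, nat_lit 3101, nat_lit 2369, nat_lit 2281] [])))))) (FT.node (nat_lit 3109) (FT.node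 (nat_lit 3107) (FT.leaf (Fct.mk true (nat_lit 4) (nat_lit 2610) (nat_lit 32) [nat_lit 8, nat_lit 6, nat_lit 4, nat_lit 5, nat_lit 3, nat_lit 4, nat_lit 2, nat_lit 3, nat_lit 8, nat_lit 0, nat_lit 1, nat_lit 2, nat_lit 3, nat_lit 4, nat_lit 5, nat_lit 6, nat_lit 7, nat_lit 5, nat_lit 2, nat_lit 3, nat_lit 4, nat_lit 1, nat_lit 2, nat_lit 3, nat_lit 8, nat_lit 0, nat_lit 1, nat_lit 2, nat_lit 3, nat_lit 4, nat_lit 5, nat_lit 3, nat_lit 8, nat_lit 4, nat_lit 3, nat_lit 2, nat_lit 0, nat_lit 1, nat_lit 9, nat_lit 4, nat_lit 3, nat_lit 2, nat_lit 8, nat_lit 3, nat_lit 11, nat_lit 10, nat_lit 8, nat_lit 16, nat_lit 14, nat_lit 8, nat_lit 19] (Rl.t1 (nat_lit 3105) (nat_lit 2974)))) (FT.node (nat_lit 3108) (FT.leaf (Fct.mk true (nat_lit 32) (nat_lit 20320) (nat_lit 4) [nat_lit 2, nat_lit 3, nat_lit 8, nat_lit 6, nat_lit 4, nat_lit 5, nat_lit 3, nat_lit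 4, nat_lit 2, nat_lit 3, nat_lit 8, nat_lit 1, nat_lit 2, nat_lit 3, nat_lit 4, nat_lit 5, nat_lit 6, nat_lit 7, nat_lit 5, nat_lit 4, nat_lit 2, nat_lit 3, nat_lit 8, nat_lit 0, nat_lit 1, nat_lit 2, nat_lit 3, nat_lit 4, nat_lit 5, nat_lit 2, nat_lit 1, nat_lit 8, nat_lit 3, nat_lit 2, nat_lit 0, nat_lit 1, nat_lit 4, nat_lit 3, nat_lit 2, nat_lit 8, nat_lit 3, nat_lit 11, nat_lit 10, nat_lit 1, nat_lit 8, nat_lit 16, nat_lit 15, nat_lit 14, nat_lit 17, nat_lit 12, nat_lit 16] (Rl.inv (nat_lit 3106)))) (FT.leaf (Fct.mk true (nat_lit 32) (nat_lit 1901) (nat_lit 4) [nat_lit 5, nat_lit 4, nat_lit 3, nat_lit 8, nat_lit 1, nat_lit 2, nat_lit 3, nat_lit 4, nat_lit 5, nat_lit 6, nat_lit 7, nat_lit 2, nat_lit 3, nat_lit 8, nat_lit 1, nat_lit 2, nat_lit 3, nat_lit 4, nat_lit 5, nat_lit 3, nat_lit 2, nat_lit 0, nat_lit 1, nat_lit 4, nat_lit 3, nat_lit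 2, nat_lit 8, nat_lit 3, nat_lit 1, nat_lit 9, nat_lit 16, nat_lit 12, nat_lit 15, nat_lit 14, nat_lit 8, nat_lit 19, nat_lit 16] (Rl.t1 (nat_lit 3107) (nat_lit 3104)))))) (FT.node (nat_lit 3110) (FT.leaf (Fct.mk false (nat_lit 2) (nat_lit 0) (nat_lit 2) [nat_lit 3, nat_lit 4, nat_lit 5, nat_lit 2, nat_lit 3, nat_lit 4, nat_lit 1, nat_lit 2, nat_lit 3, nat_lit 8, nat_lit 6, nat_lit 7, nat_lit 5, nat_lit 6, nat_lit 4, nat_lit 5, nat_lit 3, nat_lit 4, nat_lit 2, nat_lit 3, nat_lit 8, nat_lit 1, nat_lit 2, nat_lit 3, nat_lit 4, nat_lit 5, nat_lit 6, nat_lit 7, nat_lit 8, nat_lit 4, nat_lit 5, nat_lit 3, nat_lit 4, nat_lit 2, nat_lit 3, nat_lit 8, nat_lit 1, nat_lit 2, nat_lit 3, nat_lit 4, nat_lit 5, nat_lit 3, nat_lit 8, nat_lit 4, nat_lit 3, nat_lit 2, nat_lit 0, nat_lit 1, nat_lit 9, nat_lit 4, nat_lit 3, nat_lit 2, nat_lit 8, nat_lit 3, nat_lit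 11, nat_lit 10, nat_lit 2, nat_lit 8, nat_lit 10, nat_lit 1, nat_lit 16, nat_lit 15, nat_lit 14, nat_lit 8, nat_lit 18] (Rl.cmp (nat_lit 2330) (nat_lit 2975)))) (FT.node (nat_lit 3111) (FT.leaf (Fct.mk false (nat_lit 2) (nat_lit 0) (nat_lit 2) [nat_lit 3, nat_lit 4, nat_lit 5, nat_lit 2, nat_lit 3, nat_lit 4, nat_lit 1, nat_lit 2, nat_lit 3, nat_lit 8, nat_lit 6, nat_lit 7, nat_lit 5, nat_lit 6, nat_lit 4, nat_lit 5, nat_lit 3, nat_lit 4, nat_lit 2, nat_lit 3, nat_lit 8, nat_lit 1, nat_lit 2, nat_lit 3, nat_lit 4, nat_lit 5, nat_lit 6, nat_lit 7, nat_lit 6, nat_lit 5, nat_lit 3, nat_lit 4, nat_lit 2, nat_lit 3, nat_lit 8, nat_lit 1, nat_lit 2, nat_lit 3, nat_lit 4, nat_lit 5, nat_lit 3, nat_lit 2, nat_lit 1, nat_lit 8, nat_lit 3, nat_lit 2, nat_lit 0, nat_lit 1, nat_lit 4, nat_lit 3, nat_lit 2, nat_lit 8, nat_lit 3, nat_lit 9, nat_lit 2, nat_lit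 8, nat_lit 12, nat_lit 15, nat_lit 14, nat_lit 17, nat_lit 12] (Rl.cmp (nat_lit 300) (nat_lit 3109)))) (FT.leaf (Fct.mk false (nat_lit 32) (nat_lit 0) (nat_lit 32) [nat_lit 8, nat_lit 1, nat_lit 2, nat_lit 3, nat_lit 4, nat_lit 5, nat_lit 3, nat_lit 2, nat_lit 0, nat_lit 1, nat_lit 9, nat_lit 4, nat_lit 3, nat_lit 2, nat_lit 8, nat_lit 3, nat_lit 8, nat_lit 10, nat_lit 0, nat_lit 16, nat_lit 14, nat_lit 13, nat_lit 12, nat_lit 19] (Rl.cmp (nat_lit 3004) (nat_lit 3047)))))))) (FT.node (nat_lit 3118) (FT.node (nat_lit 3115) (FT.node (nat_lit 3113) (FT.leaf (Fct.mk false (nat_lit 32) (nat_lit 0) (nat_lit 32) [nat_lit 8, nat_lit 2, nat_lit 3, nat_lit 4, nat_lit 5, nat_lit 1, nat_lit 3, nat_lit 2, nat_lit 0, nat_lit 1, nat_lit 9, nat_lit 4, nat_lit 3, nat_lit 2, nat_lit 8, nat_lit 3, nat_lit 11, nat_lit 8, nat_lit 10, nat_lit 8, nat_lit 16, nat_lit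 14, nat_lit 13, nat_lit 12, nat_lit 16] (Rl.cmp (nat_lit 3010) (nat_lit 3111)))) (FT.node (nat_lit 3114) (FT.leaf (Fct.mk true (nat_lit 32) (nat_lit 89596) (nat_lit 32) [nat_lit 8, nat_lit 4, nat_lit 5, nat_lit 2, nat_lit 3, nat_lit 4, nat_lit 1, nat_lit 2, nat_lit 3, nat_lit 8, nat_lit 0, nat_lit 1, nat_lit 2, nat_lit 3, nat_lit 4, nat_lit 5, nat_lit 6, nat_lit 7, nat_lit 2, nat_lit 3, nat_lit 8, nat_lit 5, nat_lit 6, nat_lit 4, nat_lit 5, nat_lit 3, nat_lit 4, nat_lit 2, nat_lit 3, nat_lit 8, nat_lit 0, nat_lit 1, nat_lit 2, nat_lit 3, nat_lit 4, nat_lit 5, nat_lit 1, nat_lit 3, nat_lit 2, nat_lit 8, nat_lit 3, nat_lit 9, nat_lit 10, nat_lit 2, nat_lit 8, nat_lit 10, nat_lit 1, nat_lit 8, nat_lit 12, nat_lit 15, nat_lit 12, nat_lit 19, nat_lit 16] (Rl.rel (nat_lit 0) [nat_lit 8, nat_lit 3, nat_lit 4, nat_lit 5, nat_lit 6, nat_lit 7, nat_lit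 8, nat_lit 3, nat_lit 4, nat_lit 2, nat_lit 3, nat_lit 8, nat_lit 1, nat_lit 2, nat_lit 3, nat_lit 4, nat_lit 5, nat_lit 3, nat_lit 2, nat_lit 1, nat_lit 8, nat_lit 3, nat_lit 2, nat_lit 0, nat_lit 1, nat_lit 4, nat_lit 3, nat_lit 2, nat_lit 8, nat_lit 3, nat_lit 8, nat_lit 10, nat_lit 1, nat_lit 12, nat_lit 16] (nat_lit 32) (nat_lit 2) [nat_lit 3060, nat_lit 3013, nat_lit 3110, nat_lit 2988] []))) (FT.leaf (Fct.mk true (nat_lit 32) (nat_lit 2649) (nat_lit 32) [nat_lit 4, nat_lit 3, nat_lit 8, nat_lit 2, nat_lit 3, nat_lit 4, nat_lit 5, nat_lit 6, nat_lit 7, nat_lit 4, nat_lit 2, nat_lit 3, nat_lit 8, nat_lit 5, nat_lit 6, nat_lit 4, nat_lit 5, nat_lit 3, nat_lit 4, nat_lit 2, nat_lit 3, nat_lit 8, nat_lit 1, nat_lit 2, nat_lit 3, nat_lit 4, nat_lit 5, nat_lit 4, nat_lit 3, nat_lit 2, nat_lit 1, nat_lit 9, nat_lit 4, nat_lit 3, nat_lit 2, nat_lit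 8, nat_lit 3, nat_lit 11, nat_lit 10, nat_lit 1, nat_lit 12, nat_lit 15, nat_lit 14, nat_lit 17, nat_lit 18, nat_lit 16] (Rl.t1 (nat_lit 3113) (nat_lit 3112)))))) (FT.node (nat_lit 3116) (FT.leaf (Fct.mk false (nat_lit 2) (nat_lit 0) (nat_lit 2) [nat_lit 4, nat_lit 5, nat_lit 2, nat_lit 3, nat_lit 4, nat_lit 1, nat_lit 2, nat_lit 3, nat_lit 8, nat_lit 6, nat_lit 7, nat_lit 5, nat_lit 6, nat_lit 4, nat_lit 5, nat_lit 3, nat_lit 4, nat_lit 2, nat_lit 3, nat_lit 8, nat_lit 1, nat_lit 2, nat_lit 3, nat_lit 4, nat_lit 5, nat_lit 6, nat_lit 7, nat_lit 8, nat_lit 6, nat_lit 4, nat_lit 5, nat_lit 3, nat_lit 4, nat_lit 2, nat_lit 3, nat_lit 8, nat_lit 1, nat_lit 2, nat_lit 3, nat_lit 4, nat_lit 5, nat_lit 2, nat_lit 1, nat_lit 3, nat_lit 2, nat_lit 0, nat_lit 1, nat_lit 9, nat_lit 4, nat_lit 3, nat_lit 2, nat_lit 8, nat_lit 3, nat_lit 8, nat_lit 10,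 nat_lit 9, nat_lit 2, nat_lit 8, nat_lit 12, nat_lit 15, nat_lit 14, nat_lit 13, nat_lit 12] (Rl.cmp (nat_lit 172) (nat_lit 2973)))) (FT.node (nat_lit 3117) (FT.leaf (Fct.mk false (nat_lit 2) (nat_lit 0) (nat_lit 2) [nat_lit 6, nat_lit 5, nat_lit 4, nat_lit 3, nat_lit 8, nat_lit 2, nat_lit 3, nat_lit 4, nat_lit 1, nat_lit 2, nat_lit 3, nat_lit 8, nat_lit 5, nat_lit 6, nat_lit 4, nat_lit 5, nat_lit 3, nat_lit 4, nat_lit 2, nat_lit 3, nat_lit 8, nat_lit 1, nat_lit 2, nat_lit 3, nat_lit 4, nat_lit 5, nat_lit 6, nat_lit 7, nat_lit 6, nat_lit 5, nat_lit 4, nat_lit 3, nat_lit 8, nat_lit 2, nat_lit 3, nat_lit 4, nat_lit 1, nat_lit 2, nat_lit 3, nat_lit 8, nat_lit 5, nat_lit 6, nat_lit 4, nat_lit 5, nat_lit 3, nat_lit 4, nat_lit 2, nat_lit 3, nat_lit 8, nat_lit 1, nat_lit 2, nat_lit 3, nat_lit 4, nat_lit 5, nat_lit 3, nat_lit 2, nat_lit 1, nat_lit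 4, nat_lit 3, nat_lit 2, nat_lit 8, nat_lit 3, nat_lit 11, nat_lit 8, nat_lit 10, nat_lit 1, nat_lit 14, nat_lit 17, nat_lit 12] (Rl.cmp (nat_lit 2330) (nat_lit 3115)))) (FT.leaf (Fct.mk false (nat_lit 32) (nat_lit 0) (nat_lit 32) [nat_lit 0, nat_lit 1, nat_lit 2, nat_lit 3, nat_lit 4, nat_lit 5, nat_lit 3, nat_lit 8, nat_lit 4, nat_lit 3, nat_lit 2, nat_lit 0, nat_lit 1, nat_lit 9, nat_lit 4, nat_lit 3, nat_lit 2, nat_lit 8, nat_lit 3, nat_lit 15, nat_lit 17, nat_lit 16] (Rl.cmp (nat_lit 3004) (nat_lit 2995))))))) (FT.node (nat_lit 3121) (FT.node (nat_lit 3119) (FT.leaf (Fct.mk false (nat_lit 32) (nat_lit 0) (nat_lit 32) [nat_lit 2, nat_lit 3, nat_lit 4, nat_lit 1, nat_lit 2, nat_lit 3, nat_lit 8, nat_lit 0, nat_lit 1, nat_lit 2, nat_lit 3, nat_lit 4, nat_lit 5, nat_lit 1, nat_lit 3, nat_lit 8, nat_lit 4, nat_lit 3, nat_lit 2, nat_lit 0, nat_lit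 1, nat_lit 9, nat_lit 4, nat_lit 3, nat_lit 2, nat_lit 8, nat_lit 3, nat_lit 11, nat_lit 10, nat_lit 8, nat_lit 16, nat_lit 14, nat_lit 19] (Rl.cmp (nat_lit 3010) (nat_lit 3117)))) (FT.node (nat_lit 3120) (FT.leaf (Fct.mk false (nat_lit 32) (nat_lit 0) (nat_lit 32) [nat_lit 3, nat_lit 4, nat_lit 1, nat_lit 2, nat_lit 3, nat_lit 8, nat_lit 5, nat_lit 6, nat_lit 4, nat_lit 5, nat_lit 3, nat_lit 4, nat_lit 2, nat_lit 3, nat_lit 8, nat_lit 1, nat_lit 2, nat_lit 3, nat_lit 4, nat_lit 5, nat_lit 0, nat_lit 1, nat_lit 3, nat_lit 2, nat_lit 8, nat_lit 3, nat_lit 11, nat_lit 1, nat_lit 12, nat_lit 15, nat_lit 12, nat_lit 19, nat_lit 16] (Rl.cmp (nat_lit 3004) (nat_lit 3118)))) (FT.leaf (Fct.mk false (nat_lit 32) (nat_lit 0) (nat_lit 32) [nat_lit 8, nat_lit 3, nat_lit 4, nat_lit 1, nat_lit 2, nat_lit 3, nat_lit 8, nat_lit 5, nat_lit 6, nat_lit 4, nat_lit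 5, nat_lit 3, nat_lit 4, nat_lit 2, nat_lit 3, nat_lit 8, nat_lit 1, nat_lit 2, nat_lit 3, nat_lit 4, nat_lit 5, nat_lit 1, nat_lit 3, nat_lit 2, nat_lit 0, nat_lit 1, nat_lit 9, nat_lit 4, nat_lit 3, nat_lit 2, nat_lit 8, nat_lit 3, nat_lit 11, nat_lit 1, nat_lit 8, nat_lit 12, nat_lit 15, nat_lit 13, nat_lit 18] (Rl.cmp (nat_lit 3004) (nat_lit 3119)))))) (FT.node (nat_lit 3123) (FT.node (nat_lit 3122) (FT.leaf (Fct.mk false (nat_lit 32) (nat_lit 0) (nat_lit 32) [nat_lit 0, nat_lit 1, nat_lit 2, nat_lit 3, nat_lit 4, nat_lit 5, nat_lit 3, nat_lit 8, nat_lit 4, nat_lit 3, nat_lit 2, nat_lit 0, nat_lit 1, nat_lit 9, nat_lit 4, nat_lit 3, nat_lit 2, nat_lit 8, nat_lit 3, nat_lit 15, nat_lit 17, nat_lit 16] (Rl.cmp (nat_lit 3004) (nat_lit 2995)))) (FT.leaf (Fct.mk false (nat_lit 32) (nat_lit 0) (nat_lit 32) [nat_lit 5, nat_lit 4, nat_lit 3, nat_lit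 8, nat_lit 0, nat_lit 1, nat_lit 2, nat_lit 3, nat_lit 4, nat_lit 5, nat_lit 2, nat_lit 0, nat_lit 1, nat_lit 3, nat_lit 2, nat_lit 8, nat_lit 3, nat_lit 10, nat_lit 2, nat_lit 8, nat_lit 10, nat_lit 1, nat_lit 16, nat_lit 15, nat_lit 14, nat_lit 16, nat_lit 8] (Rl.cmp (nat_lit 3004) (nat_lit 3121))))) (FT.node (nat_lit 3124) (FT.leaf (Fct.mk false (nat_lit 32) (nat_lit 0) (nat_lit 32) [nat_lit 0, nat_lit 1, nat_lit 2, nat_lit 3, nat_lit 4, nat_lit 5, nat_lit 2, nat_lit 0, nat_lit 1, nat_lit 4, nat_lit 3, nat_lit 2, nat_lit 8, nat_lit 3, nat_lit 0, nat_lit 2, nat_lit 8, nat_lit 16, nat_lit 14, nat_lit 13, nat_lit 12, nat_lit 18, nat_lit 16] (Rl.cmp (nat_lit 3010) (nat_lit 3122)))) (FT.leaf (Fct.mk false (nat_lit 32) (nat_lit 0) (nat_lit 32) [nat_lit 5, nat_lit 4, nat_lit 3, nat_lit 8, nat_lit 0, nat_lit 1, nat_lit 2, nat_lit 3, nat_lit 4, nat_lit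 5, nat_lit 4, nat_lit 3, nat_lit 2, nat_lit 0, nat_lit 1, nat_lit 9, nat_lit 4, nat_lit 3, nat_lit 2, nat_lit 8, nat_lit 3, nat_lit 11, nat_lit 12, nat_lit 15, nat_lit 14, nat_lit 12, nat_lit 18] (Rl.cmp (nat_lit 3004) (nat_lit 3123))))))))) (FT.node (nat_lit 3137) (FT.node (nat_lit 3131) (FT.node (nat_lit 3128) (FT.node (nat_lit 3126) (FT.leaf (Fct.mk false (nat_lit 32) (nat_lit 0) (nat_lit 32) [nat_lit 0, nat_lit 1, nat_lit 2, nat_lit 3, nat_lit 4, nat_lit 5, nat_lit 2, nat_lit 1, nat_lit 9, nat_lit 4, nat_lit 3, nat_lit 2, nat_lit 8, nat_lit 3, nat_lit 11, nat_lit 10, nat_lit 8, nat_lit 12, nat_lit 15, nat_lit 14, nat_lit 13, nat_lit 12] (Rl.cmp (nat_lit 3010) (nat_lit 3124)))) (FT.node (nat_lit 3127) (FT.leaf (Fct.mk true (nat_lit 32) (nat_lit 88220) (nat_lit 32) [nat_lit 8, nat_lit 6, nat_lit 5, nat_lit 2, nat_lit 3, nat_lit 4, nat_lit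 1, nat_lit 2, nat_lit 3, nat_lit 8, nat_lit 0, nat_lit 1, nat_lit 2, nat_lit 3, nat_lit 4, nat_lit 5, nat_lit 6, nat_lit 7, nat_lit 5, nat_lit 4, nat_lit 3, nat_lit 8, nat_lit 1, nat_lit 2, nat_lit 3, nat_lit 4, nat_lit 5, nat_lit 9, nat_lit 4, nat_lit 11, nat_lit 2, nat_lit 10, nat_lit 1, nat_lit 16, nat_lit 14, nat_lit 17, nat_lit 12] (Rl.rel (nat_lit 0) [nat_lit 5, nat_lit 4, nat_lit 1, nat_lit 2, nat_lit 3, nat_lit 8, nat_lit 0, nat_lit 1, nat_lit 2, nat_lit 3, nat_lit 4, nat_lit 5, nat_lit 6, nat_lit 7, nat_lit 4, nat_lit 1, nat_lit 2, nat_lit 3, nat_lit 8, nat_lit 0, nat_lit 1, nat_lit 2, nat_lit 3, nat_lit 4, nat_lit 5, nat_lit 3, nat_lit 2, nat_lit 1, nat_lit 8, nat_lit 3, nat_lit 2, nat_lit 0, nat_lit 1, nat_lit 4, nat_lit 3, nat_lit 2, nat_lit 8, nat_lit 3, nat_lit 11, nat_lit 10, nat_lit 17, nat_lit 12, nat_lit 19, nat_lit 16] (nat_lit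 32) (nat_lit 2) [nat_lit 3114, nat_lit 3120, nat_lit 3114] []))) (FT.leaf (Fct.mk true (nat_lit 32) (nat_lit 727) (nat_lit 32) [nat_lit 5, nat_lit 3, nat_lit 4, nat_lit 2, nat_lit 3, nat_lit 8, nat_lit 1, nat_lit 2, nat_lit 3, nat_lit 4, nat_lit 5, nat_lit 6, nat_lit 7, nat_lit 8, nat_lit 5, nat_lit 3, nat_lit 4, nat_lit 2, nat_lit 3, nat_lit 8, nat_lit 0, nat_lit 1, nat_lit 2, nat_lit 3, nat_lit 4, nat_lit 5, nat_lit 9, nat_lit 4, nat_lit 8, nat_lit 10, nat_lit 1, nat_lit 12, nat_lit 15, nat_lit 17, nat_lit 12, nat_lit 18, nat_lit 16] (Rl.t1 (nat_lit 3126) (nat_lit 3125)))))) (FT.node (nat_lit 3129) (FT.leaf (Fct.mk false (nat_lit 5) (nat_lit 0) (nat_lit 5) [nat_lit 3, nat_lit 4, nat_lit 5, nat_lit 10, nat_lit 1] (Rl.cmp (nat_lit 470) (nat_lit 1754)))) (FT.node (nat_lit 3130) (FT.leaf (Fct.mk false (nat_lit 32) (nat_lit 0) (nat_lit 32) [nat_lit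 5, nat_lit 6, nat_lit 4, nat_lit 5, nat_lit 3, nat_lit 4, nat_lit 2, nat_lit 3, nat_lit 8, nat_lit 1, nat_lit 2, nat_lit 3, nat_lit 4, nat_lit 5, nat_lit 1, nat_lit 9, nat_lit 4, nat_lit 3, nat_lit 2, nat_lit 8, nat_lit 3, nat_lit 11, nat_lit 10, nat_lit 1, nat_lit 12, nat_lit 15, nat_lit 14, nat_lit 18, nat_lit 16] (Rl.cmp (nat_lit 3004) (nat_lit 3010)))) (FT.leaf (Fct.mk false (nat_lit 32) (nat_lit 0) (nat_lit 32) [nat_lit 8, nat_lit 1, nat_lit 2, nat_lit 3, nat_lit 4, nat_lit 5, nat_lit 3, nat_lit 2, nat_lit 0, nat_lit 1, nat_lit 9, nat_lit 4, nat_lit 3, nat_lit 2, nat_lit 8, nat_lit 3, nat_lit 8, nat_lit 10, nat_lit 0, nat_lit 16, nat_lit 14, nat_lit 13, nat_lit 12, nat_lit 19] (Rl.cmp (nat_lit 3004) (nat_lit 3047))))))) (FT.node (nat_lit 3134) (FT.node (nat_lit 3132) (FT.leaf (Fct.mk false (nat_lit 32) (nat_lit 0) (nat_lit 32) [nat_lit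 8, nat_lit 2, nat_lit 3, nat_lit 4, nat_lit 5, nat_lit 1, nat_lit 3, nat_lit 2, nat_lit 0, nat_lit 1, nat_lit 9, nat_lit 4, nat_lit 3, nat_lit 2, nat_lit 8, nat_lit 3, nat_lit 11, nat_lit 8, nat_lit 10, nat_lit 8, nat_lit 16, nat_lit 14, nat_lit 13, nat_lit 12, nat_lit 16] (Rl.cmp (nat_lit 3010) (nat_lit 3130)))) (FT.node (nat_lit 3133) (FT.leaf (Fct.mk false (nat_lit 32) (nat_lit 0) (nat_lit 32) [nat_lit 5, nat_lit 4, nat_lit 2, nat_lit 3, nat_lit 8, nat_lit 1, nat_lit 2, nat_lit 3, nat_lit 4, nat_lit 5, nat_lit 2, nat_lit 1, nat_lit 3, nat_lit 2, nat_lit 0, nat_lit 1, nat_lit 9, nat_lit 4, nat_lit 3, nat_lit 2, nat_lit 8, nat_lit 3, nat_lit 11, nat_lit 8, nat_lit 10, nat_lit 16, nat_lit 14, nat_lit 13, nat_lit 12, nat_lit 18] (Rl.cmp (nat_lit 3010) (nat_lit 3131)))) (FT.leaf (Fct.mk false (nat_lit 32) (nat_lit 0) (nat_lit 32) [nat_lit 6,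 nat_lit 5, nat_lit 4, nat_lit 3, nat_lit 8, nat_lit 2, nat_lit 3, nat_lit 4, nat_lit 5, nat_lit 11, nat_lit 10, nat_lit 17, nat_lit 18] (Rl.cmp (nat_lit 3004) (nat_lit 3132)))))) (FT.node (nat_lit 3135) (FT.leaf (Fct.mk false (nat_lit 5) (nat_lit 0) (nat_lit 5) [nat_lit 3, nat_lit 11, nat_lit 10, nat_lit 1, nat_lit 16, nat_lit 15, nat_lit 14, nat_lit 13, nat_lit 16] (Rl.cmp (nat_lit 488) (nat_lit 470)))) (FT.node (nat_lit 3136) (FT.leaf (Fct.mk false (nat_lit 5) (nat_lit 0) (nat_lit 5) [nat_lit 0, nat_lit 1, nat_lit 2, nat_lit 3, nat_lit 4, nat_lit 5, nat_lit 0, nat_lit 1, nat_lit 2, nat_lit 3, nat_lit 11, nat_lit 10, nat_lit 1, nat_lit 15, nat_lit 14, nat_lit 13] (Rl.cmp (nat_lit 511) (nat_lit 3134)))) (FT.leaf (Fct.mk true (nat_lit 32) (nat_lit 89438) (nat_lit 5) [nat_lit 3, nat_lit 4, nat_lit 2, nat_lit 3, nat_lit 8, nat_lit 0, nat_lit 1,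 nat_lit 2, nat_lit 3, nat_lit 4, nat_lit 5, nat_lit 6, nat_lit 7, nat_lit 0, nat_lit 1, nat_lit 2, nat_lit 3, nat_lit 4, nat_lit 5, nat_lit 2, nat_lit 1, nat_lit 8, nat_lit 3, nat_lit 2, nat_lit 0, nat_lit 1, nat_lit 4, nat_lit 3, nat_lit 2, nat_lit 8, nat_lit 3, nat_lit 11, nat_lit 10, nat_lit 16, nat_lit 14, nat_lit 13, nat_lit 12, nat_lit 19, nat_lit 16] (Rl.rel (nat_lit 0) [nat_lit 6, nat_lit 5, nat_lit 4, nat_lit 3, nat_lit 8, nat_lit 0, nat_lit 1, nat_lit 2, nat_lit 3, nat_lit 4, nat_lit 5, nat_lit 6, nat_lit 7, nat_lit 3, nat_lit 8, nat_lit 4, nat_lit 5, nat_lit 3, nat_lit 4, nat_lit 1, nat_lit 2, nat_lit 3, nat_lit 8, nat_lit 0, nat_lit 1, nat_lit 2, nat_lit 3, nat_lit 4, nat_lit 5, nat_lit 10, nat_lit 9, nat_lit 2, nat_lit 8, nat_lit 16, nat_lit 15, nat_lit 14] (nat_lit 32) (nat_lit 1) [nat_lit 3114] [nat_lit 3133, nat_lit 3098])))))))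 (FT.node (nat_lit 3143) (FT.node (nat_lit 3140) (FT.node (nat_lit 3138) (FT.leaf (Fct.mk true (nat_lit 32) (nat_lit 739) (nat_lit 5) [nat_lit 1, nat_lit 2, nat_lit 3, nat_lit 8, nat_lit 6, nat_lit 4, nat_lit 5, nat_lit 3, nat_lit 4, nat_lit 2, nat_lit 3, nat_lit 8, nat_lit 1, nat_lit 2, nat_lit 3, nat_lit 4, nat_lit 5, nat_lit 6, nat_lit 7, nat_lit 3, nat_lit 8, nat_lit 5, nat_lit 2, nat_lit 3, nat_lit 4, nat_lit 1, nat_lit 2, nat_lit 3, nat_lit 8, nat_lit 0, nat_lit 1, nat_lit 2, nat_lit 3, nat_lit 4, nat_lit 5, nat_lit 1, nat_lit 2, nat_lit 0, nat_lit 1, nat_lit 3, nat_lit 2, nat_lit 8, nat_lit 3, nat_lit 9, nat_lit 2, nat_lit 12, nat_lit 15, nat_lit 17, nat_lit 19, nat_lit 16] (Rl.t1 (nat_lit 3136) (nat_lit 3129)))) (FT.node (nat_lit 3139) (FT.leaf (Fct.mk true (nat_lit 5) (nat_lit 1878) (nat_lit 32) [nat_lit 4, nat_lit 2, nat_lit 3, nat_lit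 8, nat_lit 0, nat_lit 1, nat_lit 2, nat_lit 3, nat_lit 4, nat_lit 5, nat_lit 6, nat_lit 7, nat_lit 4, nat_lit 3, nat_lit 8, nat_lit 2, nat_lit 3, nat_lit 4, nat_lit 5, nat_lit 3, nat_lit 2, nat_lit 1, nat_lit 8, nat_lit 3, nat_lit 2, nat_lit 0, nat_lit 1, nat_lit 9, nat_lit 4, nat_lit 3, nat_lit 2, nat_lit 8, nat_lit 3, nat_lit 2, nat_lit 8, nat_lit 10, nat_lit 1, nat_lit 12, nat_lit 8, nat_lit 16, nat_lit 14, nat_lit 16, nat_lit 8, nat_lit 19, nat_lit 16] (Rl.inv (nat_lit 3137)))) (FT.leaf (Fct.mk true (nat_lit 5) (nat_lit 64) (nat_lit 32) [nat_lit 6, nat_lit 5, nat_lit 3, nat_lit 4, nat_lit 2, nat_lit 3, nat_lit 8, nat_lit 0, nat_lit 1, nat_lit 2, nat_lit 3, nat_lit 4, nat_lit 5, nat_lit 6, nat_lit 7, nat_lit 2, nat_lit 3, nat_lit 4, nat_lit 5, nat_lit 1, nat_lit 8, nat_lit 4, nat_lit 3, nat_lit 2, nat_lit 0, nat_lit 1, nat_lit 9, nat_lit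 4, nat_lit 3, nat_lit 2, nat_lit 8, nat_lit 3, nat_lit 10, nat_lit 1, nat_lit 12, nat_lit 8, nat_lit 16, nat_lit 14, nat_lit 16, nat_lit 8, nat_lit 19, nat_lit 16] (Rl.t1 (nat_lit 3138) (nat_lit 3135)))))) (FT.node (nat_lit 3141) (FT.leaf (Fct.mk false (nat_lit 32) (nat_lit 0) (nat_lit 32) [nat_lit 5, nat_lit 6, nat_lit 4, nat_lit 5, nat_lit 3, nat_lit 4, nat_lit 2, nat_lit 3, nat_lit 8, nat_lit 1, nat_lit 2, nat_lit 3, nat_lit 4, nat_lit 5, nat_lit 1, nat_lit 9, nat_lit 4, nat_lit 3, nat_lit 2, nat_lit 8, nat_lit 3, nat_lit 11, nat_lit 10, nat_lit 1, nat_lit 12, nat_lit 15, nat_lit 14, nat_lit 18, nat_lit 16] (Rl.cmp (nat_lit 3004) (nat_lit 3010)))) (FT.node (nat_lit 3142) (FT.leaf (Fct.mk false (nat_lit 32) (nat_lit 0) (nat_lit 32) [nat_lit 5, nat_lit 4, nat_lit 2, nat_lit 3, nat_lit 8, nat_lit 0, nat_lit 1, nat_lit 2, nat_lit 3, nat_lit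 4, nat_lit 5, nat_lit 8, nat_lit 3, nat_lit 2, nat_lit 1, nat_lit 9, nat_lit 4, nat_lit 3, nat_lit 2, nat_lit 8, nat_lit 3, nat_lit 0, nat_lit 12, nat_lit 15, nat_lit 14, nat_lit 17, nat_lit 12] (Rl.cmp (nat_lit 3047) (nat_lit 3140)))) (FT.leaf (Fct.mk false (nat_lit 32) (nat_lit 0) (nat_lit 32) [nat_lit 3, nat_lit 4, nat_lit 2, nat_lit 3, nat_lit 8, nat_lit 0, nat_lit 1, nat_lit 2, nat_lit 3, nat_lit 4, nat_lit 5, nat_lit 8, nat_lit 3, nat_lit 2, nat_lit 0, nat_lit 1, nat_lit 9, nat_lit 4, nat_lit 3, nat_lit 2, nat_lit 8, nat_lit 3, nat_lit 9, nat_lit 15, nat_lit 14, nat_lit 12, nat_lit 18] (Rl.cmp (nat_lit 3010) (nat_lit 3141))))))) (FT.node (nat_lit 3146) (FT.node (nat_lit 3144) (FT.leaf (Fct.mk false (nat_lit 32) (nat_lit 0) (nat_lit 32) [nat_lit 0, nat_lit 1, nat_lit 2, nat_lit 3, nat_lit 4, nat_lit 5, nat_lit 3, nat_lit 8, nat_lit 4,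 nat_lit 3, nat_lit 2, nat_lit 0, nat_lit 1, nat_lit 9, nat_lit 4, nat_lit 3, nat_lit 2, nat_lit 8, nat_lit 3, nat_lit 15, nat_lit 17, nat_lit 16] (Rl.cmp (nat_lit 3004) (nat_lit 2995)))) (FT.node (nat_lit 3145) (FT.leaf (Fct.mk false (nat_lit 32) (nat_lit 0) (nat_lit 32) [nat_lit 2, nat_lit 3, nat_lit 4, nat_lit 1, nat_lit 2, nat_lit 3, nat_lit 8, nat_lit 0, nat_lit 1, nat_lit 2, nat_lit 3, nat_lit 4, nat_lit 5, nat_lit 1, nat_lit 3, nat_lit 8, nat_lit 4, nat_lit 3, nat_lit 2, nat_lit 0, nat_lit 1, nat_lit 9, nat_lit 4, nat_lit 3, nat_lit 2, nat_lit 8, nat_lit 3, nat_lit 11, nat_lit 10, nat_lit 8, nat_lit 16, nat_lit 14, nat_lit 19] (Rl.cmp (nat_lit 3010) (nat_lit 3143)))) (FT.leaf (Fct.mk false (nat_lit 32) (nat_lit 0) (nat_lit 32) [nat_lit 97] (Rl.cmp (nat_lit 3047) (nat_lit 3047)))))) (FT.node (nat_lit 3148) (FT.node (nat_lit 3147) (FT.leaf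 (Fct.mk false (nat_lit 32) (nat_lit 0) (nat_lit 32) [nat_lit 1, nat_lit 4, nat_lit 3, nat_lit 2, nat_lit 8, nat_lit 3, nat_lit 11, nat_lit 8, nat_lit 10, nat_lit 1, nat_lit 14, nat_lit 17, nat_lit 12] (Rl.cmp (nat_lit 3010) (nat_lit 3145)))) (FT.leaf (Fct.mk false (nat_lit 32) (nat_lit 0) (nat_lit 32) [nat_lit 0, nat_lit 1, nat_lit 2, nat_lit 3, nat_lit 4, nat_lit 5, nat_lit 2, nat_lit 0, nat_lit 1, nat_lit 9, nat_lit 4, nat_lit 3, nat_lit 2, nat_lit 8, nat_lit 3, nat_lit 8, nat_lit 10, nat_lit 0, nat_lit 16, nat_lit 14, nat_lit 13, nat_lit 12, nat_lit 19] (Rl.cmp (nat_lit 3004) (nat_lit 3146))))) (FT.node (nat_lit 3149) (FT.leaf (Fct.mk false (nat_lit 32) (nat_lit 0) (nat_lit 32) [nat_lit 2, nat_lit 3, nat_lit 4, nat_lit 1, nat_lit 2, nat_lit 3, nat_lit 8, nat_lit 0, nat_lit 1, nat_lit 2, nat_lit 3, nat_lit 4, nat_lit 5, nat_lit 1, nat_lit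 2, nat_lit 0, nat_lit 1, nat_lit 9, nat_lit 4, nat_lit 3, nat_lit 2, nat_lit 8, nat_lit 3, nat_lit 9, nat_lit 8, nat_lit 12, nat_lit 15, nat_lit 12] (Rl.cmp (nat_lit 3010) (nat_lit 3147)))) (FT.leaf (Fct.mk false (nat_lit 32) (nat_lit 0) (nat_lit 32) [nat_lit 5, nat_lit 4, nat_lit 3, nat_lit 8, nat_lit 0, nat_lit 1, nat_lit 2, nat_lit 3, nat_lit 4, nat_lit 5, nat_lit 1, nat_lit 8, nat_lit 4, nat_lit 3, nat_lit 2, nat_lit 0, nat_lit 1, nat_lit 9, nat_lit 4, nat_lit 3, nat_lit 2, nat_lit 8, nat_lit 3, nat_lit 2, nat_lit 16, nat_lit 14, nat_lit 12, nat_lit 19] (Rl.cmp (nat_lit 3010) (nat_lit 3144)))))))))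

/-- some facts -/
noncomputable def ftc63 : FT := FT.node (nat_lit 3175) (FT.node (nat_lit 3162) (FT.node (nat_lit 3156) (FT.node (nat_lit 3153) (FT.node (nat_lit 3151) (FT.leaf (Fct.mk false (nat_lit 5) (nat_lit 0) (nat_lit 5) [nat_lit 5, nat_lit 4, nat_lit 3, nat_lit 8, nat_lit 2, nat_lit 3, nat_lit 4, nat_lit 1, nat_lit 2, nat_lit 3, nat_lit 8, nat_lit 5, nat_lit 6, nat_lit 4, nat_lit 5, nat_lit 3, nat_lit 4, nat_lit 2, nat_lit 3, nat_lit 8, nat_lit 1, nat_lit 2, nat_lit 3, nat_lit 4, nat_lit 5, nat_lit 1, nat_lit 2, nat_lit 3, nat_lit 8, nat_lit 4, nat_lit 3, nat_lit 2, nat_lit 1, nat_lit 9, nat_lit 4, nat_lit 3, nat_lit 2, nat_lit 8, nat_lit 3, nat_lit 11, nat_lit 10, nat_lit 15, nat_lit 14, nat_lit 8, nat_lit 18, nat_lit 16] (Rl.cmp (nat_lit 1754) (nat_lit 2094)))) (FT.node (nat_lit 3152) (FT.leaf (Fct.mk false (nat_lit 5) (nat_lit 0)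 (nat_lit 5) [nat_lit 8, nat_lit 3, nat_lit 4, nat_lit 2, nat_lit 3, nat_lit 8, nat_lit 5, nat_lit 6, nat_lit 4, nat_lit 5, nat_lit 3, nat_lit 4, nat_lit 2, nat_lit 3, nat_lit 8, nat_lit 0, nat_lit 1, nat_lit 2, nat_lit 3, nat_lit 4, nat_lit 5, nat_lit 3, nat_lit 8, nat_lit 4, nat_lit 3, nat_lit 2, nat_lit 1, nat_lit 9, nat_lit 4, nat_lit 3, nat_lit 2, nat_lit 8, nat_lit 3, nat_lit 8, nat_lit 10, nat_lit 1, nat_lit 8, nat_lit 16, nat_lit 14, nat_lit 8, nat_lit 19, nat_lit 16] (Rl.cmp (nat_lit 1859) (nat_lit 3150)))) (FT.leaf (Fct.mk false (nat_lit 5) (nat_lit 0) (nat_lit 5) [nat_lit 1, nat_lit 2, nat_lit 3, nat_lit 4, nat_lit 5, nat_lit 2, nat_lit 3, nat_lit 11, nat_lit 14, nat_lit 13, nat_lit 12] (Rl.cmp (nat_lit 2094) (nat_lit 3151)))))) (FT.node (nat_lit 3154) (FT.leaf (Fct.mk false (nat_lit 32) (nat_lit 0) (nat_lit 32) [nat_lit 5, nat_lit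 4, nat_lit 3, nat_lit 8, nat_lit 0, nat_lit 1, nat_lit 2, nat_lit 3, nat_lit 4, nat_lit 5, nat_lit 2, nat_lit 0, nat_lit 1, nat_lit 4, nat_lit 3, nat_lit 2, nat_lit 8, nat_lit 3, nat_lit 10, nat_lit 2, nat_lit 8, nat_lit 10, nat_lit 1, nat_lit 16, nat_lit 15, nat_lit 14, nat_lit 16, nat_lit 8] (Rl.cmp (nat_lit 3004) (nat_lit 3004)))) (FT.node (nat_lit 3155) (FT.leaf (Fct.mk false (nat_lit 32) (nat_lit 0) (nat_lit 32) [nat_lit 5, nat_lit 4, nat_lit 3, nat_lit 8, nat_lit 2, nat_lit 3, nat_lit 4, nat_lit 1, nat_lit 2, nat_lit 3, nat_lit 8, nat_lit 5, nat_lit 6, nat_lit 4, nat_lit 5, nat_lit 3, nat_lit 4, nat_lit 2, nat_lit 3, nat_lit 8, nat_lit 1, nat_lit 2, nat_lit 3, nat_lit 4, nat_lit 5, nat_lit 3, nat_lit 8, nat_lit 4, nat_lit 3, nat_lit 2, nat_lit 1, nat_lit 9, nat_lit 4, nat_lit 3, nat_lit 2, nat_lit 8, nat_lit 3, nat_lit 10, nat_lit 1,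 nat_lit 12, nat_lit 8, nat_lit 16, nat_lit 14, nat_lit 8, nat_lit 19] (Rl.cmp (nat_lit 3004) (nat_lit 3153)))) (FT.leaf (Fct.mk false (nat_lit 32) (nat_lit 0) (nat_lit 32) [nat_lit 6, nat_lit 0, nat_lit 1, nat_lit 4, nat_lit 3, nat_lit 2, nat_lit 8, nat_lit 3, nat_lit 9, nat_lit 2, nat_lit 8, nat_lit 16, nat_lit 14, nat_lit 16, nat_lit 8, nat_lit 19] (Rl.cmp (nat_lit 3047) (nat_lit 3154))))))) (FT.node (nat_lit 3159) (FT.node (nat_lit 3157) (FT.leaf (Fct.mk false (nat_lit 32) (nat_lit 0) (nat_lit 32) [nat_lit 6, nat_lit 1, nat_lit 2, nat_lit 0, nat_lit 1, nat_lit 4, nat_lit 3, nat_lit 2, nat_lit 8, nat_lit 3, nat_lit 10, nat_lit 8, nat_lit 12, nat_lit 15, nat_lit 14, nat_lit 8] (Rl.cmp (nat_lit 3010) (nat_lit 3155)))) (FT.node (nat_lit 3158) (FT.leaf (Fct.mk false (nat_lit 5) (nat_lit 0) (nat_lit 5) [nat_lit 8, nat_lit 3, nat_lit 4, nat_lit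 2, nat_lit 3, nat_lit 8, nat_lit 7, nat_lit 5, nat_lit 6, nat_lit 4, nat_lit 5, nat_lit 3, nat_lit 4, nat_lit 2, nat_lit 3, nat_lit 8, nat_lit 0, nat_lit 1, nat_lit 2, nat_lit 3, nat_lit 4, nat_lit 5, nat_lit 6, nat_lit 7, nat_lit 0, nat_lit 1, nat_lit 2, nat_lit 3, nat_lit 4, nat_lit 5, nat_lit 1, nat_lit 8, nat_lit 3, nat_lit 2, nat_lit 0, nat_lit 1, nat_lit 4, nat_lit 3, nat_lit 2, nat_lit 8, nat_lit 3, nat_lit 11, nat_lit 8, nat_lit 12, nat_lit 15, nat_lit 14, nat_lit 13, nat_lit 12, nat_lit 19] (Rl.cmp (nat_lit 2491) (nat_lit 488)))) (FT.leaf (Fct.mk false (nat_lit 5) (nat_lit 0) (nat_lit 5) [nat_lit 2, nat_lit 3, nat_lit 8, nat_lit 4, nat_lit 5, nat_lit 3, nat_lit 4, nat_lit 2, nat_lit 3, nat_lit 8, nat_lit 6, nat_lit 7, nat_lit 5, nat_lit 6, nat_lit 4, nat_lit 5, nat_lit 3, nat_lit 4, nat_lit 2, nat_lit 3, nat_lit 8, nat_lit 1, nat_lit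 2, nat_lit 3, nat_lit 4, nat_lit 5, nat_lit 6, nat_lit 7, nat_lit 8, nat_lit 4, nat_lit 5, nat_lit 3, nat_lit 4, nat_lit 2, nat_lit 3, nat_lit 8, nat_lit 1, nat_lit 2, nat_lit 3, nat_lit 4, nat_lit 5, nat_lit 4, nat_lit 3, nat_lit 2, nat_lit 8, nat_lit 3, nat_lit 2, nat_lit 8, nat_lit 10, nat_lit 1, nat_lit 12, nat_lit 8, nat_lit 16, nat_lit 14, nat_lit 16] (Rl.cmp (nat_lit 2094) (nat_lit 3157)))))) (FT.node (nat_lit 3160) (FT.leaf (Fct.mk false (nat_lit 5) (nat_lit 0) (nat_lit 5) [nat_lit 1, nat_lit 2, nat_lit 3, nat_lit 4, nat_lit 5, nat_lit 10, nat_lit 1, nat_lit 16, nat_lit 12, nat_lit 15, nat_lit 14, nat_lit 16] (Rl.cmp (nat_lit 2491) (nat_lit 3158)))) (FT.node (nat_lit 3161) (FT.leaf (Fct.mk true (nat_lit 32) (nat_lit 11356) (nat_lit 5) [nat_lit 2, nat_lit 3, nat_lit 4, nat_lit 1, nat_lit 2, nat_lit 3, nat_lit 8, nat_lit 6, nat_lit 7,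 nat_lit 5, nat_lit 6, nat_lit 4, nat_lit 5, nat_lit 3, nat_lit 4, nat_lit 2, nat_lit 3, nat_lit 8, nat_lit 1, nat_lit 2, nat_lit 3, nat_lit 4, nat_lit 5, nat_lit 6, nat_lit 7, nat_lit 5, nat_lit 6, nat_lit 3, nat_lit 4, nat_lit 5, nat_lit 2, nat_lit 3, nat_lit 4, nat_lit 1, nat_lit 2, nat_lit 3, nat_lit 8, nat_lit 0, nat_lit 1, nat_lit 2, nat_lit 3, nat_lit 4, nat_lit 5, nat_lit 3, nat_lit 11, nat_lit 1, nat_lit 8, nat_lit 12, nat_lit 15, nat_lit 13, nat_lit 12, nat_lit 19] (Rl.rel (nat_lit 0) [nat_lit 8, nat_lit 4, nat_lit 5, nat_lit 2, nat_lit 3, nat_lit 4, nat_lit 1, nat_lit 2, nat_lit 3, nat_lit 8, nat_lit 0, nat_lit 1, nat_lit 2, nat_lit 3, nat_lit 4, nat_lit 5, nat_lit 6, nat_lit 7, nat_lit 3, nat_lit 8, nat_lit 2, nat_lit 3, nat_lit 4, nat_lit 1, nat_lit 2, nat_lit 3, nat_lit 8, nat_lit 0, nat_lit 1, nat_lit 2, nat_lit 3, nat_lit 4,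 nat_lit 5, nat_lit 3, nat_lit 2, nat_lit 1, nat_lit 8, nat_lit 3, nat_lit 2, nat_lit 0, nat_lit 1, nat_lit 4, nat_lit 3, nat_lit 2, nat_lit 8, nat_lit 3, nat_lit 18] (nat_lit 5) (nat_lit 1) [nat_lit 3139] [nat_lit 3159, nat_lit 2728]))) (FT.leaf (Fct.mk true (nat_lit 32) (nat_lit 5842) (nat_lit 5) [nat_lit 8, nat_lit 7, nat_lit 5, nat_lit 6, nat_lit 4, nat_lit 5, nat_lit 3, nat_lit 4, nat_lit 1, nat_lit 2, nat_lit 3, nat_lit 8, nat_lit 0, nat_lit 1, nat_lit 2, nat_lit 3, nat_lit 4, nat_lit 5, nat_lit 6, nat_lit 7, nat_lit 5, nat_lit 6, nat_lit 4, nat_lit 5, nat_lit 2, nat_lit 3, nat_lit 4, nat_lit 1, nat_lit 2, nat_lit 3, nat_lit 8, nat_lit 0, nat_lit 1, nat_lit 2, nat_lit 3, nat_lit 4, nat_lit 5, nat_lit 1, nat_lit 3, nat_lit 2, nat_lit 0, nat_lit 1, nat_lit 9, nat_lit 4, nat_lit 3, nat_lit 2, nat_lit 8, nat_lit 3, nat_lit 11, nat_lit 9, nat_lit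 10, nat_lit 2, nat_lit 8, nat_lit 10, nat_lit 1, nat_lit 16, nat_lit 15, nat_lit 14, nat_lit 12, nat_lit 19] (Rl.t1 (nat_lit 3160) (nat_lit 3156)))))))) (FT.node (nat_lit 3168) (FT.node (nat_lit 3165) (FT.node (nat_lit 3163) (FT.leaf (Fct.mk true (nat_lit 5) (nat_lit 36399) (nat_lit 32) [nat_lit 3, nat_lit 8, nat_lit 6, nat_lit 7, nat_lit 5, nat_lit 6, nat_lit 4, nat_lit 5, nat_lit 3, nat_lit 4, nat_lit 1, nat_lit 2, nat_lit 3, nat_lit 8, nat_lit 0, nat_lit 1, nat_lit 2, nat_lit 3, nat_lit 4, nat_lit 5, nat_lit 6, nat_lit 7, nat_lit 3, nat_lit 4, nat_lit 2, nat_lit 3, nat_lit 8, nat_lit 0, nat_lit 1, nat_lit 2, nat_lit 3, nat_lit 4, nat_lit 5, nat_lit 1, nat_lit 2, nat_lit 0, nat_lit 1, nat_lit 4, nat_lit 3, nat_lit 2, nat_lit 8, nat_lit 3, nat_lit 11, nat_lit 2, nat_lit 8, nat_lit 10, nat_lit 1, nat_lit 16, nat_lit 14, nat_lit 17, nat_lit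 12] (Rl.inv (nat_lit 3161)))) (FT.node (nat_lit 3164) (FT.leaf (Fct.mk true (nat_lit 5) (nat_lit 1557) (nat_lit 32) [nat_lit 4, nat_lit 3, nat_lit 8, nat_lit 7, nat_lit 5, nat_lit 6, nat_lit 4, nat_lit 5, nat_lit 3, nat_lit 4, nat_lit 2, nat_lit 3, nat_lit 8, nat_lit 0, nat_lit 1, nat_lit 2, nat_lit 3, nat_lit 4, nat_lit 5, nat_lit 6, nat_lit 7, nat_lit 4, nat_lit 5, nat_lit 3, nat_lit 4, nat_lit 2, nat_lit 3, nat_lit 8, nat_lit 0, nat_lit 1, nat_lit 2, nat_lit 3, nat_lit 4, nat_lit 5, nat_lit 2, nat_lit 0, nat_lit 1, nat_lit 9, nat_lit 4, nat_lit 3, nat_lit 2, nat_lit 8, nat_lit 3, nat_lit 9, nat_lit 8, nat_lit 12, nat_lit 15, nat_lit 12] (Rl.t1 (nat_lit 3162) (nat_lit 2719)))) (FT.leaf (Fct.mk false (nat_lit 32) (nat_lit 0) (nat_lit 32) [nat_lit 5, nat_lit 4, nat_lit 3, nat_lit 8, nat_lit 0, nat_lit 1, nat_lit 2, nat_lit 3, nat_lit 4, nat_lit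 5, nat_lit 2, nat_lit 0, nat_lit 1, nat_lit 4, nat_lit 3, nat_lit 2, nat_lit 8, nat_lit 3, nat_lit 10, nat_lit 2, nat_lit 8, nat_lit 10, nat_lit 1, nat_lit 16, nat_lit 15, nat_lit 14, nat_lit 16, nat_lit 8] (Rl.cmp (nat_lit 3004) (nat_lit 3004)))))) (FT.node (nat_lit 3166) (FT.leaf (Fct.mk false (nat_lit 32) (nat_lit 0) (nat_lit 32) [nat_lit 5, nat_lit 4, nat_lit 3, nat_lit 8, nat_lit 2, nat_lit 3, nat_lit 4, nat_lit 1, nat_lit 2, nat_lit 3, nat_lit 8, nat_lit 5, nat_lit 6, nat_lit 4, nat_lit 5, nat_lit 3, nat_lit 4, nat_lit 2, nat_lit 3, nat_lit 8, nat_lit 1, nat_lit 2, nat_lit 3, nat_lit 4, nat_lit 5, nat_lit 3, nat_lit 8, nat_lit 4, nat_lit 3, nat_lit 2, nat_lit 1, nat_lit 9, nat_lit 4, nat_lit 3, nat_lit 2, nat_lit 8, nat_lit 3, nat_lit 10, nat_lit 1, nat_lit 12, nat_lit 8, nat_lit 16, nat_lit 14, nat_lit 8, nat_lit 19] (Rl.cmp (nat_lit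 3004) (nat_lit 3164)))) (FT.node (nat_lit 3167) (FT.leaf (Fct.mk false (nat_lit 32) (nat_lit 0) (nat_lit 32) [nat_lit 2, nat_lit 3, nat_lit 4, nat_lit 1, nat_lit 2, nat_lit 3, nat_lit 8, nat_lit 0, nat_lit 1, nat_lit 2, nat_lit 3, nat_lit 4, nat_lit 5, nat_lit 3, nat_lit 8, nat_lit 4, nat_lit 3, nat_lit 2, nat_lit 0, nat_lit 1, nat_lit 9, nat_lit 4, nat_lit 3, nat_lit 2, nat_lit 8, nat_lit 3, nat_lit 11, nat_lit 10, nat_lit 8, nat_lit 16, nat_lit 14, nat_lit 19] (Rl.cmp (nat_lit 3010) (nat_lit 3004)))) (FT.leaf (Fct.mk false (nat_lit 32) (nat_lit 0) (nat_lit 32) [nat_lit 5, nat_lit 4, nat_lit 3, nat_lit 8, nat_lit 0, nat_lit 1, nat_lit 2, nat_lit 3, nat_lit 4, nat_lit 5, nat_lit 1, nat_lit 8, nat_lit 3, nat_lit 2, nat_lit 0, nat_lit 1, nat_lit 9, nat_lit 4, nat_lit 3, nat_lit 2, nat_lit 8, nat_lit 3, nat_lit 2, nat_lit 16, nat_lit 14, nat_lit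 12, nat_lit 19] (Rl.cmp (nat_lit 3010) (nat_lit 3166))))))) (FT.node (nat_lit 3171) (FT.node (nat_lit 3169) (FT.leaf (Fct.mk false (nat_lit 32) (nat_lit 0) (nat_lit 32) [nat_lit 5, nat_lit 4, nat_lit 3, nat_lit 8, nat_lit 2, nat_lit 3, nat_lit 4, nat_lit 1, nat_lit 2, nat_lit 3, nat_lit 8, nat_lit 5, nat_lit 6, nat_lit 4, nat_lit 5, nat_lit 3, nat_lit 4, nat_lit 2, nat_lit 3, nat_lit 8, nat_lit 1, nat_lit 2, nat_lit 3, nat_lit 4, nat_lit 5, nat_lit 2, nat_lit 1, nat_lit 8, nat_lit 3, nat_lit 2, nat_lit 0, nat_lit 1, nat_lit 4, nat_lit 3, nat_lit 2, nat_lit 8, nat_lit 3, nat_lit 10, nat_lit 9, nat_lit 2, nat_lit 8, nat_lit 16, nat_lit 15, nat_lit 14, nat_lit 16, nat_lit 8, nat_lit 18, nat_lit 16] (Rl.cmp (nat_lit 3004) (nat_lit 3167)))) (FT.node (nat_lit 3170) (FT.leaf (Fct.mk false (nat_lit 32) (nat_lit 0) (nat_lit 32) [nat_lit 6, nat_lit 1,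 nat_lit 2, nat_lit 0, nat_lit 1, nat_lit 4, nat_lit 3, nat_lit 2, nat_lit 8, nat_lit 3, nat_lit 8, nat_lit 10, nat_lit 8, nat_lit 12, nat_lit 15, nat_lit 14] (Rl.cmp (nat_lit 3047) (nat_lit 3168)))) (FT.leaf (Fct.mk true (nat_lit 32) (nat_lit 5515) (nat_lit 32) [nat_lit 2, nat_lit 3, nat_lit 4, nat_lit 1, nat_lit 2, nat_lit 3, nat_lit 8, nat_lit 0, nat_lit 1, nat_lit 2, nat_lit 3, nat_lit 4, nat_lit 5, nat_lit 6, nat_lit 7, nat_lit 1, nat_lit 3, nat_lit 2, nat_lit 8, nat_lit 3, nat_lit 11, nat_lit 15, nat_lit 14, nat_lit 17, nat_lit 18, nat_lit 16] (Rl.rel (nat_lit 0) [nat_lit 8, nat_lit 4, nat_lit 5, nat_lit 2, nat_lit 3, nat_lit 4, nat_lit 1, nat_lit 2, nat_lit 3, nat_lit 8, nat_lit 0, nat_lit 1, nat_lit 2, nat_lit 3, nat_lit 4, nat_lit 5, nat_lit 6, nat_lit 7, nat_lit 3, nat_lit 8, nat_lit 2, nat_lit 3, nat_lit 4, nat_lit 1, nat_lit 2, nat_lit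 3, nat_lit 8, nat_lit 0, nat_lit 1, nat_lit 2, nat_lit 3, nat_lit 4, nat_lit 5, nat_lit 3, nat_lit 2, nat_lit 1, nat_lit 8, nat_lit 3, nat_lit 2, nat_lit 0, nat_lit 1, nat_lit 4, nat_lit 3, nat_lit 2, nat_lit 8, nat_lit 3, nat_lit 8, nat_lit 10, nat_lit 8, nat_lit 18] (nat_lit 5) (nat_lit 1) [nat_lit 3139] [nat_lit 2747, nat_lit 3163]))))) (FT.node (nat_lit 3173) (FT.node (nat_lit 3172) (FT.leaf (Fct.mk true (nat_lit 32) (nat_lit 3203) (nat_lit 32) [nat_lit 2, nat_lit 3, nat_lit 4, nat_lit 5, nat_lit 6, nat_lit 7, nat_lit 5, nat_lit 3, nat_lit 11, nat_lit 17, nat_lit 18, nat_lit 16] (Rl.t1 (nat_lit 3170) (nat_lit 3169)))) (FT.leaf (Fct.mk false (nat_lit 32) (nat_lit 0) (nat_lit 32) [nat_lit 5, nat_lit 4, nat_lit 3, nat_lit 8, nat_lit 0, nat_lit 1, nat_lit 2, nat_lit 3, nat_lit 4, nat_lit 5, nat_lit 2, nat_lit 0, nat_lit 1, nat_lit 4, nat_lit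 3, nat_lit 2, nat_lit 8, nat_lit 3, nat_lit 10, nat_lit 2, nat_lit 8, nat_lit 10, nat_lit 1, nat_lit 16, nat_lit 15, nat_lit 14, nat_lit 16, nat_lit 8] (Rl.cmp (nat_lit 3004) (nat_lit 3004))))) (FT.node (nat_lit 3174) (FT.leaf (Fct.mk false (nat_lit 32) (nat_lit 0) (nat_lit 32) [nat_lit 2, nat_lit 3, nat_lit 4, nat_lit 1, nat_lit 2, nat_lit 3, nat_lit 8, nat_lit 0, nat_lit 1, nat_lit 2, nat_lit 3, nat_lit 4, nat_lit 5, nat_lit 1, nat_lit 4, nat_lit 3, nat_lit 2, nat_lit 8, nat_lit 3, nat_lit 11, nat_lit 2, nat_lit 16, nat_lit 14, nat_lit 13, nat_lit 12] (Rl.cmp (nat_lit 3047) (nat_lit 3172)))) (FT.leaf (Fct.mk false (nat_lit 32) (nat_lit 0) (nat_lit 32) [nat_lit 5, nat_lit 4, nat_lit 3, nat_lit 8, nat_lit 0, nat_lit 1, nat_lit 2, nat_lit 3, nat_lit 4, nat_lit 5, nat_lit 2, nat_lit 0, nat_lit 1, nat_lit 3, nat_lit 2, nat_lit 8, nat_lit 3, nat_lit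 9, nat_lit 16, nat_lit 8, nat_lit 12, nat_lit 15, nat_lit 16] (Rl.cmp (nat_lit 3010) (nat_lit 3173))))))))) (FT.node (nat_lit 3187) (FT.node (nat_lit 3181) (FT.node (nat_lit 3178) (FT.node (nat_lit 3176) (FT.leaf (Fct.mk false (nat_lit 32) (nat_lit 0) (nat_lit 32) [nat_lit 5, nat_lit 4, nat_lit 3, nat_lit 8, nat_lit 2, nat_lit 3, nat_lit 4, nat_lit 1, nat_lit 2, nat_lit 3, nat_lit 8, nat_lit 5, nat_lit 6, nat_lit 4, nat_lit 5, nat_lit 3, nat_lit 4, nat_lit 2, nat_lit 3, nat_lit 8, nat_lit 1, nat_lit 2, nat_lit 3, nat_lit 4, nat_lit 5, nat_lit 2, nat_lit 3, nat_lit 8, nat_lit 4, nat_lit 3, nat_lit 2, nat_lit 1, nat_lit 9, nat_lit 4, nat_lit 3, nat_lit 2, nat_lit 8, nat_lit 3, nat_lit 11, nat_lit 2, nat_lit 8, nat_lit 10, nat_lit 1, nat_lit 12, nat_lit 8, nat_lit 16, nat_lit 14, nat_lit 13, nat_lit 19] (Rl.cmp (nat_lit 3004) (nat_lit 3174))))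 (FT.node (nat_lit 3177) (FT.leaf (Fct.mk false (nat_lit 5) (nat_lit 0) (nat_lit 5) [nat_lit 8, nat_lit 3, nat_lit 4, nat_lit 2, nat_lit 3, nat_lit 8, nat_lit 7, nat_lit 5, nat_lit 6, nat_lit 4, nat_lit 5, nat_lit 3, nat_lit 4, nat_lit 2, nat_lit 3, nat_lit 8, nat_lit 0, nat_lit 1, nat_lit 2, nat_lit 3, nat_lit 4, nat_lit 5, nat_lit 6, nat_lit 7, nat_lit 8, nat_lit 5, nat_lit 3, nat_lit 4, nat_lit 2, nat_lit 3, nat_lit 8, nat_lit 1, nat_lit 2, nat_lit 3, nat_lit 4, nat_lit 5, nat_lit 9, nat_lit 4, nat_lit 11, nat_lit 2, nat_lit 8, nat_lit 10, nat_lit 1, nat_lit 15, nat_lit 18] (Rl.cmp (nat_lit 2491) (nat_lit 2796)))) (FT.leaf (Fct.mk false (nat_lit 5) (nat_lit 0) (nat_lit 5) [nat_lit 8, nat_lit 4, nat_lit 5, nat_lit 2, nat_lit 3, nat_lit 4, nat_lit 1, nat_lit 2, nat_lit 3, nat_lit 8, nat_lit 6, nat_lit 7, nat_lit 5, nat_lit 6, nat_lit 4, nat_lit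 5, nat_lit 3, nat_lit 4, nat_lit 2, nat_lit 3, nat_lit 8, nat_lit 1, nat_lit 2, nat_lit 3, nat_lit 4, nat_lit 5, nat_lit 6, nat_lit 7, nat_lit 6, nat_lit 5, nat_lit 3, nat_lit 4, nat_lit 2, nat_lit 3, nat_lit 8, nat_lit 1, nat_lit 2, nat_lit 3, nat_lit 4, nat_lit 5, nat_lit 1, nat_lit 2, nat_lit 8, nat_lit 3, nat_lit 11, nat_lit 2, nat_lit 8, nat_lit 12, nat_lit 15, nat_lit 17, nat_lit 18, nat_lit 16] (Rl.cmp (nat_lit 2491) (nat_lit 3176)))))) (FT.node (nat_lit 3179) (FT.leaf (Fct.mk false (nat_lit 5) (nat_lit 0) (nat_lit 5) [nat_lit 8, nat_lit 3, nat_lit 4, nat_lit 2, nat_lit 3, nat_lit 8, nat_lit 7, nat_lit 5, nat_lit 6, nat_lit 4, nat_lit 5, nat_lit 3, nat_lit 4, nat_lit 2, nat_lit 3, nat_lit 8, nat_lit 0, nat_lit 1, nat_lit 2, nat_lit 3, nat_lit 4, nat_lit 5, nat_lit 6, nat_lit 7, nat_lit 8, nat_lit 5, nat_lit 3, nat_lit 4, nat_lit 2, nat_lit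 3, nat_lit 8, nat_lit 1, nat_lit 2, nat_lit 3, nat_lit 4, nat_lit 5, nat_lit 4, nat_lit 3, nat_lit 2, nat_lit 8, nat_lit 3, nat_lit 10, nat_lit 0, nat_lit 15, nat_lit 14, nat_lit 8, nat_lit 18] (Rl.cmp (nat_lit 2094) (nat_lit 3177)))) (FT.node (nat_lit 3180) (FT.leaf (Fct.mk true (nat_lit 32) (nat_lit 118437) (nat_lit 5) [nat_lit 7, nat_lit 6, nat_lit 5, nat_lit 4, nat_lit 1, nat_lit 2, nat_lit 3, nat_lit 8, nat_lit 0, nat_lit 1, nat_lit 2, nat_lit 3, nat_lit 4, nat_lit 5, nat_lit 1, nat_lit 8, nat_lit 4, nat_lit 3, nat_lit 2, nat_lit 0, nat_lit 1, nat_lit 9, nat_lit 4, nat_lit 3, nat_lit 2, nat_lit 8, nat_lit 3, nat_lit 9, nat_lit 2, nat_lit 12, nat_lit 15, nat_lit 14, nat_lit 16, nat_lit 8, nat_lit 19] (Rl.rel (nat_lit 0) [nat_lit 8, nat_lit 5, nat_lit 6, nat_lit 4, nat_lit 5, nat_lit 3, nat_lit 4, nat_lit 1, nat_lit 2, nat_lit 3, nat_lit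 8, nat_lit 0, nat_lit 1, nat_lit 2, nat_lit 3, nat_lit 4, nat_lit 5, nat_lit 6, nat_lit 7, nat_lit 3, nat_lit 8, nat_lit 2, nat_lit 3, nat_lit 4, nat_lit 1, nat_lit 2, nat_lit 3, nat_lit 8, nat_lit 0, nat_lit 1, nat_lit 2, nat_lit 3, nat_lit 4, nat_lit 5, nat_lit 8, nat_lit 10, nat_lit 8, nat_lit 12, nat_lit 15, nat_lit 14] (nat_lit 5) (nat_lit 1) [nat_lit 3139] [nat_lit 3178, nat_lit 2652]))) (FT.leaf (Fct.mk true (nat_lit 32) (nat_lit 186) (nat_lit 5) [nat_lit 6, nat_lit 5, nat_lit 4, nat_lit 3, nat_lit 8, nat_lit 2, nat_lit 3, nat_lit 4, nat_lit 1, nat_lit 2, nat_lit 3, nat_lit 8, nat_lit 5, nat_lit 6, nat_lit 4, nat_lit 5, nat_lit 3, nat_lit 4, nat_lit 2, nat_lit 3, nat_lit 8, nat_lit 1, nat_lit 2, nat_lit 3, nat_lit 4, nat_lit 5, nat_lit 6, nat_lit 7, nat_lit 6, nat_lit 3, nat_lit 4, nat_lit 5, nat_lit 2, nat_lit 3, nat_lit 4, nat_lit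 1, nat_lit 2, nat_lit 3, nat_lit 8, nat_lit 0, nat_lit 1, nat_lit 2, nat_lit 3, nat_lit 4, nat_lit 5, nat_lit 3, nat_lit 2, nat_lit 8, nat_lit 3, nat_lit 9, nat_lit 10, nat_lit 2, nat_lit 8, nat_lit 10, nat_lit 1, nat_lit 16, nat_lit 14, nat_lit 8] (Rl.t1 (nat_lit 3179) (nat_lit 3175))))))) (FT.node (nat_lit 3184) (FT.node (nat_lit 3182) (FT.leaf (Fct.mk true (nat_lit 5) (nat_lit 114485) (nat_lit 32) [nat_lit 5, nat_lit 4, nat_lit 3, nat_lit 8, nat_lit 1, nat_lit 2, nat_lit 3, nat_lit 4, nat_lit 5, nat_lit 6, nat_lit 7, nat_lit 8, nat_lit 5, nat_lit 6, nat_lit 4, nat_lit 5, nat_lit 2, nat_lit 3, nat_lit 4, nat_lit 1, nat_lit 2, nat_lit 3, nat_lit 8, nat_lit 0, nat_lit 1, nat_lit 2, nat_lit 3, nat_lit 4, nat_lit 5, nat_lit 1, nat_lit 3, nat_lit 2, nat_lit 8, nat_lit 3, nat_lit 12, nat_lit 15, nat_lit 13, nat_lit 16] (Rl.inv (nat_lit 3180))))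 (FT.node (nat_lit 3183) (FT.leaf (Fct.mk true (nat_lit 5) (nat_lit 953) (nat_lit 32) [nat_lit 4, nat_lit 2, nat_lit 3, nat_lit 8, nat_lit 1, nat_lit 2, nat_lit 3, nat_lit 4, nat_lit 5, nat_lit 6, nat_lit 7, nat_lit 6, nat_lit 5, nat_lit 4, nat_lit 2, nat_lit 3, nat_lit 8, nat_lit 0, nat_lit 1, nat_lit 2, nat_lit 3, nat_lit 4, nat_lit 5, nat_lit 0, nat_lit 1, nat_lit 9, nat_lit 4, nat_lit 3, nat_lit 2, nat_lit 8, nat_lit 3, nat_lit 0, nat_lit 16, nat_lit 14, nat_lit 13, nat_lit 12, nat_lit 19] (Rl.t1 (nat_lit 3181) (nat_lit 2795)))) (FT.leaf (Fct.mk false (nat_lit 5) (nat_lit 0) (nat_lit 5) [nat_lit 5] (Rl.cmp (nat_lit 493) (nat_lit 470)))))) (FT.node (nat_lit 3185) (FT.leaf (Fct.mk false (nat_lit 5) (nat_lit 0) (nat_lit 5) [nat_lit 6, nat_lit 2, nat_lit 3, nat_lit 2, nat_lit 12, nat_lit 15, nat_lit 14, nat_lit 12] (Rl.cmp (nat_lit 493) (nat_lit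 511)))) (FT.node (nat_lit 3186) (FT.leaf (Fct.mk false (nat_lit 5) (nat_lit 0) (nat_lit 5) [nat_lit 8, nat_lit 3, nat_lit 4, nat_lit 2, nat_lit 3, nat_lit 8, nat_lit 7, nat_lit 5, nat_lit 6, nat_lit 4, nat_lit 5, nat_lit 3, nat_lit 4, nat_lit 2, nat_lit 3, nat_lit 8, nat_lit 0, nat_lit 1, nat_lit 2, nat_lit 3, nat_lit 4, nat_lit 5, nat_lit 6, nat_lit 7, nat_lit 8, nat_lit 5, nat_lit 3, nat_lit 4, nat_lit 2, nat_lit 3, nat_lit 8, nat_lit 1, nat_lit 2, nat_lit 3, nat_lit 4, nat_lit 5, nat_lit 9, nat_lit 4, nat_lit 10, nat_lit 1, nat_lit 8, nat_lit 16, nat_lit 14, nat_lit 16, nat_lit 8, nat_lit 19, nat_lit 16] (Rl.cmp (nat_lit 2491) (nat_lit 3184)))) (FT.leaf (Fct.mk false (nat_lit 5) (nat_lit 0) (nat_lit 5) [nat_lit 8, nat_lit 3, nat_lit 4, nat_lit 2, nat_lit 3, nat_lit 8, nat_lit 7, nat_lit 5, nat_lit 6, nat_lit 4, nat_lit 5, nat_lit 3, nat_lit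 4, nat_lit 2, nat_lit 3, nat_lit 8, nat_lit 0, nat_lit 1, nat_lit 2, nat_lit 3, nat_lit 4, nat_lit 5, nat_lit 6, nat_lit 7, nat_lit 6, nat_lit 4, nat_lit 5, nat_lit 3, nat_lit 4, nat_lit 2, nat_lit 3, nat_lit 8, nat_lit 1, nat_lit 2, nat_lit 3, nat_lit 4, nat_lit 5, nat_lit 1, nat_lit 2, nat_lit 3, nat_lit 8, nat_lit 4, nat_lit 3, nat_lit 2, nat_lit 1, nat_lit 9, nat_lit 4, nat_lit 3, nat_lit 2, nat_lit 8, nat_lit 3, nat_lit 10, nat_lit 14, nat_lit 12, nat_lit 16] (Rl.cmp (nat_lit 470) (nat_lit 3185)))))))) (FT.node (nat_lit 3193) (FT.node (nat_lit 3190) (FT.node (nat_lit 3188) (FT.leaf (Fct.mk false (nat_lit 32) (nat_lit 0) (nat_lit 32) [nat_lit 5, nat_lit 4, nat_lit 3, nat_lit 8, nat_lit 0, nat_lit 1, nat_lit 2, nat_lit 3, nat_lit 4, nat_lit 5, nat_lit 2, nat_lit 0, nat_lit 1, nat_lit 4, nat_lit 3, nat_lit 2, nat_lit 8, nat_lit 3, nat_lit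 10, nat_lit 2, nat_lit 8, nat_lit 10, nat_lit 1, nat_lit 16, nat_lit 15, nat_lit 14, nat_lit 16, nat_lit 8] (Rl.cmp (nat_lit 3004) (nat_lit 3004)))) (FT.node (nat_lit 3189) (FT.leaf (Fct.mk false (nat_lit 32) (nat_lit 0) (nat_lit 32) [nat_lit 5, nat_lit 4, nat_lit 3, nat_lit 8, nat_lit 2, nat_lit 3, nat_lit 4, nat_lit 1, nat_lit 2, nat_lit 3, nat_lit 8, nat_lit 5, nat_lit 6, nat_lit 4, nat_lit 5, nat_lit 3, nat_lit 4, nat_lit 2, nat_lit 3, nat_lit 8, nat_lit 1, nat_lit 2, nat_lit 3, nat_lit 4, nat_lit 5, nat_lit 3, nat_lit 8, nat_lit 4, nat_lit 3, nat_lit 2, nat_lit 1, nat_lit 9, nat_lit 4, nat_lit 3, nat_lit 2, nat_lit 8, nat_lit 3, nat_lit 10, nat_lit 1, nat_lit 12, nat_lit 8, nat_lit 16, nat_lit 14, nat_lit 8, nat_lit 19] (Rl.cmp (nat_lit 3004) (nat_lit 3187)))) (FT.leaf (Fct.mk false (nat_lit 32) (nat_lit 0) (nat_lit 32) [nat_lit 6, nat_lit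 0, nat_lit 1, nat_lit 4, nat_lit 3, nat_lit 2, nat_lit 8, nat_lit 3, nat_lit 9, nat_lit 2, nat_lit 8, nat_lit 16, nat_lit 14, nat_lit 16, nat_lit 8, nat_lit 19] (Rl.cmp (nat_lit 3047) (nat_lit 3188)))))) (FT.node (nat_lit 3191) (FT.leaf (Fct.mk false (nat_lit 32) (nat_lit 0) (nat_lit 32) [nat_lit 6, nat_lit 1, nat_lit 2, nat_lit 0, nat_lit 1, nat_lit 4, nat_lit 3, nat_lit 2, nat_lit 8, nat_lit 3, nat_lit 10, nat_lit 8, nat_lit 12, nat_lit 15, nat_lit 14, nat_lit 8] (Rl.cmp (nat_lit 3010) (nat_lit 3189)))) (FT.node (nat_lit 3192) (FT.leaf (Fct.mk false (nat_lit 5) (nat_lit 0) (nat_lit 5) [nat_lit 4, nat_lit 3, nat_lit 8, nat_lit 2, nat_lit 3, nat_lit 4, nat_lit 1, nat_lit 2, nat_lit 3, nat_lit 8, nat_lit 6, nat_lit 7, nat_lit 5, nat_lit 6, nat_lit 4, nat_lit 5, nat_lit 3, nat_lit 4, nat_lit 2, nat_lit 3, nat_lit 8, nat_lit 1, nat_lit 2, nat_lit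 3, nat_lit 4, nat_lit 5, nat_lit 6, nat_lit 7, nat_lit 8, nat_lit 3, nat_lit 4, nat_lit 2, nat_lit 3, nat_lit 8, nat_lit 5, nat_lit 6, nat_lit 4, nat_lit 5, nat_lit 3, nat_lit 4, nat_lit 2, nat_lit 3, nat_lit 8, nat_lit 0, nat_lit 1, nat_lit 2, nat_lit 3, nat_lit 4, nat_lit 5, nat_lit 3, nat_lit 8, nat_lit 4, nat_lit 3, nat_lit 2, nat_lit 0, nat_lit 1, nat_lit 9, nat_lit 4, nat_lit 3, nat_lit 2, nat_lit 8, nat_lit 3, nat_lit 2, nat_lit 12, nat_lit 8, nat_lit 16, nat_lit 14, nat_lit 16, nat_lit 8, nat_lit 19] (Rl.cmp (nat_lit 511) (nat_lit 2883)))) (FT.leaf (Fct.mk false (nat_lit 5) (nat_lit 0) (nat_lit 5) [nat_lit 8, nat_lit 3, nat_lit 4, nat_lit 2, nat_lit 3, nat_lit 8, nat_lit 7, nat_lit 5, nat_lit 6, nat_lit 4, nat_lit 5, nat_lit 3, nat_lit 4, nat_lit 2, nat_lit 3, nat_lit 8, nat_lit 0, nat_lit 1, nat_lit 2, nat_lit 3, nat_lit 4, nat_lit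 5, nat_lit 6, nat_lit 7, nat_lit 2, nat_lit 3, nat_lit 8, nat_lit 4, nat_lit 5, nat_lit 3, nat_lit 4, nat_lit 2, nat_lit 3, nat_lit 8, nat_lit 1, nat_lit 2, nat_lit 3, nat_lit 4, nat_lit 5, nat_lit 4, nat_lit 3, nat_lit 2, nat_lit 1, nat_lit 8, nat_lit 3, nat_lit 2, nat_lit 0, nat_lit 1, nat_lit 4, nat_lit 3, nat_lit 2, nat_lit 8, nat_lit 3, nat_lit 2, nat_lit 10, nat_lit 1, nat_lit 12] (Rl.cmp (nat_lit 1859) (nat_lit 3191))))))) (FT.node (nat_lit 3196) (FT.node (nat_lit 3194) (FT.leaf (Fct.mk true (nat_lit 32) (nat_lit 2065) (nat_lit 5) [nat_lit 8, nat_lit 6, nat_lit 7, nat_lit 5, nat_lit 6, nat_lit 4, nat_lit 5, nat_lit 3, nat_lit 4, nat_lit 1, nat_lit 2, nat_lit 3, nat_lit 8, nat_lit 0, nat_lit 1, nat_lit 2, nat_lit 3, nat_lit 4, nat_lit 5, nat_lit 6, nat_lit 7, nat_lit 4, nat_lit 3, nat_lit 8, nat_lit 2, nat_lit 3, nat_lit 4, nat_lit 5,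 nat_lit 9, nat_lit 4, nat_lit 8, nat_lit 10, nat_lit 15, nat_lit 14, nat_lit 13, nat_lit 12, nat_lit 19, nat_lit 16] (Rl.rel (nat_lit 0) [nat_lit 5, nat_lit 4, nat_lit 1, nat_lit 2, nat_lit 3, nat_lit 8, nat_lit 0, nat_lit 1, nat_lit 2, nat_lit 3, nat_lit 4, nat_lit 5, nat_lit 6, nat_lit 7, nat_lit 8, nat_lit 3, nat_lit 4, nat_lit 1, nat_lit 2, nat_lit 3, nat_lit 8, nat_lit 0, nat_lit 1, nat_lit 2, nat_lit 3, nat_lit 4, nat_lit 5, nat_lit 3, nat_lit 2, nat_lit 1, nat_lit 8, nat_lit 3, nat_lit 2, nat_lit 0, nat_lit 1, nat_lit 4, nat_lit 3, nat_lit 2, nat_lit 8, nat_lit 3, nat_lit 0, nat_lit 8, nat_lit 18] (nat_lit 5) (nat_lit 1) [nat_lit 3139] [nat_lit 3192, nat_lit 2703]))) (FT.node (nat_lit 3195) (FT.leaf (Fct.mk true (nat_lit 32) (nat_lit 1302) (nat_lit 5) [nat_lit 2, nat_lit 3, nat_lit 4, nat_lit 1, nat_lit 2, nat_lit 3, nat_lit 8, nat_lit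 7, nat_lit 5, nat_lit 6, nat_lit 4, nat_lit 5, nat_lit 3, nat_lit 4, nat_lit 2, nat_lit 3, nat_lit 8, nat_lit 1, nat_lit 2, nat_lit 3, nat_lit 4, nat_lit 5, nat_lit 6, nat_lit 7, nat_lit 5, nat_lit 3, nat_lit 4, nat_lit 1, nat_lit 2, nat_lit 3, nat_lit 8, nat_lit 0, nat_lit 1, nat_lit 2, nat_lit 3, nat_lit 4, nat_lit 5, nat_lit 9, nat_lit 4, nat_lit 10, nat_lit 0, nat_lit 15, nat_lit 16, nat_lit 8, nat_lit 19] (Rl.t1 (nat_lit 3193) (nat_lit 3190)))) (FT.leaf (Fct.mk true (nat_lit 5) (nat_lit 59822) (nat_lit 32) [nat_lit 8, nat_lit 6, nat_lit 7, nat_lit 5, nat_lit 6, nat_lit 4, nat_lit 5, nat_lit 3, nat_lit 4, nat_lit 1, nat_lit 2, nat_lit 3, nat_lit 8, nat_lit 0, nat_lit 1, nat_lit 2, nat_lit 3, nat_lit 4, nat_lit 5, nat_lit 6, nat_lit 7, nat_lit 5, nat_lit 6, nat_lit 4, nat_lit 5, nat_lit 3, nat_lit 4, nat_lit 2, nat_lit 3, nat_lit 8, nat_lit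 1, nat_lit 2, nat_lit 3, nat_lit 4, nat_lit 5, nat_lit 1, nat_lit 2, nat_lit 8, nat_lit 3, nat_lit 10, nat_lit 1, nat_lit 12, nat_lit 15, nat_lit 14] (Rl.inv (nat_lit 3194)))))) (FT.node (nat_lit 3198) (FT.node (nat_lit 3197) (FT.leaf (Fct.mk true (nat_lit 5) (nat_lit 2065) (nat_lit 32) [nat_lit 3, nat_lit 8, nat_lit 0, nat_lit 1, nat_lit 2, nat_lit 3, nat_lit 4, nat_lit 5, nat_lit 6, nat_lit 7, nat_lit 5, nat_lit 1, nat_lit 3, nat_lit 2, nat_lit 8, nat_lit 3, nat_lit 1, nat_lit 9, nat_lit 12, nat_lit 15, nat_lit 14, nat_lit 8, nat_lit 18] (Rl.t1 (nat_lit 3195) (nat_lit 2677)))) (FT.leaf (Fct.mk false (nat_lit 5) (nat_lit 0) (nat_lit 5) [nat_lit 8, nat_lit 3, nat_lit 4, nat_lit 2, nat_lit 3, nat_lit 8, nat_lit 7, nat_lit 5, nat_lit 6, nat_lit 4, nat_lit 5, nat_lit 3, nat_lit 4, nat_lit 2, nat_lit 3, nat_lit 8, nat_lit 0, nat_lit 1, nat_lit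 2, nat_lit 3, nat_lit 4, nat_lit 5, nat_lit 6, nat_lit 7, nat_lit 0, nat_lit 1, nat_lit 2, nat_lit 3, nat_lit 4, nat_lit 5, nat_lit 9, nat_lit 4, nat_lit 1, nat_lit 15, nat_lit 14, nat_lit 13] (Rl.cmp (nat_lit 2491) (nat_lit 2928))))) (FT.node (nat_lit 3199) (FT.leaf (Fct.mk false (nat_lit 5) (nat_lit 0) (nat_lit 5) [nat_lit 8, nat_lit 3, nat_lit 4, nat_lit 2, nat_lit 3, nat_lit 8, nat_lit 7, nat_lit 5, nat_lit 6, nat_lit 4, nat_lit 5, nat_lit 3, nat_lit 4, nat_lit 2, nat_lit 3, nat_lit 8, nat_lit 0, nat_lit 1, nat_lit 2, nat_lit 3, nat_lit 4, nat_lit 5, nat_lit 6, nat_lit 7, nat_lit 5, nat_lit 6, nat_lit 4, nat_lit 5, nat_lit 3, nat_lit 4, nat_lit 2, nat_lit 3, nat_lit 8, nat_lit 1, nat_lit 2, nat_lit 3, nat_lit 4, nat_lit 5, nat_lit 1, nat_lit 2, nat_lit 3, nat_lit 8, nat_lit 4, nat_lit 3, nat_lit 2, nat_lit 1, nat_lit 9, nat_lit 4, nat_lit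 3, nat_lit 2, nat_lit 8, nat_lit 3, nat_lit 12, nat_lit 15, nat_lit 12, nat_lit 16] (Rl.cmp (nat_lit 1754) (nat_lit 3197)))) (FT.leaf (Fct.mk false (nat_lit 32) (nat_lit 0) (nat_lit 32) [nat_lit 5, nat_lit 4, nat_lit 3, nat_lit 8, nat_lit 2, nat_lit 3, nat_lit 4, nat_lit 5, nat_lit 4, nat_lit 3, nat_lit 2, nat_lit 8, nat_lit 3, nat_lit 11, nat_lit 2, nat_lit 13, nat_lit 19] (Rl.cmp (nat_lit 3047) (nat_lit 3010)))))))))

/-- some facts -/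
noncomputable def ftc64 : FT := FT.node (nat_lit 3225) (FT.node (nat_lit 3212) (FT.node (nat_lit 3206) (FT.node (nat_lit 3203) (FT.node (nat_lit 3201) (FT.leaf (Fct.mk false (nat_lit 32) (nat_lit 0) (nat_lit 32) [nat_lit 5, nat_lit 6, nat_lit 4, nat_lit 5, nat_lit 3, nat_lit 4, nat_lit 2, nat_lit 3, nat_lit 8, nat_lit 1, nat_lit 2, nat_lit 3, nat_lit 4, nat_lit 5, nat_lit 2, nat_lit 1, nat_lit 8, nat_lit 3, nat_lit 2, nat_lit 0, nat_lit 1, nat_lit 9, nat_lit 4, nat_lit 3, nat_lit 2, nat_lit 8, nat_lit 3, nat_lit 12, nat_lit 15, nat_lit 14, nat_lit 17, nat_lit 16] (Rl.cmp (nat_lit 3004) (nat_lit 3199)))) (FT.node (nat_lit 3202) (FT.leaf (Fct.mk false (nat_lit 32) (nat_lit 0) (nat_lit 32) [nat_lit 8, nat_lit 3, nat_lit 4, nat_lit 1, nat_lit 2, nat_lit 3, nat_lit 8, nat_lit 5, nat_lit 6, nat_lit 4, nat_lit 5, nat_lit 3, nat_lit 4, nat_lit 2, nat_lit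 3, nat_lit 8, nat_lit 1, nat_lit 2, nat_lit 3, nat_lit 4, nat_lit 5, nat_lit 3, nat_lit 2, nat_lit 1, nat_lit 4, nat_lit 3, nat_lit 2, nat_lit 0, nat_lit 1, nat_lit 9, nat_lit 4, nat_lit 3, nat_lit 2, nat_lit 8, nat_lit 3, nat_lit 16, nat_lit 15, nat_lit 14, nat_lit 16, nat_lit 8, nat_lit 19, nat_lit 16] (Rl.cmp (nat_lit 3010) (nat_lit 3200)))) (FT.leaf (Fct.mk false (nat_lit 32) (nat_lit 0) (nat_lit 32) [nat_lit 8, nat_lit 5, nat_lit 6, nat_lit 4, nat_lit 5, nat_lit 2, nat_lit 3, nat_lit 4, nat_lit 1, nat_lit 2, nat_lit 3, nat_lit 8, nat_lit 0, nat_lit 1, nat_lit 2, nat_lit 3, nat_lit 4, nat_lit 5, nat_lit 8, nat_lit 3, nat_lit 2, nat_lit 1, nat_lit 9, nat_lit 4, nat_lit 3, nat_lit 2, nat_lit 8, nat_lit 3, nat_lit 0, nat_lit 2, nat_lit 16, nat_lit 8, nat_lit 12, nat_lit 15, nat_lit 8, nat_lit 16] (Rl.cmp (nat_lit 3004) (nat_lit 3201))))))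 (FT.node (nat_lit 3204) (FT.leaf (Fct.mk false (nat_lit 32) (nat_lit 0) (nat_lit 32) [nat_lit 8, nat_lit 1, nat_lit 2, nat_lit 3, nat_lit 4, nat_lit 5, nat_lit 3, nat_lit 2, nat_lit 1, nat_lit 8, nat_lit 3, nat_lit 2, nat_lit 0, nat_lit 1, nat_lit 4, nat_lit 3, nat_lit 2, nat_lit 8, nat_lit 3, nat_lit 9, nat_lit 2, nat_lit 16, nat_lit 15, nat_lit 14, nat_lit 12, nat_lit 18] (Rl.cmp (nat_lit 3047) (nat_lit 3202)))) (FT.node (nat_lit 3205) (FT.leaf (Fct.mk false (nat_lit 32) (nat_lit 0) (nat_lit 32) [nat_lit 8, nat_lit 2, nat_lit 3, nat_lit 4, nat_lit 5, nat_lit 0, nat_lit 1, nat_lit 2, nat_lit 8, nat_lit 3, nat_lit 11, nat_lit 2, nat_lit 10, nat_lit 1, nat_lit 15, nat_lit 13, nat_lit 12, nat_lit 18] (Rl.cmp (nat_lit 3010) (nat_lit 3203)))) (FT.leaf (Fct.mk false (nat_lit 5) (nat_lit 0) (nat_lit 5) [nat_lit 0, nat_lit 1, nat_lit 2, nat_lit 3,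 nat_lit 4, nat_lit 5, nat_lit 1, nat_lit 2, nat_lit 3, nat_lit 11, nat_lit 10, nat_lit 15, nat_lit 14, nat_lit 13] (Rl.cmp (nat_lit 488) (nat_lit 511))))))) (FT.node (nat_lit 3209) (FT.node (nat_lit 3207) (FT.leaf (Fct.mk false (nat_lit 5) (nat_lit 0) (nat_lit 5) [nat_lit 8, nat_lit 3, nat_lit 4, nat_lit 2, nat_lit 3, nat_lit 8, nat_lit 5, nat_lit 6, nat_lit 4, nat_lit 5, nat_lit 3, nat_lit 4, nat_lit 2, nat_lit 3, nat_lit 8, nat_lit 1, nat_lit 2, nat_lit 3, nat_lit 4, nat_lit 5, nat_lit 2, nat_lit 3, nat_lit 8, nat_lit 4, nat_lit 3, nat_lit 2, nat_lit 1, nat_lit 9, nat_lit 4, nat_lit 3, nat_lit 2, nat_lit 8, nat_lit 3, nat_lit 11, nat_lit 10, nat_lit 1, nat_lit 8, nat_lit 16, nat_lit 14, nat_lit 17, nat_lit 12, nat_lit 16] (Rl.cmp (nat_lit 2094) (nat_lit 3205)))) (FT.node (nat_lit 3208) (FT.leaf (Fct.mk false (nat_lit 5) (nat_lit 0) (nat_lit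 5) [nat_lit 8, nat_lit 3, nat_lit 4, nat_lit 2, nat_lit 3, nat_lit 8, nat_lit 7, nat_lit 5, nat_lit 6, nat_lit 4, nat_lit 5, nat_lit 3, nat_lit 4, nat_lit 2, nat_lit 3, nat_lit 8, nat_lit 0, nat_lit 1, nat_lit 2, nat_lit 3, nat_lit 4, nat_lit 5, nat_lit 6, nat_lit 7, nat_lit 6, nat_lit 5, nat_lit 4, nat_lit 3, nat_lit 8, nat_lit 2, nat_lit 3, nat_lit 4, nat_lit 5, nat_lit 1, nat_lit 9, nat_lit 4, nat_lit 3, nat_lit 2, nat_lit 8, nat_lit 3, nat_lit 0, nat_lit 2, nat_lit 12, nat_lit 15, nat_lit 14, nat_lit 17, nat_lit 12, nat_lit 18] (Rl.cmp (nat_lit 2491) (nat_lit 3206)))) (FT.leaf (Fct.mk false (nat_lit 5) (nat_lit 0) (nat_lit 5) [nat_lit 2, nat_lit 3, nat_lit 8, nat_lit 4, nat_lit 5, nat_lit 3, nat_lit 4, nat_lit 2, nat_lit 3, nat_lit 8, nat_lit 6, nat_lit 7, nat_lit 5, nat_lit 6, nat_lit 4, nat_lit 5, nat_lit 3, nat_lit 4, nat_lit 2, nat_lit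 3, nat_lit 8, nat_lit 1, nat_lit 2, nat_lit 3, nat_lit 4, nat_lit 5, nat_lit 6, nat_lit 7, nat_lit 6, nat_lit 5, nat_lit 4, nat_lit 3, nat_lit 8, nat_lit 2, nat_lit 3, nat_lit 4, nat_lit 1, nat_lit 2, nat_lit 3, nat_lit 8, nat_lit 5, nat_lit 6, nat_lit 4, nat_lit 5, nat_lit 3, nat_lit 4, nat_lit 2, nat_lit 3, nat_lit 8, nat_lit 1, nat_lit 2, nat_lit 3, nat_lit 4, nat_lit 5, nat_lit 11, nat_lit 10, nat_lit 1, nat_lit 13, nat_lit 16] (Rl.cmp (nat_lit 2094) (nat_lit 3207)))))) (FT.node (nat_lit 3210) (FT.leaf (Fct.mk false (nat_lit 5) (nat_lit 0) (nat_lit 5) [nat_lit 0, nat_lit 1, nat_lit 2, nat_lit 3, nat_lit 4, nat_lit 5, nat_lit 1, nat_lit 2, nat_lit 3, nat_lit 11, nat_lit 10, nat_lit 1, nat_lit 15, nat_lit 14, nat_lit 13] (Rl.cmp (nat_lit 511) (nat_lit 493)))) (FT.node (nat_lit 3211) (FT.leaf (Fct.mk false (nat_lit 5) (nat_lit 0) (nat_lit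 5) [nat_lit 6, nat_lit 1, nat_lit 2, nat_lit 3, nat_lit 9, nat_lit 16, nat_lit 15, nat_lit 14, nat_lit 12] (Rl.cmp (nat_lit 1754) (nat_lit 3209)))) (FT.leaf (Fct.mk false (nat_lit 5) (nat_lit 0) (nat_lit 5) [nat_lit 8, nat_lit 3, nat_lit 4, nat_lit 2, nat_lit 3, nat_lit 8, nat_lit 7, nat_lit 5, nat_lit 6, nat_lit 4, nat_lit 5, nat_lit 3, nat_lit 4, nat_lit 2, nat_lit 3, nat_lit 8, nat_lit 0, nat_lit 1, nat_lit 2, nat_lit 3, nat_lit 4, nat_lit 5, nat_lit 6, nat_lit 7, nat_lit 8, nat_lit 5, nat_lit 3, nat_lit 4, nat_lit 2, nat_lit 3, nat_lit 8, nat_lit 1, nat_lit 2, nat_lit 3, nat_lit 4, nat_lit 5, nat_lit 8, nat_lit 3, nat_lit 2, nat_lit 1, nat_lit 4, nat_lit 3, nat_lit 2, nat_lit 8, nat_lit 3, nat_lit 0, nat_lit 2, nat_lit 15, nat_lit 18, nat_lit 16] (Rl.cmp (nat_lit 2491) (nat_lit 3210)))))))) (FT.node (nat_lit 3218) (FT.node (nat_lit 3215)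 (FT.node (nat_lit 3213) (FT.leaf (Fct.mk false (nat_lit 5) (nat_lit 0) (nat_lit 5) [nat_lit 4, nat_lit 3, nat_lit 8, nat_lit 2, nat_lit 3, nat_lit 4, nat_lit 1, nat_lit 2, nat_lit 3, nat_lit 8, nat_lit 6, nat_lit 7, nat_lit 5, nat_lit 6, nat_lit 4, nat_lit 5, nat_lit 3, nat_lit 4, nat_lit 2, nat_lit 3, nat_lit 8, nat_lit 1, nat_lit 2, nat_lit 3, nat_lit 4, nat_lit 5, nat_lit 6, nat_lit 7, nat_lit 8, nat_lit 3, nat_lit 4, nat_lit 2, nat_lit 3, nat_lit 8, nat_lit 1, nat_lit 2, nat_lit 3, nat_lit 4, nat_lit 5, nat_lit 8, nat_lit 3, nat_lit 2, nat_lit 1, nat_lit 4, nat_lit 3, nat_lit 2, nat_lit 8, nat_lit 3, nat_lit 10, nat_lit 0, nat_lit 15, nat_lit 14, nat_lit 8, nat_lit 18, nat_lit 16] (Rl.cmp (nat_lit 511) (nat_lit 3211)))) (FT.node (nat_lit 3214) (FT.leaf (Fct.mk true (nat_lit 32) (nat_lit 3047) (nat_lit 5) [nat_lit 3, nat_lit 4, nat_lit 2,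 nat_lit 3, nat_lit 8, nat_lit 1, nat_lit 2, nat_lit 3, nat_lit 4, nat_lit 5, nat_lit 6, nat_lit 7, nat_lit 3, nat_lit 4, nat_lit 5, nat_lit 8, nat_lit 4, nat_lit 3, nat_lit 2, nat_lit 0, nat_lit 1, nat_lit 9, nat_lit 4, nat_lit 3, nat_lit 2, nat_lit 8, nat_lit 3, nat_lit 0, nat_lit 8, nat_lit 12, nat_lit 15, nat_lit 14, nat_lit 19] (Rl.rel (nat_lit 0) [nat_lit 8, nat_lit 5, nat_lit 6, nat_lit 4, nat_lit 5, nat_lit 3, nat_lit 4, nat_lit 1, nat_lit 2, nat_lit 3, nat_lit 8, nat_lit 0, nat_lit 1, nat_lit 2, nat_lit 3, nat_lit 4, nat_lit 5, nat_lit 6, nat_lit 7, nat_lit 3, nat_lit 8, nat_lit 2, nat_lit 3, nat_lit 4, nat_lit 1, nat_lit 2, nat_lit 3, nat_lit 8, nat_lit 0, nat_lit 1, nat_lit 2, nat_lit 3, nat_lit 4, nat_lit 5, nat_lit 3, nat_lit 2, nat_lit 1, nat_lit 8, nat_lit 3, nat_lit 2, nat_lit 0, nat_lit 1, nat_lit 9, nat_lit 4, nat_lit 3, nat_lit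 2, nat_lit 8, nat_lit 3, nat_lit 10, nat_lit 17, nat_lit 18] (nat_lit 5) (nat_lit 1) [nat_lit 3139] [nat_lit 3208, nat_lit 2432]))) (FT.leaf (Fct.mk true (nat_lit 32) (nat_lit 184) (nat_lit 5) [nat_lit 2, nat_lit 3, nat_lit 8, nat_lit 4, nat_lit 5, nat_lit 3, nat_lit 4, nat_lit 2, nat_lit 3, nat_lit 8, nat_lit 1, nat_lit 2, nat_lit 3, nat_lit 4, nat_lit 5, nat_lit 6, nat_lit 7, nat_lit 2, nat_lit 1, nat_lit 4, nat_lit 3, nat_lit 2, nat_lit 0, nat_lit 1, nat_lit 9, nat_lit 4, nat_lit 3, nat_lit 2, nat_lit 8, nat_lit 3, nat_lit 8, nat_lit 10, nat_lit 0, nat_lit 8, nat_lit 12, nat_lit 15, nat_lit 14, nat_lit 19] (Rl.t1 (nat_lit 3213) (nat_lit 3204)))))) (FT.node (nat_lit 3216) (FT.leaf (Fct.mk true (nat_lit 5) (nat_lit 28282) (nat_lit 32) [nat_lit 1, nat_lit 2, nat_lit 3, nat_lit 8, nat_lit 0, nat_lit 1, nat_lit 2, nat_lit 3, nat_lit 4, nat_lit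 5, nat_lit 6, nat_lit 7, nat_lit 3, nat_lit 8, nat_lit 6, nat_lit 5, nat_lit 2, nat_lit 3, nat_lit 4, nat_lit 1, nat_lit 2, nat_lit 3, nat_lit 8, nat_lit 0, nat_lit 1, nat_lit 2, nat_lit 3, nat_lit 4, nat_lit 5, nat_lit 1, nat_lit 2, nat_lit 8, nat_lit 3, nat_lit 9, nat_lit 8, nat_lit 12, nat_lit 15, nat_lit 8] (Rl.inv (nat_lit 3214)))) (FT.node (nat_lit 3217) (FT.leaf (Fct.mk true (nat_lit 5) (nat_lit 955) (nat_lit 32) [nat_lit 5, nat_lit 3, nat_lit 4, nat_lit 2, nat_lit 3, nat_lit 8, nat_lit 6, nat_lit 7, nat_lit 5, nat_lit 6, nat_lit 4, nat_lit 5, nat_lit 3, nat_lit 4, nat_lit 2, nat_lit 3, nat_lit 8, nat_lit 0, nat_lit 1, nat_lit 2, nat_lit 3, nat_lit 4, nat_lit 5, nat_lit 6, nat_lit 7, nat_lit 6, nat_lit 4, nat_lit 5, nat_lit 3, nat_lit 4, nat_lit 2, nat_lit 3, nat_lit 8, nat_lit 0, nat_lit 1, nat_lit 2, nat_lit 3, nat_lit 4, nat_lit 5,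 nat_lit 10, nat_lit 1, nat_lit 8, nat_lit 12, nat_lit 15, nat_lit 14, nat_lit 12, nat_lit 18] (Rl.t1 (nat_lit 3215) (nat_lit 3212)))) (FT.leaf (Fct.mk false (nat_lit 32) (nat_lit 0) (nat_lit 32) [nat_lit 5, nat_lit 4, nat_lit 3, nat_lit 8, nat_lit 2, nat_lit 3, nat_lit 4, nat_lit 5, nat_lit 4, nat_lit 3, nat_lit 2, nat_lit 8, nat_lit 3, nat_lit 11, nat_lit 2, nat_lit 13, nat_lit 19] (Rl.cmp (nat_lit 3047) (nat_lit 3010))))))) (FT.node (nat_lit 3221) (FT.node (nat_lit 3219) (FT.leaf (Fct.mk false (nat_lit 32) (nat_lit 0) (nat_lit 32) [nat_lit 5, nat_lit 4, nat_lit 3, nat_lit 8, nat_lit 2, nat_lit 3, nat_lit 4, nat_lit 5, nat_lit 3, nat_lit 2, nat_lit 0, nat_lit 1, nat_lit 9, nat_lit 4, nat_lit 3, nat_lit 2, nat_lit 8, nat_lit 3, nat_lit 11, nat_lit 2, nat_lit 8, nat_lit 10, nat_lit 1, nat_lit 12, nat_lit 8, nat_lit 16, nat_lit 14, nat_lit 13,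 nat_lit 18, nat_lit 16] (Rl.cmp (nat_lit 3047) (nat_lit 3217)))) (FT.node (nat_lit 3220) (FT.leaf (Fct.mk false (nat_lit 32) (nat_lit 0) (nat_lit 32) [nat_lit 1, nat_lit 2, nat_lit 3, nat_lit 8, nat_lit 4, nat_lit 5, nat_lit 3, nat_lit 4, nat_lit 2, nat_lit 3, nat_lit 8, nat_lit 1, nat_lit 2, nat_lit 3, nat_lit 4, nat_lit 5, nat_lit 0, nat_lit 1, nat_lit 9, nat_lit 4, nat_lit 3, nat_lit 2, nat_lit 8, nat_lit 3, nat_lit 8, nat_lit 10, nat_lit 1, nat_lit 12, nat_lit 8, nat_lit 16, nat_lit 14] (Rl.cmp (nat_lit 3010) (nat_lit 3218)))) (FT.leaf (Fct.mk false (nat_lit 5) (nat_lit 0) (nat_lit 5) [nat_lit 0, nat_lit 1, nat_lit 2, nat_lit 3, nat_lit 4, nat_lit 5, nat_lit 0, nat_lit 1, nat_lit 2, nat_lit 3, nat_lit 11, nat_lit 10, nat_lit 12, nat_lit 15, nat_lit 13] (Rl.cmp (nat_lit 1754) (nat_lit 2953)))))) (FT.node (nat_lit 3223) (FT.node (nat_lit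 3222) (FT.leaf (Fct.mk false (nat_lit 5) (nat_lit 0) (nat_lit 5) [nat_lit 5, nat_lit 3, nat_lit 1, nat_lit 16, nat_lit 15, nat_lit 14, nat_lit 16] (Rl.cmp (nat_lit 511) (nat_lit 3220)))) (FT.leaf (Fct.mk false (nat_lit 5) (nat_lit 0) (nat_lit 5) [nat_lit 6, nat_lit 3, nat_lit 9, nat_lit 16, nat_lit 15, nat_lit 14, nat_lit 12, nat_lit 16] (Rl.cmp (nat_lit 1859) (nat_lit 3221))))) (FT.node (nat_lit 3224) (FT.leaf (Fct.mk false (nat_lit 5) (nat_lit 0) (nat_lit 5) [nat_lit 0, nat_lit 1, nat_lit 2, nat_lit 3, nat_lit 4, nat_lit 5, nat_lit 0, nat_lit 1, nat_lit 2, nat_lit 3, nat_lit 11, nat_lit 1, nat_lit 12, nat_lit 15, nat_lit 13] (Rl.cmp (nat_lit 470) (nat_lit 2764)))) (FT.leaf (Fct.mk false (nat_lit 5) (nat_lit 0) (nat_lit 5) [nat_lit 5, nat_lit 3, nat_lit 11, nat_lit 10, nat_lit 1, nat_lit 13, nat_lit 12, nat_lit 16] (Rl.cmp (nat_lit 511) (nat_lit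 3223))))))))) (FT.node (nat_lit 3237) (FT.node (nat_lit 3231) (FT.node (nat_lit 3228) (FT.node (nat_lit 3226) (FT.leaf (Fct.mk true (nat_lit 32) (nat_lit 30281) (nat_lit 5) [nat_lit 8, nat_lit 0, nat_lit 1, nat_lit 2, nat_lit 3, nat_lit 4, nat_lit 5, nat_lit 6, nat_lit 7, nat_lit 5, nat_lit 4, nat_lit 3, nat_lit 8, nat_lit 2, nat_lit 3, nat_lit 4, nat_lit 5, nat_lit 2, nat_lit 1, nat_lit 9, nat_lit 4, nat_lit 3, nat_lit 2, nat_lit 8, nat_lit 3, nat_lit 10, nat_lit 9, nat_lit 2, nat_lit 14, nat_lit 8] (Rl.rel (nat_lit 0) [nat_lit 0, nat_lit 1, nat_lit 2, nat_lit 3, nat_lit 4, nat_lit 5, nat_lit 6, nat_lit 7, nat_lit 4, nat_lit 3, nat_lit 8, nat_lit 2, nat_lit 3, nat_lit 4, nat_lit 1, nat_lit 2, nat_lit 3, nat_lit 8, nat_lit 0, nat_lit 1, nat_lit 2, nat_lit 3, nat_lit 4, nat_lit 5, nat_lit 3, nat_lit 2, nat_lit 1, nat_lit 8, nat_lit 3, nat_lit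 2, nat_lit 0, nat_lit 1, nat_lit 4, nat_lit 3, nat_lit 2, nat_lit 8, nat_lit 3, nat_lit 10, nat_lit 0, nat_lit 18] (nat_lit 5) (nat_lit 1) [nat_lit 3139] [nat_lit 3222, nat_lit 2098, nat_lit 2425]))) (FT.node (nat_lit 3227) (FT.leaf (Fct.mk true (nat_lit 32) (nat_lit 1898) (nat_lit 5) [nat_lit 8, nat_lit 0, nat_lit 1, nat_lit 2, nat_lit 3, nat_lit 4, nat_lit 5, nat_lit 6, nat_lit 7, nat_lit 8, nat_lit 3, nat_lit 4, nat_lit 1, nat_lit 2, nat_lit 3, nat_lit 8, nat_lit 0, nat_lit 1, nat_lit 2, nat_lit 3, nat_lit 4, nat_lit 5, nat_lit 2, nat_lit 0, nat_lit 1, nat_lit 9, nat_lit 4, nat_lit 3, nat_lit 2, nat_lit 8, nat_lit 3, nat_lit 8, nat_lit 10, nat_lit 16, nat_lit 14] (Rl.t1 (nat_lit 3225) (nat_lit 3219)))) (FT.leaf (Fct.mk true (nat_lit 5) (nat_lit 1274) (nat_lit 32) [nat_lit 2, nat_lit 3, nat_lit 8, nat_lit 1, nat_lit 2, nat_lit 3, nat_lit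 4, nat_lit 5, nat_lit 6, nat_lit 7, nat_lit 8, nat_lit 3, nat_lit 4, nat_lit 2, nat_lit 3, nat_lit 8, nat_lit 1, nat_lit 2, nat_lit 3, nat_lit 4, nat_lit 5, nat_lit 0, nat_lit 1, nat_lit 2, nat_lit 3, nat_lit 11, nat_lit 10, nat_lit 1, nat_lit 8, nat_lit 16, nat_lit 15, nat_lit 14, nat_lit 17, nat_lit 19] (Rl.inv (nat_lit 3226)))))) (FT.node (nat_lit 3229) (FT.leaf (Fct.mk true (nat_lit 5) (nat_lit 122) (nat_lit 32) [nat_lit 2, nat_lit 3, nat_lit 8, nat_lit 0, nat_lit 1, nat_lit 2, nat_lit 3, nat_lit 4, nat_lit 5, nat_lit 6, nat_lit 7, nat_lit 3, nat_lit 4, nat_lit 2, nat_lit 3, nat_lit 8, nat_lit 1, nat_lit 2, nat_lit 3, nat_lit 4, nat_lit 5, nat_lit 0, nat_lit 1, nat_lit 2, nat_lit 8, nat_lit 3, nat_lit 11, nat_lit 1, nat_lit 8, nat_lit 16, nat_lit 14, nat_lit 17, nat_lit 19] (Rl.t1 (nat_lit 3227) (nat_lit 3224)))) (FT.node (nat_lit 3230)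 (FT.leaf (Fct.mk false (nat_lit 32) (nat_lit 0) (nat_lit 32) [nat_lit 5, nat_lit 4, nat_lit 3, nat_lit 8, nat_lit 2, nat_lit 3, nat_lit 4, nat_lit 5, nat_lit 2, nat_lit 1, nat_lit 4, nat_lit 3, nat_lit 2, nat_lit 8, nat_lit 3, nat_lit 8, nat_lit 10, nat_lit 14, nat_lit 12, nat_lit 18] (Rl.cmp (nat_lit 3010) (nat_lit 2995)))) (FT.leaf (Fct.mk false (nat_lit 32) (nat_lit 0) (nat_lit 32) [nat_lit 95] (Rl.cmp (nat_lit 3010) (nat_lit 3229))))))) (FT.node (nat_lit 3234) (FT.node (nat_lit 3232) (FT.leaf (Fct.mk false (nat_lit 32) (nat_lit 0) (nat_lit 32) [nat_lit 8, nat_lit 5, nat_lit 6, nat_lit 4, nat_lit 5, nat_lit 3, nat_lit 4, nat_lit 2, nat_lit 3, nat_lit 8, nat_lit 0, nat_lit 1, nat_lit 2, nat_lit 3, nat_lit 4, nat_lit 5, nat_lit 1, nat_lit 2, nat_lit 0, nat_lit 1, nat_lit 4, nat_lit 3, nat_lit 2, nat_lit 8, nat_lit 3, nat_lit 8, nat_lit 10,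 nat_lit 15, nat_lit 14, nat_lit 13, nat_lit 12, nat_lit 19, nat_lit 16] (Rl.cmp (nat_lit 3004) (nat_lit 3230)))) (FT.node (nat_lit 3233) (FT.leaf (Fct.mk false (nat_lit 32) (nat_lit 0) (nat_lit 32) [nat_lit 5, nat_lit 4, nat_lit 2, nat_lit 3, nat_lit 8, nat_lit 1, nat_lit 2, nat_lit 3, nat_lit 4, nat_lit 5, nat_lit 1, nat_lit 2, nat_lit 0, nat_lit 1, nat_lit 3, nat_lit 2, nat_lit 8, nat_lit 3, nat_lit 11, nat_lit 13, nat_lit 19, nat_lit 16] (Rl.cmp (nat_lit 3004) (nat_lit 3231)))) (FT.leaf (Fct.mk false (nat_lit 32) (nat_lit 0) (nat_lit 32) [nat_lit 8, nat_lit 2, nat_lit 3, nat_lit 4, nat_lit 5, nat_lit 3, nat_lit 8, nat_lit 4, nat_lit 3, nat_lit 2, nat_lit 1, nat_lit 9, nat_lit 4, nat_lit 3, nat_lit 2, nat_lit 8, nat_lit 3, nat_lit 11, nat_lit 2, nat_lit 16, nat_lit 15, nat_lit 14, nat_lit 13, nat_lit 12, nat_lit 18] (Rl.cmp (nat_lit 3047)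 (nat_lit 3232)))))) (FT.node (nat_lit 3235) (FT.leaf (Fct.mk false (nat_lit 5) (nat_lit 0) (nat_lit 5) [nat_lit 8, nat_lit 3, nat_lit 4, nat_lit 2, nat_lit 3, nat_lit 8, nat_lit 7, nat_lit 5, nat_lit 6, nat_lit 4, nat_lit 5, nat_lit 3, nat_lit 4, nat_lit 2, nat_lit 3, nat_lit 8, nat_lit 0, nat_lit 1, nat_lit 2, nat_lit 3, nat_lit 4, nat_lit 5, nat_lit 6, nat_lit 7, nat_lit 3, nat_lit 8, nat_lit 4, nat_lit 5, nat_lit 3, nat_lit 4, nat_lit 2, nat_lit 3, nat_lit 8, nat_lit 1, nat_lit 2, nat_lit 3, nat_lit 4, nat_lit 5, nat_lit 4, nat_lit 3, nat_lit 2, nat_lit 1, nat_lit 8, nat_lit 3, nat_lit 2, nat_lit 0, nat_lit 1, nat_lit 4, nat_lit 3, nat_lit 2, nat_lit 8, nat_lit 3, nat_lit 2, nat_lit 10, nat_lit 1, nat_lit 16, nat_lit 12, nat_lit 15, nat_lit 14, nat_lit 16] (Rl.cmp (nat_lit 2491) (nat_lit 3128)))) (FT.node (nat_lit 3236) (FT.leaf (Fct.mk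 false (nat_lit 5) (nat_lit 0) (nat_lit 5) [nat_lit 4, nat_lit 3, nat_lit 8, nat_lit 2, nat_lit 3, nat_lit 4, nat_lit 1, nat_lit 2, nat_lit 3, nat_lit 8, nat_lit 6, nat_lit 7, nat_lit 5, nat_lit 6, nat_lit 4, nat_lit 5, nat_lit 3, nat_lit 4, nat_lit 2, nat_lit 3, nat_lit 8, nat_lit 1, nat_lit 2, nat_lit 3, nat_lit 4, nat_lit 5, nat_lit 6, nat_lit 7, nat_lit 6, nat_lit 5, nat_lit 4, nat_lit 3, nat_lit 8, nat_lit 1, nat_lit 2, nat_lit 3, nat_lit 4, nat_lit 5, nat_lit 1, nat_lit 4, nat_lit 3, nat_lit 2, nat_lit 8, nat_lit 3, nat_lit 10, nat_lit 9, nat_lit 2, nat_lit 8, nat_lit 12, nat_lit 15, nat_lit 12, nat_lit 19, nat_lit 16] (Rl.cmp (nat_lit 1859) (nat_lit 3234)))) (FT.leaf (Fct.mk false (nat_lit 5) (nat_lit 0) (nat_lit 5) [nat_lit 2, nat_lit 3, nat_lit 8, nat_lit 4, nat_lit 5, nat_lit 3, nat_lit 4, nat_lit 2, nat_lit 3, nat_lit 8, nat_lit 6,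 nat_lit 7, nat_lit 5, nat_lit 6, nat_lit 4, nat_lit 5, nat_lit 3, nat_lit 4, nat_lit 2, nat_lit 3, nat_lit 8, nat_lit 1, nat_lit 2, nat_lit 3, nat_lit 4, nat_lit 5, nat_lit 6, nat_lit 7, nat_lit 5, nat_lit 6, nat_lit 4, nat_lit 5, nat_lit 3, nat_lit 4, nat_lit 2, nat_lit 3, nat_lit 8, nat_lit 1, nat_lit 2, nat_lit 3, nat_lit 4, nat_lit 5, nat_lit 1, nat_lit 2, nat_lit 3, nat_lit 8, nat_lit 4, nat_lit 3, nat_lit 2, nat_lit 1, nat_lit 9, nat_lit 4, nat_lit 3, nat_lit 2, nat_lit 8, nat_lit 3, nat_lit 10, nat_lit 1, nat_lit 12, nat_lit 15, nat_lit 14, nat_lit 16] (Rl.cmp (nat_lit 2491) (nat_lit 3235)))))))) (FT.node (nat_lit 3243) (FT.node (nat_lit 3240) (FT.node (nat_lit 3238) (FT.leaf (Fct.mk true (nat_lit 32) (nat_lit 11528) (nat_lit 32) [nat_lit 6, nat_lit 4, nat_lit 5, nat_lit 3, nat_lit 4, nat_lit 2, nat_lit 3, nat_lit 8, nat_lit 1, nat_lit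 2, nat_lit 3, nat_lit 4, nat_lit 5, nat_lit 6, nat_lit 7, nat_lit 3, nat_lit 8, nat_lit 6, nat_lit 4, nat_lit 5, nat_lit 3, nat_lit 4, nat_lit 2, nat_lit 3, nat_lit 8, nat_lit 1, nat_lit 2, nat_lit 3, nat_lit 4, nat_lit 5, nat_lit 1, nat_lit 4, nat_lit 3, nat_lit 2, nat_lit 8, nat_lit 3, nat_lit 11, nat_lit 2, nat_lit 8, nat_lit 10, nat_lit 1, nat_lit 18, nat_lit 16] (Rl.rel (nat_lit 0) [nat_lit 8, nat_lit 5, nat_lit 6, nat_lit 4, nat_lit 5, nat_lit 3, nat_lit 4, nat_lit 1, nat_lit 2, nat_lit 3, nat_lit 8, nat_lit 0, nat_lit 1, nat_lit 2, nat_lit 3, nat_lit 4, nat_lit 5, nat_lit 6, nat_lit 7, nat_lit 3, nat_lit 8, nat_lit 2, nat_lit 3, nat_lit 4, nat_lit 1, nat_lit 2, nat_lit 3, nat_lit 8, nat_lit 0, nat_lit 1, nat_lit 2, nat_lit 3, nat_lit 4, nat_lit 5, nat_lit 3, nat_lit 2, nat_lit 1, nat_lit 8, nat_lit 3, nat_lit 2, nat_lit 0, nat_lit 1,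 nat_lit 9, nat_lit 4, nat_lit 3, nat_lit 2, nat_lit 8, nat_lit 3, nat_lit 17, nat_lit 18] (nat_lit 5) (nat_lit 1) [nat_lit 3139] [nat_lit 3236, nat_lit 3027]))) (FT.node (nat_lit 3239) (FT.leaf (Fct.mk true (nat_lit 32) (nat_lit 144) (nat_lit 32) [nat_lit 8, nat_lit 4, nat_lit 5, nat_lit 2, nat_lit 3, nat_lit 4, nat_lit 1, nat_lit 2, nat_lit 3, nat_lit 8, nat_lit 0, nat_lit 1, nat_lit 2, nat_lit 3, nat_lit 4, nat_lit 5, nat_lit 6, nat_lit 7, nat_lit 3, nat_lit 8, nat_lit 6, nat_lit 4, nat_lit 5, nat_lit 3, nat_lit 4, nat_lit 2, nat_lit 3, nat_lit 8, nat_lit 1, nat_lit 2, nat_lit 3, nat_lit 4, nat_lit 5, nat_lit 4, nat_lit 3, nat_lit 2, nat_lit 1, nat_lit 9, nat_lit 4, nat_lit 3, nat_lit 2, nat_lit 8, nat_lit 3, nat_lit 11, nat_lit 10, nat_lit 2, nat_lit 8, nat_lit 10, nat_lit 1, nat_lit 16, nat_lit 8, nat_lit 18, nat_lit 16] (Rl.t1 (nat_lit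 3237) (nat_lit 3233)))) (FT.leaf (Fct.mk true (nat_lit 32) (nat_lit 26936) (nat_lit 32) [nat_lit 2, nat_lit 3, nat_lit 8, nat_lit 5, nat_lit 6, nat_lit 4, nat_lit 5, nat_lit 3, nat_lit 4, nat_lit 2, nat_lit 3, nat_lit 8, nat_lit 0, nat_lit 1, nat_lit 2, nat_lit 3, nat_lit 4, nat_lit 5, nat_lit 6, nat_lit 7, nat_lit 8, nat_lit 5, nat_lit 6, nat_lit 4, nat_lit 5, nat_lit 3, nat_lit 4, nat_lit 2, nat_lit 3, nat_lit 8, nat_lit 1, nat_lit 2, nat_lit 3, nat_lit 4, nat_lit 5, nat_lit 2, nat_lit 1, nat_lit 3, nat_lit 2, nat_lit 0, nat_lit 1, nat_lit 9, nat_lit 4, nat_lit 3, nat_lit 2, nat_lit 8, nat_lit 3, nat_lit 11, nat_lit 10, nat_lit 12, nat_lit 15, nat_lit 17] (Rl.inv (nat_lit 3238)))))) (FT.node (nat_lit 3241) (FT.leaf (Fct.mk true (nat_lit 32) (nat_lit 2672) (nat_lit 32) [nat_lit 4, nat_lit 5, nat_lit 3, nat_lit 4, nat_lit 1, nat_lit 2, nat_lit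 3, nat_lit 8, nat_lit 0, nat_lit 1, nat_lit 2, nat_lit 3, nat_lit 4, nat_lit 5, nat_lit 6, nat_lit 7, nat_lit 3, nat_lit 8, nat_lit 6, nat_lit 4, nat_lit 5, nat_lit 3, nat_lit 4, nat_lit 1, nat_lit 2, nat_lit 3, nat_lit 8, nat_lit 0, nat_lit 1, nat_lit 2, nat_lit 3, nat_lit 4, nat_lit 5, nat_lit 1, nat_lit 2, nat_lit 0, nat_lit 1, nat_lit 3, nat_lit 2, nat_lit 8, nat_lit 3, nat_lit 10, nat_lit 15] (Rl.t1 (nat_lit 3239) (nat_lit 3149)))) (FT.node (nat_lit 3242) (FT.leaf (Fct.mk false (nat_lit 32) (nat_lit 0) (nat_lit 32) [nat_lit 2, nat_lit 3, nat_lit 4, nat_lit 1, nat_lit 2, nat_lit 3, nat_lit 8, nat_lit 0, nat_lit 1, nat_lit 2, nat_lit 3, nat_lit 4, nat_lit 5, nat_lit 3, nat_lit 8, nat_lit 4, nat_lit 3, nat_lit 2, nat_lit 0, nat_lit 1, nat_lit 9, nat_lit 4, nat_lit 3, nat_lit 2, nat_lit 8, nat_lit 3, nat_lit 11, nat_lit 10, nat_lit 8, nat_lit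 16, nat_lit 14, nat_lit 19] (Rl.cmp (nat_lit 3010) (nat_lit 3004)))) (FT.leaf (Fct.mk false (nat_lit 32) (nat_lit 0) (nat_lit 32) [nat_lit 3, nat_lit 4, nat_lit 2, nat_lit 3, nat_lit 8, nat_lit 5, nat_lit 6, nat_lit 4, nat_lit 5, nat_lit 3, nat_lit 4, nat_lit 2, nat_lit 3, nat_lit 8, nat_lit 1, nat_lit 2, nat_lit 3, nat_lit 4, nat_lit 5, nat_lit 3, nat_lit 2, nat_lit 1, nat_lit 8, nat_lit 3, nat_lit 2, nat_lit 0, nat_lit 1, nat_lit 9, nat_lit 4, nat_lit 3, nat_lit 2, nat_lit 8, nat_lit 3, nat_lit 11, nat_lit 10, nat_lit 1, nat_lit 12, nat_lit 15, nat_lit 14, nat_lit 17, nat_lit 16] (Rl.cmp (nat_lit 3047) (nat_lit 3241))))))) (FT.node (nat_lit 3246) (FT.node (nat_lit 3244) (FT.leaf (Fct.mk false (nat_lit 32) (nat_lit 0) (nat_lit 32) [nat_lit 5, nat_lit 4, nat_lit 3, nat_lit 8, nat_lit 0, nat_lit 1, nat_lit 2, nat_lit 3, nat_lit 4, nat_lit 5,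 nat_lit 2, nat_lit 1, nat_lit 8, nat_lit 3, nat_lit 2, nat_lit 0, nat_lit 1, nat_lit 9, nat_lit 4, nat_lit 3, nat_lit 2, nat_lit 8, nat_lit 3, nat_lit 11, nat_lit 16, nat_lit 14, nat_lit 17, nat_lit 12] (Rl.cmp (nat_lit 3047) (nat_lit 3242)))) (FT.node (nat_lit 3245) (FT.leaf (Fct.mk false (nat_lit 32) (nat_lit 0) (nat_lit 32) [nat_lit 5, nat_lit 4, nat_lit 3, nat_lit 8, nat_lit 2, nat_lit 3, nat_lit 4, nat_lit 1, nat_lit 2, nat_lit 3, nat_lit 8, nat_lit 5, nat_lit 6, nat_lit 4, nat_lit 5, nat_lit 3, nat_lit 4, nat_lit 2, nat_lit 3, nat_lit 8, nat_lit 1, nat_lit 2, nat_lit 3, nat_lit 4, nat_lit 5, nat_lit 2, nat_lit 8, nat_lit 3, nat_lit 11, nat_lit 8, nat_lit 10, nat_lit 13, nat_lit 19] (Rl.cmp (nat_lit 3004) (nat_lit 3243)))) (FT.leaf (Fct.mk false (nat_lit 32) (nat_lit 0) (nat_lit 32) [nat_lit 8, nat_lit 3, nat_lit 4, nat_lit 2, nat_lit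 3, nat_lit 8, nat_lit 5, nat_lit 6, nat_lit 4, nat_lit 5, nat_lit 3, nat_lit 4, nat_lit 2, nat_lit 3, nat_lit 8, nat_lit 0, nat_lit 1, nat_lit 2, nat_lit 3, nat_lit 4, nat_lit 5, nat_lit 8, nat_lit 4, nat_lit 3, nat_lit 2, nat_lit 0, nat_lit 1, nat_lit 9, nat_lit 4, nat_lit 3, nat_lit 2, nat_lit 8, nat_lit 3, nat_lit 0, nat_lit 2, nat_lit 14, nat_lit 13, nat_lit 19, nat_lit 16] (Rl.cmp (nat_lit 3004) (nat_lit 3244)))))) (FT.node (nat_lit 3248) (FT.node (nat_lit 3247) (FT.leaf (Fct.mk false (nat_lit 5) (nat_lit 0) (nat_lit 5) [nat_lit 2, nat_lit 3, nat_lit 4, nat_lit 5, nat_lit 0, nat_lit 1, nat_lit 2, nat_lit 3, nat_lit 10, nat_lit 1, nat_lit 12, nat_lit 15, nat_lit 12, nat_lit 16] (Rl.cmp (nat_lit 511) (nat_lit 2919)))) (FT.leaf (Fct.mk false (nat_lit 5) (nat_lit 0) (nat_lit 5) [nat_lit 1, nat_lit 2, nat_lit 3, nat_lit 4, nat_lit 5, nat_lit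 4, nat_lit 11, nat_lit 2, nat_lit 16, nat_lit 15, nat_lit 14, nat_lit 13, nat_lit 12, nat_lit 16] (Rl.cmp (nat_lit 1859) (nat_lit 3246))))) (FT.node (nat_lit 3249) (FT.leaf (Fct.mk false (nat_lit 5) (nat_lit 0) (nat_lit 5) [nat_lit 2, nat_lit 3, nat_lit 4, nat_lit 5, nat_lit 2, nat_lit 3, nat_lit 10, nat_lit 1, nat_lit 14, nat_lit 12] (Rl.cmp (nat_lit 1754) (nat_lit 3247)))) (FT.leaf (Fct.mk false (nat_lit 32) (nat_lit 0) (nat_lit 32) [nat_lit 3, nat_lit 8, nat_lit 6, nat_lit 4, nat_lit 5, nat_lit 3, nat_lit 4, nat_lit 2, nat_lit 3, nat_lit 8, nat_lit 1, nat_lit 2, nat_lit 3, nat_lit 4, nat_lit 5, nat_lit 1, nat_lit 8, nat_lit 4, nat_lit 3, nat_lit 2, nat_lit 0, nat_lit 1, nat_lit 9, nat_lit 4, nat_lit 3, nat_lit 2, nat_lit 8, nat_lit 3, nat_lit 11, nat_lit 2, nat_lit 10, nat_lit 1, nat_lit 16, nat_lit 14, nat_lit 18, nat_lit 16] (Rl.cmp (nat_lit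 3047) (nat_lit 3004)))))))))

/-- some facts -/
noncomputable def ftc65 : FT := FT.node (nat_lit 3275) (FT.node (nat_lit 3262) (FT.node (nat_lit 3256) (FT.node (nat_lit 3253) (FT.node (nat_lit 3251) (FT.leaf (Fct.mk false (nat_lit 32) (nat_lit 0) (nat_lit 32) [nat_lit 3, nat_lit 4, nat_lit 2, nat_lit 3, nat_lit 8, nat_lit 5, nat_lit 6, nat_lit 4, nat_lit 5, nat_lit 3, nat_lit 4, nat_lit 2, nat_lit 3, nat_lit 8, nat_lit 1, nat_lit 2, nat_lit 3, nat_lit 4, nat_lit 5, nat_lit 2, nat_lit 1, nat_lit 8, nat_lit 3, nat_lit 2, nat_lit 0, nat_lit 1, nat_lit 4, nat_lit 3, nat_lit 2, nat_lit 8, nat_lit 3, nat_lit 10, nat_lit 12, nat_lit 15, nat_lit 14, nat_lit 18, nat_lit 16] (Rl.cmp (nat_lit 3010) (nat_lit 3249)))) (FT.node (nat_lit 3252) (FT.leaf (Fct.mk false (nat_lit 32) (nat_lit 0) (nat_lit 32) [nat_lit 3, nat_lit 4, nat_lit 1, nat_lit 2, nat_lit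 3, nat_lit 8, nat_lit 5, nat_lit 6, nat_lit 4, nat_lit 5, nat_lit 3, nat_lit 4, nat_lit 2, nat_lit 3, nat_lit 8, nat_lit 1, nat_lit 2, nat_lit 3, nat_lit 4, nat_lit 5, nat_lit 2, nat_lit 1, nat_lit 8, nat_lit 3, nat_lit 2, nat_lit 0, nat_lit 1, nat_lit 9, nat_lit 4, nat_lit 3, nat_lit 2, nat_lit 8, nat_lit 3, nat_lit 10, nat_lit 9, nat_lit 2, nat_lit 12, nat_lit 15, nat_lit 14, nat_lit 13, nat_lit 12, nat_lit 18, nat_lit 16] (Rl.cmp (nat_lit 3010) (nat_lit 3250)))) (FT.leaf (Fct.mk false (nat_lit 32) (nat_lit 0) (nat_lit 32) [nat_lit 8, nat_lit 3, nat_lit 4, nat_lit 1, nat_lit 2, nat_lit 3, nat_lit 8, nat_lit 5, nat_lit 6, nat_lit 4, nat_lit 5, nat_lit 3, nat_lit 4, nat_lit 2, nat_lit 3, nat_lit 8, nat_lit 1, nat_lit 2, nat_lit 3, nat_lit 4, nat_lit 5, nat_lit 3, nat_lit 2, nat_lit 1, nat_lit 8, nat_lit 3, nat_lit 2, nat_lit 0, nat_lit 1, nat_lit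 4, nat_lit 3, nat_lit 2, nat_lit 8, nat_lit 3, nat_lit 1, nat_lit 9, nat_lit 13, nat_lit 12, nat_lit 19, nat_lit 16] (Rl.cmp (nat_lit 3004) (nat_lit 3251)))))) (FT.node (nat_lit 3254) (FT.leaf (Fct.mk false (nat_lit 32) (nat_lit 0) (nat_lit 32) [nat_lit 8, nat_lit 5, nat_lit 6, nat_lit 4, nat_lit 5, nat_lit 2, nat_lit 3, nat_lit 4, nat_lit 1, nat_lit 2, nat_lit 3, nat_lit 8, nat_lit 0, nat_lit 1, nat_lit 2, nat_lit 3, nat_lit 4, nat_lit 5, nat_lit 1, nat_lit 2, nat_lit 0, nat_lit 1, nat_lit 9, nat_lit 4, nat_lit 3, nat_lit 2, nat_lit 8, nat_lit 3, nat_lit 0, nat_lit 8, nat_lit 16, nat_lit 14, nat_lit 18, nat_lit 16] (Rl.cmp (nat_lit 3004) (nat_lit 3252)))) (FT.node (nat_lit 3255) (FT.leaf (Fct.mk true (nat_lit 32) (nat_lit 85855) (nat_lit 32) [nat_lit 8, nat_lit 3, nat_lit 4, nat_lit 1, nat_lit 2, nat_lit 3, nat_lit 8, nat_lit 0, nat_lit 1,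 nat_lit 2, nat_lit 3, nat_lit 4, nat_lit 5, nat_lit 6, nat_lit 7, nat_lit 8, nat_lit 6, nat_lit 5, nat_lit 3, nat_lit 4, nat_lit 2, nat_lit 3, nat_lit 8, nat_lit 1, nat_lit 2, nat_lit 3, nat_lit 4, nat_lit 5, nat_lit 1, nat_lit 2, nat_lit 8, nat_lit 3, nat_lit 11, nat_lit 10, nat_lit 1, nat_lit 13, nat_lit 12, nat_lit 18] (Rl.rel (nat_lit 0) [nat_lit 6, nat_lit 5, nat_lit 4, nat_lit 3, nat_lit 8, nat_lit 0, nat_lit 1, nat_lit 2, nat_lit 3, nat_lit 4, nat_lit 5, nat_lit 6, nat_lit 7, nat_lit 8, nat_lit 3, nat_lit 4, nat_lit 1, nat_lit 2, nat_lit 3, nat_lit 8, nat_lit 0, nat_lit 1, nat_lit 2, nat_lit 3, nat_lit 4, nat_lit 5, nat_lit 8, nat_lit 10, nat_lit 8, nat_lit 12, nat_lit 15, nat_lit 14] (nat_lit 5) (nat_lit 1) [nat_lit 3139] [nat_lit 3248, nat_lit 3216]))) (FT.leaf (Fct.mk true (nat_lit 32) (nat_lit 1396) (nat_lit 32) [nat_lit 8, nat_lit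 0, nat_lit 1, nat_lit 2, nat_lit 3, nat_lit 4, nat_lit 5, nat_lit 6, nat_lit 7, nat_lit 4, nat_lit 3, nat_lit 8, nat_lit 2, nat_lit 3, nat_lit 4, nat_lit 1, nat_lit 2, nat_lit 3, nat_lit 8, nat_lit 5, nat_lit 6, nat_lit 4, nat_lit 5, nat_lit 3, nat_lit 4, nat_lit 2, nat_lit 3, nat_lit 8, nat_lit 1, nat_lit 2, nat_lit 3, nat_lit 4, nat_lit 5, nat_lit 3, nat_lit 2, nat_lit 0, nat_lit 1, nat_lit 4, nat_lit 3, nat_lit 2, nat_lit 8, nat_lit 3, nat_lit 10, nat_lit 0, nat_lit 12, nat_lit 8, nat_lit 16, nat_lit 14, nat_lit 17, nat_lit 12, nat_lit 16] (Rl.t1 (nat_lit 3254) (nat_lit 3245))))))) (FT.node (nat_lit 3259) (FT.node (nat_lit 3257) (FT.leaf (Fct.mk true (nat_lit 32) (nat_lit 82628) (nat_lit 32) [nat_lit 2, nat_lit 3, nat_lit 8, nat_lit 4, nat_lit 5, nat_lit 3, nat_lit 4, nat_lit 2, nat_lit 3, nat_lit 8, nat_lit 0, nat_lit 1, nat_lit 2, nat_lit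 3, nat_lit 4, nat_lit 5, nat_lit 6, nat_lit 7, nat_lit 1, nat_lit 2, nat_lit 3, nat_lit 8, nat_lit 4, nat_lit 5, nat_lit 3, nat_lit 4, nat_lit 2, nat_lit 3, nat_lit 8, nat_lit 1, nat_lit 2, nat_lit 3, nat_lit 4, nat_lit 5, nat_lit 1, nat_lit 3, nat_lit 2, nat_lit 0, nat_lit 1, nat_lit 4, nat_lit 3, nat_lit 2, nat_lit 8, nat_lit 3, nat_lit 11, nat_lit 10, nat_lit 1, nat_lit 12, nat_lit 8, nat_lit 16, nat_lit 14, nat_lit 17, nat_lit 12, nat_lit 18, nat_lit 16] (Rl.inv (nat_lit 3255)))) (FT.node (nat_lit 3258) (FT.leaf (Fct.mk true (nat_lit 32) (nat_lit 8992) (nat_lit 32) [nat_lit 6, nat_lit 5, nat_lit 4, nat_lit 3, nat_lit 8, nat_lit 0, nat_lit 1, nat_lit 2, nat_lit 3, nat_lit 4, nat_lit 5, nat_lit 6, nat_lit 7, nat_lit 8, nat_lit 3, nat_lit 4, nat_lit 5, nat_lit 11, nat_lit 2, nat_lit 10, nat_lit 1, nat_lit 16, nat_lit 15, nat_lit 14, nat_lit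 17, nat_lit 18, nat_lit 16] (Rl.t1 (nat_lit 3256) (nat_lit 3253)))) (FT.leaf (Fct.mk false (nat_lit 32) (nat_lit 0) (nat_lit 32) [nat_lit 5, nat_lit 4, nat_lit 3, nat_lit 8, nat_lit 0, nat_lit 1, nat_lit 2, nat_lit 3, nat_lit 4, nat_lit 5, nat_lit 2, nat_lit 0, nat_lit 1, nat_lit 4, nat_lit 3, nat_lit 2, nat_lit 8, nat_lit 3, nat_lit 10, nat_lit 2, nat_lit 8, nat_lit 10, nat_lit 1, nat_lit 16, nat_lit 15, nat_lit 14, nat_lit 16, nat_lit 8] (Rl.cmp (nat_lit 3004) (nat_lit 3004)))))) (FT.node (nat_lit 3260) (FT.leaf (Fct.mk false (nat_lit 32) (nat_lit 0) (nat_lit 32) [nat_lit 5, nat_lit 4, nat_lit 3, nat_lit 8, nat_lit 2, nat_lit 3, nat_lit 4, nat_lit 1, nat_lit 2, nat_lit 3, nat_lit 8, nat_lit 5, nat_lit 6, nat_lit 4, nat_lit 5, nat_lit 3, nat_lit 4, nat_lit 2, nat_lit 3, nat_lit 8, nat_lit 1, nat_lit 2, nat_lit 3, nat_lit 4, nat_lit 5, nat_lit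 3, nat_lit 8, nat_lit 4, nat_lit 3, nat_lit 2, nat_lit 1, nat_lit 9, nat_lit 4, nat_lit 3, nat_lit 2, nat_lit 8, nat_lit 3, nat_lit 10, nat_lit 1, nat_lit 12, nat_lit 8, nat_lit 16, nat_lit 14, nat_lit 8, nat_lit 19] (Rl.cmp (nat_lit 3004) (nat_lit 3258)))) (FT.node (nat_lit 3261) (FT.leaf (Fct.mk false (nat_lit 32) (nat_lit 0) (nat_lit 32) [nat_lit 1, nat_lit 2, nat_lit 3, nat_lit 8, nat_lit 6, nat_lit 4, nat_lit 5, nat_lit 3, nat_lit 4, nat_lit 2, nat_lit 3, nat_lit 8, nat_lit 1, nat_lit 2, nat_lit 3, nat_lit 4, nat_lit 5, nat_lit 2, nat_lit 1, nat_lit 3, nat_lit 2, nat_lit 8, nat_lit 3, nat_lit 1, nat_lit 9, nat_lit 8, nat_lit 16, nat_lit 14, nat_lit 16, nat_lit 8, nat_lit 18, nat_lit 16] (Rl.cmp (nat_lit 3010) (nat_lit 3259)))) (FT.leaf (Fct.mk false (nat_lit 5) (nat_lit 0) (nat_lit 5) [nat_lit 5, nat_lit 2, nat_lit 3, nat_lit 14] (Rl.cmp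 (nat_lit 511) (nat_lit 1859)))))))) (FT.node (nat_lit 3268) (FT.node (nat_lit 3265) (FT.node (nat_lit 3263) (FT.leaf (Fct.mk false (nat_lit 5) (nat_lit 0) (nat_lit 5) [nat_lit 8, nat_lit 2, nat_lit 3, nat_lit 4, nat_lit 1, nat_lit 2, nat_lit 3, nat_lit 8, nat_lit 5, nat_lit 6, nat_lit 4, nat_lit 5, nat_lit 3, nat_lit 4, nat_lit 2, nat_lit 3, nat_lit 8, nat_lit 1, nat_lit 2, nat_lit 3, nat_lit 4, nat_lit 5, nat_lit 2, nat_lit 3, nat_lit 8, nat_lit 4, nat_lit 3, nat_lit 2, nat_lit 1, nat_lit 9, nat_lit 4, nat_lit 3, nat_lit 2, nat_lit 8, nat_lit 3, nat_lit 11, nat_lit 10, nat_lit 1, nat_lit 12, nat_lit 8, nat_lit 16, nat_lit 14, nat_lit 17, nat_lit 12, nat_lit 16] (Rl.cmp (nat_lit 2094) (nat_lit 3261)))) (FT.node (nat_lit 3264) (FT.leaf (Fct.mk true (nat_lit 32) (nat_lit 118719) (nat_lit 32) [nat_lit 5, nat_lit 4, nat_lit 1, nat_lit 2, nat_lit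 3, nat_lit 8, nat_lit 0, nat_lit 1, nat_lit 2, nat_lit 3, nat_lit 4, nat_lit 5, nat_lit 6, nat_lit 7, nat_lit 2, nat_lit 3, nat_lit 4, nat_lit 1, nat_lit 2, nat_lit 3, nat_lit 8, nat_lit 0, nat_lit 1, nat_lit 2, nat_lit 3, nat_lit 4, nat_lit 5, nat_lit 1, nat_lit 2, nat_lit 3, nat_lit 8, nat_lit 4, nat_lit 3, nat_lit 2, nat_lit 1, nat_lit 9, nat_lit 4, nat_lit 3, nat_lit 2, nat_lit 8, nat_lit 3, nat_lit 11, nat_lit 2, nat_lit 12, nat_lit 8, nat_lit 16, nat_lit 14, nat_lit 13, nat_lit 19, nat_lit 16] (Rl.rel (nat_lit 0) [nat_lit 5, nat_lit 6, nat_lit 7, nat_lit 4, nat_lit 5, nat_lit 6, nat_lit 3, nat_lit 4, nat_lit 5, nat_lit 2, nat_lit 3, nat_lit 4, nat_lit 1, nat_lit 2, nat_lit 3, nat_lit 8, nat_lit 0, nat_lit 1, nat_lit 2, nat_lit 3, nat_lit 4, nat_lit 5, nat_lit 6, nat_lit 7, nat_lit 3, nat_lit 8, nat_lit 5, nat_lit 2, nat_lit 3, nat_lit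 4, nat_lit 1, nat_lit 2, nat_lit 3, nat_lit 8, nat_lit 0, nat_lit 1, nat_lit 2, nat_lit 3, nat_lit 4, nat_lit 5, nat_lit 1, nat_lit 2, nat_lit 0, nat_lit 1, nat_lit 4, nat_lit 3, nat_lit 2, nat_lit 8, nat_lit 3, nat_lit 2, nat_lit 8, nat_lit 10, nat_lit 1, nat_lit 12, nat_lit 15, nat_lit 17, nat_lit 12, nat_lit 18] (nat_lit 5) (nat_lit 1) [nat_lit 3139] [nat_lit 3262, nat_lit 3228]))) (FT.leaf (Fct.mk true (nat_lit 32) (nat_lit 2322) (nat_lit 32) [nat_lit 6, nat_lit 5, nat_lit 4, nat_lit 1, nat_lit 2, nat_lit 3, nat_lit 8, nat_lit 0, nat_lit 1, nat_lit 2, nat_lit 3, nat_lit 4, nat_lit 5, nat_lit 6, nat_lit 7, nat_lit 3, nat_lit 4, nat_lit 2, nat_lit 3, nat_lit 8, nat_lit 0, nat_lit 1, nat_lit 2, nat_lit 3, nat_lit 4, nat_lit 5, nat_lit 1, nat_lit 9, nat_lit 4, nat_lit 3, nat_lit 2, nat_lit 8, nat_lit 3, nat_lit 11, nat_lit 16, nat_lit 14, nat_lit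 17, nat_lit 12, nat_lit 18, nat_lit 16] (Rl.t1 (nat_lit 3263) (nat_lit 3260)))))) (FT.node (nat_lit 3266) (FT.leaf (Fct.mk false (nat_lit 5) (nat_lit 0) (nat_lit 5) [nat_lit 8, nat_lit 3, nat_lit 4, nat_lit 2, nat_lit 3, nat_lit 8, nat_lit 7, nat_lit 5, nat_lit 6, nat_lit 4, nat_lit 5, nat_lit 3, nat_lit 4, nat_lit 2, nat_lit 3, nat_lit 8, nat_lit 0, nat_lit 1, nat_lit 2, nat_lit 3, nat_lit 4, nat_lit 5, nat_lit 6, nat_lit 7, nat_lit 6, nat_lit 0, nat_lit 1, nat_lit 2, nat_lit 3, nat_lit 11, nat_lit 1, nat_lit 15, nat_lit 14, nat_lit 12, nat_lit 16] (Rl.cmp (nat_lit 470) (nat_lit 2886)))) (FT.node (nat_lit 3267) (FT.leaf (Fct.mk true (nat_lit 32) (nat_lit 94564) (nat_lit 5) [nat_lit 8, nat_lit 3, nat_lit 4, nat_lit 2, nat_lit 3, nat_lit 8, nat_lit 0, nat_lit 1, nat_lit 2, nat_lit 3, nat_lit 4, nat_lit 5, nat_lit 6, nat_lit 7, nat_lit 2, nat_lit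 3, nat_lit 4, nat_lit 1, nat_lit 2, nat_lit 3, nat_lit 8, nat_lit 0, nat_lit 1, nat_lit 2, nat_lit 3, nat_lit 4, nat_lit 5, nat_lit 4, nat_lit 3, nat_lit 2, nat_lit 8, nat_lit 3, nat_lit 1, nat_lit 15, nat_lit 14, nat_lit 16, nat_lit 8, nat_lit 18] (Rl.rel (nat_lit 0) [nat_lit 8, nat_lit 5, nat_lit 6, nat_lit 4, nat_lit 5, nat_lit 3, nat_lit 4, nat_lit 1, nat_lit 2, nat_lit 3, nat_lit 8, nat_lit 0, nat_lit 1, nat_lit 2, nat_lit 3, nat_lit 4, nat_lit 5, nat_lit 6, nat_lit 7, nat_lit 8, nat_lit 4, nat_lit 5, nat_lit 2, nat_lit 3, nat_lit 4, nat_lit 1, nat_lit 2, nat_lit 3, nat_lit 8, nat_lit 0, nat_lit 1, nat_lit 2, nat_lit 3, nat_lit 4, nat_lit 5, nat_lit 3, nat_lit 2, nat_lit 1, nat_lit 8, nat_lit 3, nat_lit 2, nat_lit 0, nat_lit 1, nat_lit 4, nat_lit 3, nat_lit 2, nat_lit 8, nat_lit 3, nat_lit 8, nat_lit 18] (nat_lit 5) (nat_lit 1) [nat_lit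 3139] [nat_lit 3265, nat_lit 2496, nat_lit 2091]))) (FT.leaf (Fct.mk true (nat_lit 32) (nat_lit 9727) (nat_lit 5) [nat_lit 3, nat_lit 8, nat_lit 6, nat_lit 4, nat_lit 5, nat_lit 3, nat_lit 4, nat_lit 1, nat_lit 2, nat_lit 3, nat_lit 8, nat_lit 0, nat_lit 1, nat_lit 2, nat_lit 3, nat_lit 4, nat_lit 5, nat_lit 6, nat_lit 7, nat_lit 4, nat_lit 5, nat_lit 3, nat_lit 2, nat_lit 8, nat_lit 3, nat_lit 10, nat_lit 0, nat_lit 15, nat_lit 14, nat_lit 16, nat_lit 8, nat_lit 19] (Rl.t1 (nat_lit 3266) (nat_lit 3142))))))) (FT.node (nat_lit 3271) (FT.node (nat_lit 3269) (FT.leaf (Fct.mk true (nat_lit 5) (nat_lit 13131) (nat_lit 32) [nat_lit 8, nat_lit 3, nat_lit 4, nat_lit 5, nat_lit 6, nat_lit 7, nat_lit 5, nat_lit 3, nat_lit 4, nat_lit 2, nat_lit 3, nat_lit 8, nat_lit 1, nat_lit 2, nat_lit 3, nat_lit 4, nat_lit 5, nat_lit 1, nat_lit 8, nat_lit 3, nat_lit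 2, nat_lit 0, nat_lit 1, nat_lit 9, nat_lit 4, nat_lit 3, nat_lit 2, nat_lit 8, nat_lit 3, nat_lit 2, nat_lit 8, nat_lit 10, nat_lit 1, nat_lit 8, nat_lit 12, nat_lit 15, nat_lit 14, nat_lit 16, nat_lit 8, nat_lit 16] (Rl.inv (nat_lit 3267)))) (FT.node (nat_lit 3270) (FT.leaf (Fct.mk true (nat_lit 5) (nat_lit 1552) (nat_lit 32) [nat_lit 2, nat_lit 3, nat_lit 8, nat_lit 7, nat_lit 5, nat_lit 6, nat_lit 4, nat_lit 5, nat_lit 3, nat_lit 4, nat_lit 2, nat_lit 3, nat_lit 8, nat_lit 1, nat_lit 2, nat_lit 3, nat_lit 4, nat_lit 5, nat_lit 6, nat_lit 7, nat_lit 3, nat_lit 8, nat_lit 6, nat_lit 4, nat_lit 5, nat_lit 3, nat_lit 4, nat_lit 1, nat_lit 2, nat_lit 3, nat_lit 8, nat_lit 0, nat_lit 1, nat_lit 2, nat_lit 3, nat_lit 4, nat_lit 5, nat_lit 3, nat_lit 2, nat_lit 1, nat_lit 8, nat_lit 3, nat_lit 2, nat_lit 0, nat_lit 1, nat_lit 4, nat_lit 3, nat_lit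 2, nat_lit 8, nat_lit 3, nat_lit 2, nat_lit 12, nat_lit 8, nat_lit 16, nat_lit 14] (Rl.t1 (nat_lit 3268) (nat_lit 2922)))) (FT.leaf (Fct.mk false (nat_lit 32) (nat_lit 0) (nat_lit 32) [nat_lit 3, nat_lit 8, nat_lit 6, nat_lit 4, nat_lit 5, nat_lit 3, nat_lit 4, nat_lit 2, nat_lit 3, nat_lit 8, nat_lit 1, nat_lit 2, nat_lit 3, nat_lit 4, nat_lit 5, nat_lit 1, nat_lit 8, nat_lit 4, nat_lit 3, nat_lit 2, nat_lit 0, nat_lit 1, nat_lit 9, nat_lit 4, nat_lit 3, nat_lit 2, nat_lit 8, nat_lit 3, nat_lit 11, nat_lit 2, nat_lit 10, nat_lit 1, nat_lit 16, nat_lit 14, nat_lit 18, nat_lit 16] (Rl.cmp (nat_lit 3047) (nat_lit 3004)))))) (FT.node (nat_lit 3273) (FT.node (nat_lit 3272) (FT.leaf (Fct.mk false (nat_lit 32) (nat_lit 0) (nat_lit 32) [nat_lit 3, nat_lit 4, nat_lit 1, nat_lit 2, nat_lit 3, nat_lit 8, nat_lit 5, nat_lit 6, nat_lit 4, nat_lit 5, nat_lit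 3, nat_lit 4, nat_lit 2, nat_lit 3, nat_lit 8, nat_lit 1, nat_lit 2, nat_lit 3, nat_lit 4, nat_lit 5, nat_lit 2, nat_lit 1, nat_lit 4, nat_lit 3, nat_lit 2, nat_lit 0, nat_lit 1, nat_lit 9, nat_lit 4, nat_lit 3, nat_lit 2, nat_lit 8, nat_lit 3, nat_lit 10, nat_lit 9, nat_lit 2, nat_lit 12, nat_lit 15, nat_lit 14, nat_lit 16, nat_lit 8, nat_lit 19, nat_lit 16] (Rl.cmp (nat_lit 3047) (nat_lit 3270)))) (FT.leaf (Fct.mk false (nat_lit 32) (nat_lit 0) (nat_lit 32) [nat_lit 3, nat_lit 8, nat_lit 6, nat_lit 4, nat_lit 5, nat_lit 3, nat_lit 4, nat_lit 2, nat_lit 3, nat_lit 8, nat_lit 1, nat_lit 2, nat_lit 3, nat_lit 4, nat_lit 5, nat_lit 1, nat_lit 8, nat_lit 3, nat_lit 2, nat_lit 0, nat_lit 1, nat_lit 9, nat_lit 4, nat_lit 3, nat_lit 2, nat_lit 8, nat_lit 3, nat_lit 10, nat_lit 1, nat_lit 16, nat_lit 14, nat_lit 17, nat_lit 16] (Rl.cmp (nat_lit 3010)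 (nat_lit 3271))))) (FT.node (nat_lit 3274) (FT.leaf (Fct.mk false (nat_lit 32) (nat_lit 0) (nat_lit 32) [nat_lit 1, nat_lit 2, nat_lit 3, nat_lit 8, nat_lit 4, nat_lit 5, nat_lit 3, nat_lit 4, nat_lit 2, nat_lit 3, nat_lit 8, nat_lit 1, nat_lit 2, nat_lit 3, nat_lit 4, nat_lit 5, nat_lit 0, nat_lit 1, nat_lit 3, nat_lit 2, nat_lit 8, nat_lit 3, nat_lit 1, nat_lit 9, nat_lit 8, nat_lit 16, nat_lit 14, nat_lit 16, nat_lit 8, nat_lit 18, nat_lit 16] (Rl.cmp (nat_lit 3004) (nat_lit 3272)))) (FT.leaf (Fct.mk false (nat_lit 32) (nat_lit 0) (nat_lit 32) [nat_lit 3, nat_lit 2, nat_lit 1, nat_lit 8, nat_lit 3, nat_lit 2, nat_lit 0, nat_lit 1, nat_lit 4, nat_lit 3, nat_lit 2, nat_lit 8, nat_lit 3, nat_lit 2, nat_lit 8, nat_lit 10, nat_lit 1, nat_lit 8, nat_lit 12, nat_lit 15, nat_lit 14, nat_lit 12, nat_lit 18] (Rl.cmp (nat_lit 3047) (nat_lit 3273)))))))))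 (FT.node (nat_lit 3287) (FT.node (nat_lit 3281) (FT.node (nat_lit 3278) (FT.node (nat_lit 3276) (FT.leaf (Fct.mk false (nat_lit 32) (nat_lit 0) (nat_lit 32) [nat_lit 3, nat_lit 8, nat_lit 6, nat_lit 4, nat_lit 5, nat_lit 3, nat_lit 4, nat_lit 2, nat_lit 3, nat_lit 8, nat_lit 1, nat_lit 2, nat_lit 3, nat_lit 4, nat_lit 5, nat_lit 1, nat_lit 8, nat_lit 4, nat_lit 3, nat_lit 2, nat_lit 0, nat_lit 1, nat_lit 9, nat_lit 4, nat_lit 3, nat_lit 2, nat_lit 8, nat_lit 3, nat_lit 11, nat_lit 2, nat_lit 10, nat_lit 1, nat_lit 16, nat_lit 14, nat_lit 18, nat_lit 16] (Rl.cmp (nat_lit 3047) (nat_lit 3004)))) (FT.node (nat_lit 3277) (FT.leaf (Fct.mk false (nat_lit 32) (nat_lit 0) (nat_lit 32) [nat_lit 3, nat_lit 4, nat_lit 2, nat_lit 3, nat_lit 8, nat_lit 5, nat_lit 6, nat_lit 4, nat_lit 5, nat_lit 3, nat_lit 4, nat_lit 2, nat_lit 3, nat_lit 8, nat_lit 1,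 nat_lit 2, nat_lit 3, nat_lit 4, nat_lit 5, nat_lit 2, nat_lit 1, nat_lit 8, nat_lit 3, nat_lit 2, nat_lit 0, nat_lit 1, nat_lit 4, nat_lit 3, nat_lit 2, nat_lit 8, nat_lit 3, nat_lit 10, nat_lit 12, nat_lit 15, nat_lit 14, nat_lit 18, nat_lit 16] (Rl.cmp (nat_lit 3010) (nat_lit 3275)))) (FT.leaf (Fct.mk false (nat_lit 32) (nat_lit 0) (nat_lit 32) [nat_lit 5, nat_lit 4, nat_lit 3, nat_lit 8, nat_lit 1, nat_lit 2, nat_lit 3, nat_lit 4, nat_lit 5, nat_lit 0, nat_lit 1, nat_lit 3, nat_lit 2, nat_lit 8, nat_lit 3, nat_lit 10, nat_lit 2, nat_lit 8, nat_lit 10, nat_lit 1, nat_lit 16, nat_lit 15, nat_lit 14, nat_lit 16, nat_lit 8] (Rl.cmp (nat_lit 3004) (nat_lit 3276)))))) (FT.node (nat_lit 3279) (FT.leaf (Fct.mk false (nat_lit 32) (nat_lit 0) (nat_lit 32) [nat_lit 2, nat_lit 3, nat_lit 4, nat_lit 5, nat_lit 2, nat_lit 1, nat_lit 8, nat_lit 3, nat_lit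 2, nat_lit 0, nat_lit 1, nat_lit 4, nat_lit 3, nat_lit 2, nat_lit 8, nat_lit 3, nat_lit 10, nat_lit 9, nat_lit 2, nat_lit 16, nat_lit 8, nat_lit 12, nat_lit 15, nat_lit 12, nat_lit 16] (Rl.cmp (nat_lit 3047) (nat_lit 3277)))) (FT.node (nat_lit 3280) (FT.leaf (Fct.mk true (nat_lit 32) (nat_lit 3542) (nat_lit 32) [nat_lit 6, nat_lit 5, nat_lit 4, nat_lit 3, nat_lit 8, nat_lit 2, nat_lit 3, nat_lit 4, nat_lit 1, nat_lit 2, nat_lit 3, nat_lit 8, nat_lit 5, nat_lit 6, nat_lit 4, nat_lit 5, nat_lit 3, nat_lit 4, nat_lit 2, nat_lit 3, nat_lit 8, nat_lit 1, nat_lit 2, nat_lit 3, nat_lit 4, nat_lit 5, nat_lit 6, nat_lit 7, nat_lit 8, nat_lit 6, nat_lit 5, nat_lit 3, nat_lit 4, nat_lit 2, nat_lit 3, nat_lit 8, nat_lit 0, nat_lit 1, nat_lit 2, nat_lit 3, nat_lit 4, nat_lit 5, nat_lit 3, nat_lit 2, nat_lit 8, nat_lit 3, nat_lit 11, nat_lit 8, nat_lit 10,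 nat_lit 1, nat_lit 12, nat_lit 15, nat_lit 14, nat_lit 17, nat_lit 18, nat_lit 16] (Rl.rel (nat_lit 0) [nat_lit 8, nat_lit 5, nat_lit 6, nat_lit 4, nat_lit 5, nat_lit 3, nat_lit 4, nat_lit 1, nat_lit 2, nat_lit 3, nat_lit 8, nat_lit 0, nat_lit 1, nat_lit 2, nat_lit 3, nat_lit 4, nat_lit 5, nat_lit 6, nat_lit 7, nat_lit 8, nat_lit 4, nat_lit 5, nat_lit 2, nat_lit 3, nat_lit 4, nat_lit 1, nat_lit 2, nat_lit 3, nat_lit 8, nat_lit 0, nat_lit 1, nat_lit 2, nat_lit 3, nat_lit 4, nat_lit 5, nat_lit 3, nat_lit 2, nat_lit 1, nat_lit 8, nat_lit 3, nat_lit 2, nat_lit 0, nat_lit 1, nat_lit 9, nat_lit 4, nat_lit 3, nat_lit 2, nat_lit 8, nat_lit 3, nat_lit 0, nat_lit 8, nat_lit 18] (nat_lit 5) (nat_lit 1) [nat_lit 3139] [nat_lit 2819, nat_lit 3096]))) (FT.leaf (Fct.mk true (nat_lit 32) (nat_lit 3513) (nat_lit 32) [nat_lit 6, nat_lit 5, nat_lit 4, nat_lit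 3, nat_lit 8, nat_lit 2, nat_lit 3, nat_lit 4, nat_lit 1, nat_lit 2, nat_lit 3, nat_lit 8, nat_lit 5, nat_lit 6, nat_lit 4, nat_lit 5, nat_lit 3, nat_lit 4, nat_lit 2, nat_lit 3, nat_lit 8, nat_lit 1, nat_lit 2, nat_lit 3, nat_lit 4, nat_lit 5, nat_lit 6, nat_lit 7, nat_lit 6, nat_lit 4, nat_lit 5, nat_lit 3, nat_lit 4, nat_lit 2, nat_lit 3, nat_lit 8, nat_lit 1, nat_lit 2, nat_lit 3, nat_lit 4, nat_lit 5, nat_lit 3, nat_lit 2, nat_lit 1, nat_lit 8, nat_lit 3, nat_lit 2, nat_lit 0, nat_lit 1, nat_lit 4, nat_lit 3, nat_lit 2, nat_lit 8, nat_lit 3, nat_lit 9, nat_lit 2, nat_lit 15, nat_lit 19, nat_lit 16] (Rl.t1 (nat_lit 3279) (nat_lit 3274))))))) (FT.node (nat_lit 3284) (FT.node (nat_lit 3282) (FT.leaf (Fct.mk true (nat_lit 32) (nat_lit 87807) (nat_lit 32) [nat_lit 8, nat_lit 5, nat_lit 6, nat_lit 4, nat_lit 5, nat_lit 2, nat_lit 3, nat_lit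 4, nat_lit 1, nat_lit 2, nat_lit 3, nat_lit 8, nat_lit 0, nat_lit 1, nat_lit 2, nat_lit 3, nat_lit 4, nat_lit 5, nat_lit 6, nat_lit 7, nat_lit 4, nat_lit 3, nat_lit 8, nat_lit 5, nat_lit 6, nat_lit 4, nat_lit 5, nat_lit 3, nat_lit 4, nat_lit 2, nat_lit 3, nat_lit 8, nat_lit 1, nat_lit 2, nat_lit 3, nat_lit 4, nat_lit 5, nat_lit 2, nat_lit 1, nat_lit 4, nat_lit 3, nat_lit 2, nat_lit 8, nat_lit 3, nat_lit 11, nat_lit 10, nat_lit 2, nat_lit 8, nat_lit 10, nat_lit 1, nat_lit 14, nat_lit 17] (Rl.inv (nat_lit 3280)))) (FT.node (nat_lit 3283) (FT.leaf (Fct.mk true (nat_lit 32) (nat_lit 21) (nat_lit 32) [nat_lit 6, nat_lit 5, nat_lit 4, nat_lit 3, nat_lit 8, nat_lit 2, nat_lit 3, nat_lit 4, nat_lit 1, nat_lit 2, nat_lit 3, nat_lit 8, nat_lit 5, nat_lit 6, nat_lit 4, nat_lit 5, nat_lit 3, nat_lit 4, nat_lit 2, nat_lit 3, nat_lit 8, nat_lit 1, nat_lit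 2, nat_lit 3, nat_lit 4, nat_lit 5, nat_lit 6, nat_lit 7, nat_lit 5, nat_lit 4, nat_lit 3, nat_lit 8, nat_lit 2, nat_lit 3, nat_lit 4, nat_lit 1, nat_lit 2, nat_lit 3, nat_lit 8, nat_lit 5, nat_lit 6, nat_lit 4, nat_lit 5, nat_lit 3, nat_lit 4, nat_lit 2, nat_lit 3, nat_lit 8, nat_lit 1, nat_lit 2, nat_lit 3, nat_lit 4, nat_lit 5, nat_lit 2, nat_lit 0, nat_lit 1, nat_lit 3, nat_lit 2, nat_lit 8, nat_lit 3, nat_lit 9, nat_lit 2, nat_lit 8, nat_lit 16, nat_lit 14, nat_lit 16, nat_lit 8, nat_lit 19] (Rl.t1 (nat_lit 3281) (nat_lit 3278)))) (FT.leaf (Fct.mk false (nat_lit 32) (nat_lit 0) (nat_lit 32) [nat_lit 3, nat_lit 8, nat_lit 6, nat_lit 4, nat_lit 5, nat_lit 3, nat_lit 4, nat_lit 2, nat_lit 3, nat_lit 8, nat_lit 1, nat_lit 2, nat_lit 3, nat_lit 4, nat_lit 5, nat_lit 1, nat_lit 8, nat_lit 4, nat_lit 3, nat_lit 2, nat_lit 0, nat_lit 1, nat_lit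 9, nat_lit 4, nat_lit 3, nat_lit 2, nat_lit 8, nat_lit 3, nat_lit 11, nat_lit 2, nat_lit 10, nat_lit 1, nat_lit 16, nat_lit 14, nat_lit 18, nat_lit 16] (Rl.cmp (nat_lit 3047) (nat_lit 3004)))))) (FT.node (nat_lit 3285) (FT.leaf (Fct.mk false (nat_lit 32) (nat_lit 0) (nat_lit 32) [nat_lit 3, nat_lit 4, nat_lit 1, nat_lit 2, nat_lit 3, nat_lit 8, nat_lit 5, nat_lit 6, nat_lit 4, nat_lit 5, nat_lit 3, nat_lit 4, nat_lit 2, nat_lit 3, nat_lit 8, nat_lit 1, nat_lit 2, nat_lit 3, nat_lit 4, nat_lit 5, nat_lit 2, nat_lit 1, nat_lit 4, nat_lit 3, nat_lit 2, nat_lit 0, nat_lit 1, nat_lit 9, nat_lit 4, nat_lit 3, nat_lit 2, nat_lit 8, nat_lit 3, nat_lit 10, nat_lit 9, nat_lit 2, nat_lit 12, nat_lit 15, nat_lit 14, nat_lit 16, nat_lit 8, nat_lit 19, nat_lit 16] (Rl.cmp (nat_lit 3047) (nat_lit 3283)))) (FT.node (nat_lit 3286) (FT.leaf (Fct.mk false (nat_lit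 32) (nat_lit 0) (nat_lit 32) [nat_lit 8, nat_lit 3, nat_lit 4, nat_lit 1, nat_lit 2, nat_lit 3, nat_lit 8, nat_lit 5, nat_lit 6, nat_lit 4, nat_lit 5, nat_lit 3, nat_lit 4, nat_lit 2, nat_lit 3, nat_lit 8, nat_lit 1, nat_lit 2, nat_lit 3, nat_lit 4, nat_lit 5, nat_lit 2, nat_lit 1, nat_lit 4, nat_lit 3, nat_lit 2, nat_lit 8, nat_lit 3, nat_lit 11, nat_lit 1, nat_lit 15, nat_lit 14, nat_lit 8, nat_lit 19] (Rl.cmp (nat_lit 3004) (nat_lit 3284)))) (FT.leaf (Fct.mk false (nat_lit 32) (nat_lit 0) (nat_lit 32) [nat_lit 2, nat_lit 3, nat_lit 8, nat_lit 6, nat_lit 4, nat_lit 5, nat_lit 3, nat_lit 4, nat_lit 2, nat_lit 3, nat_lit 8, nat_lit 1, nat_lit 2, nat_lit 3, nat_lit 4, nat_lit 5, nat_lit 2, nat_lit 3, nat_lit 8, nat_lit 4, nat_lit 3, nat_lit 2, nat_lit 1, nat_lit 9, nat_lit 4, nat_lit 3, nat_lit 2, nat_lit 8, nat_lit 3, nat_lit 0, nat_lit 15,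 nat_lit 14, nat_lit 17, nat_lit 12] (Rl.cmp (nat_lit 3010) (nat_lit 3285)))))))) (FT.node (nat_lit 3293) (FT.node (nat_lit 3290) (FT.node (nat_lit 3288) (FT.leaf (Fct.mk false (nat_lit 32) (nat_lit 0) (nat_lit 32) [nat_lit 5, nat_lit 6, nat_lit 4, nat_lit 5, nat_lit 3, nat_lit 4, nat_lit 2, nat_lit 3, nat_lit 8, nat_lit 1, nat_lit 2, nat_lit 3, nat_lit 4, nat_lit 5, nat_lit 1, nat_lit 4, nat_lit 3, nat_lit 2, nat_lit 8, nat_lit 3, nat_lit 11, nat_lit 1, nat_lit 12, nat_lit 15, nat_lit 14, nat_lit 16, nat_lit 8, nat_lit 19] (Rl.cmp (nat_lit 3010) (nat_lit 3286)))) (FT.node (nat_lit 3289) (FT.leaf (Fct.mk false (nat_lit 32) (nat_lit 0) (nat_lit 32) [nat_lit 8, nat_lit 1, nat_lit 2, nat_lit 3, nat_lit 4, nat_lit 5, nat_lit 3, nat_lit 2, nat_lit 0, nat_lit 1, nat_lit 9, nat_lit 4, nat_lit 3, nat_lit 2, nat_lit 8, nat_lit 3, nat_lit 8, nat_lit 10,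 nat_lit 0, nat_lit 16, nat_lit 14, nat_lit 13, nat_lit 12, nat_lit 19] (Rl.cmp (nat_lit 3004) (nat_lit 3047)))) (FT.leaf (Fct.mk false (nat_lit 32) (nat_lit 0) (nat_lit 32) [nat_lit 2, nat_lit 3, nat_lit 8, nat_lit 6, nat_lit 4, nat_lit 5, nat_lit 3, nat_lit 4, nat_lit 2, nat_lit 3, nat_lit 8, nat_lit 1, nat_lit 2, nat_lit 3, nat_lit 4, nat_lit 5, nat_lit 2, nat_lit 1, nat_lit 3, nat_lit 2, nat_lit 0, nat_lit 1, nat_lit 4, nat_lit 3, nat_lit 2, nat_lit 8, nat_lit 3, nat_lit 11, nat_lit 1, nat_lit 15, nat_lit 13, nat_lit 19, nat_lit 16] (Rl.cmp (nat_lit 3004) (nat_lit 3288)))))) (FT.node (nat_lit 3291) (FT.leaf (Fct.mk false (nat_lit 32) (nat_lit 0) (nat_lit 32) [nat_lit 5, nat_lit 6, nat_lit 4, nat_lit 5, nat_lit 3, nat_lit 4, nat_lit 2, nat_lit 3, nat_lit 8, nat_lit 1, nat_lit 2, nat_lit 3, nat_lit 4, nat_lit 5, nat_lit 1, nat_lit 8, nat_lit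 3, nat_lit 2, nat_lit 0, nat_lit 1, nat_lit 9, nat_lit 4, nat_lit 3, nat_lit 2, nat_lit 8, nat_lit 3, nat_lit 0, nat_lit 15, nat_lit 14, nat_lit 13, nat_lit 19, nat_lit 16] (Rl.cmp (nat_lit 3010) (nat_lit 3289)))) (FT.node (nat_lit 3292) (FT.leaf (Fct.mk false (nat_lit 32) (nat_lit 0) (nat_lit 32) [nat_lit 8, nat_lit 3, nat_lit 4, nat_lit 1, nat_lit 2, nat_lit 3, nat_lit 8, nat_lit 5, nat_lit 6, nat_lit 4, nat_lit 5, nat_lit 3, nat_lit 4, nat_lit 2, nat_lit 3, nat_lit 8, nat_lit 1, nat_lit 2, nat_lit 3, nat_lit 4, nat_lit 5, nat_lit 2, nat_lit 1, nat_lit 8, nat_lit 3, nat_lit 2, nat_lit 0, nat_lit 1, nat_lit 4, nat_lit 3, nat_lit 2, nat_lit 8, nat_lit 3, nat_lit 11, nat_lit 2, nat_lit 14, nat_lit 19, nat_lit 16] (Rl.cmp (nat_lit 3010) (nat_lit 3290)))) (FT.leaf (Fct.mk false (nat_lit 32) (nat_lit 0) (nat_lit 32) [nat_lit 8, nat_lit 5, nat_lit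 6, nat_lit 4, nat_lit 5, nat_lit 2, nat_lit 3, nat_lit 4, nat_lit 1, nat_lit 2, nat_lit 3, nat_lit 8, nat_lit 0, nat_lit 1, nat_lit 2, nat_lit 3, nat_lit 4, nat_lit 5, nat_lit 1, nat_lit 2, nat_lit 0, nat_lit 1, nat_lit 4, nat_lit 3, nat_lit 2, nat_lit 8, nat_lit 3, nat_lit 11, nat_lit 8, nat_lit 10, nat_lit 1, nat_lit 16, nat_lit 15, nat_lit 14, nat_lit 17, nat_lit 12] (Rl.cmp (nat_lit 3004) (nat_lit 3291))))))) (FT.node (nat_lit 3296) (FT.node (nat_lit 3294) (FT.leaf (Fct.mk true (nat_lit 32) (nat_lit 11894) (nat_lit 5) [nat_lit 8, nat_lit 2, nat_lit 3, nat_lit 4, nat_lit 5, nat_lit 6, nat_lit 7, nat_lit 6, nat_lit 5, nat_lit 4, nat_lit 2, nat_lit 3, nat_lit 8, nat_lit 0, nat_lit 1, nat_lit 2, nat_lit 3, nat_lit 4, nat_lit 5, nat_lit 9, nat_lit 4, nat_lit 9, nat_lit 2, nat_lit 16, nat_lit 14, nat_lit 12, nat_lit 19, nat_lit 16] (Rl.rel (nat_lit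 0) [nat_lit 6, nat_lit 5, nat_lit 4, nat_lit 3, nat_lit 8, nat_lit 0, nat_lit 1, nat_lit 2, nat_lit 3, nat_lit 4, nat_lit 5, nat_lit 6, nat_lit 7, nat_lit 8, nat_lit 3, nat_lit 4, nat_lit 1, nat_lit 2, nat_lit 3, nat_lit 8, nat_lit 0, nat_lit 1, nat_lit 2, nat_lit 3, nat_lit 4, nat_lit 5, nat_lit 8, nat_lit 10, nat_lit 0, nat_lit 8, nat_lit 12, nat_lit 15, nat_lit 14] (nat_lit 5) (nat_lit 2) [nat_lit 3139, nat_lit 3287, nat_lit 3255] []))) (FT.node (nat_lit 3295) (FT.leaf (Fct.mk true (nat_lit 32) (nat_lit 9086) (nat_lit 5) [nat_lit 6, nat_lit 5, nat_lit 4, nat_lit 3, nat_lit 8, nat_lit 2, nat_lit 3, nat_lit 4, nat_lit 5, nat_lit 6, nat_lit 7, nat_lit 6, nat_lit 4, nat_lit 5, nat_lit 3, nat_lit 4, nat_lit 2, nat_lit 3, nat_lit 8, nat_lit 0, nat_lit 1, nat_lit 2, nat_lit 3, nat_lit 4, nat_lit 5, nat_lit 3, nat_lit 2, nat_lit 1, nat_lit 8, nat_lit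 3, nat_lit 2, nat_lit 0, nat_lit 1, nat_lit 9, nat_lit 4, nat_lit 3, nat_lit 2, nat_lit 8, nat_lit 3, nat_lit 2, nat_lit 10, nat_lit 1, nat_lit 12, nat_lit 15, nat_lit 14, nat_lit 17, nat_lit 12, nat_lit 18] (Rl.t1 (nat_lit 3293) (nat_lit 3292)))) (FT.leaf (Fct.mk true (nat_lit 5) (nat_lit 5083) (nat_lit 32) [nat_lit 4, nat_lit 2, nat_lit 3, nat_lit 8, nat_lit 5, nat_lit 6, nat_lit 4, nat_lit 5, nat_lit 3, nat_lit 4, nat_lit 2, nat_lit 3, nat_lit 8, nat_lit 1, nat_lit 2, nat_lit 3, nat_lit 4, nat_lit 5, nat_lit 6, nat_lit 7, nat_lit 3, nat_lit 4, nat_lit 5, nat_lit 2, nat_lit 3, nat_lit 4, nat_lit 1, nat_lit 2, nat_lit 3, nat_lit 8, nat_lit 0, nat_lit 1, nat_lit 2, nat_lit 3, nat_lit 4, nat_lit 5, nat_lit 4, nat_lit 3, nat_lit 2, nat_lit 8, nat_lit 3, nat_lit 9, nat_lit 16, nat_lit 14, nat_lit 18, nat_lit 16] (Rl.inv (nat_lit 3294)))))) (FT.node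 (nat_lit 3298) (FT.node (nat_lit 3297) (FT.leaf (Fct.mk true (nat_lit 5) (nat_lit 394) (nat_lit 32) [nat_lit 2, nat_lit 3, nat_lit 8, nat_lit 6, nat_lit 4, nat_lit 5, nat_lit 3, nat_lit 4, nat_lit 2, nat_lit 3, nat_lit 8, nat_lit 1, nat_lit 2, nat_lit 3, nat_lit 4, nat_lit 5, nat_lit 6, nat_lit 7, nat_lit 4, nat_lit 5, nat_lit 3, nat_lit 4, nat_lit 1, nat_lit 2, nat_lit 3, nat_lit 8, nat_lit 0, nat_lit 1, nat_lit 2, nat_lit 3, nat_lit 4, nat_lit 5, nat_lit 4, nat_lit 3, nat_lit 2, nat_lit 8, nat_lit 3, nat_lit 9, nat_lit 16, nat_lit 14, nat_lit 18, nat_lit 16] (Rl.t1 (nat_lit 3295) (nat_lit 2930)))) (FT.leaf (Fct.mk false (nat_lit 32) (nat_lit 0) (nat_lit 32) [nat_lit 5, nat_lit 4, nat_lit 3, nat_lit 8, nat_lit 2, nat_lit 3, nat_lit 4, nat_lit 5, nat_lit 4, nat_lit 3, nat_lit 2, nat_lit 8, nat_lit 3, nat_lit 11, nat_lit 2, nat_lit 13, nat_lit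 19] (Rl.cmp (nat_lit 3047) (nat_lit 3010))))) (FT.node (nat_lit 3299) (FT.leaf (Fct.mk false (nat_lit 32) (nat_lit 0) (nat_lit 32) [nat_lit 5, nat_lit 6, nat_lit 4, nat_lit 5, nat_lit 3, nat_lit 4, nat_lit 2, nat_lit 3, nat_lit 8, nat_lit 1, nat_lit 2, nat_lit 3, nat_lit 4, nat_lit 5, nat_lit 2, nat_lit 1, nat_lit 8, nat_lit 3, nat_lit 2, nat_lit 0, nat_lit 1, nat_lit 9, nat_lit 4, nat_lit 3, nat_lit 2, nat_lit 8, nat_lit 3, nat_lit 12, nat_lit 15, nat_lit 14, nat_lit 17, nat_lit 16] (Rl.cmp (nat_lit 3004) (nat_lit 3297)))) (FT.leaf (Fct.mk false (nat_lit 32) (nat_lit 0) (nat_lit 32) [nat_lit 5, nat_lit 4, nat_lit 2, nat_lit 3, nat_lit 8, nat_lit 0, nat_lit 1, nat_lit 2, nat_lit 3, nat_lit 4, nat_lit 5, nat_lit 2, nat_lit 1, nat_lit 8, nat_lit 4, nat_lit 3, nat_lit 2, nat_lit 0, nat_lit 1, nat_lit 9, nat_lit 4, nat_lit 3, nat_lit 2, nat_lit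 8, nat_lit 3, nat_lit 10, nat_lit 1, nat_lit 16, nat_lit 14, nat_lit 16, nat_lit 8, nat_lit 19] (Rl.cmp (nat_lit 3047) (nat_lit 3298)))))))))

/-- some facts -/
noncomputable def ftc66 : FT := FT.node (nat_lit 3325) (FT.node (nat_lit 3312) (FT.node (nat_lit 3306) (FT.node (nat_lit 3303) (FT.node (nat_lit 3301) (FT.leaf (Fct.mk false (nat_lit 5) (nat_lit 0) (nat_lit 5) [nat_lit 8, nat_lit 3, nat_lit 4, nat_lit 2, nat_lit 3, nat_lit 8, nat_lit 7, nat_lit 5, nat_lit 6, nat_lit 4, nat_lit 5, nat_lit 3, nat_lit 4, nat_lit 2, nat_lit 3, nat_lit 8, nat_lit 0, nat_lit 1, nat_lit 2, nat_lit 3, nat_lit 4, nat_lit 5, nat_lit 6, nat_lit 7, nat_lit 8, nat_lit 4, nat_lit 5, nat_lit 3, nat_lit 4, nat_lit 2, nat_lit 3, nat_lit 8, nat_lit 1, nat_lit 2, nat_lit 3, nat_lit 4, nat_lit 5, nat_lit 2, nat_lit 1, nat_lit 4, nat_lit 3, nat_lit 2, nat_lit 8, nat_lit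 3, nat_lit 2, nat_lit 8, nat_lit 10, nat_lit 1, nat_lit 12, nat_lit 15, nat_lit 14, nat_lit 8] (Rl.cmp (nat_lit 1754) (nat_lit 2972)))) (FT.node (nat_lit 3302) (FT.leaf (Fct.mk false (nat_lit 5) (nat_lit 0) (nat_lit 5) [nat_lit 2, nat_lit 3, nat_lit 8, nat_lit 4, nat_lit 5, nat_lit 3, nat_lit 4, nat_lit 2, nat_lit 3, nat_lit 8, nat_lit 6, nat_lit 7, nat_lit 5, nat_lit 6, nat_lit 4, nat_lit 5, nat_lit 3, nat_lit 4, nat_lit 2, nat_lit 3, nat_lit 8, nat_lit 1, nat_lit 2, nat_lit 3, nat_lit 4, nat_lit 5, nat_lit 6, nat_lit 7, nat_lit 0, nat_lit 1, nat_lit 2, nat_lit 3, nat_lit 4, nat_lit 5, nat_lit 4, nat_lit 3, nat_lit 2, nat_lit 1, nat_lit 8, nat_lit 3, nat_lit 2, nat_lit 0, nat_lit 1, nat_lit 4, nat_lit 3, nat_lit 2, nat_lit 8, nat_lit 3, nat_lit 11, nat_lit 10, nat_lit 1, nat_lit 8, nat_lit 16, nat_lit 14, nat_lit 8, nat_lit 19] (Rl.cmp (nat_lit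 2094) (nat_lit 3300)))) (FT.leaf (Fct.mk true (nat_lit 32) (nat_lit 29799) (nat_lit 5) [nat_lit 6, nat_lit 3, nat_lit 4, nat_lit 5, nat_lit 2, nat_lit 3, nat_lit 4, nat_lit 1, nat_lit 2, nat_lit 3, nat_lit 8, nat_lit 0, nat_lit 1, nat_lit 2, nat_lit 3, nat_lit 4, nat_lit 5, nat_lit 6, nat_lit 7, nat_lit 4, nat_lit 3, nat_lit 8, nat_lit 5, nat_lit 6, nat_lit 4, nat_lit 5, nat_lit 3, nat_lit 4, nat_lit 1, nat_lit 2, nat_lit 3, nat_lit 8, nat_lit 0, nat_lit 1, nat_lit 2, nat_lit 3, nat_lit 4, nat_lit 5, nat_lit 8, nat_lit 4, nat_lit 3, nat_lit 2, nat_lit 0, nat_lit 1, nat_lit 9, nat_lit 4, nat_lit 3, nat_lit 2, nat_lit 8, nat_lit 3, nat_lit 10, nat_lit 1, nat_lit 8, nat_lit 12, nat_lit 15, nat_lit 14, nat_lit 8] (Rl.rel (nat_lit 0) [nat_lit 6, nat_lit 5, nat_lit 4, nat_lit 3, nat_lit 8, nat_lit 0, nat_lit 1, nat_lit 2, nat_lit 3, nat_lit 4, nat_lit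 5, nat_lit 6, nat_lit 7, nat_lit 8, nat_lit 3, nat_lit 4, nat_lit 1, nat_lit 2, nat_lit 3, nat_lit 8, nat_lit 0, nat_lit 1, nat_lit 2, nat_lit 3, nat_lit 4, nat_lit 5, nat_lit 3, nat_lit 2, nat_lit 1, nat_lit 8, nat_lit 3, nat_lit 2, nat_lit 0, nat_lit 1, nat_lit 9, nat_lit 4, nat_lit 3, nat_lit 2, nat_lit 8, nat_lit 3, nat_lit 10, nat_lit 0, nat_lit 17, nat_lit 18] (nat_lit 5) (nat_lit 1) [nat_lit 3139] [nat_lit 3301, nat_lit 2098, nat_lit 2425]))))) (FT.node (nat_lit 3304) (FT.leaf (Fct.mk true (nat_lit 32) (nat_lit 1074) (nat_lit 5) [nat_lit 6, nat_lit 5, nat_lit 4, nat_lit 3, nat_lit 8, nat_lit 0, nat_lit 1, nat_lit 2, nat_lit 3, nat_lit 4, nat_lit 5, nat_lit 6, nat_lit 7, nat_lit 3, nat_lit 8, nat_lit 6, nat_lit 4, nat_lit 5, nat_lit 3, nat_lit 4, nat_lit 2, nat_lit 3, nat_lit 8, nat_lit 1, nat_lit 2, nat_lit 3, nat_lit 4, nat_lit 5, nat_lit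 2, nat_lit 3, nat_lit 8, nat_lit 4, nat_lit 3, nat_lit 2, nat_lit 0, nat_lit 1, nat_lit 9, nat_lit 4, nat_lit 3, nat_lit 2, nat_lit 8, nat_lit 3, nat_lit 11, nat_lit 10, nat_lit 2, nat_lit 8, nat_lit 10, nat_lit 1, nat_lit 15, nat_lit 14, nat_lit 16, nat_lit 8, nat_lit 19, nat_lit 16] (Rl.t1 (nat_lit 3302) (nat_lit 3299)))) (FT.node (nat_lit 3305) (FT.leaf (Fct.mk true (nat_lit 5) (nat_lit 14576) (nat_lit 32) [nat_lit 2, nat_lit 3, nat_lit 8, nat_lit 4, nat_lit 5, nat_lit 3, nat_lit 4, nat_lit 2, nat_lit 3, nat_lit 8, nat_lit 1, nat_lit 2, nat_lit 3, nat_lit 4, nat_lit 5, nat_lit 6, nat_lit 7, nat_lit 4, nat_lit 3, nat_lit 8, nat_lit 2, nat_lit 3, nat_lit 4, nat_lit 5, nat_lit 2, nat_lit 0, nat_lit 1, nat_lit 4, nat_lit 3, nat_lit 2, nat_lit 8, nat_lit 3, nat_lit 11, nat_lit 10, nat_lit 16, nat_lit 12, nat_lit 15, nat_lit 14, nat_lit 12, nat_lit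 18] (Rl.inv (nat_lit 3303)))) (FT.leaf (Fct.mk true (nat_lit 5) (nat_lit 260) (nat_lit 32) [nat_lit 2, nat_lit 3, nat_lit 8, nat_lit 4, nat_lit 5, nat_lit 3, nat_lit 4, nat_lit 2, nat_lit 3, nat_lit 8, nat_lit 1, nat_lit 2, nat_lit 3, nat_lit 4, nat_lit 5, nat_lit 6, nat_lit 7, nat_lit 6, nat_lit 5, nat_lit 4, nat_lit 2, nat_lit 3, nat_lit 8, nat_lit 1, nat_lit 2, nat_lit 3, nat_lit 4, nat_lit 5, nat_lit 2, nat_lit 1, nat_lit 8, nat_lit 3, nat_lit 2, nat_lit 0, nat_lit 1, nat_lit 4, nat_lit 3, nat_lit 2, nat_lit 8, nat_lit 3, nat_lit 2, nat_lit 10, nat_lit 1, nat_lit 18] (Rl.t1 (nat_lit 3304) (nat_lit 2970))))))) (FT.node (nat_lit 3309) (FT.node (nat_lit 3307) (FT.leaf (Fct.mk false (nat_lit 32) (nat_lit 0) (nat_lit 32) [nat_lit 2, nat_lit 3, nat_lit 4, nat_lit 1, nat_lit 2, nat_lit 3, nat_lit 8, nat_lit 0, nat_lit 1, nat_lit 2, nat_lit 3,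 nat_lit 4, nat_lit 5, nat_lit 3, nat_lit 8, nat_lit 4, nat_lit 3, nat_lit 2, nat_lit 0, nat_lit 1, nat_lit 9, nat_lit 4, nat_lit 3, nat_lit 2, nat_lit 8, nat_lit 3, nat_lit 11, nat_lit 10, nat_lit 8, nat_lit 16, nat_lit 14, nat_lit 19] (Rl.cmp (nat_lit 3010) (nat_lit 3004)))) (FT.node (nat_lit 3308) (FT.leaf (Fct.mk false (nat_lit 32) (nat_lit 0) (nat_lit 32) [nat_lit 5, nat_lit 4, nat_lit 3, nat_lit 8, nat_lit 0, nat_lit 1, nat_lit 2, nat_lit 3, nat_lit 4, nat_lit 5, nat_lit 1, nat_lit 8, nat_lit 3, nat_lit 2, nat_lit 0, nat_lit 1, nat_lit 9, nat_lit 4, nat_lit 3, nat_lit 2, nat_lit 8, nat_lit 3, nat_lit 2, nat_lit 16, nat_lit 14, nat_lit 12, nat_lit 19] (Rl.cmp (nat_lit 3010) (nat_lit 3306)))) (FT.leaf (Fct.mk false (nat_lit 32) (nat_lit 0) (nat_lit 32) [nat_lit 5, nat_lit 4, nat_lit 3, nat_lit 8, nat_lit 2, nat_lit 3, nat_lit 4, nat_lit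 1, nat_lit 2, nat_lit 3, nat_lit 8, nat_lit 5, nat_lit 6, nat_lit 4, nat_lit 5, nat_lit 3, nat_lit 4, nat_lit 2, nat_lit 3, nat_lit 8, nat_lit 1, nat_lit 2, nat_lit 3, nat_lit 4, nat_lit 5, nat_lit 2, nat_lit 1, nat_lit 8, nat_lit 3, nat_lit 2, nat_lit 0, nat_lit 1, nat_lit 4, nat_lit 3, nat_lit 2, nat_lit 8, nat_lit 3, nat_lit 10, nat_lit 9, nat_lit 2, nat_lit 8, nat_lit 16, nat_lit 15, nat_lit 14, nat_lit 16, nat_lit 8, nat_lit 18, nat_lit 16] (Rl.cmp (nat_lit 3004) (nat_lit 3307)))))) (FT.node (nat_lit 3310) (FT.leaf (Fct.mk false (nat_lit 32) (nat_lit 0) (nat_lit 32) [nat_lit 1, nat_lit 2, nat_lit 3, nat_lit 8, nat_lit 6, nat_lit 4, nat_lit 5, nat_lit 3, nat_lit 4, nat_lit 2, nat_lit 3, nat_lit 8, nat_lit 1, nat_lit 2, nat_lit 3, nat_lit 4, nat_lit 5, nat_lit 2, nat_lit 1, nat_lit 3, nat_lit 2, nat_lit 0, nat_lit 1, nat_lit 4, nat_lit 3,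 nat_lit 2, nat_lit 8, nat_lit 3, nat_lit 10, nat_lit 1, nat_lit 8, nat_lit 12, nat_lit 15, nat_lit 14, nat_lit 8, nat_lit 18] (Rl.cmp (nat_lit 3010) (nat_lit 3308)))) (FT.node (nat_lit 3311) (FT.leaf (Fct.mk false (nat_lit 5) (nat_lit 0) (nat_lit 5) [nat_lit 4, nat_lit 3, nat_lit 8, nat_lit 2, nat_lit 3, nat_lit 4, nat_lit 1, nat_lit 2, nat_lit 3, nat_lit 8, nat_lit 6, nat_lit 7, nat_lit 5, nat_lit 6, nat_lit 4, nat_lit 5, nat_lit 3, nat_lit 4, nat_lit 2, nat_lit 3, nat_lit 8, nat_lit 1, nat_lit 2, nat_lit 3, nat_lit 4, nat_lit 5, nat_lit 6, nat_lit 7, nat_lit 6, nat_lit 5, nat_lit 4, nat_lit 2, nat_lit 3, nat_lit 8, nat_lit 1, nat_lit 2, nat_lit 3, nat_lit 4, nat_lit 5, nat_lit 2, nat_lit 3, nat_lit 8, nat_lit 4, nat_lit 3, nat_lit 2, nat_lit 0, nat_lit 1, nat_lit 9, nat_lit 4, nat_lit 3, nat_lit 2, nat_lit 8, nat_lit 3, nat_lit 13, nat_lit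 12, nat_lit 16] (Rl.cmp (nat_lit 1859) (nat_lit 2678)))) (FT.leaf (Fct.mk false (nat_lit 5) (nat_lit 0) (nat_lit 5) [nat_lit 2, nat_lit 3, nat_lit 8, nat_lit 4, nat_lit 5, nat_lit 3, nat_lit 4, nat_lit 2, nat_lit 3, nat_lit 8, nat_lit 6, nat_lit 7, nat_lit 5, nat_lit 6, nat_lit 4, nat_lit 5, nat_lit 3, nat_lit 4, nat_lit 2, nat_lit 3, nat_lit 8, nat_lit 1, nat_lit 2, nat_lit 3, nat_lit 4, nat_lit 5, nat_lit 6, nat_lit 7, nat_lit 6, nat_lit 5, nat_lit 4, nat_lit 2, nat_lit 3, nat_lit 8, nat_lit 1, nat_lit 2, nat_lit 3, nat_lit 4, nat_lit 5, nat_lit 1, nat_lit 4, nat_lit 3, nat_lit 2, nat_lit 8, nat_lit 3, nat_lit 9, nat_lit 2, nat_lit 15, nat_lit 14, nat_lit 13, nat_lit 19, nat_lit 16] (Rl.cmp (nat_lit 2491) (nat_lit 3310)))))))) (FT.node (nat_lit 3318) (FT.node (nat_lit 3315) (FT.node (nat_lit 3313) (FT.leaf (Fct.mk true (nat_lit 32) (nat_lit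 3558) (nat_lit 32) [nat_lit 7, nat_lit 5, nat_lit 6, nat_lit 4, nat_lit 5, nat_lit 2, nat_lit 3, nat_lit 4, nat_lit 1, nat_lit 2, nat_lit 3, nat_lit 8, nat_lit 0, nat_lit 1, nat_lit 2, nat_lit 3, nat_lit 4, nat_lit 5, nat_lit 6, nat_lit 7, nat_lit 8, nat_lit 6, nat_lit 5, nat_lit 3, nat_lit 4, nat_lit 2, nat_lit 3, nat_lit 8, nat_lit 1, nat_lit 2, nat_lit 3, nat_lit 4, nat_lit 5, nat_lit 3, nat_lit 2, nat_lit 0, nat_lit 1, nat_lit 4, nat_lit 3, nat_lit 2, nat_lit 8, nat_lit 3, nat_lit 11, nat_lit 8, nat_lit 10, nat_lit 1, nat_lit 8, nat_lit 16, nat_lit 15, nat_lit 14, nat_lit 17, nat_lit 12] (Rl.rel (nat_lit 0) [nat_lit 8, nat_lit 5, nat_lit 6, nat_lit 4, nat_lit 5, nat_lit 3, nat_lit 4, nat_lit 1, nat_lit 2, nat_lit 3, nat_lit 8, nat_lit 0, nat_lit 1, nat_lit 2, nat_lit 3, nat_lit 4, nat_lit 5, nat_lit 6, nat_lit 7, nat_lit 8, nat_lit 4, nat_lit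 5, nat_lit 2, nat_lit 3, nat_lit 4, nat_lit 1, nat_lit 2, nat_lit 3, nat_lit 8, nat_lit 0, nat_lit 1, nat_lit 2, nat_lit 3, nat_lit 4, nat_lit 5, nat_lit 3, nat_lit 2, nat_lit 1, nat_lit 8, nat_lit 3, nat_lit 2, nat_lit 0, nat_lit 1, nat_lit 9, nat_lit 4, nat_lit 3, nat_lit 2, nat_lit 8, nat_lit 3, nat_lit 8, nat_lit 18] (nat_lit 5) (nat_lit 1) [nat_lit 3139] [nat_lit 3311, nat_lit 3096]))) (FT.node (nat_lit 3314) (FT.leaf (Fct.mk true (nat_lit 32) (nat_lit 538) (nat_lit 32) [nat_lit 2, nat_lit 3, nat_lit 8, nat_lit 4, nat_lit 5, nat_lit 3, nat_lit 4, nat_lit 2, nat_lit 3, nat_lit 8, nat_lit 6, nat_lit 7, nat_lit 5, nat_lit 6, nat_lit 4, nat_lit 5, nat_lit 3, nat_lit 4, nat_lit 2, nat_lit 3, nat_lit 8, nat_lit 0, nat_lit 1, nat_lit 2, nat_lit 3, nat_lit 4, nat_lit 5, nat_lit 6, nat_lit 7, nat_lit 5, nat_lit 4, nat_lit 2, nat_lit 3, nat_lit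 8, nat_lit 1, nat_lit 2, nat_lit 3, nat_lit 4, nat_lit 5, nat_lit 8, nat_lit 3, nat_lit 2, nat_lit 1, nat_lit 9, nat_lit 4, nat_lit 3, nat_lit 2, nat_lit 8, nat_lit 3, nat_lit 11, nat_lit 10, nat_lit 8, nat_lit 12, nat_lit 15, nat_lit 14, nat_lit 16, nat_lit 8, nat_lit 19] (Rl.t1 (nat_lit 3312) (nat_lit 3309)))) (FT.leaf (Fct.mk true (nat_lit 32) (nat_lit 87834) (nat_lit 32) [nat_lit 8, nat_lit 7, nat_lit 5, nat_lit 6, nat_lit 4, nat_lit 5, nat_lit 2, nat_lit 3, nat_lit 4, nat_lit 1, nat_lit 2, nat_lit 3, nat_lit 8, nat_lit 0, nat_lit 1, nat_lit 2, nat_lit 3, nat_lit 4, nat_lit 5, nat_lit 6, nat_lit 7, nat_lit 8, nat_lit 3, nat_lit 4, nat_lit 2, nat_lit 3, nat_lit 8, nat_lit 5, nat_lit 6, nat_lit 4, nat_lit 5, nat_lit 3, nat_lit 4, nat_lit 2, nat_lit 3, nat_lit 8, nat_lit 1, nat_lit 2, nat_lit 3, nat_lit 4, nat_lit 5, nat_lit 2, nat_lit 1,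 nat_lit 4, nat_lit 3, nat_lit 2, nat_lit 8, nat_lit 3, nat_lit 11, nat_lit 10, nat_lit 1, nat_lit 12, nat_lit 8, nat_lit 16, nat_lit 14, nat_lit 17, nat_lit 12, nat_lit 19] (Rl.inv (nat_lit 3313)))))) (FT.node (nat_lit 3316) (FT.leaf (Fct.mk true (nat_lit 32) (nat_lit 3202) (nat_lit 32) [nat_lit 8, nat_lit 6, nat_lit 7, nat_lit 5, nat_lit 6, nat_lit 4, nat_lit 5, nat_lit 3, nat_lit 4, nat_lit 2, nat_lit 3, nat_lit 8, nat_lit 0, nat_lit 1, nat_lit 2, nat_lit 3, nat_lit 4, nat_lit 5, nat_lit 6, nat_lit 7, nat_lit 3, nat_lit 8, nat_lit 4, nat_lit 5, nat_lit 3, nat_lit 4, nat_lit 2, nat_lit 3, nat_lit 8, nat_lit 0, nat_lit 1, nat_lit 2, nat_lit 3, nat_lit 4, nat_lit 5, nat_lit 1, nat_lit 4, nat_lit 3, nat_lit 2, nat_lit 8, nat_lit 3, nat_lit 11, nat_lit 8, nat_lit 10, nat_lit 1, nat_lit 12, nat_lit 15, nat_lit 13, nat_lit 12, nat_lit 18, nat_lit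 16] (Rl.t1 (nat_lit 3314) (nat_lit 3148)))) (FT.node (nat_lit 3317) (FT.leaf (Fct.mk false (nat_lit 32) (nat_lit 0) (nat_lit 32) [nat_lit 97] (Rl.cmp (nat_lit 3047) (nat_lit 3047)))) (FT.leaf (Fct.mk false (nat_lit 32) (nat_lit 0) (nat_lit 32) [nat_lit 8, nat_lit 5, nat_lit 6, nat_lit 4, nat_lit 5, nat_lit 3, nat_lit 4, nat_lit 2, nat_lit 3, nat_lit 8, nat_lit 0, nat_lit 1, nat_lit 2, nat_lit 3, nat_lit 4, nat_lit 5, nat_lit 1, nat_lit 4, nat_lit 3, nat_lit 2, nat_lit 8, nat_lit 3, nat_lit 11, nat_lit 10, nat_lit 1, nat_lit 12, nat_lit 15, nat_lit 14, nat_lit 18, nat_lit 16] (Rl.cmp (nat_lit 3004) (nat_lit 3316))))))) (FT.node (nat_lit 3321) (FT.node (nat_lit 3319) (FT.leaf (Fct.mk false (nat_lit 32) (nat_lit 0) (nat_lit 32) [nat_lit 5, nat_lit 6, nat_lit 4, nat_lit 5, nat_lit 2, nat_lit 3, nat_lit 4, nat_lit 1, nat_lit 2, nat_lit 3, nat_lit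 8, nat_lit 0, nat_lit 1, nat_lit 2, nat_lit 3, nat_lit 4, nat_lit 5, nat_lit 3, nat_lit 2, nat_lit 1, nat_lit 4, nat_lit 3, nat_lit 2, nat_lit 8, nat_lit 3, nat_lit 9, nat_lit 10, nat_lit 2, nat_lit 8, nat_lit 10, nat_lit 1, nat_lit 8, nat_lit 16, nat_lit 14, nat_lit 16, nat_lit 8, nat_lit 16] (Rl.cmp (nat_lit 3010) (nat_lit 3317)))) (FT.node (nat_lit 3320) (FT.leaf (Fct.mk false (nat_lit 32) (nat_lit 0) (nat_lit 32) [nat_lit 8, nat_lit 3, nat_lit 4, nat_lit 2, nat_lit 3, nat_lit 8, nat_lit 1, nat_lit 2, nat_lit 3, nat_lit 4, nat_lit 5, nat_lit 4, nat_lit 3, nat_lit 2, nat_lit 8, nat_lit 3, nat_lit 11, nat_lit 10, nat_lit 12, nat_lit 15, nat_lit 14, nat_lit 17, nat_lit 18, nat_lit 16] (Rl.cmp (nat_lit 3047) (nat_lit 3318)))) (FT.leaf (Fct.mk false (nat_lit 32) (nat_lit 0) (nat_lit 32) [nat_lit 5, nat_lit 4, nat_lit 2, nat_lit 3, nat_lit 8,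 nat_lit 0, nat_lit 1, nat_lit 2, nat_lit 3, nat_lit 4, nat_lit 5, nat_lit 2, nat_lit 1, nat_lit 8, nat_lit 4, nat_lit 3, nat_lit 2, nat_lit 0, nat_lit 1, nat_lit 9, nat_lit 4, nat_lit 3, nat_lit 2, nat_lit 8, nat_lit 3, nat_lit 11, nat_lit 16, nat_lit 14, nat_lit 13, nat_lit 18, nat_lit 16] (Rl.cmp (nat_lit 3004) (nat_lit 3319)))))) (FT.node (nat_lit 3323) (FT.node (nat_lit 3322) (FT.leaf (Fct.mk false (nat_lit 5) (nat_lit 0) (nat_lit 5) [nat_lit 8, nat_lit 3, nat_lit 4, nat_lit 2, nat_lit 3, nat_lit 8, nat_lit 7, nat_lit 5, nat_lit 6, nat_lit 4, nat_lit 5, nat_lit 3, nat_lit 4, nat_lit 2, nat_lit 3, nat_lit 8, nat_lit 0, nat_lit 1, nat_lit 2, nat_lit 3, nat_lit 4, nat_lit 5, nat_lit 6, nat_lit 7, nat_lit 8, nat_lit 3, nat_lit 4, nat_lit 2, nat_lit 3, nat_lit 8, nat_lit 1, nat_lit 2, nat_lit 3, nat_lit 4, nat_lit 5, nat_lit 2, nat_lit 1, nat_lit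 4, nat_lit 3, nat_lit 2, nat_lit 8, nat_lit 3, nat_lit 8, nat_lit 10, nat_lit 9, nat_lit 2, nat_lit 15, nat_lit 14, nat_lit 12, nat_lit 19, nat_lit 16] (Rl.cmp (nat_lit 488) (nat_lit 2491)))) (FT.leaf (Fct.mk false (nat_lit 5) (nat_lit 0) (nat_lit 5) [nat_lit 8, nat_lit 4, nat_lit 5, nat_lit 2, nat_lit 3, nat_lit 4, nat_lit 1, nat_lit 2, nat_lit 3, nat_lit 8, nat_lit 6, nat_lit 7, nat_lit 5, nat_lit 6, nat_lit 4, nat_lit 5, nat_lit 3, nat_lit 4, nat_lit 2, nat_lit 3, nat_lit 8, nat_lit 1, nat_lit 2, nat_lit 3, nat_lit 4, nat_lit 5, nat_lit 6, nat_lit 7, nat_lit 6, nat_lit 5, nat_lit 4, nat_lit 3, nat_lit 8, nat_lit 2, nat_lit 3, nat_lit 4, nat_lit 1, nat_lit 2, nat_lit 3, nat_lit 8, nat_lit 5, nat_lit 6, nat_lit 4, nat_lit 5, nat_lit 3, nat_lit 4, nat_lit 2, nat_lit 3, nat_lit 8, nat_lit 1, nat_lit 2, nat_lit 3, nat_lit 4, nat_lit 5, nat_lit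 1, nat_lit 2, nat_lit 3, nat_lit 11, nat_lit 10, nat_lit 1, nat_lit 13] (Rl.cmp (nat_lit 2491) (nat_lit 3321))))) (FT.node (nat_lit 3324) (FT.leaf (Fct.mk false (nat_lit 5) (nat_lit 0) (nat_lit 5) [nat_lit 8, nat_lit 4, nat_lit 5, nat_lit 2, nat_lit 3, nat_lit 4, nat_lit 1, nat_lit 2, nat_lit 3, nat_lit 8, nat_lit 6, nat_lit 7, nat_lit 5, nat_lit 6, nat_lit 4, nat_lit 5, nat_lit 3, nat_lit 4, nat_lit 2, nat_lit 3, nat_lit 8, nat_lit 1, nat_lit 2, nat_lit 3, nat_lit 4, nat_lit 5, nat_lit 6, nat_lit 7, nat_lit 6, nat_lit 5, nat_lit 4, nat_lit 3, nat_lit 8, nat_lit 2, nat_lit 3, nat_lit 4, nat_lit 1, nat_lit 2, nat_lit 3, nat_lit 8, nat_lit 5, nat_lit 6, nat_lit 4, nat_lit 5, nat_lit 3, nat_lit 4, nat_lit 2, nat_lit 3, nat_lit 8, nat_lit 1, nat_lit 2, nat_lit 3, nat_lit 4, nat_lit 5, nat_lit 2, nat_lit 3, nat_lit 11, nat_lit 10, nat_lit 1, nat_lit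 12, nat_lit 15, nat_lit 14, nat_lit 13, nat_lit 16] (Rl.cmp (nat_lit 1859) (nat_lit 3322)))) (FT.leaf (Fct.mk false (nat_lit 32) (nat_lit 0) (nat_lit 32) [nat_lit 8, nat_lit 3, nat_lit 4, nat_lit 2, nat_lit 3, nat_lit 8, nat_lit 5, nat_lit 6, nat_lit 4, nat_lit 5, nat_lit 3, nat_lit 4, nat_lit 2, nat_lit 3, nat_lit 8, nat_lit 0, nat_lit 1, nat_lit 2, nat_lit 3, nat_lit 4, nat_lit 5, nat_lit 2, nat_lit 1, nat_lit 8, nat_lit 3, nat_lit 2, nat_lit 0, nat_lit 1, nat_lit 4, nat_lit 3, nat_lit 2, nat_lit 8, nat_lit 3, nat_lit 12, nat_lit 15, nat_lit 14, nat_lit 16, nat_lit 8, nat_lit 19] (Rl.cmp (nat_lit 3004) (nat_lit 3165))))))))) (FT.node (nat_lit 3337) (FT.node (nat_lit 3331) (FT.node (nat_lit 3328) (FT.node (nat_lit 3326) (FT.leaf (Fct.mk false (nat_lit 32) (nat_lit 0) (nat_lit 32) [nat_lit 8, nat_lit 5, nat_lit 6, nat_lit 4, nat_lit 5, nat_lit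 2, nat_lit 3, nat_lit 4, nat_lit 1, nat_lit 2, nat_lit 3, nat_lit 8, nat_lit 0, nat_lit 1, nat_lit 2, nat_lit 3, nat_lit 4, nat_lit 5, nat_lit 3, nat_lit 2, nat_lit 1, nat_lit 8, nat_lit 3, nat_lit 2, nat_lit 0, nat_lit 1, nat_lit 4, nat_lit 3, nat_lit 2, nat_lit 8, nat_lit 3, nat_lit 11, nat_lit 1, nat_lit 8, nat_lit 12, nat_lit 15, nat_lit 12, nat_lit 18] (Rl.cmp (nat_lit 3010) (nat_lit 3324)))) (FT.node (nat_lit 3327) (FT.leaf (Fct.mk false (nat_lit 32) (nat_lit 0) (nat_lit 32) [nat_lit 2, nat_lit 3, nat_lit 8, nat_lit 6, nat_lit 4, nat_lit 5, nat_lit 3, nat_lit 4, nat_lit 2, nat_lit 3, nat_lit 8, nat_lit 0, nat_lit 1, nat_lit 2, nat_lit 3, nat_lit 4, nat_lit 5, nat_lit 1, nat_lit 8, nat_lit 3, nat_lit 2, nat_lit 0, nat_lit 1, nat_lit 9, nat_lit 4, nat_lit 3, nat_lit 2, nat_lit 8, nat_lit 3, nat_lit 2, nat_lit 16, nat_lit 14, nat_lit 13,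 nat_lit 18, nat_lit 16] (Rl.cmp (nat_lit 3010) (nat_lit 3325)))) (FT.leaf (Fct.mk false (nat_lit 32) (nat_lit 0) (nat_lit 32) [nat_lit 8, nat_lit 5, nat_lit 6, nat_lit 4, nat_lit 5, nat_lit 2, nat_lit 3, nat_lit 4, nat_lit 1, nat_lit 2, nat_lit 3, nat_lit 8, nat_lit 0, nat_lit 1, nat_lit 2, nat_lit 3, nat_lit 4, nat_lit 5, nat_lit 9, nat_lit 4, nat_lit 11, nat_lit 1, nat_lit 14, nat_lit 13] (Rl.cmp (nat_lit 3047) (nat_lit 3326)))))) (FT.node (nat_lit 3329) (FT.leaf (Fct.mk true (nat_lit 32) (nat_lit 6881) (nat_lit 32) [nat_lit 1, nat_lit 2, nat_lit 3, nat_lit 4, nat_lit 5, nat_lit 6, nat_lit 7, nat_lit 8, nat_lit 6, nat_lit 5, nat_lit 3, nat_lit 4, nat_lit 2, nat_lit 3, nat_lit 8, nat_lit 1, nat_lit 2, nat_lit 3, nat_lit 4, nat_lit 5, nat_lit 2, nat_lit 1, nat_lit 9, nat_lit 4, nat_lit 3, nat_lit 2, nat_lit 8, nat_lit 3, nat_lit 11, nat_lit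 2, nat_lit 8, nat_lit 12, nat_lit 15, nat_lit 14, nat_lit 17, nat_lit 12, nat_lit 18, nat_lit 16] (Rl.rel (nat_lit 0) [nat_lit 6, nat_lit 5, nat_lit 4, nat_lit 3, nat_lit 8, nat_lit 0, nat_lit 1, nat_lit 2, nat_lit 3, nat_lit 4, nat_lit 5, nat_lit 6, nat_lit 7, nat_lit 8, nat_lit 3, nat_lit 4, nat_lit 1, nat_lit 2, nat_lit 3, nat_lit 8, nat_lit 0, nat_lit 1, nat_lit 2, nat_lit 3, nat_lit 4, nat_lit 5, nat_lit 3, nat_lit 2, nat_lit 1, nat_lit 8, nat_lit 3, nat_lit 2, nat_lit 0, nat_lit 1, nat_lit 9, nat_lit 4, nat_lit 3, nat_lit 2, nat_lit 8, nat_lit 3, nat_lit 8, nat_lit 10, nat_lit 0, nat_lit 17, nat_lit 18] (nat_lit 5) (nat_lit 1) [nat_lit 3139] [nat_lit 3323, nat_lit 3216]))) (FT.node (nat_lit 3330) (FT.leaf (Fct.mk true (nat_lit 32) (nat_lit 1066) (nat_lit 32) [nat_lit 8, nat_lit 5, nat_lit 6, nat_lit 4, nat_lit 5, nat_lit 3, nat_lit 4,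 nat_lit 1, nat_lit 2, nat_lit 3, nat_lit 8, nat_lit 0, nat_lit 1, nat_lit 2, nat_lit 3, nat_lit 4, nat_lit 5, nat_lit 6, nat_lit 7, nat_lit 4, nat_lit 2, nat_lit 3, nat_lit 8, nat_lit 5, nat_lit 6, nat_lit 4, nat_lit 5, nat_lit 3, nat_lit 4, nat_lit 2, nat_lit 3, nat_lit 8, nat_lit 0, nat_lit 1, nat_lit 2, nat_lit 3, nat_lit 4, nat_lit 5, nat_lit 2, nat_lit 1, nat_lit 9, nat_lit 4, nat_lit 3, nat_lit 2, nat_lit 8, nat_lit 3, nat_lit 11, nat_lit 2, nat_lit 10, nat_lit 1, nat_lit 8, nat_lit 12, nat_lit 15, nat_lit 17, nat_lit 12, nat_lit 16] (Rl.t1 (nat_lit 3328) (nat_lit 3320)))) (FT.leaf (Fct.mk true (nat_lit 32) (nat_lit 106765) (nat_lit 32) [nat_lit 2, nat_lit 3, nat_lit 8, nat_lit 4, nat_lit 5, nat_lit 3, nat_lit 4, nat_lit 2, nat_lit 3, nat_lit 8, nat_lit 0, nat_lit 1, nat_lit 2, nat_lit 3, nat_lit 4, nat_lit 5, nat_lit 6, nat_lit 7, nat_lit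 8, nat_lit 6, nat_lit 5, nat_lit 3, nat_lit 4, nat_lit 2, nat_lit 3, nat_lit 8, nat_lit 1, nat_lit 2, nat_lit 3, nat_lit 4, nat_lit 5, nat_lit 3, nat_lit 2, nat_lit 1, nat_lit 8, nat_lit 3, nat_lit 2, nat_lit 0, nat_lit 1, nat_lit 4, nat_lit 3, nat_lit 2, nat_lit 8, nat_lit 3, nat_lit 10, nat_lit 8, nat_lit 16, nat_lit 15, nat_lit 14, nat_lit 13, nat_lit 18] (Rl.inv (nat_lit 3329))))))) (FT.node (nat_lit 3334) (FT.node (nat_lit 3332) (FT.leaf (Fct.mk true (nat_lit 32) (nat_lit 2510) (nat_lit 32) [nat_lit 3, nat_lit 4, nat_lit 1, nat_lit 2, nat_lit 3, nat_lit 8, nat_lit 0, nat_lit 1, nat_lit 2, nat_lit 3, nat_lit 4, nat_lit 5, nat_lit 6, nat_lit 7, nat_lit 3, nat_lit 4, nat_lit 2, nat_lit 3, nat_lit 8, nat_lit 5, nat_lit 6, nat_lit 4, nat_lit 5, nat_lit 3, nat_lit 4, nat_lit 2, nat_lit 3, nat_lit 8, nat_lit 0, nat_lit 1, nat_lit 2, nat_lit 3,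 nat_lit 4, nat_lit 5, nat_lit 4, nat_lit 0, nat_lit 2, nat_lit 12, nat_lit 15, nat_lit 14, nat_lit 17, nat_lit 12, nat_lit 19] (Rl.t1 (nat_lit 3330) (nat_lit 3327)))) (FT.node (nat_lit 3333) (FT.leaf (Fct.mk false (nat_lit 32) (nat_lit 0) (nat_lit 32) [nat_lit 8, nat_lit 1, nat_lit 2, nat_lit 3, nat_lit 4, nat_lit 5, nat_lit 3, nat_lit 2, nat_lit 0, nat_lit 1, nat_lit 9, nat_lit 4, nat_lit 3, nat_lit 2, nat_lit 8, nat_lit 3, nat_lit 8, nat_lit 10, nat_lit 0, nat_lit 16, nat_lit 14, nat_lit 13, nat_lit 12, nat_lit 19] (Rl.cmp (nat_lit 3004) (nat_lit 3047)))) (FT.leaf (Fct.mk false (nat_lit 32) (nat_lit 0) (nat_lit 32) [nat_lit 8, nat_lit 2, nat_lit 3, nat_lit 4, nat_lit 5, nat_lit 1, nat_lit 3, nat_lit 2, nat_lit 0, nat_lit 1, nat_lit 9, nat_lit 4, nat_lit 3, nat_lit 2, nat_lit 8, nat_lit 3, nat_lit 11, nat_lit 8, nat_lit 10, nat_lit 8, nat_lit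 16, nat_lit 14, nat_lit 13, nat_lit 12, nat_lit 16] (Rl.cmp (nat_lit 3010) (nat_lit 3332)))))) (FT.node (nat_lit 3335) (FT.leaf (Fct.mk false (nat_lit 32) (nat_lit 0) (nat_lit 32) [nat_lit 5, nat_lit 4, nat_lit 2, nat_lit 3, nat_lit 8, nat_lit 1, nat_lit 2, nat_lit 3, nat_lit 4, nat_lit 5, nat_lit 2, nat_lit 1, nat_lit 3, nat_lit 2, nat_lit 0, nat_lit 1, nat_lit 9, nat_lit 4, nat_lit 3, nat_lit 2, nat_lit 8, nat_lit 3, nat_lit 11, nat_lit 8, nat_lit 10, nat_lit 16, nat_lit 14, nat_lit 13, nat_lit 12, nat_lit 18] (Rl.cmp (nat_lit 3010) (nat_lit 3333)))) (FT.node (nat_lit 3336) (FT.leaf (Fct.mk false (nat_lit 5) (nat_lit 0) (nat_lit 5) [nat_lit 8, nat_lit 3, nat_lit 4, nat_lit 2, nat_lit 3, nat_lit 8, nat_lit 7, nat_lit 5, nat_lit 6, nat_lit 4, nat_lit 5, nat_lit 3, nat_lit 4, nat_lit 2, nat_lit 3, nat_lit 8, nat_lit 0, nat_lit 1, nat_lit 2,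 nat_lit 3, nat_lit 4, nat_lit 5, nat_lit 6, nat_lit 7, nat_lit 6, nat_lit 5, nat_lit 4, nat_lit 3, nat_lit 8, nat_lit 1, nat_lit 2, nat_lit 3, nat_lit 4, nat_lit 5, nat_lit 1, nat_lit 3, nat_lit 2, nat_lit 8, nat_lit 3, nat_lit 11, nat_lit 10, nat_lit 2, nat_lit 8, nat_lit 10, nat_lit 1, nat_lit 8, nat_lit 16, nat_lit 14, nat_lit 17, nat_lit 18] (Rl.cmp (nat_lit 2491) (nat_lit 2094)))) (FT.leaf (Fct.mk false (nat_lit 5) (nat_lit 0) (nat_lit 5) [nat_lit 8, nat_lit 3, nat_lit 4, nat_lit 2, nat_lit 3, nat_lit 8, nat_lit 7, nat_lit 5, nat_lit 6, nat_lit 4, nat_lit 5, nat_lit 3, nat_lit 4, nat_lit 2, nat_lit 3, nat_lit 8, nat_lit 0, nat_lit 1, nat_lit 2, nat_lit 3, nat_lit 4, nat_lit 5, nat_lit 6, nat_lit 7, nat_lit 3, nat_lit 8, nat_lit 4, nat_lit 5, nat_lit 3, nat_lit 4, nat_lit 2, nat_lit 3, nat_lit 8, nat_lit 1, nat_lit 2, nat_lit 3, nat_lit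 4, nat_lit 5, nat_lit 2, nat_lit 1, nat_lit 4, nat_lit 3, nat_lit 2, nat_lit 8, nat_lit 3, nat_lit 10, nat_lit 0, nat_lit 15, nat_lit 18] (Rl.cmp (nat_lit 470) (nat_lit 3335)))))))) (FT.node (nat_lit 3343) (FT.node (nat_lit 3340) (FT.node (nat_lit 3338) (FT.leaf (Fct.mk false (nat_lit 5) (nat_lit 0) (nat_lit 5) [nat_lit 2, nat_lit 3, nat_lit 8, nat_lit 4, nat_lit 5, nat_lit 3, nat_lit 4, nat_lit 2, nat_lit 3, nat_lit 8, nat_lit 6, nat_lit 7, nat_lit 5, nat_lit 6, nat_lit 4, nat_lit 5, nat_lit 3, nat_lit 4, nat_lit 2, nat_lit 3, nat_lit 8, nat_lit 1, nat_lit 2, nat_lit 3, nat_lit 4, nat_lit 5, nat_lit 6, nat_lit 7, nat_lit 8, nat_lit 3, nat_lit 4, nat_lit 2, nat_lit 3, nat_lit 8, nat_lit 1, nat_lit 2, nat_lit 3, nat_lit 4, nat_lit 5, nat_lit 4, nat_lit 3, nat_lit 2, nat_lit 1, nat_lit 8, nat_lit 3, nat_lit 2, nat_lit 0, nat_lit 1, nat_lit 4,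 nat_lit 3, nat_lit 2, nat_lit 8, nat_lit 3, nat_lit 11, nat_lit 10, nat_lit 1, nat_lit 16, nat_lit 12, nat_lit 15, nat_lit 14, nat_lit 13, nat_lit 16] (Rl.cmp (nat_lit 2094) (nat_lit 3336)))) (FT.node (nat_lit 3339) (FT.leaf (Fct.mk false (nat_lit 4) (nat_lit 0) (nat_lit 4) [nat_lit 6, nat_lit 7, nat_lit 5, nat_lit 6, nat_lit 4, nat_lit 5, nat_lit 3, nat_lit 4, nat_lit 2, nat_lit 3, nat_lit 8, nat_lit 1, nat_lit 2, nat_lit 3, nat_lit 4, nat_lit 5, nat_lit 6, nat_lit 7, nat_lit 8, nat_lit 1, nat_lit 2, nat_lit 3, nat_lit 4, nat_lit 5, nat_lit 2, nat_lit 1, nat_lit 9, nat_lit 4, nat_lit 3, nat_lit 2, nat_lit 8, nat_lit 3, nat_lit 9, nat_lit 10, nat_lit 2, nat_lit 8, nat_lit 10, nat_lit 1, nat_lit 12, nat_lit 8, nat_lit 16, nat_lit 14, nat_lit 16, nat_lit 8] (Rl.cmp (nat_lit 2284) (nat_lit 2860)))) (FT.leaf (Fct.mk false (nat_lit 4) (nat_lit 0)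 (nat_lit 4) [nat_lit 8, nat_lit 4, nat_lit 5, nat_lit 3, nat_lit 4, nat_lit 2, nat_lit 3, nat_lit 8, nat_lit 1, nat_lit 2, nat_lit 3, nat_lit 4, nat_lit 5, nat_lit 3, nat_lit 2, nat_lit 8, nat_lit 10, nat_lit 1, nat_lit 14, nat_lit 12] (Rl.cmp (nat_lit 2372) (nat_lit 3338)))))) (FT.node (nat_lit 3341) (FT.leaf (Fct.mk false (nat_lit 4) (nat_lit 0) (nat_lit 4) [nat_lit 4, nat_lit 5, nat_lit 3, nat_lit 2, nat_lit 8, nat_lit 3, nat_lit 8, nat_lit 10, nat_lit 1, nat_lit 18] (Rl.cmp (nat_lit 234) (nat_lit 3339)))) (FT.node (nat_lit 3342) (FT.leaf (Fct.mk true (nat_lit 32) (nat_lit 1888) (nat_lit 4) [nat_lit 6, nat_lit 7, nat_lit 3, nat_lit 4, nat_lit 2, nat_lit 3, nat_lit 8, nat_lit 1, nat_lit 2, nat_lit 3, nat_lit 4, nat_lit 5, nat_lit 2, nat_lit 1, nat_lit 8, nat_lit 3, nat_lit 2, nat_lit 0, nat_lit 1, nat_lit 9, nat_lit 4, nat_lit 3, nat_lit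 2, nat_lit 8, nat_lit 3, nat_lit 2, nat_lit 8, nat_lit 10, nat_lit 1, nat_lit 12, nat_lit 15, nat_lit 12, nat_lit 18] (Rl.rel (nat_lit 0) [nat_lit 8, nat_lit 6, nat_lit 7, nat_lit 5, nat_lit 6, nat_lit 4, nat_lit 5, nat_lit 3, nat_lit 4, nat_lit 2, nat_lit 3, nat_lit 8, nat_lit 0, nat_lit 1, nat_lit 2, nat_lit 3, nat_lit 4, nat_lit 5, nat_lit 6, nat_lit 7, nat_lit 8, nat_lit 4, nat_lit 5, nat_lit 2, nat_lit 3, nat_lit 4, nat_lit 1, nat_lit 2, nat_lit 3, nat_lit 8, nat_lit 0, nat_lit 1, nat_lit 2, nat_lit 3, nat_lit 4, nat_lit 5, nat_lit 10, nat_lit 8, nat_lit 12, nat_lit 15, nat_lit 14, nat_lit 17] (nat_lit 5) (nat_lit 1) [nat_lit 3139] [nat_lit 3337, nat_lit 513]))) (FT.leaf (Fct.mk true (nat_lit 32) (nat_lit 1069) (nat_lit 4) [nat_lit 5, nat_lit 6, nat_lit 4, nat_lit 5, nat_lit 3, nat_lit 4, nat_lit 2, nat_lit 3, nat_lit 8, nat_lit 1, nat_lit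 2, nat_lit 3, nat_lit 4, nat_lit 5, nat_lit 6, nat_lit 7, nat_lit 8, nat_lit 4, nat_lit 5, nat_lit 3, nat_lit 4, nat_lit 1, nat_lit 2, nat_lit 3, nat_lit 8, nat_lit 0, nat_lit 1, nat_lit 2, nat_lit 3, nat_lit 4, nat_lit 5, nat_lit 3, nat_lit 2, nat_lit 1, nat_lit 8, nat_lit 3, nat_lit 2, nat_lit 0, nat_lit 1, nat_lit 9, nat_lit 4, nat_lit 3, nat_lit 2, nat_lit 8, nat_lit 3, nat_lit 10, nat_lit 2, nat_lit 8, nat_lit 10, nat_lit 1, nat_lit 16, nat_lit 12, nat_lit 15, nat_lit 14, nat_lit 19, nat_lit 16] (Rl.t1 (nat_lit 3341) (nat_lit 3334))))))) (FT.node (nat_lit 3346) (FT.node (nat_lit 3344) (FT.leaf (Fct.mk true (nat_lit 4) (nat_lit 2127) (nat_lit 32) [nat_lit 4, nat_lit 3, nat_lit 8, nat_lit 2, nat_lit 3, nat_lit 4, nat_lit 1, nat_lit 2, nat_lit 3, nat_lit 8, nat_lit 0, nat_lit 1, nat_lit 2, nat_lit 3, nat_lit 4, nat_lit 5, nat_lit 6, nat_lit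 7, nat_lit 2, nat_lit 3, nat_lit 8, nat_lit 6, nat_lit 4, nat_lit 5, nat_lit 3, nat_lit 4, nat_lit 2, nat_lit 3, nat_lit 8, nat_lit 1, nat_lit 2, nat_lit 3, nat_lit 4, nat_lit 5, nat_lit 1, nat_lit 3, nat_lit 2, nat_lit 0, nat_lit 1, nat_lit 9, nat_lit 4, nat_lit 3, nat_lit 2, nat_lit 8, nat_lit 3, nat_lit 8, nat_lit 10, nat_lit 0, nat_lit 8, nat_lit 12, nat_lit 15, nat_lit 12, nat_lit 16] (Rl.inv (nat_lit 3342)))) (FT.node (nat_lit 3345) (FT.leaf (Fct.mk true (nat_lit 4) (nat_lit 121) (nat_lit 32) [nat_lit 4, nat_lit 5, nat_lit 3, nat_lit 4, nat_lit 2, nat_lit 3, nat_lit 8, nat_lit 0, nat_lit 1, nat_lit 2, nat_lit 3, nat_lit 4, nat_lit 5, nat_lit 6, nat_lit 7, nat_lit 3, nat_lit 8, nat_lit 6, nat_lit 4, nat_lit 5, nat_lit 3, nat_lit 4, nat_lit 2, nat_lit 3, nat_lit 8, nat_lit 1, nat_lit 2, nat_lit 3, nat_lit 4, nat_lit 5, nat_lit 2, nat_lit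 1, nat_lit 3, nat_lit 2, nat_lit 0, nat_lit 1, nat_lit 9, nat_lit 4, nat_lit 3, nat_lit 2, nat_lit 8, nat_lit 3, nat_lit 8, nat_lit 10, nat_lit 8, nat_lit 12, nat_lit 15, nat_lit 12, nat_lit 16] (Rl.t1 (nat_lit 3343) (nat_lit 3340)))) (FT.leaf (Fct.mk false (nat_lit 32) (nat_lit 0) (nat_lit 32) [nat_lit 2, nat_lit 3, nat_lit 4, nat_lit 1, nat_lit 2, nat_lit 3, nat_lit 8, nat_lit 0, nat_lit 1, nat_lit 2, nat_lit 3, nat_lit 4, nat_lit 5, nat_lit 3, nat_lit 8, nat_lit 4, nat_lit 3, nat_lit 2, nat_lit 0, nat_lit 1, nat_lit 9, nat_lit 4, nat_lit 3, nat_lit 2, nat_lit 8, nat_lit 3, nat_lit 11, nat_lit 10, nat_lit 8, nat_lit 16, nat_lit 14, nat_lit 19] (Rl.cmp (nat_lit 3010) (nat_lit 3004)))))) (FT.node (nat_lit 3348) (FT.node (nat_lit 3347) (FT.leaf (Fct.mk false (nat_lit 32) (nat_lit 0) (nat_lit 32) [nat_lit 3, nat_lit 4, nat_lit 1, nat_lit 2, nat_lit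 3, nat_lit 8, nat_lit 5, nat_lit 6, nat_lit 4, nat_lit 5, nat_lit 3, nat_lit 4, nat_lit 2, nat_lit 3, nat_lit 8, nat_lit 1, nat_lit 2, nat_lit 3, nat_lit 4, nat_lit 5, nat_lit 0, nat_lit 1, nat_lit 2, nat_lit 8, nat_lit 3, nat_lit 11, nat_lit 1, nat_lit 12, nat_lit 15, nat_lit 12, nat_lit 19, nat_lit 16] (Rl.cmp (nat_lit 3004) (nat_lit 3345)))) (FT.leaf (Fct.mk false (nat_lit 32) (nat_lit 0) (nat_lit 32) [nat_lit 0, nat_lit 1, nat_lit 2, nat_lit 3, nat_lit 4, nat_lit 5, nat_lit 2, nat_lit 1, nat_lit 8, nat_lit 3, nat_lit 2, nat_lit 0, nat_lit 1, nat_lit 4, nat_lit 3, nat_lit 2, nat_lit 8, nat_lit 3, nat_lit 9, nat_lit 2, nat_lit 16, nat_lit 15, nat_lit 14, nat_lit 12, nat_lit 18] (Rl.cmp (nat_lit 3047) (nat_lit 3346))))) (FT.node (nat_lit 3349) (FT.leaf (Fct.mk false (nat_lit 32) (nat_lit 0) (nat_lit 32) [nat_lit 3, nat_lit 8, nat_lit 6, nat_lit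 4, nat_lit 5, nat_lit 3, nat_lit 4, nat_lit 2, nat_lit 3, nat_lit 8, nat_lit 1, nat_lit 2, nat_lit 3, nat_lit 4, nat_lit 5, nat_lit 3, nat_lit 11, nat_lit 10, nat_lit 2, nat_lit 8, nat_lit 10, nat_lit 1, nat_lit 8, nat_lit 12, nat_lit 15, nat_lit 17, nat_lit 18, nat_lit 16] (Rl.cmp (nat_lit 3047) (nat_lit 3347)))) (FT.leaf (Fct.mk false (nat_lit 32) (nat_lit 0) (nat_lit 32) [nat_lit 1, nat_lit 2, nat_lit 3, nat_lit 8, nat_lit 4, nat_lit 5, nat_lit 3, nat_lit 4, nat_lit 2, nat_lit 3, nat_lit 8, nat_lit 1, nat_lit 2, nat_lit 3, nat_lit 4, nat_lit 5, nat_lit 2, nat_lit 1, nat_lit 3, nat_lit 2, nat_lit 0, nat_lit 1, nat_lit 4, nat_lit 3, nat_lit 2, nat_lit 8, nat_lit 3, nat_lit 10, nat_lit 1, nat_lit 8, nat_lit 12, nat_lit 15, nat_lit 14, nat_lit 12] (Rl.cmp (nat_lit 3004) (nat_lit 3348)))))))))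

/-- some facts -/
noncomputable def ftc67 : FT := FT.node (nat_lit 3375) (FT.node (nat_lit 3362) (FT.node (nat_lit 3356) (FT.node (nat_lit 3353) (FT.node (nat_lit 3351) (FT.leaf (Fct.mk false (nat_lit 32) (nat_lit 0) (nat_lit 32) [nat_lit 3, nat_lit 2, nat_lit 1, nat_lit 8, nat_lit 3, nat_lit 2, nat_lit 0, nat_lit 1, nat_lit 4, nat_lit 3, nat_lit 2, nat_lit 8, nat_lit 3, nat_lit 2, nat_lit 10, nat_lit 1, nat_lit 8, nat_lit 12, nat_lit 15, nat_lit 14, nat_lit 18] (Rl.cmp (nat_lit 3010) (nat_lit 3349)))) (FT.node (nat_lit 3352) (FT.leaf (Fct.mk false (nat_lit 5) (nat_lit 0) (nat_lit 5) [nat_lit 8, nat_lit 3, nat_lit 4, nat_lit 2, nat_lit 3, nat_lit 8, nat_lit 7, nat_lit 5, nat_lit 6, nat_lit 4, nat_lit 5, nat_lit 3, nat_lit 4, nat_lit 2, nat_lit 3, nat_lit 8, nat_lit 0, nat_lit 1, nat_lit 2, nat_lit 3, nat_lit 4, nat_lit 5, nat_lit 6, nat_lit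 7, nat_lit 5, nat_lit 6, nat_lit 4, nat_lit 5, nat_lit 3, nat_lit 4, nat_lit 2, nat_lit 3, nat_lit 8, nat_lit 1, nat_lit 2, nat_lit 3, nat_lit 4, nat_lit 5, nat_lit 1, nat_lit 3, nat_lit 2, nat_lit 8, nat_lit 3, nat_lit 10, nat_lit 2, nat_lit 8, nat_lit 10, nat_lit 1, nat_lit 12, nat_lit 15, nat_lit 17, nat_lit 12, nat_lit 16] (Rl.cmp (nat_lit 470) (nat_lit 2491)))) (FT.leaf (Fct.mk false (nat_lit 5) (nat_lit 0) (nat_lit 5) [nat_lit 8, nat_lit 3, nat_lit 4, nat_lit 2, nat_lit 3, nat_lit 8, nat_lit 7, nat_lit 5, nat_lit 6, nat_lit 4, nat_lit 5, nat_lit 3, nat_lit 4, nat_lit 2, nat_lit 3, nat_lit 8, nat_lit 0, nat_lit 1, nat_lit 2, nat_lit 3, nat_lit 4, nat_lit 5, nat_lit 6, nat_lit 7, nat_lit 0, nat_lit 1, nat_lit 2, nat_lit 3, nat_lit 4, nat_lit 5, nat_lit 2, nat_lit 1, nat_lit 8, nat_lit 3, nat_lit 2, nat_lit 0, nat_lit 1, nat_lit 4, nat_lit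 3, nat_lit 2, nat_lit 8, nat_lit 3, nat_lit 11, nat_lit 10, nat_lit 8, nat_lit 12, nat_lit 15, nat_lit 14, nat_lit 13, nat_lit 12, nat_lit 19, nat_lit 16] (Rl.cmp (nat_lit 1754) (nat_lit 3351)))))) (FT.node (nat_lit 3354) (FT.leaf (Fct.mk false (nat_lit 5) (nat_lit 0) (nat_lit 5) [nat_lit 8, nat_lit 4, nat_lit 5, nat_lit 2, nat_lit 3, nat_lit 4, nat_lit 1, nat_lit 2, nat_lit 3, nat_lit 8, nat_lit 6, nat_lit 7, nat_lit 5, nat_lit 6, nat_lit 4, nat_lit 5, nat_lit 3, nat_lit 4, nat_lit 2, nat_lit 3, nat_lit 8, nat_lit 1, nat_lit 2, nat_lit 3, nat_lit 4, nat_lit 5, nat_lit 6, nat_lit 7, nat_lit 6, nat_lit 5, nat_lit 4, nat_lit 3, nat_lit 8, nat_lit 2, nat_lit 3, nat_lit 4, nat_lit 5, nat_lit 1, nat_lit 2, nat_lit 8, nat_lit 3, nat_lit 11, nat_lit 8, nat_lit 16, nat_lit 14, nat_lit 13, nat_lit 12, nat_lit 19] (Rl.cmp (nat_lit 2491) (nat_lit 3352))))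 (FT.node (nat_lit 3355) (FT.leaf (Fct.mk true (nat_lit 32) (nat_lit 36805) (nat_lit 5) [nat_lit 3, nat_lit 8, nat_lit 7, nat_lit 6, nat_lit 4, nat_lit 5, nat_lit 3, nat_lit 4, nat_lit 2, nat_lit 3, nat_lit 8, nat_lit 0, nat_lit 1, nat_lit 2, nat_lit 3, nat_lit 4, nat_lit 5, nat_lit 6, nat_lit 7, nat_lit 4, nat_lit 3, nat_lit 8, nat_lit 1, nat_lit 2, nat_lit 3, nat_lit 4, nat_lit 5, nat_lit 1, nat_lit 9, nat_lit 8, nat_lit 12, nat_lit 15, nat_lit 14, nat_lit 16] (Rl.rel (nat_lit 0) [nat_lit 8, nat_lit 6, nat_lit 7, nat_lit 5, nat_lit 6, nat_lit 4, nat_lit 5, nat_lit 3, nat_lit 4, nat_lit 2, nat_lit 3, nat_lit 8, nat_lit 0, nat_lit 1, nat_lit 2, nat_lit 3, nat_lit 4, nat_lit 5, nat_lit 6, nat_lit 7, nat_lit 8, nat_lit 4, nat_lit 5, nat_lit 2, nat_lit 3, nat_lit 4, nat_lit 1, nat_lit 2, nat_lit 3, nat_lit 8, nat_lit 0, nat_lit 1, nat_lit 2, nat_lit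 3, nat_lit 4, nat_lit 5, nat_lit 10, nat_lit 0, nat_lit 8, nat_lit 12, nat_lit 15, nat_lit 14, nat_lit 17] (nat_lit 5) (nat_lit 1) [nat_lit 3139] [nat_lit 3353, nat_lit 2608]))) (FT.leaf (Fct.mk true (nat_lit 32) (nat_lit 1086) (nat_lit 5) [nat_lit 2, nat_lit 3, nat_lit 8, nat_lit 7, nat_lit 6, nat_lit 4, nat_lit 5, nat_lit 3, nat_lit 4, nat_lit 2, nat_lit 3, nat_lit 8, nat_lit 0, nat_lit 1, nat_lit 2, nat_lit 3, nat_lit 4, nat_lit 5, nat_lit 6, nat_lit 7, nat_lit 4, nat_lit 3, nat_lit 8, nat_lit 1, nat_lit 2, nat_lit 3, nat_lit 4, nat_lit 5, nat_lit 0, nat_lit 1, nat_lit 2, nat_lit 8, nat_lit 3, nat_lit 9, nat_lit 2, nat_lit 12, nat_lit 15, nat_lit 14, nat_lit 12, nat_lit 16] (Rl.t1 (nat_lit 3354) (nat_lit 3350))))))) (FT.node (nat_lit 3359) (FT.node (nat_lit 3357) (FT.leaf (Fct.mk true (nat_lit 5) (nat_lit 47658) (nat_lit 32) [nat_lit 4,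 nat_lit 5, nat_lit 3, nat_lit 4, nat_lit 2, nat_lit 3, nat_lit 8, nat_lit 6, nat_lit 7, nat_lit 5, nat_lit 6, nat_lit 4, nat_lit 5, nat_lit 3, nat_lit 4, nat_lit 2, nat_lit 3, nat_lit 8, nat_lit 1, nat_lit 2, nat_lit 3, nat_lit 4, nat_lit 5, nat_lit 6, nat_lit 7, nat_lit 2, nat_lit 0, nat_lit 1, nat_lit 9, nat_lit 4, nat_lit 3, nat_lit 2, nat_lit 8, nat_lit 3, nat_lit 11, nat_lit 1, nat_lit 8, nat_lit 12, nat_lit 15, nat_lit 17, nat_lit 12, nat_lit 16] (Rl.inv (nat_lit 3355)))) (FT.node (nat_lit 3358) (FT.leaf (Fct.mk true (nat_lit 5) (nat_lit 587) (nat_lit 32) [nat_lit 6, nat_lit 5, nat_lit 4, nat_lit 3, nat_lit 8, nat_lit 0, nat_lit 1, nat_lit 2, nat_lit 3, nat_lit 4, nat_lit 5, nat_lit 6, nat_lit 7, nat_lit 2, nat_lit 3, nat_lit 8, nat_lit 5, nat_lit 6, nat_lit 4, nat_lit 5, nat_lit 3, nat_lit 4, nat_lit 2, nat_lit 3, nat_lit 8, nat_lit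 0, nat_lit 1, nat_lit 2, nat_lit 3, nat_lit 4, nat_lit 5, nat_lit 1, nat_lit 2, nat_lit 8, nat_lit 3, nat_lit 8, nat_lit 10, nat_lit 0, nat_lit 12, nat_lit 15] (Rl.t1 (nat_lit 3356) (nat_lit 2846)))) (FT.leaf (Fct.mk false (nat_lit 32) (nat_lit 0) (nat_lit 32) [nat_lit 2, nat_lit 3, nat_lit 4, nat_lit 1, nat_lit 2, nat_lit 3, nat_lit 8, nat_lit 0, nat_lit 1, nat_lit 2, nat_lit 3, nat_lit 4, nat_lit 5, nat_lit 3, nat_lit 8, nat_lit 4, nat_lit 3, nat_lit 2, nat_lit 0, nat_lit 1, nat_lit 9, nat_lit 4, nat_lit 3, nat_lit 2, nat_lit 8, nat_lit 3, nat_lit 11, nat_lit 10, nat_lit 8, nat_lit 16, nat_lit 14, nat_lit 19] (Rl.cmp (nat_lit 3010) (nat_lit 3004)))))) (FT.node (nat_lit 3360) (FT.leaf (Fct.mk false (nat_lit 32) (nat_lit 0) (nat_lit 32) [nat_lit 3, nat_lit 4, nat_lit 2, nat_lit 3, nat_lit 8, nat_lit 5, nat_lit 6, nat_lit 4, nat_lit 5, nat_lit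 3, nat_lit 4, nat_lit 2, nat_lit 3, nat_lit 8, nat_lit 1, nat_lit 2, nat_lit 3, nat_lit 4, nat_lit 5, nat_lit 3, nat_lit 2, nat_lit 1, nat_lit 8, nat_lit 3, nat_lit 2, nat_lit 0, nat_lit 1, nat_lit 9, nat_lit 4, nat_lit 3, nat_lit 2, nat_lit 8, nat_lit 3, nat_lit 11, nat_lit 10, nat_lit 1, nat_lit 12, nat_lit 15, nat_lit 14, nat_lit 17, nat_lit 16] (Rl.cmp (nat_lit 3047) (nat_lit 3358)))) (FT.node (nat_lit 3361) (FT.leaf (Fct.mk false (nat_lit 32) (nat_lit 0) (nat_lit 32) [nat_lit 5, nat_lit 4, nat_lit 3, nat_lit 8, nat_lit 0, nat_lit 1, nat_lit 2, nat_lit 3, nat_lit 4, nat_lit 5, nat_lit 2, nat_lit 1, nat_lit 8, nat_lit 3, nat_lit 2, nat_lit 0, nat_lit 1, nat_lit 9, nat_lit 4, nat_lit 3, nat_lit 2, nat_lit 8, nat_lit 3, nat_lit 11, nat_lit 16, nat_lit 14, nat_lit 17, nat_lit 12] (Rl.cmp (nat_lit 3047) (nat_lit 3359)))) (FT.leaf (Fct.mk false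 (nat_lit 5) (nat_lit 0) (nat_lit 5) [nat_lit 3, nat_lit 4, nat_lit 5, nat_lit 4, nat_lit 11, nat_lit 1, nat_lit 16, nat_lit 15, nat_lit 14, nat_lit 13, nat_lit 16] (Rl.cmp (nat_lit 1754) (nat_lit 472)))))))) (FT.node (nat_lit 3368) (FT.node (nat_lit 3365) (FT.node (nat_lit 3363) (FT.leaf (Fct.mk false (nat_lit 25) (nat_lit 0) (nat_lit 25) [nat_lit 8, nat_lit 3, nat_lit 4, nat_lit 5, nat_lit 1, nat_lit 3, nat_lit 2, nat_lit 8, nat_lit 3, nat_lit 11, nat_lit 10, nat_lit 1, nat_lit 15, nat_lit 17, nat_lit 18, nat_lit 16] (Rl.cmp (nat_lit 2117) (nat_lit 1256)))) (FT.node (nat_lit 3364) (FT.leaf (Fct.mk false (nat_lit 25) (nat_lit 0) (nat_lit 25) [nat_lit 2, nat_lit 3, nat_lit 4, nat_lit 1, nat_lit 2, nat_lit 3, nat_lit 8, nat_lit 0, nat_lit 1, nat_lit 2, nat_lit 3, nat_lit 4, nat_lit 5, nat_lit 4, nat_lit 3, nat_lit 2, nat_lit 1, nat_lit 9, nat_lit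 4, nat_lit 3, nat_lit 2, nat_lit 8, nat_lit 3, nat_lit 9, nat_lit 2, nat_lit 8, nat_lit 16, nat_lit 15, nat_lit 14, nat_lit 18, nat_lit 16] (Rl.cmp (nat_lit 1813) (nat_lit 3362)))) (FT.leaf (Fct.mk false (nat_lit 25) (nat_lit 0) (nat_lit 25) [nat_lit 8, nat_lit 7, nat_lit 6, nat_lit 5, nat_lit 2, nat_lit 3, nat_lit 4, nat_lit 1, nat_lit 2, nat_lit 3, nat_lit 8, nat_lit 0, nat_lit 1, nat_lit 2, nat_lit 3, nat_lit 4, nat_lit 5, nat_lit 6, nat_lit 7, nat_lit 2, nat_lit 3, nat_lit 8, nat_lit 5, nat_lit 6, nat_lit 4, nat_lit 5, nat_lit 3, nat_lit 4, nat_lit 2, nat_lit 3, nat_lit 8, nat_lit 0, nat_lit 1, nat_lit 2, nat_lit 3, nat_lit 4, nat_lit 5, nat_lit 2, nat_lit 1, nat_lit 3, nat_lit 2, nat_lit 0, nat_lit 1, nat_lit 9, nat_lit 4, nat_lit 3, nat_lit 2, nat_lit 8, nat_lit 3, nat_lit 8, nat_lit 10, nat_lit 9, nat_lit 2, nat_lit 14, nat_lit 12] (Rl.cmp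 (nat_lit 2467) (nat_lit 3363)))))) (FT.node (nat_lit 3366) (FT.leaf (Fct.mk false (nat_lit 25) (nat_lit 0) (nat_lit 25) [nat_lit 8, nat_lit 7, nat_lit 6, nat_lit 4, nat_lit 5, nat_lit 3, nat_lit 4, nat_lit 1, nat_lit 2, nat_lit 3, nat_lit 8, nat_lit 0, nat_lit 1, nat_lit 2, nat_lit 3, nat_lit 4, nat_lit 5, nat_lit 6, nat_lit 7, nat_lit 3, nat_lit 8, nat_lit 5, nat_lit 6, nat_lit 4, nat_lit 5, nat_lit 3, nat_lit 4, nat_lit 2, nat_lit 3, nat_lit 8, nat_lit 0, nat_lit 1, nat_lit 2, nat_lit 3, nat_lit 4, nat_lit 5, nat_lit 2, nat_lit 1, nat_lit 4, nat_lit 3, nat_lit 2, nat_lit 0, nat_lit 1, nat_lit 9, nat_lit 4, nat_lit 3, nat_lit 2, nat_lit 8, nat_lit 3, nat_lit 8, nat_lit 10, nat_lit 9, nat_lit 2, nat_lit 14, nat_lit 12, nat_lit 18] (Rl.cmp (nat_lit 1258) (nat_lit 3364)))) (FT.node (nat_lit 3367) (FT.leaf (Fct.mk true (nat_lit 32) (nat_lit 1635)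 (nat_lit 25) [nat_lit 7, nat_lit 6, nat_lit 5, nat_lit 4, nat_lit 1, nat_lit 2, nat_lit 3, nat_lit 8, nat_lit 0, nat_lit 1, nat_lit 2, nat_lit 3, nat_lit 4, nat_lit 5, nat_lit 6, nat_lit 7, nat_lit 6, nat_lit 5, nat_lit 4, nat_lit 3, nat_lit 8, nat_lit 2, nat_lit 3, nat_lit 4, nat_lit 1, nat_lit 2, nat_lit 3, nat_lit 8, nat_lit 5, nat_lit 6, nat_lit 4, nat_lit 5, nat_lit 3, nat_lit 4, nat_lit 2, nat_lit 3, nat_lit 8, nat_lit 1, nat_lit 2, nat_lit 3, nat_lit 4, nat_lit 5, nat_lit 2, nat_lit 1, nat_lit 4, nat_lit 3, nat_lit 2, nat_lit 0, nat_lit 1, nat_lit 9, nat_lit 4, nat_lit 3, nat_lit 2, nat_lit 8, nat_lit 3, nat_lit 10, nat_lit 8, nat_lit 16, nat_lit 15, nat_lit 14, nat_lit 13, nat_lit 19, nat_lit 16] (Rl.rel (nat_lit 0) [nat_lit 3, nat_lit 4, nat_lit 5, nat_lit 6, nat_lit 7, nat_lit 2, nat_lit 3, nat_lit 4, nat_lit 1, nat_lit 2, nat_lit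 3, nat_lit 8, nat_lit 0, nat_lit 1, nat_lit 2, nat_lit 3, nat_lit 4, nat_lit 5, nat_lit 3, nat_lit 2, nat_lit 1, nat_lit 8, nat_lit 3, nat_lit 2, nat_lit 0, nat_lit 1, nat_lit 9, nat_lit 4, nat_lit 3, nat_lit 2, nat_lit 8, nat_lit 3, nat_lit 10, nat_lit 0, nat_lit 17, nat_lit 18] (nat_lit 5) (nat_lit 1) [nat_lit 3139] [nat_lit 3361, nat_lit 2134]))) (FT.leaf (Fct.mk true (nat_lit 32) (nat_lit 8) (nat_lit 25) [nat_lit 5, nat_lit 4, nat_lit 3, nat_lit 8, nat_lit 6, nat_lit 7, nat_lit 5, nat_lit 6, nat_lit 4, nat_lit 5, nat_lit 3, nat_lit 4, nat_lit 1, nat_lit 2, nat_lit 3, nat_lit 8, nat_lit 0, nat_lit 1, nat_lit 2, nat_lit 3, nat_lit 4, nat_lit 5, nat_lit 6, nat_lit 7, nat_lit 8, nat_lit 3, nat_lit 4, nat_lit 1, nat_lit 2, nat_lit 3, nat_lit 8, nat_lit 0, nat_lit 1, nat_lit 2, nat_lit 3, nat_lit 4, nat_lit 5, nat_lit 4, nat_lit 9, nat_lit 15,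 nat_lit 13, nat_lit 12, nat_lit 18] (Rl.t1 (nat_lit 3366) (nat_lit 3360))))))) (FT.node (nat_lit 3371) (FT.node (nat_lit 3369) (FT.leaf (Fct.mk true (nat_lit 25) (nat_lit 92941) (nat_lit 32) [nat_lit 8, nat_lit 7, nat_lit 6, nat_lit 4, nat_lit 5, nat_lit 3, nat_lit 4, nat_lit 1, nat_lit 2, nat_lit 3, nat_lit 8, nat_lit 0, nat_lit 1, nat_lit 2, nat_lit 3, nat_lit 4, nat_lit 5, nat_lit 6, nat_lit 7, nat_lit 2, nat_lit 3, nat_lit 8, nat_lit 1, nat_lit 2, nat_lit 3, nat_lit 4, nat_lit 5, nat_lit 1, nat_lit 12, nat_lit 8, nat_lit 16, nat_lit 14, nat_lit 13, nat_lit 12, nat_lit 18] (Rl.inv (nat_lit 3367)))) (FT.node (nat_lit 3370) (FT.leaf (Fct.mk true (nat_lit 25) (nat_lit 5) (nat_lit 32) [nat_lit 1, nat_lit 2, nat_lit 3, nat_lit 8, nat_lit 6, nat_lit 4, nat_lit 5, nat_lit 3, nat_lit 4, nat_lit 2, nat_lit 3, nat_lit 8, nat_lit 1, nat_lit 2, nat_lit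 3, nat_lit 4, nat_lit 5, nat_lit 8, nat_lit 3, nat_lit 10, nat_lit 0, nat_lit 8] (Rl.t1 (nat_lit 3368) (nat_lit 3365)))) (FT.leaf (Fct.mk false (nat_lit 32) (nat_lit 0) (nat_lit 32) [nat_lit 5, nat_lit 4, nat_lit 3, nat_lit 8, nat_lit 2, nat_lit 3, nat_lit 4, nat_lit 5, nat_lit 4, nat_lit 3, nat_lit 2, nat_lit 8, nat_lit 3, nat_lit 11, nat_lit 2, nat_lit 13, nat_lit 19] (Rl.cmp (nat_lit 3047) (nat_lit 3010)))))) (FT.node (nat_lit 3373) (FT.node (nat_lit 3372) (FT.leaf (Fct.mk false (nat_lit 32) (nat_lit 0) (nat_lit 32) [nat_lit 5, nat_lit 6, nat_lit 4, nat_lit 5, nat_lit 3, nat_lit 4, nat_lit 2, nat_lit 3, nat_lit 8, nat_lit 1, nat_lit 2, nat_lit 3, nat_lit 4, nat_lit 5, nat_lit 2, nat_lit 1, nat_lit 8, nat_lit 3, nat_lit 2, nat_lit 0, nat_lit 1, nat_lit 9, nat_lit 4, nat_lit 3, nat_lit 2, nat_lit 8, nat_lit 3, nat_lit 12, nat_lit 15, nat_lit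 14, nat_lit 17, nat_lit 16] (Rl.cmp (nat_lit 3004) (nat_lit 3370)))) (FT.leaf (Fct.mk false (nat_lit 32) (nat_lit 0) (nat_lit 32) [nat_lit 5, nat_lit 4, nat_lit 2, nat_lit 3, nat_lit 8, nat_lit 0, nat_lit 1, nat_lit 2, nat_lit 3, nat_lit 4, nat_lit 5, nat_lit 2, nat_lit 1, nat_lit 8, nat_lit 4, nat_lit 3, nat_lit 2, nat_lit 0, nat_lit 1, nat_lit 9, nat_lit 4, nat_lit 3, nat_lit 2, nat_lit 8, nat_lit 3, nat_lit 10, nat_lit 1, nat_lit 16, nat_lit 14, nat_lit 16, nat_lit 8, nat_lit 19] (Rl.cmp (nat_lit 3047) (nat_lit 3371))))) (FT.node (nat_lit 3374) (FT.leaf (Fct.mk false (nat_lit 32) (nat_lit 0) (nat_lit 32) [nat_lit 6, nat_lit 5, nat_lit 4, nat_lit 3, nat_lit 8, nat_lit 2, nat_lit 3, nat_lit 4, nat_lit 1, nat_lit 2, nat_lit 3, nat_lit 8, nat_lit 5, nat_lit 6, nat_lit 4, nat_lit 5, nat_lit 3, nat_lit 4, nat_lit 2, nat_lit 3, nat_lit 8, nat_lit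 1, nat_lit 2, nat_lit 3, nat_lit 4, nat_lit 5, nat_lit 2, nat_lit 0, nat_lit 1, nat_lit 9, nat_lit 4, nat_lit 3, nat_lit 2, nat_lit 8, nat_lit 3, nat_lit 1, nat_lit 12, nat_lit 8, nat_lit 16, nat_lit 14, nat_lit 16, nat_lit 8, nat_lit 18, nat_lit 16] (Rl.cmp (nat_lit 3010) (nat_lit 3047)))) (FT.leaf (Fct.mk false (nat_lit 32) (nat_lit 0) (nat_lit 32) [nat_lit 6, nat_lit 5, nat_lit 4, nat_lit 3, nat_lit 8, nat_lit 2, nat_lit 3, nat_lit 4, nat_lit 1, nat_lit 2, nat_lit 3, nat_lit 8, nat_lit 5, nat_lit 6, nat_lit 4, nat_lit 5, nat_lit 3, nat_lit 4, nat_lit 2, nat_lit 3, nat_lit 8, nat_lit 1, nat_lit 2, nat_lit 3, nat_lit 4, nat_lit 5, nat_lit 1, nat_lit 8, nat_lit 3, nat_lit 2, nat_lit 0, nat_lit 1, nat_lit 4, nat_lit 3, nat_lit 2, nat_lit 8, nat_lit 3, nat_lit 11, nat_lit 2, nat_lit 10, nat_lit 1, nat_lit 8, nat_lit 12, nat_lit 15, nat_lit 14,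 nat_lit 17] (Rl.cmp (nat_lit 3010) (nat_lit 3373))))))))) (FT.node (nat_lit 3387) (FT.node (nat_lit 3381) (FT.node (nat_lit 3378) (FT.node (nat_lit 3376) (FT.leaf (Fct.mk false (nat_lit 32) (nat_lit 0) (nat_lit 32) [nat_lit 8, nat_lit 1, nat_lit 2, nat_lit 3, nat_lit 4, nat_lit 5, nat_lit 2, nat_lit 1, nat_lit 9, nat_lit 4, nat_lit 3, nat_lit 2, nat_lit 8, nat_lit 3, nat_lit 11, nat_lit 8, nat_lit 10, nat_lit 8, nat_lit 12, nat_lit 15, nat_lit 14, nat_lit 17, nat_lit 18, nat_lit 16] (Rl.cmp (nat_lit 3004) (nat_lit 3374)))) (FT.node (nat_lit 3377) (FT.leaf (Fct.mk false (nat_lit 32) (nat_lit 0) (nat_lit 32) [nat_lit 2, nat_lit 3, nat_lit 8, nat_lit 6, nat_lit 4, nat_lit 5, nat_lit 3, nat_lit 4, nat_lit 2, nat_lit 3, nat_lit 8, nat_lit 0, nat_lit 1, nat_lit 2, nat_lit 3, nat_lit 4, nat_lit 5, nat_lit 2, nat_lit 3, nat_lit 8, nat_lit 4, nat_lit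 3, nat_lit 2, nat_lit 1, nat_lit 9, nat_lit 4, nat_lit 3, nat_lit 2, nat_lit 8, nat_lit 3, nat_lit 0, nat_lit 2, nat_lit 15, nat_lit 14, nat_lit 17, nat_lit 12] (Rl.cmp (nat_lit 3047) (nat_lit 3375)))) (FT.leaf (Fct.mk false (nat_lit 5) (nat_lit 0) (nat_lit 5) [nat_lit 4, nat_lit 5, nat_lit 2, nat_lit 3, nat_lit 11, nat_lit 10, nat_lit 1, nat_lit 14, nat_lit 13, nat_lit 12] (Rl.cmp (nat_lit 2094) (nat_lit 2805)))))) (FT.node (nat_lit 3379) (FT.leaf (Fct.mk false (nat_lit 5) (nat_lit 0) (nat_lit 5) [nat_lit 1, nat_lit 2, nat_lit 3, nat_lit 16, nat_lit 15, nat_lit 14] (Rl.cmp (nat_lit 1754) (nat_lit 3377)))) (FT.node (nat_lit 3380) (FT.leaf (Fct.mk true (nat_lit 32) (nat_lit 126557) (nat_lit 5) [nat_lit 8, nat_lit 3, nat_lit 4, nat_lit 2, nat_lit 3, nat_lit 8, nat_lit 7, nat_lit 5, nat_lit 6, nat_lit 4, nat_lit 5, nat_lit 3, nat_lit 4, nat_lit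 2, nat_lit 3, nat_lit 8, nat_lit 0, nat_lit 1, nat_lit 2, nat_lit 3, nat_lit 4, nat_lit 5, nat_lit 6, nat_lit 7, nat_lit 3, nat_lit 8, nat_lit 1, nat_lit 2, nat_lit 3, nat_lit 4, nat_lit 5, nat_lit 2, nat_lit 3, nat_lit 8, nat_lit 4, nat_lit 3, nat_lit 2, nat_lit 0, nat_lit 1, nat_lit 9, nat_lit 4, nat_lit 3, nat_lit 2, nat_lit 8, nat_lit 3, nat_lit 2] (Rl.rel (nat_lit 0) [nat_lit 7, nat_lit 6, nat_lit 5, nat_lit 4, nat_lit 3, nat_lit 8, nat_lit 2, nat_lit 3, nat_lit 4, nat_lit 5, nat_lit 6, nat_lit 7, nat_lit 3, nat_lit 4, nat_lit 5, nat_lit 2, nat_lit 3, nat_lit 4, nat_lit 1, nat_lit 2, nat_lit 3, nat_lit 8, nat_lit 0, nat_lit 1, nat_lit 2, nat_lit 3, nat_lit 4, nat_lit 5, nat_lit 4, nat_lit 8, nat_lit 10, nat_lit 8, nat_lit 12, nat_lit 15, nat_lit 14, nat_lit 17] (nat_lit 5) (nat_lit 2) [nat_lit 3139, nat_lit 3372, nat_lit 3282] []))) (FT.leaf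 (Fct.mk true (nat_lit 32) (nat_lit 13638) (nat_lit 5) [nat_lit 2, nat_lit 3, nat_lit 8, nat_lit 4, nat_lit 5, nat_lit 3, nat_lit 4, nat_lit 2, nat_lit 3, nat_lit 8, nat_lit 6, nat_lit 7, nat_lit 5, nat_lit 6, nat_lit 4, nat_lit 5, nat_lit 3, nat_lit 4, nat_lit 2, nat_lit 3, nat_lit 8, nat_lit 1, nat_lit 2, nat_lit 3, nat_lit 4, nat_lit 5, nat_lit 6, nat_lit 7, nat_lit 6, nat_lit 5, nat_lit 3, nat_lit 4, nat_lit 2, nat_lit 3, nat_lit 8, nat_lit 1, nat_lit 2, nat_lit 3, nat_lit 4, nat_lit 5, nat_lit 4, nat_lit 3, nat_lit 2, nat_lit 1, nat_lit 9, nat_lit 4, nat_lit 3, nat_lit 2, nat_lit 8, nat_lit 3, nat_lit 11, nat_lit 10, nat_lit 2, nat_lit 8, nat_lit 10, nat_lit 1, nat_lit 8, nat_lit 16, nat_lit 14, nat_lit 17, nat_lit 18] (Rl.t1 (nat_lit 3379) (nat_lit 3376))))))) (FT.node (nat_lit 3384) (FT.node (nat_lit 3382) (FT.leaf (Fct.mk true (nat_lit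 5) (nat_lit 1212) (nat_lit 32) [nat_lit 8, nat_lit 3, nat_lit 4, nat_lit 2, nat_lit 3, nat_lit 8, nat_lit 7, nat_lit 5, nat_lit 6, nat_lit 4, nat_lit 5, nat_lit 3, nat_lit 4, nat_lit 2, nat_lit 3, nat_lit 8, nat_lit 0, nat_lit 1, nat_lit 2, nat_lit 3, nat_lit 4, nat_lit 5, nat_lit 6, nat_lit 7, nat_lit 3, nat_lit 4, nat_lit 2, nat_lit 3, nat_lit 8, nat_lit 1, nat_lit 2, nat_lit 3, nat_lit 4, nat_lit 5, nat_lit 2, nat_lit 1, nat_lit 4, nat_lit 3, nat_lit 2, nat_lit 8, nat_lit 3, nat_lit 10, nat_lit 2, nat_lit 8, nat_lit 10, nat_lit 1, nat_lit 12, nat_lit 8, nat_lit 16, nat_lit 14] (Rl.inv (nat_lit 3380)))) (FT.node (nat_lit 3383) (FT.leaf (Fct.mk true (nat_lit 5) (nat_lit 111) (nat_lit 32) [nat_lit 2, nat_lit 3, nat_lit 8, nat_lit 4, nat_lit 5, nat_lit 3, nat_lit 4, nat_lit 2, nat_lit 3, nat_lit 8, nat_lit 6, nat_lit 7, nat_lit 5, nat_lit 6,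 nat_lit 4, nat_lit 5, nat_lit 3, nat_lit 4, nat_lit 2, nat_lit 3, nat_lit 8, nat_lit 1, nat_lit 2, nat_lit 3, nat_lit 4, nat_lit 5, nat_lit 6, nat_lit 7, nat_lit 2, nat_lit 3, nat_lit 8, nat_lit 5, nat_lit 6, nat_lit 4, nat_lit 5, nat_lit 3, nat_lit 4, nat_lit 2, nat_lit 3, nat_lit 8, nat_lit 1, nat_lit 2, nat_lit 3, nat_lit 4, nat_lit 5, nat_lit 1, nat_lit 3, nat_lit 2, nat_lit 8, nat_lit 3, nat_lit 11, nat_lit 10, nat_lit 2, nat_lit 8, nat_lit 10, nat_lit 1, nat_lit 15, nat_lit 14, nat_lit 13, nat_lit 18, nat_lit 16] (Rl.t1 (nat_lit 3381) (nat_lit 3378)))) (FT.leaf (Fct.mk false (nat_lit 32) (nat_lit 0) (nat_lit 32) [nat_lit 2, nat_lit 3, nat_lit 4, nat_lit 1, nat_lit 2, nat_lit 3, nat_lit 8, nat_lit 0, nat_lit 1, nat_lit 2, nat_lit 3, nat_lit 4, nat_lit 5, nat_lit 3, nat_lit 8, nat_lit 4, nat_lit 3, nat_lit 2, nat_lit 0, nat_lit 1, nat_lit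 9, nat_lit 4, nat_lit 3, nat_lit 2, nat_lit 8, nat_lit 3, nat_lit 11, nat_lit 10, nat_lit 8, nat_lit 16, nat_lit 14, nat_lit 19] (Rl.cmp (nat_lit 3010) (nat_lit 3004)))))) (FT.node (nat_lit 3385) (FT.leaf (Fct.mk false (nat_lit 32) (nat_lit 0) (nat_lit 32) [nat_lit 5, nat_lit 4, nat_lit 3, nat_lit 8, nat_lit 0, nat_lit 1, nat_lit 2, nat_lit 3, nat_lit 4, nat_lit 5, nat_lit 1, nat_lit 8, nat_lit 3, nat_lit 2, nat_lit 0, nat_lit 1, nat_lit 9, nat_lit 4, nat_lit 3, nat_lit 2, nat_lit 8, nat_lit 3, nat_lit 2, nat_lit 16, nat_lit 14, nat_lit 12, nat_lit 19] (Rl.cmp (nat_lit 3010) (nat_lit 3383)))) (FT.node (nat_lit 3386) (FT.leaf (Fct.mk false (nat_lit 32) (nat_lit 0) (nat_lit 32) [nat_lit 5, nat_lit 4, nat_lit 3, nat_lit 8, nat_lit 2, nat_lit 3, nat_lit 4, nat_lit 1, nat_lit 2, nat_lit 3, nat_lit 8, nat_lit 5, nat_lit 6, nat_lit 4, nat_lit 5, nat_lit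 3, nat_lit 4, nat_lit 2, nat_lit 3, nat_lit 8, nat_lit 1, nat_lit 2, nat_lit 3, nat_lit 4, nat_lit 5, nat_lit 2, nat_lit 1, nat_lit 8, nat_lit 3, nat_lit 2, nat_lit 0, nat_lit 1, nat_lit 4, nat_lit 3, nat_lit 2, nat_lit 8, nat_lit 3, nat_lit 10, nat_lit 9, nat_lit 2, nat_lit 8, nat_lit 16, nat_lit 15, nat_lit 14, nat_lit 16, nat_lit 8, nat_lit 18, nat_lit 16] (Rl.cmp (nat_lit 3004) (nat_lit 3384)))) (FT.leaf (Fct.mk false (nat_lit 32) (nat_lit 0) (nat_lit 32) [nat_lit 1, nat_lit 2, nat_lit 3, nat_lit 8, nat_lit 6, nat_lit 4, nat_lit 5, nat_lit 3, nat_lit 4, nat_lit 2, nat_lit 3, nat_lit 8, nat_lit 1, nat_lit 2, nat_lit 3, nat_lit 4, nat_lit 5, nat_lit 2, nat_lit 1, nat_lit 3, nat_lit 2, nat_lit 0, nat_lit 1, nat_lit 4, nat_lit 3, nat_lit 2, nat_lit 8, nat_lit 3, nat_lit 10, nat_lit 1, nat_lit 8, nat_lit 12, nat_lit 15, nat_lit 14, nat_lit 8,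 nat_lit 18] (Rl.cmp (nat_lit 3010) (nat_lit 3385)))))))) (FT.node (nat_lit 3393) (FT.node (nat_lit 3390) (FT.node (nat_lit 3388) (FT.leaf (Fct.mk false (nat_lit 5) (nat_lit 0) (nat_lit 5) [nat_lit 1, nat_lit 2, nat_lit 3, nat_lit 11, nat_lit 2, nat_lit 10, nat_lit 1, nat_lit 16, nat_lit 12, nat_lit 15, nat_lit 14, nat_lit 13, nat_lit 16] (Rl.cmp (nat_lit 1859) (nat_lit 511)))) (FT.node (nat_lit 3389) (FT.leaf (Fct.mk false (nat_lit 5) (nat_lit 0) (nat_lit 5) [nat_lit 3, nat_lit 4, nat_lit 5, nat_lit 2, nat_lit 3, nat_lit 14, nat_lit 12] (Rl.cmp (nat_lit 1754) (nat_lit 3387)))) (FT.leaf (Fct.mk false (nat_lit 4) (nat_lit 0) (nat_lit 4) [nat_lit 3, nat_lit 8, nat_lit 5, nat_lit 2, nat_lit 3, nat_lit 4, nat_lit 1, nat_lit 2, nat_lit 3, nat_lit 8, nat_lit 6, nat_lit 7, nat_lit 5, nat_lit 6, nat_lit 4, nat_lit 5, nat_lit 3, nat_lit 4, nat_lit 2,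 nat_lit 3, nat_lit 8, nat_lit 1, nat_lit 2, nat_lit 3, nat_lit 4, nat_lit 5, nat_lit 6, nat_lit 7, nat_lit 3, nat_lit 8, nat_lit 4, nat_lit 5, nat_lit 3, nat_lit 4, nat_lit 2, nat_lit 3, nat_lit 8, nat_lit 1, nat_lit 2, nat_lit 3, nat_lit 4, nat_lit 5, nat_lit 1, nat_lit 2, nat_lit 8, nat_lit 3, nat_lit 2, nat_lit 12, nat_lit 8, nat_lit 16, nat_lit 14, nat_lit 16, nat_lit 8, nat_lit 18] (Rl.cmp (nat_lit 2284) (nat_lit 2903)))))) (FT.node (nat_lit 3391) (FT.leaf (Fct.mk false (nat_lit 4) (nat_lit 0) (nat_lit 4) [nat_lit 3, nat_lit 8, nat_lit 5, nat_lit 2, nat_lit 3, nat_lit 4, nat_lit 1, nat_lit 2, nat_lit 3, nat_lit 8, nat_lit 6, nat_lit 7, nat_lit 5, nat_lit 6, nat_lit 4, nat_lit 5, nat_lit 3, nat_lit 4, nat_lit 2, nat_lit 3, nat_lit 8, nat_lit 1, nat_lit 2, nat_lit 3, nat_lit 4, nat_lit 5, nat_lit 6, nat_lit 7, nat_lit 8, nat_lit 5, nat_lit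 6, nat_lit 4, nat_lit 5, nat_lit 3, nat_lit 4, nat_lit 2, nat_lit 3, nat_lit 8, nat_lit 1, nat_lit 2, nat_lit 3, nat_lit 4, nat_lit 5, nat_lit 8, nat_lit 3, nat_lit 9, nat_lit 2, nat_lit 12, nat_lit 8, nat_lit 16, nat_lit 14, nat_lit 8, nat_lit 18] (Rl.cmp (nat_lit 312) (nat_lit 3389)))) (FT.node (nat_lit 3392) (FT.leaf (Fct.mk false (nat_lit 4) (nat_lit 0) (nat_lit 4) [nat_lit 8, nat_lit 4, nat_lit 5, nat_lit 2, nat_lit 3, nat_lit 4, nat_lit 1, nat_lit 2, nat_lit 3, nat_lit 8, nat_lit 6, nat_lit 7, nat_lit 5, nat_lit 6, nat_lit 4, nat_lit 5, nat_lit 3, nat_lit 4, nat_lit 2, nat_lit 3, nat_lit 8, nat_lit 1, nat_lit 2, nat_lit 3, nat_lit 4, nat_lit 5, nat_lit 6, nat_lit 7, nat_lit 3, nat_lit 8, nat_lit 6, nat_lit 4, nat_lit 5, nat_lit 3, nat_lit 4, nat_lit 2, nat_lit 3, nat_lit 8, nat_lit 1, nat_lit 2, nat_lit 3, nat_lit 4, nat_lit 5, nat_lit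 3, nat_lit 2, nat_lit 1, nat_lit 9, nat_lit 4, nat_lit 3, nat_lit 2, nat_lit 8, nat_lit 3, nat_lit 10, nat_lit 2, nat_lit 8, nat_lit 10, nat_lit 1, nat_lit 14, nat_lit 12, nat_lit 18, nat_lit 16] (Rl.cmp (nat_lit 234) (nat_lit 3390)))) (FT.leaf (Fct.mk true (nat_lit 32) (nat_lit 110881) (nat_lit 4) [nat_lit 7, nat_lit 5, nat_lit 6, nat_lit 4, nat_lit 5, nat_lit 3, nat_lit 4, nat_lit 1, nat_lit 2, nat_lit 3, nat_lit 8, nat_lit 0, nat_lit 1, nat_lit 2, nat_lit 3, nat_lit 4, nat_lit 5, nat_lit 6, nat_lit 7, nat_lit 6, nat_lit 5, nat_lit 4, nat_lit 3, nat_lit 8, nat_lit 1, nat_lit 2, nat_lit 3, nat_lit 4, nat_lit 5, nat_lit 2, nat_lit 0, nat_lit 1, nat_lit 3, nat_lit 2, nat_lit 8, nat_lit 3, nat_lit 9, nat_lit 8, nat_lit 12, nat_lit 15, nat_lit 17, nat_lit 18, nat_lit 16] (Rl.rel (nat_lit 0) [nat_lit 3, nat_lit 4, nat_lit 5, nat_lit 6, nat_lit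 7, nat_lit 8, nat_lit 2, nat_lit 3, nat_lit 4, nat_lit 1, nat_lit 2, nat_lit 3, nat_lit 8, nat_lit 0, nat_lit 1, nat_lit 2, nat_lit 3, nat_lit 4, nat_lit 5, nat_lit 10, nat_lit 14, nat_lit 12, nat_lit 18] (nat_lit 5) (nat_lit 1) [nat_lit 3382] [nat_lit 3388, nat_lit 513])))))) (FT.node (nat_lit 3396) (FT.node (nat_lit 3394) (FT.leaf (Fct.mk true (nat_lit 32) (nat_lit 3252) (nat_lit 4) [nat_lit 5, nat_lit 4, nat_lit 2, nat_lit 3, nat_lit 8, nat_lit 6, nat_lit 7, nat_lit 5, nat_lit 6, nat_lit 4, nat_lit 5, nat_lit 3, nat_lit 4, nat_lit 2, nat_lit 3, nat_lit 8, nat_lit 0, nat_lit 1, nat_lit 2, nat_lit 3, nat_lit 4, nat_lit 5, nat_lit 6, nat_lit 7, nat_lit 8, nat_lit 1, nat_lit 2, nat_lit 3, nat_lit 4, nat_lit 5, nat_lit 0, nat_lit 1, nat_lit 2, nat_lit 8, nat_lit 3, nat_lit 8, nat_lit 12, nat_lit 15, nat_lit 17, nat_lit 18] (Rl.t1 (nat_lit 3392)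 (nat_lit 3386)))) (FT.node (nat_lit 3395) (FT.leaf (Fct.mk true (nat_lit 4) (nat_lit 5519) (nat_lit 32) [nat_lit 3, nat_lit 8, nat_lit 5, nat_lit 2, nat_lit 3, nat_lit 4, nat_lit 1, nat_lit 2, nat_lit 3, nat_lit 8, nat_lit 6, nat_lit 7, nat_lit 5, nat_lit 6, nat_lit 4, nat_lit 5, nat_lit 3, nat_lit 4, nat_lit 2, nat_lit 3, nat_lit 8, nat_lit 1, nat_lit 2, nat_lit 3, nat_lit 4, nat_lit 5, nat_lit 6, nat_lit 7, nat_lit 2, nat_lit 3, nat_lit 8, nat_lit 4, nat_lit 5, nat_lit 3, nat_lit 4, nat_lit 2, nat_lit 3, nat_lit 8, nat_lit 0, nat_lit 1, nat_lit 2, nat_lit 3, nat_lit 4, nat_lit 5, nat_lit 2, nat_lit 0, nat_lit 1, nat_lit 9, nat_lit 4, nat_lit 3, nat_lit 2, nat_lit 8, nat_lit 3, nat_lit 11, nat_lit 10, nat_lit 2, nat_lit 8, nat_lit 10, nat_lit 1, nat_lit 8, nat_lit 12, nat_lit 15, nat_lit 14, nat_lit 17, nat_lit 16] (Rl.inv (nat_lit 3393))))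 (FT.leaf (Fct.mk true (nat_lit 4) (nat_lit 2585) (nat_lit 32) [nat_lit 6, nat_lit 5, nat_lit 4, nat_lit 3, nat_lit 8, nat_lit 2, nat_lit 3, nat_lit 4, nat_lit 1, nat_lit 2, nat_lit 3, nat_lit 8, nat_lit 5, nat_lit 6, nat_lit 4, nat_lit 5, nat_lit 3, nat_lit 4, nat_lit 2, nat_lit 3, nat_lit 8, nat_lit 1, nat_lit 2, nat_lit 3, nat_lit 4, nat_lit 5, nat_lit 6, nat_lit 7, nat_lit 8, nat_lit 5, nat_lit 3, nat_lit 4, nat_lit 2, nat_lit 3, nat_lit 8, nat_lit 0, nat_lit 1, nat_lit 2, nat_lit 3, nat_lit 4, nat_lit 5, nat_lit 1, nat_lit 4, nat_lit 3, nat_lit 2, nat_lit 8, nat_lit 3, nat_lit 1, nat_lit 15, nat_lit 16, nat_lit 8, nat_lit 18] (Rl.t1 (nat_lit 3394) (nat_lit 3391)))))) (FT.node (nat_lit 3398) (FT.node (nat_lit 3397) (FT.leaf (Fct.mk false (nat_lit 32) (nat_lit 0) (nat_lit 32) [nat_lit 3, nat_lit 8, nat_lit 6, nat_lit 4, nat_lit 5, nat_lit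 3, nat_lit 4, nat_lit 2, nat_lit 3, nat_lit 8, nat_lit 1, nat_lit 2, nat_lit 3, nat_lit 4, nat_lit 5, nat_lit 1, nat_lit 8, nat_lit 4, nat_lit 3, nat_lit 2, nat_lit 0, nat_lit 1, nat_lit 9, nat_lit 4, nat_lit 3, nat_lit 2, nat_lit 8, nat_lit 3, nat_lit 11, nat_lit 2, nat_lit 10, nat_lit 1, nat_lit 16, nat_lit 14, nat_lit 18, nat_lit 16] (Rl.cmp (nat_lit 3047) (nat_lit 3004)))) (FT.leaf (Fct.mk false (nat_lit 32) (nat_lit 0) (nat_lit 32) [nat_lit 3, nat_lit 4, nat_lit 2, nat_lit 3, nat_lit 8, nat_lit 5, nat_lit 6, nat_lit 4, nat_lit 5, nat_lit 3, nat_lit 4, nat_lit 2, nat_lit 3, nat_lit 8, nat_lit 1, nat_lit 2, nat_lit 3, nat_lit 4, nat_lit 5, nat_lit 2, nat_lit 1, nat_lit 8, nat_lit 3, nat_lit 2, nat_lit 0, nat_lit 1, nat_lit 4, nat_lit 3, nat_lit 2, nat_lit 8, nat_lit 3, nat_lit 10, nat_lit 12, nat_lit 15, nat_lit 14, nat_lit 18, nat_lit 16]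 (Rl.cmp (nat_lit 3010) (nat_lit 3396))))) (FT.node (nat_lit 3399) (FT.leaf (Fct.mk false (nat_lit 32) (nat_lit 0) (nat_lit 32) [nat_lit 5, nat_lit 4, nat_lit 3, nat_lit 8, nat_lit 1, nat_lit 2, nat_lit 3, nat_lit 4, nat_lit 5, nat_lit 0, nat_lit 1, nat_lit 3, nat_lit 2, nat_lit 8, nat_lit 3, nat_lit 10, nat_lit 2, nat_lit 8, nat_lit 10, nat_lit 1, nat_lit 16, nat_lit 15, nat_lit 14, nat_lit 16, nat_lit 8] (Rl.cmp (nat_lit 3004) (nat_lit 3397)))) (FT.leaf (Fct.mk false (nat_lit 32) (nat_lit 0) (nat_lit 32) [nat_lit 2, nat_lit 3, nat_lit 4, nat_lit 5, nat_lit 2, nat_lit 1, nat_lit 8, nat_lit 3, nat_lit 2, nat_lit 0, nat_lit 1, nat_lit 4, nat_lit 3, nat_lit 2, nat_lit 8, nat_lit 3, nat_lit 10, nat_lit 9, nat_lit 2, nat_lit 16, nat_lit 8, nat_lit 12, nat_lit 15, nat_lit 12, nat_lit 16] (Rl.cmp (nat_lit 3047) (nat_lit 3398)))))))))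

/-- some facts -/
noncomputable def ftc68 : FT := FT.node (nat_lit 3425) (FT.node (nat_lit 3412) (FT.node (nat_lit 3406) (FT.node (nat_lit 3403) (FT.node (nat_lit 3401) (FT.leaf (Fct.mk true (nat_lit 32) (nat_lit 83019) (nat_lit 5) [nat_lit 8, nat_lit 3, nat_lit 4, nat_lit 1, nat_lit 2, nat_lit 3, nat_lit 8, nat_lit 7, nat_lit 5, nat_lit 6, nat_lit 4, nat_lit 5, nat_lit 3, nat_lit 4, nat_lit 2, nat_lit 3, nat_lit 8, nat_lit 1, nat_lit 2, nat_lit 3, nat_lit 4, nat_lit 5, nat_lit 6, nat_lit 7, nat_lit 4, nat_lit 2, nat_lit 3, nat_lit 8, nat_lit 5, nat_lit 6, nat_lit 4, nat_lit 5, nat_lit 3, nat_lit 4, nat_lit 2, nat_lit 3, nat_lit 8, nat_lit 0, nat_lit 1, nat_lit 2, nat_lit 3, nat_lit 4, nat_lit 5, nat_lit 2, nat_lit 1, nat_lit 9, nat_lit 4, nat_lit 3, nat_lit 2, nat_lit 8, nat_lit 3, nat_lit 8, nat_lit 10, nat_lit 0, nat_lit 16, nat_lit 14,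 nat_lit 13, nat_lit 19, nat_lit 16] (Rl.rel (nat_lit 0) [nat_lit 3, nat_lit 8, nat_lit 2, nat_lit 3, nat_lit 4, nat_lit 5, nat_lit 6, nat_lit 7, nat_lit 3, nat_lit 4, nat_lit 1, nat_lit 2, nat_lit 3, nat_lit 8, nat_lit 0, nat_lit 1, nat_lit 2, nat_lit 3, nat_lit 4, nat_lit 5, nat_lit 10, nat_lit 14, nat_lit 12, nat_lit 18] (nat_lit 5) (nat_lit 1) [nat_lit 3382] [nat_lit 2937, nat_lit 2608]))) (FT.node (nat_lit 3402) (FT.leaf (Fct.mk true (nat_lit 32) (nat_lit 17082) (nat_lit 5) [nat_lit 8, nat_lit 3, nat_lit 4, nat_lit 2, nat_lit 3, nat_lit 8, nat_lit 6, nat_lit 7, nat_lit 5, nat_lit 6, nat_lit 4, nat_lit 5, nat_lit 3, nat_lit 4, nat_lit 2, nat_lit 3, nat_lit 8, nat_lit 0, nat_lit 1, nat_lit 2, nat_lit 3, nat_lit 4, nat_lit 5, nat_lit 6, nat_lit 7, nat_lit 3, nat_lit 4, nat_lit 2, nat_lit 3, nat_lit 8, nat_lit 1, nat_lit 2, nat_lit 3, nat_lit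 4, nat_lit 5, nat_lit 2, nat_lit 1, nat_lit 3, nat_lit 2, nat_lit 8, nat_lit 3, nat_lit 11, nat_lit 9, nat_lit 10, nat_lit 2, nat_lit 8, nat_lit 10, nat_lit 1, nat_lit 12, nat_lit 15, nat_lit 14, nat_lit 17, nat_lit 12, nat_lit 16] (Rl.t1 (nat_lit 3400) (nat_lit 3399)))) (FT.leaf (Fct.mk true (nat_lit 5) (nat_lit 24965) (nat_lit 32) [nat_lit 2, nat_lit 3, nat_lit 8, nat_lit 4, nat_lit 5, nat_lit 3, nat_lit 4, nat_lit 2, nat_lit 3, nat_lit 8, nat_lit 6, nat_lit 7, nat_lit 5, nat_lit 6, nat_lit 4, nat_lit 5, nat_lit 3, nat_lit 4, nat_lit 2, nat_lit 3, nat_lit 8, nat_lit 1, nat_lit 2, nat_lit 3, nat_lit 4, nat_lit 5, nat_lit 6, nat_lit 7, nat_lit 8, nat_lit 3, nat_lit 4, nat_lit 1, nat_lit 2, nat_lit 3, nat_lit 8, nat_lit 0, nat_lit 1, nat_lit 2, nat_lit 3, nat_lit 4, nat_lit 5, nat_lit 3, nat_lit 10, nat_lit 0, nat_lit 16, nat_lit 14, nat_lit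 16, nat_lit 8, nat_lit 18] (Rl.inv (nat_lit 3401)))))) (FT.node (nat_lit 3404) (FT.leaf (Fct.mk true (nat_lit 5) (nat_lit 146) (nat_lit 32) [nat_lit 4, nat_lit 3, nat_lit 8, nat_lit 2, nat_lit 3, nat_lit 4, nat_lit 1, nat_lit 2, nat_lit 3, nat_lit 8, nat_lit 6, nat_lit 7, nat_lit 5, nat_lit 6, nat_lit 4, nat_lit 5, nat_lit 3, nat_lit 4, nat_lit 2, nat_lit 3, nat_lit 8, nat_lit 1, nat_lit 2, nat_lit 3, nat_lit 4, nat_lit 5, nat_lit 6, nat_lit 7, nat_lit 5, nat_lit 6, nat_lit 4, nat_lit 5, nat_lit 3, nat_lit 4, nat_lit 1, nat_lit 2, nat_lit 3, nat_lit 8, nat_lit 0, nat_lit 1, nat_lit 2, nat_lit 3, nat_lit 4, nat_lit 5, nat_lit 1, nat_lit 3, nat_lit 2, nat_lit 0, nat_lit 1, nat_lit 9, nat_lit 4, nat_lit 3, nat_lit 2, nat_lit 8, nat_lit 3, nat_lit 0, nat_lit 8, nat_lit 16, nat_lit 15, nat_lit 14, nat_lit 18] (Rl.t1 (nat_lit 3402) (nat_lit 2843))))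 (FT.node (nat_lit 3405) (FT.leaf (Fct.mk false (nat_lit 32) (nat_lit 0) (nat_lit 32) [nat_lit 5, nat_lit 4, nat_lit 3, nat_lit 8, nat_lit 2, nat_lit 3, nat_lit 4, nat_lit 5, nat_lit 2, nat_lit 1, nat_lit 4, nat_lit 3, nat_lit 2, nat_lit 8, nat_lit 3, nat_lit 8, nat_lit 10, nat_lit 14, nat_lit 12, nat_lit 18] (Rl.cmp (nat_lit 3010) (nat_lit 2995)))) (FT.leaf (Fct.mk false (nat_lit 32) (nat_lit 0) (nat_lit 32) [nat_lit 95] (Rl.cmp (nat_lit 3010) (nat_lit 3404))))))) (FT.node (nat_lit 3409) (FT.node (nat_lit 3407) (FT.leaf (Fct.mk false (nat_lit 32) (nat_lit 0) (nat_lit 32) [nat_lit 8, nat_lit 5, nat_lit 6, nat_lit 4, nat_lit 5, nat_lit 3, nat_lit 4, nat_lit 2, nat_lit 3, nat_lit 8, nat_lit 0, nat_lit 1, nat_lit 2, nat_lit 3, nat_lit 4, nat_lit 5, nat_lit 1, nat_lit 2, nat_lit 0, nat_lit 1, nat_lit 4, nat_lit 3, nat_lit 2, nat_lit 8, nat_lit 3,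 nat_lit 8, nat_lit 10, nat_lit 15, nat_lit 14, nat_lit 13, nat_lit 12, nat_lit 19, nat_lit 16] (Rl.cmp (nat_lit 3004) (nat_lit 3405)))) (FT.node (nat_lit 3408) (FT.leaf (Fct.mk false (nat_lit 32) (nat_lit 0) (nat_lit 32) [nat_lit 5, nat_lit 6, nat_lit 4, nat_lit 5, nat_lit 2, nat_lit 3, nat_lit 4, nat_lit 1, nat_lit 2, nat_lit 3, nat_lit 8, nat_lit 0, nat_lit 1, nat_lit 2, nat_lit 3, nat_lit 4, nat_lit 5, nat_lit 1, nat_lit 2, nat_lit 0, nat_lit 1, nat_lit 9, nat_lit 4, nat_lit 3, nat_lit 2, nat_lit 8, nat_lit 3, nat_lit 11, nat_lit 2, nat_lit 8, nat_lit 10, nat_lit 1, nat_lit 16, nat_lit 15, nat_lit 14, nat_lit 17, nat_lit 12] (Rl.cmp (nat_lit 3010) (nat_lit 3406)))) (FT.leaf (Fct.mk false (nat_lit 5) (nat_lit 0) (nat_lit 5) [nat_lit 70] (Rl.cmp (nat_lit 511) (nat_lit 470)))))) (FT.node (nat_lit 3410) (FT.leaf (Fct.mk false (nat_lit 5) (nat_lit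 0) (nat_lit 5) [nat_lit 5, nat_lit 1, nat_lit 2, nat_lit 3, nat_lit 2, nat_lit 14] (Rl.cmp (nat_lit 1859) (nat_lit 3408)))) (FT.node (nat_lit 3411) (FT.leaf (Fct.mk true (nat_lit 32) (nat_lit 111051) (nat_lit 5) [nat_lit 8, nat_lit 7, nat_lit 6, nat_lit 5, nat_lit 3, nat_lit 4, nat_lit 2, nat_lit 3, nat_lit 8, nat_lit 0, nat_lit 1, nat_lit 2, nat_lit 3, nat_lit 4, nat_lit 5, nat_lit 6, nat_lit 7, nat_lit 4, nat_lit 3, nat_lit 8, nat_lit 5, nat_lit 6, nat_lit 4, nat_lit 5, nat_lit 3, nat_lit 4, nat_lit 2, nat_lit 3, nat_lit 8, nat_lit 1, nat_lit 2, nat_lit 3, nat_lit 4, nat_lit 5, nat_lit 4, nat_lit 10, nat_lit 12, nat_lit 15, nat_lit 14, nat_lit 17, nat_lit 12, nat_lit 19, nat_lit 16] (Rl.rel (nat_lit 0) [nat_lit 3, nat_lit 4, nat_lit 5, nat_lit 6, nat_lit 7, nat_lit 8, nat_lit 2, nat_lit 3, nat_lit 4, nat_lit 1, nat_lit 2, nat_lit 3, nat_lit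 8, nat_lit 0, nat_lit 1, nat_lit 2, nat_lit 3, nat_lit 4, nat_lit 5, nat_lit 10, nat_lit 1, nat_lit 15, nat_lit 14, nat_lit 12, nat_lit 18] (nat_lit 5) (nat_lit 1) [nat_lit 3382] [nat_lit 3409, nat_lit 2432]))) (FT.leaf (Fct.mk true (nat_lit 32) (nat_lit 17129) (nat_lit 5) [nat_lit 4, nat_lit 3, nat_lit 8, nat_lit 7, nat_lit 5, nat_lit 6, nat_lit 4, nat_lit 5, nat_lit 3, nat_lit 4, nat_lit 2, nat_lit 3, nat_lit 8, nat_lit 0, nat_lit 1, nat_lit 2, nat_lit 3, nat_lit 4, nat_lit 5, nat_lit 6, nat_lit 7, nat_lit 1, nat_lit 2, nat_lit 3, nat_lit 4, nat_lit 5, nat_lit 8, nat_lit 3, nat_lit 2, nat_lit 1, nat_lit 4, nat_lit 3, nat_lit 2, nat_lit 8, nat_lit 3, nat_lit 1, nat_lit 0, nat_lit 2, nat_lit 8, nat_lit 12, nat_lit 15, nat_lit 18, nat_lit 16] (Rl.t1 (nat_lit 3410) (nat_lit 3407)))))))) (FT.node (nat_lit 3418) (FT.node (nat_lit 3415) (FT.node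 (nat_lit 3413) (FT.leaf (Fct.mk true (nat_lit 5) (nat_lit 4465) (nat_lit 32) [nat_lit 8, nat_lit 4, nat_lit 5, nat_lit 2, nat_lit 3, nat_lit 4, nat_lit 1, nat_lit 2, nat_lit 3, nat_lit 8, nat_lit 6, nat_lit 7, nat_lit 5, nat_lit 6, nat_lit 4, nat_lit 5, nat_lit 3, nat_lit 4, nat_lit 2, nat_lit 3, nat_lit 8, nat_lit 1, nat_lit 2, nat_lit 3, nat_lit 4, nat_lit 5, nat_lit 6, nat_lit 7, nat_lit 3, nat_lit 8, nat_lit 6, nat_lit 4, nat_lit 5, nat_lit 3, nat_lit 4, nat_lit 2, nat_lit 3, nat_lit 8, nat_lit 1, nat_lit 2, nat_lit 3, nat_lit 4, nat_lit 5, nat_lit 3, nat_lit 2, nat_lit 0, nat_lit 1, nat_lit 9, nat_lit 4, nat_lit 3, nat_lit 2, nat_lit 8, nat_lit 3, nat_lit 2, nat_lit 10, nat_lit 1, nat_lit 12, nat_lit 8, nat_lit 16, nat_lit 14, nat_lit 8, nat_lit 19] (Rl.inv (nat_lit 3411)))) (FT.node (nat_lit 3414) (FT.leaf (Fct.mk true (nat_lit 5) (nat_lit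 1742) (nat_lit 32) [nat_lit 2, nat_lit 3, nat_lit 8, nat_lit 4, nat_lit 5, nat_lit 3, nat_lit 4, nat_lit 2, nat_lit 3, nat_lit 8, nat_lit 6, nat_lit 7, nat_lit 5, nat_lit 6, nat_lit 4, nat_lit 5, nat_lit 3, nat_lit 4, nat_lit 2, nat_lit 3, nat_lit 8, nat_lit 1, nat_lit 2, nat_lit 3, nat_lit 4, nat_lit 5, nat_lit 6, nat_lit 7, nat_lit 8, nat_lit 6, nat_lit 4, nat_lit 5, nat_lit 3, nat_lit 4, nat_lit 2, nat_lit 3, nat_lit 8, nat_lit 1, nat_lit 2, nat_lit 3, nat_lit 4, nat_lit 5, nat_lit 1, nat_lit 2, nat_lit 0, nat_lit 1, nat_lit 9, nat_lit 4, nat_lit 3, nat_lit 2, nat_lit 8, nat_lit 3, nat_lit 2, nat_lit 10, nat_lit 1, nat_lit 16, nat_lit 8, nat_lit 12, nat_lit 15, nat_lit 17, nat_lit 12] (Rl.t1 (nat_lit 3412) (nat_lit 2794)))) (FT.leaf (Fct.mk false (nat_lit 32) (nat_lit 0) (nat_lit 32) [nat_lit 2, nat_lit 3, nat_lit 4, nat_lit 1, nat_lit 2,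 nat_lit 3, nat_lit 8, nat_lit 0, nat_lit 1, nat_lit 2, nat_lit 3, nat_lit 4, nat_lit 5, nat_lit 3, nat_lit 8, nat_lit 4, nat_lit 3, nat_lit 2, nat_lit 0, nat_lit 1, nat_lit 9, nat_lit 4, nat_lit 3, nat_lit 2, nat_lit 8, nat_lit 3, nat_lit 11, nat_lit 10, nat_lit 8, nat_lit 16, nat_lit 14, nat_lit 19] (Rl.cmp (nat_lit 3010) (nat_lit 3004)))))) (FT.node (nat_lit 3416) (FT.leaf (Fct.mk false (nat_lit 32) (nat_lit 0) (nat_lit 32) [nat_lit 3, nat_lit 4, nat_lit 1, nat_lit 2, nat_lit 3, nat_lit 8, nat_lit 5, nat_lit 6, nat_lit 4, nat_lit 5, nat_lit 3, nat_lit 4, nat_lit 2, nat_lit 3, nat_lit 8, nat_lit 1, nat_lit 2, nat_lit 3, nat_lit 4, nat_lit 5, nat_lit 0, nat_lit 1, nat_lit 2, nat_lit 8, nat_lit 3, nat_lit 11, nat_lit 1, nat_lit 12, nat_lit 15, nat_lit 12, nat_lit 19, nat_lit 16] (Rl.cmp (nat_lit 3004) (nat_lit 3414)))) (FT.node (nat_lit 3417)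 (FT.leaf (Fct.mk false (nat_lit 32) (nat_lit 0) (nat_lit 32) [nat_lit 0, nat_lit 1, nat_lit 2, nat_lit 3, nat_lit 4, nat_lit 5, nat_lit 2, nat_lit 1, nat_lit 8, nat_lit 3, nat_lit 2, nat_lit 0, nat_lit 1, nat_lit 4, nat_lit 3, nat_lit 2, nat_lit 8, nat_lit 3, nat_lit 9, nat_lit 2, nat_lit 16, nat_lit 15, nat_lit 14, nat_lit 12, nat_lit 18] (Rl.cmp (nat_lit 3047) (nat_lit 3415)))) (FT.leaf (Fct.mk false (nat_lit 32) (nat_lit 0) (nat_lit 32) [nat_lit 3, nat_lit 8, nat_lit 6, nat_lit 4, nat_lit 5, nat_lit 3, nat_lit 4, nat_lit 2, nat_lit 3, nat_lit 8, nat_lit 1, nat_lit 2, nat_lit 3, nat_lit 4, nat_lit 5, nat_lit 3, nat_lit 11, nat_lit 10, nat_lit 2, nat_lit 8, nat_lit 10, nat_lit 1, nat_lit 8, nat_lit 12, nat_lit 15, nat_lit 17, nat_lit 18, nat_lit 16] (Rl.cmp (nat_lit 3047) (nat_lit 3416))))))) (FT.node (nat_lit 3421) (FT.node (nat_lit 3419)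 (FT.leaf (Fct.mk false (nat_lit 32) (nat_lit 0) (nat_lit 32) [nat_lit 1, nat_lit 2, nat_lit 3, nat_lit 8, nat_lit 4, nat_lit 5, nat_lit 3, nat_lit 4, nat_lit 2, nat_lit 3, nat_lit 8, nat_lit 1, nat_lit 2, nat_lit 3, nat_lit 4, nat_lit 5, nat_lit 2, nat_lit 1, nat_lit 3, nat_lit 2, nat_lit 0, nat_lit 1, nat_lit 4, nat_lit 3, nat_lit 2, nat_lit 8, nat_lit 3, nat_lit 10, nat_lit 1, nat_lit 8, nat_lit 12, nat_lit 15, nat_lit 14, nat_lit 12] (Rl.cmp (nat_lit 3004) (nat_lit 3417)))) (FT.node (nat_lit 3420) (FT.leaf (Fct.mk false (nat_lit 32) (nat_lit 0) (nat_lit 32) [nat_lit 3, nat_lit 2, nat_lit 1, nat_lit 8, nat_lit 3, nat_lit 2, nat_lit 0, nat_lit 1, nat_lit 4, nat_lit 3, nat_lit 2, nat_lit 8, nat_lit 3, nat_lit 2, nat_lit 10, nat_lit 1, nat_lit 8, nat_lit 12, nat_lit 15, nat_lit 14, nat_lit 18] (Rl.cmp (nat_lit 3010) (nat_lit 3418)))) (FT.leaf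 (Fct.mk true (nat_lit 32) (nat_lit 33093) (nat_lit 4) [nat_lit 6, nat_lit 7, nat_lit 5, nat_lit 6, nat_lit 4, nat_lit 5, nat_lit 2, nat_lit 3, nat_lit 4, nat_lit 1, nat_lit 2, nat_lit 3, nat_lit 8, nat_lit 0, nat_lit 1, nat_lit 2, nat_lit 3, nat_lit 4, nat_lit 5, nat_lit 6, nat_lit 7, nat_lit 8, nat_lit 5, nat_lit 3, nat_lit 4, nat_lit 2, nat_lit 3, nat_lit 8, nat_lit 0, nat_lit 1, nat_lit 2, nat_lit 3, nat_lit 4, nat_lit 5, nat_lit 4, nat_lit 3, nat_lit 2, nat_lit 1, nat_lit 8, nat_lit 3, nat_lit 2, nat_lit 0, nat_lit 1, nat_lit 4, nat_lit 3, nat_lit 2, nat_lit 8, nat_lit 3, nat_lit 9, nat_lit 10, nat_lit 2, nat_lit 8, nat_lit 10, nat_lit 1, nat_lit 12, nat_lit 15, nat_lit 16, nat_lit 8] (Rl.rel (nat_lit 0) [nat_lit 3, nat_lit 8, nat_lit 2, nat_lit 3, nat_lit 4, nat_lit 5, nat_lit 6, nat_lit 7, nat_lit 3, nat_lit 8, nat_lit 2, nat_lit 3, nat_lit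 4, nat_lit 1, nat_lit 2, nat_lit 3, nat_lit 8, nat_lit 0, nat_lit 1, nat_lit 2, nat_lit 3, nat_lit 4, nat_lit 5, nat_lit 10, nat_lit 14, nat_lit 18] (nat_lit 5) (nat_lit 1) [nat_lit 3382] [nat_lit 2878, nat_lit 2572]))))) (FT.node (nat_lit 3423) (FT.node (nat_lit 3422) (FT.leaf (Fct.mk true (nat_lit 32) (nat_lit 8998) (nat_lit 4) [nat_lit 8, nat_lit 3, nat_lit 4, nat_lit 1, nat_lit 2, nat_lit 3, nat_lit 8, nat_lit 6, nat_lit 7, nat_lit 5, nat_lit 6, nat_lit 4, nat_lit 5, nat_lit 3, nat_lit 4, nat_lit 2, nat_lit 3, nat_lit 8, nat_lit 1, nat_lit 2, nat_lit 3, nat_lit 4, nat_lit 5, nat_lit 6, nat_lit 7, nat_lit 3, nat_lit 8, nat_lit 1, nat_lit 2, nat_lit 3, nat_lit 4, nat_lit 5, nat_lit 8, nat_lit 3, nat_lit 9, nat_lit 10, nat_lit 2, nat_lit 8, nat_lit 10, nat_lit 1, nat_lit 16, nat_lit 12, nat_lit 15, nat_lit 14, nat_lit 13, nat_lit 12, nat_lit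 18, nat_lit 16] (Rl.t1 (nat_lit 3420) (nat_lit 3419)))) (FT.leaf (Fct.mk true (nat_lit 4) (nat_lit 77882) (nat_lit 32) [nat_lit 2, nat_lit 3, nat_lit 8, nat_lit 4, nat_lit 5, nat_lit 3, nat_lit 4, nat_lit 2, nat_lit 3, nat_lit 8, nat_lit 6, nat_lit 7, nat_lit 5, nat_lit 6, nat_lit 4, nat_lit 5, nat_lit 3, nat_lit 4, nat_lit 2, nat_lit 3, nat_lit 8, nat_lit 1, nat_lit 2, nat_lit 3, nat_lit 4, nat_lit 5, nat_lit 6, nat_lit 7, nat_lit 3, nat_lit 8, nat_lit 2, nat_lit 3, nat_lit 4, nat_lit 1, nat_lit 2, nat_lit 3, nat_lit 8, nat_lit 5, nat_lit 6, nat_lit 4, nat_lit 5, nat_lit 3, nat_lit 4, nat_lit 2, nat_lit 3, nat_lit 8, nat_lit 1, nat_lit 2, nat_lit 3, nat_lit 4, nat_lit 5, nat_lit 1, nat_lit 2, nat_lit 0, nat_lit 1, nat_lit 3, nat_lit 2, nat_lit 8, nat_lit 3, nat_lit 10, nat_lit 9, nat_lit 2, nat_lit 8, nat_lit 16, nat_lit 14, nat_lit 12, nat_lit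 18, nat_lit 16] (Rl.inv (nat_lit 3421))))) (FT.node (nat_lit 3424) (FT.leaf (Fct.mk true (nat_lit 4) (nat_lit 278) (nat_lit 32) [nat_lit 8, nat_lit 3, nat_lit 4, nat_lit 2, nat_lit 3, nat_lit 8, nat_lit 6, nat_lit 7, nat_lit 5, nat_lit 6, nat_lit 4, nat_lit 5, nat_lit 3, nat_lit 4, nat_lit 2, nat_lit 3, nat_lit 8, nat_lit 1, nat_lit 2, nat_lit 3, nat_lit 4, nat_lit 5, nat_lit 6, nat_lit 7, nat_lit 6, nat_lit 5, nat_lit 4, nat_lit 3, nat_lit 8, nat_lit 2, nat_lit 3, nat_lit 4, nat_lit 1, nat_lit 2, nat_lit 3, nat_lit 8, nat_lit 5, nat_lit 6, nat_lit 4, nat_lit 5, nat_lit 3, nat_lit 4, nat_lit 2, nat_lit 3, nat_lit 8, nat_lit 1, nat_lit 2, nat_lit 3, nat_lit 4, nat_lit 5, nat_lit 2, nat_lit 0, nat_lit 1, nat_lit 3, nat_lit 2, nat_lit 8, nat_lit 3, nat_lit 0, nat_lit 8, nat_lit 12, nat_lit 15, nat_lit 16, nat_lit 8, nat_lit 18, nat_lit 16] (Rl.t1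 (nat_lit 3422) (nat_lit 2867)))) (FT.leaf (Fct.mk false (nat_lit 32) (nat_lit 0) (nat_lit 32) [nat_lit 2, nat_lit 3, nat_lit 4, nat_lit 1, nat_lit 2, nat_lit 3, nat_lit 8, nat_lit 0, nat_lit 1, nat_lit 2, nat_lit 3, nat_lit 4, nat_lit 5, nat_lit 3, nat_lit 8, nat_lit 4, nat_lit 3, nat_lit 2, nat_lit 0, nat_lit 1, nat_lit 9, nat_lit 4, nat_lit 3, nat_lit 2, nat_lit 8, nat_lit 3, nat_lit 11, nat_lit 10, nat_lit 8, nat_lit 16, nat_lit 14, nat_lit 19] (Rl.cmp (nat_lit 3010) (nat_lit 3004))))))))) (FT.node (nat_lit 3437) (FT.node (nat_lit 3431) (FT.node (nat_lit 3428) (FT.node (nat_lit 3426) (FT.leaf (Fct.mk false (nat_lit 32) (nat_lit 0) (nat_lit 32) [nat_lit 5, nat_lit 4, nat_lit 3, nat_lit 8, nat_lit 0, nat_lit 1, nat_lit 2, nat_lit 3, nat_lit 4, nat_lit 5, nat_lit 1, nat_lit 8, nat_lit 3, nat_lit 2, nat_lit 0, nat_lit 1, nat_lit 9, nat_lit 4,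 nat_lit 3, nat_lit 2, nat_lit 8, nat_lit 3, nat_lit 2, nat_lit 16, nat_lit 14, nat_lit 12, nat_lit 19] (Rl.cmp (nat_lit 3010) (nat_lit 3424)))) (FT.node (nat_lit 3427) (FT.leaf (Fct.mk false (nat_lit 32) (nat_lit 0) (nat_lit 32) [nat_lit 5, nat_lit 4, nat_lit 3, nat_lit 8, nat_lit 2, nat_lit 3, nat_lit 4, nat_lit 1, nat_lit 2, nat_lit 3, nat_lit 8, nat_lit 5, nat_lit 6, nat_lit 4, nat_lit 5, nat_lit 3, nat_lit 4, nat_lit 2, nat_lit 3, nat_lit 8, nat_lit 1, nat_lit 2, nat_lit 3, nat_lit 4, nat_lit 5, nat_lit 2, nat_lit 1, nat_lit 8, nat_lit 3, nat_lit 2, nat_lit 0, nat_lit 1, nat_lit 4, nat_lit 3, nat_lit 2, nat_lit 8, nat_lit 3, nat_lit 10, nat_lit 9, nat_lit 2, nat_lit 8, nat_lit 16, nat_lit 15, nat_lit 14, nat_lit 16, nat_lit 8, nat_lit 18, nat_lit 16] (Rl.cmp (nat_lit 3004) (nat_lit 3425)))) (FT.leaf (Fct.mk false (nat_lit 32) (nat_lit 0)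 (nat_lit 32) [nat_lit 1, nat_lit 2, nat_lit 3, nat_lit 8, nat_lit 6, nat_lit 4, nat_lit 5, nat_lit 3, nat_lit 4, nat_lit 2, nat_lit 3, nat_lit 8, nat_lit 1, nat_lit 2, nat_lit 3, nat_lit 4, nat_lit 5, nat_lit 2, nat_lit 1, nat_lit 3, nat_lit 2, nat_lit 0, nat_lit 1, nat_lit 4, nat_lit 3, nat_lit 2, nat_lit 8, nat_lit 3, nat_lit 10, nat_lit 1, nat_lit 8, nat_lit 12, nat_lit 15, nat_lit 14, nat_lit 8, nat_lit 18] (Rl.cmp (nat_lit 3010) (nat_lit 3426)))))) (FT.node (nat_lit 3429) (FT.leaf (Fct.mk false (nat_lit 5) (nat_lit 0) (nat_lit 5) [nat_lit 6, nat_lit 1, nat_lit 2, nat_lit 3, nat_lit 16, nat_lit 15, nat_lit 14, nat_lit 12] (Rl.cmp (nat_lit 1754) (nat_lit 2959)))) (FT.node (nat_lit 3430) (FT.leaf (Fct.mk false (nat_lit 5) (nat_lit 0) (nat_lit 5) [nat_lit 3, nat_lit 11, nat_lit 10, nat_lit 13, nat_lit 12, nat_lit 16] (Rl.cmp (nat_lit 511)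 (nat_lit 3428)))) (FT.leaf (Fct.mk false (nat_lit 5) (nat_lit 0) (nat_lit 5) [nat_lit 8, nat_lit 3, nat_lit 4, nat_lit 2, nat_lit 3, nat_lit 8, nat_lit 7, nat_lit 5, nat_lit 6, nat_lit 4, nat_lit 5, nat_lit 3, nat_lit 4, nat_lit 2, nat_lit 3, nat_lit 8, nat_lit 0, nat_lit 1, nat_lit 2, nat_lit 3, nat_lit 4, nat_lit 5, nat_lit 6, nat_lit 7, nat_lit 8, nat_lit 3, nat_lit 4, nat_lit 2, nat_lit 3, nat_lit 8, nat_lit 1, nat_lit 2, nat_lit 3, nat_lit 4, nat_lit 5, nat_lit 2, nat_lit 1, nat_lit 4, nat_lit 3, nat_lit 2, nat_lit 8, nat_lit 3, nat_lit 2, nat_lit 10, nat_lit 1, nat_lit 12, nat_lit 15, nat_lit 14, nat_lit 12, nat_lit 18] (Rl.cmp (nat_lit 2491) (nat_lit 3429))))))) (FT.node (nat_lit 3434) (FT.node (nat_lit 3432) (FT.leaf (Fct.mk false (nat_lit 32) (nat_lit 0) (nat_lit 32) [nat_lit 3, nat_lit 8, nat_lit 6, nat_lit 4, nat_lit 5, nat_lit 3,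 nat_lit 4, nat_lit 2, nat_lit 3, nat_lit 8, nat_lit 1, nat_lit 2, nat_lit 3, nat_lit 4, nat_lit 5, nat_lit 1, nat_lit 8, nat_lit 4, nat_lit 3, nat_lit 2, nat_lit 0, nat_lit 1, nat_lit 9, nat_lit 4, nat_lit 3, nat_lit 2, nat_lit 8, nat_lit 3, nat_lit 11, nat_lit 2, nat_lit 10, nat_lit 1, nat_lit 16, nat_lit 14, nat_lit 18, nat_lit 16] (Rl.cmp (nat_lit 3047) (nat_lit 3004)))) (FT.node (nat_lit 3433) (FT.leaf (Fct.mk false (nat_lit 32) (nat_lit 0) (nat_lit 32) [nat_lit 3, nat_lit 4, nat_lit 1, nat_lit 2, nat_lit 3, nat_lit 8, nat_lit 5, nat_lit 6, nat_lit 4, nat_lit 5, nat_lit 3, nat_lit 4, nat_lit 2, nat_lit 3, nat_lit 8, nat_lit 1, nat_lit 2, nat_lit 3, nat_lit 4, nat_lit 5, nat_lit 2, nat_lit 1, nat_lit 4, nat_lit 3, nat_lit 2, nat_lit 0, nat_lit 1, nat_lit 9, nat_lit 4, nat_lit 3, nat_lit 2, nat_lit 8, nat_lit 3, nat_lit 10, nat_lit 9, nat_lit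 2, nat_lit 12, nat_lit 15, nat_lit 14, nat_lit 16, nat_lit 8, nat_lit 19, nat_lit 16] (Rl.cmp (nat_lit 3047) (nat_lit 3431)))) (FT.leaf (Fct.mk false (nat_lit 32) (nat_lit 0) (nat_lit 32) [nat_lit 8, nat_lit 3, nat_lit 4, nat_lit 1, nat_lit 2, nat_lit 3, nat_lit 8, nat_lit 5, nat_lit 6, nat_lit 4, nat_lit 5, nat_lit 3, nat_lit 4, nat_lit 2, nat_lit 3, nat_lit 8, nat_lit 1, nat_lit 2, nat_lit 3, nat_lit 4, nat_lit 5, nat_lit 2, nat_lit 1, nat_lit 4, nat_lit 3, nat_lit 2, nat_lit 8, nat_lit 3, nat_lit 11, nat_lit 1, nat_lit 15, nat_lit 14, nat_lit 8, nat_lit 19] (Rl.cmp (nat_lit 3004) (nat_lit 3432)))))) (FT.node (nat_lit 3435) (FT.leaf (Fct.mk false (nat_lit 32) (nat_lit 0) (nat_lit 32) [nat_lit 2, nat_lit 3, nat_lit 8, nat_lit 6, nat_lit 4, nat_lit 5, nat_lit 3, nat_lit 4, nat_lit 2, nat_lit 3, nat_lit 8, nat_lit 1, nat_lit 2, nat_lit 3, nat_lit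 4, nat_lit 5, nat_lit 2, nat_lit 3, nat_lit 8, nat_lit 4, nat_lit 3, nat_lit 2, nat_lit 1, nat_lit 9, nat_lit 4, nat_lit 3, nat_lit 2, nat_lit 8, nat_lit 3, nat_lit 0, nat_lit 15, nat_lit 14, nat_lit 17, nat_lit 12] (Rl.cmp (nat_lit 3010) (nat_lit 3433)))) (FT.node (nat_lit 3436) (FT.leaf (Fct.mk false (nat_lit 32) (nat_lit 0) (nat_lit 32) [nat_lit 6, nat_lit 1, nat_lit 3, nat_lit 2, nat_lit 8, nat_lit 3, nat_lit 9, nat_lit 8, nat_lit 16, nat_lit 14, nat_lit 16, nat_lit 8, nat_lit 19] (Rl.cmp (nat_lit 3004) (nat_lit 3434)))) (FT.leaf (Fct.mk true (nat_lit 32) (nat_lit 34637) (nat_lit 32) [nat_lit 4, nat_lit 3, nat_lit 8, nat_lit 2, nat_lit 3, nat_lit 4, nat_lit 1, nat_lit 2, nat_lit 3, nat_lit 8, nat_lit 6, nat_lit 7, nat_lit 5, nat_lit 6, nat_lit 4, nat_lit 5, nat_lit 3, nat_lit 4, nat_lit 2, nat_lit 3, nat_lit 8, nat_lit 1, nat_lit 2, nat_lit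 3, nat_lit 4, nat_lit 5, nat_lit 6, nat_lit 7, nat_lit 4, nat_lit 3, nat_lit 8, nat_lit 5, nat_lit 6, nat_lit 4, nat_lit 5, nat_lit 3, nat_lit 4, nat_lit 2, nat_lit 3, nat_lit 8, nat_lit 1, nat_lit 2, nat_lit 3, nat_lit 4, nat_lit 5, nat_lit 4, nat_lit 10, nat_lit 2, nat_lit 8, nat_lit 10, nat_lit 1, nat_lit 8, nat_lit 16, nat_lit 14, nat_lit 19, nat_lit 16] (Rl.rel (nat_lit 0) [nat_lit 3, nat_lit 8, nat_lit 2, nat_lit 3, nat_lit 4, nat_lit 5, nat_lit 6, nat_lit 7, nat_lit 3, nat_lit 8, nat_lit 2, nat_lit 3, nat_lit 4, nat_lit 1, nat_lit 2, nat_lit 3, nat_lit 8, nat_lit 0, nat_lit 1, nat_lit 2, nat_lit 3, nat_lit 4, nat_lit 5, nat_lit 2, nat_lit 10, nat_lit 1, nat_lit 14, nat_lit 12, nat_lit 18] (nat_lit 5) (nat_lit 1) [nat_lit 3382] [nat_lit 3430, nat_lit 3305]))))))) (FT.node (nat_lit 3443) (FT.node (nat_lit 3440) (FT.node (nat_lit 3438)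 (FT.leaf (Fct.mk true (nat_lit 32) (nat_lit 9715) (nat_lit 32) [nat_lit 8, nat_lit 7, nat_lit 6, nat_lit 5, nat_lit 3, nat_lit 4, nat_lit 2, nat_lit 3, nat_lit 8, nat_lit 1, nat_lit 2, nat_lit 3, nat_lit 4, nat_lit 5, nat_lit 6, nat_lit 7, nat_lit 2, nat_lit 3, nat_lit 8, nat_lit 6, nat_lit 4, nat_lit 5, nat_lit 3, nat_lit 4, nat_lit 2, nat_lit 3, nat_lit 8, nat_lit 0, nat_lit 1, nat_lit 2, nat_lit 3, nat_lit 4, nat_lit 5, nat_lit 1, nat_lit 2, nat_lit 0, nat_lit 1, nat_lit 4, nat_lit 3, nat_lit 2, nat_lit 8, nat_lit 3, nat_lit 12, nat_lit 15, nat_lit 14, nat_lit 19] (Rl.t1 (nat_lit 3436) (nat_lit 3427)))) (FT.node (nat_lit 3439) (FT.leaf (Fct.mk true (nat_lit 32) (nat_lit 6514) (nat_lit 32) [nat_lit 3, nat_lit 8, nat_lit 5, nat_lit 2, nat_lit 3, nat_lit 4, nat_lit 1, nat_lit 2, nat_lit 3, nat_lit 8, nat_lit 6, nat_lit 7, nat_lit 5, nat_lit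 6, nat_lit 4, nat_lit 5, nat_lit 3, nat_lit 4, nat_lit 2, nat_lit 3, nat_lit 8, nat_lit 1, nat_lit 2, nat_lit 3, nat_lit 4, nat_lit 5, nat_lit 6, nat_lit 7, nat_lit 5, nat_lit 4, nat_lit 3, nat_lit 8, nat_lit 2, nat_lit 3, nat_lit 4, nat_lit 1, nat_lit 2, nat_lit 3, nat_lit 8, nat_lit 5, nat_lit 6, nat_lit 4, nat_lit 5, nat_lit 3, nat_lit 4, nat_lit 2, nat_lit 3, nat_lit 8, nat_lit 1, nat_lit 2, nat_lit 3, nat_lit 4, nat_lit 5, nat_lit 3, nat_lit 2, nat_lit 1, nat_lit 8, nat_lit 3, nat_lit 2, nat_lit 0, nat_lit 1, nat_lit 4, nat_lit 3, nat_lit 2, nat_lit 8, nat_lit 3, nat_lit 10, nat_lit 1, nat_lit 12, nat_lit 8, nat_lit 16, nat_lit 14, nat_lit 17, nat_lit 18, nat_lit 16] (Rl.inv (nat_lit 3437)))) (FT.leaf (Fct.mk true (nat_lit 32) (nat_lit 2296) (nat_lit 32) [nat_lit 3, nat_lit 8, nat_lit 5, nat_lit 2, nat_lit 3, nat_lit 4, nat_lit 1, nat_lit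 2, nat_lit 3, nat_lit 8, nat_lit 6, nat_lit 7, nat_lit 5, nat_lit 6, nat_lit 4, nat_lit 5, nat_lit 3, nat_lit 4, nat_lit 2, nat_lit 3, nat_lit 8, nat_lit 1, nat_lit 2, nat_lit 3, nat_lit 4, nat_lit 5, nat_lit 6, nat_lit 7, nat_lit 2, nat_lit 3, nat_lit 4, nat_lit 5, nat_lit 4, nat_lit 3, nat_lit 2, nat_lit 0, nat_lit 1, nat_lit 9, nat_lit 4, nat_lit 3, nat_lit 2, nat_lit 8, nat_lit 3, nat_lit 10, nat_lit 8, nat_lit 12, nat_lit 15, nat_lit 14, nat_lit 17, nat_lit 12, nat_lit 18] (Rl.t1 (nat_lit 3438) (nat_lit 3435)))))) (FT.node (nat_lit 3441) (FT.leaf (Fct.mk false (nat_lit 32) (nat_lit 0) (nat_lit 32) [nat_lit 5, nat_lit 6, nat_lit 4, nat_lit 5, nat_lit 3, nat_lit 4, nat_lit 2, nat_lit 3, nat_lit 8, nat_lit 1, nat_lit 2, nat_lit 3, nat_lit 4, nat_lit 5, nat_lit 1, nat_lit 9, nat_lit 4, nat_lit 3, nat_lit 2, nat_lit 8, nat_lit 3, nat_lit 11,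 nat_lit 10, nat_lit 1, nat_lit 12, nat_lit 15, nat_lit 14, nat_lit 18, nat_lit 16] (Rl.cmp (nat_lit 3004) (nat_lit 3010)))) (FT.node (nat_lit 3442) (FT.leaf (Fct.mk false (nat_lit 32) (nat_lit 0) (nat_lit 32) [nat_lit 5, nat_lit 4, nat_lit 2, nat_lit 3, nat_lit 8, nat_lit 0, nat_lit 1, nat_lit 2, nat_lit 3, nat_lit 4, nat_lit 5, nat_lit 8, nat_lit 3, nat_lit 2, nat_lit 1, nat_lit 9, nat_lit 4, nat_lit 3, nat_lit 2, nat_lit 8, nat_lit 3, nat_lit 0, nat_lit 12, nat_lit 15, nat_lit 14, nat_lit 17, nat_lit 12] (Rl.cmp (nat_lit 3047) (nat_lit 3440)))) (FT.leaf (Fct.mk false (nat_lit 32) (nat_lit 0) (nat_lit 32) [nat_lit 8, nat_lit 2, nat_lit 3, nat_lit 4, nat_lit 1, nat_lit 2, nat_lit 3, nat_lit 8, nat_lit 0, nat_lit 1, nat_lit 2, nat_lit 3, nat_lit 4, nat_lit 5, nat_lit 1, nat_lit 2, nat_lit 8, nat_lit 3, nat_lit 11, nat_lit 8, nat_lit 10, nat_lit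 1, nat_lit 13, nat_lit 19, nat_lit 16] (Rl.cmp (nat_lit 3047) (nat_lit 3441))))))) (FT.node (nat_lit 3446) (FT.node (nat_lit 3444) (FT.leaf (Fct.mk false (nat_lit 5) (nat_lit 0) (nat_lit 5) [nat_lit 70] (Rl.cmp (nat_lit 511) (nat_lit 470)))) (FT.node (nat_lit 3445) (FT.leaf (Fct.mk false (nat_lit 25) (nat_lit 0) (nat_lit 25) [nat_lit 7, nat_lit 6, nat_lit 5, nat_lit 4, nat_lit 3, nat_lit 8, nat_lit 2, nat_lit 3, nat_lit 4, nat_lit 5, nat_lit 6, nat_lit 7, nat_lit 1, nat_lit 2, nat_lit 3, nat_lit 8, nat_lit 4, nat_lit 5, nat_lit 3, nat_lit 4, nat_lit 2, nat_lit 3, nat_lit 8, nat_lit 1, nat_lit 2, nat_lit 3, nat_lit 4, nat_lit 5, nat_lit 8, nat_lit 4, nat_lit 3, nat_lit 2, nat_lit 1, nat_lit 9, nat_lit 4, nat_lit 3, nat_lit 2, nat_lit 8, nat_lit 3, nat_lit 11, nat_lit 2, nat_lit 8, nat_lit 10, nat_lit 1, nat_lit 12, nat_lit 8, nat_lit 16, nat_lit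 14, nat_lit 17, nat_lit 12] (Rl.cmp (nat_lit 2117) (nat_lit 2952)))) (FT.leaf (Fct.mk false (nat_lit 25) (nat_lit 0) (nat_lit 25) [nat_lit 7, nat_lit 6, nat_lit 5, nat_lit 4, nat_lit 3, nat_lit 8, nat_lit 2, nat_lit 3, nat_lit 4, nat_lit 5, nat_lit 6, nat_lit 7, nat_lit 8, nat_lit 6, nat_lit 4, nat_lit 5, nat_lit 3, nat_lit 4, nat_lit 1, nat_lit 2, nat_lit 3, nat_lit 8, nat_lit 0, nat_lit 1, nat_lit 2, nat_lit 3, nat_lit 4, nat_lit 5, nat_lit 2, nat_lit 3, nat_lit 8, nat_lit 4, nat_lit 3, nat_lit 2, nat_lit 1, nat_lit 9, nat_lit 4, nat_lit 3, nat_lit 2, nat_lit 8, nat_lit 3, nat_lit 11, nat_lit 2, nat_lit 16, nat_lit 12, nat_lit 15, nat_lit 14, nat_lit 17, nat_lit 16] (Rl.cmp (nat_lit 1231) (nat_lit 3444)))))) (FT.node (nat_lit 3448) (FT.node (nat_lit 3447) (FT.leaf (Fct.mk true (nat_lit 32) (nat_lit 109957) (nat_lit 25) [nat_lit 1, nat_lit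 2, nat_lit 3, nat_lit 8, nat_lit 7, nat_lit 6, nat_lit 4, nat_lit 5, nat_lit 3, nat_lit 4, nat_lit 2, nat_lit 3, nat_lit 8, nat_lit 1, nat_lit 2, nat_lit 3, nat_lit 4, nat_lit 5, nat_lit 6, nat_lit 7, nat_lit 2, nat_lit 3, nat_lit 8, nat_lit 1, nat_lit 2, nat_lit 3, nat_lit 4, nat_lit 5, nat_lit 1, nat_lit 2, nat_lit 3, nat_lit 8, nat_lit 4, nat_lit 3, nat_lit 2, nat_lit 1, nat_lit 9, nat_lit 4, nat_lit 3, nat_lit 2, nat_lit 8, nat_lit 3, nat_lit 11, nat_lit 2, nat_lit 10, nat_lit 1, nat_lit 8, nat_lit 18] (Rl.rel (nat_lit 0) [nat_lit 3, nat_lit 4, nat_lit 5, nat_lit 6, nat_lit 7, nat_lit 3, nat_lit 4, nat_lit 5, nat_lit 2, nat_lit 3, nat_lit 4, nat_lit 1, nat_lit 2, nat_lit 3, nat_lit 8, nat_lit 0, nat_lit 1, nat_lit 2, nat_lit 3, nat_lit 4, nat_lit 5, nat_lit 3, nat_lit 2, nat_lit 1, nat_lit 8, nat_lit 3, nat_lit 2, nat_lit 0, nat_lit 1,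 nat_lit 4, nat_lit 3, nat_lit 2, nat_lit 8, nat_lit 3, nat_lit 10, nat_lit 16, nat_lit 14, nat_lit 17, nat_lit 19, nat_lit 16] (nat_lit 5) (nat_lit 1) [nat_lit 3382] [nat_lit 3443, nat_lit 2134]))) (FT.leaf (Fct.mk true (nat_lit 32) (nat_lit 11809) (nat_lit 25) [nat_lit 5, nat_lit 4, nat_lit 3, nat_lit 8, nat_lit 6, nat_lit 7, nat_lit 5, nat_lit 6, nat_lit 4, nat_lit 5, nat_lit 3, nat_lit 4, nat_lit 1, nat_lit 2, nat_lit 3, nat_lit 8, nat_lit 0, nat_lit 1, nat_lit 2, nat_lit 3, nat_lit 4, nat_lit 5, nat_lit 6, nat_lit 7, nat_lit 5, nat_lit 4, nat_lit 2, nat_lit 3, nat_lit 8, nat_lit 1, nat_lit 2, nat_lit 3, nat_lit 4, nat_lit 5, nat_lit 3, nat_lit 8, nat_lit 10, nat_lit 12, nat_lit 8, nat_lit 16, nat_lit 14, nat_lit 13, nat_lit 19] (Rl.t1 (nat_lit 3446) (nat_lit 3442))))) (FT.node (nat_lit 3449) (FT.leaf (Fct.mk true (nat_lit 25) (nat_lit 112757)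 (nat_lit 32) [nat_lit 5, nat_lit 6, nat_lit 7, nat_lit 4, nat_lit 5, nat_lit 6, nat_lit 3, nat_lit 4, nat_lit 5, nat_lit 2, nat_lit 3, nat_lit 4, nat_lit 1, nat_lit 2, nat_lit 3, nat_lit 8, nat_lit 0, nat_lit 1, nat_lit 2, nat_lit 3, nat_lit 4, nat_lit 5, nat_lit 6, nat_lit 7, nat_lit 6, nat_lit 5, nat_lit 3, nat_lit 4, nat_lit 2, nat_lit 3, nat_lit 8, nat_lit 1, nat_lit 2, nat_lit 3, nat_lit 4, nat_lit 5, nat_lit 0, nat_lit 1, nat_lit 2, nat_lit 8, nat_lit 3, nat_lit 8, nat_lit 10, nat_lit 8, nat_lit 16, nat_lit 15, nat_lit 14, nat_lit 8, nat_lit 18, nat_lit 16] (Rl.inv (nat_lit 3447)))) (FT.leaf (Fct.mk true (nat_lit 25) (nat_lit 3527) (nat_lit 32) [nat_lit 5, nat_lit 6, nat_lit 7, nat_lit 4, nat_lit 5, nat_lit 6, nat_lit 3, nat_lit 4, nat_lit 5, nat_lit 2, nat_lit 3, nat_lit 4, nat_lit 1, nat_lit 2, nat_lit 3, nat_lit 8, nat_lit 0, nat_lit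 1, nat_lit 2, nat_lit 3, nat_lit 4, nat_lit 5, nat_lit 6, nat_lit 7, nat_lit 8, nat_lit 3, nat_lit 4, nat_lit 1, nat_lit 2, nat_lit 3, nat_lit 8, nat_lit 0, nat_lit 1, nat_lit 2, nat_lit 3, nat_lit 4, nat_lit 5, nat_lit 3, nat_lit 2, nat_lit 0, nat_lit 1, nat_lit 4, nat_lit 3, nat_lit 2, nat_lit 8, nat_lit 3, nat_lit 11, nat_lit 1, nat_lit 8, nat_lit 16, nat_lit 15, nat_lit 14, nat_lit 17, nat_lit 19, nat_lit 16] (Rl.t1 (nat_lit 3448) (nat_lit 3445)))))))))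

/-- some facts -/
noncomputable def ftc69 : FT := FT.node (nat_lit 3475) (FT.node (nat_lit 3462) (FT.node (nat_lit 3456) (FT.node (nat_lit 3453) (FT.node (nat_lit 3451) (FT.leaf (Fct.mk false (nat_lit 32) (nat_lit 0) (nat_lit 32) [nat_lit 97] (Rl.cmp (nat_lit 3047) (nat_lit 3047)))) (FT.node (nat_lit 3452) (FT.leaf (Fct.mk false (nat_lit 5) (nat_lit 0) (nat_lit 5) [nat_lit 9, nat_lit 4, nat_lit 11, nat_lit 15, nat_lit 14, nat_lit 13] (Rl.cmp (nat_lit 1754) (nat_lit 2897)))) (FT.leaf (Fct.mk true (nat_lit 32) (nat_lit 17360) (nat_lit 32) [nat_lit 6, nat_lit 5, nat_lit 4, nat_lit 3, nat_lit 8, nat_lit 2, nat_lit 3, nat_lit 4, nat_lit 1, nat_lit 2, nat_lit 3, nat_lit 8, nat_lit 5, nat_lit 6, nat_lit 4, nat_lit 5, nat_lit 3, nat_lit 4, nat_lit 2, nat_lit 3, nat_lit 8, nat_lit 1, nat_lit 2, nat_lit 3, nat_lit 4, nat_lit 5, nat_lit 3, nat_lit 8,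 nat_lit 4, nat_lit 3, nat_lit 2, nat_lit 1, nat_lit 9, nat_lit 4, nat_lit 3, nat_lit 2, nat_lit 8, nat_lit 3, nat_lit 10, nat_lit 1, nat_lit 12, nat_lit 8, nat_lit 16, nat_lit 14, nat_lit 8, nat_lit 19] (Rl.rel (nat_lit 0) [nat_lit 3, nat_lit 8, nat_lit 2, nat_lit 3, nat_lit 4, nat_lit 5, nat_lit 6, nat_lit 7, nat_lit 3, nat_lit 4, nat_lit 5, nat_lit 2, nat_lit 3, nat_lit 4, nat_lit 1, nat_lit 2, nat_lit 3, nat_lit 8, nat_lit 0, nat_lit 1, nat_lit 2, nat_lit 3, nat_lit 4, nat_lit 5, nat_lit 4, nat_lit 10, nat_lit 16, nat_lit 14, nat_lit 12, nat_lit 18] (nat_lit 5) (nat_lit 1) [nat_lit 3382] [nat_lit 3451, nat_lit 3382]))))) (FT.node (nat_lit 3454) (FT.leaf (Fct.mk true (nat_lit 32) (nat_lit 17027) (nat_lit 32) [nat_lit 1, nat_lit 2, nat_lit 3, nat_lit 8, nat_lit 4, nat_lit 5, nat_lit 3, nat_lit 4, nat_lit 2, nat_lit 3, nat_lit 8, nat_lit 1,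 nat_lit 2, nat_lit 3, nat_lit 4, nat_lit 5, nat_lit 1, nat_lit 8, nat_lit 3, nat_lit 2, nat_lit 0, nat_lit 1, nat_lit 4, nat_lit 3, nat_lit 2, nat_lit 8, nat_lit 3, nat_lit 10, nat_lit 1, nat_lit 8, nat_lit 12, nat_lit 15, nat_lit 14, nat_lit 12] (Rl.t1 (nat_lit 3452) (nat_lit 3450)))) (FT.node (nat_lit 3455) (FT.leaf (Fct.mk false (nat_lit 5) (nat_lit 0) (nat_lit 5) [nat_lit 4, nat_lit 3, nat_lit 8, nat_lit 2, nat_lit 3, nat_lit 4, nat_lit 1, nat_lit 2, nat_lit 3, nat_lit 8, nat_lit 5, nat_lit 6, nat_lit 4, nat_lit 5, nat_lit 3, nat_lit 4, nat_lit 2, nat_lit 3, nat_lit 8, nat_lit 1, nat_lit 2, nat_lit 3, nat_lit 4, nat_lit 5, nat_lit 3, nat_lit 8, nat_lit 4, nat_lit 3, nat_lit 2, nat_lit 1, nat_lit 9, nat_lit 4, nat_lit 3, nat_lit 2, nat_lit 8, nat_lit 3, nat_lit 11, nat_lit 1, nat_lit 12, nat_lit 8, nat_lit 16, nat_lit 14, nat_lit 17, nat_lit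 12, nat_lit 16] (Rl.cmp (nat_lit 1859) (nat_lit 2873)))) (FT.leaf (Fct.mk false (nat_lit 5) (nat_lit 0) (nat_lit 5) [nat_lit 8, nat_lit 3, nat_lit 4, nat_lit 2, nat_lit 3, nat_lit 8, nat_lit 7, nat_lit 5, nat_lit 6, nat_lit 4, nat_lit 5, nat_lit 3, nat_lit 4, nat_lit 2, nat_lit 3, nat_lit 8, nat_lit 0, nat_lit 1, nat_lit 2, nat_lit 3, nat_lit 4, nat_lit 5, nat_lit 6, nat_lit 7, nat_lit 8, nat_lit 3, nat_lit 4, nat_lit 2, nat_lit 3, nat_lit 8, nat_lit 5, nat_lit 6, nat_lit 4, nat_lit 5, nat_lit 3, nat_lit 4, nat_lit 2, nat_lit 3, nat_lit 8, nat_lit 0, nat_lit 1, nat_lit 2, nat_lit 3, nat_lit 4, nat_lit 5, nat_lit 8, nat_lit 3, nat_lit 2, nat_lit 0, nat_lit 1, nat_lit 4, nat_lit 3, nat_lit 2, nat_lit 8, nat_lit 3, nat_lit 2, nat_lit 10, nat_lit 1, nat_lit 8, nat_lit 16, nat_lit 14, nat_lit 8, nat_lit 19] (Rl.cmp (nat_lit 2491) (nat_lit 3454)))))))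 (FT.node (nat_lit 3459) (FT.node (nat_lit 3457) (FT.leaf (Fct.mk false (nat_lit 32) (nat_lit 0) (nat_lit 32) [nat_lit 98] (Rl.rel (nat_lit 0) [nat_lit 3, nat_lit 8, nat_lit 2, nat_lit 3, nat_lit 4, nat_lit 5, nat_lit 6, nat_lit 7, nat_lit 8, nat_lit 4, nat_lit 5, nat_lit 3, nat_lit 4, nat_lit 1, nat_lit 2, nat_lit 3, nat_lit 8, nat_lit 0, nat_lit 1, nat_lit 2, nat_lit 3, nat_lit 4, nat_lit 5, nat_lit 3, nat_lit 2, nat_lit 1, nat_lit 8, nat_lit 3, nat_lit 2, nat_lit 0, nat_lit 1, nat_lit 4, nat_lit 3, nat_lit 2, nat_lit 8, nat_lit 3, nat_lit 10, nat_lit 16, nat_lit 14, nat_lit 17, nat_lit 19, nat_lit 16] (nat_lit 5) (nat_lit 1) [nat_lit 3382] [nat_lit 3455, nat_lit 2630, nat_lit 2822, nat_lit 3403]))) (FT.node (nat_lit 3458) (FT.leaf (Fct.mk false (nat_lit 32) (nat_lit 0) (nat_lit 32) [nat_lit 3, nat_lit 8, nat_lit 6, nat_lit 4, nat_lit 5, nat_lit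 3, nat_lit 4, nat_lit 2, nat_lit 3, nat_lit 8, nat_lit 1, nat_lit 2, nat_lit 3, nat_lit 4, nat_lit 5, nat_lit 1, nat_lit 8, nat_lit 4, nat_lit 3, nat_lit 2, nat_lit 0, nat_lit 1, nat_lit 9, nat_lit 4, nat_lit 3, nat_lit 2, nat_lit 8, nat_lit 3, nat_lit 11, nat_lit 2, nat_lit 10, nat_lit 1, nat_lit 16, nat_lit 14, nat_lit 18, nat_lit 16] (Rl.cmp (nat_lit 3047) (nat_lit 3004)))) (FT.leaf (Fct.mk false (nat_lit 32) (nat_lit 0) (nat_lit 32) [nat_lit 3, nat_lit 8, nat_lit 5, nat_lit 2, nat_lit 3, nat_lit 4, nat_lit 1, nat_lit 2, nat_lit 3, nat_lit 8, nat_lit 6, nat_lit 7, nat_lit 5, nat_lit 6, nat_lit 4, nat_lit 5, nat_lit 3, nat_lit 4, nat_lit 2, nat_lit 3, nat_lit 8, nat_lit 1, nat_lit 2, nat_lit 3, nat_lit 4, nat_lit 5, nat_lit 6, nat_lit 7, nat_lit 4, nat_lit 3, nat_lit 8, nat_lit 0, nat_lit 1, nat_lit 2, nat_lit 3, nat_lit 4, nat_lit 5, nat_lit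 1, nat_lit 2, nat_lit 3, nat_lit 1, nat_lit 0, nat_lit 2, nat_lit 16, nat_lit 12, nat_lit 15, nat_lit 14, nat_lit 13, nat_lit 12] (Rl.cmp (nat_lit 3456) (nat_lit 3457)))))) (FT.node (nat_lit 3460) (FT.leaf (Fct.mk false (nat_lit 32) (nat_lit 0) (nat_lit 32) [nat_lit 3, nat_lit 8, nat_lit 5, nat_lit 2, nat_lit 3, nat_lit 4, nat_lit 1, nat_lit 2, nat_lit 3, nat_lit 8, nat_lit 6, nat_lit 7, nat_lit 5, nat_lit 6, nat_lit 4, nat_lit 5, nat_lit 3, nat_lit 4, nat_lit 2, nat_lit 3, nat_lit 8, nat_lit 1, nat_lit 2, nat_lit 3, nat_lit 4, nat_lit 5, nat_lit 6, nat_lit 7, nat_lit 3, nat_lit 8, nat_lit 1, nat_lit 2, nat_lit 3, nat_lit 4, nat_lit 5, nat_lit 1, nat_lit 3, nat_lit 2, nat_lit 0, nat_lit 1, nat_lit 9, nat_lit 4, nat_lit 3, nat_lit 2, nat_lit 8, nat_lit 3, nat_lit 11, nat_lit 8, nat_lit 10, nat_lit 1, nat_lit 16, nat_lit 14, nat_lit 16, nat_lit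 8, nat_lit 16] (Rl.cmp (nat_lit 3004) (nat_lit 3458)))) (FT.node (nat_lit 3461) (FT.leaf (Fct.mk true (nat_lit 32) (nat_lit 2172) (nat_lit 32) [nat_lit 3, nat_lit 8, nat_lit 5, nat_lit 6, nat_lit 4, nat_lit 5, nat_lit 3, nat_lit 4, nat_lit 2, nat_lit 3, nat_lit 8, nat_lit 0, nat_lit 1, nat_lit 2, nat_lit 3, nat_lit 4, nat_lit 5, nat_lit 6, nat_lit 7, nat_lit 8, nat_lit 2, nat_lit 3, nat_lit 4, nat_lit 5, nat_lit 2, nat_lit 1, nat_lit 8, nat_lit 3, nat_lit 2, nat_lit 0, nat_lit 1, nat_lit 9, nat_lit 4, nat_lit 3, nat_lit 2, nat_lit 8, nat_lit 3, nat_lit 1, nat_lit 9, nat_lit 12, nat_lit 15, nat_lit 8, nat_lit 19, nat_lit 16] (Rl.t1 (nat_lit 3114) (nat_lit 3459)))) (FT.leaf (Fct.mk false (nat_lit 32) (nat_lit 0) (nat_lit 32) [nat_lit 2, nat_lit 3, nat_lit 4, nat_lit 1, nat_lit 2, nat_lit 3, nat_lit 8, nat_lit 0, nat_lit 1, nat_lit 2, nat_lit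 3, nat_lit 4, nat_lit 5, nat_lit 3, nat_lit 8, nat_lit 4, nat_lit 3, nat_lit 2, nat_lit 0, nat_lit 1, nat_lit 9, nat_lit 4, nat_lit 3, nat_lit 2, nat_lit 8, nat_lit 3, nat_lit 11, nat_lit 10, nat_lit 8, nat_lit 16, nat_lit 14, nat_lit 19] (Rl.cmp (nat_lit 3010) (nat_lit 3004)))))))) (FT.node (nat_lit 3468) (FT.node (nat_lit 3465) (FT.node (nat_lit 3463) (FT.leaf (Fct.mk false (nat_lit 32) (nat_lit 0) (nat_lit 32) [nat_lit 3, nat_lit 4, nat_lit 2, nat_lit 3, nat_lit 8, nat_lit 5, nat_lit 6, nat_lit 4, nat_lit 5, nat_lit 3, nat_lit 4, nat_lit 2, nat_lit 3, nat_lit 8, nat_lit 1, nat_lit 2, nat_lit 3, nat_lit 4, nat_lit 5, nat_lit 3, nat_lit 2, nat_lit 1, nat_lit 8, nat_lit 3, nat_lit 2, nat_lit 0, nat_lit 1, nat_lit 9, nat_lit 4, nat_lit 3, nat_lit 2, nat_lit 8, nat_lit 3, nat_lit 11, nat_lit 10, nat_lit 1, nat_lit 12, nat_lit 15, nat_lit 14,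 nat_lit 17, nat_lit 16] (Rl.cmp (nat_lit 3047) (nat_lit 3461)))) (FT.node (nat_lit 3464) (FT.leaf (Fct.mk false (nat_lit 32) (nat_lit 0) (nat_lit 32) [nat_lit 5, nat_lit 4, nat_lit 3, nat_lit 8, nat_lit 1, nat_lit 2, nat_lit 3, nat_lit 4, nat_lit 5, nat_lit 2, nat_lit 1, nat_lit 3, nat_lit 2, nat_lit 0, nat_lit 1, nat_lit 9, nat_lit 4, nat_lit 3, nat_lit 2, nat_lit 8, nat_lit 3, nat_lit 9, nat_lit 10, nat_lit 2, nat_lit 8, nat_lit 10, nat_lit 1, nat_lit 14, nat_lit 16, nat_lit 8, nat_lit 18] (Rl.cmp (nat_lit 3004) (nat_lit 3462)))) (FT.leaf (Fct.mk false (nat_lit 32) (nat_lit 0) (nat_lit 32) [nat_lit 3, nat_lit 8, nat_lit 5, nat_lit 2, nat_lit 3, nat_lit 4, nat_lit 1, nat_lit 2, nat_lit 3, nat_lit 8, nat_lit 6, nat_lit 7, nat_lit 5, nat_lit 6, nat_lit 4, nat_lit 5, nat_lit 3, nat_lit 4, nat_lit 2, nat_lit 3, nat_lit 8, nat_lit 1, nat_lit 2,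 nat_lit 3, nat_lit 4, nat_lit 5, nat_lit 6, nat_lit 7, nat_lit 3, nat_lit 8, nat_lit 5, nat_lit 6, nat_lit 4, nat_lit 5, nat_lit 3, nat_lit 4, nat_lit 2, nat_lit 3, nat_lit 8, nat_lit 0, nat_lit 1, nat_lit 2, nat_lit 3, nat_lit 4, nat_lit 5, nat_lit 1, nat_lit 4, nat_lit 3, nat_lit 2, nat_lit 0, nat_lit 1, nat_lit 9, nat_lit 4, nat_lit 3, nat_lit 2, nat_lit 8, nat_lit 3, nat_lit 8, nat_lit 12, nat_lit 15, nat_lit 13, nat_lit 12, nat_lit 16] (Rl.cmp (nat_lit 3456) (nat_lit 3463)))))) (FT.node (nat_lit 3466) (FT.leaf (Fct.mk false (nat_lit 32) (nat_lit 0) (nat_lit 32) [nat_lit 3, nat_lit 8, nat_lit 5, nat_lit 2, nat_lit 3, nat_lit 4, nat_lit 1, nat_lit 2, nat_lit 3, nat_lit 8, nat_lit 6, nat_lit 7, nat_lit 5, nat_lit 6, nat_lit 4, nat_lit 5, nat_lit 3, nat_lit 4, nat_lit 2, nat_lit 3, nat_lit 8, nat_lit 1, nat_lit 2, nat_lit 3, nat_lit 4, nat_lit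 5, nat_lit 6, nat_lit 7, nat_lit 4, nat_lit 3, nat_lit 8, nat_lit 0, nat_lit 1, nat_lit 2, nat_lit 3, nat_lit 4, nat_lit 5, nat_lit 8, nat_lit 3, nat_lit 2, nat_lit 1, nat_lit 9, nat_lit 4, nat_lit 3, nat_lit 2, nat_lit 8, nat_lit 3, nat_lit 9, nat_lit 8, nat_lit 16, nat_lit 15, nat_lit 14] (Rl.cmp (nat_lit 3004) (nat_lit 3464)))) (FT.node (nat_lit 3467) (FT.leaf (Fct.mk true (nat_lit 32) (nat_lit 1405) (nat_lit 32) [nat_lit 5, nat_lit 3, nat_lit 4, nat_lit 2, nat_lit 3, nat_lit 8, nat_lit 1, nat_lit 2, nat_lit 3, nat_lit 4, nat_lit 5, nat_lit 6, nat_lit 7, nat_lit 8, nat_lit 3, nat_lit 4, nat_lit 2, nat_lit 3, nat_lit 8, nat_lit 5, nat_lit 6, nat_lit 4, nat_lit 5, nat_lit 3, nat_lit 4, nat_lit 2, nat_lit 3, nat_lit 8, nat_lit 0, nat_lit 1, nat_lit 2, nat_lit 3, nat_lit 4, nat_lit 5, nat_lit 4, nat_lit 10, nat_lit 1, nat_lit 12, nat_lit 8,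 nat_lit 16, nat_lit 14, nat_lit 13, nat_lit 12] (Rl.t1 (nat_lit 3240) (nat_lit 3465)))) (FT.leaf (Fct.mk false (nat_lit 32) (nat_lit 0) (nat_lit 32) [nat_lit 3, nat_lit 8, nat_lit 5, nat_lit 2, nat_lit 3, nat_lit 4, nat_lit 1, nat_lit 2, nat_lit 3, nat_lit 8, nat_lit 6, nat_lit 7, nat_lit 5, nat_lit 6, nat_lit 4, nat_lit 5, nat_lit 3, nat_lit 4, nat_lit 2, nat_lit 3, nat_lit 8, nat_lit 1, nat_lit 2, nat_lit 3, nat_lit 4, nat_lit 5, nat_lit 6, nat_lit 7, nat_lit 8, nat_lit 0, nat_lit 1, nat_lit 2, nat_lit 3, nat_lit 4, nat_lit 5, nat_lit 1, nat_lit 2, nat_lit 3, nat_lit 0, nat_lit 2, nat_lit 15, nat_lit 14, nat_lit 13, nat_lit 12, nat_lit 16] (Rl.cmp (nat_lit 3456) (nat_lit 3004))))))) (FT.node (nat_lit 3471) (FT.node (nat_lit 3469) (FT.leaf (Fct.mk false (nat_lit 32) (nat_lit 0) (nat_lit 32) [nat_lit 3, nat_lit 8, nat_lit 5, nat_lit 2, nat_lit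 3, nat_lit 4, nat_lit 1, nat_lit 2, nat_lit 3, nat_lit 8, nat_lit 6, nat_lit 7, nat_lit 5, nat_lit 6, nat_lit 4, nat_lit 5, nat_lit 3, nat_lit 4, nat_lit 2, nat_lit 3, nat_lit 8, nat_lit 1, nat_lit 2, nat_lit 3, nat_lit 4, nat_lit 5, nat_lit 6, nat_lit 7, nat_lit 6, nat_lit 5, nat_lit 4, nat_lit 3, nat_lit 8, nat_lit 1, nat_lit 2, nat_lit 3, nat_lit 4, nat_lit 5, nat_lit 1, nat_lit 3, nat_lit 2, nat_lit 0, nat_lit 1, nat_lit 4, nat_lit 3, nat_lit 2, nat_lit 8, nat_lit 3, nat_lit 11, nat_lit 2, nat_lit 16, nat_lit 15, nat_lit 14, nat_lit 13, nat_lit 12, nat_lit 19, nat_lit 16] (Rl.cmp (nat_lit 3004) (nat_lit 3467)))) (FT.node (nat_lit 3470) (FT.leaf (Fct.mk false (nat_lit 32) (nat_lit 0) (nat_lit 32) [nat_lit 3, nat_lit 8, nat_lit 5, nat_lit 2, nat_lit 3, nat_lit 4, nat_lit 1, nat_lit 2, nat_lit 3, nat_lit 8, nat_lit 6, nat_lit 7, nat_lit 5,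 nat_lit 6, nat_lit 4, nat_lit 5, nat_lit 3, nat_lit 4, nat_lit 2, nat_lit 3, nat_lit 8, nat_lit 1, nat_lit 2, nat_lit 3, nat_lit 4, nat_lit 5, nat_lit 6, nat_lit 7, nat_lit 8, nat_lit 3, nat_lit 4, nat_lit 2, nat_lit 3, nat_lit 8, nat_lit 5, nat_lit 6, nat_lit 4, nat_lit 5, nat_lit 3, nat_lit 4, nat_lit 2, nat_lit 3, nat_lit 8, nat_lit 1, nat_lit 2, nat_lit 3, nat_lit 4, nat_lit 5, nat_lit 2, nat_lit 1, nat_lit 4, nat_lit 3, nat_lit 2, nat_lit 0, nat_lit 1, nat_lit 9, nat_lit 4, nat_lit 3, nat_lit 2, nat_lit 8, nat_lit 3, nat_lit 9, nat_lit 15, nat_lit 13, nat_lit 12, nat_lit 18] (Rl.cmp (nat_lit 3010) (nat_lit 3468)))) (FT.leaf (Fct.mk false (nat_lit 32) (nat_lit 0) (nat_lit 32) [nat_lit 3, nat_lit 8, nat_lit 5, nat_lit 2, nat_lit 3, nat_lit 4, nat_lit 1, nat_lit 2, nat_lit 3, nat_lit 8, nat_lit 6, nat_lit 7, nat_lit 5, nat_lit 6, nat_lit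 4, nat_lit 5, nat_lit 3, nat_lit 4, nat_lit 2, nat_lit 3, nat_lit 8, nat_lit 1, nat_lit 2, nat_lit 3, nat_lit 4, nat_lit 5, nat_lit 6, nat_lit 7, nat_lit 3, nat_lit 8, nat_lit 6, nat_lit 4, nat_lit 5, nat_lit 3, nat_lit 4, nat_lit 2, nat_lit 3, nat_lit 8, nat_lit 1, nat_lit 2, nat_lit 3, nat_lit 4, nat_lit 5, nat_lit 1, nat_lit 4, nat_lit 3, nat_lit 2, nat_lit 0, nat_lit 1, nat_lit 9, nat_lit 4, nat_lit 3, nat_lit 2, nat_lit 8, nat_lit 3, nat_lit 1, nat_lit 8, nat_lit 16, nat_lit 14, nat_lit 17, nat_lit 19, nat_lit 16] (Rl.cmp (nat_lit 3004) (nat_lit 3469)))))) (FT.node (nat_lit 3473) (FT.node (nat_lit 3472) (FT.leaf (Fct.mk true (nat_lit 32) (nat_lit 11817) (nat_lit 5) [nat_lit 3, nat_lit 8, nat_lit 7, nat_lit 6, nat_lit 4, nat_lit 5, nat_lit 3, nat_lit 4, nat_lit 2, nat_lit 3, nat_lit 8, nat_lit 1, nat_lit 2, nat_lit 3, nat_lit 4, nat_lit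 5, nat_lit 6, nat_lit 7, nat_lit 1, nat_lit 2, nat_lit 3, nat_lit 8, nat_lit 0, nat_lit 1, nat_lit 2, nat_lit 3, nat_lit 4, nat_lit 5, nat_lit 3, nat_lit 10, nat_lit 8, nat_lit 12, nat_lit 15, nat_lit 13, nat_lit 12, nat_lit 16] (Rl.t1 (nat_lit 3380) (nat_lit 3470)))) (FT.leaf (Fct.mk false (nat_lit 32) (nat_lit 0) (nat_lit 32) [nat_lit 3, nat_lit 8, nat_lit 5, nat_lit 2, nat_lit 3, nat_lit 4, nat_lit 1, nat_lit 2, nat_lit 3, nat_lit 8, nat_lit 6, nat_lit 7, nat_lit 5, nat_lit 6, nat_lit 4, nat_lit 5, nat_lit 3, nat_lit 4, nat_lit 2, nat_lit 3, nat_lit 8, nat_lit 1, nat_lit 2, nat_lit 3, nat_lit 4, nat_lit 5, nat_lit 6, nat_lit 7, nat_lit 8, nat_lit 0, nat_lit 1, nat_lit 2, nat_lit 3, nat_lit 4, nat_lit 5, nat_lit 1, nat_lit 2, nat_lit 3, nat_lit 0, nat_lit 2, nat_lit 15, nat_lit 14, nat_lit 13, nat_lit 12, nat_lit 16] (Rl.cmp (nat_lit 3456)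 (nat_lit 3004))))) (FT.node (nat_lit 3474) (FT.leaf (Fct.mk false (nat_lit 32) (nat_lit 0) (nat_lit 32) [nat_lit 3, nat_lit 8, nat_lit 5, nat_lit 2, nat_lit 3, nat_lit 4, nat_lit 1, nat_lit 2, nat_lit 3, nat_lit 8, nat_lit 6, nat_lit 7, nat_lit 5, nat_lit 6, nat_lit 4, nat_lit 5, nat_lit 3, nat_lit 4, nat_lit 2, nat_lit 3, nat_lit 8, nat_lit 1, nat_lit 2, nat_lit 3, nat_lit 4, nat_lit 5, nat_lit 6, nat_lit 7, nat_lit 5, nat_lit 4, nat_lit 3, nat_lit 8, nat_lit 0, nat_lit 1, nat_lit 2, nat_lit 3, nat_lit 4, nat_lit 5, nat_lit 8, nat_lit 3, nat_lit 2, nat_lit 1, nat_lit 4, nat_lit 3, nat_lit 2, nat_lit 8, nat_lit 3, nat_lit 11, nat_lit 12, nat_lit 15, nat_lit 14, nat_lit 13, nat_lit 16] (Rl.cmp (nat_lit 3047) (nat_lit 3472)))) (FT.leaf (Fct.mk true (nat_lit 32) (nat_lit 8953) (nat_lit 5) [nat_lit 3, nat_lit 4, nat_lit 2, nat_lit 3, nat_lit 8,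 nat_lit 6, nat_lit 7, nat_lit 5, nat_lit 6, nat_lit 4, nat_lit 5, nat_lit 3, nat_lit 4, nat_lit 2, nat_lit 3, nat_lit 8, nat_lit 0, nat_lit 1, nat_lit 2, nat_lit 3, nat_lit 4, nat_lit 5, nat_lit 6, nat_lit 7, nat_lit 1, nat_lit 2, nat_lit 3, nat_lit 8, nat_lit 5, nat_lit 6, nat_lit 4, nat_lit 5, nat_lit 3, nat_lit 4, nat_lit 2, nat_lit 3, nat_lit 8, nat_lit 1, nat_lit 2, nat_lit 3, nat_lit 4, nat_lit 5, nat_lit 2, nat_lit 1, nat_lit 3, nat_lit 2, nat_lit 8, nat_lit 3, nat_lit 9, nat_lit 8] (Rl.t1 (nat_lit 3401) (nat_lit 3473))))))))) (FT.node (nat_lit 3487) (FT.node (nat_lit 3481) (FT.node (nat_lit 3478) (FT.node (nat_lit 3476) (FT.leaf (Fct.mk false (nat_lit 32) (nat_lit 0) (nat_lit 32) [nat_lit 3, nat_lit 8, nat_lit 5, nat_lit 2, nat_lit 3, nat_lit 4, nat_lit 1, nat_lit 2, nat_lit 3, nat_lit 8, nat_lit 6, nat_lit 7, nat_lit 5, nat_lit 6,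 nat_lit 4, nat_lit 5, nat_lit 3, nat_lit 4, nat_lit 2, nat_lit 3, nat_lit 8, nat_lit 1, nat_lit 2, nat_lit 3, nat_lit 4, nat_lit 5, nat_lit 6, nat_lit 7, nat_lit 4, nat_lit 5, nat_lit 3, nat_lit 4, nat_lit 2, nat_lit 3, nat_lit 8, nat_lit 1, nat_lit 2, nat_lit 3, nat_lit 4, nat_lit 5, nat_lit 3, nat_lit 2, nat_lit 0, nat_lit 1, nat_lit 9, nat_lit 4, nat_lit 3, nat_lit 2, nat_lit 8, nat_lit 3, nat_lit 2, nat_lit 8, nat_lit 10, nat_lit 1, nat_lit 16, nat_lit 15, nat_lit 14, nat_lit 17, nat_lit 12, nat_lit 18] (Rl.cmp (nat_lit 3010) (nat_lit 3456)))) (FT.node (nat_lit 3477) (FT.leaf (Fct.mk false (nat_lit 32) (nat_lit 0) (nat_lit 32) [nat_lit 3, nat_lit 8, nat_lit 5, nat_lit 2, nat_lit 3, nat_lit 4, nat_lit 1, nat_lit 2, nat_lit 3, nat_lit 8, nat_lit 6, nat_lit 7, nat_lit 5, nat_lit 6, nat_lit 4, nat_lit 5, nat_lit 3, nat_lit 4, nat_lit 2, nat_lit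 3, nat_lit 8, nat_lit 1, nat_lit 2, nat_lit 3, nat_lit 4, nat_lit 5, nat_lit 6, nat_lit 7, nat_lit 5, nat_lit 6, nat_lit 4, nat_lit 5, nat_lit 3, nat_lit 4, nat_lit 2, nat_lit 3, nat_lit 8, nat_lit 1, nat_lit 2, nat_lit 3, nat_lit 4, nat_lit 5, nat_lit 0, nat_lit 1, nat_lit 2, nat_lit 8, nat_lit 3, nat_lit 9, nat_lit 16, nat_lit 12, nat_lit 15, nat_lit 14, nat_lit 8, nat_lit 19] (Rl.cmp (nat_lit 3004) (nat_lit 3475)))) (FT.leaf (Fct.mk false (nat_lit 32) (nat_lit 0) (nat_lit 32) [nat_lit 3, nat_lit 8, nat_lit 5, nat_lit 2, nat_lit 3, nat_lit 4, nat_lit 1, nat_lit 2, nat_lit 3, nat_lit 8, nat_lit 6, nat_lit 7, nat_lit 5, nat_lit 6, nat_lit 4, nat_lit 5, nat_lit 3, nat_lit 4, nat_lit 2, nat_lit 3, nat_lit 8, nat_lit 1, nat_lit 2, nat_lit 3, nat_lit 4, nat_lit 5, nat_lit 6, nat_lit 7, nat_lit 4, nat_lit 3, nat_lit 8, nat_lit 5, nat_lit 6, nat_lit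 4, nat_lit 5, nat_lit 3, nat_lit 4, nat_lit 2, nat_lit 3, nat_lit 8, nat_lit 1, nat_lit 2, nat_lit 3, nat_lit 4, nat_lit 5, nat_lit 0, nat_lit 1, nat_lit 2, nat_lit 8, nat_lit 3, nat_lit 17, nat_lit 12] (Rl.cmp (nat_lit 3010) (nat_lit 3476)))))) (FT.node (nat_lit 3479) (FT.leaf (Fct.mk true (nat_lit 32) (nat_lit 2342) (nat_lit 5) [nat_lit 6, nat_lit 5, nat_lit 4, nat_lit 3, nat_lit 8, nat_lit 2, nat_lit 3, nat_lit 4, nat_lit 1, nat_lit 2, nat_lit 3, nat_lit 8, nat_lit 5, nat_lit 6, nat_lit 4, nat_lit 5, nat_lit 3, nat_lit 4, nat_lit 2, nat_lit 3, nat_lit 8, nat_lit 1, nat_lit 2, nat_lit 3, nat_lit 4, nat_lit 5, nat_lit 6, nat_lit 7, nat_lit 3, nat_lit 8, nat_lit 6, nat_lit 4, nat_lit 5, nat_lit 3, nat_lit 4, nat_lit 1, nat_lit 2, nat_lit 3, nat_lit 8, nat_lit 0, nat_lit 1, nat_lit 2, nat_lit 3, nat_lit 4, nat_lit 5, nat_lit 1, nat_lit 2, nat_lit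 8, nat_lit 3, nat_lit 11, nat_lit 2, nat_lit 8, nat_lit 10, nat_lit 1, nat_lit 8, nat_lit 12, nat_lit 15, nat_lit 16] (Rl.t1 (nat_lit 3411) (nat_lit 3477)))) (FT.node (nat_lit 3480) (FT.leaf (Fct.mk false (nat_lit 32) (nat_lit 0) (nat_lit 32) [nat_lit 3, nat_lit 8, nat_lit 5, nat_lit 2, nat_lit 3, nat_lit 4, nat_lit 1, nat_lit 2, nat_lit 3, nat_lit 8, nat_lit 6, nat_lit 7, nat_lit 5, nat_lit 6, nat_lit 4, nat_lit 5, nat_lit 3, nat_lit 4, nat_lit 2, nat_lit 3, nat_lit 8, nat_lit 1, nat_lit 2, nat_lit 3, nat_lit 4, nat_lit 5, nat_lit 6, nat_lit 7, nat_lit 8, nat_lit 0, nat_lit 1, nat_lit 2, nat_lit 3, nat_lit 4, nat_lit 5, nat_lit 1, nat_lit 2, nat_lit 3, nat_lit 0, nat_lit 2, nat_lit 15, nat_lit 14, nat_lit 13, nat_lit 12, nat_lit 16] (Rl.cmp (nat_lit 3456) (nat_lit 3004)))) (FT.leaf (Fct.mk false (nat_lit 32) (nat_lit 0) (nat_lit 32) [nat_lit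 3, nat_lit 8, nat_lit 5, nat_lit 2, nat_lit 3, nat_lit 4, nat_lit 1, nat_lit 2, nat_lit 3, nat_lit 8, nat_lit 6, nat_lit 7, nat_lit 5, nat_lit 6, nat_lit 4, nat_lit 5, nat_lit 3, nat_lit 4, nat_lit 2, nat_lit 3, nat_lit 8, nat_lit 1, nat_lit 2, nat_lit 3, nat_lit 4, nat_lit 5, nat_lit 6, nat_lit 7, nat_lit 5, nat_lit 4, nat_lit 3, nat_lit 8, nat_lit 0, nat_lit 1, nat_lit 2, nat_lit 3, nat_lit 4, nat_lit 5, nat_lit 8, nat_lit 3, nat_lit 2, nat_lit 1, nat_lit 4, nat_lit 3, nat_lit 2, nat_lit 8, nat_lit 3, nat_lit 11, nat_lit 12, nat_lit 15, nat_lit 14, nat_lit 13, nat_lit 16] (Rl.cmp (nat_lit 3047) (nat_lit 3479))))))) (FT.node (nat_lit 3484) (FT.node (nat_lit 3482) (FT.leaf (Fct.mk false (nat_lit 32) (nat_lit 0) (nat_lit 32) [nat_lit 3, nat_lit 8, nat_lit 5, nat_lit 2, nat_lit 3, nat_lit 4, nat_lit 1, nat_lit 2, nat_lit 3, nat_lit 8, nat_lit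 6, nat_lit 7, nat_lit 5, nat_lit 6, nat_lit 4, nat_lit 5, nat_lit 3, nat_lit 4, nat_lit 2, nat_lit 3, nat_lit 8, nat_lit 1, nat_lit 2, nat_lit 3, nat_lit 4, nat_lit 5, nat_lit 6, nat_lit 7, nat_lit 4, nat_lit 2, nat_lit 3, nat_lit 8, nat_lit 5, nat_lit 6, nat_lit 4, nat_lit 5, nat_lit 3, nat_lit 4, nat_lit 2, nat_lit 3, nat_lit 8, nat_lit 1, nat_lit 2, nat_lit 3, nat_lit 4, nat_lit 5, nat_lit 3, nat_lit 2, nat_lit 1, nat_lit 4, nat_lit 3, nat_lit 2, nat_lit 0, nat_lit 1, nat_lit 9, nat_lit 4, nat_lit 3, nat_lit 2, nat_lit 8, nat_lit 3, nat_lit 12, nat_lit 15, nat_lit 14, nat_lit 19] (Rl.cmp (nat_lit 3047) (nat_lit 3480)))) (FT.node (nat_lit 3483) (FT.leaf (Fct.mk false (nat_lit 32) (nat_lit 0) (nat_lit 32) [nat_lit 3, nat_lit 8, nat_lit 5, nat_lit 2, nat_lit 3, nat_lit 4, nat_lit 1, nat_lit 2, nat_lit 3, nat_lit 8, nat_lit 6, nat_lit 7, nat_lit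 5, nat_lit 6, nat_lit 4, nat_lit 5, nat_lit 3, nat_lit 4, nat_lit 2, nat_lit 3, nat_lit 8, nat_lit 1, nat_lit 2, nat_lit 3, nat_lit 4, nat_lit 5, nat_lit 6, nat_lit 7, nat_lit 4, nat_lit 2, nat_lit 3, nat_lit 8, nat_lit 0, nat_lit 1, nat_lit 2, nat_lit 3, nat_lit 4, nat_lit 5, nat_lit 0, nat_lit 1, nat_lit 9, nat_lit 4, nat_lit 3, nat_lit 2, nat_lit 8, nat_lit 3, nat_lit 11, nat_lit 8, nat_lit 10, nat_lit 1, nat_lit 8, nat_lit 16, nat_lit 15, nat_lit 14, nat_lit 8, nat_lit 16] (Rl.cmp (nat_lit 3004) (nat_lit 3481)))) (FT.leaf (Fct.mk true (nat_lit 32) (nat_lit 2250) (nat_lit 32) [nat_lit 3, nat_lit 8, nat_lit 4, nat_lit 5, nat_lit 3, nat_lit 4, nat_lit 2, nat_lit 3, nat_lit 8, nat_lit 1, nat_lit 2, nat_lit 3, nat_lit 4, nat_lit 5, nat_lit 6, nat_lit 7, nat_lit 6, nat_lit 4, nat_lit 5, nat_lit 3, nat_lit 4, nat_lit 2, nat_lit 3, nat_lit 8, nat_lit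 1, nat_lit 2, nat_lit 3, nat_lit 4, nat_lit 5, nat_lit 0, nat_lit 1, nat_lit 2, nat_lit 8, nat_lit 3, nat_lit 11, nat_lit 10, nat_lit 2, nat_lit 8, nat_lit 10, nat_lit 1, nat_lit 8, nat_lit 16, nat_lit 14, nat_lit 13, nat_lit 12] (Rl.t1 (nat_lit 3437) (nat_lit 3482)))))) (FT.node (nat_lit 3485) (FT.leaf (Fct.mk false (nat_lit 32) (nat_lit 0) (nat_lit 32) [nat_lit 3, nat_lit 8, nat_lit 6, nat_lit 4, nat_lit 5, nat_lit 3, nat_lit 4, nat_lit 2, nat_lit 3, nat_lit 8, nat_lit 1, nat_lit 2, nat_lit 3, nat_lit 4, nat_lit 5, nat_lit 1, nat_lit 8, nat_lit 4, nat_lit 3, nat_lit 2, nat_lit 0, nat_lit 1, nat_lit 9, nat_lit 4, nat_lit 3, nat_lit 2, nat_lit 8, nat_lit 3, nat_lit 11, nat_lit 2, nat_lit 10, nat_lit 1, nat_lit 16, nat_lit 14, nat_lit 18, nat_lit 16] (Rl.cmp (nat_lit 3047) (nat_lit 3004)))) (FT.node (nat_lit 3486) (FT.leaf (Fct.mk false (nat_lit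 32) (nat_lit 0) (nat_lit 32) [nat_lit 3, nat_lit 4, nat_lit 2, nat_lit 3, nat_lit 8, nat_lit 5, nat_lit 6, nat_lit 4, nat_lit 5, nat_lit 3, nat_lit 4, nat_lit 2, nat_lit 3, nat_lit 8, nat_lit 1, nat_lit 2, nat_lit 3, nat_lit 4, nat_lit 5, nat_lit 2, nat_lit 1, nat_lit 8, nat_lit 3, nat_lit 2, nat_lit 0, nat_lit 1, nat_lit 4, nat_lit 3, nat_lit 2, nat_lit 8, nat_lit 3, nat_lit 10, nat_lit 12, nat_lit 15, nat_lit 14, nat_lit 18, nat_lit 16] (Rl.cmp (nat_lit 3010) (nat_lit 3484)))) (FT.leaf (Fct.mk false (nat_lit 32) (nat_lit 0) (nat_lit 32) [nat_lit 5, nat_lit 4, nat_lit 3, nat_lit 8, nat_lit 1, nat_lit 2, nat_lit 3, nat_lit 4, nat_lit 5, nat_lit 0, nat_lit 1, nat_lit 3, nat_lit 2, nat_lit 8, nat_lit 3, nat_lit 10, nat_lit 2, nat_lit 8, nat_lit 10, nat_lit 1, nat_lit 16, nat_lit 15, nat_lit 14, nat_lit 16, nat_lit 8] (Rl.cmp (nat_lit 3004) (nat_lit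 3485)))))))) (FT.node (nat_lit 3493) (FT.node (nat_lit 3490) (FT.node (nat_lit 3488) (FT.leaf (Fct.mk false (nat_lit 32) (nat_lit 0) (nat_lit 32) [nat_lit 3, nat_lit 8, nat_lit 5, nat_lit 2, nat_lit 3, nat_lit 4, nat_lit 1, nat_lit 2, nat_lit 3, nat_lit 8, nat_lit 6, nat_lit 7, nat_lit 5, nat_lit 6, nat_lit 4, nat_lit 5, nat_lit 3, nat_lit 4, nat_lit 2, nat_lit 3, nat_lit 8, nat_lit 1, nat_lit 2, nat_lit 3, nat_lit 4, nat_lit 5, nat_lit 6, nat_lit 7, nat_lit 8, nat_lit 6, nat_lit 5, nat_lit 3, nat_lit 4, nat_lit 2, nat_lit 3, nat_lit 8, nat_lit 1, nat_lit 2, nat_lit 3, nat_lit 4, nat_lit 5, nat_lit 1, nat_lit 3, nat_lit 2, nat_lit 0, nat_lit 1, nat_lit 4, nat_lit 3, nat_lit 2, nat_lit 8, nat_lit 3, nat_lit 11, nat_lit 8, nat_lit 10, nat_lit 1, nat_lit 16, nat_lit 15, nat_lit 14, nat_lit 8] (Rl.cmp (nat_lit 3456) (nat_lit 3047)))) (FT.node (nat_lit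 3489) (FT.leaf (Fct.mk false (nat_lit 32) (nat_lit 0) (nat_lit 32) [nat_lit 3, nat_lit 8, nat_lit 5, nat_lit 2, nat_lit 3, nat_lit 4, nat_lit 1, nat_lit 2, nat_lit 3, nat_lit 8, nat_lit 6, nat_lit 7, nat_lit 5, nat_lit 6, nat_lit 4, nat_lit 5, nat_lit 3, nat_lit 4, nat_lit 2, nat_lit 3, nat_lit 8, nat_lit 1, nat_lit 2, nat_lit 3, nat_lit 4, nat_lit 5, nat_lit 6, nat_lit 7, nat_lit 8, nat_lit 4, nat_lit 5, nat_lit 3, nat_lit 4, nat_lit 2, nat_lit 3, nat_lit 8, nat_lit 1, nat_lit 2, nat_lit 3, nat_lit 4, nat_lit 5, nat_lit 0, nat_lit 1, nat_lit 9, nat_lit 4, nat_lit 3, nat_lit 2, nat_lit 8, nat_lit 3, nat_lit 11, nat_lit 2, nat_lit 8, nat_lit 12, nat_lit 15, nat_lit 8] (Rl.cmp (nat_lit 3456) (nat_lit 3010)))) (FT.leaf (Fct.mk false (nat_lit 32) (nat_lit 0) (nat_lit 32) [nat_lit 0, nat_lit 1, nat_lit 2, nat_lit 3, nat_lit 4, nat_lit 5, nat_lit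 3, nat_lit 8, nat_lit 4, nat_lit 3, nat_lit 2, nat_lit 0, nat_lit 1, nat_lit 9, nat_lit 4, nat_lit 3, nat_lit 2, nat_lit 8, nat_lit 3, nat_lit 15, nat_lit 17, nat_lit 16] (Rl.cmp (nat_lit 3004) (nat_lit 2995)))))) (FT.node (nat_lit 3491) (FT.leaf (Fct.mk false (nat_lit 32) (nat_lit 0) (nat_lit 32) [nat_lit 2, nat_lit 3, nat_lit 4, nat_lit 1, nat_lit 2, nat_lit 3, nat_lit 8, nat_lit 0, nat_lit 1, nat_lit 2, nat_lit 3, nat_lit 4, nat_lit 5, nat_lit 1, nat_lit 3, nat_lit 8, nat_lit 4, nat_lit 3, nat_lit 2, nat_lit 0, nat_lit 1, nat_lit 9, nat_lit 4, nat_lit 3, nat_lit 2, nat_lit 8, nat_lit 3, nat_lit 11, nat_lit 10, nat_lit 8, nat_lit 16, nat_lit 14, nat_lit 19] (Rl.cmp (nat_lit 3010) (nat_lit 3489)))) (FT.node (nat_lit 3492) (FT.leaf (Fct.mk false (nat_lit 32) (nat_lit 0) (nat_lit 32) [nat_lit 5, nat_lit 6, nat_lit 4, nat_lit 5, nat_lit 3, nat_lit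 4, nat_lit 2, nat_lit 3, nat_lit 8, nat_lit 1, nat_lit 2, nat_lit 3, nat_lit 4, nat_lit 5, nat_lit 1, nat_lit 9, nat_lit 4, nat_lit 3, nat_lit 2, nat_lit 8, nat_lit 3, nat_lit 11, nat_lit 10, nat_lit 1, nat_lit 12, nat_lit 15, nat_lit 14, nat_lit 18, nat_lit 16] (Rl.cmp (nat_lit 3004) (nat_lit 3010)))) (FT.leaf (Fct.mk false (nat_lit 32) (nat_lit 0) (nat_lit 32) [nat_lit 2, nat_lit 3, nat_lit 4, nat_lit 1, nat_lit 2, nat_lit 3, nat_lit 8, nat_lit 0, nat_lit 1, nat_lit 2, nat_lit 3, nat_lit 4, nat_lit 5, nat_lit 3, nat_lit 8, nat_lit 4, nat_lit 3, nat_lit 2, nat_lit 0, nat_lit 1, nat_lit 9, nat_lit 4, nat_lit 3, nat_lit 2, nat_lit 8, nat_lit 3, nat_lit 11, nat_lit 10, nat_lit 8, nat_lit 16, nat_lit 14, nat_lit 19] (Rl.cmp (nat_lit 3010) (nat_lit 3004))))))) (FT.node (nat_lit 3496) (FT.node (nat_lit 3494) (FT.leaf (Fct.mk false (nat_lit 32) (nat_lit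 0) (nat_lit 32) [nat_lit 3, nat_lit 4, nat_lit 2, nat_lit 3, nat_lit 8, nat_lit 5, nat_lit 6, nat_lit 4, nat_lit 5, nat_lit 3, nat_lit 4, nat_lit 2, nat_lit 3, nat_lit 8, nat_lit 1, nat_lit 2, nat_lit 3, nat_lit 4, nat_lit 5, nat_lit 3, nat_lit 2, nat_lit 1, nat_lit 8, nat_lit 3, nat_lit 2, nat_lit 0, nat_lit 1, nat_lit 9, nat_lit 4, nat_lit 3, nat_lit 2, nat_lit 8, nat_lit 3, nat_lit 11, nat_lit 10, nat_lit 1, nat_lit 12, nat_lit 15, nat_lit 14, nat_lit 17, nat_lit 16] (Rl.cmp (nat_lit 3047) (nat_lit 3492)))) (FT.node (nat_lit 3495) (FT.leaf (Fct.mk false (nat_lit 32) (nat_lit 0) (nat_lit 32) [nat_lit 5, nat_lit 4, nat_lit 3, nat_lit 8, nat_lit 0, nat_lit 1, nat_lit 2, nat_lit 3, nat_lit 4, nat_lit 5, nat_lit 2, nat_lit 1, nat_lit 8, nat_lit 3, nat_lit 2, nat_lit 0, nat_lit 1, nat_lit 9, nat_lit 4, nat_lit 3, nat_lit 2, nat_lit 8, nat_lit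 3, nat_lit 11, nat_lit 16, nat_lit 14, nat_lit 17, nat_lit 12] (Rl.cmp (nat_lit 3047) (nat_lit 3493)))) (FT.leaf (Fct.mk false (nat_lit 5) (nat_lit 0) (nat_lit 5) [nat_lit 8, nat_lit 4, nat_lit 5, nat_lit 2, nat_lit 3, nat_lit 4, nat_lit 1, nat_lit 2, nat_lit 3, nat_lit 8, nat_lit 6, nat_lit 7, nat_lit 5, nat_lit 6, nat_lit 4, nat_lit 5, nat_lit 3, nat_lit 4, nat_lit 2, nat_lit 3, nat_lit 8, nat_lit 1, nat_lit 2, nat_lit 3, nat_lit 4, nat_lit 5, nat_lit 6, nat_lit 7, nat_lit 6, nat_lit 4, nat_lit 5, nat_lit 3, nat_lit 4, nat_lit 2, nat_lit 3, nat_lit 8, nat_lit 1, nat_lit 2, nat_lit 3, nat_lit 4, nat_lit 5, nat_lit 1, nat_lit 3, nat_lit 2, nat_lit 8, nat_lit 3, nat_lit 2, nat_lit 15, nat_lit 14, nat_lit 13, nat_lit 19, nat_lit 16] (Rl.cmp (nat_lit 2094) (nat_lit 2981)))))) (FT.node (nat_lit 3498) (FT.node (nat_lit 3497) (FT.leaf (Fct.mk true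 (nat_lit 32) (nat_lit 25186) (nat_lit 5) [nat_lit 3, nat_lit 4, nat_lit 1, nat_lit 2, nat_lit 3, nat_lit 8, nat_lit 6, nat_lit 7, nat_lit 5, nat_lit 6, nat_lit 4, nat_lit 5, nat_lit 3, nat_lit 4, nat_lit 2, nat_lit 3, nat_lit 8, nat_lit 1, nat_lit 2, nat_lit 3, nat_lit 4, nat_lit 5, nat_lit 6, nat_lit 7, nat_lit 2, nat_lit 3, nat_lit 4, nat_lit 1, nat_lit 2, nat_lit 3, nat_lit 8, nat_lit 0, nat_lit 1, nat_lit 2, nat_lit 3, nat_lit 4, nat_lit 5, nat_lit 8, nat_lit 4, nat_lit 3, nat_lit 2, nat_lit 0, nat_lit 1, nat_lit 9, nat_lit 4, nat_lit 3, nat_lit 2, nat_lit 8, nat_lit 3, nat_lit 8, nat_lit 10, nat_lit 1, nat_lit 14, nat_lit 17, nat_lit 16] (Rl.rel (nat_lit 0) [nat_lit 3, nat_lit 8, nat_lit 2, nat_lit 3, nat_lit 4, nat_lit 5, nat_lit 6, nat_lit 7, nat_lit 8, nat_lit 4, nat_lit 5, nat_lit 3, nat_lit 4, nat_lit 1, nat_lit 2, nat_lit 3, nat_lit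 8, nat_lit 0, nat_lit 1, nat_lit 2, nat_lit 3, nat_lit 4, nat_lit 5, nat_lit 3, nat_lit 2, nat_lit 1, nat_lit 8, nat_lit 3, nat_lit 2, nat_lit 0, nat_lit 1, nat_lit 4, nat_lit 3, nat_lit 2, nat_lit 8, nat_lit 3, nat_lit 8, nat_lit 10, nat_lit 16, nat_lit 14, nat_lit 17, nat_lit 19, nat_lit 16] (nat_lit 5) (nat_lit 1) [nat_lit 3382] [nat_lit 3495, nat_lit 2630]))) (FT.leaf (Fct.mk true (nat_lit 32) (nat_lit 4367) (nat_lit 5) [nat_lit 7, nat_lit 5, nat_lit 6, nat_lit 4, nat_lit 5, nat_lit 3, nat_lit 4, nat_lit 1, nat_lit 2, nat_lit 3, nat_lit 8, nat_lit 0, nat_lit 1, nat_lit 2, nat_lit 3, nat_lit 4, nat_lit 5, nat_lit 6, nat_lit 7, nat_lit 4, nat_lit 3, nat_lit 8, nat_lit 5, nat_lit 6, nat_lit 4, nat_lit 5, nat_lit 3, nat_lit 4, nat_lit 1, nat_lit 2, nat_lit 3, nat_lit 8, nat_lit 0, nat_lit 1, nat_lit 2, nat_lit 3, nat_lit 4, nat_lit 5, nat_lit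 1, nat_lit 4, nat_lit 3, nat_lit 2, nat_lit 0, nat_lit 1, nat_lit 9, nat_lit 4, nat_lit 3, nat_lit 2, nat_lit 8, nat_lit 3, nat_lit 1, nat_lit 16, nat_lit 8, nat_lit 12, nat_lit 15, nat_lit 16, nat_lit 8, nat_lit 18] (Rl.t1 (nat_lit 3496) (nat_lit 3494))))) (FT.node (nat_lit 3499) (FT.leaf (Fct.mk true (nat_lit 5) (nat_lit 107847) (nat_lit 32) [nat_lit 4, nat_lit 3, nat_lit 8, nat_lit 2, nat_lit 3, nat_lit 4, nat_lit 1, nat_lit 2, nat_lit 3, nat_lit 8, nat_lit 6, nat_lit 7, nat_lit 5, nat_lit 6, nat_lit 4, nat_lit 5, nat_lit 3, nat_lit 4, nat_lit 2, nat_lit 3, nat_lit 8, nat_lit 1, nat_lit 2, nat_lit 3, nat_lit 4, nat_lit 5, nat_lit 6, nat_lit 7, nat_lit 6, nat_lit 5, nat_lit 4, nat_lit 3, nat_lit 8, nat_lit 0, nat_lit 1, nat_lit 2, nat_lit 3, nat_lit 4, nat_lit 5, nat_lit 3, nat_lit 8, nat_lit 4, nat_lit 3, nat_lit 2, nat_lit 1, nat_lit 9,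 nat_lit 4, nat_lit 3, nat_lit 2, nat_lit 8, nat_lit 3, nat_lit 10, nat_lit 0, nat_lit 15, nat_lit 14, nat_lit 13, nat_lit 12, nat_lit 18] (Rl.inv (nat_lit 3497)))) (FT.leaf (Fct.mk true (nat_lit 5) (nat_lit 393) (nat_lit 32) [nat_lit 8, nat_lit 4, nat_lit 5, nat_lit 2, nat_lit 3, nat_lit 4, nat_lit 1, nat_lit 2, nat_lit 3, nat_lit 8, nat_lit 6, nat_lit 7, nat_lit 5, nat_lit 6, nat_lit 4, nat_lit 5, nat_lit 3, nat_lit 4, nat_lit 2, nat_lit 3, nat_lit 8, nat_lit 1, nat_lit 2, nat_lit 3, nat_lit 4, nat_lit 5, nat_lit 6, nat_lit 7, nat_lit 4, nat_lit 3, nat_lit 8, nat_lit 1, nat_lit 2, nat_lit 3, nat_lit 4, nat_lit 5, nat_lit 1, nat_lit 8, nat_lit 4, nat_lit 3, nat_lit 2, nat_lit 0, nat_lit 1, nat_lit 9, nat_lit 4, nat_lit 3, nat_lit 2, nat_lit 8, nat_lit 3, nat_lit 11, nat_lit 8, nat_lit 10, nat_lit 1, nat_lit 12, nat_lit 8, nat_lit 16, nat_lit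 14, nat_lit 13, nat_lit 12, nat_lit 18, nat_lit 16] (Rl.t1 (nat_lit 3498) (nat_lit 2826)))))))))

/-- some facts -/
noncomputable def ftc70 : FT := FT.node (nat_lit 3525) (FT.node (nat_lit 3512) (FT.node (nat_lit 3506) (FT.node (nat_lit 3503) (FT.node (nat_lit 3501) (FT.leaf (Fct.mk false (nat_lit 32) (nat_lit 0) (nat_lit 32) [nat_lit 2, nat_lit 3, nat_lit 4, nat_lit 1, nat_lit 2, nat_lit 3, nat_lit 8, nat_lit 0, nat_lit 1, nat_lit 2, nat_lit 3, nat_lit 4, nat_lit 5, nat_lit 3, nat_lit 8, nat_lit 4, nat_lit 3, nat_lit 2, nat_lit 0, nat_lit 1, nat_lit 9, nat_lit 4, nat_lit 3, nat_lit 2, nat_lit 8, nat_lit 3, nat_lit 11, nat_lit 10, nat_lit 8, nat_lit 16, nat_lit 14, nat_lit 19] (Rl.cmp (nat_lit 3010) (nat_lit 3004)))) (FT.node (nat_lit 3502) (FT.leaf (Fct.mk false (nat_lit 32) (nat_lit 0) (nat_lit 32) [nat_lit 2, nat_lit 3, nat_lit 4, nat_lit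 1, nat_lit 2, nat_lit 3, nat_lit 8, nat_lit 0, nat_lit 1, nat_lit 2, nat_lit 3, nat_lit 4, nat_lit 5, nat_lit 3, nat_lit 8, nat_lit 4, nat_lit 3, nat_lit 2, nat_lit 0, nat_lit 1, nat_lit 9, nat_lit 4, nat_lit 3, nat_lit 2, nat_lit 8, nat_lit 3, nat_lit 11, nat_lit 10, nat_lit 8, nat_lit 16, nat_lit 14, nat_lit 19] (Rl.cmp (nat_lit 3010) (nat_lit 3004)))) (FT.leaf (Fct.mk false (nat_lit 32) (nat_lit 0) (nat_lit 32) [nat_lit 3, nat_lit 4, nat_lit 2, nat_lit 3, nat_lit 8, nat_lit 5, nat_lit 6, nat_lit 4, nat_lit 5, nat_lit 3, nat_lit 4, nat_lit 2, nat_lit 3, nat_lit 8, nat_lit 1, nat_lit 2, nat_lit 3, nat_lit 4, nat_lit 5, nat_lit 3, nat_lit 2, nat_lit 1, nat_lit 8, nat_lit 3, nat_lit 2, nat_lit 0, nat_lit 1, nat_lit 9, nat_lit 4, nat_lit 3, nat_lit 2, nat_lit 8, nat_lit 3, nat_lit 11, nat_lit 10, nat_lit 1, nat_lit 12, nat_lit 15, nat_lit 14,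 nat_lit 17, nat_lit 16] (Rl.cmp (nat_lit 3047) (nat_lit 3501)))))) (FT.node (nat_lit 3504) (FT.leaf (Fct.mk false (nat_lit 32) (nat_lit 0) (nat_lit 32) [nat_lit 5, nat_lit 4, nat_lit 3, nat_lit 8, nat_lit 1, nat_lit 2, nat_lit 3, nat_lit 4, nat_lit 5, nat_lit 2, nat_lit 1, nat_lit 3, nat_lit 2, nat_lit 0, nat_lit 1, nat_lit 9, nat_lit 4, nat_lit 3, nat_lit 2, nat_lit 8, nat_lit 3, nat_lit 9, nat_lit 10, nat_lit 2, nat_lit 8, nat_lit 10, nat_lit 1, nat_lit 14, nat_lit 16, nat_lit 8, nat_lit 18] (Rl.cmp (nat_lit 3004) (nat_lit 3502)))) (FT.node (nat_lit 3505) (FT.leaf (Fct.mk false (nat_lit 32) (nat_lit 0) (nat_lit 32) [nat_lit 6, nat_lit 5, nat_lit 4, nat_lit 3, nat_lit 8, nat_lit 2, nat_lit 3, nat_lit 4, nat_lit 1, nat_lit 2, nat_lit 3, nat_lit 8, nat_lit 5, nat_lit 6, nat_lit 4, nat_lit 5, nat_lit 3, nat_lit 4, nat_lit 2, nat_lit 3, nat_lit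 8, nat_lit 1, nat_lit 2, nat_lit 3, nat_lit 4, nat_lit 5, nat_lit 2, nat_lit 1, nat_lit 9, nat_lit 4, nat_lit 3, nat_lit 2, nat_lit 8, nat_lit 3, nat_lit 1, nat_lit 9, nat_lit 12, nat_lit 8, nat_lit 16, nat_lit 14, nat_lit 16, nat_lit 8, nat_lit 18, nat_lit 16] (Rl.cmp (nat_lit 3004) (nat_lit 3503)))) (FT.leaf (Fct.mk false (nat_lit 5) (nat_lit 0) (nat_lit 5) [nat_lit 8, nat_lit 3, nat_lit 4, nat_lit 1, nat_lit 2, nat_lit 3, nat_lit 8, nat_lit 5, nat_lit 6, nat_lit 4, nat_lit 5, nat_lit 3, nat_lit 4, nat_lit 2, nat_lit 3, nat_lit 8, nat_lit 1, nat_lit 2, nat_lit 3, nat_lit 4, nat_lit 5, nat_lit 2, nat_lit 3, nat_lit 8, nat_lit 4, nat_lit 3, nat_lit 2, nat_lit 1, nat_lit 9, nat_lit 4, nat_lit 3, nat_lit 2, nat_lit 8, nat_lit 3, nat_lit 8, nat_lit 12, nat_lit 15, nat_lit 14, nat_lit 13, nat_lit 12, nat_lit 19] (Rl.cmp (nat_lit 2094) (nat_lit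 2778))))))) (FT.node (nat_lit 3509) (FT.node (nat_lit 3507) (FT.leaf (Fct.mk false (nat_lit 5) (nat_lit 0) (nat_lit 5) [nat_lit 8, nat_lit 3, nat_lit 4, nat_lit 2, nat_lit 3, nat_lit 8, nat_lit 5, nat_lit 6, nat_lit 4, nat_lit 5, nat_lit 3, nat_lit 4, nat_lit 2, nat_lit 3, nat_lit 8, nat_lit 1, nat_lit 2, nat_lit 3, nat_lit 4, nat_lit 5, nat_lit 8, nat_lit 3, nat_lit 2, nat_lit 1, nat_lit 9, nat_lit 4, nat_lit 3, nat_lit 2, nat_lit 8, nat_lit 3, nat_lit 11, nat_lit 1, nat_lit 8, nat_lit 16, nat_lit 14, nat_lit 17, nat_lit 12] (Rl.cmp (nat_lit 1754) (nat_lit 3505)))) (FT.node (nat_lit 3508) (FT.leaf (Fct.mk false (nat_lit 5) (nat_lit 0) (nat_lit 5) [nat_lit 8, nat_lit 3, nat_lit 4, nat_lit 2, nat_lit 3, nat_lit 8, nat_lit 7, nat_lit 5, nat_lit 6, nat_lit 4, nat_lit 5, nat_lit 3, nat_lit 4, nat_lit 2, nat_lit 3, nat_lit 8, nat_lit 0, nat_lit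 1, nat_lit 2, nat_lit 3, nat_lit 4, nat_lit 5, nat_lit 6, nat_lit 7, nat_lit 6, nat_lit 5, nat_lit 4, nat_lit 3, nat_lit 8, nat_lit 2, nat_lit 3, nat_lit 4, nat_lit 5, nat_lit 1, nat_lit 2, nat_lit 8, nat_lit 3, nat_lit 10, nat_lit 0, nat_lit 16, nat_lit 12, nat_lit 15, nat_lit 14, nat_lit 17, nat_lit 12, nat_lit 18, nat_lit 16] (Rl.cmp (nat_lit 2491) (nat_lit 3506)))) (FT.leaf (Fct.mk false (nat_lit 32) (nat_lit 0) (nat_lit 32) [nat_lit 5, nat_lit 4, nat_lit 3, nat_lit 8, nat_lit 0, nat_lit 1, nat_lit 2, nat_lit 3, nat_lit 4, nat_lit 5, nat_lit 2, nat_lit 0, nat_lit 1, nat_lit 4, nat_lit 3, nat_lit 2, nat_lit 8, nat_lit 3, nat_lit 10, nat_lit 2, nat_lit 8, nat_lit 10, nat_lit 1, nat_lit 16, nat_lit 15, nat_lit 14, nat_lit 16, nat_lit 8] (Rl.cmp (nat_lit 3004) (nat_lit 3004)))))) (FT.node (nat_lit 3510) (FT.leaf (Fct.mk false (nat_lit 32) (nat_lit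 0) (nat_lit 32) [nat_lit 2, nat_lit 3, nat_lit 4, nat_lit 1, nat_lit 2, nat_lit 3, nat_lit 8, nat_lit 0, nat_lit 1, nat_lit 2, nat_lit 3, nat_lit 4, nat_lit 5, nat_lit 1, nat_lit 4, nat_lit 3, nat_lit 2, nat_lit 8, nat_lit 3, nat_lit 11, nat_lit 2, nat_lit 16, nat_lit 14, nat_lit 13, nat_lit 12] (Rl.cmp (nat_lit 3047) (nat_lit 3508)))) (FT.node (nat_lit 3511) (FT.leaf (Fct.mk false (nat_lit 32) (nat_lit 0) (nat_lit 32) [nat_lit 5, nat_lit 4, nat_lit 3, nat_lit 8, nat_lit 0, nat_lit 1, nat_lit 2, nat_lit 3, nat_lit 4, nat_lit 5, nat_lit 2, nat_lit 0, nat_lit 1, nat_lit 3, nat_lit 2, nat_lit 8, nat_lit 3, nat_lit 9, nat_lit 16, nat_lit 8, nat_lit 12, nat_lit 15, nat_lit 16] (Rl.cmp (nat_lit 3010) (nat_lit 3509)))) (FT.leaf (Fct.mk false (nat_lit 32) (nat_lit 0) (nat_lit 32) [nat_lit 0, nat_lit 1, nat_lit 2, nat_lit 3, nat_lit 4, nat_lit 5, nat_lit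 2, nat_lit 0, nat_lit 1, nat_lit 4, nat_lit 3, nat_lit 2, nat_lit 8, nat_lit 3, nat_lit 11, nat_lit 2, nat_lit 8, nat_lit 10, nat_lit 1, nat_lit 16, nat_lit 15, nat_lit 14, nat_lit 16, nat_lit 8, nat_lit 19, nat_lit 16] (Rl.cmp (nat_lit 3010) (nat_lit 3510)))))))) (FT.node (nat_lit 3518) (FT.node (nat_lit 3515) (FT.node (nat_lit 3513) (FT.leaf (Fct.mk true (nat_lit 32) (nat_lit 81645) (nat_lit 32) [nat_lit 7, nat_lit 6, nat_lit 3, nat_lit 4, nat_lit 5, nat_lit 2, nat_lit 3, nat_lit 4, nat_lit 1, nat_lit 2, nat_lit 3, nat_lit 8, nat_lit 0, nat_lit 1, nat_lit 2, nat_lit 3, nat_lit 4, nat_lit 5, nat_lit 6, nat_lit 7, nat_lit 5, nat_lit 6, nat_lit 4, nat_lit 5, nat_lit 3, nat_lit 4, nat_lit 1, nat_lit 2, nat_lit 3, nat_lit 8, nat_lit 0, nat_lit 1, nat_lit 2, nat_lit 3, nat_lit 4, nat_lit 5, nat_lit 2, nat_lit 1, nat_lit 4, nat_lit 3, nat_lit 2,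 nat_lit 0, nat_lit 1, nat_lit 9, nat_lit 4, nat_lit 3, nat_lit 2, nat_lit 8, nat_lit 3, nat_lit 0, nat_lit 12, nat_lit 15, nat_lit 18, nat_lit 16] (Rl.rel (nat_lit 0) [nat_lit 8, nat_lit 3, nat_lit 4, nat_lit 2, nat_lit 3, nat_lit 8, nat_lit 1, nat_lit 2, nat_lit 3, nat_lit 4, nat_lit 5, nat_lit 6, nat_lit 7, nat_lit 4, nat_lit 5, nat_lit 2, nat_lit 3, nat_lit 4, nat_lit 1, nat_lit 2, nat_lit 3, nat_lit 8, nat_lit 0, nat_lit 1, nat_lit 2, nat_lit 3, nat_lit 4, nat_lit 5, nat_lit 10, nat_lit 16, nat_lit 14, nat_lit 12, nat_lit 18] (nat_lit 5) (nat_lit 1) [nat_lit 3382] [nat_lit 3507, nat_lit 3296]))) (FT.node (nat_lit 3514) (FT.leaf (Fct.mk true (nat_lit 32) (nat_lit 1319) (nat_lit 32) [nat_lit 7, nat_lit 6, nat_lit 3, nat_lit 4, nat_lit 5, nat_lit 2, nat_lit 3, nat_lit 4, nat_lit 1, nat_lit 2, nat_lit 3, nat_lit 8, nat_lit 0, nat_lit 1, nat_lit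 2, nat_lit 3, nat_lit 4, nat_lit 5, nat_lit 6, nat_lit 7, nat_lit 3, nat_lit 4, nat_lit 1, nat_lit 2, nat_lit 3, nat_lit 8, nat_lit 0, nat_lit 1, nat_lit 2, nat_lit 3, nat_lit 4, nat_lit 5, nat_lit 0, nat_lit 1, nat_lit 2, nat_lit 3, nat_lit 11, nat_lit 10, nat_lit 2, nat_lit 8, nat_lit 10, nat_lit 1, nat_lit 12, nat_lit 15, nat_lit 14, nat_lit 17, nat_lit 12, nat_lit 18, nat_lit 16] (Rl.t1 (nat_lit 3512) (nat_lit 3504)))) (FT.leaf (Fct.mk true (nat_lit 32) (nat_lit 4160) (nat_lit 32) [nat_lit 7, nat_lit 6, nat_lit 3, nat_lit 4, nat_lit 5, nat_lit 2, nat_lit 3, nat_lit 4, nat_lit 1, nat_lit 2, nat_lit 3, nat_lit 8, nat_lit 0, nat_lit 1, nat_lit 2, nat_lit 3, nat_lit 4, nat_lit 5, nat_lit 6, nat_lit 7, nat_lit 6, nat_lit 4, nat_lit 5, nat_lit 2, nat_lit 3, nat_lit 4, nat_lit 1, nat_lit 2, nat_lit 3, nat_lit 8, nat_lit 0, nat_lit 1, nat_lit 2,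 nat_lit 3, nat_lit 4, nat_lit 5, nat_lit 2, nat_lit 1, nat_lit 3, nat_lit 2, nat_lit 0, nat_lit 1, nat_lit 9, nat_lit 4, nat_lit 3, nat_lit 2, nat_lit 8, nat_lit 3, nat_lit 0, nat_lit 8, nat_lit 12, nat_lit 15, nat_lit 16, nat_lit 8, nat_lit 19, nat_lit 16] (Rl.inv (nat_lit 3513)))))) (FT.node (nat_lit 3516) (FT.leaf (Fct.mk true (nat_lit 32) (nat_lit 1087) (nat_lit 32) [nat_lit 7, nat_lit 6, nat_lit 3, nat_lit 4, nat_lit 5, nat_lit 2, nat_lit 3, nat_lit 4, nat_lit 1, nat_lit 2, nat_lit 3, nat_lit 8, nat_lit 0, nat_lit 1, nat_lit 2, nat_lit 3, nat_lit 4, nat_lit 5, nat_lit 6, nat_lit 7, nat_lit 4, nat_lit 3, nat_lit 8, nat_lit 2, nat_lit 3, nat_lit 4, nat_lit 1, nat_lit 2, nat_lit 3, nat_lit 8, nat_lit 0, nat_lit 1, nat_lit 2, nat_lit 3, nat_lit 4, nat_lit 5, nat_lit 3, nat_lit 2, nat_lit 1, nat_lit 9, nat_lit 4, nat_lit 3, nat_lit 2, nat_lit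 8, nat_lit 3, nat_lit 0, nat_lit 8, nat_lit 16, nat_lit 14, nat_lit 13, nat_lit 12, nat_lit 18] (Rl.t1 (nat_lit 3514) (nat_lit 3511)))) (FT.node (nat_lit 3517) (FT.leaf (Fct.mk false (nat_lit 32) (nat_lit 0) (nat_lit 32) [nat_lit 3, nat_lit 8, nat_lit 5, nat_lit 2, nat_lit 3, nat_lit 4, nat_lit 1, nat_lit 2, nat_lit 3, nat_lit 8, nat_lit 6, nat_lit 7, nat_lit 5, nat_lit 6, nat_lit 4, nat_lit 5, nat_lit 3, nat_lit 4, nat_lit 2, nat_lit 3, nat_lit 8, nat_lit 1, nat_lit 2, nat_lit 3, nat_lit 4, nat_lit 5, nat_lit 6, nat_lit 7, nat_lit 1, nat_lit 2, nat_lit 3, nat_lit 4, nat_lit 5, nat_lit 3, nat_lit 11, nat_lit 10, nat_lit 1, nat_lit 15, nat_lit 8, nat_lit 18, nat_lit 16] (Rl.cmp (nat_lit 3004) (nat_lit 3456)))) (FT.leaf (Fct.mk false (nat_lit 32) (nat_lit 0) (nat_lit 32) [nat_lit 8, nat_lit 3, nat_lit 4, nat_lit 2, nat_lit 3, nat_lit 8, nat_lit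 5, nat_lit 6, nat_lit 4, nat_lit 5, nat_lit 3, nat_lit 4, nat_lit 2, nat_lit 3, nat_lit 8, nat_lit 0, nat_lit 1, nat_lit 2, nat_lit 3, nat_lit 4, nat_lit 5, nat_lit 8, nat_lit 4, nat_lit 3, nat_lit 2, nat_lit 0, nat_lit 1, nat_lit 9, nat_lit 4, nat_lit 3, nat_lit 2, nat_lit 8, nat_lit 3, nat_lit 0, nat_lit 2, nat_lit 14, nat_lit 13, nat_lit 19, nat_lit 16] (Rl.cmp (nat_lit 3456) (nat_lit 3516))))))) (FT.node (nat_lit 3521) (FT.node (nat_lit 3519) (FT.leaf (Fct.mk false (nat_lit 32) (nat_lit 0) (nat_lit 32) [nat_lit 2, nat_lit 3, nat_lit 8, nat_lit 6, nat_lit 4, nat_lit 5, nat_lit 3, nat_lit 4, nat_lit 2, nat_lit 3, nat_lit 8, nat_lit 0, nat_lit 1, nat_lit 2, nat_lit 3, nat_lit 4, nat_lit 5, nat_lit 1, nat_lit 8, nat_lit 4, nat_lit 3, nat_lit 2, nat_lit 0, nat_lit 1, nat_lit 9, nat_lit 4, nat_lit 3, nat_lit 2, nat_lit 8, nat_lit 3, nat_lit 11,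 nat_lit 16, nat_lit 14, nat_lit 8, nat_lit 19, nat_lit 16] (Rl.cmp (nat_lit 3004) (nat_lit 3517)))) (FT.node (nat_lit 3520) (FT.leaf (Fct.mk false (nat_lit 5) (nat_lit 0) (nat_lit 5) [nat_lit 8, nat_lit 3, nat_lit 4, nat_lit 2, nat_lit 3, nat_lit 8, nat_lit 7, nat_lit 5, nat_lit 6, nat_lit 4, nat_lit 5, nat_lit 3, nat_lit 4, nat_lit 2, nat_lit 3, nat_lit 8, nat_lit 0, nat_lit 1, nat_lit 2, nat_lit 3, nat_lit 4, nat_lit 5, nat_lit 6, nat_lit 7, nat_lit 6, nat_lit 5, nat_lit 4, nat_lit 3, nat_lit 8, nat_lit 1, nat_lit 2, nat_lit 3, nat_lit 4, nat_lit 5, nat_lit 1, nat_lit 3, nat_lit 2, nat_lit 8, nat_lit 3, nat_lit 11, nat_lit 10, nat_lit 2, nat_lit 8, nat_lit 10, nat_lit 1, nat_lit 8, nat_lit 16, nat_lit 14, nat_lit 17, nat_lit 18] (Rl.cmp (nat_lit 2491) (nat_lit 2094)))) (FT.leaf (Fct.mk false (nat_lit 5) (nat_lit 0) (nat_lit 5) [nat_lit 8,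 nat_lit 3, nat_lit 4, nat_lit 2, nat_lit 3, nat_lit 8, nat_lit 7, nat_lit 5, nat_lit 6, nat_lit 4, nat_lit 5, nat_lit 3, nat_lit 4, nat_lit 2, nat_lit 3, nat_lit 8, nat_lit 0, nat_lit 1, nat_lit 2, nat_lit 3, nat_lit 4, nat_lit 5, nat_lit 6, nat_lit 7, nat_lit 2, nat_lit 3, nat_lit 8, nat_lit 4, nat_lit 5, nat_lit 3, nat_lit 4, nat_lit 2, nat_lit 3, nat_lit 8, nat_lit 1, nat_lit 2, nat_lit 3, nat_lit 4, nat_lit 5, nat_lit 2, nat_lit 1, nat_lit 4, nat_lit 3, nat_lit 2, nat_lit 8, nat_lit 3, nat_lit 10, nat_lit 0, nat_lit 15, nat_lit 18] (Rl.cmp (nat_lit 493) (nat_lit 3519)))))) (FT.node (nat_lit 3523) (FT.node (nat_lit 3522) (FT.leaf (Fct.mk false (nat_lit 5) (nat_lit 0) (nat_lit 5) [nat_lit 4, nat_lit 3, nat_lit 8, nat_lit 2, nat_lit 3, nat_lit 4, nat_lit 1, nat_lit 2, nat_lit 3, nat_lit 8, nat_lit 6, nat_lit 7, nat_lit 5, nat_lit 6, nat_lit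 4, nat_lit 5, nat_lit 3, nat_lit 4, nat_lit 2, nat_lit 3, nat_lit 8, nat_lit 1, nat_lit 2, nat_lit 3, nat_lit 4, nat_lit 5, nat_lit 6, nat_lit 7, nat_lit 8, nat_lit 3, nat_lit 4, nat_lit 2, nat_lit 3, nat_lit 8, nat_lit 5, nat_lit 6, nat_lit 4, nat_lit 5, nat_lit 3, nat_lit 4, nat_lit 2, nat_lit 3, nat_lit 8, nat_lit 0, nat_lit 1, nat_lit 2, nat_lit 3, nat_lit 4, nat_lit 5, nat_lit 8, nat_lit 3, nat_lit 2, nat_lit 0, nat_lit 1, nat_lit 9, nat_lit 4, nat_lit 3, nat_lit 2, nat_lit 8, nat_lit 3, nat_lit 10, nat_lit 8, nat_lit 16, nat_lit 14, nat_lit 16, nat_lit 8, nat_lit 19] (Rl.cmp (nat_lit 1859) (nat_lit 3520)))) (FT.leaf (Fct.mk false (nat_lit 5) (nat_lit 0) (nat_lit 5) [nat_lit 8, nat_lit 4, nat_lit 5, nat_lit 2, nat_lit 3, nat_lit 4, nat_lit 1, nat_lit 2, nat_lit 3, nat_lit 8, nat_lit 6, nat_lit 7, nat_lit 5, nat_lit 6, nat_lit 4, nat_lit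 5, nat_lit 3, nat_lit 4, nat_lit 2, nat_lit 3, nat_lit 8, nat_lit 1, nat_lit 2, nat_lit 3, nat_lit 4, nat_lit 5, nat_lit 6, nat_lit 7, nat_lit 5, nat_lit 6, nat_lit 4, nat_lit 5, nat_lit 3, nat_lit 4, nat_lit 2, nat_lit 3, nat_lit 8, nat_lit 1, nat_lit 2, nat_lit 3, nat_lit 4, nat_lit 5, nat_lit 2, nat_lit 3, nat_lit 8, nat_lit 4, nat_lit 3, nat_lit 2, nat_lit 0, nat_lit 1, nat_lit 9, nat_lit 4, nat_lit 3, nat_lit 2, nat_lit 8, nat_lit 3, nat_lit 11, nat_lit 2, nat_lit 10, nat_lit 1, nat_lit 12] (Rl.cmp (nat_lit 2094) (nat_lit 3521))))) (FT.node (nat_lit 3524) (FT.leaf (Fct.mk true (nat_lit 32) (nat_lit 28508) (nat_lit 5) [nat_lit 3, nat_lit 4, nat_lit 2, nat_lit 3, nat_lit 8, nat_lit 1, nat_lit 2, nat_lit 3, nat_lit 4, nat_lit 5, nat_lit 6, nat_lit 7, nat_lit 3, nat_lit 8, nat_lit 6, nat_lit 4, nat_lit 5, nat_lit 3, nat_lit 4, nat_lit 2, nat_lit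 3, nat_lit 8, nat_lit 1, nat_lit 2, nat_lit 3, nat_lit 4, nat_lit 5, nat_lit 3, nat_lit 2, nat_lit 1, nat_lit 4, nat_lit 3, nat_lit 2, nat_lit 8, nat_lit 3, nat_lit 1, nat_lit 16, nat_lit 15, nat_lit 14, nat_lit 17] (Rl.rel (nat_lit 0) [nat_lit 3, nat_lit 8, nat_lit 2, nat_lit 3, nat_lit 4, nat_lit 5, nat_lit 6, nat_lit 7, nat_lit 8, nat_lit 4, nat_lit 5, nat_lit 3, nat_lit 4, nat_lit 1, nat_lit 2, nat_lit 3, nat_lit 8, nat_lit 0, nat_lit 1, nat_lit 2, nat_lit 3, nat_lit 4, nat_lit 5, nat_lit 2, nat_lit 1, nat_lit 8, nat_lit 3, nat_lit 2, nat_lit 0, nat_lit 1, nat_lit 4, nat_lit 3, nat_lit 2, nat_lit 8, nat_lit 3, nat_lit 8, nat_lit 10, nat_lit 16, nat_lit 14, nat_lit 17, nat_lit 19, nat_lit 16] (nat_lit 5) (nat_lit 1) [nat_lit 3382] [nat_lit 3522, nat_lit 2098, nat_lit 2425]))) (FT.leaf (Fct.mk true (nat_lit 32) (nat_lit 3247) (nat_lit 5)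 [nat_lit 8, nat_lit 2, nat_lit 3, nat_lit 4, nat_lit 1, nat_lit 2, nat_lit 3, nat_lit 8, nat_lit 5, nat_lit 6, nat_lit 4, nat_lit 5, nat_lit 3, nat_lit 4, nat_lit 2, nat_lit 3, nat_lit 8, nat_lit 1, nat_lit 2, nat_lit 3, nat_lit 4, nat_lit 5, nat_lit 6, nat_lit 7, nat_lit 6, nat_lit 5, nat_lit 4, nat_lit 3, nat_lit 8, nat_lit 2, nat_lit 3, nat_lit 4, nat_lit 5, nat_lit 1, nat_lit 2, nat_lit 8, nat_lit 3, nat_lit 11, nat_lit 2, nat_lit 8, nat_lit 10, nat_lit 1, nat_lit 14, nat_lit 13, nat_lit 12, nat_lit 18, nat_lit 16] (Rl.t1 (nat_lit 3523) (nat_lit 3518))))))))) (FT.node (nat_lit 3537) (FT.node (nat_lit 3531) (FT.node (nat_lit 3528) (FT.node (nat_lit 3526) (FT.leaf (Fct.mk true (nat_lit 5) (nat_lit 14707) (nat_lit 32) [nat_lit 2, nat_lit 3, nat_lit 4, nat_lit 1, nat_lit 2, nat_lit 3, nat_lit 8, nat_lit 5, nat_lit 6, nat_lit 4, nat_lit 5, nat_lit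 3, nat_lit 4, nat_lit 2, nat_lit 3, nat_lit 8, nat_lit 1, nat_lit 2, nat_lit 3, nat_lit 4, nat_lit 5, nat_lit 6, nat_lit 7, nat_lit 1, nat_lit 2, nat_lit 3, nat_lit 8, nat_lit 6, nat_lit 4, nat_lit 5, nat_lit 3, nat_lit 4, nat_lit 2, nat_lit 3, nat_lit 8, nat_lit 1, nat_lit 2, nat_lit 3, nat_lit 4, nat_lit 5, nat_lit 1, nat_lit 4, nat_lit 3, nat_lit 2, nat_lit 8, nat_lit 3, nat_lit 11, nat_lit 8, nat_lit 10, nat_lit 1, nat_lit 14, nat_lit 13, nat_lit 18] (Rl.inv (nat_lit 3524)))) (FT.node (nat_lit 3527) (FT.leaf (Fct.mk true (nat_lit 5) (nat_lit 1913) (nat_lit 32) [nat_lit 8, nat_lit 3, nat_lit 4, nat_lit 2, nat_lit 3, nat_lit 8, nat_lit 1, nat_lit 2, nat_lit 3, nat_lit 4, nat_lit 5, nat_lit 6, nat_lit 7, nat_lit 4, nat_lit 3, nat_lit 8, nat_lit 2, nat_lit 3, nat_lit 4, nat_lit 1, nat_lit 2, nat_lit 3, nat_lit 8, nat_lit 0, nat_lit 1, nat_lit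 2, nat_lit 3, nat_lit 4, nat_lit 5, nat_lit 1, nat_lit 2, nat_lit 3, nat_lit 16, nat_lit 12, nat_lit 15, nat_lit 14, nat_lit 12, nat_lit 16] (Rl.t1 (nat_lit 3525) (nat_lit 2941)))) (FT.leaf (Fct.mk false (nat_lit 32) (nat_lit 0) (nat_lit 32) [nat_lit 5, nat_lit 6, nat_lit 4, nat_lit 5, nat_lit 3, nat_lit 4, nat_lit 2, nat_lit 3, nat_lit 8, nat_lit 1, nat_lit 2, nat_lit 3, nat_lit 4, nat_lit 5, nat_lit 1, nat_lit 9, nat_lit 4, nat_lit 3, nat_lit 2, nat_lit 8, nat_lit 3, nat_lit 11, nat_lit 10, nat_lit 1, nat_lit 12, nat_lit 15, nat_lit 14, nat_lit 18, nat_lit 16] (Rl.cmp (nat_lit 3004) (nat_lit 3010)))))) (FT.node (nat_lit 3529) (FT.leaf (Fct.mk false (nat_lit 32) (nat_lit 0) (nat_lit 32) [nat_lit 3, nat_lit 8, nat_lit 6, nat_lit 4, nat_lit 5, nat_lit 3, nat_lit 4, nat_lit 2, nat_lit 3, nat_lit 8, nat_lit 0, nat_lit 1, nat_lit 2, nat_lit 3,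 nat_lit 4, nat_lit 5, nat_lit 2, nat_lit 1, nat_lit 8, nat_lit 4, nat_lit 3, nat_lit 2, nat_lit 0, nat_lit 1, nat_lit 9, nat_lit 4, nat_lit 3, nat_lit 2, nat_lit 8, nat_lit 3, nat_lit 10, nat_lit 1, nat_lit 16, nat_lit 14, nat_lit 17, nat_lit 16] (Rl.cmp (nat_lit 3004) (nat_lit 3527)))) (FT.node (nat_lit 3530) (FT.leaf (Fct.mk false (nat_lit 32) (nat_lit 0) (nat_lit 32) [nat_lit 3, nat_lit 8, nat_lit 5, nat_lit 2, nat_lit 3, nat_lit 4, nat_lit 1, nat_lit 2, nat_lit 3, nat_lit 8, nat_lit 6, nat_lit 7, nat_lit 5, nat_lit 6, nat_lit 4, nat_lit 5, nat_lit 3, nat_lit 4, nat_lit 2, nat_lit 3, nat_lit 8, nat_lit 1, nat_lit 2, nat_lit 3, nat_lit 4, nat_lit 5, nat_lit 6, nat_lit 7, nat_lit 2, nat_lit 3, nat_lit 8, nat_lit 1, nat_lit 2, nat_lit 3, nat_lit 4, nat_lit 5, nat_lit 3, nat_lit 2, nat_lit 1, nat_lit 4, nat_lit 3, nat_lit 2, nat_lit 0, nat_lit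 1, nat_lit 9, nat_lit 4, nat_lit 3, nat_lit 2, nat_lit 8, nat_lit 3, nat_lit 1, nat_lit 15, nat_lit 13, nat_lit 12, nat_lit 18, nat_lit 16] (Rl.cmp (nat_lit 3456) (nat_lit 3528)))) (FT.leaf (Fct.mk false (nat_lit 32) (nat_lit 0) (nat_lit 32) [nat_lit 3, nat_lit 8, nat_lit 5, nat_lit 2, nat_lit 3, nat_lit 4, nat_lit 1, nat_lit 2, nat_lit 3, nat_lit 8, nat_lit 6, nat_lit 7, nat_lit 5, nat_lit 6, nat_lit 4, nat_lit 5, nat_lit 3, nat_lit 4, nat_lit 2, nat_lit 3, nat_lit 8, nat_lit 1, nat_lit 2, nat_lit 3, nat_lit 4, nat_lit 5, nat_lit 6, nat_lit 7, nat_lit 3, nat_lit 4, nat_lit 2, nat_lit 3, nat_lit 8, nat_lit 0, nat_lit 1, nat_lit 2, nat_lit 3, nat_lit 4, nat_lit 5, nat_lit 8, nat_lit 4, nat_lit 3, nat_lit 2, nat_lit 1, nat_lit 9, nat_lit 4, nat_lit 3, nat_lit 2, nat_lit 8, nat_lit 3, nat_lit 11, nat_lit 8, nat_lit 10, nat_lit 1, nat_lit 8, nat_lit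 12, nat_lit 15, nat_lit 14, nat_lit 17, nat_lit 12, nat_lit 19] (Rl.cmp (nat_lit 3047) (nat_lit 3529))))))) (FT.node (nat_lit 3534) (FT.node (nat_lit 3532) (FT.leaf (Fct.mk false (nat_lit 32) (nat_lit 0) (nat_lit 32) [nat_lit 3, nat_lit 8, nat_lit 5, nat_lit 2, nat_lit 3, nat_lit 4, nat_lit 1, nat_lit 2, nat_lit 3, nat_lit 8, nat_lit 6, nat_lit 7, nat_lit 5, nat_lit 6, nat_lit 4, nat_lit 5, nat_lit 3, nat_lit 4, nat_lit 2, nat_lit 3, nat_lit 8, nat_lit 1, nat_lit 2, nat_lit 3, nat_lit 4, nat_lit 5, nat_lit 6, nat_lit 7, nat_lit 6, nat_lit 5, nat_lit 4, nat_lit 2, nat_lit 3, nat_lit 8, nat_lit 0, nat_lit 1, nat_lit 2, nat_lit 3, nat_lit 4, nat_lit 5, nat_lit 1, nat_lit 2, nat_lit 3, nat_lit 11, nat_lit 10, nat_lit 15, nat_lit 8, nat_lit 18] (Rl.cmp (nat_lit 3047) (nat_lit 3530)))) (FT.node (nat_lit 3533) (FT.leaf (Fct.mk false (nat_lit 32) (nat_lit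 0) (nat_lit 32) [nat_lit 3, nat_lit 8, nat_lit 6, nat_lit 4, nat_lit 5, nat_lit 3, nat_lit 4, nat_lit 2, nat_lit 3, nat_lit 8, nat_lit 1, nat_lit 2, nat_lit 3, nat_lit 4, nat_lit 5, nat_lit 1, nat_lit 8, nat_lit 4, nat_lit 3, nat_lit 2, nat_lit 0, nat_lit 1, nat_lit 9, nat_lit 4, nat_lit 3, nat_lit 2, nat_lit 8, nat_lit 3, nat_lit 11, nat_lit 2, nat_lit 10, nat_lit 1, nat_lit 16, nat_lit 14, nat_lit 18, nat_lit 16] (Rl.cmp (nat_lit 3047) (nat_lit 3004)))) (FT.leaf (Fct.mk false (nat_lit 32) (nat_lit 0) (nat_lit 32) [nat_lit 3, nat_lit 8, nat_lit 5, nat_lit 2, nat_lit 3, nat_lit 4, nat_lit 1, nat_lit 2, nat_lit 3, nat_lit 8, nat_lit 6, nat_lit 7, nat_lit 5, nat_lit 6, nat_lit 4, nat_lit 5, nat_lit 3, nat_lit 4, nat_lit 2, nat_lit 3, nat_lit 8, nat_lit 1, nat_lit 2, nat_lit 3, nat_lit 4, nat_lit 5, nat_lit 6, nat_lit 7, nat_lit 4, nat_lit 3,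 nat_lit 8, nat_lit 0, nat_lit 1, nat_lit 2, nat_lit 3, nat_lit 4, nat_lit 5, nat_lit 1, nat_lit 2, nat_lit 3, nat_lit 1, nat_lit 0, nat_lit 2, nat_lit 16, nat_lit 12, nat_lit 15, nat_lit 14, nat_lit 13, nat_lit 12] (Rl.cmp (nat_lit 3456) (nat_lit 3532)))))) (FT.node (nat_lit 3535) (FT.leaf (Fct.mk false (nat_lit 32) (nat_lit 0) (nat_lit 32) [nat_lit 3, nat_lit 8, nat_lit 5, nat_lit 2, nat_lit 3, nat_lit 4, nat_lit 1, nat_lit 2, nat_lit 3, nat_lit 8, nat_lit 6, nat_lit 7, nat_lit 5, nat_lit 6, nat_lit 4, nat_lit 5, nat_lit 3, nat_lit 4, nat_lit 2, nat_lit 3, nat_lit 8, nat_lit 1, nat_lit 2, nat_lit 3, nat_lit 4, nat_lit 5, nat_lit 6, nat_lit 7, nat_lit 2, nat_lit 3, nat_lit 8, nat_lit 6, nat_lit 4, nat_lit 5, nat_lit 3, nat_lit 4, nat_lit 2, nat_lit 3, nat_lit 8, nat_lit 0, nat_lit 1, nat_lit 2, nat_lit 3, nat_lit 4, nat_lit 5, nat_lit 8, nat_lit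 3, nat_lit 2, nat_lit 1, nat_lit 4, nat_lit 3, nat_lit 2, nat_lit 8, nat_lit 3, nat_lit 11, nat_lit 15, nat_lit 17, nat_lit 12, nat_lit 19] (Rl.cmp (nat_lit 3010) (nat_lit 3533)))) (FT.node (nat_lit 3536) (FT.leaf (Fct.mk false (nat_lit 32) (nat_lit 0) (nat_lit 32) [nat_lit 3, nat_lit 8, nat_lit 5, nat_lit 2, nat_lit 3, nat_lit 4, nat_lit 1, nat_lit 2, nat_lit 3, nat_lit 8, nat_lit 6, nat_lit 7, nat_lit 5, nat_lit 6, nat_lit 4, nat_lit 5, nat_lit 3, nat_lit 4, nat_lit 2, nat_lit 3, nat_lit 8, nat_lit 1, nat_lit 2, nat_lit 3, nat_lit 4, nat_lit 5, nat_lit 6, nat_lit 7, nat_lit 4, nat_lit 5, nat_lit 3, nat_lit 4, nat_lit 2, nat_lit 3, nat_lit 8, nat_lit 1, nat_lit 2, nat_lit 3, nat_lit 4, nat_lit 5, nat_lit 4, nat_lit 3, nat_lit 2, nat_lit 0, nat_lit 1, nat_lit 9, nat_lit 4, nat_lit 3, nat_lit 2, nat_lit 8, nat_lit 3, nat_lit 10, nat_lit 0, nat_lit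 8, nat_lit 16, nat_lit 14, nat_lit 17, nat_lit 19] (Rl.cmp (nat_lit 3004) (nat_lit 3534)))) (FT.leaf (Fct.mk false (nat_lit 32) (nat_lit 0) (nat_lit 32) [nat_lit 6, nat_lit 5, nat_lit 4, nat_lit 3, nat_lit 8, nat_lit 2, nat_lit 3, nat_lit 4, nat_lit 5, nat_lit 0, nat_lit 1, nat_lit 4, nat_lit 3, nat_lit 2, nat_lit 8, nat_lit 3, nat_lit 10, nat_lit 2, nat_lit 8, nat_lit 10, nat_lit 1, nat_lit 14] (Rl.cmp (nat_lit 3456) (nat_lit 3535)))))))) (FT.node (nat_lit 3543) (FT.node (nat_lit 3540) (FT.node (nat_lit 3538) (FT.leaf (Fct.mk false (nat_lit 5) (nat_lit 0) (nat_lit 5) [nat_lit 4, nat_lit 5, nat_lit 4, nat_lit 10, nat_lit 1] (Rl.cmp (nat_lit 1754) (nat_lit 470)))) (FT.node (nat_lit 3539) (FT.leaf (Fct.mk false (nat_lit 5) (nat_lit 0) (nat_lit 5) [nat_lit 2, nat_lit 3, nat_lit 4, nat_lit 5, nat_lit 0, nat_lit 1, nat_lit 2, nat_lit 3, nat_lit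 10, nat_lit 1, nat_lit 12, nat_lit 15, nat_lit 12, nat_lit 16] (Rl.cmp (nat_lit 511) (nat_lit 3537)))) (FT.leaf (Fct.mk false (nat_lit 5) (nat_lit 0) (nat_lit 5) [nat_lit 8, nat_lit 3, nat_lit 4, nat_lit 2, nat_lit 3, nat_lit 8, nat_lit 7, nat_lit 5, nat_lit 6, nat_lit 4, nat_lit 5, nat_lit 3, nat_lit 4, nat_lit 2, nat_lit 3, nat_lit 8, nat_lit 0, nat_lit 1, nat_lit 2, nat_lit 3, nat_lit 4, nat_lit 5, nat_lit 6, nat_lit 7, nat_lit 6, nat_lit 8, nat_lit 4, nat_lit 3, nat_lit 2, nat_lit 1, nat_lit 9, nat_lit 4, nat_lit 3, nat_lit 2, nat_lit 8, nat_lit 3, nat_lit 2, nat_lit 8, nat_lit 10, nat_lit 1, nat_lit 16, nat_lit 14, nat_lit 8, nat_lit 19, nat_lit 16] (Rl.cmp (nat_lit 2491) (nat_lit 3538)))))) (FT.node (nat_lit 3541) (FT.leaf (Fct.mk false (nat_lit 5) (nat_lit 0) (nat_lit 5) [nat_lit 4, nat_lit 3, nat_lit 8, nat_lit 2, nat_lit 3, nat_lit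 4, nat_lit 1, nat_lit 2, nat_lit 3, nat_lit 8, nat_lit 6, nat_lit 7, nat_lit 5, nat_lit 6, nat_lit 4, nat_lit 5, nat_lit 3, nat_lit 4, nat_lit 2, nat_lit 3, nat_lit 8, nat_lit 1, nat_lit 2, nat_lit 3, nat_lit 4, nat_lit 5, nat_lit 6, nat_lit 7, nat_lit 6, nat_lit 5, nat_lit 4, nat_lit 3, nat_lit 8, nat_lit 2, nat_lit 3, nat_lit 4, nat_lit 1, nat_lit 2, nat_lit 3, nat_lit 8, nat_lit 5, nat_lit 6, nat_lit 4, nat_lit 5, nat_lit 3, nat_lit 4, nat_lit 2, nat_lit 3, nat_lit 8, nat_lit 1, nat_lit 2, nat_lit 3, nat_lit 4, nat_lit 5, nat_lit 11, nat_lit 10, nat_lit 1, nat_lit 13, nat_lit 16] (Rl.cmp (nat_lit 1859) (nat_lit 3539)))) (FT.node (nat_lit 3542) (FT.leaf (Fct.mk true (nat_lit 32) (nat_lit 17846) (nat_lit 5) [nat_lit 5, nat_lit 4, nat_lit 3, nat_lit 8, nat_lit 2, nat_lit 3, nat_lit 4, nat_lit 1, nat_lit 2, nat_lit 3, nat_lit 8, nat_lit 5, nat_lit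 6, nat_lit 4, nat_lit 5, nat_lit 3, nat_lit 4, nat_lit 2, nat_lit 3, nat_lit 8, nat_lit 1, nat_lit 2, nat_lit 3, nat_lit 4, nat_lit 5, nat_lit 6, nat_lit 7, nat_lit 3, nat_lit 8, nat_lit 6, nat_lit 5, nat_lit 2, nat_lit 3, nat_lit 4, nat_lit 1, nat_lit 2, nat_lit 3, nat_lit 8, nat_lit 0, nat_lit 1, nat_lit 2, nat_lit 3, nat_lit 4, nat_lit 5, nat_lit 4, nat_lit 3, nat_lit 2, nat_lit 1, nat_lit 9, nat_lit 4, nat_lit 3, nat_lit 2, nat_lit 8, nat_lit 3, nat_lit 1, nat_lit 14, nat_lit 16, nat_lit 8, nat_lit 18, nat_lit 16] (Rl.rel (nat_lit 0) [nat_lit 3, nat_lit 8, nat_lit 2, nat_lit 3, nat_lit 4, nat_lit 5, nat_lit 6, nat_lit 7, nat_lit 8, nat_lit 4, nat_lit 5, nat_lit 3, nat_lit 4, nat_lit 1, nat_lit 2, nat_lit 3, nat_lit 8, nat_lit 0, nat_lit 1, nat_lit 2, nat_lit 3, nat_lit 4, nat_lit 5, nat_lit 3, nat_lit 2, nat_lit 1, nat_lit 8, nat_lit 3,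 nat_lit 2, nat_lit 0, nat_lit 1, nat_lit 4, nat_lit 3, nat_lit 2, nat_lit 8, nat_lit 3, nat_lit 8, nat_lit 16, nat_lit 14, nat_lit 17, nat_lit 19, nat_lit 16] (nat_lit 5) (nat_lit 2) [nat_lit 3382, nat_lit 3531, nat_lit 3257] []))) (FT.leaf (Fct.mk true (nat_lit 32) (nat_lit 4188) (nat_lit 5) [nat_lit 6, nat_lit 5, nat_lit 4, nat_lit 3, nat_lit 8, nat_lit 2, nat_lit 3, nat_lit 4, nat_lit 1, nat_lit 2, nat_lit 3, nat_lit 8, nat_lit 5, nat_lit 6, nat_lit 4, nat_lit 5, nat_lit 3, nat_lit 4, nat_lit 2, nat_lit 3, nat_lit 8, nat_lit 1, nat_lit 2, nat_lit 3, nat_lit 4, nat_lit 5, nat_lit 6, nat_lit 7, nat_lit 3, nat_lit 8, nat_lit 6, nat_lit 4, nat_lit 5, nat_lit 3, nat_lit 4, nat_lit 1, nat_lit 2, nat_lit 3, nat_lit 8, nat_lit 0, nat_lit 1, nat_lit 2, nat_lit 3, nat_lit 4, nat_lit 5, nat_lit 3, nat_lit 8, nat_lit 4, nat_lit 3, nat_lit 2, nat_lit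 0, nat_lit 1, nat_lit 9, nat_lit 4, nat_lit 3, nat_lit 2, nat_lit 8, nat_lit 3, nat_lit 11, nat_lit 8, nat_lit 10, nat_lit 1, nat_lit 8, nat_lit 16, nat_lit 15, nat_lit 14, nat_lit 13, nat_lit 19] (Rl.t1 (nat_lit 3541) (nat_lit 3536))))))) (FT.node (nat_lit 3546) (FT.node (nat_lit 3544) (FT.leaf (Fct.mk true (nat_lit 5) (nat_lit 51147) (nat_lit 32) [nat_lit 3, nat_lit 8, nat_lit 5, nat_lit 6, nat_lit 4, nat_lit 5, nat_lit 3, nat_lit 4, nat_lit 2, nat_lit 3, nat_lit 8, nat_lit 1, nat_lit 2, nat_lit 3, nat_lit 4, nat_lit 5, nat_lit 6, nat_lit 7, nat_lit 6, nat_lit 3, nat_lit 4, nat_lit 5, nat_lit 2, nat_lit 3, nat_lit 4, nat_lit 1, nat_lit 2, nat_lit 3, nat_lit 8, nat_lit 0, nat_lit 1, nat_lit 2, nat_lit 3, nat_lit 4, nat_lit 5, nat_lit 0, nat_lit 1, nat_lit 2, nat_lit 3, nat_lit 10, nat_lit 15, nat_lit 14, nat_lit 13, nat_lit 16] (Rl.inv (nat_lit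 3542)))) (FT.node (nat_lit 3545) (FT.leaf (Fct.mk true (nat_lit 5) (nat_lit 1918) (nat_lit 32) [nat_lit 4, nat_lit 2, nat_lit 3, nat_lit 8, nat_lit 0, nat_lit 1, nat_lit 2, nat_lit 3, nat_lit 4, nat_lit 5, nat_lit 6, nat_lit 7, nat_lit 6, nat_lit 5, nat_lit 2, nat_lit 3, nat_lit 4, nat_lit 1, nat_lit 2, nat_lit 3, nat_lit 8, nat_lit 0, nat_lit 1, nat_lit 2, nat_lit 3, nat_lit 4, nat_lit 5, nat_lit 9, nat_lit 4, nat_lit 13] (Rl.t1 (nat_lit 3543) (nat_lit 3540)))) (FT.leaf (Fct.mk false (nat_lit 32) (nat_lit 0) (nat_lit 32) [nat_lit 3, nat_lit 8, nat_lit 5, nat_lit 2, nat_lit 3, nat_lit 4, nat_lit 1, nat_lit 2, nat_lit 3, nat_lit 8, nat_lit 6, nat_lit 7, nat_lit 5, nat_lit 6, nat_lit 4, nat_lit 5, nat_lit 3, nat_lit 4, nat_lit 2, nat_lit 3, nat_lit 8, nat_lit 1, nat_lit 2, nat_lit 3, nat_lit 4, nat_lit 5, nat_lit 6, nat_lit 7, nat_lit 4, nat_lit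 5, nat_lit 3, nat_lit 4, nat_lit 2, nat_lit 3, nat_lit 8, nat_lit 1, nat_lit 2, nat_lit 3, nat_lit 4, nat_lit 5, nat_lit 3, nat_lit 2, nat_lit 0, nat_lit 1, nat_lit 9, nat_lit 4, nat_lit 3, nat_lit 2, nat_lit 8, nat_lit 3, nat_lit 2, nat_lit 8, nat_lit 10, nat_lit 1, nat_lit 16, nat_lit 15, nat_lit 14, nat_lit 17, nat_lit 12, nat_lit 18] (Rl.cmp (nat_lit 3010) (nat_lit 3456)))))) (FT.node (nat_lit 3548) (FT.node (nat_lit 3547) (FT.leaf (Fct.mk false (nat_lit 32) (nat_lit 0) (nat_lit 32) [nat_lit 3, nat_lit 8, nat_lit 5, nat_lit 2, nat_lit 3, nat_lit 4, nat_lit 1, nat_lit 2, nat_lit 3, nat_lit 8, nat_lit 6, nat_lit 7, nat_lit 5, nat_lit 6, nat_lit 4, nat_lit 5, nat_lit 3, nat_lit 4, nat_lit 2, nat_lit 3, nat_lit 8, nat_lit 1, nat_lit 2, nat_lit 3, nat_lit 4, nat_lit 5, nat_lit 6, nat_lit 7, nat_lit 5, nat_lit 6, nat_lit 4, nat_lit 5, nat_lit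 3, nat_lit 4, nat_lit 2, nat_lit 3, nat_lit 8, nat_lit 1, nat_lit 2, nat_lit 3, nat_lit 4, nat_lit 5, nat_lit 0, nat_lit 1, nat_lit 2, nat_lit 8, nat_lit 3, nat_lit 9, nat_lit 16, nat_lit 12, nat_lit 15, nat_lit 14, nat_lit 8, nat_lit 19] (Rl.cmp (nat_lit 3004) (nat_lit 3545)))) (FT.leaf (Fct.mk false (nat_lit 32) (nat_lit 0) (nat_lit 32) [nat_lit 3, nat_lit 8, nat_lit 5, nat_lit 2, nat_lit 3, nat_lit 4, nat_lit 1, nat_lit 2, nat_lit 3, nat_lit 8, nat_lit 6, nat_lit 7, nat_lit 5, nat_lit 6, nat_lit 4, nat_lit 5, nat_lit 3, nat_lit 4, nat_lit 2, nat_lit 3, nat_lit 8, nat_lit 1, nat_lit 2, nat_lit 3, nat_lit 4, nat_lit 5, nat_lit 6, nat_lit 7, nat_lit 3, nat_lit 8, nat_lit 6, nat_lit 4, nat_lit 5, nat_lit 3, nat_lit 4, nat_lit 2, nat_lit 3, nat_lit 8, nat_lit 1, nat_lit 2, nat_lit 3, nat_lit 4, nat_lit 5, nat_lit 3, nat_lit 2, nat_lit 0, nat_lit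 1, nat_lit 4, nat_lit 3, nat_lit 2, nat_lit 8, nat_lit 3, nat_lit 15, nat_lit 13, nat_lit 18, nat_lit 16] (Rl.cmp (nat_lit 3047) (nat_lit 3546))))) (FT.node (nat_lit 3549) (FT.leaf (Fct.mk false (nat_lit 32) (nat_lit 0) (nat_lit 32) [nat_lit 3, nat_lit 8, nat_lit 5, nat_lit 2, nat_lit 3, nat_lit 4, nat_lit 1, nat_lit 2, nat_lit 3, nat_lit 8, nat_lit 6, nat_lit 7, nat_lit 5, nat_lit 6, nat_lit 4, nat_lit 5, nat_lit 3, nat_lit 4, nat_lit 2, nat_lit 3, nat_lit 8, nat_lit 1, nat_lit 2, nat_lit 3, nat_lit 4, nat_lit 5, nat_lit 6, nat_lit 7, nat_lit 8, nat_lit 3, nat_lit 4, nat_lit 2, nat_lit 3, nat_lit 8, nat_lit 1, nat_lit 2, nat_lit 3, nat_lit 4, nat_lit 5, nat_lit 2, nat_lit 1, nat_lit 4, nat_lit 3, nat_lit 2, nat_lit 0, nat_lit 1, nat_lit 9, nat_lit 4, nat_lit 3, nat_lit 2, nat_lit 8, nat_lit 3, nat_lit 1, nat_lit 12, nat_lit 15, nat_lit 14,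 nat_lit 12, nat_lit 19] (Rl.cmp (nat_lit 3010) (nat_lit 3547)))) (FT.leaf (Fct.mk true (nat_lit 32) (nat_lit 103955) (nat_lit 32) [nat_lit 8, nat_lit 6, nat_lit 7, nat_lit 5, nat_lit 6, nat_lit 4, nat_lit 5, nat_lit 3, nat_lit 4, nat_lit 1, nat_lit 2, nat_lit 3, nat_lit 8, nat_lit 0, nat_lit 1, nat_lit 2, nat_lit 3, nat_lit 4, nat_lit 5, nat_lit 6, nat_lit 7, nat_lit 8, nat_lit 1, nat_lit 2, nat_lit 3, nat_lit 4, nat_lit 5, nat_lit 9, nat_lit 4, nat_lit 10, nat_lit 0, nat_lit 12, nat_lit 15, nat_lit 14, nat_lit 17, nat_lit 18, nat_lit 16] (Rl.rel (nat_lit 0) [nat_lit 8, nat_lit 3, nat_lit 4, nat_lit 2, nat_lit 3, nat_lit 8, nat_lit 1, nat_lit 2, nat_lit 3, nat_lit 4, nat_lit 5, nat_lit 6, nat_lit 7, nat_lit 4, nat_lit 3, nat_lit 8, nat_lit 2, nat_lit 3, nat_lit 4, nat_lit 1, nat_lit 2, nat_lit 3, nat_lit 8, nat_lit 0, nat_lit 1, nat_lit 2,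 nat_lit 3, nat_lit 4, nat_lit 5, nat_lit 8, nat_lit 3, nat_lit 10, nat_lit 14, nat_lit 12, nat_lit 18] (nat_lit 5) (nat_lit 1) [nat_lit 3382] [nat_lit 2888, nat_lit 3196]))))))))

/-- some facts -/
noncomputable def ftc71 : FT := FT.node (nat_lit 3575) (FT.node (nat_lit 3562) (FT.node (nat_lit 3556) (FT.node (nat_lit 3553) (FT.node (nat_lit 3551) (FT.leaf (Fct.mk true (nat_lit 32) (nat_lit 2469) (nat_lit 32) [nat_lit 8, nat_lit 3, nat_lit 4, nat_lit 2, nat_lit 3, nat_lit 8, nat_lit 6, nat_lit 7, nat_lit 5, nat_lit 6, nat_lit 4, nat_lit 5, nat_lit 3, nat_lit 4, nat_lit 2, nat_lit 3, nat_lit 8, nat_lit 1, nat_lit 2, nat_lit 3, nat_lit 4, nat_lit 5, nat_lit 6, nat_lit 7, nat_lit 5, nat_lit 4, nat_lit 3, nat_lit 8, nat_lit 1, nat_lit 2, nat_lit 3, nat_lit 4, nat_lit 5, nat_lit 3, nat_lit 2, nat_lit 1, nat_lit 8, nat_lit 3, nat_lit 2, nat_lit 0,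 nat_lit 1, nat_lit 9, nat_lit 4, nat_lit 3, nat_lit 2, nat_lit 8, nat_lit 3, nat_lit 11, nat_lit 8, nat_lit 10, nat_lit 1, nat_lit 8, nat_lit 16, nat_lit 14, nat_lit 16, nat_lit 8, nat_lit 19, nat_lit 16] (Rl.t1 (nat_lit 3549) (nat_lit 3548)))) (FT.node (nat_lit 3552) (FT.leaf (Fct.mk false (nat_lit 32) (nat_lit 0) (nat_lit 32) [nat_lit 8, nat_lit 3, nat_lit 4, nat_lit 2, nat_lit 3, nat_lit 8, nat_lit 1, nat_lit 2, nat_lit 3, nat_lit 4, nat_lit 5, nat_lit 1, nat_lit 2, nat_lit 0, nat_lit 1, nat_lit 4, nat_lit 3, nat_lit 2, nat_lit 8, nat_lit 3, nat_lit 8, nat_lit 10, nat_lit 8, nat_lit 16, nat_lit 14, nat_lit 13, nat_lit 12, nat_lit 19] (Rl.cmp (nat_lit 3010) (nat_lit 3486)))) (FT.leaf (Fct.mk false (nat_lit 32) (nat_lit 0) (nat_lit 32) [nat_lit 1, nat_lit 2, nat_lit 3, nat_lit 8, nat_lit 4, nat_lit 5, nat_lit 3, nat_lit 4, nat_lit 2, nat_lit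 3, nat_lit 8, nat_lit 1, nat_lit 2, nat_lit 3, nat_lit 4, nat_lit 5, nat_lit 2, nat_lit 8, nat_lit 3, nat_lit 10, nat_lit 8, nat_lit 18] (Rl.cmp (nat_lit 3010) (nat_lit 3010)))))) (FT.node (nat_lit 3554) (FT.leaf (Fct.mk false (nat_lit 32) (nat_lit 0) (nat_lit 32) [nat_lit 3, nat_lit 8, nat_lit 5, nat_lit 2, nat_lit 3, nat_lit 4, nat_lit 1, nat_lit 2, nat_lit 3, nat_lit 8, nat_lit 6, nat_lit 7, nat_lit 5, nat_lit 6, nat_lit 4, nat_lit 5, nat_lit 3, nat_lit 4, nat_lit 2, nat_lit 3, nat_lit 8, nat_lit 1, nat_lit 2, nat_lit 3, nat_lit 4, nat_lit 5, nat_lit 6, nat_lit 7, nat_lit 6, nat_lit 4, nat_lit 5, nat_lit 3, nat_lit 4, nat_lit 2, nat_lit 3, nat_lit 8, nat_lit 1, nat_lit 2, nat_lit 3, nat_lit 4, nat_lit 5, nat_lit 3, nat_lit 8, nat_lit 4, nat_lit 3, nat_lit 2, nat_lit 1, nat_lit 9, nat_lit 4, nat_lit 3, nat_lit 2, nat_lit 8, nat_lit 3, nat_lit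 11, nat_lit 2, nat_lit 10, nat_lit 1, nat_lit 17, nat_lit 12, nat_lit 19] (Rl.cmp (nat_lit 3456) (nat_lit 3552)))) (FT.node (nat_lit 3555) (FT.leaf (Fct.mk false (nat_lit 32) (nat_lit 0) (nat_lit 32) [nat_lit 3, nat_lit 8, nat_lit 5, nat_lit 2, nat_lit 3, nat_lit 4, nat_lit 1, nat_lit 2, nat_lit 3, nat_lit 8, nat_lit 6, nat_lit 7, nat_lit 5, nat_lit 6, nat_lit 4, nat_lit 5, nat_lit 3, nat_lit 4, nat_lit 2, nat_lit 3, nat_lit 8, nat_lit 1, nat_lit 2, nat_lit 3, nat_lit 4, nat_lit 5, nat_lit 6, nat_lit 7, nat_lit 3, nat_lit 4, nat_lit 2, nat_lit 3, nat_lit 8, nat_lit 0, nat_lit 1, nat_lit 2, nat_lit 3, nat_lit 4, nat_lit 5, nat_lit 3, nat_lit 0, nat_lit 2, nat_lit 14, nat_lit 17, nat_lit 12, nat_lit 18, nat_lit 16] (Rl.cmp (nat_lit 3004) (nat_lit 3553)))) (FT.leaf (Fct.mk false (nat_lit 32) (nat_lit 0) (nat_lit 32) [nat_lit 8, nat_lit 3, nat_lit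 4, nat_lit 2, nat_lit 3, nat_lit 8, nat_lit 1, nat_lit 2, nat_lit 3, nat_lit 4, nat_lit 5, nat_lit 3, nat_lit 8, nat_lit 4, nat_lit 3, nat_lit 2, nat_lit 0, nat_lit 1, nat_lit 9, nat_lit 4, nat_lit 3, nat_lit 2, nat_lit 8, nat_lit 3, nat_lit 11, nat_lit 10, nat_lit 15, nat_lit 13, nat_lit 12, nat_lit 19] (Rl.cmp (nat_lit 3456) (nat_lit 3554))))))) (FT.node (nat_lit 3559) (FT.node (nat_lit 3557) (FT.leaf (Fct.mk true (nat_lit 32) (nat_lit 23223) (nat_lit 5) [nat_lit 8, nat_lit 3, nat_lit 4, nat_lit 1, nat_lit 2, nat_lit 3, nat_lit 8, nat_lit 5, nat_lit 6, nat_lit 4, nat_lit 5, nat_lit 3, nat_lit 4, nat_lit 2, nat_lit 3, nat_lit 8, nat_lit 1, nat_lit 2, nat_lit 3, nat_lit 4, nat_lit 5, nat_lit 6, nat_lit 7, nat_lit 3, nat_lit 8, nat_lit 0, nat_lit 1, nat_lit 2, nat_lit 3, nat_lit 4, nat_lit 5, nat_lit 4, nat_lit 2, nat_lit 8, nat_lit 10, nat_lit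 1, nat_lit 8, nat_lit 16, nat_lit 15, nat_lit 14, nat_lit 16, nat_lit 8] (Rl.rel (nat_lit 0) [nat_lit 8, nat_lit 3, nat_lit 4, nat_lit 2, nat_lit 3, nat_lit 8, nat_lit 1, nat_lit 2, nat_lit 3, nat_lit 4, nat_lit 5, nat_lit 6, nat_lit 7, nat_lit 3, nat_lit 8, nat_lit 5, nat_lit 2, nat_lit 3, nat_lit 4, nat_lit 1, nat_lit 2, nat_lit 3, nat_lit 8, nat_lit 0, nat_lit 1, nat_lit 2, nat_lit 3, nat_lit 4, nat_lit 5, nat_lit 3, nat_lit 2, nat_lit 1, nat_lit 8, nat_lit 3, nat_lit 2, nat_lit 0, nat_lit 1, nat_lit 4, nat_lit 3, nat_lit 2, nat_lit 8, nat_lit 3, nat_lit 8, nat_lit 12, nat_lit 15, nat_lit 8] (nat_lit 5) (nat_lit 2) [nat_lit 3382, nat_lit 3551, nat_lit 3264] []))) (FT.node (nat_lit 3558) (FT.leaf (Fct.mk true (nat_lit 32) (nat_lit 628) (nat_lit 5) [nat_lit 8, nat_lit 2, nat_lit 3, nat_lit 4, nat_lit 1, nat_lit 2, nat_lit 3, nat_lit 8, nat_lit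 0, nat_lit 1, nat_lit 2, nat_lit 3, nat_lit 4, nat_lit 5, nat_lit 6, nat_lit 7, nat_lit 1, nat_lit 2, nat_lit 3, nat_lit 8, nat_lit 0, nat_lit 1, nat_lit 2, nat_lit 3, nat_lit 4, nat_lit 5, nat_lit 1, nat_lit 2, nat_lit 8, nat_lit 3, nat_lit 2, nat_lit 10, nat_lit 1, nat_lit 16, nat_lit 15, nat_lit 14, nat_lit 8, nat_lit 18] (Rl.t1 (nat_lit 3556) (nat_lit 3555)))) (FT.leaf (Fct.mk true (nat_lit 5) (nat_lit 14013) (nat_lit 32) [nat_lit 8, nat_lit 1, nat_lit 2, nat_lit 3, nat_lit 4, nat_lit 5, nat_lit 6, nat_lit 7, nat_lit 2, nat_lit 3, nat_lit 4, nat_lit 5, nat_lit 2, nat_lit 1, nat_lit 8, nat_lit 3, nat_lit 2, nat_lit 0, nat_lit 1, nat_lit 9, nat_lit 4, nat_lit 3, nat_lit 2, nat_lit 8, nat_lit 3, nat_lit 8, nat_lit 10, nat_lit 8, nat_lit 12, nat_lit 15, nat_lit 14, nat_lit 18] (Rl.inv (nat_lit 3557)))))) (FT.node (nat_lit 3560) (FT.leaf (Fct.mk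 true (nat_lit 5) (nat_lit 1276) (nat_lit 32) [nat_lit 6, nat_lit 4, nat_lit 5, nat_lit 3, nat_lit 4, nat_lit 1, nat_lit 2, nat_lit 3, nat_lit 8, nat_lit 0, nat_lit 1, nat_lit 2, nat_lit 3, nat_lit 4, nat_lit 5, nat_lit 6, nat_lit 7, nat_lit 8, nat_lit 2, nat_lit 3, nat_lit 4, nat_lit 5, nat_lit 2, nat_lit 1, nat_lit 8, nat_lit 3, nat_lit 2, nat_lit 0, nat_lit 1, nat_lit 9, nat_lit 4, nat_lit 3, nat_lit 2, nat_lit 8, nat_lit 3, nat_lit 10, nat_lit 8, nat_lit 12, nat_lit 15, nat_lit 14, nat_lit 18] (Rl.t1 (nat_lit 3558) (nat_lit 2841)))) (FT.node (nat_lit 3561) (FT.leaf (Fct.mk false (nat_lit 32) (nat_lit 0) (nat_lit 32) [nat_lit 3, nat_lit 8, nat_lit 5, nat_lit 2, nat_lit 3, nat_lit 4, nat_lit 1, nat_lit 2, nat_lit 3, nat_lit 8, nat_lit 6, nat_lit 7, nat_lit 5, nat_lit 6, nat_lit 4, nat_lit 5, nat_lit 3, nat_lit 4, nat_lit 2, nat_lit 3, nat_lit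 8, nat_lit 1, nat_lit 2, nat_lit 3, nat_lit 4, nat_lit 5, nat_lit 6, nat_lit 7, nat_lit 8, nat_lit 6, nat_lit 5, nat_lit 3, nat_lit 4, nat_lit 2, nat_lit 3, nat_lit 8, nat_lit 1, nat_lit 2, nat_lit 3, nat_lit 4, nat_lit 5, nat_lit 1, nat_lit 3, nat_lit 2, nat_lit 0, nat_lit 1, nat_lit 4, nat_lit 3, nat_lit 2, nat_lit 8, nat_lit 3, nat_lit 11, nat_lit 8, nat_lit 10, nat_lit 1, nat_lit 16, nat_lit 15, nat_lit 14, nat_lit 8] (Rl.cmp (nat_lit 3456) (nat_lit 3047)))) (FT.leaf (Fct.mk false (nat_lit 32) (nat_lit 0) (nat_lit 32) [nat_lit 3, nat_lit 8, nat_lit 5, nat_lit 2, nat_lit 3, nat_lit 4, nat_lit 1, nat_lit 2, nat_lit 3, nat_lit 8, nat_lit 6, nat_lit 7, nat_lit 5, nat_lit 6, nat_lit 4, nat_lit 5, nat_lit 3, nat_lit 4, nat_lit 2, nat_lit 3, nat_lit 8, nat_lit 1, nat_lit 2, nat_lit 3, nat_lit 4, nat_lit 5, nat_lit 6, nat_lit 7, nat_lit 8, nat_lit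 3, nat_lit 4, nat_lit 2, nat_lit 3, nat_lit 8, nat_lit 1, nat_lit 2, nat_lit 3, nat_lit 4, nat_lit 5, nat_lit 0, nat_lit 1, nat_lit 2, nat_lit 8, nat_lit 3, nat_lit 0, nat_lit 17, nat_lit 12, nat_lit 16] (Rl.cmp (nat_lit 3004) (nat_lit 3560)))))))) (FT.node (nat_lit 3568) (FT.node (nat_lit 3565) (FT.node (nat_lit 3563) (FT.leaf (Fct.mk false (nat_lit 32) (nat_lit 0) (nat_lit 32) [nat_lit 3, nat_lit 4, nat_lit 2, nat_lit 3, nat_lit 8, nat_lit 0, nat_lit 1, nat_lit 2, nat_lit 3, nat_lit 4, nat_lit 5, nat_lit 3, nat_lit 8, nat_lit 4, nat_lit 3, nat_lit 2, nat_lit 0, nat_lit 1, nat_lit 9, nat_lit 4, nat_lit 3, nat_lit 2, nat_lit 8, nat_lit 3, nat_lit 11, nat_lit 10, nat_lit 15, nat_lit 13, nat_lit 12, nat_lit 19] (Rl.cmp (nat_lit 3456) (nat_lit 3561)))) (FT.node (nat_lit 3564) (FT.leaf (Fct.mk false (nat_lit 32) (nat_lit 0) (nat_lit 32) [nat_lit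 3, nat_lit 8, nat_lit 5, nat_lit 2, nat_lit 3, nat_lit 4, nat_lit 1, nat_lit 2, nat_lit 3, nat_lit 8, nat_lit 6, nat_lit 7, nat_lit 5, nat_lit 6, nat_lit 4, nat_lit 5, nat_lit 3, nat_lit 4, nat_lit 2, nat_lit 3, nat_lit 8, nat_lit 1, nat_lit 2, nat_lit 3, nat_lit 4, nat_lit 5, nat_lit 6, nat_lit 7, nat_lit 8, nat_lit 5, nat_lit 6, nat_lit 4, nat_lit 5, nat_lit 3, nat_lit 4, nat_lit 2, nat_lit 3, nat_lit 8, nat_lit 0, nat_lit 1, nat_lit 2, nat_lit 3, nat_lit 4, nat_lit 5, nat_lit 3, nat_lit 8, nat_lit 4, nat_lit 3, nat_lit 2, nat_lit 1, nat_lit 9, nat_lit 4, nat_lit 3, nat_lit 2, nat_lit 8, nat_lit 3, nat_lit 11, nat_lit 10, nat_lit 1, nat_lit 15, nat_lit 17, nat_lit 19, nat_lit 16] (Rl.cmp (nat_lit 3456) (nat_lit 3562)))) (FT.leaf (Fct.mk false (nat_lit 32) (nat_lit 0) (nat_lit 32) [nat_lit 3, nat_lit 8, nat_lit 6, nat_lit 4, nat_lit 5, nat_lit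 3, nat_lit 4, nat_lit 2, nat_lit 3, nat_lit 8, nat_lit 1, nat_lit 2, nat_lit 3, nat_lit 4, nat_lit 5, nat_lit 1, nat_lit 8, nat_lit 4, nat_lit 3, nat_lit 2, nat_lit 0, nat_lit 1, nat_lit 9, nat_lit 4, nat_lit 3, nat_lit 2, nat_lit 8, nat_lit 3, nat_lit 11, nat_lit 2, nat_lit 10, nat_lit 1, nat_lit 16, nat_lit 14, nat_lit 18, nat_lit 16] (Rl.cmp (nat_lit 3047) (nat_lit 3004)))))) (FT.node (nat_lit 3566) (FT.leaf (Fct.mk false (nat_lit 32) (nat_lit 0) (nat_lit 32) [nat_lit 3, nat_lit 4, nat_lit 2, nat_lit 3, nat_lit 8, nat_lit 5, nat_lit 6, nat_lit 4, nat_lit 5, nat_lit 3, nat_lit 4, nat_lit 2, nat_lit 3, nat_lit 8, nat_lit 1, nat_lit 2, nat_lit 3, nat_lit 4, nat_lit 5, nat_lit 2, nat_lit 1, nat_lit 8, nat_lit 3, nat_lit 2, nat_lit 0, nat_lit 1, nat_lit 4, nat_lit 3, nat_lit 2, nat_lit 8, nat_lit 3, nat_lit 10, nat_lit 12, nat_lit 15, nat_lit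 14, nat_lit 18, nat_lit 16] (Rl.cmp (nat_lit 3010) (nat_lit 3564)))) (FT.node (nat_lit 3567) (FT.leaf (Fct.mk false (nat_lit 32) (nat_lit 0) (nat_lit 32) [nat_lit 5, nat_lit 4, nat_lit 3, nat_lit 8, nat_lit 1, nat_lit 2, nat_lit 3, nat_lit 4, nat_lit 5, nat_lit 0, nat_lit 1, nat_lit 3, nat_lit 2, nat_lit 8, nat_lit 3, nat_lit 10, nat_lit 2, nat_lit 8, nat_lit 10, nat_lit 1, nat_lit 16, nat_lit 15, nat_lit 14, nat_lit 16, nat_lit 8] (Rl.cmp (nat_lit 3004) (nat_lit 3565)))) (FT.leaf (Fct.mk false (nat_lit 32) (nat_lit 0) (nat_lit 32) [nat_lit 8, nat_lit 3, nat_lit 4, nat_lit 2, nat_lit 3, nat_lit 8, nat_lit 1, nat_lit 2, nat_lit 3, nat_lit 4, nat_lit 5, nat_lit 1, nat_lit 2, nat_lit 0, nat_lit 1, nat_lit 4, nat_lit 3, nat_lit 2, nat_lit 8, nat_lit 3, nat_lit 8, nat_lit 10, nat_lit 8, nat_lit 16, nat_lit 14, nat_lit 13, nat_lit 12, nat_lit 19]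 (Rl.cmp (nat_lit 3010) (nat_lit 3566))))))) (FT.node (nat_lit 3571) (FT.node (nat_lit 3569) (FT.leaf (Fct.mk true (nat_lit 32) (nat_lit 1825) (nat_lit 5) [nat_lit 8, nat_lit 1, nat_lit 2, nat_lit 3, nat_lit 4, nat_lit 5, nat_lit 6, nat_lit 7, nat_lit 5, nat_lit 8, nat_lit 3, nat_lit 2, nat_lit 1, nat_lit 9, nat_lit 4, nat_lit 3, nat_lit 2, nat_lit 8, nat_lit 3, nat_lit 8, nat_lit 10, nat_lit 1, nat_lit 12] (Rl.rel (nat_lit 0) [nat_lit 3, nat_lit 4, nat_lit 5, nat_lit 2, nat_lit 3, nat_lit 4, nat_lit 1, nat_lit 2, nat_lit 3, nat_lit 8, nat_lit 0, nat_lit 1, nat_lit 2, nat_lit 3, nat_lit 4, nat_lit 5, nat_lit 6, nat_lit 7, nat_lit 8, nat_lit 3, nat_lit 4, nat_lit 5, nat_lit 1, nat_lit 2, nat_lit 0, nat_lit 1, nat_lit 3, nat_lit 2, nat_lit 8, nat_lit 3, nat_lit 8, nat_lit 10, nat_lit 1, nat_lit 12, nat_lit 15, nat_lit 14, nat_lit 18] (nat_lit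 5) (nat_lit 2) [nat_lit 3382, nat_lit 3563, nat_lit 3550] []))) (FT.node (nat_lit 3570) (FT.leaf (Fct.mk true (nat_lit 32) (nat_lit 1779) (nat_lit 5) [nat_lit 1, nat_lit 2, nat_lit 3, nat_lit 8, nat_lit 6, nat_lit 4, nat_lit 5, nat_lit 3, nat_lit 4, nat_lit 2, nat_lit 3, nat_lit 8, nat_lit 1, nat_lit 2, nat_lit 3, nat_lit 4, nat_lit 5, nat_lit 6, nat_lit 7, nat_lit 4, nat_lit 1, nat_lit 2, nat_lit 3, nat_lit 8, nat_lit 0, nat_lit 1, nat_lit 2, nat_lit 3, nat_lit 4, nat_lit 5, nat_lit 1, nat_lit 2, nat_lit 0, nat_lit 1, nat_lit 9, nat_lit 4, nat_lit 3, nat_lit 2, nat_lit 8, nat_lit 3, nat_lit 2, nat_lit 10, nat_lit 1, nat_lit 16, nat_lit 14, nat_lit 12, nat_lit 18] (Rl.t1 (nat_lit 3568) (nat_lit 3567)))) (FT.leaf (Fct.mk true (nat_lit 5) (nat_lit 385) (nat_lit 32) [nat_lit 3, nat_lit 4, nat_lit 2, nat_lit 3, nat_lit 8, nat_lit 1, nat_lit 2,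 nat_lit 3, nat_lit 4, nat_lit 5, nat_lit 6, nat_lit 7, nat_lit 3, nat_lit 8, nat_lit 1, nat_lit 2, nat_lit 3, nat_lit 4, nat_lit 5, nat_lit 2, nat_lit 1, nat_lit 8, nat_lit 3, nat_lit 2, nat_lit 0, nat_lit 1, nat_lit 9, nat_lit 4, nat_lit 3, nat_lit 2, nat_lit 8, nat_lit 3, nat_lit 8, nat_lit 10, nat_lit 1, nat_lit 12, nat_lit 8, nat_lit 16, nat_lit 14, nat_lit 13, nat_lit 12, nat_lit 18, nat_lit 16] (Rl.inv (nat_lit 3569)))))) (FT.node (nat_lit 3573) (FT.node (nat_lit 3572) (FT.leaf (Fct.mk true (nat_lit 5) (nat_lit 232) (nat_lit 32) [nat_lit 6, nat_lit 3, nat_lit 4, nat_lit 5, nat_lit 2, nat_lit 3, nat_lit 4, nat_lit 1, nat_lit 2, nat_lit 3, nat_lit 8, nat_lit 0, nat_lit 1, nat_lit 2, nat_lit 3, nat_lit 4, nat_lit 5, nat_lit 6, nat_lit 7, nat_lit 4, nat_lit 3, nat_lit 8, nat_lit 0, nat_lit 1, nat_lit 2, nat_lit 3, nat_lit 4, nat_lit 5, nat_lit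 1, nat_lit 8, nat_lit 4, nat_lit 3, nat_lit 2, nat_lit 0, nat_lit 1, nat_lit 9, nat_lit 4, nat_lit 3, nat_lit 2, nat_lit 8, nat_lit 3, nat_lit 11, nat_lit 10, nat_lit 1, nat_lit 12, nat_lit 8, nat_lit 16, nat_lit 14, nat_lit 13, nat_lit 12, nat_lit 18, nat_lit 16] (Rl.t1 (nat_lit 3570) (nat_lit 493)))) (FT.leaf (Fct.mk false (nat_lit 32) (nat_lit 0) (nat_lit 32) [nat_lit 3, nat_lit 8, nat_lit 5, nat_lit 2, nat_lit 3, nat_lit 4, nat_lit 1, nat_lit 2, nat_lit 3, nat_lit 8, nat_lit 6, nat_lit 7, nat_lit 5, nat_lit 6, nat_lit 4, nat_lit 5, nat_lit 3, nat_lit 4, nat_lit 2, nat_lit 3, nat_lit 8, nat_lit 1, nat_lit 2, nat_lit 3, nat_lit 4, nat_lit 5, nat_lit 6, nat_lit 7, nat_lit 8, nat_lit 6, nat_lit 5, nat_lit 3, nat_lit 4, nat_lit 2, nat_lit 3, nat_lit 8, nat_lit 1, nat_lit 2, nat_lit 3, nat_lit 4, nat_lit 5, nat_lit 1, nat_lit 3, nat_lit 2, nat_lit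 0, nat_lit 1, nat_lit 4, nat_lit 3, nat_lit 2, nat_lit 8, nat_lit 3, nat_lit 11, nat_lit 8, nat_lit 10, nat_lit 1, nat_lit 16, nat_lit 15, nat_lit 14, nat_lit 8] (Rl.cmp (nat_lit 3456) (nat_lit 3047))))) (FT.node (nat_lit 3574) (FT.leaf (Fct.mk false (nat_lit 32) (nat_lit 0) (nat_lit 32) [nat_lit 3, nat_lit 8, nat_lit 5, nat_lit 2, nat_lit 3, nat_lit 4, nat_lit 1, nat_lit 2, nat_lit 3, nat_lit 8, nat_lit 6, nat_lit 7, nat_lit 5, nat_lit 6, nat_lit 4, nat_lit 5, nat_lit 3, nat_lit 4, nat_lit 2, nat_lit 3, nat_lit 8, nat_lit 1, nat_lit 2, nat_lit 3, nat_lit 4, nat_lit 5, nat_lit 6, nat_lit 7, nat_lit 8, nat_lit 3, nat_lit 4, nat_lit 2, nat_lit 3, nat_lit 8, nat_lit 1, nat_lit 2, nat_lit 3, nat_lit 4, nat_lit 5, nat_lit 0, nat_lit 1, nat_lit 2, nat_lit 8, nat_lit 3, nat_lit 0, nat_lit 17, nat_lit 12, nat_lit 16] (Rl.cmp (nat_lit 3004) (nat_lit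 3572)))) (FT.leaf (Fct.mk false (nat_lit 5) (nat_lit 0) (nat_lit 5) [nat_lit 2, nat_lit 3, nat_lit 8, nat_lit 4, nat_lit 5, nat_lit 3, nat_lit 4, nat_lit 2, nat_lit 3, nat_lit 8, nat_lit 6, nat_lit 7, nat_lit 5, nat_lit 6, nat_lit 4, nat_lit 5, nat_lit 3, nat_lit 4, nat_lit 2, nat_lit 3, nat_lit 8, nat_lit 1, nat_lit 2, nat_lit 3, nat_lit 4, nat_lit 5, nat_lit 6, nat_lit 7, nat_lit 6, nat_lit 5, nat_lit 3, nat_lit 4, nat_lit 2, nat_lit 3, nat_lit 8, nat_lit 1, nat_lit 2, nat_lit 3, nat_lit 4, nat_lit 5, nat_lit 1, nat_lit 2, nat_lit 8, nat_lit 3, nat_lit 11, nat_lit 9, nat_lit 10, nat_lit 2, nat_lit 8, nat_lit 10, nat_lit 1, nat_lit 15, nat_lit 14, nat_lit 13, nat_lit 18] (Rl.cmp (nat_lit 2094) (nat_lit 2820))))))))) (FT.node (nat_lit 3587) (FT.node (nat_lit 3581) (FT.node (nat_lit 3578) (FT.node (nat_lit 3576) (FT.leaf (Fct.mk false (nat_lit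 32) (nat_lit 0) (nat_lit 32) [nat_lit 6, nat_lit 5, nat_lit 4, nat_lit 3, nat_lit 8, nat_lit 2, nat_lit 3, nat_lit 4, nat_lit 1, nat_lit 2, nat_lit 3, nat_lit 8, nat_lit 5, nat_lit 6, nat_lit 4, nat_lit 5, nat_lit 3, nat_lit 4, nat_lit 2, nat_lit 3, nat_lit 8, nat_lit 1, nat_lit 2, nat_lit 3, nat_lit 4, nat_lit 5, nat_lit 2, nat_lit 0, nat_lit 1, nat_lit 9, nat_lit 4, nat_lit 3, nat_lit 2, nat_lit 8, nat_lit 3, nat_lit 1, nat_lit 12, nat_lit 8, nat_lit 16, nat_lit 14, nat_lit 16, nat_lit 8, nat_lit 18, nat_lit 16] (Rl.cmp (nat_lit 3010) (nat_lit 3047)))) (FT.node (nat_lit 3577) (FT.leaf (Fct.mk false (nat_lit 32) (nat_lit 0) (nat_lit 32) [nat_lit 8, nat_lit 1, nat_lit 2, nat_lit 3, nat_lit 4, nat_lit 5, nat_lit 3, nat_lit 8, nat_lit 4, nat_lit 3, nat_lit 2, nat_lit 0, nat_lit 1, nat_lit 9, nat_lit 4, nat_lit 3, nat_lit 2, nat_lit 8, nat_lit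 3, nat_lit 15, nat_lit 17, nat_lit 16] (Rl.cmp (nat_lit 3004) (nat_lit 3575)))) (FT.leaf (Fct.mk false (nat_lit 32) (nat_lit 0) (nat_lit 32) [nat_lit 2, nat_lit 3, nat_lit 8, nat_lit 6, nat_lit 4, nat_lit 5, nat_lit 3, nat_lit 4, nat_lit 2, nat_lit 3, nat_lit 8, nat_lit 0, nat_lit 1, nat_lit 2, nat_lit 3, nat_lit 4, nat_lit 5, nat_lit 1, nat_lit 8, nat_lit 3, nat_lit 2, nat_lit 0, nat_lit 1, nat_lit 9, nat_lit 4, nat_lit 3, nat_lit 2, nat_lit 8, nat_lit 3, nat_lit 11, nat_lit 2, nat_lit 10, nat_lit 1, nat_lit 16, nat_lit 14, nat_lit 16, nat_lit 8, nat_lit 19] (Rl.cmp (nat_lit 3047) (nat_lit 3576)))))) (FT.node (nat_lit 3579) (FT.leaf (Fct.mk false (nat_lit 32) (nat_lit 0) (nat_lit 32) [nat_lit 8, nat_lit 5, nat_lit 6, nat_lit 4, nat_lit 5, nat_lit 2, nat_lit 3, nat_lit 4, nat_lit 1, nat_lit 2, nat_lit 3, nat_lit 8, nat_lit 0, nat_lit 1, nat_lit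 2, nat_lit 3, nat_lit 4, nat_lit 5, nat_lit 9, nat_lit 4, nat_lit 9, nat_lit 14, nat_lit 8] (Rl.cmp (nat_lit 3047) (nat_lit 3577)))) (FT.node (nat_lit 3580) (FT.leaf (Fct.mk true (nat_lit 32) (nat_lit 13742) (nat_lit 32) [nat_lit 8, nat_lit 6, nat_lit 4, nat_lit 5, nat_lit 3, nat_lit 4, nat_lit 2, nat_lit 3, nat_lit 8, nat_lit 0, nat_lit 1, nat_lit 2, nat_lit 3, nat_lit 4, nat_lit 5, nat_lit 6, nat_lit 7, nat_lit 2, nat_lit 3, nat_lit 8, nat_lit 6, nat_lit 4, nat_lit 5, nat_lit 3, nat_lit 4, nat_lit 2, nat_lit 3, nat_lit 8, nat_lit 0, nat_lit 1, nat_lit 2, nat_lit 3, nat_lit 4, nat_lit 5, nat_lit 1, nat_lit 2, nat_lit 3, nat_lit 8, nat_lit 10, nat_lit 9, nat_lit 2, nat_lit 15, nat_lit 16, nat_lit 8, nat_lit 18] (Rl.rel (nat_lit 0) [nat_lit 8, nat_lit 3, nat_lit 4, nat_lit 2, nat_lit 3, nat_lit 8, nat_lit 1, nat_lit 2, nat_lit 3, nat_lit 4,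 nat_lit 5, nat_lit 6, nat_lit 7, nat_lit 3, nat_lit 8, nat_lit 5, nat_lit 2, nat_lit 3, nat_lit 4, nat_lit 1, nat_lit 2, nat_lit 3, nat_lit 8, nat_lit 0, nat_lit 1, nat_lit 2, nat_lit 3, nat_lit 4, nat_lit 5, nat_lit 3, nat_lit 2, nat_lit 1, nat_lit 8, nat_lit 3, nat_lit 2, nat_lit 0, nat_lit 1, nat_lit 4, nat_lit 3, nat_lit 2, nat_lit 8, nat_lit 3, nat_lit 8, nat_lit 10, nat_lit 8, nat_lit 16, nat_lit 14, nat_lit 17, nat_lit 19, nat_lit 16] (nat_lit 5) (nat_lit 1) [nat_lit 3382] [nat_lit 3574, nat_lit 3559]))) (FT.leaf (Fct.mk true (nat_lit 32) (nat_lit 3167) (nat_lit 32) [nat_lit 4, nat_lit 3, nat_lit 8, nat_lit 2, nat_lit 3, nat_lit 4, nat_lit 1, nat_lit 2, nat_lit 3, nat_lit 8, nat_lit 0, nat_lit 1, nat_lit 2, nat_lit 3, nat_lit 4, nat_lit 5, nat_lit 6, nat_lit 7, nat_lit 3, nat_lit 8, nat_lit 6, nat_lit 4, nat_lit 5, nat_lit 3, nat_lit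 4, nat_lit 2, nat_lit 3, nat_lit 8, nat_lit 1, nat_lit 2, nat_lit 3, nat_lit 4, nat_lit 5, nat_lit 9, nat_lit 4, nat_lit 11, nat_lit 2, nat_lit 10, nat_lit 1, nat_lit 12, nat_lit 8, nat_lit 16, nat_lit 14, nat_lit 13, nat_lit 16] (Rl.t1 (nat_lit 3579) (nat_lit 3573))))))) (FT.node (nat_lit 3584) (FT.node (nat_lit 3582) (FT.leaf (Fct.mk true (nat_lit 32) (nat_lit 59674) (nat_lit 32) [nat_lit 4, nat_lit 1, nat_lit 2, nat_lit 3, nat_lit 8, nat_lit 5, nat_lit 6, nat_lit 4, nat_lit 5, nat_lit 3, nat_lit 4, nat_lit 2, nat_lit 3, nat_lit 8, nat_lit 1, nat_lit 2, nat_lit 3, nat_lit 4, nat_lit 5, nat_lit 6, nat_lit 7, nat_lit 4, nat_lit 3, nat_lit 8, nat_lit 0, nat_lit 1, nat_lit 2, nat_lit 3, nat_lit 4, nat_lit 5, nat_lit 2, nat_lit 1, nat_lit 8, nat_lit 3, nat_lit 2, nat_lit 0, nat_lit 1, nat_lit 9, nat_lit 4, nat_lit 3, nat_lit 2, nat_lit 8, nat_lit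 3, nat_lit 1, nat_lit 8, nat_lit 12, nat_lit 15, nat_lit 14, nat_lit 18] (Rl.inv (nat_lit 3580)))) (FT.node (nat_lit 3583) (FT.leaf (Fct.mk true (nat_lit 32) (nat_lit 2297) (nat_lit 32) [nat_lit 5, nat_lit 6, nat_lit 3, nat_lit 4, nat_lit 5, nat_lit 2, nat_lit 3, nat_lit 4, nat_lit 1, nat_lit 2, nat_lit 3, nat_lit 8, nat_lit 0, nat_lit 1, nat_lit 2, nat_lit 3, nat_lit 4, nat_lit 5, nat_lit 6, nat_lit 7, nat_lit 8, nat_lit 0, nat_lit 1, nat_lit 2, nat_lit 3, nat_lit 4, nat_lit 5, nat_lit 8, nat_lit 3, nat_lit 2, nat_lit 1, nat_lit 9, nat_lit 4, nat_lit 3, nat_lit 2, nat_lit 8, nat_lit 3, nat_lit 10, nat_lit 2, nat_lit 8, nat_lit 10, nat_lit 1, nat_lit 8, nat_lit 12, nat_lit 15, nat_lit 12, nat_lit 18] (Rl.t1 (nat_lit 3581) (nat_lit 3578)))) (FT.leaf (Fct.mk false (nat_lit 32) (nat_lit 0) (nat_lit 32) [nat_lit 97] (Rl.cmp (nat_lit 3047) (nat_lit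 3047)))))) (FT.node (nat_lit 3585) (FT.leaf (Fct.mk false (nat_lit 32) (nat_lit 0) (nat_lit 32) [nat_lit 3, nat_lit 8, nat_lit 5, nat_lit 2, nat_lit 3, nat_lit 4, nat_lit 1, nat_lit 2, nat_lit 3, nat_lit 8, nat_lit 6, nat_lit 7, nat_lit 5, nat_lit 6, nat_lit 4, nat_lit 5, nat_lit 3, nat_lit 4, nat_lit 2, nat_lit 3, nat_lit 8, nat_lit 1, nat_lit 2, nat_lit 3, nat_lit 4, nat_lit 5, nat_lit 6, nat_lit 7, nat_lit 6, nat_lit 4, nat_lit 5, nat_lit 3, nat_lit 4, nat_lit 2, nat_lit 3, nat_lit 8, nat_lit 1, nat_lit 2, nat_lit 3, nat_lit 4, nat_lit 5, nat_lit 4, nat_lit 3, nat_lit 2, nat_lit 0, nat_lit 1, nat_lit 9, nat_lit 4, nat_lit 3, nat_lit 2, nat_lit 8, nat_lit 3, nat_lit 11, nat_lit 8, nat_lit 10, nat_lit 1, nat_lit 8, nat_lit 16, nat_lit 15, nat_lit 14, nat_lit 8] (Rl.cmp (nat_lit 3456) (nat_lit 3583)))) (FT.node (nat_lit 3586) (FT.leaf (Fct.mk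 false (nat_lit 32) (nat_lit 0) (nat_lit 32) [nat_lit 3, nat_lit 8, nat_lit 5, nat_lit 2, nat_lit 3, nat_lit 4, nat_lit 1, nat_lit 2, nat_lit 3, nat_lit 8, nat_lit 6, nat_lit 7, nat_lit 5, nat_lit 6, nat_lit 4, nat_lit 5, nat_lit 3, nat_lit 4, nat_lit 2, nat_lit 3, nat_lit 8, nat_lit 1, nat_lit 2, nat_lit 3, nat_lit 4, nat_lit 5, nat_lit 6, nat_lit 7, nat_lit 3, nat_lit 4, nat_lit 2, nat_lit 3, nat_lit 8, nat_lit 0, nat_lit 1, nat_lit 2, nat_lit 3, nat_lit 4, nat_lit 5, nat_lit 1, nat_lit 2, nat_lit 0, nat_lit 1, nat_lit 9, nat_lit 4, nat_lit 3, nat_lit 2, nat_lit 8, nat_lit 3, nat_lit 9, nat_lit 8, nat_lit 16, nat_lit 15, nat_lit 14, nat_lit 17, nat_lit 12, nat_lit 19] (Rl.cmp (nat_lit 3004) (nat_lit 3584)))) (FT.leaf (Fct.mk false (nat_lit 32) (nat_lit 0) (nat_lit 32) [nat_lit 3, nat_lit 8, nat_lit 5, nat_lit 2, nat_lit 3, nat_lit 4, nat_lit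 1, nat_lit 2, nat_lit 3, nat_lit 8, nat_lit 6, nat_lit 7, nat_lit 5, nat_lit 6, nat_lit 4, nat_lit 5, nat_lit 3, nat_lit 4, nat_lit 2, nat_lit 3, nat_lit 8, nat_lit 1, nat_lit 2, nat_lit 3, nat_lit 4, nat_lit 5, nat_lit 6, nat_lit 7, nat_lit 6, nat_lit 5, nat_lit 4, nat_lit 2, nat_lit 3, nat_lit 8, nat_lit 0, nat_lit 1, nat_lit 2, nat_lit 3, nat_lit 4, nat_lit 5, nat_lit 2, nat_lit 0, nat_lit 1, nat_lit 3, nat_lit 2, nat_lit 8, nat_lit 3, nat_lit 11, nat_lit 8, nat_lit 10, nat_lit 16, nat_lit 15, nat_lit 14, nat_lit 16] (Rl.cmp (nat_lit 3047) (nat_lit 3585)))))))) (FT.node (nat_lit 3593) (FT.node (nat_lit 3590) (FT.node (nat_lit 3588) (FT.leaf (Fct.mk true (nat_lit 32) (nat_lit 103682) (nat_lit 4) [nat_lit 3, nat_lit 4, nat_lit 2, nat_lit 3, nat_lit 8, nat_lit 7, nat_lit 5, nat_lit 6, nat_lit 4, nat_lit 5, nat_lit 3, nat_lit 4, nat_lit 2, nat_lit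 3, nat_lit 8, nat_lit 1, nat_lit 2, nat_lit 3, nat_lit 4, nat_lit 5, nat_lit 6, nat_lit 7, nat_lit 2, nat_lit 3, nat_lit 4, nat_lit 5, nat_lit 2, nat_lit 0, nat_lit 1, nat_lit 9, nat_lit 4, nat_lit 3, nat_lit 2, nat_lit 8, nat_lit 3, nat_lit 0, nat_lit 2, nat_lit 16, nat_lit 14, nat_lit 13, nat_lit 19] (Rl.rel (nat_lit 0) [nat_lit 8, nat_lit 3, nat_lit 4, nat_lit 2, nat_lit 3, nat_lit 8, nat_lit 1, nat_lit 2, nat_lit 3, nat_lit 4, nat_lit 5, nat_lit 6, nat_lit 7, nat_lit 3, nat_lit 8, nat_lit 5, nat_lit 2, nat_lit 3, nat_lit 4, nat_lit 1, nat_lit 2, nat_lit 3, nat_lit 8, nat_lit 0, nat_lit 1, nat_lit 2, nat_lit 3, nat_lit 4, nat_lit 5, nat_lit 2, nat_lit 1, nat_lit 3, nat_lit 2, nat_lit 0, nat_lit 1, nat_lit 4, nat_lit 3, nat_lit 2, nat_lit 8, nat_lit 3, nat_lit 8, nat_lit 10, nat_lit 12, nat_lit 15, nat_lit 8] (nat_lit 5) (nat_lit 1) [nat_lit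 3382] [nat_lit 2620, nat_lit 2501, nat_lit 2049]))) (FT.node (nat_lit 3589) (FT.leaf (Fct.mk true (nat_lit 32) (nat_lit 5861) (nat_lit 4) [nat_lit 2, nat_lit 3, nat_lit 4, nat_lit 1, nat_lit 2, nat_lit 3, nat_lit 8, nat_lit 7, nat_lit 5, nat_lit 6, nat_lit 4, nat_lit 5, nat_lit 3, nat_lit 4, nat_lit 2, nat_lit 3, nat_lit 8, nat_lit 1, nat_lit 2, nat_lit 3, nat_lit 4, nat_lit 5, nat_lit 6, nat_lit 7, nat_lit 3, nat_lit 8, nat_lit 5, nat_lit 6, nat_lit 4, nat_lit 5, nat_lit 3, nat_lit 4, nat_lit 2, nat_lit 3, nat_lit 8, nat_lit 1, nat_lit 2, nat_lit 3, nat_lit 4, nat_lit 5, nat_lit 1, nat_lit 3, nat_lit 2, nat_lit 0, nat_lit 1, nat_lit 9, nat_lit 4, nat_lit 3, nat_lit 2, nat_lit 8, nat_lit 3, nat_lit 9, nat_lit 16, nat_lit 8, nat_lit 12, nat_lit 15, nat_lit 13, nat_lit 12] (Rl.t1 (nat_lit 3587) (nat_lit 3586)))) (FT.leaf (Fct.mk true (nat_lit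 4) (nat_lit 81989) (nat_lit 32) [nat_lit 3, nat_lit 8, nat_lit 5, nat_lit 2, nat_lit 3, nat_lit 4, nat_lit 1, nat_lit 2, nat_lit 3, nat_lit 8, nat_lit 6, nat_lit 7, nat_lit 5, nat_lit 6, nat_lit 4, nat_lit 5, nat_lit 3, nat_lit 4, nat_lit 2, nat_lit 3, nat_lit 8, nat_lit 1, nat_lit 2, nat_lit 3, nat_lit 4, nat_lit 5, nat_lit 6, nat_lit 7, nat_lit 5, nat_lit 4, nat_lit 3, nat_lit 8, nat_lit 1, nat_lit 2, nat_lit 3, nat_lit 4, nat_lit 5, nat_lit 2, nat_lit 1, nat_lit 9, nat_lit 4, nat_lit 3, nat_lit 2, nat_lit 8, nat_lit 3, nat_lit 11, nat_lit 8, nat_lit 12, nat_lit 15, nat_lit 14, nat_lit 16, nat_lit 8, nat_lit 19, nat_lit 16] (Rl.inv (nat_lit 3588)))))) (FT.node (nat_lit 3591) (FT.leaf (Fct.mk true (nat_lit 4) (nat_lit 2290) (nat_lit 32) [nat_lit 2, nat_lit 3, nat_lit 8, nat_lit 4, nat_lit 5, nat_lit 3, nat_lit 4, nat_lit 2, nat_lit 3, nat_lit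 8, nat_lit 6, nat_lit 7, nat_lit 5, nat_lit 6, nat_lit 4, nat_lit 5, nat_lit 3, nat_lit 4, nat_lit 2, nat_lit 3, nat_lit 8, nat_lit 1, nat_lit 2, nat_lit 3, nat_lit 4, nat_lit 5, nat_lit 6, nat_lit 7, nat_lit 2, nat_lit 3, nat_lit 8, nat_lit 1, nat_lit 2, nat_lit 3, nat_lit 4, nat_lit 5, nat_lit 3, nat_lit 2, nat_lit 1, nat_lit 9, nat_lit 4, nat_lit 3, nat_lit 2, nat_lit 8, nat_lit 3, nat_lit 11, nat_lit 2, nat_lit 10, nat_lit 1, nat_lit 16, nat_lit 12, nat_lit 15, nat_lit 14, nat_lit 13, nat_lit 12, nat_lit 18, nat_lit 16] (Rl.t1 (nat_lit 3589) (nat_lit 2908)))) (FT.node (nat_lit 3592) (FT.leaf (Fct.mk false (nat_lit 32) (nat_lit 0) (nat_lit 32) [nat_lit 3, nat_lit 8, nat_lit 5, nat_lit 2, nat_lit 3, nat_lit 4, nat_lit 1, nat_lit 2, nat_lit 3, nat_lit 8, nat_lit 6, nat_lit 7, nat_lit 5, nat_lit 6, nat_lit 4, nat_lit 5, nat_lit 3, nat_lit 4,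 nat_lit 2, nat_lit 3, nat_lit 8, nat_lit 1, nat_lit 2, nat_lit 3, nat_lit 4, nat_lit 5, nat_lit 6, nat_lit 7, nat_lit 8, nat_lit 0, nat_lit 1, nat_lit 2, nat_lit 3, nat_lit 4, nat_lit 5, nat_lit 1, nat_lit 2, nat_lit 3, nat_lit 0, nat_lit 2, nat_lit 15, nat_lit 14, nat_lit 13, nat_lit 12, nat_lit 16] (Rl.cmp (nat_lit 3456) (nat_lit 3004)))) (FT.leaf (Fct.mk false (nat_lit 32) (nat_lit 0) (nat_lit 32) [nat_lit 3, nat_lit 8, nat_lit 5, nat_lit 2, nat_lit 3, nat_lit 4, nat_lit 1, nat_lit 2, nat_lit 3, nat_lit 8, nat_lit 6, nat_lit 7, nat_lit 5, nat_lit 6, nat_lit 4, nat_lit 5, nat_lit 3, nat_lit 4, nat_lit 2, nat_lit 3, nat_lit 8, nat_lit 1, nat_lit 2, nat_lit 3, nat_lit 4, nat_lit 5, nat_lit 6, nat_lit 7, nat_lit 6, nat_lit 5, nat_lit 4, nat_lit 3, nat_lit 8, nat_lit 1, nat_lit 2, nat_lit 3, nat_lit 4, nat_lit 5, nat_lit 1, nat_lit 3, nat_lit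 2, nat_lit 0, nat_lit 1, nat_lit 4, nat_lit 3, nat_lit 2, nat_lit 8, nat_lit 3, nat_lit 11, nat_lit 2, nat_lit 16, nat_lit 15, nat_lit 14, nat_lit 13, nat_lit 12, nat_lit 19, nat_lit 16] (Rl.cmp (nat_lit 3004) (nat_lit 3591))))))) (FT.node (nat_lit 3596) (FT.node (nat_lit 3594) (FT.leaf (Fct.mk false (nat_lit 32) (nat_lit 0) (nat_lit 32) [nat_lit 8, nat_lit 5, nat_lit 6, nat_lit 4, nat_lit 5, nat_lit 2, nat_lit 3, nat_lit 4, nat_lit 1, nat_lit 2, nat_lit 3, nat_lit 8, nat_lit 0, nat_lit 1, nat_lit 2, nat_lit 3, nat_lit 4, nat_lit 5, nat_lit 8, nat_lit 3, nat_lit 2, nat_lit 1, nat_lit 9, nat_lit 4, nat_lit 3, nat_lit 2, nat_lit 8, nat_lit 3, nat_lit 0, nat_lit 2, nat_lit 16, nat_lit 8, nat_lit 12, nat_lit 15, nat_lit 8, nat_lit 16] (Rl.cmp (nat_lit 3456) (nat_lit 3592)))) (FT.node (nat_lit 3595) (FT.leaf (Fct.mk false (nat_lit 32) (nat_lit 0)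 (nat_lit 32) [nat_lit 3, nat_lit 8, nat_lit 5, nat_lit 2, nat_lit 3, nat_lit 4, nat_lit 1, nat_lit 2, nat_lit 3, nat_lit 8, nat_lit 6, nat_lit 7, nat_lit 5, nat_lit 6, nat_lit 4, nat_lit 5, nat_lit 3, nat_lit 4, nat_lit 2, nat_lit 3, nat_lit 8, nat_lit 1, nat_lit 2, nat_lit 3, nat_lit 4, nat_lit 5, nat_lit 6, nat_lit 7, nat_lit 6, nat_lit 5, nat_lit 4, nat_lit 3, nat_lit 8, nat_lit 1, nat_lit 2, nat_lit 3, nat_lit 4, nat_lit 5, nat_lit 2, nat_lit 3, nat_lit 8, nat_lit 4, nat_lit 3, nat_lit 2, nat_lit 1, nat_lit 9, nat_lit 4, nat_lit 3, nat_lit 2, nat_lit 8, nat_lit 3, nat_lit 11, nat_lit 10, nat_lit 8, nat_lit 12, nat_lit 15, nat_lit 17, nat_lit 19] (Rl.cmp (nat_lit 3456) (nat_lit 3593)))) (FT.leaf (Fct.mk false (nat_lit 32) (nat_lit 0) (nat_lit 32) [nat_lit 3, nat_lit 8, nat_lit 5, nat_lit 2, nat_lit 3, nat_lit 4, nat_lit 1, nat_lit 2, nat_lit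 3, nat_lit 8, nat_lit 6, nat_lit 7, nat_lit 5, nat_lit 6, nat_lit 4, nat_lit 5, nat_lit 3, nat_lit 4, nat_lit 2, nat_lit 3, nat_lit 8, nat_lit 1, nat_lit 2, nat_lit 3, nat_lit 4, nat_lit 5, nat_lit 6, nat_lit 7, nat_lit 2, nat_lit 3, nat_lit 8, nat_lit 5, nat_lit 6, nat_lit 4, nat_lit 5, nat_lit 3, nat_lit 4, nat_lit 2, nat_lit 3, nat_lit 8, nat_lit 0, nat_lit 1, nat_lit 2, nat_lit 3, nat_lit 4, nat_lit 5, nat_lit 2, nat_lit 3, nat_lit 8, nat_lit 10, nat_lit 1, nat_lit 16, nat_lit 8, nat_lit 12, nat_lit 15, nat_lit 13, nat_lit 12, nat_lit 19, nat_lit 16] (Rl.cmp (nat_lit 3047) (nat_lit 3594)))))) (FT.node (nat_lit 3598) (FT.node (nat_lit 3597) (FT.leaf (Fct.mk false (nat_lit 5) (nat_lit 0) (nat_lit 5) [nat_lit 8, nat_lit 3, nat_lit 4, nat_lit 2, nat_lit 3, nat_lit 8, nat_lit 7, nat_lit 5, nat_lit 6, nat_lit 4, nat_lit 5, nat_lit 3, nat_lit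 4, nat_lit 2, nat_lit 3, nat_lit 8, nat_lit 0, nat_lit 1, nat_lit 2, nat_lit 3, nat_lit 4, nat_lit 5, nat_lit 6, nat_lit 7, nat_lit 8, nat_lit 4, nat_lit 5, nat_lit 3, nat_lit 4, nat_lit 2, nat_lit 3, nat_lit 8, nat_lit 1, nat_lit 2, nat_lit 3, nat_lit 4, nat_lit 5, nat_lit 9, nat_lit 4, nat_lit 10, nat_lit 1, nat_lit 8, nat_lit 16, nat_lit 14, nat_lit 16, nat_lit 8, nat_lit 19, nat_lit 16] (Rl.cmp (nat_lit 2491) (nat_lit 511)))) (FT.leaf (Fct.mk false (nat_lit 5) (nat_lit 0) (nat_lit 5) [nat_lit 2, nat_lit 3, nat_lit 8, nat_lit 4, nat_lit 5, nat_lit 3, nat_lit 4, nat_lit 2, nat_lit 3, nat_lit 8, nat_lit 6, nat_lit 7, nat_lit 5, nat_lit 6, nat_lit 4, nat_lit 5, nat_lit 3, nat_lit 4, nat_lit 2, nat_lit 3, nat_lit 8, nat_lit 1, nat_lit 2, nat_lit 3, nat_lit 4, nat_lit 5, nat_lit 6, nat_lit 7, nat_lit 0, nat_lit 1, nat_lit 2, nat_lit 3, nat_lit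 4, nat_lit 5, nat_lit 8, nat_lit 3, nat_lit 2, nat_lit 1, nat_lit 4, nat_lit 3, nat_lit 2, nat_lit 8, nat_lit 3, nat_lit 10, nat_lit 12, nat_lit 15, nat_lit 8, nat_lit 18, nat_lit 16] (Rl.cmp (nat_lit 2094) (nat_lit 3596))))) (FT.node (nat_lit 3599) (FT.leaf (Fct.mk false (nat_lit 5) (nat_lit 0) (nat_lit 5) [nat_lit 8, nat_lit 4, nat_lit 5, nat_lit 2, nat_lit 3, nat_lit 4, nat_lit 1, nat_lit 2, nat_lit 3, nat_lit 8, nat_lit 6, nat_lit 7, nat_lit 5, nat_lit 6, nat_lit 4, nat_lit 5, nat_lit 3, nat_lit 4, nat_lit 2, nat_lit 3, nat_lit 8, nat_lit 1, nat_lit 2, nat_lit 3, nat_lit 4, nat_lit 5, nat_lit 6, nat_lit 7, nat_lit 8, nat_lit 4, nat_lit 5, nat_lit 3, nat_lit 4, nat_lit 2, nat_lit 3, nat_lit 8, nat_lit 1, nat_lit 2, nat_lit 3, nat_lit 4, nat_lit 5, nat_lit 8, nat_lit 3, nat_lit 2, nat_lit 1, nat_lit 4, nat_lit 3, nat_lit 2, nat_lit 8, nat_lit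 3, nat_lit 8, nat_lit 10, nat_lit 0, nat_lit 15, nat_lit 14, nat_lit 18, nat_lit 16] (Rl.cmp (nat_lit 511) (nat_lit 3597)))) (FT.leaf (Fct.mk true (nat_lit 32) (nat_lit 77976) (nat_lit 5) [nat_lit 6, nat_lit 7, nat_lit 5, nat_lit 6, nat_lit 4, nat_lit 5, nat_lit 3, nat_lit 4, nat_lit 2, nat_lit 3, nat_lit 8, nat_lit 1, nat_lit 2, nat_lit 3, nat_lit 4, nat_lit 5, nat_lit 6, nat_lit 7, nat_lit 1, nat_lit 2, nat_lit 3, nat_lit 8, nat_lit 4, nat_lit 5, nat_lit 3, nat_lit 4, nat_lit 2, nat_lit 3, nat_lit 8, nat_lit 1, nat_lit 2, nat_lit 3, nat_lit 4, nat_lit 5, nat_lit 4, nat_lit 11, nat_lit 1, nat_lit 8, nat_lit 12, nat_lit 15, nat_lit 14, nat_lit 17, nat_lit 19, nat_lit 16] (Rl.rel (nat_lit 0) [nat_lit 8, nat_lit 3, nat_lit 4, nat_lit 2, nat_lit 3, nat_lit 8, nat_lit 1, nat_lit 2, nat_lit 3, nat_lit 4, nat_lit 5, nat_lit 6, nat_lit 7, nat_lit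 3, nat_lit 8, nat_lit 5, nat_lit 2, nat_lit 3, nat_lit 4, nat_lit 1, nat_lit 2, nat_lit 3, nat_lit 8, nat_lit 0, nat_lit 1, nat_lit 2, nat_lit 3, nat_lit 4, nat_lit 5, nat_lit 2, nat_lit 1, nat_lit 3, nat_lit 2, nat_lit 0, nat_lit 1, nat_lit 4, nat_lit 3, nat_lit 2, nat_lit 8, nat_lit 3, nat_lit 16, nat_lit 14, nat_lit 17, nat_lit 19, nat_lit 16] (nat_lit 5) (nat_lit 1) [nat_lit 3382] [nat_lit 3598, nat_lit 2738]))))))))

/-- some facts -/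
noncomputable def ftc72 : FT := FT.node (nat_lit 3625) (FT.node (nat_lit 3612) (FT.node (nat_lit 3606) (FT.node (nat_lit 3603) (FT.node (nat_lit 3601) (FT.leaf (Fct.mk true (nat_lit 32) (nat_lit 1918) (nat_lit 5) [nat_lit 2, nat_lit 3, nat_lit 4, nat_lit 1, nat_lit 2, nat_lit 3, nat_lit 8, nat_lit 7, nat_lit 5, nat_lit 6, nat_lit 4, nat_lit 5, nat_lit 3, nat_lit 4, nat_lit 2, nat_lit 3, nat_lit 8, nat_lit 1, nat_lit 2, nat_lit 3, nat_lit 4, nat_lit 5, nat_lit 6, nat_lit 7, nat_lit 4, nat_lit 2, nat_lit 3, nat_lit 8, nat_lit 5, nat_lit 6, nat_lit 4, nat_lit 5, nat_lit 3, nat_lit 4, nat_lit 2, nat_lit 3, nat_lit 8, nat_lit 1, nat_lit 2, nat_lit 3, nat_lit 4, nat_lit 5, nat_lit 1, nat_lit 8, nat_lit 4, nat_lit 3, nat_lit 2, nat_lit 0, nat_lit 1, nat_lit 9, nat_lit 4, nat_lit 3, nat_lit 2, nat_lit 8, nat_lit 3, nat_lit 10, nat_lit 12, nat_lit 15,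 nat_lit 14, nat_lit 17, nat_lit 12, nat_lit 18] (Rl.t1 (nat_lit 3599) (nat_lit 3595)))) (FT.node (nat_lit 3602) (FT.leaf (Fct.mk true (nat_lit 5) (nat_lit 10354) (nat_lit 32) [nat_lit 3, nat_lit 4, nat_lit 1, nat_lit 2, nat_lit 3, nat_lit 8, nat_lit 7, nat_lit 5, nat_lit 6, nat_lit 4, nat_lit 5, nat_lit 3, nat_lit 4, nat_lit 2, nat_lit 3, nat_lit 8, nat_lit 1, nat_lit 2, nat_lit 3, nat_lit 4, nat_lit 5, nat_lit 6, nat_lit 7, nat_lit 6, nat_lit 4, nat_lit 5, nat_lit 3, nat_lit 4, nat_lit 2, nat_lit 3, nat_lit 8, nat_lit 0, nat_lit 1, nat_lit 2, nat_lit 3, nat_lit 4, nat_lit 5, nat_lit 1, nat_lit 3, nat_lit 2, nat_lit 8, nat_lit 3, nat_lit 11, nat_lit 1, nat_lit 14, nat_lit 17, nat_lit 12] (Rl.inv (nat_lit 3600)))) (FT.leaf (Fct.mk true (nat_lit 5) (nat_lit 655) (nat_lit 32) [nat_lit 8, nat_lit 7, nat_lit 6, nat_lit 5, nat_lit 3, nat_lit 4, nat_lit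 2, nat_lit 3, nat_lit 8, nat_lit 0, nat_lit 1, nat_lit 2, nat_lit 3, nat_lit 4, nat_lit 5, nat_lit 6, nat_lit 7, nat_lit 8, nat_lit 3, nat_lit 4, nat_lit 2, nat_lit 3, nat_lit 8, nat_lit 5, nat_lit 6, nat_lit 4, nat_lit 5, nat_lit 3, nat_lit 4, nat_lit 2, nat_lit 3, nat_lit 8, nat_lit 1, nat_lit 2, nat_lit 3, nat_lit 4, nat_lit 5, nat_lit 1, nat_lit 8, nat_lit 3, nat_lit 2, nat_lit 0, nat_lit 1, nat_lit 9, nat_lit 4, nat_lit 3, nat_lit 2, nat_lit 8, nat_lit 3, nat_lit 0, nat_lit 2, nat_lit 8, nat_lit 16, nat_lit 14, nat_lit 16, nat_lit 8, nat_lit 19, nat_lit 16] (Rl.t1 (nat_lit 3601) (nat_lit 2756)))))) (FT.node (nat_lit 3604) (FT.leaf (Fct.mk false (nat_lit 32) (nat_lit 0) (nat_lit 32) [nat_lit 5, nat_lit 4, nat_lit 3, nat_lit 8, nat_lit 0, nat_lit 1, nat_lit 2, nat_lit 3, nat_lit 4, nat_lit 5, nat_lit 2, nat_lit 0, nat_lit 1, nat_lit 4, nat_lit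 3, nat_lit 2, nat_lit 8, nat_lit 3, nat_lit 10, nat_lit 2, nat_lit 8, nat_lit 10, nat_lit 1, nat_lit 16, nat_lit 15, nat_lit 14, nat_lit 16, nat_lit 8] (Rl.cmp (nat_lit 3004) (nat_lit 3004)))) (FT.node (nat_lit 3605) (FT.leaf (Fct.mk false (nat_lit 32) (nat_lit 0) (nat_lit 32) [nat_lit 0, nat_lit 1, nat_lit 2, nat_lit 3, nat_lit 4, nat_lit 5, nat_lit 3, nat_lit 2, nat_lit 0, nat_lit 1, nat_lit 4, nat_lit 3, nat_lit 2, nat_lit 8, nat_lit 3, nat_lit 0, nat_lit 2, nat_lit 8, nat_lit 16, nat_lit 14, nat_lit 13, nat_lit 12, nat_lit 18, nat_lit 16] (Rl.cmp (nat_lit 3010) (nat_lit 3603)))) (FT.leaf (Fct.mk false (nat_lit 32) (nat_lit 0) (nat_lit 32) [nat_lit 2, nat_lit 3, nat_lit 4, nat_lit 1, nat_lit 2, nat_lit 3, nat_lit 8, nat_lit 0, nat_lit 1, nat_lit 2, nat_lit 3, nat_lit 4, nat_lit 5, nat_lit 1, nat_lit 4, nat_lit 3, nat_lit 2, nat_lit 8, nat_lit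 3, nat_lit 2, nat_lit 10, nat_lit 1, nat_lit 16, nat_lit 14, nat_lit 8, nat_lit 18] (Rl.cmp (nat_lit 3010) (nat_lit 3604))))))) (FT.node (nat_lit 3609) (FT.node (nat_lit 3607) (FT.leaf (Fct.mk false (nat_lit 32) (nat_lit 0) (nat_lit 32) [nat_lit 3, nat_lit 8, nat_lit 5, nat_lit 2, nat_lit 3, nat_lit 4, nat_lit 1, nat_lit 2, nat_lit 3, nat_lit 8, nat_lit 6, nat_lit 7, nat_lit 5, nat_lit 6, nat_lit 4, nat_lit 5, nat_lit 3, nat_lit 4, nat_lit 2, nat_lit 3, nat_lit 8, nat_lit 1, nat_lit 2, nat_lit 3, nat_lit 4, nat_lit 5, nat_lit 6, nat_lit 7, nat_lit 2, nat_lit 3, nat_lit 8, nat_lit 4, nat_lit 5, nat_lit 3, nat_lit 4, nat_lit 2, nat_lit 3, nat_lit 8, nat_lit 1, nat_lit 2, nat_lit 3, nat_lit 4, nat_lit 5, nat_lit 1, nat_lit 4, nat_lit 3, nat_lit 2, nat_lit 0, nat_lit 1, nat_lit 9, nat_lit 4, nat_lit 3, nat_lit 2, nat_lit 8, nat_lit 3, nat_lit 11,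 nat_lit 8, nat_lit 10, nat_lit 16, nat_lit 14, nat_lit 16, nat_lit 8, nat_lit 16] (Rl.cmp (nat_lit 3456) (nat_lit 3605)))) (FT.node (nat_lit 3608) (FT.leaf (Fct.mk false (nat_lit 32) (nat_lit 0) (nat_lit 32) [nat_lit 3, nat_lit 8, nat_lit 5, nat_lit 2, nat_lit 3, nat_lit 4, nat_lit 1, nat_lit 2, nat_lit 3, nat_lit 8, nat_lit 6, nat_lit 7, nat_lit 5, nat_lit 6, nat_lit 4, nat_lit 5, nat_lit 3, nat_lit 4, nat_lit 2, nat_lit 3, nat_lit 8, nat_lit 1, nat_lit 2, nat_lit 3, nat_lit 4, nat_lit 5, nat_lit 6, nat_lit 7, nat_lit 6, nat_lit 5, nat_lit 3, nat_lit 4, nat_lit 2, nat_lit 3, nat_lit 8, nat_lit 1, nat_lit 2, nat_lit 3, nat_lit 4, nat_lit 5, nat_lit 1, nat_lit 2, nat_lit 3, nat_lit 8, nat_lit 10, nat_lit 1, nat_lit 14, nat_lit 8, nat_lit 19, nat_lit 16] (Rl.cmp (nat_lit 3004) (nat_lit 3606)))) (FT.leaf (Fct.mk false (nat_lit 32) (nat_lit 0)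 (nat_lit 32) [nat_lit 5, nat_lit 4, nat_lit 3, nat_lit 8, nat_lit 0, nat_lit 1, nat_lit 2, nat_lit 3, nat_lit 4, nat_lit 5, nat_lit 2, nat_lit 0, nat_lit 1, nat_lit 4, nat_lit 3, nat_lit 2, nat_lit 8, nat_lit 3, nat_lit 10, nat_lit 2, nat_lit 8, nat_lit 10, nat_lit 1, nat_lit 16, nat_lit 15, nat_lit 14, nat_lit 16, nat_lit 8] (Rl.cmp (nat_lit 3004) (nat_lit 3004)))))) (FT.node (nat_lit 3610) (FT.leaf (Fct.mk false (nat_lit 32) (nat_lit 0) (nat_lit 32) [nat_lit 5, nat_lit 4, nat_lit 3, nat_lit 8, nat_lit 2, nat_lit 3, nat_lit 4, nat_lit 1, nat_lit 2, nat_lit 3, nat_lit 8, nat_lit 5, nat_lit 6, nat_lit 4, nat_lit 5, nat_lit 3, nat_lit 4, nat_lit 2, nat_lit 3, nat_lit 8, nat_lit 1, nat_lit 2, nat_lit 3, nat_lit 4, nat_lit 5, nat_lit 3, nat_lit 8, nat_lit 4, nat_lit 3, nat_lit 2, nat_lit 1, nat_lit 9, nat_lit 4, nat_lit 3, nat_lit 2, nat_lit 8,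 nat_lit 3, nat_lit 10, nat_lit 1, nat_lit 12, nat_lit 8, nat_lit 16, nat_lit 14, nat_lit 8, nat_lit 19] (Rl.cmp (nat_lit 3004) (nat_lit 3608)))) (FT.node (nat_lit 3611) (FT.leaf (Fct.mk true (nat_lit 32) (nat_lit 71126) (nat_lit 32) [nat_lit 5, nat_lit 3, nat_lit 4, nat_lit 2, nat_lit 3, nat_lit 8, nat_lit 6, nat_lit 7, nat_lit 5, nat_lit 6, nat_lit 4, nat_lit 5, nat_lit 3, nat_lit 4, nat_lit 2, nat_lit 3, nat_lit 8, nat_lit 1, nat_lit 2, nat_lit 3, nat_lit 4, nat_lit 5, nat_lit 6, nat_lit 7, nat_lit 3, nat_lit 4, nat_lit 2, nat_lit 3, nat_lit 8, nat_lit 5, nat_lit 6, nat_lit 4, nat_lit 5, nat_lit 3, nat_lit 4, nat_lit 2, nat_lit 3, nat_lit 8, nat_lit 1, nat_lit 2, nat_lit 3, nat_lit 4, nat_lit 5, nat_lit 1, nat_lit 3, nat_lit 2, nat_lit 0, nat_lit 1, nat_lit 9, nat_lit 4, nat_lit 3, nat_lit 2, nat_lit 8, nat_lit 3, nat_lit 8, nat_lit 10, nat_lit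 9, nat_lit 2, nat_lit 12, nat_lit 15, nat_lit 17, nat_lit 19, nat_lit 16] (Rl.rel (nat_lit 0) [nat_lit 3, nat_lit 4, nat_lit 5, nat_lit 2, nat_lit 3, nat_lit 4, nat_lit 1, nat_lit 2, nat_lit 3, nat_lit 8, nat_lit 0, nat_lit 1, nat_lit 2, nat_lit 3, nat_lit 4, nat_lit 5, nat_lit 6, nat_lit 7, nat_lit 5, nat_lit 2, nat_lit 3, nat_lit 4, nat_lit 1, nat_lit 2, nat_lit 3, nat_lit 8, nat_lit 0, nat_lit 1, nat_lit 2, nat_lit 3, nat_lit 4, nat_lit 5, nat_lit 1, nat_lit 2, nat_lit 0, nat_lit 1, nat_lit 4, nat_lit 3, nat_lit 2, nat_lit 8, nat_lit 3, nat_lit 0, nat_lit 2, nat_lit 8, nat_lit 16, nat_lit 15, nat_lit 14, nat_lit 17, nat_lit 18] (nat_lit 5) (nat_lit 1) [nat_lit 3382] [nat_lit 2851, nat_lit 3571]))) (FT.leaf (Fct.mk true (nat_lit 32) (nat_lit 1083) (nat_lit 32) [nat_lit 3, nat_lit 4, nat_lit 2, nat_lit 3, nat_lit 8, nat_lit 1, nat_lit 2, nat_lit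 3, nat_lit 4, nat_lit 5, nat_lit 6, nat_lit 7, nat_lit 4, nat_lit 3, nat_lit 8, nat_lit 5, nat_lit 6, nat_lit 4, nat_lit 5, nat_lit 3, nat_lit 4, nat_lit 2, nat_lit 3, nat_lit 8, nat_lit 1, nat_lit 2, nat_lit 3, nat_lit 4, nat_lit 5, nat_lit 2, nat_lit 1, nat_lit 8, nat_lit 3, nat_lit 2, nat_lit 0, nat_lit 1, nat_lit 4, nat_lit 3, nat_lit 2, nat_lit 8, nat_lit 3, nat_lit 11, nat_lit 9, nat_lit 10, nat_lit 2, nat_lit 8, nat_lit 10, nat_lit 1, nat_lit 15, nat_lit 14, nat_lit 12, nat_lit 16] (Rl.t1 (nat_lit 3610) (nat_lit 3607)))))))) (FT.node (nat_lit 3618) (FT.node (nat_lit 3615) (FT.node (nat_lit 3613) (FT.leaf (Fct.mk true (nat_lit 32) (nat_lit 119688) (nat_lit 32) [nat_lit 5, nat_lit 6, nat_lit 4, nat_lit 5, nat_lit 3, nat_lit 4, nat_lit 2, nat_lit 3, nat_lit 8, nat_lit 0, nat_lit 1, nat_lit 2, nat_lit 3, nat_lit 4, nat_lit 5, nat_lit 6,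 nat_lit 7, nat_lit 3, nat_lit 8, nat_lit 4, nat_lit 5, nat_lit 3, nat_lit 4, nat_lit 1, nat_lit 2, nat_lit 3, nat_lit 8, nat_lit 0, nat_lit 1, nat_lit 2, nat_lit 3, nat_lit 4, nat_lit 5, nat_lit 3, nat_lit 8, nat_lit 4, nat_lit 3, nat_lit 2, nat_lit 0, nat_lit 1, nat_lit 9, nat_lit 4, nat_lit 3, nat_lit 2, nat_lit 8, nat_lit 3, nat_lit 8, nat_lit 10, nat_lit 1, nat_lit 15, nat_lit 12, nat_lit 16] (Rl.inv (nat_lit 3611)))) (FT.node (nat_lit 3614) (FT.leaf (Fct.mk true (nat_lit 32) (nat_lit 1795) (nat_lit 32) [nat_lit 8, nat_lit 3, nat_lit 4, nat_lit 2, nat_lit 3, nat_lit 8, nat_lit 0, nat_lit 1, nat_lit 2, nat_lit 3, nat_lit 4, nat_lit 5, nat_lit 6, nat_lit 7, nat_lit 3, nat_lit 8, nat_lit 5, nat_lit 2, nat_lit 3, nat_lit 4, nat_lit 1, nat_lit 2, nat_lit 3, nat_lit 8, nat_lit 0, nat_lit 1, nat_lit 2, nat_lit 3, nat_lit 4, nat_lit 5, nat_lit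 1, nat_lit 8, nat_lit 4, nat_lit 3, nat_lit 2, nat_lit 0, nat_lit 1, nat_lit 9, nat_lit 4, nat_lit 3, nat_lit 2, nat_lit 8, nat_lit 3, nat_lit 2, nat_lit 10, nat_lit 1, nat_lit 16, nat_lit 14, nat_lit 12, nat_lit 18] (Rl.t1 (nat_lit 3612) (nat_lit 3609)))) (FT.leaf (Fct.mk false (nat_lit 32) (nat_lit 0) (nat_lit 32) [nat_lit 3, nat_lit 8, nat_lit 5, nat_lit 2, nat_lit 3, nat_lit 4, nat_lit 1, nat_lit 2, nat_lit 3, nat_lit 8, nat_lit 6, nat_lit 7, nat_lit 5, nat_lit 6, nat_lit 4, nat_lit 5, nat_lit 3, nat_lit 4, nat_lit 2, nat_lit 3, nat_lit 8, nat_lit 1, nat_lit 2, nat_lit 3, nat_lit 4, nat_lit 5, nat_lit 6, nat_lit 7, nat_lit 4, nat_lit 5, nat_lit 3, nat_lit 4, nat_lit 2, nat_lit 3, nat_lit 8, nat_lit 1, nat_lit 2, nat_lit 3, nat_lit 4, nat_lit 5, nat_lit 3, nat_lit 2, nat_lit 0, nat_lit 1, nat_lit 9, nat_lit 4, nat_lit 3, nat_lit 2, nat_lit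 8, nat_lit 3, nat_lit 2, nat_lit 8, nat_lit 10, nat_lit 1, nat_lit 16, nat_lit 15, nat_lit 14, nat_lit 17, nat_lit 12, nat_lit 18] (Rl.cmp (nat_lit 3010) (nat_lit 3456)))))) (FT.node (nat_lit 3616) (FT.leaf (Fct.mk false (nat_lit 32) (nat_lit 0) (nat_lit 32) [nat_lit 3, nat_lit 8, nat_lit 5, nat_lit 2, nat_lit 3, nat_lit 4, nat_lit 1, nat_lit 2, nat_lit 3, nat_lit 8, nat_lit 6, nat_lit 7, nat_lit 5, nat_lit 6, nat_lit 4, nat_lit 5, nat_lit 3, nat_lit 4, nat_lit 2, nat_lit 3, nat_lit 8, nat_lit 1, nat_lit 2, nat_lit 3, nat_lit 4, nat_lit 5, nat_lit 6, nat_lit 7, nat_lit 5, nat_lit 6, nat_lit 4, nat_lit 5, nat_lit 3, nat_lit 4, nat_lit 2, nat_lit 3, nat_lit 8, nat_lit 1, nat_lit 2, nat_lit 3, nat_lit 4, nat_lit 5, nat_lit 0, nat_lit 1, nat_lit 2, nat_lit 8, nat_lit 3, nat_lit 9, nat_lit 16, nat_lit 12, nat_lit 15, nat_lit 14, nat_lit 8, nat_lit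 19] (Rl.cmp (nat_lit 3004) (nat_lit 3614)))) (FT.node (nat_lit 3617) (FT.leaf (Fct.mk false (nat_lit 32) (nat_lit 0) (nat_lit 32) [nat_lit 3, nat_lit 8, nat_lit 5, nat_lit 2, nat_lit 3, nat_lit 4, nat_lit 1, nat_lit 2, nat_lit 3, nat_lit 8, nat_lit 6, nat_lit 7, nat_lit 5, nat_lit 6, nat_lit 4, nat_lit 5, nat_lit 3, nat_lit 4, nat_lit 2, nat_lit 3, nat_lit 8, nat_lit 1, nat_lit 2, nat_lit 3, nat_lit 4, nat_lit 5, nat_lit 6, nat_lit 7, nat_lit 2, nat_lit 3, nat_lit 8, nat_lit 6, nat_lit 4, nat_lit 5, nat_lit 3, nat_lit 4, nat_lit 2, nat_lit 3, nat_lit 8, nat_lit 0, nat_lit 1, nat_lit 2, nat_lit 3, nat_lit 4, nat_lit 5, nat_lit 8, nat_lit 10, nat_lit 16, nat_lit 8, nat_lit 12, nat_lit 15, nat_lit 13, nat_lit 19] (Rl.cmp (nat_lit 3004) (nat_lit 3615)))) (FT.leaf (Fct.mk false (nat_lit 32) (nat_lit 0) (nat_lit 32) [nat_lit 3, nat_lit 8, nat_lit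 5, nat_lit 2, nat_lit 3, nat_lit 4, nat_lit 1, nat_lit 2, nat_lit 3, nat_lit 8, nat_lit 6, nat_lit 7, nat_lit 5, nat_lit 6, nat_lit 4, nat_lit 5, nat_lit 3, nat_lit 4, nat_lit 2, nat_lit 3, nat_lit 8, nat_lit 1, nat_lit 2, nat_lit 3, nat_lit 4, nat_lit 5, nat_lit 6, nat_lit 7, nat_lit 8, nat_lit 0, nat_lit 1, nat_lit 2, nat_lit 3, nat_lit 4, nat_lit 5, nat_lit 8, nat_lit 4, nat_lit 3, nat_lit 2, nat_lit 1, nat_lit 9, nat_lit 4, nat_lit 3, nat_lit 2, nat_lit 8, nat_lit 3, nat_lit 10, nat_lit 9, nat_lit 2, nat_lit 8, nat_lit 16, nat_lit 15, nat_lit 14, nat_lit 16, nat_lit 8, nat_lit 16] (Rl.cmp (nat_lit 3010) (nat_lit 3616))))))) (FT.node (nat_lit 3621) (FT.node (nat_lit 3619) (FT.leaf (Fct.mk false (nat_lit 5) (nat_lit 0) (nat_lit 5) [nat_lit 8, nat_lit 3, nat_lit 4, nat_lit 1, nat_lit 2, nat_lit 3, nat_lit 8, nat_lit 5, nat_lit 6, nat_lit 4,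 nat_lit 5, nat_lit 3, nat_lit 4, nat_lit 2, nat_lit 3, nat_lit 8, nat_lit 1, nat_lit 2, nat_lit 3, nat_lit 4, nat_lit 5, nat_lit 3, nat_lit 8, nat_lit 4, nat_lit 3, nat_lit 2, nat_lit 1, nat_lit 9, nat_lit 4, nat_lit 3, nat_lit 2, nat_lit 8, nat_lit 3, nat_lit 12, nat_lit 8, nat_lit 16, nat_lit 14, nat_lit 16, nat_lit 8, nat_lit 19] (Rl.cmp (nat_lit 2094) (nat_lit 2958)))) (FT.node (nat_lit 3620) (FT.leaf (Fct.mk false (nat_lit 5) (nat_lit 0) (nat_lit 5) [nat_lit 8, nat_lit 3, nat_lit 4, nat_lit 2, nat_lit 3, nat_lit 8, nat_lit 7, nat_lit 5, nat_lit 6, nat_lit 4, nat_lit 5, nat_lit 3, nat_lit 4, nat_lit 2, nat_lit 3, nat_lit 8, nat_lit 0, nat_lit 1, nat_lit 2, nat_lit 3, nat_lit 4, nat_lit 5, nat_lit 6, nat_lit 7, nat_lit 6, nat_lit 5, nat_lit 4, nat_lit 3, nat_lit 8, nat_lit 2, nat_lit 3, nat_lit 4, nat_lit 1, nat_lit 2, nat_lit 3, nat_lit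 8, nat_lit 5, nat_lit 6, nat_lit 4, nat_lit 5, nat_lit 3, nat_lit 4, nat_lit 2, nat_lit 3, nat_lit 8, nat_lit 1, nat_lit 2, nat_lit 3, nat_lit 4, nat_lit 5, nat_lit 0, nat_lit 1, nat_lit 2, nat_lit 3, nat_lit 11, nat_lit 10, nat_lit 1, nat_lit 12, nat_lit 15, nat_lit 13] (Rl.cmp (nat_lit 2491) (nat_lit 3618)))) (FT.leaf (Fct.mk false (nat_lit 5) (nat_lit 0) (nat_lit 5) [nat_lit 8, nat_lit 4, nat_lit 5, nat_lit 2, nat_lit 3, nat_lit 4, nat_lit 1, nat_lit 2, nat_lit 3, nat_lit 8, nat_lit 6, nat_lit 7, nat_lit 5, nat_lit 6, nat_lit 4, nat_lit 5, nat_lit 3, nat_lit 4, nat_lit 2, nat_lit 3, nat_lit 8, nat_lit 1, nat_lit 2, nat_lit 3, nat_lit 4, nat_lit 5, nat_lit 6, nat_lit 7, nat_lit 2, nat_lit 3, nat_lit 8, nat_lit 4, nat_lit 5, nat_lit 3, nat_lit 4, nat_lit 2, nat_lit 3, nat_lit 8, nat_lit 1, nat_lit 2, nat_lit 3, nat_lit 4, nat_lit 5, nat_lit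 8, nat_lit 3, nat_lit 2, nat_lit 1, nat_lit 4, nat_lit 3, nat_lit 2, nat_lit 8, nat_lit 3, nat_lit 2, nat_lit 8, nat_lit 10, nat_lit 1, nat_lit 12, nat_lit 15, nat_lit 14, nat_lit 12, nat_lit 18, nat_lit 16] (Rl.cmp (nat_lit 2491) (nat_lit 3619)))))) (FT.node (nat_lit 3623) (FT.node (nat_lit 3622) (FT.leaf (Fct.mk true (nat_lit 32) (nat_lit 101760) (nat_lit 4) [nat_lit 8, nat_lit 7, nat_lit 6, nat_lit 5, nat_lit 3, nat_lit 4, nat_lit 2, nat_lit 3, nat_lit 8, nat_lit 0, nat_lit 1, nat_lit 2, nat_lit 3, nat_lit 4, nat_lit 5, nat_lit 6, nat_lit 7, nat_lit 5, nat_lit 4, nat_lit 3, nat_lit 8, nat_lit 2, nat_lit 3, nat_lit 4, nat_lit 1, nat_lit 2, nat_lit 3, nat_lit 8, nat_lit 5, nat_lit 6, nat_lit 4, nat_lit 5, nat_lit 3, nat_lit 4, nat_lit 2, nat_lit 3, nat_lit 8, nat_lit 1, nat_lit 2, nat_lit 3, nat_lit 4, nat_lit 5, nat_lit 2, nat_lit 8, nat_lit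 3, nat_lit 8, nat_lit 10, nat_lit 8, nat_lit 16, nat_lit 15, nat_lit 14, nat_lit 17, nat_lit 16] (Rl.rel (nat_lit 0) [nat_lit 8, nat_lit 3, nat_lit 4, nat_lit 2, nat_lit 3, nat_lit 8, nat_lit 1, nat_lit 2, nat_lit 3, nat_lit 4, nat_lit 5, nat_lit 6, nat_lit 7, nat_lit 3, nat_lit 8, nat_lit 5, nat_lit 2, nat_lit 3, nat_lit 4, nat_lit 1, nat_lit 2, nat_lit 3, nat_lit 8, nat_lit 0, nat_lit 1, nat_lit 2, nat_lit 3, nat_lit 4, nat_lit 5, nat_lit 2, nat_lit 1, nat_lit 3, nat_lit 2, nat_lit 0, nat_lit 1, nat_lit 4, nat_lit 3, nat_lit 2, nat_lit 8, nat_lit 3, nat_lit 8, nat_lit 10, nat_lit 8, nat_lit 16, nat_lit 14, nat_lit 17, nat_lit 19, nat_lit 16] (nat_lit 5) (nat_lit 1) [nat_lit 3382] [nat_lit 3620, nat_lit 1863, nat_lit 1792]))) (FT.leaf (Fct.mk true (nat_lit 32) (nat_lit 2066) (nat_lit 4) [nat_lit 6, nat_lit 5, nat_lit 4, nat_lit 3, nat_lit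 8, nat_lit 2, nat_lit 3, nat_lit 4, nat_lit 1, nat_lit 2, nat_lit 3, nat_lit 8, nat_lit 5, nat_lit 6, nat_lit 4, nat_lit 5, nat_lit 3, nat_lit 4, nat_lit 2, nat_lit 3, nat_lit 8, nat_lit 1, nat_lit 2, nat_lit 3, nat_lit 4, nat_lit 5, nat_lit 6, nat_lit 7, nat_lit 4, nat_lit 2, nat_lit 3, nat_lit 8, nat_lit 0, nat_lit 1, nat_lit 2, nat_lit 3, nat_lit 4, nat_lit 5, nat_lit 1, nat_lit 2, nat_lit 3, nat_lit 8, nat_lit 4, nat_lit 3, nat_lit 2, nat_lit 1, nat_lit 9, nat_lit 4, nat_lit 3, nat_lit 2, nat_lit 8, nat_lit 3, nat_lit 10, nat_lit 1, nat_lit 12, nat_lit 15, nat_lit 14, nat_lit 17, nat_lit 12, nat_lit 16] (Rl.t1 (nat_lit 3621) (nat_lit 3617))))) (FT.node (nat_lit 3624) (FT.leaf (Fct.mk true (nat_lit 4) (nat_lit 26627) (nat_lit 32) [nat_lit 3, nat_lit 4, nat_lit 1, nat_lit 2, nat_lit 3, nat_lit 8, nat_lit 0, nat_lit 1, nat_lit 2, nat_lit 3,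 nat_lit 4, nat_lit 5, nat_lit 6, nat_lit 7, nat_lit 5, nat_lit 4, nat_lit 3, nat_lit 8, nat_lit 2, nat_lit 3, nat_lit 4, nat_lit 1, nat_lit 2, nat_lit 3, nat_lit 8, nat_lit 5, nat_lit 6, nat_lit 4, nat_lit 5, nat_lit 3, nat_lit 4, nat_lit 2, nat_lit 3, nat_lit 8, nat_lit 1, nat_lit 2, nat_lit 3, nat_lit 4, nat_lit 5, nat_lit 0, nat_lit 1, nat_lit 4, nat_lit 3, nat_lit 2, nat_lit 8, nat_lit 3, nat_lit 9, nat_lit 2, nat_lit 12, nat_lit 15, nat_lit 13, nat_lit 12, nat_lit 19, nat_lit 16] (Rl.inv (nat_lit 3622)))) (FT.leaf (Fct.mk true (nat_lit 4) (nat_lit 2582) (nat_lit 32) [nat_lit 3, nat_lit 4, nat_lit 2, nat_lit 3, nat_lit 8, nat_lit 5, nat_lit 6, nat_lit 4, nat_lit 5, nat_lit 3, nat_lit 4, nat_lit 2, nat_lit 3, nat_lit 8, nat_lit 0, nat_lit 1, nat_lit 2, nat_lit 3, nat_lit 4, nat_lit 5, nat_lit 6, nat_lit 7, nat_lit 5, nat_lit 4, nat_lit 3,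 nat_lit 8, nat_lit 0, nat_lit 1, nat_lit 2, nat_lit 3, nat_lit 4, nat_lit 5, nat_lit 1, nat_lit 2, nat_lit 0, nat_lit 1, nat_lit 4, nat_lit 3, nat_lit 2, nat_lit 8, nat_lit 3, nat_lit 8, nat_lit 10, nat_lit 1, nat_lit 16, nat_lit 15, nat_lit 14, nat_lit 13, nat_lit 19] (Rl.t1 (nat_lit 3623) (nat_lit 2943))))))))) (FT.node (nat_lit 3637) (FT.node (nat_lit 3631) (FT.node (nat_lit 3628) (FT.node (nat_lit 3626) (FT.leaf (Fct.mk false (nat_lit 32) (nat_lit 0) (nat_lit 32) [nat_lit 5, nat_lit 4, nat_lit 3, nat_lit 8, nat_lit 2, nat_lit 3, nat_lit 4, nat_lit 5, nat_lit 4, nat_lit 3, nat_lit 2, nat_lit 8, nat_lit 3, nat_lit 11, nat_lit 2, nat_lit 13, nat_lit 19] (Rl.cmp (nat_lit 3047) (nat_lit 3010)))) (FT.node (nat_lit 3627) (FT.leaf (Fct.mk false (nat_lit 32) (nat_lit 0) (nat_lit 32) [nat_lit 5, nat_lit 6, nat_lit 4, nat_lit 5, nat_lit 3, nat_lit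 4, nat_lit 2, nat_lit 3, nat_lit 8, nat_lit 1, nat_lit 2, nat_lit 3, nat_lit 4, nat_lit 5, nat_lit 2, nat_lit 1, nat_lit 8, nat_lit 3, nat_lit 2, nat_lit 0, nat_lit 1, nat_lit 9, nat_lit 4, nat_lit 3, nat_lit 2, nat_lit 8, nat_lit 3, nat_lit 12, nat_lit 15, nat_lit 14, nat_lit 17, nat_lit 16] (Rl.cmp (nat_lit 3004) (nat_lit 3625)))) (FT.leaf (Fct.mk false (nat_lit 32) (nat_lit 0) (nat_lit 32) [nat_lit 3, nat_lit 8, nat_lit 5, nat_lit 2, nat_lit 3, nat_lit 4, nat_lit 1, nat_lit 2, nat_lit 3, nat_lit 8, nat_lit 6, nat_lit 7, nat_lit 5, nat_lit 6, nat_lit 4, nat_lit 5, nat_lit 3, nat_lit 4, nat_lit 2, nat_lit 3, nat_lit 8, nat_lit 1, nat_lit 2, nat_lit 3, nat_lit 4, nat_lit 5, nat_lit 6, nat_lit 7, nat_lit 8, nat_lit 3, nat_lit 4, nat_lit 2, nat_lit 3, nat_lit 8, nat_lit 1, nat_lit 2, nat_lit 3, nat_lit 4, nat_lit 5, nat_lit 3, nat_lit 2, nat_lit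 1, nat_lit 4, nat_lit 3, nat_lit 2, nat_lit 0, nat_lit 1, nat_lit 9, nat_lit 4, nat_lit 3, nat_lit 2, nat_lit 8, nat_lit 3, nat_lit 12, nat_lit 15, nat_lit 14, nat_lit 12, nat_lit 19] (Rl.cmp (nat_lit 3456) (nat_lit 3626)))))) (FT.node (nat_lit 3629) (FT.leaf (Fct.mk true (nat_lit 32) (nat_lit 128523) (nat_lit 32) [nat_lit 4, nat_lit 3, nat_lit 8, nat_lit 5, nat_lit 6, nat_lit 4, nat_lit 5, nat_lit 3, nat_lit 4, nat_lit 2, nat_lit 3, nat_lit 8, nat_lit 1, nat_lit 2, nat_lit 3, nat_lit 4, nat_lit 5, nat_lit 1, nat_lit 9, nat_lit 4, nat_lit 3, nat_lit 2, nat_lit 8, nat_lit 3, nat_lit 2, nat_lit 10, nat_lit 1, nat_lit 8, nat_lit 16, nat_lit 14, nat_lit 8, nat_lit 19] (Rl.rel (nat_lit 0) [nat_lit 3, nat_lit 4, nat_lit 5, nat_lit 2, nat_lit 3, nat_lit 4, nat_lit 1, nat_lit 2, nat_lit 3, nat_lit 8, nat_lit 0, nat_lit 1, nat_lit 2, nat_lit 3, nat_lit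 4, nat_lit 5, nat_lit 6, nat_lit 7, nat_lit 5, nat_lit 4, nat_lit 3, nat_lit 2, nat_lit 8, nat_lit 3, nat_lit 0, nat_lit 12, nat_lit 8, nat_lit 16, nat_lit 14, nat_lit 17, nat_lit 12, nat_lit 19, nat_lit 16] (nat_lit 5) (nat_lit 1) [nat_lit 3382] [nat_lit 2898, nat_lit 3382]))) (FT.node (nat_lit 3630) (FT.leaf (Fct.mk true (nat_lit 32) (nat_lit 864) (nat_lit 32) [nat_lit 3, nat_lit 8, nat_lit 5, nat_lit 2, nat_lit 3, nat_lit 4, nat_lit 1, nat_lit 2, nat_lit 3, nat_lit 8, nat_lit 6, nat_lit 7, nat_lit 5, nat_lit 6, nat_lit 4, nat_lit 5, nat_lit 3, nat_lit 4, nat_lit 2, nat_lit 3, nat_lit 8, nat_lit 1, nat_lit 2, nat_lit 3, nat_lit 4, nat_lit 5, nat_lit 6, nat_lit 7, nat_lit 2, nat_lit 3, nat_lit 4, nat_lit 1, nat_lit 2, nat_lit 3, nat_lit 8, nat_lit 0, nat_lit 1, nat_lit 2, nat_lit 3, nat_lit 4, nat_lit 5, nat_lit 8, nat_lit 4, nat_lit 3, nat_lit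 2, nat_lit 0, nat_lit 1, nat_lit 9, nat_lit 4, nat_lit 3, nat_lit 2, nat_lit 8, nat_lit 3, nat_lit 11, nat_lit 1, nat_lit 8, nat_lit 12, nat_lit 15, nat_lit 17, nat_lit 12] (Rl.t1 (nat_lit 3628) (nat_lit 3627)))) (FT.leaf (Fct.mk false (nat_lit 32) (nat_lit 0) (nat_lit 32) [nat_lit 3, nat_lit 8, nat_lit 6, nat_lit 4, nat_lit 5, nat_lit 3, nat_lit 4, nat_lit 2, nat_lit 3, nat_lit 8, nat_lit 1, nat_lit 2, nat_lit 3, nat_lit 4, nat_lit 5, nat_lit 1, nat_lit 8, nat_lit 4, nat_lit 3, nat_lit 2, nat_lit 0, nat_lit 1, nat_lit 9, nat_lit 4, nat_lit 3, nat_lit 2, nat_lit 8, nat_lit 3, nat_lit 11, nat_lit 2, nat_lit 10, nat_lit 1, nat_lit 16, nat_lit 14, nat_lit 18, nat_lit 16] (Rl.cmp (nat_lit 3047) (nat_lit 3004))))))) (FT.node (nat_lit 3634) (FT.node (nat_lit 3632) (FT.leaf (Fct.mk false (nat_lit 32) (nat_lit 0) (nat_lit 32) [nat_lit 3, nat_lit 4,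 nat_lit 2, nat_lit 3, nat_lit 8, nat_lit 5, nat_lit 6, nat_lit 4, nat_lit 5, nat_lit 3, nat_lit 4, nat_lit 2, nat_lit 3, nat_lit 8, nat_lit 1, nat_lit 2, nat_lit 3, nat_lit 4, nat_lit 5, nat_lit 2, nat_lit 1, nat_lit 8, nat_lit 3, nat_lit 2, nat_lit 0, nat_lit 1, nat_lit 4, nat_lit 3, nat_lit 2, nat_lit 8, nat_lit 3, nat_lit 10, nat_lit 12, nat_lit 15, nat_lit 14, nat_lit 18, nat_lit 16] (Rl.cmp (nat_lit 3010) (nat_lit 3630)))) (FT.node (nat_lit 3633) (FT.leaf (Fct.mk false (nat_lit 32) (nat_lit 0) (nat_lit 32) [nat_lit 5, nat_lit 4, nat_lit 3, nat_lit 8, nat_lit 1, nat_lit 2, nat_lit 3, nat_lit 4, nat_lit 5, nat_lit 0, nat_lit 1, nat_lit 3, nat_lit 2, nat_lit 8, nat_lit 3, nat_lit 10, nat_lit 2, nat_lit 8, nat_lit 10, nat_lit 1, nat_lit 16, nat_lit 15, nat_lit 14, nat_lit 16, nat_lit 8] (Rl.cmp (nat_lit 3004) (nat_lit 3631)))) (FT.leaf (Fct.mk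 false (nat_lit 32) (nat_lit 0) (nat_lit 32) [nat_lit 8, nat_lit 3, nat_lit 4, nat_lit 2, nat_lit 3, nat_lit 8, nat_lit 1, nat_lit 2, nat_lit 3, nat_lit 4, nat_lit 5, nat_lit 1, nat_lit 2, nat_lit 0, nat_lit 1, nat_lit 4, nat_lit 3, nat_lit 2, nat_lit 8, nat_lit 3, nat_lit 8, nat_lit 10, nat_lit 8, nat_lit 16, nat_lit 14, nat_lit 13, nat_lit 12, nat_lit 19] (Rl.cmp (nat_lit 3010) (nat_lit 3632)))))) (FT.node (nat_lit 3635) (FT.leaf (Fct.mk true (nat_lit 32) (nat_lit 14430) (nat_lit 25) [nat_lit 3, nat_lit 8, nat_lit 5, nat_lit 2, nat_lit 3, nat_lit 4, nat_lit 1, nat_lit 2, nat_lit 3, nat_lit 8, nat_lit 6, nat_lit 7, nat_lit 5, nat_lit 6, nat_lit 4, nat_lit 5, nat_lit 3, nat_lit 4, nat_lit 2, nat_lit 3, nat_lit 8, nat_lit 1, nat_lit 2, nat_lit 3, nat_lit 4, nat_lit 5, nat_lit 6, nat_lit 7, nat_lit 6, nat_lit 5, nat_lit 4, nat_lit 3, nat_lit 8,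 nat_lit 1, nat_lit 2, nat_lit 3, nat_lit 4, nat_lit 5, nat_lit 4, nat_lit 3, nat_lit 2, nat_lit 1, nat_lit 9, nat_lit 4, nat_lit 3, nat_lit 2, nat_lit 8, nat_lit 3, nat_lit 11, nat_lit 2, nat_lit 8, nat_lit 10, nat_lit 1, nat_lit 8, nat_lit 12, nat_lit 15, nat_lit 19, nat_lit 16] (Rl.rel (nat_lit 0) [nat_lit 3, nat_lit 4, nat_lit 5, nat_lit 2, nat_lit 3, nat_lit 4, nat_lit 1, nat_lit 2, nat_lit 3, nat_lit 8, nat_lit 0, nat_lit 1, nat_lit 2, nat_lit 3, nat_lit 4, nat_lit 5, nat_lit 6, nat_lit 7, nat_lit 3, nat_lit 8, nat_lit 6, nat_lit 5, nat_lit 2, nat_lit 3, nat_lit 4, nat_lit 1, nat_lit 2, nat_lit 3, nat_lit 8, nat_lit 0, nat_lit 1, nat_lit 2, nat_lit 3, nat_lit 4, nat_lit 5, nat_lit 3, nat_lit 2, nat_lit 1, nat_lit 8, nat_lit 3, nat_lit 2, nat_lit 0, nat_lit 1, nat_lit 9, nat_lit 4, nat_lit 3, nat_lit 2, nat_lit 8, nat_lit 3, nat_lit 8,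 nat_lit 12, nat_lit 15, nat_lit 8, nat_lit 16] (nat_lit 5) (nat_lit 1) [nat_lit 3382] [nat_lit 2847, nat_lit 2508]))) (FT.node (nat_lit 3636) (FT.leaf (Fct.mk true (nat_lit 32) (nat_lit 12992) (nat_lit 25) [nat_lit 3, nat_lit 8, nat_lit 5, nat_lit 2, nat_lit 3, nat_lit 4, nat_lit 1, nat_lit 2, nat_lit 3, nat_lit 8, nat_lit 6, nat_lit 7, nat_lit 5, nat_lit 6, nat_lit 4, nat_lit 5, nat_lit 3, nat_lit 4, nat_lit 2, nat_lit 3, nat_lit 8, nat_lit 1, nat_lit 2, nat_lit 3, nat_lit 4, nat_lit 5, nat_lit 6, nat_lit 7, nat_lit 2, nat_lit 3, nat_lit 8, nat_lit 5, nat_lit 6, nat_lit 4, nat_lit 5, nat_lit 3, nat_lit 4, nat_lit 2, nat_lit 3, nat_lit 8, nat_lit 0, nat_lit 1, nat_lit 2, nat_lit 3, nat_lit 4, nat_lit 5, nat_lit 8, nat_lit 3, nat_lit 2, nat_lit 0, nat_lit 1, nat_lit 4, nat_lit 3, nat_lit 2, nat_lit 8, nat_lit 3, nat_lit 11, nat_lit 9, nat_lit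 10, nat_lit 2, nat_lit 8, nat_lit 10, nat_lit 1, nat_lit 8, nat_lit 12, nat_lit 15, nat_lit 14, nat_lit 16, nat_lit 8, nat_lit 18, nat_lit 16] (Rl.t1 (nat_lit 3634) (nat_lit 3633)))) (FT.leaf (Fct.mk true (nat_lit 25) (nat_lit 17432) (nat_lit 32) [nat_lit 8, nat_lit 5, nat_lit 2, nat_lit 3, nat_lit 4, nat_lit 1, nat_lit 2, nat_lit 3, nat_lit 8, nat_lit 6, nat_lit 7, nat_lit 5, nat_lit 6, nat_lit 4, nat_lit 5, nat_lit 3, nat_lit 4, nat_lit 2, nat_lit 3, nat_lit 8, nat_lit 1, nat_lit 2, nat_lit 3, nat_lit 4, nat_lit 5, nat_lit 6, nat_lit 7, nat_lit 8, nat_lit 1, nat_lit 2, nat_lit 3, nat_lit 4, nat_lit 5, nat_lit 11, nat_lit 10, nat_lit 1, nat_lit 15, nat_lit 16, nat_lit 8, nat_lit 18, nat_lit 16] (Rl.inv (nat_lit 3635)))))))) (FT.node (nat_lit 3643) (FT.node (nat_lit 3640) (FT.node (nat_lit 3638) (FT.leaf (Fct.mk true (nat_lit 25) (nat_lit 3547)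 (nat_lit 32) [nat_lit 7, nat_lit 6, nat_lit 5, nat_lit 3, nat_lit 4, nat_lit 1, nat_lit 2, nat_lit 3, nat_lit 8, nat_lit 0, nat_lit 1, nat_lit 2, nat_lit 3, nat_lit 4, nat_lit 5, nat_lit 6, nat_lit 7, nat_lit 8, nat_lit 2, nat_lit 3, nat_lit 4, nat_lit 5, nat_lit 8, nat_lit 4, nat_lit 3, nat_lit 2, nat_lit 1, nat_lit 9, nat_lit 4, nat_lit 3, nat_lit 2, nat_lit 8, nat_lit 3, nat_lit 11, nat_lit 9, nat_lit 10, nat_lit 2, nat_lit 8, nat_lit 10, nat_lit 1, nat_lit 8, nat_lit 12, nat_lit 15, nat_lit 19] (Rl.t1 (nat_lit 3636) (nat_lit 2896)))) (FT.node (nat_lit 3639) (FT.leaf (Fct.mk false (nat_lit 32) (nat_lit 0) (nat_lit 32) [nat_lit 2, nat_lit 3, nat_lit 4, nat_lit 1, nat_lit 2, nat_lit 3, nat_lit 8, nat_lit 0, nat_lit 1, nat_lit 2, nat_lit 3, nat_lit 4, nat_lit 5, nat_lit 3, nat_lit 8, nat_lit 4, nat_lit 3, nat_lit 2, nat_lit 0, nat_lit 1, nat_lit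 9, nat_lit 4, nat_lit 3, nat_lit 2, nat_lit 8, nat_lit 3, nat_lit 11, nat_lit 10, nat_lit 8, nat_lit 16, nat_lit 14, nat_lit 19] (Rl.cmp (nat_lit 3010) (nat_lit 3004)))) (FT.leaf (Fct.mk false (nat_lit 32) (nat_lit 0) (nat_lit 32) [nat_lit 5, nat_lit 4, nat_lit 3, nat_lit 8, nat_lit 0, nat_lit 1, nat_lit 2, nat_lit 3, nat_lit 4, nat_lit 5, nat_lit 1, nat_lit 8, nat_lit 3, nat_lit 2, nat_lit 0, nat_lit 1, nat_lit 9, nat_lit 4, nat_lit 3, nat_lit 2, nat_lit 8, nat_lit 3, nat_lit 2, nat_lit 16, nat_lit 14, nat_lit 12, nat_lit 19] (Rl.cmp (nat_lit 3010) (nat_lit 3638)))))) (FT.node (nat_lit 3641) (FT.leaf (Fct.mk false (nat_lit 32) (nat_lit 0) (nat_lit 32) [nat_lit 3, nat_lit 8, nat_lit 5, nat_lit 2, nat_lit 3, nat_lit 4, nat_lit 1, nat_lit 2, nat_lit 3, nat_lit 8, nat_lit 6, nat_lit 7, nat_lit 5, nat_lit 6, nat_lit 4, nat_lit 5, nat_lit 3, nat_lit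 4, nat_lit 2, nat_lit 3, nat_lit 8, nat_lit 1, nat_lit 2, nat_lit 3, nat_lit 4, nat_lit 5, nat_lit 6, nat_lit 7, nat_lit 4, nat_lit 2, nat_lit 3, nat_lit 8, nat_lit 5, nat_lit 6, nat_lit 4, nat_lit 5, nat_lit 3, nat_lit 4, nat_lit 2, nat_lit 3, nat_lit 8, nat_lit 1, nat_lit 2, nat_lit 3, nat_lit 4, nat_lit 5, nat_lit 0, nat_lit 1, nat_lit 9, nat_lit 4, nat_lit 3, nat_lit 2, nat_lit 8, nat_lit 3, nat_lit 0, nat_lit 17, nat_lit 12, nat_lit 16] (Rl.cmp (nat_lit 3456) (nat_lit 3639)))) (FT.node (nat_lit 3642) (FT.leaf (Fct.mk false (nat_lit 32) (nat_lit 0) (nat_lit 32) [nat_lit 3, nat_lit 8, nat_lit 5, nat_lit 2, nat_lit 3, nat_lit 4, nat_lit 1, nat_lit 2, nat_lit 3, nat_lit 8, nat_lit 6, nat_lit 7, nat_lit 5, nat_lit 6, nat_lit 4, nat_lit 5, nat_lit 3, nat_lit 4, nat_lit 2, nat_lit 3, nat_lit 8, nat_lit 1, nat_lit 2, nat_lit 3, nat_lit 4, nat_lit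 5, nat_lit 6, nat_lit 7, nat_lit 4, nat_lit 2, nat_lit 3, nat_lit 8, nat_lit 0, nat_lit 1, nat_lit 2, nat_lit 3, nat_lit 4, nat_lit 5, nat_lit 2, nat_lit 1, nat_lit 3, nat_lit 2, nat_lit 0, nat_lit 1, nat_lit 9, nat_lit 4, nat_lit 3, nat_lit 2, nat_lit 8, nat_lit 3, nat_lit 11, nat_lit 8, nat_lit 10, nat_lit 1, nat_lit 16, nat_lit 14, nat_lit 8, nat_lit 16] (Rl.cmp (nat_lit 3004) (nat_lit 3640)))) (FT.leaf (Fct.mk true (nat_lit 32) (nat_lit 20374) (nat_lit 32) [nat_lit 4] (Rl.rel (nat_lit 0) [nat_lit 3, nat_lit 4, nat_lit 5, nat_lit 2, nat_lit 3, nat_lit 4, nat_lit 1, nat_lit 2, nat_lit 3, nat_lit 8, nat_lit 0, nat_lit 1, nat_lit 2, nat_lit 3, nat_lit 4, nat_lit 5, nat_lit 6, nat_lit 7, nat_lit 3, nat_lit 8, nat_lit 6, nat_lit 5, nat_lit 2, nat_lit 3, nat_lit 4, nat_lit 1, nat_lit 2, nat_lit 3, nat_lit 8, nat_lit 0, nat_lit 1, nat_lit 2, nat_lit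 3, nat_lit 4, nat_lit 5, nat_lit 3, nat_lit 2, nat_lit 1, nat_lit 8, nat_lit 3, nat_lit 2, nat_lit 0, nat_lit 1, nat_lit 9, nat_lit 4, nat_lit 3, nat_lit 2, nat_lit 8, nat_lit 3, nat_lit 10, nat_lit 9, nat_lit 2, nat_lit 16, nat_lit 8, nat_lit 12, nat_lit 15, nat_lit 16] (nat_lit 5) (nat_lit 1) [nat_lit 3382] [nat_lit 470, nat_lit 3382])))))) (FT.node (nat_lit 3646) (FT.node (nat_lit 3644) (FT.leaf (Fct.mk true (nat_lit 32) (nat_lit 11874) (nat_lit 32) [nat_lit 3, nat_lit 8, nat_lit 5, nat_lit 2, nat_lit 3, nat_lit 4, nat_lit 1, nat_lit 2, nat_lit 3, nat_lit 8, nat_lit 6, nat_lit 7, nat_lit 5, nat_lit 6, nat_lit 4, nat_lit 5, nat_lit 3, nat_lit 4, nat_lit 2, nat_lit 3, nat_lit 8, nat_lit 1, nat_lit 2, nat_lit 3, nat_lit 4, nat_lit 5, nat_lit 6, nat_lit 7, nat_lit 5, nat_lit 6, nat_lit 4, nat_lit 5, nat_lit 3, nat_lit 4, nat_lit 2, nat_lit 3,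 nat_lit 8, nat_lit 1, nat_lit 2, nat_lit 3, nat_lit 4, nat_lit 5, nat_lit 9, nat_lit 4, nat_lit 0, nat_lit 12, nat_lit 15, nat_lit 14, nat_lit 17, nat_lit 18] (Rl.t1 (nat_lit 3642) (nat_lit 3641)))) (FT.node (nat_lit 3645) (FT.leaf (Fct.mk false (nat_lit 32) (nat_lit 0) (nat_lit 32) [nat_lit 6, nat_lit 5, nat_lit 4, nat_lit 3, nat_lit 8, nat_lit 2, nat_lit 3, nat_lit 4, nat_lit 1, nat_lit 2, nat_lit 3, nat_lit 8, nat_lit 5, nat_lit 6, nat_lit 4, nat_lit 5, nat_lit 3, nat_lit 4, nat_lit 2, nat_lit 3, nat_lit 8, nat_lit 1, nat_lit 2, nat_lit 3, nat_lit 4, nat_lit 5, nat_lit 0, nat_lit 1, nat_lit 3, nat_lit 2, nat_lit 8, nat_lit 3, nat_lit 0, nat_lit 2, nat_lit 8, nat_lit 12, nat_lit 15, nat_lit 8, nat_lit 18] (Rl.cmp (nat_lit 3047) (nat_lit 2995)))) (FT.leaf (Fct.mk false (nat_lit 32) (nat_lit 0) (nat_lit 32) [nat_lit 1, nat_lit 2, nat_lit 3,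 nat_lit 8, nat_lit 4, nat_lit 5, nat_lit 3, nat_lit 4, nat_lit 2, nat_lit 3, nat_lit 8, nat_lit 1, nat_lit 2, nat_lit 3, nat_lit 4, nat_lit 5, nat_lit 2, nat_lit 1, nat_lit 3, nat_lit 2, nat_lit 8, nat_lit 3, nat_lit 11, nat_lit 10, nat_lit 2, nat_lit 8, nat_lit 10, nat_lit 1, nat_lit 14, nat_lit 13, nat_lit 19] (Rl.cmp (nat_lit 3047) (nat_lit 3644)))))) (FT.node (nat_lit 3648) (FT.node (nat_lit 3647) (FT.leaf (Fct.mk false (nat_lit 32) (nat_lit 0) (nat_lit 32) [nat_lit 8, nat_lit 5, nat_lit 6, nat_lit 4, nat_lit 5, nat_lit 3, nat_lit 4, nat_lit 2, nat_lit 3, nat_lit 8, nat_lit 0, nat_lit 1, nat_lit 2, nat_lit 3, nat_lit 4, nat_lit 5, nat_lit 1, nat_lit 9, nat_lit 4, nat_lit 3, nat_lit 2, nat_lit 8, nat_lit 3, nat_lit 11, nat_lit 10, nat_lit 1, nat_lit 12, nat_lit 15, nat_lit 14, nat_lit 18, nat_lit 16] (Rl.cmp (nat_lit 3004) (nat_lit 3645))))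 (FT.leaf (Fct.mk false (nat_lit 32) (nat_lit 0) (nat_lit 32) [nat_lit 3, nat_lit 8, nat_lit 5, nat_lit 2, nat_lit 3, nat_lit 4, nat_lit 1, nat_lit 2, nat_lit 3, nat_lit 8, nat_lit 6, nat_lit 7, nat_lit 5, nat_lit 6, nat_lit 4, nat_lit 5, nat_lit 3, nat_lit 4, nat_lit 2, nat_lit 3, nat_lit 8, nat_lit 1, nat_lit 2, nat_lit 3, nat_lit 4, nat_lit 5, nat_lit 6, nat_lit 7, nat_lit 8, nat_lit 0, nat_lit 1, nat_lit 2, nat_lit 3, nat_lit 4, nat_lit 5, nat_lit 1, nat_lit 2, nat_lit 3, nat_lit 0, nat_lit 2, nat_lit 15, nat_lit 14, nat_lit 13, nat_lit 12, nat_lit 16] (Rl.cmp (nat_lit 3456) (nat_lit 3004))))) (FT.node (nat_lit 3649) (FT.leaf (Fct.mk false (nat_lit 32) (nat_lit 0) (nat_lit 32) [nat_lit 3, nat_lit 8, nat_lit 5, nat_lit 2, nat_lit 3, nat_lit 4, nat_lit 1, nat_lit 2, nat_lit 3, nat_lit 8, nat_lit 6, nat_lit 7, nat_lit 5, nat_lit 6, nat_lit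 4, nat_lit 5, nat_lit 3, nat_lit 4, nat_lit 2, nat_lit 3, nat_lit 8, nat_lit 1, nat_lit 2, nat_lit 3, nat_lit 4, nat_lit 5, nat_lit 6, nat_lit 7, nat_lit 2, nat_lit 3, nat_lit 8, nat_lit 5, nat_lit 6, nat_lit 4, nat_lit 5, nat_lit 3, nat_lit 4, nat_lit 2, nat_lit 3, nat_lit 8, nat_lit 0, nat_lit 1, nat_lit 2, nat_lit 3, nat_lit 4, nat_lit 5, nat_lit 8, nat_lit 3, nat_lit 2, nat_lit 1, nat_lit 4, nat_lit 3, nat_lit 2, nat_lit 8, nat_lit 3, nat_lit 11, nat_lit 8, nat_lit 10, nat_lit 8, nat_lit 12, nat_lit 15, nat_lit 14, nat_lit 17, nat_lit 12, nat_lit 19] (Rl.cmp (nat_lit 3010) (nat_lit 3647)))) (FT.leaf (Fct.mk false (nat_lit 32) (nat_lit 0) (nat_lit 32) [nat_lit 97] (Rl.cmp (nat_lit 3047) (nat_lit 3047)))))))))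

/-- some facts -/
noncomputable def ftc73 : FT := FT.node (nat_lit 3675) (FT.node (nat_lit 3662) (FT.node (nat_lit 3656) (FT.node (nat_lit 3653) (FT.node (nat_lit 3651) (FT.leaf (Fct.mk false (nat_lit 32) (nat_lit 0) (nat_lit 32) [nat_lit 3, nat_lit 8, nat_lit 5, nat_lit 2, nat_lit 3, nat_lit 4, nat_lit 1, nat_lit 2, nat_lit 3, nat_lit 8, nat_lit 6, nat_lit 7, nat_lit 5, nat_lit 6, nat_lit 4, nat_lit 5, nat_lit 3, nat_lit 4, nat_lit 2, nat_lit 3, nat_lit 8, nat_lit 1, nat_lit 2, nat_lit 3, nat_lit 4, nat_lit 5, nat_lit 6, nat_lit 7, nat_lit 8, nat_lit 6, nat_lit 4, nat_lit 5, nat_lit 3, nat_lit 4, nat_lit 2, nat_lit 3, nat_lit 8, nat_lit 1, nat_lit 2, nat_lit 3, nat_lit 4, nat_lit 5, nat_lit 1, nat_lit 4, nat_lit 3, nat_lit 2, nat_lit 0, nat_lit 1, nat_lit 9, nat_lit 4, nat_lit 3, nat_lit 2, nat_lit 8, nat_lit 3, nat_lit 10, nat_lit 2, nat_lit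 8, nat_lit 10, nat_lit 1, nat_lit 16, nat_lit 12, nat_lit 15, nat_lit 14, nat_lit 17, nat_lit 12, nat_lit 18] (Rl.cmp (nat_lit 2995) (nat_lit 3456)))) (FT.node (nat_lit 3652) (FT.leaf (Fct.mk false (nat_lit 32) (nat_lit 0) (nat_lit 32) [nat_lit 5, nat_lit 4, nat_lit 3, nat_lit 8, nat_lit 2, nat_lit 3, nat_lit 4, nat_lit 5, nat_lit 4, nat_lit 3, nat_lit 2, nat_lit 8, nat_lit 3, nat_lit 11, nat_lit 2, nat_lit 13, nat_lit 19] (Rl.cmp (nat_lit 3047) (nat_lit 3010)))) (FT.leaf (Fct.mk false (nat_lit 32) (nat_lit 0) (nat_lit 32) [nat_lit 3, nat_lit 8, nat_lit 5, nat_lit 2, nat_lit 3, nat_lit 4, nat_lit 1, nat_lit 2, nat_lit 3, nat_lit 8, nat_lit 6, nat_lit 7, nat_lit 5, nat_lit 6, nat_lit 4, nat_lit 5, nat_lit 3, nat_lit 4, nat_lit 2, nat_lit 3, nat_lit 8, nat_lit 1, nat_lit 2, nat_lit 3, nat_lit 4, nat_lit 5, nat_lit 6, nat_lit 7, nat_lit 8, nat_lit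 4, nat_lit 5, nat_lit 3, nat_lit 4, nat_lit 2, nat_lit 3, nat_lit 8, nat_lit 1, nat_lit 2, nat_lit 3, nat_lit 4, nat_lit 5, nat_lit 2, nat_lit 0, nat_lit 1, nat_lit 3, nat_lit 2, nat_lit 8, nat_lit 3, nat_lit 9, nat_lit 8, nat_lit 16, nat_lit 14, nat_lit 17, nat_lit 19] (Rl.cmp (nat_lit 3456) (nat_lit 3651)))))) (FT.node (nat_lit 3654) (FT.leaf (Fct.mk false (nat_lit 32) (nat_lit 0) (nat_lit 32) [nat_lit 3, nat_lit 8, nat_lit 5, nat_lit 2, nat_lit 3, nat_lit 4, nat_lit 1, nat_lit 2, nat_lit 3, nat_lit 8, nat_lit 6, nat_lit 7, nat_lit 5, nat_lit 6, nat_lit 4, nat_lit 5, nat_lit 3, nat_lit 4, nat_lit 2, nat_lit 3, nat_lit 8, nat_lit 1, nat_lit 2, nat_lit 3, nat_lit 4, nat_lit 5, nat_lit 6, nat_lit 7, nat_lit 8, nat_lit 3, nat_lit 4, nat_lit 2, nat_lit 3, nat_lit 8, nat_lit 5, nat_lit 6, nat_lit 4, nat_lit 5, nat_lit 3, nat_lit 4, nat_lit 2, nat_lit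 3, nat_lit 8, nat_lit 1, nat_lit 2, nat_lit 3, nat_lit 4, nat_lit 5, nat_lit 8, nat_lit 4, nat_lit 3, nat_lit 2, nat_lit 1, nat_lit 9, nat_lit 4, nat_lit 3, nat_lit 2, nat_lit 8, nat_lit 3, nat_lit 11, nat_lit 15, nat_lit 13] (Rl.cmp (nat_lit 3004) (nat_lit 3650)))) (FT.node (nat_lit 3655) (FT.leaf (Fct.mk false (nat_lit 32) (nat_lit 0) (nat_lit 32) [nat_lit 3, nat_lit 8, nat_lit 5, nat_lit 2, nat_lit 3, nat_lit 4, nat_lit 1, nat_lit 2, nat_lit 3, nat_lit 8, nat_lit 6, nat_lit 7, nat_lit 5, nat_lit 6, nat_lit 4, nat_lit 5, nat_lit 3, nat_lit 4, nat_lit 2, nat_lit 3, nat_lit 8, nat_lit 1, nat_lit 2, nat_lit 3, nat_lit 4, nat_lit 5, nat_lit 6, nat_lit 7, nat_lit 3, nat_lit 8, nat_lit 6, nat_lit 4, nat_lit 5, nat_lit 3, nat_lit 4, nat_lit 2, nat_lit 3, nat_lit 8, nat_lit 1, nat_lit 2, nat_lit 3, nat_lit 4, nat_lit 5, nat_lit 2, nat_lit 0, nat_lit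 1, nat_lit 4, nat_lit 3, nat_lit 2, nat_lit 8, nat_lit 3, nat_lit 10, nat_lit 0, nat_lit 8, nat_lit 16, nat_lit 14, nat_lit 13, nat_lit 16] (Rl.cmp (nat_lit 3004) (nat_lit 3653)))) (FT.leaf (Fct.mk false (nat_lit 25) (nat_lit 0) (nat_lit 25) [nat_lit 8, nat_lit 7, nat_lit 6, nat_lit 5, nat_lit 2, nat_lit 3, nat_lit 4, nat_lit 1, nat_lit 2, nat_lit 3, nat_lit 8, nat_lit 0, nat_lit 1, nat_lit 2, nat_lit 3, nat_lit 4, nat_lit 5, nat_lit 6, nat_lit 7, nat_lit 3, nat_lit 8, nat_lit 6, nat_lit 5, nat_lit 2, nat_lit 3, nat_lit 4, nat_lit 1, nat_lit 2, nat_lit 3, nat_lit 8, nat_lit 0, nat_lit 1, nat_lit 2, nat_lit 3, nat_lit 4, nat_lit 5, nat_lit 2, nat_lit 1, nat_lit 3, nat_lit 2, nat_lit 0, nat_lit 1, nat_lit 4, nat_lit 3, nat_lit 2, nat_lit 8, nat_lit 3, nat_lit 11, nat_lit 2, nat_lit 10, nat_lit 1, nat_lit 8, nat_lit 12, nat_lit 15, nat_lit 14,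 nat_lit 17, nat_lit 12] (Rl.cmp (nat_lit 1813) (nat_lit 2541))))))) (FT.node (nat_lit 3659) (FT.node (nat_lit 3657) (FT.leaf (Fct.mk false (nat_lit 25) (nat_lit 0) (nat_lit 25) [nat_lit 7, nat_lit 6, nat_lit 5, nat_lit 4, nat_lit 3, nat_lit 8, nat_lit 2, nat_lit 3, nat_lit 4, nat_lit 5, nat_lit 6, nat_lit 7, nat_lit 8, nat_lit 3, nat_lit 4, nat_lit 1, nat_lit 2, nat_lit 3, nat_lit 8, nat_lit 0, nat_lit 1, nat_lit 2, nat_lit 3, nat_lit 4, nat_lit 5, nat_lit 2, nat_lit 1, nat_lit 8, nat_lit 3, nat_lit 2, nat_lit 0, nat_lit 1, nat_lit 9, nat_lit 4, nat_lit 3, nat_lit 2, nat_lit 8, nat_lit 3, nat_lit 8, nat_lit 10, nat_lit 1, nat_lit 12, nat_lit 15, nat_lit 14, nat_lit 19, nat_lit 16] (Rl.cmp (nat_lit 2117) (nat_lit 3655)))) (FT.node (nat_lit 3658) (FT.leaf (Fct.mk false (nat_lit 25) (nat_lit 0) (nat_lit 25) [nat_lit 8, nat_lit 7, nat_lit 6, nat_lit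 4, nat_lit 5, nat_lit 3, nat_lit 4, nat_lit 1, nat_lit 2, nat_lit 3, nat_lit 8, nat_lit 0, nat_lit 1, nat_lit 2, nat_lit 3, nat_lit 4, nat_lit 5, nat_lit 6, nat_lit 7, nat_lit 3, nat_lit 4, nat_lit 5, nat_lit 1, nat_lit 3, nat_lit 2, nat_lit 8, nat_lit 3, nat_lit 10, nat_lit 2, nat_lit 8, nat_lit 10, nat_lit 1, nat_lit 16, nat_lit 8, nat_lit 12, nat_lit 15, nat_lit 12, nat_lit 19, nat_lit 16] (Rl.cmp (nat_lit 2117) (nat_lit 3656)))) (FT.leaf (Fct.mk true (nat_lit 32) (nat_lit 42914) (nat_lit 5) [nat_lit 4, nat_lit 5, nat_lit 3, nat_lit 4, nat_lit 2, nat_lit 3, nat_lit 8, nat_lit 6, nat_lit 7, nat_lit 5, nat_lit 6, nat_lit 4, nat_lit 5, nat_lit 3, nat_lit 4, nat_lit 2, nat_lit 3, nat_lit 8, nat_lit 0, nat_lit 1, nat_lit 2, nat_lit 3, nat_lit 4, nat_lit 5, nat_lit 6, nat_lit 7, nat_lit 3, nat_lit 4, nat_lit 2, nat_lit 3, nat_lit 8, nat_lit 5,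 nat_lit 6, nat_lit 4, nat_lit 5, nat_lit 3, nat_lit 4, nat_lit 2, nat_lit 3, nat_lit 8, nat_lit 1, nat_lit 2, nat_lit 3, nat_lit 4, nat_lit 5, nat_lit 9, nat_lit 4, nat_lit 3, nat_lit 2, nat_lit 8, nat_lit 3, nat_lit 11, nat_lit 2, nat_lit 10, nat_lit 1, nat_lit 15, nat_lit 14, nat_lit 13, nat_lit 12, nat_lit 18, nat_lit 16] (Rl.rel (nat_lit 0) [nat_lit 8, nat_lit 4, nat_lit 5, nat_lit 2, nat_lit 3, nat_lit 4, nat_lit 1, nat_lit 2, nat_lit 3, nat_lit 8, nat_lit 0, nat_lit 1, nat_lit 2, nat_lit 3, nat_lit 4, nat_lit 5, nat_lit 6, nat_lit 7, nat_lit 8, nat_lit 2, nat_lit 3, nat_lit 4, nat_lit 1, nat_lit 2, nat_lit 3, nat_lit 8, nat_lit 0, nat_lit 1, nat_lit 2, nat_lit 3, nat_lit 4, nat_lit 5, nat_lit 4, nat_lit 3, nat_lit 2, nat_lit 1, nat_lit 9, nat_lit 4, nat_lit 3, nat_lit 2, nat_lit 8, nat_lit 3, nat_lit 10, nat_lit 1, nat_lit 16, nat_lit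 14, nat_lit 13, nat_lit 18] (nat_lit 25) (nat_lit 1) [nat_lit 3637] [nat_lit 3657, nat_lit 2558]))))) (FT.node (nat_lit 3660) (FT.leaf (Fct.mk true (nat_lit 32) (nat_lit 648) (nat_lit 5) [nat_lit 8, nat_lit 5, nat_lit 6, nat_lit 4, nat_lit 5, nat_lit 2, nat_lit 3, nat_lit 4, nat_lit 1, nat_lit 2, nat_lit 3, nat_lit 8, nat_lit 0, nat_lit 1, nat_lit 2, nat_lit 3, nat_lit 4, nat_lit 5, nat_lit 6, nat_lit 7, nat_lit 3, nat_lit 8, nat_lit 6, nat_lit 5, nat_lit 2, nat_lit 3, nat_lit 4, nat_lit 1, nat_lit 2, nat_lit 3, nat_lit 8, nat_lit 0, nat_lit 1, nat_lit 2, nat_lit 3, nat_lit 4, nat_lit 5, nat_lit 2, nat_lit 1, nat_lit 4, nat_lit 3, nat_lit 2, nat_lit 0, nat_lit 1, nat_lit 9, nat_lit 4, nat_lit 3, nat_lit 2, nat_lit 8, nat_lit 3, nat_lit 11, nat_lit 1, nat_lit 12, nat_lit 8, nat_lit 16, nat_lit 14, nat_lit 12, nat_lit 19, nat_lit 16] (Rl.t1 (nat_lit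 3658) (nat_lit 3654)))) (FT.node (nat_lit 3661) (FT.leaf (Fct.mk true (nat_lit 5) (nat_lit 116017) (nat_lit 32) [nat_lit 3, nat_lit 8, nat_lit 5, nat_lit 2, nat_lit 3, nat_lit 4, nat_lit 1, nat_lit 2, nat_lit 3, nat_lit 8, nat_lit 0, nat_lit 1, nat_lit 2, nat_lit 3, nat_lit 4, nat_lit 5, nat_lit 6, nat_lit 7, nat_lit 4, nat_lit 3, nat_lit 8, nat_lit 5, nat_lit 6, nat_lit 4, nat_lit 5, nat_lit 3, nat_lit 4, nat_lit 1, nat_lit 2, nat_lit 3, nat_lit 8, nat_lit 0, nat_lit 1, nat_lit 2, nat_lit 3, nat_lit 4, nat_lit 5, nat_lit 4, nat_lit 3, nat_lit 2, nat_lit 8, nat_lit 3, nat_lit 11, nat_lit 10, nat_lit 1, nat_lit 12, nat_lit 15, nat_lit 12, nat_lit 18, nat_lit 16] (Rl.inv (nat_lit 3659)))) (FT.leaf (Fct.mk true (nat_lit 5) (nat_lit 147) (nat_lit 32) [nat_lit 8, nat_lit 6, nat_lit 4, nat_lit 5, nat_lit 3, nat_lit 4, nat_lit 2, nat_lit 3, nat_lit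 8, nat_lit 1, nat_lit 2, nat_lit 3, nat_lit 4, nat_lit 5, nat_lit 6, nat_lit 7, nat_lit 5, nat_lit 2, nat_lit 8, nat_lit 3, nat_lit 9, nat_lit 2, nat_lit 12, nat_lit 18] (Rl.t1 (nat_lit 3660) (nat_lit 2877)))))))) (FT.node (nat_lit 3668) (FT.node (nat_lit 3665) (FT.node (nat_lit 3663) (FT.leaf (Fct.mk false (nat_lit 32) (nat_lit 0) (nat_lit 32) [nat_lit 1, nat_lit 2, nat_lit 3, nat_lit 8, nat_lit 4, nat_lit 5, nat_lit 3, nat_lit 4, nat_lit 2, nat_lit 3, nat_lit 8, nat_lit 1, nat_lit 2, nat_lit 3, nat_lit 4, nat_lit 5, nat_lit 2, nat_lit 8, nat_lit 3, nat_lit 10, nat_lit 8, nat_lit 18] (Rl.cmp (nat_lit 3010) (nat_lit 3010)))) (FT.node (nat_lit 3664) (FT.leaf (Fct.mk false (nat_lit 32) (nat_lit 0) (nat_lit 32) [nat_lit 8, nat_lit 5, nat_lit 6, nat_lit 4, nat_lit 5, nat_lit 3, nat_lit 4, nat_lit 2, nat_lit 3, nat_lit 8, nat_lit 0, nat_lit 1, nat_lit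 2, nat_lit 3, nat_lit 4, nat_lit 5, nat_lit 1, nat_lit 2, nat_lit 0, nat_lit 1, nat_lit 9, nat_lit 4, nat_lit 3, nat_lit 2, nat_lit 8, nat_lit 3, nat_lit 8, nat_lit 10, nat_lit 15, nat_lit 14, nat_lit 13, nat_lit 12, nat_lit 19, nat_lit 16] (Rl.cmp (nat_lit 3004) (nat_lit 3662)))) (FT.leaf (Fct.mk false (nat_lit 32) (nat_lit 0) (nat_lit 32) [nat_lit 3, nat_lit 8, nat_lit 5, nat_lit 2, nat_lit 3, nat_lit 4, nat_lit 1, nat_lit 2, nat_lit 3, nat_lit 8, nat_lit 6, nat_lit 7, nat_lit 5, nat_lit 6, nat_lit 4, nat_lit 5, nat_lit 3, nat_lit 4, nat_lit 2, nat_lit 3, nat_lit 8, nat_lit 1, nat_lit 2, nat_lit 3, nat_lit 4, nat_lit 5, nat_lit 6, nat_lit 7, nat_lit 3, nat_lit 4, nat_lit 2, nat_lit 3, nat_lit 8, nat_lit 0, nat_lit 1, nat_lit 2, nat_lit 3, nat_lit 4, nat_lit 5, nat_lit 2, nat_lit 0, nat_lit 1, nat_lit 9, nat_lit 4, nat_lit 3, nat_lit 2, nat_lit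 8, nat_lit 3, nat_lit 2, nat_lit 8, nat_lit 10, nat_lit 1, nat_lit 12, nat_lit 15, nat_lit 14, nat_lit 17, nat_lit 12, nat_lit 18, nat_lit 16] (Rl.cmp (nat_lit 3456) (nat_lit 3663)))))) (FT.node (nat_lit 3666) (FT.leaf (Fct.mk false (nat_lit 32) (nat_lit 0) (nat_lit 32) [nat_lit 3, nat_lit 8, nat_lit 5, nat_lit 2, nat_lit 3, nat_lit 4, nat_lit 1, nat_lit 2, nat_lit 3, nat_lit 8, nat_lit 6, nat_lit 7, nat_lit 5, nat_lit 6, nat_lit 4, nat_lit 5, nat_lit 3, nat_lit 4, nat_lit 2, nat_lit 3, nat_lit 8, nat_lit 1, nat_lit 2, nat_lit 3, nat_lit 4, nat_lit 5, nat_lit 6, nat_lit 7, nat_lit 6, nat_lit 5, nat_lit 4, nat_lit 2, nat_lit 3, nat_lit 8, nat_lit 0, nat_lit 1, nat_lit 2, nat_lit 3, nat_lit 4, nat_lit 5, nat_lit 1, nat_lit 2, nat_lit 3, nat_lit 11, nat_lit 10, nat_lit 1, nat_lit 15, nat_lit 12] (Rl.cmp (nat_lit 3004) (nat_lit 3664)))) (FT.node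 (nat_lit 3667) (FT.leaf (Fct.mk false (nat_lit 25) (nat_lit 0) (nat_lit 25) [nat_lit 8, nat_lit 6, nat_lit 5, nat_lit 2, nat_lit 3, nat_lit 4, nat_lit 1, nat_lit 2, nat_lit 3, nat_lit 8, nat_lit 0, nat_lit 1, nat_lit 2, nat_lit 3, nat_lit 4, nat_lit 5, nat_lit 2, nat_lit 3, nat_lit 8, nat_lit 4, nat_lit 3, nat_lit 2, nat_lit 0, nat_lit 1, nat_lit 9, nat_lit 4, nat_lit 3, nat_lit 2, nat_lit 8, nat_lit 3, nat_lit 11, nat_lit 1, nat_lit 16, nat_lit 12, nat_lit 15, nat_lit 14, nat_lit 17, nat_lit 18, nat_lit 16] (Rl.cmp (nat_lit 1672) (nat_lit 1256)))) (FT.leaf (Fct.mk false (nat_lit 25) (nat_lit 0) (nat_lit 25) [nat_lit 8, nat_lit 4, nat_lit 5, nat_lit 3, nat_lit 4, nat_lit 1, nat_lit 2, nat_lit 3, nat_lit 8, nat_lit 0, nat_lit 1, nat_lit 2, nat_lit 3, nat_lit 4, nat_lit 5, nat_lit 3, nat_lit 8, nat_lit 4, nat_lit 3, nat_lit 2, nat_lit 0, nat_lit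 1, nat_lit 9, nat_lit 4, nat_lit 3, nat_lit 2, nat_lit 8, nat_lit 3, nat_lit 1, nat_lit 0, nat_lit 2, nat_lit 16, nat_lit 12, nat_lit 15, nat_lit 14, nat_lit 8, nat_lit 18] (Rl.cmp (nat_lit 1258) (nat_lit 3666))))))) (FT.node (nat_lit 3671) (FT.node (nat_lit 3669) (FT.leaf (Fct.mk false (nat_lit 25) (nat_lit 0) (nat_lit 25) [nat_lit 6, nat_lit 4, nat_lit 5, nat_lit 2, nat_lit 3, nat_lit 4, nat_lit 1, nat_lit 2, nat_lit 3, nat_lit 8, nat_lit 0, nat_lit 1, nat_lit 2, nat_lit 3, nat_lit 4, nat_lit 5, nat_lit 0, nat_lit 1, nat_lit 9, nat_lit 4, nat_lit 3, nat_lit 2, nat_lit 8, nat_lit 3, nat_lit 15, nat_lit 14, nat_lit 16] (Rl.cmp (nat_lit 1813) (nat_lit 3667)))) (FT.node (nat_lit 3670) (FT.leaf (Fct.mk true (nat_lit 32) (nat_lit 100762) (nat_lit 32) [nat_lit 3, nat_lit 8, nat_lit 5, nat_lit 6, nat_lit 4, nat_lit 5, nat_lit 3, nat_lit 4, nat_lit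 1, nat_lit 2, nat_lit 3, nat_lit 8, nat_lit 0, nat_lit 1, nat_lit 2, nat_lit 3, nat_lit 4, nat_lit 5, nat_lit 6, nat_lit 7, nat_lit 6, nat_lit 5, nat_lit 4, nat_lit 3, nat_lit 8, nat_lit 1, nat_lit 2, nat_lit 3, nat_lit 4, nat_lit 5, nat_lit 9, nat_lit 4, nat_lit 2, nat_lit 8, nat_lit 10, nat_lit 1, nat_lit 12, nat_lit 15, nat_lit 8, nat_lit 16] (Rl.rel (nat_lit 0) [nat_lit 5, nat_lit 4, nat_lit 1, nat_lit 2, nat_lit 3, nat_lit 8, nat_lit 0, nat_lit 1, nat_lit 2, nat_lit 3, nat_lit 4, nat_lit 5, nat_lit 6, nat_lit 7, nat_lit 3, nat_lit 8, nat_lit 2, nat_lit 3, nat_lit 4, nat_lit 1, nat_lit 2, nat_lit 3, nat_lit 8, nat_lit 0, nat_lit 1, nat_lit 2, nat_lit 3, nat_lit 4, nat_lit 5, nat_lit 4, nat_lit 3, nat_lit 2, nat_lit 1, nat_lit 9, nat_lit 4, nat_lit 3, nat_lit 2, nat_lit 8, nat_lit 3, nat_lit 8, nat_lit 10, nat_lit 1, nat_lit 14, nat_lit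 17, nat_lit 18, nat_lit 16] (nat_lit 25) (nat_lit 1) [nat_lit 3637] [nat_lit 3668, nat_lit 3637]))) (FT.leaf (Fct.mk true (nat_lit 32) (nat_lit 7452) (nat_lit 32) [nat_lit 4, nat_lit 3, nat_lit 8, nat_lit 5, nat_lit 6, nat_lit 4, nat_lit 5, nat_lit 3, nat_lit 4, nat_lit 1, nat_lit 2, nat_lit 3, nat_lit 8, nat_lit 0, nat_lit 1, nat_lit 2, nat_lit 3, nat_lit 4, nat_lit 5, nat_lit 6, nat_lit 7, nat_lit 3, nat_lit 8, nat_lit 4, nat_lit 5, nat_lit 3, nat_lit 4, nat_lit 1, nat_lit 2, nat_lit 3, nat_lit 8, nat_lit 0, nat_lit 1, nat_lit 2, nat_lit 3, nat_lit 4, nat_lit 5, nat_lit 0, nat_lit 1, nat_lit 2, nat_lit 3, nat_lit 1, nat_lit 0, nat_lit 2, nat_lit 14, nat_lit 17, nat_lit 18] (Rl.t1 (nat_lit 3669) (nat_lit 3665)))))) (FT.node (nat_lit 3673) (FT.node (nat_lit 3672) (FT.leaf (Fct.mk false (nat_lit 32) (nat_lit 0) (nat_lit 32) [nat_lit 3, nat_lit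 8, nat_lit 5, nat_lit 2, nat_lit 3, nat_lit 4, nat_lit 1, nat_lit 2, nat_lit 3, nat_lit 8, nat_lit 6, nat_lit 7, nat_lit 5, nat_lit 6, nat_lit 4, nat_lit 5, nat_lit 3, nat_lit 4, nat_lit 2, nat_lit 3, nat_lit 8, nat_lit 1, nat_lit 2, nat_lit 3, nat_lit 4, nat_lit 5, nat_lit 6, nat_lit 7, nat_lit 4, nat_lit 2, nat_lit 3, nat_lit 8, nat_lit 5, nat_lit 6, nat_lit 4, nat_lit 5, nat_lit 3, nat_lit 4, nat_lit 2, nat_lit 3, nat_lit 8, nat_lit 1, nat_lit 2, nat_lit 3, nat_lit 4, nat_lit 5, nat_lit 3, nat_lit 2, nat_lit 0, nat_lit 1, nat_lit 9, nat_lit 4, nat_lit 3, nat_lit 2, nat_lit 8, nat_lit 3, nat_lit 1, nat_lit 9, nat_lit 8, nat_lit 16, nat_lit 15, nat_lit 14, nat_lit 13, nat_lit 16] (Rl.cmp (nat_lit 3456) (nat_lit 3603)))) (FT.leaf (Fct.mk false (nat_lit 32) (nat_lit 0) (nat_lit 32) [nat_lit 3, nat_lit 8, nat_lit 5, nat_lit 2, nat_lit 3, nat_lit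 4, nat_lit 1, nat_lit 2, nat_lit 3, nat_lit 8, nat_lit 6, nat_lit 7, nat_lit 5, nat_lit 6, nat_lit 4, nat_lit 5, nat_lit 3, nat_lit 4, nat_lit 2, nat_lit 3, nat_lit 8, nat_lit 1, nat_lit 2, nat_lit 3, nat_lit 4, nat_lit 5, nat_lit 6, nat_lit 7, nat_lit 8, nat_lit 0, nat_lit 1, nat_lit 2, nat_lit 3, nat_lit 4, nat_lit 5, nat_lit 1, nat_lit 2, nat_lit 0, nat_lit 1, nat_lit 4, nat_lit 3, nat_lit 2, nat_lit 8, nat_lit 3, nat_lit 10, nat_lit 2, nat_lit 8, nat_lit 10, nat_lit 1, nat_lit 12, nat_lit 15, nat_lit 14, nat_lit 17, nat_lit 18, nat_lit 16] (Rl.cmp (nat_lit 3047) (nat_lit 3671))))) (FT.node (nat_lit 3674) (FT.leaf (Fct.mk false (nat_lit 32) (nat_lit 0) (nat_lit 32) [nat_lit 3, nat_lit 8, nat_lit 5, nat_lit 2, nat_lit 3, nat_lit 4, nat_lit 1, nat_lit 2, nat_lit 3, nat_lit 8, nat_lit 6, nat_lit 7, nat_lit 5, nat_lit 6, nat_lit 4, nat_lit 5,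 nat_lit 3, nat_lit 4, nat_lit 2, nat_lit 3, nat_lit 8, nat_lit 1, nat_lit 2, nat_lit 3, nat_lit 4, nat_lit 5, nat_lit 6, nat_lit 7, nat_lit 2, nat_lit 3, nat_lit 8, nat_lit 5, nat_lit 6, nat_lit 4, nat_lit 5, nat_lit 3, nat_lit 4, nat_lit 2, nat_lit 3, nat_lit 8, nat_lit 0, nat_lit 1, nat_lit 2, nat_lit 3, nat_lit 4, nat_lit 5, nat_lit 1, nat_lit 4, nat_lit 3, nat_lit 2, nat_lit 0, nat_lit 1, nat_lit 9, nat_lit 4, nat_lit 3, nat_lit 2, nat_lit 8, nat_lit 3, nat_lit 8, nat_lit 10, nat_lit 9, nat_lit 2, nat_lit 15, nat_lit 13, nat_lit 16] (Rl.cmp (nat_lit 3010) (nat_lit 3672)))) (FT.leaf (Fct.mk false (nat_lit 32) (nat_lit 0) (nat_lit 32) [nat_lit 3, nat_lit 8, nat_lit 5, nat_lit 2, nat_lit 3, nat_lit 4, nat_lit 1, nat_lit 2, nat_lit 3, nat_lit 8, nat_lit 6, nat_lit 7, nat_lit 5, nat_lit 6, nat_lit 4, nat_lit 5, nat_lit 3, nat_lit 4, nat_lit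 2, nat_lit 3, nat_lit 8, nat_lit 1, nat_lit 2, nat_lit 3, nat_lit 4, nat_lit 5, nat_lit 6, nat_lit 7, nat_lit 8, nat_lit 4, nat_lit 5, nat_lit 3, nat_lit 4, nat_lit 2, nat_lit 3, nat_lit 8, nat_lit 1, nat_lit 2, nat_lit 3, nat_lit 4, nat_lit 5, nat_lit 0, nat_lit 1, nat_lit 9, nat_lit 4, nat_lit 3, nat_lit 2, nat_lit 8, nat_lit 3, nat_lit 11, nat_lit 2, nat_lit 8, nat_lit 12, nat_lit 15, nat_lit 8] (Rl.cmp (nat_lit 3456) (nat_lit 3010))))))))) (FT.node (nat_lit 3687) (FT.node (nat_lit 3681) (FT.node (nat_lit 3678) (FT.node (nat_lit 3676) (FT.leaf (Fct.mk false (nat_lit 32) (nat_lit 0) (nat_lit 32) [nat_lit 3, nat_lit 8, nat_lit 5, nat_lit 2, nat_lit 3, nat_lit 4, nat_lit 1, nat_lit 2, nat_lit 3, nat_lit 8, nat_lit 6, nat_lit 7, nat_lit 5, nat_lit 6, nat_lit 4, nat_lit 5, nat_lit 3, nat_lit 4, nat_lit 2, nat_lit 3, nat_lit 8, nat_lit 1, nat_lit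 2, nat_lit 3, nat_lit 4, nat_lit 5, nat_lit 6, nat_lit 7, nat_lit 5, nat_lit 3, nat_lit 4, nat_lit 2, nat_lit 3, nat_lit 8, nat_lit 1, nat_lit 2, nat_lit 3, nat_lit 4, nat_lit 5, nat_lit 8, nat_lit 4, nat_lit 3, nat_lit 2, nat_lit 1, nat_lit 9, nat_lit 4, nat_lit 3, nat_lit 2, nat_lit 8, nat_lit 3, nat_lit 10, nat_lit 9, nat_lit 2, nat_lit 16, nat_lit 14, nat_lit 16, nat_lit 8] (Rl.cmp (nat_lit 3047) (nat_lit 3674)))) (FT.node (nat_lit 3677) (FT.leaf (Fct.mk false (nat_lit 32) (nat_lit 0) (nat_lit 32) [nat_lit 3, nat_lit 8, nat_lit 5, nat_lit 2, nat_lit 3, nat_lit 4, nat_lit 1, nat_lit 2, nat_lit 3, nat_lit 8, nat_lit 6, nat_lit 7, nat_lit 5, nat_lit 6, nat_lit 4, nat_lit 5, nat_lit 3, nat_lit 4, nat_lit 2, nat_lit 3, nat_lit 8, nat_lit 1, nat_lit 2, nat_lit 3, nat_lit 4, nat_lit 5, nat_lit 6, nat_lit 7, nat_lit 1, nat_lit 2, nat_lit 3, nat_lit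 4, nat_lit 5, nat_lit 1, nat_lit 4, nat_lit 3, nat_lit 2, nat_lit 0, nat_lit 1, nat_lit 9, nat_lit 4, nat_lit 3, nat_lit 2, nat_lit 8, nat_lit 3, nat_lit 16, nat_lit 12, nat_lit 15, nat_lit 14, nat_lit 8, nat_lit 19, nat_lit 16] (Rl.cmp (nat_lit 3004) (nat_lit 3675)))) (FT.leaf (Fct.mk false (nat_lit 32) (nat_lit 0) (nat_lit 32) [nat_lit 8, nat_lit 3, nat_lit 4, nat_lit 2, nat_lit 3, nat_lit 8, nat_lit 5, nat_lit 6, nat_lit 4, nat_lit 5, nat_lit 3, nat_lit 4, nat_lit 2, nat_lit 3, nat_lit 8, nat_lit 0, nat_lit 1, nat_lit 2, nat_lit 3, nat_lit 4, nat_lit 5, nat_lit 3, nat_lit 2, nat_lit 1, nat_lit 8, nat_lit 3, nat_lit 2, nat_lit 0, nat_lit 1, nat_lit 9, nat_lit 4, nat_lit 3, nat_lit 2, nat_lit 8, nat_lit 3, nat_lit 11, nat_lit 1, nat_lit 12, nat_lit 15, nat_lit 14, nat_lit 13, nat_lit 12, nat_lit 19] (Rl.cmp (nat_lit 3456) (nat_lit 3676))))))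 (FT.node (nat_lit 3679) (FT.leaf (Fct.mk false (nat_lit 32) (nat_lit 0) (nat_lit 32) [nat_lit 2, nat_lit 3, nat_lit 8, nat_lit 6, nat_lit 4, nat_lit 5, nat_lit 3, nat_lit 4, nat_lit 2, nat_lit 3, nat_lit 8, nat_lit 0, nat_lit 1, nat_lit 2, nat_lit 3, nat_lit 4, nat_lit 5, nat_lit 2, nat_lit 1, nat_lit 3, nat_lit 2, nat_lit 0, nat_lit 1, nat_lit 9, nat_lit 4, nat_lit 3, nat_lit 2, nat_lit 8, nat_lit 3, nat_lit 8, nat_lit 10, nat_lit 9, nat_lit 2, nat_lit 15, nat_lit 12, nat_lit 18] (Rl.cmp (nat_lit 3004) (nat_lit 3677)))) (FT.node (nat_lit 3680) (FT.leaf (Fct.mk false (nat_lit 25) (nat_lit 0) (nat_lit 25) [nat_lit 7, nat_lit 6, nat_lit 5, nat_lit 3, nat_lit 4, nat_lit 1, nat_lit 2, nat_lit 3, nat_lit 8, nat_lit 0, nat_lit 1, nat_lit 2, nat_lit 3, nat_lit 4, nat_lit 5, nat_lit 6, nat_lit 7, nat_lit 4, nat_lit 3, nat_lit 8, nat_lit 2, nat_lit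 3, nat_lit 4, nat_lit 5, nat_lit 0, nat_lit 1, nat_lit 4, nat_lit 3, nat_lit 2, nat_lit 8, nat_lit 3, nat_lit 9, nat_lit 15, nat_lit 14] (Rl.cmp (nat_lit 2467) (nat_lit 2772)))) (FT.leaf (Fct.mk false (nat_lit 25) (nat_lit 0) (nat_lit 25) [nat_lit 7, nat_lit 6, nat_lit 4, nat_lit 5, nat_lit 2, nat_lit 3, nat_lit 4, nat_lit 1, nat_lit 2, nat_lit 3, nat_lit 8, nat_lit 0, nat_lit 1, nat_lit 2, nat_lit 3, nat_lit 4, nat_lit 5, nat_lit 6, nat_lit 7, nat_lit 4, nat_lit 3, nat_lit 8, nat_lit 2, nat_lit 3, nat_lit 4, nat_lit 5, nat_lit 2, nat_lit 1, nat_lit 9, nat_lit 4, nat_lit 3, nat_lit 2, nat_lit 8, nat_lit 3, nat_lit 9, nat_lit 15, nat_lit 14] (Rl.cmp (nat_lit 1258) (nat_lit 3679))))))) (FT.node (nat_lit 3684) (FT.node (nat_lit 3682) (FT.leaf (Fct.mk false (nat_lit 25) (nat_lit 0) (nat_lit 25) [nat_lit 7, nat_lit 6, nat_lit 4, nat_lit 5, nat_lit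 2, nat_lit 3, nat_lit 4, nat_lit 1, nat_lit 2, nat_lit 3, nat_lit 8, nat_lit 0, nat_lit 1, nat_lit 2, nat_lit 3, nat_lit 4, nat_lit 5, nat_lit 6, nat_lit 7, nat_lit 1, nat_lit 2, nat_lit 3, nat_lit 8, nat_lit 5, nat_lit 6, nat_lit 4, nat_lit 5, nat_lit 3, nat_lit 4, nat_lit 2, nat_lit 3, nat_lit 8, nat_lit 1, nat_lit 2, nat_lit 3, nat_lit 4, nat_lit 5, nat_lit 3, nat_lit 2, nat_lit 8, nat_lit 3, nat_lit 8, nat_lit 10, nat_lit 1, nat_lit 12, nat_lit 15, nat_lit 13, nat_lit 12, nat_lit 19, nat_lit 16] (Rl.cmp (nat_lit 1672) (nat_lit 3680)))) (FT.node (nat_lit 3683) (FT.leaf (Fct.mk true (nat_lit 32) (nat_lit 26571) (nat_lit 25) [nat_lit 5, nat_lit 4, nat_lit 3, nat_lit 8, nat_lit 6, nat_lit 7, nat_lit 5, nat_lit 6, nat_lit 4, nat_lit 5, nat_lit 3, nat_lit 4, nat_lit 2, nat_lit 3, nat_lit 8, nat_lit 1, nat_lit 2, nat_lit 3, nat_lit 4, nat_lit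 5, nat_lit 6, nat_lit 7, nat_lit 5, nat_lit 4, nat_lit 3, nat_lit 8, nat_lit 1, nat_lit 2, nat_lit 3, nat_lit 4, nat_lit 5, nat_lit 3, nat_lit 8, nat_lit 10, nat_lit 9, nat_lit 2, nat_lit 16, nat_lit 8, nat_lit 12, nat_lit 15, nat_lit 17, nat_lit 19] (Rl.rel (nat_lit 0) [nat_lit 5, nat_lit 4, nat_lit 1, nat_lit 2, nat_lit 3, nat_lit 8, nat_lit 0, nat_lit 1, nat_lit 2, nat_lit 3, nat_lit 4, nat_lit 5, nat_lit 6, nat_lit 7, nat_lit 4, nat_lit 3, nat_lit 8, nat_lit 2, nat_lit 3, nat_lit 4, nat_lit 1, nat_lit 2, nat_lit 3, nat_lit 8, nat_lit 0, nat_lit 1, nat_lit 2, nat_lit 3, nat_lit 4, nat_lit 5, nat_lit 4, nat_lit 3, nat_lit 2, nat_lit 1, nat_lit 9, nat_lit 4, nat_lit 3, nat_lit 2, nat_lit 8, nat_lit 3, nat_lit 1, nat_lit 16, nat_lit 14, nat_lit 13, nat_lit 18] (nat_lit 25) (nat_lit 2) [nat_lit 3637, nat_lit 3673, nat_lit 3611] []))) (FT.leaf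 (Fct.mk true (nat_lit 32) (nat_lit 7386) (nat_lit 25) [nat_lit 8, nat_lit 3, nat_lit 4, nat_lit 2, nat_lit 3, nat_lit 8, nat_lit 7, nat_lit 5, nat_lit 6, nat_lit 4, nat_lit 5, nat_lit 3, nat_lit 4, nat_lit 2, nat_lit 3, nat_lit 8, nat_lit 0, nat_lit 1, nat_lit 2, nat_lit 3, nat_lit 4, nat_lit 5, nat_lit 6, nat_lit 7, nat_lit 3, nat_lit 4, nat_lit 2, nat_lit 3, nat_lit 8, nat_lit 1, nat_lit 2, nat_lit 3, nat_lit 4, nat_lit 5, nat_lit 4, nat_lit 3, nat_lit 2, nat_lit 0, nat_lit 1, nat_lit 9, nat_lit 4, nat_lit 3, nat_lit 2, nat_lit 8, nat_lit 3, nat_lit 11, nat_lit 2, nat_lit 10, nat_lit 1, nat_lit 16, nat_lit 15, nat_lit 14, nat_lit 13, nat_lit 12] (Rl.t1 (nat_lit 3682) (nat_lit 3678)))))) (FT.node (nat_lit 3685) (FT.leaf (Fct.mk true (nat_lit 25) (nat_lit 45448) (nat_lit 32) [nat_lit 5, nat_lit 4, nat_lit 2, nat_lit 3, nat_lit 8, nat_lit 6,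 nat_lit 7, nat_lit 5, nat_lit 6, nat_lit 4, nat_lit 5, nat_lit 3, nat_lit 4, nat_lit 2, nat_lit 3, nat_lit 8, nat_lit 1, nat_lit 2, nat_lit 3, nat_lit 4, nat_lit 5, nat_lit 6, nat_lit 7, nat_lit 3, nat_lit 4, nat_lit 2, nat_lit 3, nat_lit 8, nat_lit 5, nat_lit 6, nat_lit 4, nat_lit 5, nat_lit 3, nat_lit 4, nat_lit 2, nat_lit 3, nat_lit 8, nat_lit 0, nat_lit 1, nat_lit 2, nat_lit 3, nat_lit 4, nat_lit 5, nat_lit 2, nat_lit 8, nat_lit 3, nat_lit 9, nat_lit 2, nat_lit 14, nat_lit 17, nat_lit 12, nat_lit 18, nat_lit 16] (Rl.inv (nat_lit 3683)))) (FT.node (nat_lit 3686) (FT.leaf (Fct.mk true (nat_lit 25) (nat_lit 193) (nat_lit 32) [nat_lit 3, nat_lit 8, nat_lit 6, nat_lit 5, nat_lit 2, nat_lit 3, nat_lit 4, nat_lit 1, nat_lit 2, nat_lit 3, nat_lit 8, nat_lit 0, nat_lit 1, nat_lit 2, nat_lit 3, nat_lit 4, nat_lit 5, nat_lit 6, nat_lit 7, nat_lit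 5, nat_lit 4, nat_lit 3, nat_lit 8, nat_lit 2, nat_lit 3, nat_lit 4, nat_lit 5, nat_lit 2, nat_lit 0, nat_lit 1, nat_lit 4, nat_lit 3, nat_lit 2, nat_lit 8, nat_lit 3, nat_lit 1, nat_lit 0, nat_lit 2, nat_lit 8, nat_lit 12, nat_lit 15, nat_lit 17, nat_lit 12, nat_lit 19, nat_lit 16] (Rl.t1 (nat_lit 3684) (nat_lit 3681)))) (FT.leaf (Fct.mk false (nat_lit 32) (nat_lit 0) (nat_lit 32) [nat_lit 3, nat_lit 8, nat_lit 5, nat_lit 2, nat_lit 3, nat_lit 4, nat_lit 1, nat_lit 2, nat_lit 3, nat_lit 8, nat_lit 6, nat_lit 7, nat_lit 5, nat_lit 6, nat_lit 4, nat_lit 5, nat_lit 3, nat_lit 4, nat_lit 2, nat_lit 3, nat_lit 8, nat_lit 1, nat_lit 2, nat_lit 3, nat_lit 4, nat_lit 5, nat_lit 6, nat_lit 7, nat_lit 8, nat_lit 6, nat_lit 4, nat_lit 5, nat_lit 3, nat_lit 4, nat_lit 2, nat_lit 3, nat_lit 8, nat_lit 1, nat_lit 2, nat_lit 3, nat_lit 4, nat_lit 5, nat_lit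 1, nat_lit 4, nat_lit 3, nat_lit 2, nat_lit 0, nat_lit 1, nat_lit 9, nat_lit 4, nat_lit 3, nat_lit 2, nat_lit 8, nat_lit 3, nat_lit 10, nat_lit 2, nat_lit 8, nat_lit 10, nat_lit 1, nat_lit 16, nat_lit 12, nat_lit 15, nat_lit 14, nat_lit 17, nat_lit 12, nat_lit 18] (Rl.cmp (nat_lit 2995) (nat_lit 3456)))))))) (FT.node (nat_lit 3693) (FT.node (nat_lit 3690) (FT.node (nat_lit 3688) (FT.leaf (Fct.mk false (nat_lit 32) (nat_lit 0) (nat_lit 32) [nat_lit 8, nat_lit 5, nat_lit 6, nat_lit 4, nat_lit 5, nat_lit 3, nat_lit 4, nat_lit 2, nat_lit 3, nat_lit 8, nat_lit 0, nat_lit 1, nat_lit 2, nat_lit 3, nat_lit 4, nat_lit 5, nat_lit 1, nat_lit 4, nat_lit 3, nat_lit 2, nat_lit 8, nat_lit 3, nat_lit 11, nat_lit 10, nat_lit 1, nat_lit 12, nat_lit 15, nat_lit 14, nat_lit 18, nat_lit 16] (Rl.cmp (nat_lit 3004) (nat_lit 3649)))) (FT.node (nat_lit 3689) (FT.leaf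 (Fct.mk false (nat_lit 32) (nat_lit 0) (nat_lit 32) [nat_lit 5, nat_lit 4, nat_lit 3, nat_lit 8, nat_lit 1, nat_lit 2, nat_lit 3, nat_lit 4, nat_lit 5, nat_lit 4, nat_lit 3, nat_lit 2, nat_lit 0, nat_lit 1, nat_lit 9, nat_lit 4, nat_lit 3, nat_lit 2, nat_lit 8, nat_lit 3, nat_lit 11, nat_lit 10, nat_lit 12, nat_lit 15, nat_lit 14, nat_lit 12, nat_lit 18] (Rl.cmp (nat_lit 3047) (nat_lit 3687)))) (FT.leaf (Fct.mk false (nat_lit 32) (nat_lit 0) (nat_lit 32) [nat_lit 8, nat_lit 3, nat_lit 4, nat_lit 2, nat_lit 3, nat_lit 8, nat_lit 1, nat_lit 2, nat_lit 3, nat_lit 4, nat_lit 5, nat_lit 1, nat_lit 8, nat_lit 3, nat_lit 2, nat_lit 0, nat_lit 1, nat_lit 9, nat_lit 4, nat_lit 3, nat_lit 2, nat_lit 8, nat_lit 3, nat_lit 9, nat_lit 15, nat_lit 14, nat_lit 12, nat_lit 18] (Rl.cmp (nat_lit 3010) (nat_lit 3688)))))) (FT.node (nat_lit 3691) (FT.leaf (Fct.mk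 false (nat_lit 25) (nat_lit 0) (nat_lit 25) [nat_lit 4, nat_lit 5, nat_lit 2, nat_lit 1, nat_lit 3, nat_lit 2, nat_lit 0, nat_lit 1, nat_lit 9, nat_lit 4, nat_lit 3, nat_lit 2, nat_lit 8, nat_lit 3, nat_lit 9, nat_lit 15, nat_lit 14, nat_lit 13, nat_lit 12, nat_lit 18] (Rl.cmp (nat_lit 2117) (nat_lit 1258)))) (FT.node (nat_lit 3692) (FT.leaf (Fct.mk false (nat_lit 25) (nat_lit 0) (nat_lit 25) [nat_lit 8, nat_lit 5, nat_lit 6, nat_lit 4, nat_lit 5, nat_lit 3, nat_lit 4, nat_lit 2, nat_lit 3, nat_lit 8, nat_lit 0, nat_lit 1, nat_lit 2, nat_lit 3, nat_lit 4, nat_lit 5, nat_lit 8, nat_lit 4, nat_lit 3, nat_lit 2, nat_lit 1, nat_lit 9, nat_lit 4, nat_lit 3, nat_lit 2, nat_lit 8, nat_lit 3, nat_lit 10, nat_lit 9, nat_lit 2, nat_lit 8, nat_lit 16, nat_lit 15, nat_lit 14, nat_lit 13, nat_lit 18] (Rl.cmp (nat_lit 2117) (nat_lit 3690)))) (FT.leaf (Fct.mk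 true (nat_lit 32) (nat_lit 12994) (nat_lit 5) [nat_lit 3, nat_lit 4, nat_lit 2, nat_lit 3, nat_lit 8, nat_lit 5, nat_lit 6, nat_lit 4, nat_lit 5, nat_lit 3, nat_lit 4, nat_lit 2, nat_lit 3, nat_lit 8, nat_lit 1, nat_lit 2, nat_lit 3, nat_lit 4, nat_lit 5, nat_lit 6, nat_lit 7, nat_lit 0, nat_lit 1, nat_lit 2, nat_lit 3, nat_lit 4, nat_lit 5, nat_lit 8, nat_lit 4, nat_lit 3, nat_lit 2, nat_lit 0, nat_lit 1, nat_lit 9, nat_lit 4, nat_lit 3, nat_lit 2, nat_lit 8, nat_lit 3, nat_lit 2, nat_lit 8, nat_lit 10, nat_lit 1, nat_lit 12, nat_lit 15, nat_lit 13, nat_lit 12, nat_lit 19, nat_lit 16] (Rl.rel (nat_lit 0) [nat_lit 5, nat_lit 4, nat_lit 1, nat_lit 2, nat_lit 3, nat_lit 8, nat_lit 0, nat_lit 1, nat_lit 2, nat_lit 3, nat_lit 4, nat_lit 5, nat_lit 6, nat_lit 7, nat_lit 8, nat_lit 3, nat_lit 4, nat_lit 1, nat_lit 2, nat_lit 3, nat_lit 8, nat_lit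 0, nat_lit 1, nat_lit 2, nat_lit 3, nat_lit 4, nat_lit 5, nat_lit 4, nat_lit 3, nat_lit 2, nat_lit 0, nat_lit 1, nat_lit 9, nat_lit 4, nat_lit 3, nat_lit 2, nat_lit 8, nat_lit 3, nat_lit 8, nat_lit 10, nat_lit 1, nat_lit 14, nat_lit 13, nat_lit 18] (nat_lit 25) (nat_lit 1) [nat_lit 3637] [nat_lit 3691, nat_lit 2473])))))) (FT.node (nat_lit 3696) (FT.node (nat_lit 3694) (FT.leaf (Fct.mk true (nat_lit 32) (nat_lit 6531) (nat_lit 5) [nat_lit 6, nat_lit 5, nat_lit 4, nat_lit 3, nat_lit 8, nat_lit 2, nat_lit 3, nat_lit 4, nat_lit 1, nat_lit 2, nat_lit 3, nat_lit 8, nat_lit 5, nat_lit 6, nat_lit 4, nat_lit 5, nat_lit 3, nat_lit 4, nat_lit 2, nat_lit 3, nat_lit 8, nat_lit 1, nat_lit 2, nat_lit 3, nat_lit 4, nat_lit 5, nat_lit 6, nat_lit 7, nat_lit 3, nat_lit 4, nat_lit 5, nat_lit 2, nat_lit 3, nat_lit 4, nat_lit 1, nat_lit 2, nat_lit 3, nat_lit 8,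 nat_lit 0, nat_lit 1, nat_lit 2, nat_lit 3, nat_lit 4, nat_lit 5, nat_lit 3, nat_lit 8, nat_lit 4, nat_lit 3, nat_lit 2, nat_lit 0, nat_lit 1, nat_lit 9, nat_lit 4, nat_lit 3, nat_lit 2, nat_lit 8, nat_lit 3, nat_lit 10, nat_lit 1, nat_lit 8, nat_lit 12, nat_lit 15, nat_lit 13, nat_lit 12, nat_lit 18] (Rl.t1 (nat_lit 3692) (nat_lit 3689)))) (FT.node (nat_lit 3695) (FT.leaf (Fct.mk true (nat_lit 5) (nat_lit 3138) (nat_lit 32) [nat_lit 3, nat_lit 8, nat_lit 6, nat_lit 4, nat_lit 5, nat_lit 3, nat_lit 4, nat_lit 1, nat_lit 2, nat_lit 3, nat_lit 8, nat_lit 0, nat_lit 1, nat_lit 2, nat_lit 3, nat_lit 4, nat_lit 5, nat_lit 6, nat_lit 7, nat_lit 6, nat_lit 4, nat_lit 5, nat_lit 3, nat_lit 4, nat_lit 2, nat_lit 3, nat_lit 8, nat_lit 0, nat_lit 1, nat_lit 2, nat_lit 3, nat_lit 4, nat_lit 5, nat_lit 8, nat_lit 3, nat_lit 2, nat_lit 1, nat_lit 4, nat_lit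 3, nat_lit 2, nat_lit 8, nat_lit 3, nat_lit 10, nat_lit 1, nat_lit 15, nat_lit 17, nat_lit 12, nat_lit 19] (Rl.inv (nat_lit 3693)))) (FT.leaf (Fct.mk true (nat_lit 5) (nat_lit 931) (nat_lit 32) [nat_lit 3, nat_lit 4, nat_lit 1, nat_lit 2, nat_lit 3, nat_lit 8, nat_lit 5, nat_lit 6, nat_lit 4, nat_lit 5, nat_lit 3, nat_lit 4, nat_lit 2, nat_lit 3, nat_lit 8, nat_lit 1, nat_lit 2, nat_lit 3, nat_lit 4, nat_lit 5, nat_lit 6, nat_lit 7, nat_lit 4, nat_lit 1, nat_lit 2, nat_lit 3, nat_lit 8, nat_lit 5, nat_lit 6, nat_lit 4, nat_lit 5, nat_lit 3, nat_lit 4, nat_lit 2, nat_lit 3, nat_lit 8, nat_lit 1, nat_lit 2, nat_lit 3, nat_lit 4, nat_lit 5, nat_lit 0, nat_lit 1, nat_lit 2, nat_lit 3, nat_lit 9, nat_lit 2, nat_lit 16, nat_lit 15, nat_lit 14, nat_lit 13, nat_lit 19, nat_lit 16] (Rl.t1 (nat_lit 3694) (nat_lit 1859)))))) (FT.node (nat_lit 3698) (FT.node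 (nat_lit 3697) (FT.leaf (Fct.mk false (nat_lit 32) (nat_lit 0) (nat_lit 32) [nat_lit 2, nat_lit 3, nat_lit 4, nat_lit 1, nat_lit 2, nat_lit 3, nat_lit 8, nat_lit 0, nat_lit 1, nat_lit 2, nat_lit 3, nat_lit 4, nat_lit 5, nat_lit 3, nat_lit 8, nat_lit 4, nat_lit 3, nat_lit 2, nat_lit 0, nat_lit 1, nat_lit 9, nat_lit 4, nat_lit 3, nat_lit 2, nat_lit 8, nat_lit 3, nat_lit 11, nat_lit 10, nat_lit 8, nat_lit 16, nat_lit 14, nat_lit 19] (Rl.cmp (nat_lit 3010) (nat_lit 3004)))) (FT.leaf (Fct.mk false (nat_lit 32) (nat_lit 0) (nat_lit 32) [nat_lit 3, nat_lit 8, nat_lit 5, nat_lit 2, nat_lit 3, nat_lit 4, nat_lit 1, nat_lit 2, nat_lit 3, nat_lit 8, nat_lit 6, nat_lit 7, nat_lit 5, nat_lit 6, nat_lit 4, nat_lit 5, nat_lit 3, nat_lit 4, nat_lit 2, nat_lit 3, nat_lit 8, nat_lit 1, nat_lit 2, nat_lit 3, nat_lit 4, nat_lit 5, nat_lit 6, nat_lit 7, nat_lit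 8, nat_lit 6, nat_lit 5, nat_lit 3, nat_lit 4, nat_lit 2, nat_lit 3, nat_lit 8, nat_lit 1, nat_lit 2, nat_lit 3, nat_lit 4, nat_lit 5, nat_lit 1, nat_lit 3, nat_lit 2, nat_lit 0, nat_lit 1, nat_lit 4, nat_lit 3, nat_lit 2, nat_lit 8, nat_lit 3, nat_lit 11, nat_lit 8, nat_lit 10, nat_lit 1, nat_lit 16, nat_lit 15, nat_lit 14, nat_lit 8] (Rl.cmp (nat_lit 3456) (nat_lit 3047))))) (FT.node (nat_lit 3699) (FT.leaf (Fct.mk false (nat_lit 32) (nat_lit 0) (nat_lit 32) [nat_lit 2, nat_lit 3, nat_lit 4, nat_lit 1, nat_lit 2, nat_lit 3, nat_lit 8, nat_lit 0, nat_lit 1, nat_lit 2, nat_lit 3, nat_lit 4, nat_lit 5, nat_lit 3, nat_lit 8, nat_lit 4, nat_lit 3, nat_lit 2, nat_lit 0, nat_lit 1, nat_lit 9, nat_lit 4, nat_lit 3, nat_lit 2, nat_lit 8, nat_lit 3, nat_lit 11, nat_lit 10, nat_lit 8, nat_lit 16, nat_lit 14, nat_lit 19] (Rl.cmp (nat_lit 3010) (nat_lit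 3004)))) (FT.leaf (Fct.mk false (nat_lit 32) (nat_lit 0) (nat_lit 32) [nat_lit 3, nat_lit 4, nat_lit 2, nat_lit 3, nat_lit 8, nat_lit 5, nat_lit 6, nat_lit 4, nat_lit 5, nat_lit 3, nat_lit 4, nat_lit 2, nat_lit 3, nat_lit 8, nat_lit 1, nat_lit 2, nat_lit 3, nat_lit 4, nat_lit 5, nat_lit 3, nat_lit 2, nat_lit 1, nat_lit 8, nat_lit 3, nat_lit 2, nat_lit 0, nat_lit 1, nat_lit 9, nat_lit 4, nat_lit 3, nat_lit 2, nat_lit 8, nat_lit 3, nat_lit 11, nat_lit 10, nat_lit 1, nat_lit 12, nat_lit 15, nat_lit 14, nat_lit 17, nat_lit 16] (Rl.cmp (nat_lit 3047) (nat_lit 3698)))))))))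

/-- some facts -/
noncomputable def ftc74 : FT := FT.node (nat_lit 3725) (FT.node (nat_lit 3712) (FT.node (nat_lit 3706) (FT.node (nat_lit 3703) (FT.node (nat_lit 3701) (FT.leaf (Fct.mk false (nat_lit 32) (nat_lit 0) (nat_lit 32) [nat_lit 5, nat_lit 4, nat_lit 3, nat_lit 8, nat_lit 1, nat_lit 2, nat_lit 3, nat_lit 4, nat_lit 5, nat_lit 2, nat_lit 1, nat_lit 3, nat_lit 2, nat_lit 0, nat_lit 1, nat_lit 9, nat_lit 4, nat_lit 3, nat_lit 2, nat_lit 8, nat_lit 3, nat_lit 9, nat_lit 10, nat_lit 2, nat_lit 8, nat_lit 10, nat_lit 1, nat_lit 14, nat_lit 16, nat_lit 8, nat_lit 18] (Rl.cmp (nat_lit 3004) (nat_lit 3699)))) (FT.node (nat_lit 3702) (FT.leaf (Fct.mk false (nat_lit 32) (nat_lit 0) (nat_lit 32) [nat_lit 6, nat_lit 5, nat_lit 4, nat_lit 3, nat_lit 8, nat_lit 2, nat_lit 3, nat_lit 4, nat_lit 1, nat_lit 2, nat_lit 3, nat_lit 8, nat_lit 5, nat_lit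 6, nat_lit 4, nat_lit 5, nat_lit 3, nat_lit 4, nat_lit 2, nat_lit 3, nat_lit 8, nat_lit 1, nat_lit 2, nat_lit 3, nat_lit 4, nat_lit 5, nat_lit 2, nat_lit 1, nat_lit 9, nat_lit 4, nat_lit 3, nat_lit 2, nat_lit 8, nat_lit 3, nat_lit 1, nat_lit 9, nat_lit 12, nat_lit 8, nat_lit 16, nat_lit 14, nat_lit 16, nat_lit 8, nat_lit 18, nat_lit 16] (Rl.cmp (nat_lit 3004) (nat_lit 3700)))) (FT.leaf (Fct.mk true (nat_lit 32) (nat_lit 103627) (nat_lit 32) [] (Rl.rel (nat_lit 0) [nat_lit 6, nat_lit 5, nat_lit 4, nat_lit 3, nat_lit 8, nat_lit 0, nat_lit 1, nat_lit 2, nat_lit 3, nat_lit 4, nat_lit 5, nat_lit 6, nat_lit 7, nat_lit 8, nat_lit 5, nat_lit 3, nat_lit 4, nat_lit 1, nat_lit 2, nat_lit 3, nat_lit 8, nat_lit 0, nat_lit 1, nat_lit 2, nat_lit 3, nat_lit 4, nat_lit 5, nat_lit 4, nat_lit 3, nat_lit 2, nat_lit 1, nat_lit 9, nat_lit 4, nat_lit 3, nat_lit 2,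 nat_lit 8, nat_lit 3, nat_lit 8, nat_lit 10, nat_lit 16, nat_lit 8, nat_lit 12, nat_lit 15, nat_lit 16, nat_lit 8, nat_lit 19, nat_lit 16] (nat_lit 25) (nat_lit 1) [nat_lit 3637] [nat_lit 2575, nat_lit 3637]))))) (FT.node (nat_lit 3704) (FT.leaf (Fct.mk true (nat_lit 32) (nat_lit 9346) (nat_lit 32) [nat_lit 6, nat_lit 5, nat_lit 4, nat_lit 3, nat_lit 8, nat_lit 2, nat_lit 3, nat_lit 4, nat_lit 1, nat_lit 2, nat_lit 3, nat_lit 8, nat_lit 5, nat_lit 6, nat_lit 4, nat_lit 5, nat_lit 3, nat_lit 4, nat_lit 2, nat_lit 3, nat_lit 8, nat_lit 1, nat_lit 2, nat_lit 3, nat_lit 4, nat_lit 5, nat_lit 2, nat_lit 1, nat_lit 9, nat_lit 4, nat_lit 3, nat_lit 2, nat_lit 8, nat_lit 3, nat_lit 1, nat_lit 9, nat_lit 12, nat_lit 8, nat_lit 16, nat_lit 14, nat_lit 16, nat_lit 8, nat_lit 18, nat_lit 16] (Rl.t1 (nat_lit 3702) (nat_lit 3701)))) (FT.node (nat_lit 3705)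 (FT.leaf (Fct.mk false (nat_lit 32) (nat_lit 0) (nat_lit 32) [nat_lit 5, nat_lit 4, nat_lit 3, nat_lit 8, nat_lit 2, nat_lit 3, nat_lit 4, nat_lit 5, nat_lit 2, nat_lit 1, nat_lit 4, nat_lit 3, nat_lit 2, nat_lit 8, nat_lit 3, nat_lit 8, nat_lit 10, nat_lit 14, nat_lit 12, nat_lit 18] (Rl.cmp (nat_lit 3010) (nat_lit 2995)))) (FT.leaf (Fct.mk false (nat_lit 32) (nat_lit 0) (nat_lit 32) [nat_lit 0, nat_lit 1, nat_lit 2, nat_lit 3, nat_lit 4, nat_lit 5, nat_lit 3, nat_lit 8, nat_lit 4, nat_lit 3, nat_lit 2, nat_lit 0, nat_lit 1, nat_lit 9, nat_lit 4, nat_lit 3, nat_lit 2, nat_lit 8, nat_lit 3, nat_lit 15, nat_lit 17, nat_lit 16] (Rl.cmp (nat_lit 3004) (nat_lit 2995))))))) (FT.node (nat_lit 3709) (FT.node (nat_lit 3707) (FT.leaf (Fct.mk false (nat_lit 32) (nat_lit 0) (nat_lit 32) [nat_lit 5, nat_lit 4, nat_lit 3, nat_lit 8, nat_lit 0, nat_lit 1,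 nat_lit 2, nat_lit 3, nat_lit 4, nat_lit 5, nat_lit 2, nat_lit 0, nat_lit 1, nat_lit 3, nat_lit 2, nat_lit 8, nat_lit 3, nat_lit 10, nat_lit 2, nat_lit 8, nat_lit 10, nat_lit 1, nat_lit 16, nat_lit 15, nat_lit 14, nat_lit 16, nat_lit 8] (Rl.cmp (nat_lit 3004) (nat_lit 3705)))) (FT.node (nat_lit 3708) (FT.leaf (Fct.mk false (nat_lit 32) (nat_lit 0) (nat_lit 32) [nat_lit 5, nat_lit 4, nat_lit 3, nat_lit 8, nat_lit 2, nat_lit 3, nat_lit 4, nat_lit 5, nat_lit 2, nat_lit 1, nat_lit 4, nat_lit 3, nat_lit 2, nat_lit 8, nat_lit 3, nat_lit 8, nat_lit 10, nat_lit 14, nat_lit 12, nat_lit 18] (Rl.cmp (nat_lit 3010) (nat_lit 2995)))) (FT.leaf (Fct.mk false (nat_lit 32) (nat_lit 0) (nat_lit 32) [nat_lit 6, nat_lit 5, nat_lit 4, nat_lit 3, nat_lit 8, nat_lit 2, nat_lit 3, nat_lit 4, nat_lit 1, nat_lit 2, nat_lit 3, nat_lit 8, nat_lit 5, nat_lit 6, nat_lit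 4, nat_lit 5, nat_lit 3, nat_lit 4, nat_lit 2, nat_lit 3, nat_lit 8, nat_lit 1, nat_lit 2, nat_lit 3, nat_lit 4, nat_lit 5, nat_lit 0, nat_lit 1, nat_lit 3, nat_lit 2, nat_lit 8, nat_lit 3, nat_lit 0, nat_lit 2, nat_lit 8, nat_lit 12, nat_lit 15, nat_lit 8, nat_lit 18] (Rl.cmp (nat_lit 3047) (nat_lit 2995)))))) (FT.node (nat_lit 3710) (FT.leaf (Fct.mk false (nat_lit 32) (nat_lit 0) (nat_lit 32) [nat_lit 5, nat_lit 6, nat_lit 4, nat_lit 5, nat_lit 3, nat_lit 4, nat_lit 2, nat_lit 3, nat_lit 8, nat_lit 1, nat_lit 2, nat_lit 3, nat_lit 4, nat_lit 5, nat_lit 1, nat_lit 4, nat_lit 3, nat_lit 2, nat_lit 8, nat_lit 3, nat_lit 11, nat_lit 10, nat_lit 1, nat_lit 12, nat_lit 15, nat_lit 14, nat_lit 18, nat_lit 16] (Rl.cmp (nat_lit 3004) (nat_lit 3707)))) (FT.node (nat_lit 3711) (FT.leaf (Fct.mk false (nat_lit 32) (nat_lit 0) (nat_lit 32) [nat_lit 8,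 nat_lit 1, nat_lit 2, nat_lit 3, nat_lit 4, nat_lit 5, nat_lit 3, nat_lit 2, nat_lit 0, nat_lit 1, nat_lit 9, nat_lit 4, nat_lit 3, nat_lit 2, nat_lit 8, nat_lit 3, nat_lit 8, nat_lit 10, nat_lit 0, nat_lit 16, nat_lit 14, nat_lit 13, nat_lit 12, nat_lit 19] (Rl.cmp (nat_lit 3004) (nat_lit 3047)))) (FT.leaf (Fct.mk false (nat_lit 32) (nat_lit 0) (nat_lit 32) [nat_lit 3, nat_lit 8, nat_lit 5, nat_lit 2, nat_lit 3, nat_lit 4, nat_lit 1, nat_lit 2, nat_lit 3, nat_lit 8, nat_lit 6, nat_lit 7, nat_lit 5, nat_lit 6, nat_lit 4, nat_lit 5, nat_lit 3, nat_lit 4, nat_lit 2, nat_lit 3, nat_lit 8, nat_lit 1, nat_lit 2, nat_lit 3, nat_lit 4, nat_lit 5, nat_lit 6, nat_lit 7, nat_lit 1, nat_lit 2, nat_lit 3, nat_lit 4, nat_lit 5, nat_lit 1, nat_lit 3, nat_lit 2, nat_lit 0, nat_lit 1, nat_lit 9, nat_lit 4, nat_lit 3, nat_lit 2, nat_lit 8, nat_lit 3, nat_lit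 10, nat_lit 1, nat_lit 8, nat_lit 12, nat_lit 15, nat_lit 17, nat_lit 18, nat_lit 16] (Rl.cmp (nat_lit 3456) (nat_lit 3710)))))))) (FT.node (nat_lit 3718) (FT.node (nat_lit 3715) (FT.node (nat_lit 3713) (FT.leaf (Fct.mk false (nat_lit 32) (nat_lit 0) (nat_lit 32) [nat_lit 3, nat_lit 8, nat_lit 5, nat_lit 2, nat_lit 3, nat_lit 4, nat_lit 1, nat_lit 2, nat_lit 3, nat_lit 8, nat_lit 6, nat_lit 7, nat_lit 5, nat_lit 6, nat_lit 4, nat_lit 5, nat_lit 3, nat_lit 4, nat_lit 2, nat_lit 3, nat_lit 8, nat_lit 1, nat_lit 2, nat_lit 3, nat_lit 4, nat_lit 5, nat_lit 6, nat_lit 7, nat_lit 6, nat_lit 5, nat_lit 4, nat_lit 3, nat_lit 8, nat_lit 1, nat_lit 2, nat_lit 3, nat_lit 4, nat_lit 5, nat_lit 2, nat_lit 1, nat_lit 3, nat_lit 2, nat_lit 0, nat_lit 1, nat_lit 9, nat_lit 4, nat_lit 3, nat_lit 2, nat_lit 8, nat_lit 3, nat_lit 10, nat_lit 2, nat_lit 8, nat_lit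 10, nat_lit 1, nat_lit 15, nat_lit 14, nat_lit 13, nat_lit 12, nat_lit 16] (Rl.cmp (nat_lit 3047) (nat_lit 3711)))) (FT.node (nat_lit 3714) (FT.leaf (Fct.mk false (nat_lit 32) (nat_lit 0) (nat_lit 32) [nat_lit 97] (Rl.cmp (nat_lit 3047) (nat_lit 3047)))) (FT.leaf (Fct.mk false (nat_lit 32) (nat_lit 0) (nat_lit 32) [nat_lit 1, nat_lit 4, nat_lit 3, nat_lit 2, nat_lit 8, nat_lit 3, nat_lit 11, nat_lit 8, nat_lit 10, nat_lit 1, nat_lit 14, nat_lit 17, nat_lit 12] (Rl.cmp (nat_lit 3010) (nat_lit 3713)))))) (FT.node (nat_lit 3716) (FT.leaf (Fct.mk false (nat_lit 32) (nat_lit 0) (nat_lit 32) [nat_lit 0, nat_lit 1, nat_lit 2, nat_lit 3, nat_lit 4, nat_lit 5, nat_lit 2, nat_lit 0, nat_lit 1, nat_lit 9, nat_lit 4, nat_lit 3, nat_lit 2, nat_lit 8, nat_lit 3, nat_lit 8, nat_lit 10, nat_lit 0, nat_lit 16, nat_lit 14, nat_lit 13, nat_lit 12, nat_lit 19]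 (Rl.cmp (nat_lit 3004) (nat_lit 3714)))) (FT.node (nat_lit 3717) (FT.leaf (Fct.mk false (nat_lit 32) (nat_lit 0) (nat_lit 32) [nat_lit 2, nat_lit 3, nat_lit 4, nat_lit 1, nat_lit 2, nat_lit 3, nat_lit 8, nat_lit 0, nat_lit 1, nat_lit 2, nat_lit 3, nat_lit 4, nat_lit 5, nat_lit 1, nat_lit 2, nat_lit 0, nat_lit 1, nat_lit 9, nat_lit 4, nat_lit 3, nat_lit 2, nat_lit 8, nat_lit 3, nat_lit 9, nat_lit 8, nat_lit 12, nat_lit 15, nat_lit 12] (Rl.cmp (nat_lit 3010) (nat_lit 3715)))) (FT.leaf (Fct.mk true (nat_lit 32) (nat_lit 5179) (nat_lit 5) [nat_lit 2, nat_lit 3, nat_lit 4, nat_lit 1, nat_lit 2, nat_lit 3, nat_lit 8, nat_lit 0, nat_lit 1, nat_lit 2, nat_lit 3, nat_lit 4, nat_lit 5, nat_lit 2, nat_lit 1, nat_lit 8, nat_lit 4, nat_lit 3, nat_lit 2, nat_lit 0, nat_lit 1, nat_lit 9, nat_lit 4, nat_lit 3, nat_lit 2, nat_lit 8, nat_lit 3, nat_lit 8, nat_lit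 10, nat_lit 0, nat_lit 14, nat_lit 12, nat_lit 18] (Rl.rel (nat_lit 0) [nat_lit 3, nat_lit 4, nat_lit 5, nat_lit 6, nat_lit 7, nat_lit 2, nat_lit 8, nat_lit 3, nat_lit 1, nat_lit 0, nat_lit 2, nat_lit 15, nat_lit 8, nat_lit 18] (nat_lit 5) (nat_lit 2) [nat_lit 3695, nat_lit 3712, nat_lit 3280] [])))))) (FT.node (nat_lit 3721) (FT.node (nat_lit 3719) (FT.leaf (Fct.mk true (nat_lit 32) (nat_lit 2) (nat_lit 5) [nat_lit 2, nat_lit 8, nat_lit 3, nat_lit 1, nat_lit 0, nat_lit 2, nat_lit 8, nat_lit 12, nat_lit 15, nat_lit 12, nat_lit 18] (Rl.t1 (nat_lit 3717) (nat_lit 3716)))) (FT.node (nat_lit 3720) (FT.leaf (Fct.mk true (nat_lit 5) (nat_lit 39) (nat_lit 32) [nat_lit 0, nat_lit 1, nat_lit 2, nat_lit 3, nat_lit 10, nat_lit 1, nat_lit 18] (Rl.inv (nat_lit 3718)))) (FT.leaf (Fct.mk false (nat_lit 32) (nat_lit 0) (nat_lit 32) [nat_lit 3, nat_lit 4, nat_lit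 1, nat_lit 2, nat_lit 3, nat_lit 8, nat_lit 5, nat_lit 6, nat_lit 4, nat_lit 5, nat_lit 3, nat_lit 4, nat_lit 2, nat_lit 3, nat_lit 8, nat_lit 1, nat_lit 2, nat_lit 3, nat_lit 4, nat_lit 5, nat_lit 0, nat_lit 1, nat_lit 2, nat_lit 8, nat_lit 3, nat_lit 11, nat_lit 1, nat_lit 12, nat_lit 15, nat_lit 12, nat_lit 19, nat_lit 16] (Rl.cmp (nat_lit 3004) (nat_lit 3500)))))) (FT.node (nat_lit 3723) (FT.node (nat_lit 3722) (FT.leaf (Fct.mk false (nat_lit 32) (nat_lit 0) (nat_lit 32) [nat_lit 3, nat_lit 8, nat_lit 5, nat_lit 2, nat_lit 3, nat_lit 4, nat_lit 1, nat_lit 2, nat_lit 3, nat_lit 8, nat_lit 6, nat_lit 7, nat_lit 5, nat_lit 6, nat_lit 4, nat_lit 5, nat_lit 3, nat_lit 4, nat_lit 2, nat_lit 3, nat_lit 8, nat_lit 1, nat_lit 2, nat_lit 3, nat_lit 4, nat_lit 5, nat_lit 6, nat_lit 7, nat_lit 5, nat_lit 4, nat_lit 3, nat_lit 8, nat_lit 0, nat_lit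 1, nat_lit 2, nat_lit 3, nat_lit 4, nat_lit 5, nat_lit 0, nat_lit 1, nat_lit 9, nat_lit 4, nat_lit 3, nat_lit 2, nat_lit 8, nat_lit 3, nat_lit 11, nat_lit 8, nat_lit 10, nat_lit 1, nat_lit 8, nat_lit 16] (Rl.cmp (nat_lit 3456) (nat_lit 3720)))) (FT.leaf (Fct.mk true (nat_lit 32) (nat_lit 4024) (nat_lit 32) [nat_lit 3, nat_lit 8, nat_lit 0, nat_lit 1, nat_lit 2, nat_lit 3, nat_lit 4, nat_lit 5, nat_lit 6, nat_lit 7, nat_lit 2, nat_lit 3, nat_lit 4, nat_lit 1, nat_lit 2, nat_lit 3, nat_lit 8, nat_lit 5, nat_lit 6, nat_lit 4, nat_lit 5, nat_lit 3, nat_lit 4, nat_lit 2, nat_lit 3, nat_lit 8, nat_lit 1, nat_lit 2, nat_lit 3, nat_lit 4, nat_lit 5, nat_lit 1, nat_lit 9, nat_lit 4, nat_lit 3, nat_lit 2, nat_lit 8, nat_lit 3, nat_lit 11, nat_lit 1, nat_lit 16, nat_lit 8, nat_lit 12, nat_lit 15] (Rl.rel (nat_lit 0) [nat_lit 3, nat_lit 8, nat_lit 2, nat_lit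 3, nat_lit 4, nat_lit 5, nat_lit 6, nat_lit 7, nat_lit 1, nat_lit 2, nat_lit 3, nat_lit 0, nat_lit 2, nat_lit 15, nat_lit 14, nat_lit 8, nat_lit 18] (nat_lit 5) (nat_lit 1) [nat_lit 3695] [nat_lit 2748, nat_lit 3216])))) (FT.node (nat_lit 3724) (FT.leaf (Fct.mk true (nat_lit 32) (nat_lit 1398) (nat_lit 32) [nat_lit 6, nat_lit 5, nat_lit 3, nat_lit 4, nat_lit 1, nat_lit 2, nat_lit 3, nat_lit 8, nat_lit 0, nat_lit 1, nat_lit 2, nat_lit 3, nat_lit 4, nat_lit 5, nat_lit 6, nat_lit 7, nat_lit 4, nat_lit 3, nat_lit 8, nat_lit 2, nat_lit 3, nat_lit 4, nat_lit 1, nat_lit 2, nat_lit 3, nat_lit 8, nat_lit 0, nat_lit 1, nat_lit 2, nat_lit 3, nat_lit 4, nat_lit 5, nat_lit 4, nat_lit 3, nat_lit 2, nat_lit 8, nat_lit 3, nat_lit 9, nat_lit 2, nat_lit 15, nat_lit 14, nat_lit 17, nat_lit 12, nat_lit 18] (Rl.t1 (nat_lit 3722) (nat_lit 3721)))) (FT.leaf (Fct.mk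 false (nat_lit 32) (nat_lit 0) (nat_lit 32) [nat_lit 5, nat_lit 6, nat_lit 4, nat_lit 5, nat_lit 3, nat_lit 4, nat_lit 2, nat_lit 3, nat_lit 8, nat_lit 1, nat_lit 2, nat_lit 3, nat_lit 4, nat_lit 5, nat_lit 1, nat_lit 9, nat_lit 4, nat_lit 3, nat_lit 2, nat_lit 8, nat_lit 3, nat_lit 11, nat_lit 10, nat_lit 1, nat_lit 12, nat_lit 15, nat_lit 14, nat_lit 18, nat_lit 16] (Rl.cmp (nat_lit 3004) (nat_lit 3010))))))))) (FT.node (nat_lit 3737) (FT.node (nat_lit 3731) (FT.node (nat_lit 3728) (FT.node (nat_lit 3726) (FT.leaf (Fct.mk false (nat_lit 32) (nat_lit 0) (nat_lit 32) [nat_lit 3, nat_lit 8, nat_lit 5, nat_lit 2, nat_lit 3, nat_lit 4, nat_lit 1, nat_lit 2, nat_lit 3, nat_lit 8, nat_lit 6, nat_lit 7, nat_lit 5, nat_lit 6, nat_lit 4, nat_lit 5, nat_lit 3, nat_lit 4, nat_lit 2, nat_lit 3, nat_lit 8, nat_lit 1, nat_lit 2, nat_lit 3, nat_lit 4, nat_lit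 5, nat_lit 6, nat_lit 7, nat_lit 8, nat_lit 3, nat_lit 4, nat_lit 2, nat_lit 3, nat_lit 8, nat_lit 1, nat_lit 2, nat_lit 3, nat_lit 4, nat_lit 5, nat_lit 1, nat_lit 2, nat_lit 0, nat_lit 1, nat_lit 3, nat_lit 2, nat_lit 8, nat_lit 3, nat_lit 10, nat_lit 1, nat_lit 15, nat_lit 13, nat_lit 18] (Rl.cmp (nat_lit 3456) (nat_lit 3724)))) (FT.node (nat_lit 3727) (FT.leaf (Fct.mk false (nat_lit 32) (nat_lit 0) (nat_lit 32) [nat_lit 3, nat_lit 8, nat_lit 5, nat_lit 2, nat_lit 3, nat_lit 4, nat_lit 1, nat_lit 2, nat_lit 3, nat_lit 8, nat_lit 6, nat_lit 7, nat_lit 5, nat_lit 6, nat_lit 4, nat_lit 5, nat_lit 3, nat_lit 4, nat_lit 2, nat_lit 3, nat_lit 8, nat_lit 1, nat_lit 2, nat_lit 3, nat_lit 4, nat_lit 5, nat_lit 6, nat_lit 7, nat_lit 5, nat_lit 4, nat_lit 3, nat_lit 8, nat_lit 0, nat_lit 1, nat_lit 2, nat_lit 3, nat_lit 4, nat_lit 5, nat_lit 2, nat_lit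 1, nat_lit 4, nat_lit 3, nat_lit 2, nat_lit 0, nat_lit 1, nat_lit 9, nat_lit 4, nat_lit 3, nat_lit 2, nat_lit 8, nat_lit 3, nat_lit 8, nat_lit 10, nat_lit 9, nat_lit 2, nat_lit 15, nat_lit 17, nat_lit 19, nat_lit 16] (Rl.cmp (nat_lit 3004) (nat_lit 3725)))) (FT.leaf (Fct.mk false (nat_lit 32) (nat_lit 0) (nat_lit 32) [nat_lit 3, nat_lit 8, nat_lit 5, nat_lit 2, nat_lit 3, nat_lit 4, nat_lit 1, nat_lit 2, nat_lit 3, nat_lit 8, nat_lit 6, nat_lit 7, nat_lit 5, nat_lit 6, nat_lit 4, nat_lit 5, nat_lit 3, nat_lit 4, nat_lit 2, nat_lit 3, nat_lit 8, nat_lit 1, nat_lit 2, nat_lit 3, nat_lit 4, nat_lit 5, nat_lit 6, nat_lit 7, nat_lit 8, nat_lit 6, nat_lit 5, nat_lit 3, nat_lit 4, nat_lit 2, nat_lit 3, nat_lit 8, nat_lit 1, nat_lit 2, nat_lit 3, nat_lit 4, nat_lit 5, nat_lit 2, nat_lit 1, nat_lit 3, nat_lit 2, nat_lit 0, nat_lit 1, nat_lit 9, nat_lit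 4, nat_lit 3, nat_lit 2, nat_lit 8, nat_lit 3, nat_lit 10, nat_lit 8, nat_lit 16, nat_lit 15, nat_lit 14, nat_lit 17, nat_lit 19] (Rl.cmp (nat_lit 3004) (nat_lit 3726)))))) (FT.node (nat_lit 3729) (FT.leaf (Fct.mk false (nat_lit 32) (nat_lit 0) (nat_lit 32) [nat_lit 3, nat_lit 8, nat_lit 5, nat_lit 2, nat_lit 3, nat_lit 4, nat_lit 1, nat_lit 2, nat_lit 3, nat_lit 8, nat_lit 6, nat_lit 7, nat_lit 5, nat_lit 6, nat_lit 4, nat_lit 5, nat_lit 3, nat_lit 4, nat_lit 2, nat_lit 3, nat_lit 8, nat_lit 1, nat_lit 2, nat_lit 3, nat_lit 4, nat_lit 5, nat_lit 6, nat_lit 7, nat_lit 8, nat_lit 5, nat_lit 3, nat_lit 4, nat_lit 2, nat_lit 3, nat_lit 8, nat_lit 1, nat_lit 2, nat_lit 3, nat_lit 4, nat_lit 5, nat_lit 3, nat_lit 2, nat_lit 0, nat_lit 1, nat_lit 9, nat_lit 4, nat_lit 3, nat_lit 2, nat_lit 8, nat_lit 3, nat_lit 10, nat_lit 16, nat_lit 8, nat_lit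 12, nat_lit 15, nat_lit 17, nat_lit 12, nat_lit 18] (Rl.cmp (nat_lit 3010) (nat_lit 3727)))) (FT.node (nat_lit 3730) (FT.leaf (Fct.mk false (nat_lit 32) (nat_lit 0) (nat_lit 32) [nat_lit 8, nat_lit 1, nat_lit 2, nat_lit 3, nat_lit 4, nat_lit 5, nat_lit 3, nat_lit 2, nat_lit 0, nat_lit 1, nat_lit 9, nat_lit 4, nat_lit 3, nat_lit 2, nat_lit 8, nat_lit 3, nat_lit 8, nat_lit 10, nat_lit 0, nat_lit 16, nat_lit 14, nat_lit 13, nat_lit 12, nat_lit 19] (Rl.cmp (nat_lit 3004) (nat_lit 3047)))) (FT.leaf (Fct.mk false (nat_lit 32) (nat_lit 0) (nat_lit 32) [nat_lit 3, nat_lit 8, nat_lit 5, nat_lit 2, nat_lit 3, nat_lit 4, nat_lit 1, nat_lit 2, nat_lit 3, nat_lit 8, nat_lit 6, nat_lit 7, nat_lit 5, nat_lit 6, nat_lit 4, nat_lit 5, nat_lit 3, nat_lit 4, nat_lit 2, nat_lit 3, nat_lit 8, nat_lit 1, nat_lit 2, nat_lit 3, nat_lit 4, nat_lit 5, nat_lit 6, nat_lit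 7, nat_lit 1, nat_lit 2, nat_lit 3, nat_lit 4, nat_lit 5, nat_lit 1, nat_lit 3, nat_lit 2, nat_lit 0, nat_lit 1, nat_lit 9, nat_lit 4, nat_lit 3, nat_lit 2, nat_lit 8, nat_lit 3, nat_lit 10, nat_lit 1, nat_lit 8, nat_lit 12, nat_lit 15, nat_lit 17, nat_lit 18, nat_lit 16] (Rl.cmp (nat_lit 3456) (nat_lit 3729))))))) (FT.node (nat_lit 3734) (FT.node (nat_lit 3732) (FT.leaf (Fct.mk false (nat_lit 32) (nat_lit 0) (nat_lit 32) [nat_lit 3, nat_lit 8, nat_lit 5, nat_lit 2, nat_lit 3, nat_lit 4, nat_lit 1, nat_lit 2, nat_lit 3, nat_lit 8, nat_lit 6, nat_lit 7, nat_lit 5, nat_lit 6, nat_lit 4, nat_lit 5, nat_lit 3, nat_lit 4, nat_lit 2, nat_lit 3, nat_lit 8, nat_lit 1, nat_lit 2, nat_lit 3, nat_lit 4, nat_lit 5, nat_lit 6, nat_lit 7, nat_lit 6, nat_lit 5, nat_lit 4, nat_lit 3, nat_lit 8, nat_lit 1, nat_lit 2, nat_lit 3, nat_lit 4, nat_lit 5, nat_lit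 2, nat_lit 1, nat_lit 3, nat_lit 2, nat_lit 0, nat_lit 1, nat_lit 9, nat_lit 4, nat_lit 3, nat_lit 2, nat_lit 8, nat_lit 3, nat_lit 10, nat_lit 2, nat_lit 8, nat_lit 10, nat_lit 1, nat_lit 15, nat_lit 14, nat_lit 13, nat_lit 12, nat_lit 16] (Rl.cmp (nat_lit 3047) (nat_lit 3730)))) (FT.node (nat_lit 3733) (FT.leaf (Fct.mk false (nat_lit 32) (nat_lit 0) (nat_lit 32) [nat_lit 3, nat_lit 8, nat_lit 5, nat_lit 2, nat_lit 3, nat_lit 4, nat_lit 1, nat_lit 2, nat_lit 3, nat_lit 8, nat_lit 6, nat_lit 7, nat_lit 5, nat_lit 6, nat_lit 4, nat_lit 5, nat_lit 3, nat_lit 4, nat_lit 2, nat_lit 3, nat_lit 8, nat_lit 1, nat_lit 2, nat_lit 3, nat_lit 4, nat_lit 5, nat_lit 6, nat_lit 7, nat_lit 8, nat_lit 4, nat_lit 5, nat_lit 3, nat_lit 4, nat_lit 2, nat_lit 3, nat_lit 8, nat_lit 1, nat_lit 2, nat_lit 3, nat_lit 4, nat_lit 5, nat_lit 8, nat_lit 3, nat_lit 2,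 nat_lit 1, nat_lit 4, nat_lit 3, nat_lit 2, nat_lit 8, nat_lit 3, nat_lit 9, nat_lit 8, nat_lit 16, nat_lit 14, nat_lit 16] (Rl.cmp (nat_lit 3004) (nat_lit 3731)))) (FT.leaf (Fct.mk false (nat_lit 32) (nat_lit 0) (nat_lit 32) [nat_lit 3, nat_lit 2, nat_lit 1, nat_lit 8, nat_lit 3, nat_lit 2, nat_lit 0, nat_lit 1, nat_lit 4, nat_lit 3, nat_lit 2, nat_lit 8, nat_lit 3, nat_lit 2, nat_lit 10, nat_lit 1, nat_lit 8, nat_lit 12, nat_lit 15, nat_lit 14, nat_lit 18] (Rl.cmp (nat_lit 3456) (nat_lit 3732)))))) (FT.node (nat_lit 3735) (FT.leaf (Fct.mk true (nat_lit 32) (nat_lit 62793) (nat_lit 32) [nat_lit 4, nat_lit 2, nat_lit 3, nat_lit 8, nat_lit 0, nat_lit 1, nat_lit 2, nat_lit 3, nat_lit 4, nat_lit 5, nat_lit 6, nat_lit 7, nat_lit 6, nat_lit 3, nat_lit 4, nat_lit 5, nat_lit 2, nat_lit 3, nat_lit 4, nat_lit 1, nat_lit 2, nat_lit 3, nat_lit 8, nat_lit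 0, nat_lit 1, nat_lit 2, nat_lit 3, nat_lit 4, nat_lit 5, nat_lit 2, nat_lit 8, nat_lit 3, nat_lit 2, nat_lit 16, nat_lit 12, nat_lit 15, nat_lit 14, nat_lit 12, nat_lit 16] (Rl.rel (nat_lit 0) [nat_lit 8, nat_lit 3, nat_lit 4, nat_lit 2, nat_lit 3, nat_lit 8, nat_lit 1, nat_lit 2, nat_lit 3, nat_lit 4, nat_lit 5, nat_lit 6, nat_lit 7, nat_lit 2, nat_lit 3, nat_lit 1, nat_lit 0, nat_lit 2, nat_lit 12, nat_lit 15, nat_lit 14, nat_lit 8] (nat_lit 5) (nat_lit 1) [nat_lit 3695] [nat_lit 3196]))) (FT.node (nat_lit 3736) (FT.leaf (Fct.mk true (nat_lit 32) (nat_lit 2248) (nat_lit 32) [nat_lit 4, nat_lit 3, nat_lit 8, nat_lit 1, nat_lit 2, nat_lit 3, nat_lit 4, nat_lit 5, nat_lit 6, nat_lit 7, nat_lit 3, nat_lit 8, nat_lit 2, nat_lit 3, nat_lit 4, nat_lit 1, nat_lit 2, nat_lit 3, nat_lit 8, nat_lit 0, nat_lit 1, nat_lit 2, nat_lit 3, nat_lit 4, nat_lit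 5, nat_lit 2, nat_lit 1, nat_lit 3, nat_lit 2, nat_lit 0, nat_lit 1, nat_lit 9, nat_lit 4, nat_lit 3, nat_lit 2, nat_lit 8, nat_lit 3, nat_lit 2, nat_lit 8, nat_lit 10, nat_lit 1, nat_lit 16, nat_lit 8, nat_lit 12, nat_lit 15, nat_lit 17, nat_lit 12, nat_lit 19] (Rl.t1 (nat_lit 3734) (nat_lit 3728)))) (FT.leaf (Fct.mk true (nat_lit 32) (nat_lit 397) (nat_lit 32) [nat_lit 8, nat_lit 6, nat_lit 5, nat_lit 2, nat_lit 3, nat_lit 4, nat_lit 1, nat_lit 2, nat_lit 3, nat_lit 8, nat_lit 0, nat_lit 1, nat_lit 2, nat_lit 3, nat_lit 4, nat_lit 5, nat_lit 6, nat_lit 7, nat_lit 5, nat_lit 2, nat_lit 3, nat_lit 4, nat_lit 1, nat_lit 2, nat_lit 3, nat_lit 8, nat_lit 0, nat_lit 1, nat_lit 2, nat_lit 3, nat_lit 4, nat_lit 5, nat_lit 4, nat_lit 3, nat_lit 2, nat_lit 1, nat_lit 8, nat_lit 3, nat_lit 2, nat_lit 0, nat_lit 1, nat_lit 4, nat_lit 3, nat_lit 2, nat_lit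 8, nat_lit 3, nat_lit 9, nat_lit 10, nat_lit 2, nat_lit 8, nat_lit 10, nat_lit 1, nat_lit 8, nat_lit 12, nat_lit 15, nat_lit 12, nat_lit 18] (Rl.inv (nat_lit 3735)))))))) (FT.node (nat_lit 3743) (FT.node (nat_lit 3740) (FT.node (nat_lit 3738) (FT.leaf (Fct.mk true (nat_lit 32) (nat_lit 108) (nat_lit 32) [nat_lit 8, nat_lit 6, nat_lit 5, nat_lit 3, nat_lit 4, nat_lit 1, nat_lit 2, nat_lit 3, nat_lit 8, nat_lit 0, nat_lit 1, nat_lit 2, nat_lit 3, nat_lit 4, nat_lit 5, nat_lit 6, nat_lit 7, nat_lit 5, nat_lit 2, nat_lit 3, nat_lit 4, nat_lit 1, nat_lit 2, nat_lit 3, nat_lit 8, nat_lit 0, nat_lit 1, nat_lit 2, nat_lit 3, nat_lit 4, nat_lit 5, nat_lit 1, nat_lit 2, nat_lit 0, nat_lit 1, nat_lit 4, nat_lit 3, nat_lit 2, nat_lit 8, nat_lit 3, nat_lit 9, nat_lit 10, nat_lit 2, nat_lit 8, nat_lit 10, nat_lit 1, nat_lit 15] (Rl.t1 (nat_lit 3736) (nat_lit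 3733)))) (FT.node (nat_lit 3739) (FT.leaf (Fct.mk false (nat_lit 32) (nat_lit 0) (nat_lit 32) [nat_lit 3, nat_lit 8, nat_lit 6, nat_lit 4, nat_lit 5, nat_lit 3, nat_lit 4, nat_lit 2, nat_lit 3, nat_lit 8, nat_lit 1, nat_lit 2, nat_lit 3, nat_lit 4, nat_lit 5, nat_lit 1, nat_lit 8, nat_lit 4, nat_lit 3, nat_lit 2, nat_lit 0, nat_lit 1, nat_lit 9, nat_lit 4, nat_lit 3, nat_lit 2, nat_lit 8, nat_lit 3, nat_lit 11, nat_lit 2, nat_lit 10, nat_lit 1, nat_lit 16, nat_lit 14, nat_lit 18, nat_lit 16] (Rl.cmp (nat_lit 3047) (nat_lit 3004)))) (FT.leaf (Fct.mk false (nat_lit 32) (nat_lit 0) (nat_lit 32) [nat_lit 3, nat_lit 4, nat_lit 2, nat_lit 3, nat_lit 8, nat_lit 5, nat_lit 6, nat_lit 4, nat_lit 5, nat_lit 3, nat_lit 4, nat_lit 2, nat_lit 3, nat_lit 8, nat_lit 1, nat_lit 2, nat_lit 3, nat_lit 4, nat_lit 5, nat_lit 2, nat_lit 1, nat_lit 8, nat_lit 3,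 nat_lit 2, nat_lit 0, nat_lit 1, nat_lit 4, nat_lit 3, nat_lit 2, nat_lit 8, nat_lit 3, nat_lit 10, nat_lit 12, nat_lit 15, nat_lit 14, nat_lit 18, nat_lit 16] (Rl.cmp (nat_lit 3010) (nat_lit 3738)))))) (FT.node (nat_lit 3741) (FT.leaf (Fct.mk false (nat_lit 32) (nat_lit 0) (nat_lit 32) [nat_lit 8, nat_lit 1, nat_lit 2, nat_lit 3, nat_lit 4, nat_lit 5, nat_lit 3, nat_lit 2, nat_lit 0, nat_lit 1, nat_lit 9, nat_lit 4, nat_lit 3, nat_lit 2, nat_lit 8, nat_lit 3, nat_lit 8, nat_lit 10, nat_lit 0, nat_lit 16, nat_lit 14, nat_lit 13, nat_lit 12, nat_lit 19] (Rl.cmp (nat_lit 3004) (nat_lit 3047)))) (FT.node (nat_lit 3742) (FT.leaf (Fct.mk false (nat_lit 32) (nat_lit 0) (nat_lit 32) [nat_lit 8, nat_lit 2, nat_lit 3, nat_lit 4, nat_lit 5, nat_lit 1, nat_lit 3, nat_lit 2, nat_lit 0, nat_lit 1, nat_lit 9, nat_lit 4, nat_lit 3, nat_lit 2, nat_lit 8, nat_lit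 3, nat_lit 11, nat_lit 8, nat_lit 10, nat_lit 8, nat_lit 16, nat_lit 14, nat_lit 13, nat_lit 12, nat_lit 16] (Rl.cmp (nat_lit 3010) (nat_lit 3740)))) (FT.leaf (Fct.mk false (nat_lit 32) (nat_lit 0) (nat_lit 32) [nat_lit 5, nat_lit 4, nat_lit 2, nat_lit 3, nat_lit 8, nat_lit 1, nat_lit 2, nat_lit 3, nat_lit 4, nat_lit 5, nat_lit 2, nat_lit 1, nat_lit 3, nat_lit 2, nat_lit 0, nat_lit 1, nat_lit 9, nat_lit 4, nat_lit 3, nat_lit 2, nat_lit 8, nat_lit 3, nat_lit 11, nat_lit 8, nat_lit 10, nat_lit 16, nat_lit 14, nat_lit 13, nat_lit 12, nat_lit 18] (Rl.cmp (nat_lit 3010) (nat_lit 3741))))))) (FT.node (nat_lit 3746) (FT.node (nat_lit 3744) (FT.leaf (Fct.mk true (nat_lit 32) (nat_lit 6516) (nat_lit 32) [nat_lit 2, nat_lit 3, nat_lit 8, nat_lit 4, nat_lit 5, nat_lit 3, nat_lit 4, nat_lit 2, nat_lit 3, nat_lit 8, nat_lit 1, nat_lit 2, nat_lit 3, nat_lit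 4, nat_lit 5, nat_lit 6, nat_lit 7, nat_lit 3, nat_lit 4, nat_lit 2, nat_lit 3, nat_lit 8, nat_lit 1, nat_lit 2, nat_lit 3, nat_lit 4, nat_lit 5, nat_lit 2, nat_lit 1, nat_lit 8, nat_lit 3, nat_lit 2, nat_lit 0, nat_lit 1, nat_lit 9, nat_lit 4, nat_lit 3, nat_lit 2, nat_lit 8, nat_lit 3, nat_lit 10, nat_lit 2, nat_lit 8, nat_lit 10, nat_lit 1, nat_lit 15, nat_lit 12, nat_lit 18] (Rl.rel (nat_lit 0) [nat_lit 8, nat_lit 3, nat_lit 4, nat_lit 2, nat_lit 3, nat_lit 8, nat_lit 1, nat_lit 2, nat_lit 3, nat_lit 4, nat_lit 5, nat_lit 6, nat_lit 7, nat_lit 6, nat_lit 2, nat_lit 3, nat_lit 11, nat_lit 10, nat_lit 1, nat_lit 17, nat_lit 19] (nat_lit 5) (nat_lit 1) [nat_lit 3695] [nat_lit 2811, nat_lit 3544]))) (FT.node (nat_lit 3745) (FT.leaf (Fct.mk true (nat_lit 32) (nat_lit 1796) (nat_lit 32) [nat_lit 8, nat_lit 0, nat_lit 1, nat_lit 2, nat_lit 3,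 nat_lit 4, nat_lit 5, nat_lit 6, nat_lit 7, nat_lit 4, nat_lit 3, nat_lit 8, nat_lit 2, nat_lit 3, nat_lit 4, nat_lit 1, nat_lit 2, nat_lit 3, nat_lit 8, nat_lit 0, nat_lit 1, nat_lit 2, nat_lit 3, nat_lit 4, nat_lit 5, nat_lit 1, nat_lit 9, nat_lit 4, nat_lit 3, nat_lit 2, nat_lit 8, nat_lit 3, nat_lit 1, nat_lit 9, nat_lit 12] (Rl.t1 (nat_lit 3743) (nat_lit 3739)))) (FT.leaf (Fct.mk true (nat_lit 32) (nat_lit 1876) (nat_lit 32) [nat_lit 3, nat_lit 4, nat_lit 2, nat_lit 3, nat_lit 8, nat_lit 1, nat_lit 2, nat_lit 3, nat_lit 4, nat_lit 5, nat_lit 6, nat_lit 7, nat_lit 8, nat_lit 5, nat_lit 2, nat_lit 3, nat_lit 4, nat_lit 1, nat_lit 2, nat_lit 3, nat_lit 8, nat_lit 0, nat_lit 1, nat_lit 2, nat_lit 3, nat_lit 4, nat_lit 5, nat_lit 2, nat_lit 1, nat_lit 8, nat_lit 3, nat_lit 2, nat_lit 0, nat_lit 1, nat_lit 4, nat_lit 3, nat_lit 2, nat_lit 8,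 nat_lit 3, nat_lit 11, nat_lit 10, nat_lit 1, nat_lit 16, nat_lit 14, nat_lit 12, nat_lit 18, nat_lit 16] (Rl.inv (nat_lit 3744)))))) (FT.node (nat_lit 3748) (FT.node (nat_lit 3747) (FT.leaf (Fct.mk true (nat_lit 32) (nat_lit 1067) (nat_lit 32) [nat_lit 3, nat_lit 8, nat_lit 4, nat_lit 5, nat_lit 3, nat_lit 4, nat_lit 2, nat_lit 3, nat_lit 8, nat_lit 0, nat_lit 1, nat_lit 2, nat_lit 3, nat_lit 4, nat_lit 5, nat_lit 6, nat_lit 7, nat_lit 8, nat_lit 0, nat_lit 1, nat_lit 2, nat_lit 3, nat_lit 4, nat_lit 5, nat_lit 3, nat_lit 2, nat_lit 0, nat_lit 1, nat_lit 4, nat_lit 3, nat_lit 2, nat_lit 8, nat_lit 3, nat_lit 9, nat_lit 2, nat_lit 16, nat_lit 12, nat_lit 15, nat_lit 14, nat_lit 13, nat_lit 18, nat_lit 16] (Rl.t1 (nat_lit 3745) (nat_lit 3742)))) (FT.leaf (Fct.mk false (nat_lit 32) (nat_lit 0) (nat_lit 32) [nat_lit 5, nat_lit 6, nat_lit 4, nat_lit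 5, nat_lit 3, nat_lit 4, nat_lit 2, nat_lit 3, nat_lit 8, nat_lit 1, nat_lit 2, nat_lit 3, nat_lit 4, nat_lit 5, nat_lit 1, nat_lit 9, nat_lit 4, nat_lit 3, nat_lit 2, nat_lit 8, nat_lit 3, nat_lit 11, nat_lit 10, nat_lit 1, nat_lit 12, nat_lit 15, nat_lit 14, nat_lit 18, nat_lit 16] (Rl.cmp (nat_lit 3004) (nat_lit 3010))))) (FT.node (nat_lit 3749) (FT.leaf (Fct.mk false (nat_lit 32) (nat_lit 0) (nat_lit 32) [nat_lit 5, nat_lit 4, nat_lit 2, nat_lit 3, nat_lit 8, nat_lit 0, nat_lit 1, nat_lit 2, nat_lit 3, nat_lit 4, nat_lit 5, nat_lit 8, nat_lit 3, nat_lit 2, nat_lit 1, nat_lit 9, nat_lit 4, nat_lit 3, nat_lit 2, nat_lit 8, nat_lit 3, nat_lit 0, nat_lit 12, nat_lit 15, nat_lit 14, nat_lit 17, nat_lit 12] (Rl.cmp (nat_lit 3047) (nat_lit 3747)))) (FT.leaf (Fct.mk false (nat_lit 32) (nat_lit 0) (nat_lit 32) [nat_lit 8, nat_lit 2, nat_lit 3, nat_lit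 4, nat_lit 1, nat_lit 2, nat_lit 3, nat_lit 8, nat_lit 0, nat_lit 1, nat_lit 2, nat_lit 3, nat_lit 4, nat_lit 5, nat_lit 1, nat_lit 2, nat_lit 8, nat_lit 3, nat_lit 11, nat_lit 8, nat_lit 10, nat_lit 1, nat_lit 13, nat_lit 19, nat_lit 16] (Rl.cmp (nat_lit 3047) (nat_lit 3748)))))))))

/-- some facts -/
noncomputable def ftc75 : FT := FT.node (nat_lit 3775) (FT.node (nat_lit 3762) (FT.node (nat_lit 3756) (FT.node (nat_lit 3753) (FT.node (nat_lit 3751) (FT.leaf (Fct.mk true (nat_lit 32) (nat_lit 2472) (nat_lit 32) [nat_lit 8, nat_lit 1, nat_lit 2, nat_lit 3, nat_lit 4, nat_lit 5, nat_lit 6, nat_lit 7, nat_lit 1, nat_lit 2, nat_lit 3, nat_lit 8, nat_lit 0, nat_lit 1, nat_lit 2, nat_lit 3, nat_lit 4, nat_lit 5, nat_lit 9, nat_lit 4, nat_lit 3, nat_lit 2, nat_lit 8, nat_lit 3, nat_lit 11, nat_lit 8, nat_lit 10, nat_lit 1, nat_lit 13, nat_lit 19,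 nat_lit 16] (Rl.rel (nat_lit 0) [nat_lit 8, nat_lit 3, nat_lit 4, nat_lit 2, nat_lit 3, nat_lit 8, nat_lit 1, nat_lit 2, nat_lit 3, nat_lit 4, nat_lit 5, nat_lit 6, nat_lit 7, nat_lit 4, nat_lit 5, nat_lit 2, nat_lit 3, nat_lit 1, nat_lit 0, nat_lit 2, nat_lit 15, nat_lit 8, nat_lit 18] (nat_lit 5) (nat_lit 1) [nat_lit 3695] [nat_lit 2759, nat_lit 3216]))) (FT.node (nat_lit 3752) (FT.leaf (Fct.mk true (nat_lit 32) (nat_lit 751) (nat_lit 32) [nat_lit 2, nat_lit 3, nat_lit 8, nat_lit 6, nat_lit 4, nat_lit 5, nat_lit 3, nat_lit 4, nat_lit 2, nat_lit 3, nat_lit 8, nat_lit 0, nat_lit 1, nat_lit 2, nat_lit 3, nat_lit 4, nat_lit 5, nat_lit 6, nat_lit 7, nat_lit 1, nat_lit 9, nat_lit 4, nat_lit 3, nat_lit 2, nat_lit 8, nat_lit 3, nat_lit 11, nat_lit 10, nat_lit 1, nat_lit 13, nat_lit 12, nat_lit 19, nat_lit 16] (Rl.t1 (nat_lit 3750) (nat_lit 3749))))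 (FT.leaf (Fct.mk false (nat_lit 32) (nat_lit 0) (nat_lit 32) [nat_lit 5, nat_lit 6, nat_lit 4, nat_lit 5, nat_lit 3, nat_lit 4, nat_lit 2, nat_lit 3, nat_lit 8, nat_lit 1, nat_lit 2, nat_lit 3, nat_lit 4, nat_lit 5, nat_lit 1, nat_lit 9, nat_lit 4, nat_lit 3, nat_lit 2, nat_lit 8, nat_lit 3, nat_lit 11, nat_lit 10, nat_lit 1, nat_lit 12, nat_lit 15, nat_lit 14, nat_lit 18, nat_lit 16] (Rl.cmp (nat_lit 3004) (nat_lit 3010)))))) (FT.node (nat_lit 3754) (FT.leaf (Fct.mk false (nat_lit 32) (nat_lit 0) (nat_lit 32) [nat_lit 8, nat_lit 3, nat_lit 4, nat_lit 1, nat_lit 2, nat_lit 3, nat_lit 8, nat_lit 5, nat_lit 6, nat_lit 4, nat_lit 5, nat_lit 3, nat_lit 4, nat_lit 2, nat_lit 3, nat_lit 8, nat_lit 1, nat_lit 2, nat_lit 3, nat_lit 4, nat_lit 5, nat_lit 2, nat_lit 1, nat_lit 4, nat_lit 3, nat_lit 2, nat_lit 8, nat_lit 3, nat_lit 11, nat_lit 2, nat_lit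 15, nat_lit 19] (Rl.cmp (nat_lit 3010) (nat_lit 3752)))) (FT.node (nat_lit 3755) (FT.leaf (Fct.mk false (nat_lit 32) (nat_lit 0) (nat_lit 32) [nat_lit 2, nat_lit 3, nat_lit 8, nat_lit 6, nat_lit 4, nat_lit 5, nat_lit 3, nat_lit 4, nat_lit 2, nat_lit 3, nat_lit 8, nat_lit 1, nat_lit 2, nat_lit 3, nat_lit 4, nat_lit 5, nat_lit 2, nat_lit 3, nat_lit 8, nat_lit 4, nat_lit 3, nat_lit 2, nat_lit 1, nat_lit 9, nat_lit 4, nat_lit 3, nat_lit 2, nat_lit 8, nat_lit 3, nat_lit 0, nat_lit 2, nat_lit 15, nat_lit 14, nat_lit 13, nat_lit 18, nat_lit 16] (Rl.cmp (nat_lit 3010) (nat_lit 3753)))) (FT.leaf (Fct.mk false (nat_lit 32) (nat_lit 0) (nat_lit 32) [nat_lit 6, nat_lit 1, nat_lit 3, nat_lit 2, nat_lit 8, nat_lit 3, nat_lit 11, nat_lit 8, nat_lit 10, nat_lit 1, nat_lit 14, nat_lit 13, nat_lit 18, nat_lit 16] (Rl.cmp (nat_lit 3004) (nat_lit 3754))))))) (FT.node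 (nat_lit 3759) (FT.node (nat_lit 3757) (FT.leaf (Fct.mk false (nat_lit 32) (nat_lit 0) (nat_lit 32) [nat_lit 2, nat_lit 3, nat_lit 4, nat_lit 1, nat_lit 2, nat_lit 3, nat_lit 8, nat_lit 0, nat_lit 1, nat_lit 2, nat_lit 3, nat_lit 4, nat_lit 5, nat_lit 3, nat_lit 8, nat_lit 4, nat_lit 3, nat_lit 2, nat_lit 0, nat_lit 1, nat_lit 9, nat_lit 4, nat_lit 3, nat_lit 2, nat_lit 8, nat_lit 3, nat_lit 11, nat_lit 10, nat_lit 8, nat_lit 16, nat_lit 14, nat_lit 19] (Rl.cmp (nat_lit 3010) (nat_lit 3004)))) (FT.node (nat_lit 3758) (FT.leaf (Fct.mk false (nat_lit 32) (nat_lit 0) (nat_lit 32) [nat_lit 3, nat_lit 4, nat_lit 1, nat_lit 2, nat_lit 3, nat_lit 8, nat_lit 5, nat_lit 6, nat_lit 4, nat_lit 5, nat_lit 3, nat_lit 4, nat_lit 2, nat_lit 3, nat_lit 8, nat_lit 1, nat_lit 2, nat_lit 3, nat_lit 4, nat_lit 5, nat_lit 0, nat_lit 1, nat_lit 2, nat_lit 8, nat_lit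 3, nat_lit 11, nat_lit 1, nat_lit 12, nat_lit 15, nat_lit 12, nat_lit 19, nat_lit 16] (Rl.cmp (nat_lit 3004) (nat_lit 3756)))) (FT.leaf (Fct.mk false (nat_lit 32) (nat_lit 0) (nat_lit 32) [nat_lit 8, nat_lit 3, nat_lit 4, nat_lit 1, nat_lit 2, nat_lit 3, nat_lit 8, nat_lit 5, nat_lit 6, nat_lit 4, nat_lit 5, nat_lit 3, nat_lit 4, nat_lit 2, nat_lit 3, nat_lit 8, nat_lit 1, nat_lit 2, nat_lit 3, nat_lit 4, nat_lit 5, nat_lit 1, nat_lit 2, nat_lit 0, nat_lit 1, nat_lit 9, nat_lit 4, nat_lit 3, nat_lit 2, nat_lit 8, nat_lit 3, nat_lit 11, nat_lit 1, nat_lit 8, nat_lit 12, nat_lit 15, nat_lit 13, nat_lit 18] (Rl.cmp (nat_lit 3004) (nat_lit 3757)))))) (FT.node (nat_lit 3760) (FT.leaf (Fct.mk false (nat_lit 32) (nat_lit 0) (nat_lit 32) [nat_lit 2, nat_lit 3, nat_lit 8, nat_lit 6, nat_lit 4, nat_lit 5, nat_lit 3, nat_lit 4, nat_lit 2, nat_lit 3, nat_lit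 8, nat_lit 1, nat_lit 2, nat_lit 3, nat_lit 4, nat_lit 5, nat_lit 2, nat_lit 1, nat_lit 4, nat_lit 3, nat_lit 2, nat_lit 0, nat_lit 1, nat_lit 9, nat_lit 4, nat_lit 3, nat_lit 2, nat_lit 8, nat_lit 3, nat_lit 1, nat_lit 9, nat_lit 8, nat_lit 16, nat_lit 15, nat_lit 14, nat_lit 18] (Rl.cmp (nat_lit 3010) (nat_lit 3758)))) (FT.node (nat_lit 3761) (FT.leaf (Fct.mk false (nat_lit 32) (nat_lit 0) (nat_lit 32) [nat_lit 6, nat_lit 4, nat_lit 3, nat_lit 2, nat_lit 8, nat_lit 3, nat_lit 8, nat_lit 10, nat_lit 0, nat_lit 18] (Rl.cmp (nat_lit 3004) (nat_lit 3759)))) (FT.leaf (Fct.mk true (nat_lit 32) (nat_lit 6522) (nat_lit 32) [nat_lit 6, nat_lit 5, nat_lit 4, nat_lit 1, nat_lit 2, nat_lit 3, nat_lit 8, nat_lit 0, nat_lit 1, nat_lit 2, nat_lit 3, nat_lit 4, nat_lit 5, nat_lit 6, nat_lit 7, nat_lit 6, nat_lit 3, nat_lit 4, nat_lit 5, nat_lit 2, nat_lit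 3, nat_lit 4, nat_lit 1, nat_lit 2, nat_lit 3, nat_lit 8, nat_lit 0, nat_lit 1, nat_lit 2, nat_lit 3, nat_lit 4, nat_lit 5, nat_lit 0, nat_lit 1, nat_lit 9, nat_lit 4, nat_lit 3, nat_lit 2, nat_lit 8, nat_lit 3, nat_lit 2, nat_lit 16, nat_lit 12, nat_lit 15, nat_lit 14, nat_lit 12, nat_lit 16] (Rl.rel (nat_lit 0) [nat_lit 8, nat_lit 3, nat_lit 4, nat_lit 2, nat_lit 3, nat_lit 8, nat_lit 1, nat_lit 2, nat_lit 3, nat_lit 4, nat_lit 5, nat_lit 6, nat_lit 7, nat_lit 6, nat_lit 0, nat_lit 1, nat_lit 2, nat_lit 3, nat_lit 11, nat_lit 10, nat_lit 1, nat_lit 17, nat_lit 19] (nat_lit 5) (nat_lit 1) [nat_lit 3695] [nat_lit 2812, nat_lit 3544]))))))) (FT.node (nat_lit 3768) (FT.node (nat_lit 3765) (FT.node (nat_lit 3763) (FT.leaf (Fct.mk true (nat_lit 32) (nat_lit 1775) (nat_lit 32) [nat_lit 3, nat_lit 8, nat_lit 4, nat_lit 5, nat_lit 3, nat_lit 4, nat_lit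 1, nat_lit 2, nat_lit 3, nat_lit 8, nat_lit 0, nat_lit 1, nat_lit 2, nat_lit 3, nat_lit 4, nat_lit 5, nat_lit 6, nat_lit 7, nat_lit 6, nat_lit 5, nat_lit 4, nat_lit 1, nat_lit 2, nat_lit 3, nat_lit 8, nat_lit 0, nat_lit 1, nat_lit 2, nat_lit 3, nat_lit 4, nat_lit 5, nat_lit 2, nat_lit 1, nat_lit 3, nat_lit 2, nat_lit 8, nat_lit 3, nat_lit 9, nat_lit 2, nat_lit 8, nat_lit 16, nat_lit 14, nat_lit 17, nat_lit 16] (Rl.t1 (nat_lit 3761) (nat_lit 3755)))) (FT.node (nat_lit 3764) (FT.leaf (Fct.mk true (nat_lit 32) (nat_lit 6921) (nat_lit 32) [nat_lit 3, nat_lit 4, nat_lit 5, nat_lit 2, nat_lit 3, nat_lit 4, nat_lit 1, nat_lit 2, nat_lit 3, nat_lit 8, nat_lit 0, nat_lit 1, nat_lit 2, nat_lit 3, nat_lit 4, nat_lit 5, nat_lit 6, nat_lit 7, nat_lit 6, nat_lit 3, nat_lit 4, nat_lit 5, nat_lit 2, nat_lit 3, nat_lit 4, nat_lit 1, nat_lit 2, nat_lit 3, nat_lit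 8, nat_lit 0, nat_lit 1, nat_lit 2, nat_lit 3, nat_lit 4, nat_lit 5, nat_lit 8, nat_lit 3, nat_lit 2, nat_lit 1, nat_lit 9, nat_lit 4, nat_lit 3, nat_lit 2, nat_lit 8, nat_lit 3, nat_lit 10, nat_lit 2, nat_lit 8, nat_lit 10, nat_lit 1, nat_lit 8, nat_lit 12, nat_lit 15, nat_lit 8, nat_lit 16] (Rl.inv (nat_lit 3762)))) (FT.leaf (Fct.mk true (nat_lit 32) (nat_lit 4249) (nat_lit 32) [nat_lit 6, nat_lit 3, nat_lit 4, nat_lit 5, nat_lit 2, nat_lit 3, nat_lit 4, nat_lit 1, nat_lit 2, nat_lit 3, nat_lit 8, nat_lit 0, nat_lit 1, nat_lit 2, nat_lit 3, nat_lit 4, nat_lit 5, nat_lit 6, nat_lit 7, nat_lit 6, nat_lit 3, nat_lit 4, nat_lit 5, nat_lit 2, nat_lit 3, nat_lit 4, nat_lit 1, nat_lit 2, nat_lit 3, nat_lit 8, nat_lit 0, nat_lit 1, nat_lit 2, nat_lit 3, nat_lit 4, nat_lit 5, nat_lit 3, nat_lit 2, nat_lit 0, nat_lit 1, nat_lit 9, nat_lit 4, nat_lit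 3, nat_lit 2, nat_lit 8, nat_lit 3, nat_lit 2, nat_lit 8, nat_lit 10, nat_lit 1, nat_lit 8, nat_lit 12, nat_lit 15, nat_lit 16, nat_lit 8, nat_lit 16] (Rl.t1 (nat_lit 3763) (nat_lit 3760)))))) (FT.node (nat_lit 3766) (FT.leaf (Fct.mk false (nat_lit 32) (nat_lit 0) (nat_lit 32) [nat_lit 2, nat_lit 3, nat_lit 8, nat_lit 6, nat_lit 4, nat_lit 5, nat_lit 3, nat_lit 4, nat_lit 2, nat_lit 3, nat_lit 8, nat_lit 0, nat_lit 1, nat_lit 2, nat_lit 3, nat_lit 4, nat_lit 5, nat_lit 1, nat_lit 8, nat_lit 3, nat_lit 2, nat_lit 0, nat_lit 1, nat_lit 9, nat_lit 4, nat_lit 3, nat_lit 2, nat_lit 8, nat_lit 3, nat_lit 2, nat_lit 16, nat_lit 14, nat_lit 13, nat_lit 18, nat_lit 16] (Rl.cmp (nat_lit 3456) (nat_lit 3648)))) (FT.node (nat_lit 3767) (FT.leaf (Fct.mk false (nat_lit 32) (nat_lit 0) (nat_lit 32) [nat_lit 8, nat_lit 4, nat_lit 3, nat_lit 2, nat_lit 0, nat_lit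 1, nat_lit 9, nat_lit 4, nat_lit 3, nat_lit 2, nat_lit 8, nat_lit 3, nat_lit 1, nat_lit 0, nat_lit 2, nat_lit 16, nat_lit 8, nat_lit 12, nat_lit 15, nat_lit 8] (Rl.cmp (nat_lit 3004) (nat_lit 3765)))) (FT.leaf (Fct.mk false (nat_lit 5) (nat_lit 0) (nat_lit 5) [nat_lit 3, nat_lit 4, nat_lit 5, nat_lit 0, nat_lit 1, nat_lit 2, nat_lit 3, nat_lit 10, nat_lit 0, nat_lit 12, nat_lit 15, nat_lit 16] (Rl.cmp (nat_lit 1859) (nat_lit 1754))))))) (FT.node (nat_lit 3771) (FT.node (nat_lit 3769) (FT.leaf (Fct.mk true (nat_lit 32) (nat_lit 32935) (nat_lit 4) [nat_lit 4, nat_lit 3, nat_lit 8, nat_lit 5, nat_lit 6, nat_lit 4, nat_lit 5, nat_lit 3, nat_lit 4, nat_lit 2, nat_lit 3, nat_lit 8, nat_lit 1, nat_lit 2, nat_lit 3, nat_lit 4, nat_lit 5, nat_lit 6, nat_lit 7, nat_lit 8, nat_lit 2, nat_lit 3, nat_lit 4, nat_lit 1, nat_lit 2, nat_lit 3, nat_lit 8, nat_lit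 0, nat_lit 1, nat_lit 2, nat_lit 3, nat_lit 4, nat_lit 5, nat_lit 2, nat_lit 3, nat_lit 8, nat_lit 4, nat_lit 3, nat_lit 2, nat_lit 1, nat_lit 9, nat_lit 4, nat_lit 3, nat_lit 2, nat_lit 8, nat_lit 3, nat_lit 11, nat_lit 10, nat_lit 1, nat_lit 16, nat_lit 8, nat_lit 12, nat_lit 15, nat_lit 17, nat_lit 18, nat_lit 16] (Rl.rel (nat_lit 0) [nat_lit 8, nat_lit 3, nat_lit 4, nat_lit 2, nat_lit 3, nat_lit 8, nat_lit 1, nat_lit 2, nat_lit 3, nat_lit 4, nat_lit 5, nat_lit 6, nat_lit 7, nat_lit 6, nat_lit 2, nat_lit 3, nat_lit 11, nat_lit 10, nat_lit 1, nat_lit 15, nat_lit 14, nat_lit 17, nat_lit 19] (nat_lit 5) (nat_lit 1) [nat_lit 3695] [nat_lit 3767, nat_lit 2501, nat_lit 2049]))) (FT.node (nat_lit 3770) (FT.leaf (Fct.mk true (nat_lit 32) (nat_lit 4369) (nat_lit 4) [nat_lit 5, nat_lit 3, nat_lit 4, nat_lit 2, nat_lit 3, nat_lit 8, nat_lit 1, nat_lit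 2, nat_lit 3, nat_lit 4, nat_lit 5, nat_lit 6, nat_lit 7, nat_lit 8, nat_lit 4, nat_lit 5, nat_lit 2, nat_lit 3, nat_lit 4, nat_lit 1, nat_lit 2, nat_lit 3, nat_lit 8, nat_lit 0, nat_lit 1, nat_lit 2, nat_lit 3, nat_lit 4, nat_lit 5, nat_lit 0, nat_lit 1, nat_lit 9, nat_lit 4, nat_lit 3, nat_lit 2, nat_lit 8, nat_lit 3, nat_lit 8, nat_lit 10, nat_lit 1, nat_lit 8, nat_lit 12, nat_lit 15, nat_lit 14, nat_lit 17, nat_lit 12, nat_lit 18, nat_lit 16] (Rl.t1 (nat_lit 3768) (nat_lit 3766)))) (FT.leaf (Fct.mk true (nat_lit 4) (nat_lit 39802) (nat_lit 32) [nat_lit 8, nat_lit 6, nat_lit 5, nat_lit 2, nat_lit 3, nat_lit 4, nat_lit 1, nat_lit 2, nat_lit 3, nat_lit 8, nat_lit 0, nat_lit 1, nat_lit 2, nat_lit 3, nat_lit 4, nat_lit 5, nat_lit 6, nat_lit 7, nat_lit 6, nat_lit 5, nat_lit 4, nat_lit 2, nat_lit 3, nat_lit 8, nat_lit 0, nat_lit 1, nat_lit 2,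 nat_lit 3, nat_lit 4, nat_lit 5, nat_lit 0, nat_lit 1, nat_lit 4, nat_lit 3, nat_lit 2, nat_lit 8, nat_lit 3, nat_lit 9, nat_lit 8, nat_lit 12, nat_lit 15, nat_lit 17, nat_lit 18, nat_lit 16] (Rl.inv (nat_lit 3769)))))) (FT.node (nat_lit 3773) (FT.node (nat_lit 3772) (FT.leaf (Fct.mk true (nat_lit 4) (nat_lit 5400) (nat_lit 32) [nat_lit 8, nat_lit 7, nat_lit 6, nat_lit 5, nat_lit 3, nat_lit 4, nat_lit 1, nat_lit 2, nat_lit 3, nat_lit 8, nat_lit 0, nat_lit 1, nat_lit 2, nat_lit 3, nat_lit 4, nat_lit 5, nat_lit 6, nat_lit 7, nat_lit 8, nat_lit 1, nat_lit 2, nat_lit 3, nat_lit 4, nat_lit 5, nat_lit 2, nat_lit 3, nat_lit 10, nat_lit 0, nat_lit 16, nat_lit 12, nat_lit 15, nat_lit 14, nat_lit 16, nat_lit 8, nat_lit 18] (Rl.t1 (nat_lit 3770) (nat_lit 2906)))) (FT.leaf (Fct.mk false (nat_lit 32) (nat_lit 0) (nat_lit 32) [nat_lit 3, nat_lit 8, nat_lit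 5, nat_lit 2, nat_lit 3, nat_lit 4, nat_lit 1, nat_lit 2, nat_lit 3, nat_lit 8, nat_lit 6, nat_lit 7, nat_lit 5, nat_lit 6, nat_lit 4, nat_lit 5, nat_lit 3, nat_lit 4, nat_lit 2, nat_lit 3, nat_lit 8, nat_lit 1, nat_lit 2, nat_lit 3, nat_lit 4, nat_lit 5, nat_lit 6, nat_lit 7, nat_lit 5, nat_lit 3, nat_lit 4, nat_lit 2, nat_lit 3, nat_lit 8, nat_lit 1, nat_lit 2, nat_lit 3, nat_lit 4, nat_lit 5, nat_lit 0, nat_lit 1, nat_lit 4, nat_lit 3, nat_lit 2, nat_lit 8, nat_lit 3, nat_lit 10, nat_lit 2, nat_lit 8, nat_lit 10, nat_lit 1, nat_lit 14, nat_lit 17, nat_lit 18] (Rl.cmp (nat_lit 3456) (nat_lit 2995))))) (FT.node (nat_lit 3774) (FT.leaf (Fct.mk false (nat_lit 32) (nat_lit 0) (nat_lit 32) [nat_lit 5, nat_lit 4, nat_lit 3, nat_lit 8, nat_lit 0, nat_lit 1, nat_lit 2, nat_lit 3, nat_lit 4, nat_lit 5, nat_lit 2, nat_lit 0, nat_lit 1, nat_lit 4, nat_lit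 3, nat_lit 2, nat_lit 8, nat_lit 3, nat_lit 10, nat_lit 2, nat_lit 8, nat_lit 10, nat_lit 1, nat_lit 16, nat_lit 15, nat_lit 14, nat_lit 16, nat_lit 8] (Rl.cmp (nat_lit 3004) (nat_lit 3004)))) (FT.leaf (Fct.mk false (nat_lit 5) (nat_lit 0) (nat_lit 5) [nat_lit 4, nat_lit 3, nat_lit 8, nat_lit 2, nat_lit 3, nat_lit 4, nat_lit 1, nat_lit 2, nat_lit 3, nat_lit 8, nat_lit 6, nat_lit 7, nat_lit 5, nat_lit 6, nat_lit 4, nat_lit 5, nat_lit 3, nat_lit 4, nat_lit 2, nat_lit 3, nat_lit 8, nat_lit 1, nat_lit 2, nat_lit 3, nat_lit 4, nat_lit 5, nat_lit 6, nat_lit 7, nat_lit 6, nat_lit 3, nat_lit 8, nat_lit 4, nat_lit 3, nat_lit 2, nat_lit 1, nat_lit 9, nat_lit 4, nat_lit 3, nat_lit 2, nat_lit 8, nat_lit 3, nat_lit 11, nat_lit 12, nat_lit 8, nat_lit 16, nat_lit 14, nat_lit 17, nat_lit 16] (Rl.cmp (nat_lit 511) (nat_lit 2751))))))))) (FT.node (nat_lit 3787)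 (FT.node (nat_lit 3781) (FT.node (nat_lit 3778) (FT.node (nat_lit 3776) (FT.leaf (Fct.mk false (nat_lit 32) (nat_lit 0) (nat_lit 32) [nat_lit 3, nat_lit 4, nat_lit 1, nat_lit 2, nat_lit 3, nat_lit 8, nat_lit 5, nat_lit 6, nat_lit 4, nat_lit 5, nat_lit 3, nat_lit 4, nat_lit 2, nat_lit 3, nat_lit 8, nat_lit 1, nat_lit 2, nat_lit 3, nat_lit 4, nat_lit 5, nat_lit 0, nat_lit 1, nat_lit 2, nat_lit 8, nat_lit 3, nat_lit 11, nat_lit 1, nat_lit 12, nat_lit 15, nat_lit 12, nat_lit 19, nat_lit 16] (Rl.cmp (nat_lit 3004) (nat_lit 3461)))) (FT.node (nat_lit 3777) (FT.leaf (Fct.mk false (nat_lit 32) (nat_lit 0) (nat_lit 32) [nat_lit 3, nat_lit 8, nat_lit 5, nat_lit 2, nat_lit 3, nat_lit 4, nat_lit 1, nat_lit 2, nat_lit 3, nat_lit 8, nat_lit 6, nat_lit 7, nat_lit 5, nat_lit 6, nat_lit 4, nat_lit 5, nat_lit 3, nat_lit 4, nat_lit 2, nat_lit 3, nat_lit 8, nat_lit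 1, nat_lit 2, nat_lit 3, nat_lit 4, nat_lit 5, nat_lit 6, nat_lit 7, nat_lit 5, nat_lit 4, nat_lit 3, nat_lit 8, nat_lit 0, nat_lit 1, nat_lit 2, nat_lit 3, nat_lit 4, nat_lit 5, nat_lit 0, nat_lit 1, nat_lit 9, nat_lit 4, nat_lit 3, nat_lit 2, nat_lit 8, nat_lit 3, nat_lit 11, nat_lit 8, nat_lit 10, nat_lit 1, nat_lit 8, nat_lit 16] (Rl.cmp (nat_lit 3456) (nat_lit 3775)))) (FT.leaf (Fct.mk false (nat_lit 32) (nat_lit 0) (nat_lit 32) [nat_lit 8, nat_lit 3, nat_lit 4, nat_lit 1, nat_lit 2, nat_lit 3, nat_lit 8, nat_lit 5, nat_lit 6, nat_lit 4, nat_lit 5, nat_lit 3, nat_lit 4, nat_lit 2, nat_lit 3, nat_lit 8, nat_lit 1, nat_lit 2, nat_lit 3, nat_lit 4, nat_lit 5, nat_lit 3, nat_lit 2, nat_lit 1, nat_lit 4, nat_lit 3, nat_lit 2, nat_lit 8, nat_lit 3, nat_lit 11, nat_lit 2, nat_lit 15, nat_lit 19] (Rl.cmp (nat_lit 3010) (nat_lit 3709)))))) (FT.node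 (nat_lit 3779) (FT.leaf (Fct.mk false (nat_lit 32) (nat_lit 0) (nat_lit 32) [nat_lit 2, nat_lit 3, nat_lit 8, nat_lit 6, nat_lit 4, nat_lit 5, nat_lit 3, nat_lit 4, nat_lit 2, nat_lit 3, nat_lit 8, nat_lit 1, nat_lit 2, nat_lit 3, nat_lit 4, nat_lit 5, nat_lit 3, nat_lit 8, nat_lit 4, nat_lit 3, nat_lit 2, nat_lit 1, nat_lit 9, nat_lit 4, nat_lit 3, nat_lit 2, nat_lit 8, nat_lit 3, nat_lit 0, nat_lit 2, nat_lit 15, nat_lit 14, nat_lit 13, nat_lit 18, nat_lit 16] (Rl.cmp (nat_lit 3010) (nat_lit 3777)))) (FT.node (nat_lit 3780) (FT.leaf (Fct.mk false (nat_lit 32) (nat_lit 0) (nat_lit 32) [nat_lit 6, nat_lit 1, nat_lit 4, nat_lit 3, nat_lit 2, nat_lit 8, nat_lit 3, nat_lit 11, nat_lit 8, nat_lit 10, nat_lit 1, nat_lit 14, nat_lit 13, nat_lit 18, nat_lit 16] (Rl.cmp (nat_lit 3004) (nat_lit 3778)))) (FT.leaf (Fct.mk false (nat_lit 5) (nat_lit 0)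 (nat_lit 5) [nat_lit 6, nat_lit 2, nat_lit 3, nat_lit 12, nat_lit 15, nat_lit 14, nat_lit 12] (Rl.cmp (nat_lit 488) (nat_lit 2706))))))) (FT.node (nat_lit 3784) (FT.node (nat_lit 3782) (FT.leaf (Fct.mk true (nat_lit 32) (nat_lit 12005) (nat_lit 5) [nat_lit 1, nat_lit 2, nat_lit 3, nat_lit 8, nat_lit 0, nat_lit 1, nat_lit 2, nat_lit 3, nat_lit 4, nat_lit 5, nat_lit 6, nat_lit 7, nat_lit 2, nat_lit 3, nat_lit 4, nat_lit 1, nat_lit 2, nat_lit 3, nat_lit 8, nat_lit 0, nat_lit 1, nat_lit 2, nat_lit 3, nat_lit 4, nat_lit 5, nat_lit 1, nat_lit 8, nat_lit 3, nat_lit 2, nat_lit 0, nat_lit 1, nat_lit 9, nat_lit 4, nat_lit 3, nat_lit 2, nat_lit 8, nat_lit 3, nat_lit 10, nat_lit 9, nat_lit 2, nat_lit 18] (Rl.rel (nat_lit 0) [nat_lit 8, nat_lit 3, nat_lit 4, nat_lit 2, nat_lit 3, nat_lit 8, nat_lit 1, nat_lit 2, nat_lit 3, nat_lit 4, nat_lit 5, nat_lit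 6, nat_lit 7, nat_lit 6, nat_lit 0, nat_lit 1, nat_lit 2, nat_lit 3, nat_lit 11, nat_lit 10, nat_lit 1, nat_lit 14, nat_lit 17, nat_lit 18, nat_lit 16] (nat_lit 5) (nat_lit 2) [nat_lit 3695, nat_lit 3776, nat_lit 3466] []))) (FT.node (nat_lit 3783) (FT.leaf (Fct.mk true (nat_lit 32) (nat_lit 2308) (nat_lit 5) [nat_lit 6, nat_lit 5, nat_lit 3, nat_lit 4, nat_lit 2, nat_lit 3, nat_lit 8, nat_lit 1, nat_lit 2, nat_lit 3, nat_lit 4, nat_lit 5, nat_lit 6, nat_lit 7, nat_lit 3, nat_lit 8, nat_lit 2, nat_lit 3, nat_lit 4, nat_lit 5, nat_lit 8, nat_lit 3, nat_lit 2, nat_lit 0, nat_lit 1, nat_lit 9, nat_lit 4, nat_lit 3, nat_lit 2, nat_lit 8, nat_lit 3, nat_lit 8, nat_lit 10, nat_lit 9, nat_lit 2, nat_lit 19, nat_lit 16] (Rl.t1 (nat_lit 3781) (nat_lit 3779)))) (FT.leaf (Fct.mk true (nat_lit 5) (nat_lit 8908) (nat_lit 32) [nat_lit 3, nat_lit 8, nat_lit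 2, nat_lit 3, nat_lit 4, nat_lit 5, nat_lit 6, nat_lit 7, nat_lit 8, nat_lit 2, nat_lit 3, nat_lit 4, nat_lit 5, nat_lit 8, nat_lit 3, nat_lit 2, nat_lit 0, nat_lit 1, nat_lit 9, nat_lit 4, nat_lit 3, nat_lit 2, nat_lit 8, nat_lit 3, nat_lit 0, nat_lit 12, nat_lit 15, nat_lit 13, nat_lit 12, nat_lit 16] (Rl.inv (nat_lit 3782)))))) (FT.node (nat_lit 3785) (FT.leaf (Fct.mk true (nat_lit 5) (nat_lit 1582) (nat_lit 32) [nat_lit 4, nat_lit 2, nat_lit 3, nat_lit 8, nat_lit 0, nat_lit 1, nat_lit 2, nat_lit 3, nat_lit 4, nat_lit 5, nat_lit 6, nat_lit 7, nat_lit 8, nat_lit 0, nat_lit 1, nat_lit 2, nat_lit 3, nat_lit 4, nat_lit 5, nat_lit 8, nat_lit 4, nat_lit 3, nat_lit 2, nat_lit 1, nat_lit 9, nat_lit 4, nat_lit 3, nat_lit 2, nat_lit 8, nat_lit 3, nat_lit 10, nat_lit 0, nat_lit 12, nat_lit 15, nat_lit 13, nat_lit 12, nat_lit 16] (Rl.t1 (nat_lit 3783)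 (nat_lit 3780)))) (FT.node (nat_lit 3786) (FT.leaf (Fct.mk false (nat_lit 32) (nat_lit 0) (nat_lit 32) [nat_lit 5, nat_lit 4, nat_lit 3, nat_lit 8, nat_lit 2, nat_lit 3, nat_lit 4, nat_lit 5, nat_lit 2, nat_lit 1, nat_lit 4, nat_lit 3, nat_lit 2, nat_lit 8, nat_lit 3, nat_lit 8, nat_lit 10, nat_lit 14, nat_lit 12, nat_lit 18] (Rl.cmp (nat_lit 3010) (nat_lit 2995)))) (FT.leaf (Fct.mk false (nat_lit 32) (nat_lit 0) (nat_lit 32) [nat_lit 5, nat_lit 6, nat_lit 4, nat_lit 5, nat_lit 3, nat_lit 4, nat_lit 2, nat_lit 3, nat_lit 8, nat_lit 1, nat_lit 2, nat_lit 3, nat_lit 4, nat_lit 5, nat_lit 1, nat_lit 4, nat_lit 3, nat_lit 2, nat_lit 8, nat_lit 3, nat_lit 11, nat_lit 10, nat_lit 1, nat_lit 12, nat_lit 15, nat_lit 14, nat_lit 18, nat_lit 16] (Rl.cmp (nat_lit 3004) (nat_lit 3785)))))))) (FT.node (nat_lit 3793) (FT.node (nat_lit 3790) (FT.node (nat_lit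 3788) (FT.leaf (Fct.mk false (nat_lit 32) (nat_lit 0) (nat_lit 32) [nat_lit 3, nat_lit 8, nat_lit 5, nat_lit 2, nat_lit 3, nat_lit 4, nat_lit 1, nat_lit 2, nat_lit 3, nat_lit 8, nat_lit 6, nat_lit 7, nat_lit 5, nat_lit 6, nat_lit 4, nat_lit 5, nat_lit 3, nat_lit 4, nat_lit 2, nat_lit 3, nat_lit 8, nat_lit 1, nat_lit 2, nat_lit 3, nat_lit 4, nat_lit 5, nat_lit 6, nat_lit 7, nat_lit 8, nat_lit 3, nat_lit 4, nat_lit 2, nat_lit 3, nat_lit 8, nat_lit 1, nat_lit 2, nat_lit 3, nat_lit 4, nat_lit 5, nat_lit 4, nat_lit 3, nat_lit 2, nat_lit 0, nat_lit 1, nat_lit 9, nat_lit 4, nat_lit 3, nat_lit 2, nat_lit 8, nat_lit 3, nat_lit 11, nat_lit 2, nat_lit 16, nat_lit 12, nat_lit 15, nat_lit 14, nat_lit 13, nat_lit 19, nat_lit 16] (Rl.cmp (nat_lit 3456) (nat_lit 3786)))) (FT.node (nat_lit 3789) (FT.leaf (Fct.mk false (nat_lit 32) (nat_lit 0) (nat_lit 32) [nat_lit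 3, nat_lit 8, nat_lit 5, nat_lit 2, nat_lit 3, nat_lit 4, nat_lit 1, nat_lit 2, nat_lit 3, nat_lit 8, nat_lit 6, nat_lit 7, nat_lit 5, nat_lit 6, nat_lit 4, nat_lit 5, nat_lit 3, nat_lit 4, nat_lit 2, nat_lit 3, nat_lit 8, nat_lit 1, nat_lit 2, nat_lit 3, nat_lit 4, nat_lit 5, nat_lit 6, nat_lit 7, nat_lit 5, nat_lit 4, nat_lit 2, nat_lit 3, nat_lit 8, nat_lit 1, nat_lit 2, nat_lit 3, nat_lit 4, nat_lit 5, nat_lit 2, nat_lit 3, nat_lit 8, nat_lit 4, nat_lit 3, nat_lit 2, nat_lit 1, nat_lit 9, nat_lit 4, nat_lit 3, nat_lit 2, nat_lit 8, nat_lit 3, nat_lit 11, nat_lit 10, nat_lit 8, nat_lit 12, nat_lit 15, nat_lit 17, nat_lit 19] (Rl.cmp (nat_lit 3047) (nat_lit 3787)))) (FT.leaf (Fct.mk false (nat_lit 5) (nat_lit 0) (nat_lit 5) [nat_lit 72] (Rl.cmp (nat_lit 1754) (nat_lit 488)))))) (FT.node (nat_lit 3791) (FT.leaf (Fct.mk false (nat_lit 5) (nat_lit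 0) (nat_lit 5) [nat_lit 2, nat_lit 3, nat_lit 4, nat_lit 5, nat_lit 9, nat_lit 4, nat_lit 11, nat_lit 2, nat_lit 16, nat_lit 15, nat_lit 14, nat_lit 13, nat_lit 12] (Rl.cmp (nat_lit 511) (nat_lit 3789)))) (FT.node (nat_lit 3792) (FT.leaf (Fct.mk false (nat_lit 5) (nat_lit 0) (nat_lit 5) [nat_lit 8, nat_lit 3, nat_lit 4, nat_lit 2, nat_lit 3, nat_lit 8, nat_lit 7, nat_lit 5, nat_lit 6, nat_lit 4, nat_lit 5, nat_lit 3, nat_lit 4, nat_lit 2, nat_lit 3, nat_lit 8, nat_lit 0, nat_lit 1, nat_lit 2, nat_lit 3, nat_lit 4, nat_lit 5, nat_lit 6, nat_lit 7, nat_lit 6, nat_lit 8, nat_lit 3, nat_lit 2, nat_lit 1, nat_lit 9, nat_lit 4, nat_lit 3, nat_lit 2, nat_lit 8, nat_lit 3, nat_lit 11, nat_lit 10, nat_lit 1, nat_lit 15, nat_lit 14, nat_lit 8, nat_lit 18] (Rl.cmp (nat_lit 2491) (nat_lit 3790)))) (FT.leaf (Fct.mk true (nat_lit 32) (nat_lit 27620) (nat_lit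 32) [nat_lit 3, nat_lit 8, nat_lit 7, nat_lit 5, nat_lit 6, nat_lit 4, nat_lit 5, nat_lit 3, nat_lit 4, nat_lit 2, nat_lit 3, nat_lit 8, nat_lit 0, nat_lit 1, nat_lit 2, nat_lit 3, nat_lit 4, nat_lit 5, nat_lit 6, nat_lit 7, nat_lit 3, nat_lit 8, nat_lit 0, nat_lit 1, nat_lit 2, nat_lit 3, nat_lit 4, nat_lit 5, nat_lit 4, nat_lit 8, nat_lit 10, nat_lit 0, nat_lit 8, nat_lit 16, nat_lit 14, nat_lit 13, nat_lit 12, nat_lit 19, nat_lit 16] (Rl.rel (nat_lit 0) [nat_lit 2, nat_lit 3, nat_lit 8, nat_lit 5, nat_lit 6, nat_lit 4, nat_lit 5, nat_lit 3, nat_lit 4, nat_lit 2, nat_lit 3, nat_lit 8, nat_lit 0, nat_lit 1, nat_lit 2, nat_lit 3, nat_lit 4, nat_lit 5, nat_lit 6, nat_lit 7, nat_lit 4, nat_lit 5, nat_lit 3, nat_lit 4, nat_lit 1, nat_lit 2, nat_lit 3, nat_lit 8, nat_lit 0, nat_lit 1, nat_lit 2, nat_lit 3, nat_lit 4, nat_lit 5, nat_lit 1, nat_lit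 2, nat_lit 0, nat_lit 1, nat_lit 4, nat_lit 3, nat_lit 2, nat_lit 8, nat_lit 3, nat_lit 0, nat_lit 15, nat_lit 14, nat_lit 8] (nat_lit 5) (nat_lit 1) [nat_lit 3784] [nat_lit 3791, nat_lit 3296])))))) (FT.node (nat_lit 3796) (FT.node (nat_lit 3794) (FT.leaf (Fct.mk true (nat_lit 32) (nat_lit 1077) (nat_lit 32) [nat_lit 8, nat_lit 5, nat_lit 6, nat_lit 4, nat_lit 5, nat_lit 3, nat_lit 4, nat_lit 2, nat_lit 3, nat_lit 8, nat_lit 0, nat_lit 1, nat_lit 2, nat_lit 3, nat_lit 4, nat_lit 5, nat_lit 6, nat_lit 7, nat_lit 6, nat_lit 5, nat_lit 3, nat_lit 4, nat_lit 2, nat_lit 3, nat_lit 8, nat_lit 0, nat_lit 1, nat_lit 2, nat_lit 3, nat_lit 4, nat_lit 5, nat_lit 1, nat_lit 2, nat_lit 0, nat_lit 1, nat_lit 4, nat_lit 3, nat_lit 2, nat_lit 8, nat_lit 3, nat_lit 1, nat_lit 0, nat_lit 2, nat_lit 16, nat_lit 8, nat_lit 12, nat_lit 15, nat_lit 12, nat_lit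 16] (Rl.t1 (nat_lit 3792) (nat_lit 3788)))) (FT.node (nat_lit 3795) (FT.leaf (Fct.mk false (nat_lit 32) (nat_lit 0) (nat_lit 32) [nat_lit 5, nat_lit 4, nat_lit 3, nat_lit 8, nat_lit 0, nat_lit 1, nat_lit 2, nat_lit 3, nat_lit 4, nat_lit 5, nat_lit 2, nat_lit 0, nat_lit 1, nat_lit 4, nat_lit 3, nat_lit 2, nat_lit 8, nat_lit 3, nat_lit 10, nat_lit 2, nat_lit 8, nat_lit 10, nat_lit 1, nat_lit 16, nat_lit 15, nat_lit 14, nat_lit 16, nat_lit 8] (Rl.cmp (nat_lit 3004) (nat_lit 3004)))) (FT.leaf (Fct.mk false (nat_lit 32) (nat_lit 0) (nat_lit 32) [nat_lit 3, nat_lit 8, nat_lit 5, nat_lit 2, nat_lit 3, nat_lit 4, nat_lit 1, nat_lit 2, nat_lit 3, nat_lit 8, nat_lit 6, nat_lit 7, nat_lit 5, nat_lit 6, nat_lit 4, nat_lit 5, nat_lit 3, nat_lit 4, nat_lit 2, nat_lit 3, nat_lit 8, nat_lit 1, nat_lit 2, nat_lit 3, nat_lit 4, nat_lit 5, nat_lit 6, nat_lit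 7, nat_lit 4, nat_lit 2, nat_lit 3, nat_lit 8, nat_lit 5, nat_lit 6, nat_lit 4, nat_lit 5, nat_lit 3, nat_lit 4, nat_lit 2, nat_lit 3, nat_lit 8, nat_lit 1, nat_lit 2, nat_lit 3, nat_lit 4, nat_lit 5, nat_lit 3, nat_lit 2, nat_lit 0, nat_lit 1, nat_lit 9, nat_lit 4, nat_lit 3, nat_lit 2, nat_lit 8, nat_lit 3, nat_lit 1, nat_lit 9, nat_lit 8, nat_lit 16, nat_lit 15, nat_lit 14, nat_lit 13, nat_lit 16] (Rl.cmp (nat_lit 3456) (nat_lit 3794)))))) (FT.node (nat_lit 3798) (FT.node (nat_lit 3797) (FT.leaf (Fct.mk false (nat_lit 32) (nat_lit 0) (nat_lit 32) [nat_lit 3, nat_lit 8, nat_lit 5, nat_lit 2, nat_lit 3, nat_lit 4, nat_lit 1, nat_lit 2, nat_lit 3, nat_lit 8, nat_lit 6, nat_lit 7, nat_lit 5, nat_lit 6, nat_lit 4, nat_lit 5, nat_lit 3, nat_lit 4, nat_lit 2, nat_lit 3, nat_lit 8, nat_lit 1, nat_lit 2, nat_lit 3, nat_lit 4, nat_lit 5, nat_lit 6,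 nat_lit 7, nat_lit 3, nat_lit 8, nat_lit 1, nat_lit 2, nat_lit 3, nat_lit 4, nat_lit 5, nat_lit 1, nat_lit 3, nat_lit 2, nat_lit 0, nat_lit 1, nat_lit 4, nat_lit 3, nat_lit 2, nat_lit 8, nat_lit 3, nat_lit 10, nat_lit 0, nat_lit 16, nat_lit 8, nat_lit 12, nat_lit 15, nat_lit 17, nat_lit 18, nat_lit 16] (Rl.cmp (nat_lit 2995) (nat_lit 3795)))) (FT.leaf (Fct.mk false (nat_lit 32) (nat_lit 0) (nat_lit 32) [nat_lit 3, nat_lit 8, nat_lit 5, nat_lit 2, nat_lit 3, nat_lit 4, nat_lit 1, nat_lit 2, nat_lit 3, nat_lit 8, nat_lit 6, nat_lit 7, nat_lit 5, nat_lit 6, nat_lit 4, nat_lit 5, nat_lit 3, nat_lit 4, nat_lit 2, nat_lit 3, nat_lit 8, nat_lit 1, nat_lit 2, nat_lit 3, nat_lit 4, nat_lit 5, nat_lit 6, nat_lit 7, nat_lit 3, nat_lit 8, nat_lit 5, nat_lit 6, nat_lit 4, nat_lit 5, nat_lit 3, nat_lit 4, nat_lit 2, nat_lit 3, nat_lit 8, nat_lit 0, nat_lit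 1, nat_lit 2, nat_lit 3, nat_lit 4, nat_lit 5, nat_lit 1, nat_lit 2, nat_lit 0, nat_lit 1, nat_lit 9, nat_lit 4, nat_lit 3, nat_lit 2, nat_lit 8, nat_lit 3, nat_lit 11, nat_lit 8, nat_lit 10, nat_lit 15, nat_lit 16, nat_lit 8, nat_lit 16] (Rl.cmp (nat_lit 3004) (nat_lit 3796))))) (FT.node (nat_lit 3799) (FT.leaf (Fct.mk false (nat_lit 32) (nat_lit 0) (nat_lit 32) [nat_lit 3, nat_lit 8, nat_lit 5, nat_lit 2, nat_lit 3, nat_lit 4, nat_lit 1, nat_lit 2, nat_lit 3, nat_lit 8, nat_lit 6, nat_lit 7, nat_lit 5, nat_lit 6, nat_lit 4, nat_lit 5, nat_lit 3, nat_lit 4, nat_lit 2, nat_lit 3, nat_lit 8, nat_lit 1, nat_lit 2, nat_lit 3, nat_lit 4, nat_lit 5, nat_lit 6, nat_lit 7, nat_lit 3, nat_lit 8, nat_lit 4, nat_lit 5, nat_lit 3, nat_lit 4, nat_lit 2, nat_lit 3, nat_lit 8, nat_lit 0, nat_lit 1, nat_lit 2, nat_lit 3, nat_lit 4, nat_lit 5, nat_lit 1, nat_lit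 2, nat_lit 0, nat_lit 1, nat_lit 3, nat_lit 2, nat_lit 8, nat_lit 3, nat_lit 9, nat_lit 10, nat_lit 2, nat_lit 8, nat_lit 10, nat_lit 1, nat_lit 8, nat_lit 12, nat_lit 15, nat_lit 12, nat_lit 19, nat_lit 16] (Rl.cmp (nat_lit 3010) (nat_lit 3797)))) (FT.leaf (Fct.mk false (nat_lit 5) (nat_lit 0) (nat_lit 5) [nat_lit 5, nat_lit 11, nat_lit 10, nat_lit 16, nat_lit 15, nat_lit 14, nat_lit 13, nat_lit 16] (Rl.cmp (nat_lit 472) (nat_lit 470)))))))))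

/-- some facts -/
noncomputable def ftc76 : FT := FT.node (nat_lit 3825) (FT.node (nat_lit 3812) (FT.node (nat_lit 3806) (FT.node (nat_lit 3803) (FT.node (nat_lit 3801) (FT.leaf (Fct.mk false (nat_lit 5) (nat_lit 0) (nat_lit 5) [nat_lit 4, nat_lit 5, nat_lit 4, nat_lit 10] (Rl.cmp (nat_lit 1754) (nat_lit 3799)))) (FT.node (nat_lit 3802) (FT.leaf (Fct.mk false (nat_lit 32) (nat_lit 0) (nat_lit 32) [nat_lit 3, nat_lit 8, nat_lit 5, nat_lit 2, nat_lit 3, nat_lit 4, nat_lit 1, nat_lit 2, nat_lit 3, nat_lit 8, nat_lit 6, nat_lit 7, nat_lit 5, nat_lit 6, nat_lit 4, nat_lit 5, nat_lit 3, nat_lit 4, nat_lit 2, nat_lit 3, nat_lit 8, nat_lit 1, nat_lit 2, nat_lit 3, nat_lit 4, nat_lit 5, nat_lit 6, nat_lit 7, nat_lit 5, nat_lit 3, nat_lit 4, nat_lit 2, nat_lit 3, nat_lit 8, nat_lit 1, nat_lit 2, nat_lit 3, nat_lit 4, nat_lit 5, nat_lit 8, nat_lit 4,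 nat_lit 3, nat_lit 2, nat_lit 1, nat_lit 9, nat_lit 4, nat_lit 3, nat_lit 2, nat_lit 8, nat_lit 3, nat_lit 10, nat_lit 9, nat_lit 2, nat_lit 16, nat_lit 14, nat_lit 16, nat_lit 8] (Rl.cmp (nat_lit 3047) (nat_lit 3488)))) (FT.leaf (Fct.mk true (nat_lit 32) (nat_lit 11228) (nat_lit 32) [nat_lit 8, nat_lit 7, nat_lit 6, nat_lit 4, nat_lit 5, nat_lit 2, nat_lit 3, nat_lit 4, nat_lit 1, nat_lit 2, nat_lit 3, nat_lit 8, nat_lit 0, nat_lit 1, nat_lit 2, nat_lit 3, nat_lit 4, nat_lit 5, nat_lit 6, nat_lit 7, nat_lit 2, nat_lit 3, nat_lit 8, nat_lit 0, nat_lit 1, nat_lit 2, nat_lit 3, nat_lit 4, nat_lit 5, nat_lit 1, nat_lit 2, nat_lit 3, nat_lit 8, nat_lit 4, nat_lit 3, nat_lit 2, nat_lit 1, nat_lit 9, nat_lit 4, nat_lit 3, nat_lit 2, nat_lit 8, nat_lit 3, nat_lit 1, nat_lit 0, nat_lit 2, nat_lit 8, nat_lit 16, nat_lit 14, nat_lit 8, nat_lit 18, nat_lit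 16] (Rl.rel (nat_lit 0) [nat_lit 5, nat_lit 6, nat_lit 4, nat_lit 5, nat_lit 3, nat_lit 4, nat_lit 1, nat_lit 2, nat_lit 3, nat_lit 8, nat_lit 0, nat_lit 1, nat_lit 2, nat_lit 3, nat_lit 4, nat_lit 5, nat_lit 6, nat_lit 7, nat_lit 3, nat_lit 8, nat_lit 2, nat_lit 3, nat_lit 4, nat_lit 5, nat_lit 1, nat_lit 2, nat_lit 0, nat_lit 1, nat_lit 4, nat_lit 3, nat_lit 2, nat_lit 8, nat_lit 3, nat_lit 10, nat_lit 8, nat_lit 12, nat_lit 15, nat_lit 14] (nat_lit 5) (nat_lit 1) [nat_lit 3784] [nat_lit 3800, nat_lit 3139]))))) (FT.node (nat_lit 3804) (FT.leaf (Fct.mk true (nat_lit 32) (nat_lit 2680) (nat_lit 32) [nat_lit 2, nat_lit 3, nat_lit 4, nat_lit 1, nat_lit 2, nat_lit 3, nat_lit 8, nat_lit 5, nat_lit 6, nat_lit 4, nat_lit 5, nat_lit 3, nat_lit 4, nat_lit 2, nat_lit 3, nat_lit 8, nat_lit 1, nat_lit 2, nat_lit 3, nat_lit 4, nat_lit 5, nat_lit 6, nat_lit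 7, nat_lit 6, nat_lit 4, nat_lit 5, nat_lit 3, nat_lit 4, nat_lit 2, nat_lit 3, nat_lit 8, nat_lit 1, nat_lit 2, nat_lit 3, nat_lit 4, nat_lit 5, nat_lit 1, nat_lit 2, nat_lit 0, nat_lit 1, nat_lit 3, nat_lit 2, nat_lit 8, nat_lit 3, nat_lit 2, nat_lit 8, nat_lit 10, nat_lit 1, nat_lit 16, nat_lit 14, nat_lit 13, nat_lit 19] (Rl.t1 (nat_lit 3802) (nat_lit 3798)))) (FT.node (nat_lit 3805) (FT.leaf (Fct.mk true (nat_lit 32) (nat_lit 93681) (nat_lit 32) [nat_lit 8, nat_lit 5, nat_lit 6, nat_lit 4, nat_lit 5, nat_lit 3, nat_lit 4, nat_lit 2, nat_lit 3, nat_lit 8, nat_lit 1, nat_lit 2, nat_lit 3, nat_lit 4, nat_lit 5, nat_lit 6, nat_lit 7, nat_lit 8, nat_lit 6, nat_lit 5, nat_lit 3, nat_lit 4, nat_lit 2, nat_lit 3, nat_lit 8, nat_lit 1, nat_lit 2, nat_lit 3, nat_lit 4, nat_lit 5, nat_lit 8, nat_lit 4, nat_lit 3, nat_lit 2, nat_lit 1, nat_lit 9,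 nat_lit 4, nat_lit 3, nat_lit 2, nat_lit 8, nat_lit 3, nat_lit 11, nat_lit 2, nat_lit 8, nat_lit 10, nat_lit 1, nat_lit 14, nat_lit 13, nat_lit 12, nat_lit 19, nat_lit 16] (Rl.inv (nat_lit 3803)))) (FT.leaf (Fct.mk true (nat_lit 32) (nat_lit 3183) (nat_lit 32) [nat_lit 4, nat_lit 2, nat_lit 3, nat_lit 8, nat_lit 7, nat_lit 5, nat_lit 6, nat_lit 4, nat_lit 5, nat_lit 3, nat_lit 4, nat_lit 2, nat_lit 3, nat_lit 8, nat_lit 1, nat_lit 2, nat_lit 3, nat_lit 4, nat_lit 5, nat_lit 6, nat_lit 7, nat_lit 2, nat_lit 3, nat_lit 8, nat_lit 4, nat_lit 5, nat_lit 3, nat_lit 4, nat_lit 2, nat_lit 3, nat_lit 8, nat_lit 1, nat_lit 2, nat_lit 3, nat_lit 4, nat_lit 5, nat_lit 2, nat_lit 8, nat_lit 3, nat_lit 11, nat_lit 1, nat_lit 14, nat_lit 17, nat_lit 19] (Rl.t1 (nat_lit 3804) (nat_lit 3801))))))) (FT.node (nat_lit 3809) (FT.node (nat_lit 3807) (FT.leaf (Fct.mk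 false (nat_lit 32) (nat_lit 0) (nat_lit 32) [nat_lit 3, nat_lit 8, nat_lit 5, nat_lit 2, nat_lit 3, nat_lit 4, nat_lit 1, nat_lit 2, nat_lit 3, nat_lit 8, nat_lit 6, nat_lit 7, nat_lit 5, nat_lit 6, nat_lit 4, nat_lit 5, nat_lit 3, nat_lit 4, nat_lit 2, nat_lit 3, nat_lit 8, nat_lit 1, nat_lit 2, nat_lit 3, nat_lit 4, nat_lit 5, nat_lit 6, nat_lit 7, nat_lit 8, nat_lit 6, nat_lit 5, nat_lit 3, nat_lit 4, nat_lit 2, nat_lit 3, nat_lit 8, nat_lit 1, nat_lit 2, nat_lit 3, nat_lit 4, nat_lit 5, nat_lit 4, nat_lit 8, nat_lit 10, nat_lit 12, nat_lit 8, nat_lit 16, nat_lit 14, nat_lit 19, nat_lit 16] (Rl.cmp (nat_lit 3047) (nat_lit 3456)))) (FT.node (nat_lit 3808) (FT.leaf (Fct.mk false (nat_lit 32) (nat_lit 0) (nat_lit 32) [nat_lit 3, nat_lit 8, nat_lit 5, nat_lit 2, nat_lit 3, nat_lit 4, nat_lit 1, nat_lit 2, nat_lit 3, nat_lit 8, nat_lit 6, nat_lit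 7, nat_lit 5, nat_lit 6, nat_lit 4, nat_lit 5, nat_lit 3, nat_lit 4, nat_lit 2, nat_lit 3, nat_lit 8, nat_lit 1, nat_lit 2, nat_lit 3, nat_lit 4, nat_lit 5, nat_lit 6, nat_lit 7, nat_lit 8, nat_lit 5, nat_lit 3, nat_lit 4, nat_lit 2, nat_lit 3, nat_lit 8, nat_lit 1, nat_lit 2, nat_lit 3, nat_lit 4, nat_lit 5, nat_lit 1, nat_lit 2, nat_lit 3, nat_lit 8, nat_lit 4, nat_lit 3, nat_lit 2, nat_lit 1, nat_lit 9, nat_lit 4, nat_lit 3, nat_lit 2, nat_lit 8, nat_lit 3, nat_lit 9, nat_lit 2, nat_lit 16] (Rl.cmp (nat_lit 3010) (nat_lit 3806)))) (FT.leaf (Fct.mk false (nat_lit 32) (nat_lit 0) (nat_lit 32) [nat_lit 6, nat_lit 1, nat_lit 2, nat_lit 0, nat_lit 1, nat_lit 3, nat_lit 2, nat_lit 8, nat_lit 3, nat_lit 10, nat_lit 8, nat_lit 12, nat_lit 15, nat_lit 14, nat_lit 8] (Rl.cmp (nat_lit 3456) (nat_lit 3807)))))) (FT.node (nat_lit 3810) (FT.leaf (Fct.mk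 false (nat_lit 32) (nat_lit 0) (nat_lit 32) [nat_lit 3, nat_lit 8, nat_lit 5, nat_lit 2, nat_lit 3, nat_lit 4, nat_lit 1, nat_lit 2, nat_lit 3, nat_lit 8, nat_lit 6, nat_lit 7, nat_lit 5, nat_lit 6, nat_lit 4, nat_lit 5, nat_lit 3, nat_lit 4, nat_lit 2, nat_lit 3, nat_lit 8, nat_lit 1, nat_lit 2, nat_lit 3, nat_lit 4, nat_lit 5, nat_lit 6, nat_lit 7, nat_lit 8, nat_lit 6, nat_lit 5, nat_lit 3, nat_lit 4, nat_lit 2, nat_lit 3, nat_lit 8, nat_lit 1, nat_lit 2, nat_lit 3, nat_lit 4, nat_lit 5, nat_lit 4, nat_lit 8, nat_lit 10, nat_lit 12, nat_lit 8, nat_lit 16, nat_lit 14, nat_lit 19, nat_lit 16] (Rl.cmp (nat_lit 3047) (nat_lit 3456)))) (FT.node (nat_lit 3811) (FT.leaf (Fct.mk false (nat_lit 32) (nat_lit 0) (nat_lit 32) [nat_lit 3, nat_lit 8, nat_lit 5, nat_lit 2, nat_lit 3, nat_lit 4, nat_lit 1, nat_lit 2, nat_lit 3, nat_lit 8, nat_lit 6, nat_lit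 7, nat_lit 5, nat_lit 6, nat_lit 4, nat_lit 5, nat_lit 3, nat_lit 4, nat_lit 2, nat_lit 3, nat_lit 8, nat_lit 1, nat_lit 2, nat_lit 3, nat_lit 4, nat_lit 5, nat_lit 6, nat_lit 7, nat_lit 8, nat_lit 4, nat_lit 5, nat_lit 3, nat_lit 4, nat_lit 2, nat_lit 3, nat_lit 8, nat_lit 1, nat_lit 2, nat_lit 3, nat_lit 4, nat_lit 5, nat_lit 3, nat_lit 2, nat_lit 0, nat_lit 1, nat_lit 9, nat_lit 4, nat_lit 3, nat_lit 2, nat_lit 8, nat_lit 3, nat_lit 10, nat_lit 16, nat_lit 8, nat_lit 12, nat_lit 15, nat_lit 17, nat_lit 18] (Rl.cmp (nat_lit 3047) (nat_lit 3809)))) (FT.leaf (Fct.mk false (nat_lit 32) (nat_lit 0) (nat_lit 32) [nat_lit 3, nat_lit 8, nat_lit 5, nat_lit 2, nat_lit 3, nat_lit 4, nat_lit 1, nat_lit 2, nat_lit 3, nat_lit 8, nat_lit 6, nat_lit 7, nat_lit 5, nat_lit 6, nat_lit 4, nat_lit 5, nat_lit 3, nat_lit 4, nat_lit 2, nat_lit 3, nat_lit 8, nat_lit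 1, nat_lit 2, nat_lit 3, nat_lit 4, nat_lit 5, nat_lit 6, nat_lit 7, nat_lit 8, nat_lit 0, nat_lit 1, nat_lit 2, nat_lit 3, nat_lit 4, nat_lit 5, nat_lit 1, nat_lit 2, nat_lit 3, nat_lit 0, nat_lit 15, nat_lit 14, nat_lit 17, nat_lit 12, nat_lit 18, nat_lit 16] (Rl.cmp (nat_lit 3004) (nat_lit 3810)))))))) (FT.node (nat_lit 3818) (FT.node (nat_lit 3815) (FT.node (nat_lit 3813) (FT.leaf (Fct.mk false (nat_lit 5) (nat_lit 0) (nat_lit 5) [nat_lit 5] (Rl.cmp (nat_lit 493) (nat_lit 470)))) (FT.node (nat_lit 3814) (FT.leaf (Fct.mk true (nat_lit 32) (nat_lit 87201) (nat_lit 5) [nat_lit 7, nat_lit 4, nat_lit 5, nat_lit 6, nat_lit 3, nat_lit 4, nat_lit 5, nat_lit 2, nat_lit 3, nat_lit 4, nat_lit 1, nat_lit 2, nat_lit 3, nat_lit 8, nat_lit 0, nat_lit 1, nat_lit 2, nat_lit 3, nat_lit 4, nat_lit 5, nat_lit 6, nat_lit 7, nat_lit 8, nat_lit 5, nat_lit 6,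 nat_lit 4, nat_lit 5, nat_lit 3, nat_lit 4, nat_lit 2, nat_lit 3, nat_lit 8, nat_lit 0, nat_lit 1, nat_lit 2, nat_lit 3, nat_lit 4, nat_lit 5, nat_lit 9, nat_lit 4, nat_lit 3, nat_lit 2, nat_lit 8, nat_lit 3, nat_lit 2, nat_lit 8, nat_lit 12, nat_lit 15, nat_lit 14, nat_lit 13] (Rl.rel (nat_lit 0) [nat_lit 5, nat_lit 6, nat_lit 4, nat_lit 5, nat_lit 3, nat_lit 4, nat_lit 1, nat_lit 2, nat_lit 3, nat_lit 8, nat_lit 0, nat_lit 1, nat_lit 2, nat_lit 3, nat_lit 4, nat_lit 5, nat_lit 6, nat_lit 7, nat_lit 3, nat_lit 8, nat_lit 2, nat_lit 3, nat_lit 4, nat_lit 5, nat_lit 1, nat_lit 2, nat_lit 0, nat_lit 1, nat_lit 4, nat_lit 3, nat_lit 2, nat_lit 8, nat_lit 3, nat_lit 10, nat_lit 8, nat_lit 12, nat_lit 15, nat_lit 14, nat_lit 8] (nat_lit 5) (nat_lit 2) [nat_lit 3784, nat_lit 3808, nat_lit 3460] []))) (FT.leaf (Fct.mk true (nat_lit 32) (nat_lit 111)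 (nat_lit 5) [nat_lit 2, nat_lit 3, nat_lit 4, nat_lit 5, nat_lit 6, nat_lit 7, nat_lit 1, nat_lit 2, nat_lit 3, nat_lit 8, nat_lit 6, nat_lit 4, nat_lit 5, nat_lit 3, nat_lit 4, nat_lit 2, nat_lit 3, nat_lit 8, nat_lit 1, nat_lit 2, nat_lit 3, nat_lit 4, nat_lit 5, nat_lit 1, nat_lit 4, nat_lit 3, nat_lit 2, nat_lit 8, nat_lit 3, nat_lit 1, nat_lit 8, nat_lit 12, nat_lit 15, nat_lit 14, nat_lit 17, nat_lit 18] (Rl.t1 (nat_lit 3813) (nat_lit 3811)))))) (FT.node (nat_lit 3816) (FT.leaf (Fct.mk true (nat_lit 5) (nat_lit 1221) (nat_lit 32) [nat_lit 5, nat_lit 3, nat_lit 4, nat_lit 2, nat_lit 3, nat_lit 8, nat_lit 1, nat_lit 2, nat_lit 3, nat_lit 4, nat_lit 5, nat_lit 6, nat_lit 7, nat_lit 2, nat_lit 3, nat_lit 8, nat_lit 0, nat_lit 1, nat_lit 2, nat_lit 3, nat_lit 4, nat_lit 5, nat_lit 8, nat_lit 3, nat_lit 11, nat_lit 1, nat_lit 8, nat_lit 12,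 nat_lit 15, nat_lit 14, nat_lit 13, nat_lit 12, nat_lit 19, nat_lit 16] (Rl.inv (nat_lit 3814)))) (FT.node (nat_lit 3817) (FT.leaf (Fct.mk true (nat_lit 5) (nat_lit 548) (nat_lit 32) [nat_lit 3, nat_lit 4, nat_lit 2, nat_lit 3, nat_lit 8, nat_lit 1, nat_lit 2, nat_lit 3, nat_lit 4, nat_lit 5, nat_lit 6, nat_lit 7, nat_lit 2, nat_lit 3, nat_lit 8, nat_lit 0, nat_lit 1, nat_lit 2, nat_lit 3, nat_lit 4, nat_lit 5, nat_lit 8, nat_lit 3, nat_lit 11, nat_lit 1, nat_lit 8, nat_lit 12, nat_lit 15, nat_lit 14, nat_lit 13, nat_lit 12, nat_lit 19, nat_lit 16] (Rl.t1 (nat_lit 3815) (nat_lit 3812)))) (FT.leaf (Fct.mk false (nat_lit 32) (nat_lit 0) (nat_lit 32) [nat_lit 6, nat_lit 5, nat_lit 4, nat_lit 3, nat_lit 8, nat_lit 2, nat_lit 3, nat_lit 4, nat_lit 1, nat_lit 2, nat_lit 3, nat_lit 8, nat_lit 5, nat_lit 6, nat_lit 4, nat_lit 5, nat_lit 3, nat_lit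 4, nat_lit 2, nat_lit 3, nat_lit 8, nat_lit 1, nat_lit 2, nat_lit 3, nat_lit 4, nat_lit 5, nat_lit 0, nat_lit 1, nat_lit 3, nat_lit 2, nat_lit 8, nat_lit 3, nat_lit 0, nat_lit 2, nat_lit 8, nat_lit 12, nat_lit 15, nat_lit 8, nat_lit 18] (Rl.cmp (nat_lit 3047) (nat_lit 2995))))))) (FT.node (nat_lit 3821) (FT.node (nat_lit 3819) (FT.leaf (Fct.mk false (nat_lit 32) (nat_lit 0) (nat_lit 32) [nat_lit 6, nat_lit 5, nat_lit 4, nat_lit 3, nat_lit 8, nat_lit 2, nat_lit 3, nat_lit 4, nat_lit 1, nat_lit 2, nat_lit 3, nat_lit 8, nat_lit 5, nat_lit 6, nat_lit 4, nat_lit 5, nat_lit 3, nat_lit 4, nat_lit 2, nat_lit 3, nat_lit 8, nat_lit 1, nat_lit 2, nat_lit 3, nat_lit 4, nat_lit 5, nat_lit 0, nat_lit 1, nat_lit 9, nat_lit 4, nat_lit 3, nat_lit 2, nat_lit 8, nat_lit 3, nat_lit 1, nat_lit 12, nat_lit 8, nat_lit 16, nat_lit 14, nat_lit 16, nat_lit 8, nat_lit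 18, nat_lit 16] (Rl.cmp (nat_lit 3010) (nat_lit 3817)))) (FT.node (nat_lit 3820) (FT.leaf (Fct.mk false (nat_lit 32) (nat_lit 0) (nat_lit 32) [nat_lit 8, nat_lit 1, nat_lit 2, nat_lit 3, nat_lit 4, nat_lit 5, nat_lit 8, nat_lit 4, nat_lit 3, nat_lit 2, nat_lit 0, nat_lit 1, nat_lit 9, nat_lit 4, nat_lit 3, nat_lit 2, nat_lit 8, nat_lit 3, nat_lit 15, nat_lit 17, nat_lit 16] (Rl.cmp (nat_lit 3004) (nat_lit 3818)))) (FT.leaf (Fct.mk false (nat_lit 32) (nat_lit 0) (nat_lit 32) [nat_lit 8, nat_lit 2, nat_lit 3, nat_lit 4, nat_lit 5, nat_lit 1, nat_lit 8, nat_lit 4, nat_lit 3, nat_lit 2, nat_lit 0, nat_lit 1, nat_lit 9, nat_lit 4, nat_lit 3, nat_lit 2, nat_lit 8, nat_lit 3, nat_lit 14, nat_lit 8, nat_lit 19] (Rl.cmp (nat_lit 3010) (nat_lit 3819)))))) (FT.node (nat_lit 3823) (FT.node (nat_lit 3822) (FT.leaf (Fct.mk false (nat_lit 32) (nat_lit 0)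 (nat_lit 32) [nat_lit 3, nat_lit 8, nat_lit 5, nat_lit 2, nat_lit 3, nat_lit 4, nat_lit 1, nat_lit 2, nat_lit 3, nat_lit 8, nat_lit 6, nat_lit 7, nat_lit 5, nat_lit 6, nat_lit 4, nat_lit 5, nat_lit 3, nat_lit 4, nat_lit 2, nat_lit 3, nat_lit 8, nat_lit 1, nat_lit 2, nat_lit 3, nat_lit 4, nat_lit 5, nat_lit 6, nat_lit 7, nat_lit 2, nat_lit 3, nat_lit 8, nat_lit 6, nat_lit 4, nat_lit 5, nat_lit 3, nat_lit 4, nat_lit 2, nat_lit 3, nat_lit 8, nat_lit 0, nat_lit 1, nat_lit 2, nat_lit 3, nat_lit 4, nat_lit 5, nat_lit 1, nat_lit 2, nat_lit 3, nat_lit 11, nat_lit 1, nat_lit 12, nat_lit 15, nat_lit 14, nat_lit 12] (Rl.cmp (nat_lit 3456) (nat_lit 3820)))) (FT.leaf (Fct.mk false (nat_lit 5) (nat_lit 0) (nat_lit 5) [nat_lit 8, nat_lit 3, nat_lit 4, nat_lit 2, nat_lit 3, nat_lit 8, nat_lit 7, nat_lit 5, nat_lit 6, nat_lit 4, nat_lit 5, nat_lit 3, nat_lit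 4, nat_lit 2, nat_lit 3, nat_lit 8, nat_lit 0, nat_lit 1, nat_lit 2, nat_lit 3, nat_lit 4, nat_lit 5, nat_lit 6, nat_lit 7, nat_lit 6, nat_lit 0, nat_lit 1, nat_lit 2, nat_lit 3, nat_lit 11, nat_lit 10, nat_lit 12, nat_lit 15, nat_lit 12, nat_lit 16] (Rl.cmp (nat_lit 470) (nat_lit 2785))))) (FT.node (nat_lit 3824) (FT.leaf (Fct.mk true (nat_lit 32) (nat_lit 55368) (nat_lit 5) [nat_lit 4, nat_lit 2, nat_lit 3, nat_lit 8, nat_lit 1, nat_lit 2, nat_lit 3, nat_lit 4, nat_lit 5, nat_lit 6, nat_lit 7, nat_lit 3, nat_lit 8, nat_lit 1, nat_lit 2, nat_lit 3, nat_lit 4, nat_lit 5, nat_lit 8, nat_lit 4, nat_lit 3, nat_lit 2, nat_lit 0, nat_lit 1, nat_lit 9, nat_lit 4, nat_lit 3, nat_lit 2, nat_lit 8, nat_lit 3, nat_lit 11, nat_lit 2, nat_lit 10, nat_lit 1, nat_lit 8, nat_lit 16, nat_lit 15, nat_lit 14, nat_lit 17, nat_lit 19, nat_lit 16] (Rl.rel (nat_lit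 0) [nat_lit 2, nat_lit 3, nat_lit 8, nat_lit 5, nat_lit 6, nat_lit 4, nat_lit 5, nat_lit 3, nat_lit 4, nat_lit 2, nat_lit 3, nat_lit 8, nat_lit 0, nat_lit 1, nat_lit 2, nat_lit 3, nat_lit 4, nat_lit 5, nat_lit 6, nat_lit 7, nat_lit 3, nat_lit 4, nat_lit 1, nat_lit 2, nat_lit 3, nat_lit 8, nat_lit 0, nat_lit 1, nat_lit 2, nat_lit 3, nat_lit 4, nat_lit 5, nat_lit 2, nat_lit 0, nat_lit 1, nat_lit 4, nat_lit 3, nat_lit 2, nat_lit 8, nat_lit 3, nat_lit 15, nat_lit 14, nat_lit 8] (nat_lit 5) (nat_lit 1) [nat_lit 3784] [nat_lit 3822, nat_lit 2496, nat_lit 2091]))) (FT.leaf (Fct.mk true (nat_lit 32) (nat_lit 143) (nat_lit 5) [nat_lit 8, nat_lit 6, nat_lit 5, nat_lit 2, nat_lit 3, nat_lit 4, nat_lit 1, nat_lit 2, nat_lit 3, nat_lit 8, nat_lit 0, nat_lit 1, nat_lit 2, nat_lit 3, nat_lit 4, nat_lit 5, nat_lit 6, nat_lit 7, nat_lit 8, nat_lit 6, nat_lit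 4, nat_lit 5, nat_lit 2, nat_lit 3, nat_lit 4, nat_lit 1, nat_lit 2, nat_lit 3, nat_lit 8, nat_lit 0, nat_lit 1, nat_lit 2, nat_lit 3, nat_lit 4, nat_lit 5, nat_lit 0, nat_lit 1, nat_lit 2, nat_lit 3, nat_lit 10, nat_lit 9, nat_lit 2, nat_lit 8, nat_lit 12, nat_lit 15, nat_lit 14, nat_lit 13, nat_lit 12, nat_lit 16] (Rl.t1 (nat_lit 3823) (nat_lit 3821))))))))) (FT.node (nat_lit 3837) (FT.node (nat_lit 3831) (FT.node (nat_lit 3828) (FT.node (nat_lit 3826) (FT.leaf (Fct.mk true (nat_lit 5) (nat_lit 45707) (nat_lit 32) [nat_lit 3, nat_lit 8, nat_lit 5, nat_lit 6, nat_lit 4, nat_lit 5, nat_lit 3, nat_lit 4, nat_lit 2, nat_lit 3, nat_lit 8, nat_lit 1, nat_lit 2, nat_lit 3, nat_lit 4, nat_lit 5, nat_lit 6, nat_lit 7, nat_lit 8, nat_lit 4, nat_lit 5, nat_lit 3, nat_lit 4, nat_lit 2, nat_lit 3, nat_lit 8, nat_lit 0, nat_lit 1, nat_lit 2, nat_lit 3,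 nat_lit 4, nat_lit 5, nat_lit 1, nat_lit 2, nat_lit 0, nat_lit 1, nat_lit 9, nat_lit 4, nat_lit 3, nat_lit 2, nat_lit 8, nat_lit 3, nat_lit 11, nat_lit 9, nat_lit 10, nat_lit 2, nat_lit 8, nat_lit 10, nat_lit 1, nat_lit 8, nat_lit 12, nat_lit 15, nat_lit 14, nat_lit 12, nat_lit 19] (Rl.inv (nat_lit 3824)))) (FT.node (nat_lit 3827) (FT.leaf (Fct.mk true (nat_lit 5) (nat_lit 959) (nat_lit 32) [nat_lit 5, nat_lit 4, nat_lit 3, nat_lit 8, nat_lit 2, nat_lit 3, nat_lit 4, nat_lit 5, nat_lit 6, nat_lit 7, nat_lit 3, nat_lit 4, nat_lit 1, nat_lit 2, nat_lit 3, nat_lit 8, nat_lit 0, nat_lit 1, nat_lit 2, nat_lit 3, nat_lit 4, nat_lit 5, nat_lit 8, nat_lit 3, nat_lit 2, nat_lit 0, nat_lit 1, nat_lit 9, nat_lit 4, nat_lit 3, nat_lit 2, nat_lit 8, nat_lit 3] (Rl.t1 (nat_lit 3825) (nat_lit 2911)))) (FT.leaf (Fct.mk false (nat_lit 32) (nat_lit 0) (nat_lit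 32) [nat_lit 8, nat_lit 1, nat_lit 2, nat_lit 3, nat_lit 4, nat_lit 5, nat_lit 3, nat_lit 2, nat_lit 0, nat_lit 1, nat_lit 9, nat_lit 4, nat_lit 3, nat_lit 2, nat_lit 8, nat_lit 3, nat_lit 8, nat_lit 10, nat_lit 0, nat_lit 16, nat_lit 14, nat_lit 13, nat_lit 12, nat_lit 19] (Rl.cmp (nat_lit 3004) (nat_lit 3047)))))) (FT.node (nat_lit 3829) (FT.leaf (Fct.mk false (nat_lit 32) (nat_lit 0) (nat_lit 32) [nat_lit 2, nat_lit 3, nat_lit 8, nat_lit 6, nat_lit 4, nat_lit 5, nat_lit 3, nat_lit 4, nat_lit 2, nat_lit 3, nat_lit 8, nat_lit 1, nat_lit 2, nat_lit 3, nat_lit 4, nat_lit 5, nat_lit 2, nat_lit 1, nat_lit 3, nat_lit 2, nat_lit 0, nat_lit 1, nat_lit 4, nat_lit 3, nat_lit 2, nat_lit 8, nat_lit 3, nat_lit 11, nat_lit 1, nat_lit 15, nat_lit 13, nat_lit 19, nat_lit 16] (Rl.cmp (nat_lit 3004) (nat_lit 3827)))) (FT.node (nat_lit 3830) (FT.leaf (Fct.mk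 false (nat_lit 32) (nat_lit 0) (nat_lit 32) [nat_lit 5, nat_lit 6, nat_lit 4, nat_lit 5, nat_lit 3, nat_lit 4, nat_lit 2, nat_lit 3, nat_lit 8, nat_lit 1, nat_lit 2, nat_lit 3, nat_lit 4, nat_lit 5, nat_lit 1, nat_lit 8, nat_lit 3, nat_lit 2, nat_lit 0, nat_lit 1, nat_lit 9, nat_lit 4, nat_lit 3, nat_lit 2, nat_lit 8, nat_lit 3, nat_lit 0, nat_lit 15, nat_lit 14, nat_lit 13, nat_lit 19, nat_lit 16] (Rl.cmp (nat_lit 3010) (nat_lit 3828)))) (FT.leaf (Fct.mk false (nat_lit 32) (nat_lit 0) (nat_lit 32) [nat_lit 5, nat_lit 4, nat_lit 2, nat_lit 3, nat_lit 8, nat_lit 0, nat_lit 1, nat_lit 2, nat_lit 3, nat_lit 4, nat_lit 5, nat_lit 1, nat_lit 2, nat_lit 0, nat_lit 1, nat_lit 4, nat_lit 3, nat_lit 2, nat_lit 8, nat_lit 3, nat_lit 11, nat_lit 13, nat_lit 12, nat_lit 19, nat_lit 16] (Rl.cmp (nat_lit 3047) (nat_lit 3829))))))) (FT.node (nat_lit 3834)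 (FT.node (nat_lit 3832) (FT.leaf (Fct.mk true (nat_lit 32) (nat_lit 2461) (nat_lit 32) [nat_lit 8, nat_lit 5, nat_lit 2, nat_lit 3, nat_lit 4, nat_lit 1, nat_lit 2, nat_lit 3, nat_lit 8, nat_lit 0, nat_lit 1, nat_lit 2, nat_lit 3, nat_lit 4, nat_lit 5, nat_lit 6, nat_lit 7, nat_lit 6, nat_lit 5, nat_lit 4, nat_lit 3, nat_lit 8, nat_lit 2, nat_lit 3, nat_lit 4, nat_lit 5, nat_lit 1, nat_lit 2, nat_lit 3, nat_lit 0, nat_lit 2, nat_lit 14, nat_lit 8] (Rl.rel (nat_lit 0) [nat_lit 2, nat_lit 3, nat_lit 8, nat_lit 5, nat_lit 6, nat_lit 4, nat_lit 5, nat_lit 3, nat_lit 4, nat_lit 2, nat_lit 3, nat_lit 8, nat_lit 0, nat_lit 1, nat_lit 2, nat_lit 3, nat_lit 4, nat_lit 5, nat_lit 6, nat_lit 7, nat_lit 4, nat_lit 5, nat_lit 3, nat_lit 4, nat_lit 1, nat_lit 2, nat_lit 3, nat_lit 8, nat_lit 0, nat_lit 1, nat_lit 2, nat_lit 3, nat_lit 4, nat_lit 5, nat_lit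 1, nat_lit 2, nat_lit 0, nat_lit 1, nat_lit 4, nat_lit 3, nat_lit 2, nat_lit 8, nat_lit 3, nat_lit 15, nat_lit 14] (nat_lit 5) (nat_lit 1) [nat_lit 3784] [nat_lit 2936, nat_lit 3784]))) (FT.node (nat_lit 3833) (FT.leaf (Fct.mk true (nat_lit 32) (nat_lit 64) (nat_lit 32) [nat_lit 6, nat_lit 5, nat_lit 3, nat_lit 4, nat_lit 2, nat_lit 3, nat_lit 8, nat_lit 1, nat_lit 2, nat_lit 3, nat_lit 4, nat_lit 5, nat_lit 6, nat_lit 7, nat_lit 3, nat_lit 8, nat_lit 5, nat_lit 6, nat_lit 4, nat_lit 5, nat_lit 3, nat_lit 4, nat_lit 1, nat_lit 2, nat_lit 3, nat_lit 8, nat_lit 0, nat_lit 1, nat_lit 2, nat_lit 3, nat_lit 4, nat_lit 5, nat_lit 8, nat_lit 3, nat_lit 2, nat_lit 0, nat_lit 1, nat_lit 9, nat_lit 4, nat_lit 3, nat_lit 2, nat_lit 8, nat_lit 3, nat_lit 10, nat_lit 2, nat_lit 8, nat_lit 10, nat_lit 1, nat_lit 12, nat_lit 15, nat_lit 12, nat_lit 18] (Rl.t1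 (nat_lit 3831) (nat_lit 3830)))) (FT.leaf (Fct.mk false (nat_lit 32) (nat_lit 0) (nat_lit 32) [nat_lit 5, nat_lit 6, nat_lit 4, nat_lit 5, nat_lit 2, nat_lit 3, nat_lit 4, nat_lit 1, nat_lit 2, nat_lit 3, nat_lit 8, nat_lit 0, nat_lit 1, nat_lit 2, nat_lit 3, nat_lit 4, nat_lit 5, nat_lit 3, nat_lit 2, nat_lit 1, nat_lit 9, nat_lit 4, nat_lit 3, nat_lit 2, nat_lit 8, nat_lit 3, nat_lit 9, nat_lit 10, nat_lit 2, nat_lit 8, nat_lit 10, nat_lit 1, nat_lit 8, nat_lit 16, nat_lit 14, nat_lit 16, nat_lit 8, nat_lit 16] (Rl.cmp (nat_lit 3010) (nat_lit 3646)))))) (FT.node (nat_lit 3835) (FT.leaf (Fct.mk false (nat_lit 32) (nat_lit 0) (nat_lit 32) [nat_lit 3, nat_lit 8, nat_lit 6, nat_lit 4, nat_lit 5, nat_lit 3, nat_lit 4, nat_lit 2, nat_lit 3, nat_lit 8, nat_lit 0, nat_lit 1, nat_lit 2, nat_lit 3, nat_lit 4, nat_lit 5, nat_lit 2, nat_lit 0, nat_lit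 1, nat_lit 9, nat_lit 4, nat_lit 3, nat_lit 2, nat_lit 8, nat_lit 3, nat_lit 11, nat_lit 16, nat_lit 12, nat_lit 15, nat_lit 14, nat_lit 18] (Rl.cmp (nat_lit 3010) (nat_lit 3833)))) (FT.node (nat_lit 3836) (FT.leaf (Fct.mk false (nat_lit 32) (nat_lit 0) (nat_lit 32) [nat_lit 1, nat_lit 2, nat_lit 3, nat_lit 8, nat_lit 6, nat_lit 4, nat_lit 5, nat_lit 3, nat_lit 4, nat_lit 2, nat_lit 3, nat_lit 8, nat_lit 1, nat_lit 2, nat_lit 3, nat_lit 4, nat_lit 5, nat_lit 2, nat_lit 8, nat_lit 3, nat_lit 10, nat_lit 12] (Rl.cmp (nat_lit 3004) (nat_lit 3834)))) (FT.leaf (Fct.mk false (nat_lit 5) (nat_lit 0) (nat_lit 5) [nat_lit 5, nat_lit 2, nat_lit 3, nat_lit 14] (Rl.cmp (nat_lit 511) (nat_lit 1859)))))))) (FT.node (nat_lit 3843) (FT.node (nat_lit 3840) (FT.node (nat_lit 3838) (FT.leaf (Fct.mk false (nat_lit 5) (nat_lit 0) (nat_lit 5) [nat_lit 8, nat_lit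 2, nat_lit 3, nat_lit 4, nat_lit 1, nat_lit 2, nat_lit 3, nat_lit 8, nat_lit 5, nat_lit 6, nat_lit 4, nat_lit 5, nat_lit 3, nat_lit 4, nat_lit 2, nat_lit 3, nat_lit 8, nat_lit 1, nat_lit 2, nat_lit 3, nat_lit 4, nat_lit 5, nat_lit 2, nat_lit 3, nat_lit 8, nat_lit 4, nat_lit 3, nat_lit 2, nat_lit 1, nat_lit 9, nat_lit 4, nat_lit 3, nat_lit 2, nat_lit 8, nat_lit 3, nat_lit 11, nat_lit 10, nat_lit 1, nat_lit 12, nat_lit 8, nat_lit 16, nat_lit 14, nat_lit 17, nat_lit 12, nat_lit 16] (Rl.cmp (nat_lit 2094) (nat_lit 3836)))) (FT.node (nat_lit 3839) (FT.leaf (Fct.mk false (nat_lit 5) (nat_lit 0) (nat_lit 5) [nat_lit 8, nat_lit 3, nat_lit 4, nat_lit 2, nat_lit 3, nat_lit 8, nat_lit 7, nat_lit 5, nat_lit 6, nat_lit 4, nat_lit 5, nat_lit 3, nat_lit 4, nat_lit 2, nat_lit 3, nat_lit 8, nat_lit 0, nat_lit 1, nat_lit 2, nat_lit 3, nat_lit 4, nat_lit 5, nat_lit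 6, nat_lit 7, nat_lit 6, nat_lit 5, nat_lit 4, nat_lit 2, nat_lit 3, nat_lit 8, nat_lit 1, nat_lit 2, nat_lit 3, nat_lit 4, nat_lit 5, nat_lit 1, nat_lit 9, nat_lit 4, nat_lit 3, nat_lit 2, nat_lit 8, nat_lit 3, nat_lit 11, nat_lit 10, nat_lit 2, nat_lit 8, nat_lit 10, nat_lit 1, nat_lit 12, nat_lit 15, nat_lit 8, nat_lit 19] (Rl.cmp (nat_lit 2491) (nat_lit 3837)))) (FT.leaf (Fct.mk false (nat_lit 5) (nat_lit 0) (nat_lit 5) [nat_lit 8, nat_lit 3, nat_lit 4, nat_lit 2, nat_lit 3, nat_lit 8, nat_lit 7, nat_lit 5, nat_lit 6, nat_lit 4, nat_lit 5, nat_lit 3, nat_lit 4, nat_lit 2, nat_lit 3, nat_lit 8, nat_lit 0, nat_lit 1, nat_lit 2, nat_lit 3, nat_lit 4, nat_lit 5, nat_lit 6, nat_lit 7, nat_lit 8, nat_lit 4, nat_lit 5, nat_lit 3, nat_lit 4, nat_lit 2, nat_lit 3, nat_lit 8, nat_lit 1, nat_lit 2, nat_lit 3, nat_lit 4, nat_lit 5, nat_lit 4, nat_lit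 3, nat_lit 2, nat_lit 1, nat_lit 8, nat_lit 3, nat_lit 2, nat_lit 0, nat_lit 1, nat_lit 4, nat_lit 3, nat_lit 2, nat_lit 8, nat_lit 3, nat_lit 10] (Rl.cmp (nat_lit 1754) (nat_lit 3838)))))) (FT.node (nat_lit 3841) (FT.leaf (Fct.mk true (nat_lit 32) (nat_lit 18456) (nat_lit 5) [nat_lit 5, nat_lit 4, nat_lit 2, nat_lit 3, nat_lit 8, nat_lit 1, nat_lit 2, nat_lit 3, nat_lit 4, nat_lit 5, nat_lit 6, nat_lit 7, nat_lit 1, nat_lit 2, nat_lit 3, nat_lit 8, nat_lit 0, nat_lit 1, nat_lit 2, nat_lit 3, nat_lit 4, nat_lit 5, nat_lit 1, nat_lit 2, nat_lit 0, nat_lit 1, nat_lit 4, nat_lit 3, nat_lit 2, nat_lit 8, nat_lit 3, nat_lit 11, nat_lit 2, nat_lit 8, nat_lit 10, nat_lit 1, nat_lit 16, nat_lit 12, nat_lit 15, nat_lit 14, nat_lit 16, nat_lit 8] (Rl.rel (nat_lit 0) [nat_lit 6, nat_lit 5, nat_lit 3, nat_lit 4, nat_lit 2, nat_lit 3, nat_lit 8, nat_lit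 0, nat_lit 1, nat_lit 2, nat_lit 3, nat_lit 4, nat_lit 5, nat_lit 6, nat_lit 7, nat_lit 5, nat_lit 2, nat_lit 3, nat_lit 4, nat_lit 1, nat_lit 2, nat_lit 3, nat_lit 8, nat_lit 0, nat_lit 1, nat_lit 2, nat_lit 3, nat_lit 4, nat_lit 5, nat_lit 1, nat_lit 2, nat_lit 0, nat_lit 1, nat_lit 4, nat_lit 3, nat_lit 2, nat_lit 8, nat_lit 3, nat_lit 0, nat_lit 15, nat_lit 14, nat_lit 8] (nat_lit 5) (nat_lit 1) [nat_lit 3784] [nat_lit 3839, nat_lit 2703]))) (FT.node (nat_lit 3842) (FT.leaf (Fct.mk true (nat_lit 32) (nat_lit 4140) (nat_lit 5) [nat_lit 5, nat_lit 6, nat_lit 4, nat_lit 5, nat_lit 3, nat_lit 4, nat_lit 2, nat_lit 3, nat_lit 8, nat_lit 1, nat_lit 2, nat_lit 3, nat_lit 4, nat_lit 5, nat_lit 6, nat_lit 7, nat_lit 8, nat_lit 5, nat_lit 3, nat_lit 4, nat_lit 1, nat_lit 2, nat_lit 3, nat_lit 8, nat_lit 0, nat_lit 1, nat_lit 2, nat_lit 3, nat_lit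 4, nat_lit 5, nat_lit 1, nat_lit 2, nat_lit 0, nat_lit 1, nat_lit 3, nat_lit 2, nat_lit 8, nat_lit 3, nat_lit 9, nat_lit 16, nat_lit 8, nat_lit 12, nat_lit 15, nat_lit 19] (Rl.t1 (nat_lit 3840) (nat_lit 3835)))) (FT.leaf (Fct.mk true (nat_lit 5) (nat_lit 56645) (nat_lit 32) [nat_lit 6, nat_lit 4, nat_lit 5, nat_lit 3, nat_lit 4, nat_lit 2, nat_lit 3, nat_lit 8, nat_lit 0, nat_lit 1, nat_lit 2, nat_lit 3, nat_lit 4, nat_lit 5, nat_lit 6, nat_lit 7, nat_lit 5, nat_lit 6, nat_lit 3, nat_lit 4, nat_lit 5, nat_lit 2, nat_lit 3, nat_lit 4, nat_lit 1, nat_lit 2, nat_lit 3, nat_lit 8, nat_lit 0, nat_lit 1, nat_lit 2, nat_lit 3, nat_lit 4, nat_lit 5, nat_lit 3, nat_lit 2, nat_lit 1, nat_lit 8, nat_lit 3, nat_lit 2, nat_lit 0, nat_lit 1, nat_lit 4, nat_lit 3, nat_lit 2, nat_lit 8, nat_lit 3, nat_lit 11, nat_lit 8, nat_lit 10, nat_lit 1, nat_lit 16, nat_lit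 12, nat_lit 15, nat_lit 14, nat_lit 17, nat_lit 19] (Rl.inv (nat_lit 3841))))))) (FT.node (nat_lit 3846) (FT.node (nat_lit 3844) (FT.leaf (Fct.mk true (nat_lit 5) (nat_lit 2617) (nat_lit 32) [nat_lit 4, nat_lit 2, nat_lit 3, nat_lit 8, nat_lit 0, nat_lit 1, nat_lit 2, nat_lit 3, nat_lit 4, nat_lit 5, nat_lit 6, nat_lit 7, nat_lit 8, nat_lit 5, nat_lit 3, nat_lit 4, nat_lit 1, nat_lit 2, nat_lit 3, nat_lit 8, nat_lit 0, nat_lit 1, nat_lit 2, nat_lit 3, nat_lit 4, nat_lit 5, nat_lit 3, nat_lit 11, nat_lit 10, nat_lit 8, nat_lit 12, nat_lit 15, nat_lit 14, nat_lit 16, nat_lit 8, nat_lit 16] (Rl.t1 (nat_lit 3842) (nat_lit 2715)))) (FT.node (nat_lit 3845) (FT.leaf (Fct.mk false (nat_lit 32) (nat_lit 0) (nat_lit 32) [nat_lit 3, nat_lit 8, nat_lit 5, nat_lit 2, nat_lit 3, nat_lit 4, nat_lit 1, nat_lit 2, nat_lit 3, nat_lit 8, nat_lit 6, nat_lit 7,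 nat_lit 5, nat_lit 6, nat_lit 4, nat_lit 5, nat_lit 3, nat_lit 4, nat_lit 2, nat_lit 3, nat_lit 8, nat_lit 1, nat_lit 2, nat_lit 3, nat_lit 4, nat_lit 5, nat_lit 6, nat_lit 7, nat_lit 8, nat_lit 0, nat_lit 1, nat_lit 2, nat_lit 3, nat_lit 4, nat_lit 5, nat_lit 1, nat_lit 2, nat_lit 3, nat_lit 0, nat_lit 2, nat_lit 15, nat_lit 14, nat_lit 13, nat_lit 12, nat_lit 16] (Rl.cmp (nat_lit 3456) (nat_lit 3004)))) (FT.leaf (Fct.mk false (nat_lit 32) (nat_lit 0) (nat_lit 32) [nat_lit 3, nat_lit 4, nat_lit 2, nat_lit 3, nat_lit 8, nat_lit 5, nat_lit 6, nat_lit 4, nat_lit 5, nat_lit 3, nat_lit 4, nat_lit 2, nat_lit 3, nat_lit 8, nat_lit 1, nat_lit 2, nat_lit 3, nat_lit 4, nat_lit 5, nat_lit 2, nat_lit 1, nat_lit 8, nat_lit 3, nat_lit 2, nat_lit 0, nat_lit 1, nat_lit 9, nat_lit 4, nat_lit 3, nat_lit 2, nat_lit 8, nat_lit 3, nat_lit 11, nat_lit 10, nat_lit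 1, nat_lit 12, nat_lit 15, nat_lit 14, nat_lit 17, nat_lit 16] (Rl.cmp (nat_lit 3456) (nat_lit 3844)))))) (FT.node (nat_lit 3848) (FT.node (nat_lit 3847) (FT.leaf (Fct.mk false (nat_lit 32) (nat_lit 0) (nat_lit 32) [nat_lit 5, nat_lit 4, nat_lit 3, nat_lit 8, nat_lit 0, nat_lit 1, nat_lit 2, nat_lit 3, nat_lit 4, nat_lit 5, nat_lit 2, nat_lit 1, nat_lit 8, nat_lit 4, nat_lit 3, nat_lit 2, nat_lit 0, nat_lit 1, nat_lit 9, nat_lit 4, nat_lit 3, nat_lit 2, nat_lit 8, nat_lit 3, nat_lit 11, nat_lit 16, nat_lit 14, nat_lit 17, nat_lit 12] (Rl.cmp (nat_lit 3047) (nat_lit 3845)))) (FT.leaf (Fct.mk false (nat_lit 32) (nat_lit 0) (nat_lit 32) [nat_lit 5, nat_lit 4, nat_lit 3, nat_lit 8, nat_lit 2, nat_lit 3, nat_lit 4, nat_lit 1, nat_lit 2, nat_lit 3, nat_lit 8, nat_lit 5, nat_lit 6, nat_lit 4, nat_lit 5, nat_lit 3, nat_lit 4, nat_lit 2, nat_lit 3,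 nat_lit 8, nat_lit 1, nat_lit 2, nat_lit 3, nat_lit 4, nat_lit 5, nat_lit 8, nat_lit 3, nat_lit 11, nat_lit 8, nat_lit 10, nat_lit 13, nat_lit 19] (Rl.cmp (nat_lit 3004) (nat_lit 3846))))) (FT.node (nat_lit 3849) (FT.leaf (Fct.mk false (nat_lit 32) (nat_lit 0) (nat_lit 32) [nat_lit 1, nat_lit 2, nat_lit 3, nat_lit 8, nat_lit 6, nat_lit 4, nat_lit 5, nat_lit 3, nat_lit 4, nat_lit 2, nat_lit 3, nat_lit 8, nat_lit 1, nat_lit 2, nat_lit 3, nat_lit 4, nat_lit 5, nat_lit 2, nat_lit 8, nat_lit 3, nat_lit 10, nat_lit 0, nat_lit 8, nat_lit 18] (Rl.cmp (nat_lit 3010) (nat_lit 3847)))) (FT.leaf (Fct.mk false (nat_lit 5) (nat_lit 0) (nat_lit 5) [nat_lit 8, nat_lit 4, nat_lit 5, nat_lit 2, nat_lit 3, nat_lit 4, nat_lit 1, nat_lit 2, nat_lit 3, nat_lit 8, nat_lit 6, nat_lit 7, nat_lit 5, nat_lit 6, nat_lit 4, nat_lit 5, nat_lit 3, nat_lit 4, nat_lit 2, nat_lit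 3, nat_lit 8, nat_lit 1, nat_lit 2, nat_lit 3, nat_lit 4, nat_lit 5, nat_lit 6, nat_lit 7, nat_lit 6, nat_lit 5, nat_lit 4, nat_lit 3, nat_lit 8, nat_lit 2, nat_lit 3, nat_lit 4, nat_lit 5, nat_lit 1, nat_lit 4, nat_lit 3, nat_lit 2, nat_lit 8, nat_lit 3, nat_lit 11, nat_lit 10, nat_lit 8, nat_lit 16, nat_lit 14, nat_lit 13, nat_lit 12, nat_lit 19, nat_lit 16] (Rl.cmp (nat_lit 2491) (nat_lit 2788)))))))))

/-- some facts -/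
noncomputable def ftc77 : FT := FT.node (nat_lit 3875) (FT.node (nat_lit 3862) (FT.node (nat_lit 3856) (FT.node (nat_lit 3853) (FT.node (nat_lit 3851) (FT.leaf (Fct.mk false (nat_lit 5) (nat_lit 0) (nat_lit 5) [nat_lit 8, nat_lit 3, nat_lit 4, nat_lit 2, nat_lit 3, nat_lit 8, nat_lit 7, nat_lit 5, nat_lit 6, nat_lit 4, nat_lit 5, nat_lit 3, nat_lit 4, nat_lit 2, nat_lit 3, nat_lit 8, nat_lit 0, nat_lit 1, nat_lit 2, nat_lit 3, nat_lit 4, nat_lit 5, nat_lit 6, nat_lit 7, nat_lit 6, nat_lit 2, nat_lit 3, nat_lit 8, nat_lit 4, nat_lit 3, nat_lit 2, nat_lit 1, nat_lit 9, nat_lit 4, nat_lit 3, nat_lit 2, nat_lit 8, nat_lit 3, nat_lit 11, nat_lit 10, nat_lit 1, nat_lit 8, nat_lit 16, nat_lit 14, nat_lit 17, nat_lit 16] (Rl.cmp (nat_lit 2094) (nat_lit 3849)))) (FT.node (nat_lit 3852) (FT.leaf (Fct.mk true (nat_lit 32) (nat_lit 7068) (nat_lit 32) [nat_lit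 6, nat_lit 5, nat_lit 2, nat_lit 3, nat_lit 4, nat_lit 1, nat_lit 2, nat_lit 3, nat_lit 8, nat_lit 0, nat_lit 1, nat_lit 2, nat_lit 3, nat_lit 4, nat_lit 5, nat_lit 6, nat_lit 7, nat_lit 4, nat_lit 2, nat_lit 3, nat_lit 8, nat_lit 1, nat_lit 2, nat_lit 3, nat_lit 4, nat_lit 5, nat_lit 0, nat_lit 1, nat_lit 9, nat_lit 4, nat_lit 3, nat_lit 2, nat_lit 8, nat_lit 3, nat_lit 9, nat_lit 2, nat_lit 14, nat_lit 16] (Rl.rel (nat_lit 0) [nat_lit 3, nat_lit 8, nat_lit 6, nat_lit 5, nat_lit 2, nat_lit 3, nat_lit 4, nat_lit 1, nat_lit 2, nat_lit 3, nat_lit 8, nat_lit 0, nat_lit 1, nat_lit 2, nat_lit 3, nat_lit 4, nat_lit 5, nat_lit 6, nat_lit 7, nat_lit 5, nat_lit 4, nat_lit 2, nat_lit 3, nat_lit 8, nat_lit 1, nat_lit 2, nat_lit 3, nat_lit 4, nat_lit 5, nat_lit 1, nat_lit 2, nat_lit 0, nat_lit 1, nat_lit 4, nat_lit 3, nat_lit 2, nat_lit 8, nat_lit 3, nat_lit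 0, nat_lit 15, nat_lit 14, nat_lit 8] (nat_lit 5) (nat_lit 1) [nat_lit 3784] [nat_lit 3850, nat_lit 3843]))) (FT.leaf (Fct.mk true (nat_lit 32) (nat_lit 386) (nat_lit 32) [nat_lit 8, nat_lit 5, nat_lit 3, nat_lit 4, nat_lit 1, nat_lit 2, nat_lit 3, nat_lit 8, nat_lit 0, nat_lit 1, nat_lit 2, nat_lit 3, nat_lit 4, nat_lit 5, nat_lit 6, nat_lit 7, nat_lit 3, nat_lit 8, nat_lit 1, nat_lit 2, nat_lit 3, nat_lit 4, nat_lit 5, nat_lit 2, nat_lit 1, nat_lit 9, nat_lit 4, nat_lit 3, nat_lit 2, nat_lit 8, nat_lit 3, nat_lit 11, nat_lit 10, nat_lit 12, nat_lit 15, nat_lit 13, nat_lit 16] (Rl.t1 (nat_lit 3851) (nat_lit 3848)))))) (FT.node (nat_lit 3854) (FT.leaf (Fct.mk false (nat_lit 32) (nat_lit 0) (nat_lit 32) [nat_lit 5, nat_lit 4, nat_lit 3, nat_lit 8, nat_lit 0, nat_lit 1, nat_lit 2, nat_lit 3, nat_lit 4, nat_lit 5, nat_lit 2, nat_lit 0, nat_lit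 1, nat_lit 4, nat_lit 3, nat_lit 2, nat_lit 8, nat_lit 3, nat_lit 10, nat_lit 2, nat_lit 8, nat_lit 10, nat_lit 1, nat_lit 16, nat_lit 15, nat_lit 14, nat_lit 16, nat_lit 8] (Rl.cmp (nat_lit 3004) (nat_lit 3004)))) (FT.node (nat_lit 3855) (FT.leaf (Fct.mk false (nat_lit 32) (nat_lit 0) (nat_lit 32) [nat_lit 5, nat_lit 6, nat_lit 4, nat_lit 5, nat_lit 3, nat_lit 4, nat_lit 2, nat_lit 3, nat_lit 8, nat_lit 1, nat_lit 2, nat_lit 3, nat_lit 4, nat_lit 5, nat_lit 1, nat_lit 9, nat_lit 4, nat_lit 3, nat_lit 2, nat_lit 8, nat_lit 3, nat_lit 11, nat_lit 10, nat_lit 1, nat_lit 12, nat_lit 15, nat_lit 14, nat_lit 18, nat_lit 16] (Rl.cmp (nat_lit 3004) (nat_lit 3010)))) (FT.leaf (Fct.mk false (nat_lit 32) (nat_lit 0) (nat_lit 32) [nat_lit 8, nat_lit 3, nat_lit 4, nat_lit 1, nat_lit 2, nat_lit 3, nat_lit 8, nat_lit 5, nat_lit 6, nat_lit 4, nat_lit 5, nat_lit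 3, nat_lit 4, nat_lit 2, nat_lit 3, nat_lit 8, nat_lit 1, nat_lit 2, nat_lit 3, nat_lit 4, nat_lit 5, nat_lit 2, nat_lit 1, nat_lit 4, nat_lit 3, nat_lit 2, nat_lit 8, nat_lit 3, nat_lit 11, nat_lit 2, nat_lit 15, nat_lit 19] (Rl.cmp (nat_lit 3010) (nat_lit 3854))))))) (FT.node (nat_lit 3859) (FT.node (nat_lit 3857) (FT.leaf (Fct.mk false (nat_lit 32) (nat_lit 0) (nat_lit 32) [nat_lit 2, nat_lit 3, nat_lit 8, nat_lit 6, nat_lit 4, nat_lit 5, nat_lit 3, nat_lit 4, nat_lit 2, nat_lit 3, nat_lit 8, nat_lit 1, nat_lit 2, nat_lit 3, nat_lit 4, nat_lit 5, nat_lit 2, nat_lit 3, nat_lit 8, nat_lit 4, nat_lit 3, nat_lit 2, nat_lit 1, nat_lit 9, nat_lit 4, nat_lit 3, nat_lit 2, nat_lit 8, nat_lit 3, nat_lit 0, nat_lit 2, nat_lit 15, nat_lit 14, nat_lit 13, nat_lit 18, nat_lit 16] (Rl.cmp (nat_lit 3010) (nat_lit 3855)))) (FT.node (nat_lit 3858) (FT.leaf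 (Fct.mk false (nat_lit 32) (nat_lit 0) (nat_lit 32) [nat_lit 6, nat_lit 1, nat_lit 3, nat_lit 2, nat_lit 8, nat_lit 3, nat_lit 11, nat_lit 8, nat_lit 10, nat_lit 1, nat_lit 14, nat_lit 13, nat_lit 18, nat_lit 16] (Rl.cmp (nat_lit 3004) (nat_lit 3856)))) (FT.leaf (Fct.mk false (nat_lit 32) (nat_lit 0) (nat_lit 32) [nat_lit 3, nat_lit 4, nat_lit 2, nat_lit 3, nat_lit 8, nat_lit 5, nat_lit 6, nat_lit 4, nat_lit 5, nat_lit 3, nat_lit 4, nat_lit 2, nat_lit 3, nat_lit 8, nat_lit 1, nat_lit 2, nat_lit 3, nat_lit 4, nat_lit 5, nat_lit 2, nat_lit 0, nat_lit 1, nat_lit 4, nat_lit 3, nat_lit 2, nat_lit 8, nat_lit 3, nat_lit 8, nat_lit 10, nat_lit 1, nat_lit 16, nat_lit 15, nat_lit 14, nat_lit 13, nat_lit 12, nat_lit 19, nat_lit 16] (Rl.cmp (nat_lit 3004) (nat_lit 3857)))))) (FT.node (nat_lit 3860) (FT.leaf (Fct.mk false (nat_lit 5) (nat_lit 0) (nat_lit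 5) [nat_lit 3, nat_lit 11, nat_lit 10, nat_lit 1, nat_lit 16, nat_lit 15, nat_lit 14, nat_lit 13, nat_lit 16] (Rl.cmp (nat_lit 488) (nat_lit 470)))) (FT.node (nat_lit 3861) (FT.leaf (Fct.mk false (nat_lit 5) (nat_lit 0) (nat_lit 5) [nat_lit 3] (Rl.cmp (nat_lit 493) (nat_lit 3859)))) (FT.leaf (Fct.mk true (nat_lit 32) (nat_lit 1107) (nat_lit 32) [nat_lit 3, nat_lit 8, nat_lit 6, nat_lit 5, nat_lit 2, nat_lit 3, nat_lit 4, nat_lit 1, nat_lit 2, nat_lit 3, nat_lit 8, nat_lit 0, nat_lit 1, nat_lit 2, nat_lit 3, nat_lit 4, nat_lit 5, nat_lit 6, nat_lit 7, nat_lit 2, nat_lit 3, nat_lit 4, nat_lit 1, nat_lit 2, nat_lit 3, nat_lit 8, nat_lit 0, nat_lit 1, nat_lit 2, nat_lit 3, nat_lit 4, nat_lit 5, nat_lit 1, nat_lit 2, nat_lit 0, nat_lit 1, nat_lit 4, nat_lit 3, nat_lit 2, nat_lit 8, nat_lit 3, nat_lit 10, nat_lit 0, nat_lit 14, nat_lit 17, nat_lit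 12, nat_lit 19, nat_lit 16] (Rl.rel (nat_lit 0) [nat_lit 6, nat_lit 5, nat_lit 3, nat_lit 4, nat_lit 2, nat_lit 3, nat_lit 8, nat_lit 0, nat_lit 1, nat_lit 2, nat_lit 3, nat_lit 4, nat_lit 5, nat_lit 6, nat_lit 7, nat_lit 5, nat_lit 2, nat_lit 3, nat_lit 4, nat_lit 1, nat_lit 2, nat_lit 3, nat_lit 8, nat_lit 0, nat_lit 1, nat_lit 2, nat_lit 3, nat_lit 4, nat_lit 5, nat_lit 1, nat_lit 2, nat_lit 0, nat_lit 1, nat_lit 4, nat_lit 3, nat_lit 2, nat_lit 8, nat_lit 3, nat_lit 15, nat_lit 14, nat_lit 8] (nat_lit 5) (nat_lit 1) [nat_lit 3784] [nat_lit 3860, nat_lit 3816]))))))) (FT.node (nat_lit 3868) (FT.node (nat_lit 3865) (FT.node (nat_lit 3863) (FT.leaf (Fct.mk true (nat_lit 32) (nat_lit 113) (nat_lit 32) [nat_lit 8, nat_lit 0, nat_lit 1, nat_lit 2, nat_lit 3, nat_lit 4, nat_lit 5, nat_lit 6, nat_lit 7, nat_lit 8, nat_lit 5, nat_lit 2, nat_lit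 3, nat_lit 4, nat_lit 1, nat_lit 2, nat_lit 3, nat_lit 8, nat_lit 0, nat_lit 1, nat_lit 2, nat_lit 3, nat_lit 4, nat_lit 5, nat_lit 2, nat_lit 0, nat_lit 1, nat_lit 4, nat_lit 3, nat_lit 2, nat_lit 8, nat_lit 3, nat_lit 8, nat_lit 10, nat_lit 1, nat_lit 12, nat_lit 15, nat_lit 14, nat_lit 17, nat_lit 12, nat_lit 19] (Rl.t1 (nat_lit 3861) (nat_lit 3858)))) (FT.node (nat_lit 3864) (FT.leaf (Fct.mk false (nat_lit 32) (nat_lit 0) (nat_lit 32) [nat_lit 2, nat_lit 3, nat_lit 4, nat_lit 1, nat_lit 2, nat_lit 3, nat_lit 8, nat_lit 0, nat_lit 1, nat_lit 2, nat_lit 3, nat_lit 4, nat_lit 5, nat_lit 3, nat_lit 8, nat_lit 4, nat_lit 3, nat_lit 2, nat_lit 0, nat_lit 1, nat_lit 9, nat_lit 4, nat_lit 3, nat_lit 2, nat_lit 8, nat_lit 3, nat_lit 11, nat_lit 10, nat_lit 8, nat_lit 16, nat_lit 14, nat_lit 19] (Rl.cmp (nat_lit 3010) (nat_lit 3004)))) (FT.leaf (Fct.mk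 false (nat_lit 32) (nat_lit 0) (nat_lit 32) [nat_lit 3, nat_lit 4, nat_lit 2, nat_lit 3, nat_lit 8, nat_lit 5, nat_lit 6, nat_lit 4, nat_lit 5, nat_lit 3, nat_lit 4, nat_lit 2, nat_lit 3, nat_lit 8, nat_lit 1, nat_lit 2, nat_lit 3, nat_lit 4, nat_lit 5, nat_lit 3, nat_lit 2, nat_lit 1, nat_lit 8, nat_lit 3, nat_lit 2, nat_lit 0, nat_lit 1, nat_lit 9, nat_lit 4, nat_lit 3, nat_lit 2, nat_lit 8, nat_lit 3, nat_lit 11, nat_lit 10, nat_lit 1, nat_lit 12, nat_lit 15, nat_lit 14, nat_lit 17, nat_lit 16] (Rl.cmp (nat_lit 3047) (nat_lit 3863)))))) (FT.node (nat_lit 3866) (FT.leaf (Fct.mk false (nat_lit 32) (nat_lit 0) (nat_lit 32) [nat_lit 5, nat_lit 4, nat_lit 3, nat_lit 8, nat_lit 0, nat_lit 1, nat_lit 2, nat_lit 3, nat_lit 4, nat_lit 5, nat_lit 2, nat_lit 1, nat_lit 8, nat_lit 3, nat_lit 2, nat_lit 0, nat_lit 1, nat_lit 9, nat_lit 4, nat_lit 3,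 nat_lit 2, nat_lit 8, nat_lit 3, nat_lit 11, nat_lit 16, nat_lit 14, nat_lit 17, nat_lit 12] (Rl.cmp (nat_lit 3047) (nat_lit 3864)))) (FT.node (nat_lit 3867) (FT.leaf (Fct.mk false (nat_lit 32) (nat_lit 0) (nat_lit 32) [nat_lit 5, nat_lit 4, nat_lit 3, nat_lit 8, nat_lit 2, nat_lit 3, nat_lit 4, nat_lit 1, nat_lit 2, nat_lit 3, nat_lit 8, nat_lit 5, nat_lit 6, nat_lit 4, nat_lit 5, nat_lit 3, nat_lit 4, nat_lit 2, nat_lit 3, nat_lit 8, nat_lit 1, nat_lit 2, nat_lit 3, nat_lit 4, nat_lit 5, nat_lit 2, nat_lit 8, nat_lit 3, nat_lit 11, nat_lit 8, nat_lit 10, nat_lit 13, nat_lit 19] (Rl.cmp (nat_lit 3004) (nat_lit 3865)))) (FT.leaf (Fct.mk false (nat_lit 32) (nat_lit 0) (nat_lit 32) [nat_lit 1, nat_lit 2, nat_lit 3, nat_lit 8, nat_lit 6, nat_lit 4, nat_lit 5, nat_lit 3, nat_lit 4, nat_lit 2, nat_lit 3, nat_lit 8, nat_lit 1, nat_lit 2, nat_lit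 3, nat_lit 4, nat_lit 5, nat_lit 8, nat_lit 3, nat_lit 10, nat_lit 0, nat_lit 8, nat_lit 18] (Rl.cmp (nat_lit 3010) (nat_lit 3866))))))) (FT.node (nat_lit 3871) (FT.node (nat_lit 3869) (FT.leaf (Fct.mk false (nat_lit 5) (nat_lit 0) (nat_lit 5) [nat_lit 8, nat_lit 2, nat_lit 3, nat_lit 4, nat_lit 1, nat_lit 2, nat_lit 3, nat_lit 8, nat_lit 5, nat_lit 6, nat_lit 4, nat_lit 5, nat_lit 3, nat_lit 4, nat_lit 2, nat_lit 3, nat_lit 8, nat_lit 1, nat_lit 2, nat_lit 3, nat_lit 4, nat_lit 5, nat_lit 2, nat_lit 3, nat_lit 8, nat_lit 4, nat_lit 3, nat_lit 2, nat_lit 1, nat_lit 9, nat_lit 4, nat_lit 3, nat_lit 2, nat_lit 8, nat_lit 3, nat_lit 8, nat_lit 12, nat_lit 15, nat_lit 13, nat_lit 12, nat_lit 19] (Rl.cmp (nat_lit 1859) (nat_lit 2708)))) (FT.node (nat_lit 3870) (FT.leaf (Fct.mk false (nat_lit 5) (nat_lit 0) (nat_lit 5) [nat_lit 8, nat_lit 3, nat_lit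 4, nat_lit 2, nat_lit 3, nat_lit 8, nat_lit 7, nat_lit 5, nat_lit 6, nat_lit 4, nat_lit 5, nat_lit 3, nat_lit 4, nat_lit 2, nat_lit 3, nat_lit 8, nat_lit 0, nat_lit 1, nat_lit 2, nat_lit 3, nat_lit 4, nat_lit 5, nat_lit 6, nat_lit 7, nat_lit 6, nat_lit 5, nat_lit 4, nat_lit 2, nat_lit 3, nat_lit 8, nat_lit 1, nat_lit 2, nat_lit 3, nat_lit 4, nat_lit 5, nat_lit 1, nat_lit 9, nat_lit 4, nat_lit 3, nat_lit 2, nat_lit 8, nat_lit 3, nat_lit 11, nat_lit 9, nat_lit 10, nat_lit 2, nat_lit 8, nat_lit 10, nat_lit 1, nat_lit 12, nat_lit 15, nat_lit 8, nat_lit 19] (Rl.cmp (nat_lit 2491) (nat_lit 3868)))) (FT.leaf (Fct.mk false (nat_lit 5) (nat_lit 0) (nat_lit 5) [nat_lit 8, nat_lit 3, nat_lit 4, nat_lit 2, nat_lit 3, nat_lit 8, nat_lit 7, nat_lit 5, nat_lit 6, nat_lit 4, nat_lit 5, nat_lit 3, nat_lit 4, nat_lit 2, nat_lit 3, nat_lit 8, nat_lit 0, nat_lit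 1, nat_lit 2, nat_lit 3, nat_lit 4, nat_lit 5, nat_lit 6, nat_lit 7, nat_lit 2, nat_lit 3, nat_lit 8, nat_lit 4, nat_lit 5, nat_lit 3, nat_lit 4, nat_lit 2, nat_lit 3, nat_lit 8, nat_lit 1, nat_lit 2, nat_lit 3, nat_lit 4, nat_lit 5, nat_lit 4, nat_lit 3, nat_lit 2, nat_lit 8, nat_lit 3, nat_lit 8, nat_lit 10, nat_lit 0, nat_lit 15, nat_lit 14, nat_lit 18] (Rl.cmp (nat_lit 470) (nat_lit 3869)))))) (FT.node (nat_lit 3873) (FT.node (nat_lit 3872) (FT.leaf (Fct.mk true (nat_lit 32) (nat_lit 4335) (nat_lit 32) [nat_lit 8, nat_lit 7, nat_lit 5, nat_lit 6, nat_lit 4, nat_lit 5, nat_lit 3, nat_lit 4, nat_lit 2, nat_lit 3, nat_lit 8, nat_lit 0, nat_lit 1, nat_lit 2, nat_lit 3, nat_lit 4, nat_lit 5, nat_lit 6, nat_lit 7, nat_lit 2, nat_lit 3, nat_lit 8, nat_lit 0, nat_lit 1, nat_lit 2, nat_lit 3, nat_lit 4, nat_lit 5, nat_lit 0, nat_lit 8] (Rl.rel (nat_lit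 0) [nat_lit 2, nat_lit 3, nat_lit 8, nat_lit 5, nat_lit 6, nat_lit 4, nat_lit 5, nat_lit 3, nat_lit 4, nat_lit 2, nat_lit 3, nat_lit 8, nat_lit 0, nat_lit 1, nat_lit 2, nat_lit 3, nat_lit 4, nat_lit 5, nat_lit 6, nat_lit 7, nat_lit 3, nat_lit 8, nat_lit 0, nat_lit 1, nat_lit 2, nat_lit 3, nat_lit 4, nat_lit 5, nat_lit 3, nat_lit 2, nat_lit 8, nat_lit 10, nat_lit 1, nat_lit 8, nat_lit 12, nat_lit 15, nat_lit 14, nat_lit 18] (nat_lit 5) (nat_lit 1) [nat_lit 3784] [nat_lit 3870, nat_lit 3784]))) (FT.leaf (Fct.mk true (nat_lit 32) (nat_lit 47) (nat_lit 32) [nat_lit 8, nat_lit 6, nat_lit 7, nat_lit 5, nat_lit 6, nat_lit 4, nat_lit 5, nat_lit 3, nat_lit 4, nat_lit 1, nat_lit 2, nat_lit 3, nat_lit 8, nat_lit 0, nat_lit 1, nat_lit 2, nat_lit 3, nat_lit 4, nat_lit 5, nat_lit 6, nat_lit 7, nat_lit 3, nat_lit 8, nat_lit 1, nat_lit 2, nat_lit 3, nat_lit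 4, nat_lit 5, nat_lit 2, nat_lit 1, nat_lit 3, nat_lit 2, nat_lit 0, nat_lit 1, nat_lit 9, nat_lit 4, nat_lit 3, nat_lit 2, nat_lit 8, nat_lit 3, nat_lit 0, nat_lit 12, nat_lit 8, nat_lit 16, nat_lit 14, nat_lit 17, nat_lit 12, nat_lit 18] (Rl.t1 (nat_lit 3871) (nat_lit 3867))))) (FT.node (nat_lit 3874) (FT.leaf (Fct.mk false (nat_lit 32) (nat_lit 0) (nat_lit 32) [nat_lit 5, nat_lit 4, nat_lit 3, nat_lit 8, nat_lit 0, nat_lit 1, nat_lit 2, nat_lit 3, nat_lit 4, nat_lit 5, nat_lit 2, nat_lit 0, nat_lit 1, nat_lit 4, nat_lit 3, nat_lit 2, nat_lit 8, nat_lit 3, nat_lit 10, nat_lit 2, nat_lit 8, nat_lit 10, nat_lit 1, nat_lit 16, nat_lit 15, nat_lit 14, nat_lit 16, nat_lit 8] (Rl.cmp (nat_lit 3004) (nat_lit 3004)))) (FT.leaf (Fct.mk false (nat_lit 32) (nat_lit 0) (nat_lit 32) [nat_lit 3, nat_lit 8, nat_lit 5, nat_lit 2, nat_lit 3, nat_lit 4, nat_lit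 1, nat_lit 2, nat_lit 3, nat_lit 8, nat_lit 6, nat_lit 7, nat_lit 5, nat_lit 6, nat_lit 4, nat_lit 5, nat_lit 3, nat_lit 4, nat_lit 2, nat_lit 3, nat_lit 8, nat_lit 1, nat_lit 2, nat_lit 3, nat_lit 4, nat_lit 5, nat_lit 6, nat_lit 7, nat_lit 4, nat_lit 2, nat_lit 3, nat_lit 8, nat_lit 5, nat_lit 6, nat_lit 4, nat_lit 5, nat_lit 3, nat_lit 4, nat_lit 2, nat_lit 3, nat_lit 8, nat_lit 1, nat_lit 2, nat_lit 3, nat_lit 4, nat_lit 5, nat_lit 3, nat_lit 2, nat_lit 0, nat_lit 1, nat_lit 9, nat_lit 4, nat_lit 3, nat_lit 2, nat_lit 8, nat_lit 3, nat_lit 1, nat_lit 9, nat_lit 8, nat_lit 16, nat_lit 15, nat_lit 14, nat_lit 13, nat_lit 16] (Rl.cmp (nat_lit 3456) (nat_lit 3873))))))))) (FT.node (nat_lit 3887) (FT.node (nat_lit 3881) (FT.node (nat_lit 3878) (FT.node (nat_lit 3876) (FT.leaf (Fct.mk false (nat_lit 32) (nat_lit 0) (nat_lit 32) [nat_lit 3, nat_lit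 8, nat_lit 5, nat_lit 2, nat_lit 3, nat_lit 4, nat_lit 1, nat_lit 2, nat_lit 3, nat_lit 8, nat_lit 6, nat_lit 7, nat_lit 5, nat_lit 6, nat_lit 4, nat_lit 5, nat_lit 3, nat_lit 4, nat_lit 2, nat_lit 3, nat_lit 8, nat_lit 1, nat_lit 2, nat_lit 3, nat_lit 4, nat_lit 5, nat_lit 6, nat_lit 7, nat_lit 6, nat_lit 5, nat_lit 4, nat_lit 3, nat_lit 8, nat_lit 1, nat_lit 2, nat_lit 3, nat_lit 4, nat_lit 5, nat_lit 2, nat_lit 1, nat_lit 3, nat_lit 2, nat_lit 0, nat_lit 1, nat_lit 9, nat_lit 4, nat_lit 3, nat_lit 2, nat_lit 8, nat_lit 3, nat_lit 10, nat_lit 8, nat_lit 12, nat_lit 15, nat_lit 17, nat_lit 12, nat_lit 18, nat_lit 16] (Rl.cmp (nat_lit 3010) (nat_lit 3874)))) (FT.node (nat_lit 3877) (FT.leaf (Fct.mk false (nat_lit 32) (nat_lit 0) (nat_lit 32) [nat_lit 3, nat_lit 8, nat_lit 5, nat_lit 2, nat_lit 3, nat_lit 4, nat_lit 1, nat_lit 2, nat_lit 3,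 nat_lit 8, nat_lit 6, nat_lit 7, nat_lit 5, nat_lit 6, nat_lit 4, nat_lit 5, nat_lit 3, nat_lit 4, nat_lit 2, nat_lit 3, nat_lit 8, nat_lit 1, nat_lit 2, nat_lit 3, nat_lit 4, nat_lit 5, nat_lit 6, nat_lit 7, nat_lit 8, nat_lit 4, nat_lit 5, nat_lit 3, nat_lit 4, nat_lit 2, nat_lit 3, nat_lit 8, nat_lit 1, nat_lit 2, nat_lit 3, nat_lit 4, nat_lit 5, nat_lit 8, nat_lit 3, nat_lit 2, nat_lit 1, nat_lit 4, nat_lit 3, nat_lit 2, nat_lit 8, nat_lit 3, nat_lit 11, nat_lit 8, nat_lit 10, nat_lit 1, nat_lit 14, nat_lit 17, nat_lit 12, nat_lit 19] (Rl.cmp (nat_lit 3004) (nat_lit 3875)))) (FT.leaf (Fct.mk false (nat_lit 32) (nat_lit 0) (nat_lit 32) [nat_lit 3, nat_lit 2, nat_lit 1, nat_lit 8, nat_lit 3, nat_lit 2, nat_lit 0, nat_lit 1, nat_lit 4, nat_lit 3, nat_lit 2, nat_lit 8, nat_lit 3, nat_lit 2, nat_lit 8, nat_lit 10, nat_lit 1, nat_lit 8, nat_lit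 12, nat_lit 15, nat_lit 14, nat_lit 12, nat_lit 18] (Rl.cmp (nat_lit 3456) (nat_lit 3876)))))) (FT.node (nat_lit 3879) (FT.leaf (Fct.mk false (nat_lit 32) (nat_lit 0) (nat_lit 32) [nat_lit 3, nat_lit 8, nat_lit 5, nat_lit 2, nat_lit 3, nat_lit 4, nat_lit 1, nat_lit 2, nat_lit 3, nat_lit 8, nat_lit 6, nat_lit 7, nat_lit 5, nat_lit 6, nat_lit 4, nat_lit 5, nat_lit 3, nat_lit 4, nat_lit 2, nat_lit 3, nat_lit 8, nat_lit 1, nat_lit 2, nat_lit 3, nat_lit 4, nat_lit 5, nat_lit 6, nat_lit 7, nat_lit 8, nat_lit 0, nat_lit 1, nat_lit 2, nat_lit 3, nat_lit 4, nat_lit 5, nat_lit 1, nat_lit 2, nat_lit 3, nat_lit 0, nat_lit 2, nat_lit 15, nat_lit 14, nat_lit 13, nat_lit 12, nat_lit 16] (Rl.cmp (nat_lit 3456) (nat_lit 3004)))) (FT.node (nat_lit 3880) (FT.leaf (Fct.mk false (nat_lit 32) (nat_lit 0) (nat_lit 32) [nat_lit 3, nat_lit 8, nat_lit 5, nat_lit 2,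 nat_lit 3, nat_lit 4, nat_lit 1, nat_lit 2, nat_lit 3, nat_lit 8, nat_lit 6, nat_lit 7, nat_lit 5, nat_lit 6, nat_lit 4, nat_lit 5, nat_lit 3, nat_lit 4, nat_lit 2, nat_lit 3, nat_lit 8, nat_lit 1, nat_lit 2, nat_lit 3, nat_lit 4, nat_lit 5, nat_lit 6, nat_lit 7, nat_lit 3, nat_lit 4, nat_lit 2, nat_lit 3, nat_lit 8, nat_lit 5, nat_lit 6, nat_lit 4, nat_lit 5, nat_lit 3, nat_lit 4, nat_lit 2, nat_lit 3, nat_lit 8, nat_lit 0, nat_lit 1, nat_lit 2, nat_lit 3, nat_lit 4, nat_lit 5, nat_lit 8, nat_lit 3, nat_lit 2, nat_lit 1, nat_lit 4, nat_lit 3, nat_lit 2, nat_lit 8, nat_lit 3, nat_lit 11, nat_lit 8, nat_lit 10, nat_lit 1, nat_lit 12, nat_lit 15, nat_lit 17, nat_lit 12, nat_lit 19, nat_lit 16] (Rl.cmp (nat_lit 2995) (nat_lit 3878)))) (FT.leaf (Fct.mk false (nat_lit 32) (nat_lit 0) (nat_lit 32) [nat_lit 3, nat_lit 8, nat_lit 5, nat_lit 2, nat_lit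 3, nat_lit 4, nat_lit 1, nat_lit 2, nat_lit 3, nat_lit 8, nat_lit 6, nat_lit 7, nat_lit 5, nat_lit 6, nat_lit 4, nat_lit 5, nat_lit 3, nat_lit 4, nat_lit 2, nat_lit 3, nat_lit 8, nat_lit 1, nat_lit 2, nat_lit 3, nat_lit 4, nat_lit 5, nat_lit 6, nat_lit 7, nat_lit 2, nat_lit 3, nat_lit 8, nat_lit 4, nat_lit 5, nat_lit 3, nat_lit 4, nat_lit 2, nat_lit 3, nat_lit 8, nat_lit 1, nat_lit 2, nat_lit 3, nat_lit 4, nat_lit 5, nat_lit 3, nat_lit 2, nat_lit 0, nat_lit 1, nat_lit 9, nat_lit 4, nat_lit 3, nat_lit 2, nat_lit 8, nat_lit 3, nat_lit 11, nat_lit 2, nat_lit 14, nat_lit 18] (Rl.cmp (nat_lit 3004) (nat_lit 3879))))))) (FT.node (nat_lit 3884) (FT.node (nat_lit 3882) (FT.leaf (Fct.mk false (nat_lit 32) (nat_lit 0) (nat_lit 32) [nat_lit 3, nat_lit 8, nat_lit 5, nat_lit 2, nat_lit 3, nat_lit 4, nat_lit 1, nat_lit 2, nat_lit 3, nat_lit 8, nat_lit 6,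 nat_lit 7, nat_lit 5, nat_lit 6, nat_lit 4, nat_lit 5, nat_lit 3, nat_lit 4, nat_lit 2, nat_lit 3, nat_lit 8, nat_lit 1, nat_lit 2, nat_lit 3, nat_lit 4, nat_lit 5, nat_lit 6, nat_lit 7, nat_lit 4, nat_lit 3, nat_lit 8, nat_lit 0, nat_lit 1, nat_lit 2, nat_lit 3, nat_lit 4, nat_lit 5, nat_lit 1, nat_lit 2, nat_lit 0, nat_lit 1, nat_lit 4, nat_lit 3, nat_lit 2, nat_lit 8, nat_lit 3, nat_lit 2, nat_lit 8, nat_lit 10, nat_lit 1, nat_lit 8, nat_lit 12, nat_lit 15, nat_lit 19, nat_lit 16] (Rl.cmp (nat_lit 3047) (nat_lit 3880)))) (FT.node (nat_lit 3883) (FT.leaf (Fct.mk false (nat_lit 32) (nat_lit 0) (nat_lit 32) [nat_lit 3, nat_lit 8, nat_lit 5, nat_lit 2, nat_lit 3, nat_lit 4, nat_lit 1, nat_lit 2, nat_lit 3, nat_lit 8, nat_lit 6, nat_lit 7, nat_lit 5, nat_lit 6, nat_lit 4, nat_lit 5, nat_lit 3, nat_lit 4, nat_lit 2, nat_lit 3, nat_lit 8, nat_lit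 1, nat_lit 2, nat_lit 3, nat_lit 4, nat_lit 5, nat_lit 6, nat_lit 7, nat_lit 8, nat_lit 3, nat_lit 4, nat_lit 2, nat_lit 3, nat_lit 8, nat_lit 5, nat_lit 6, nat_lit 4, nat_lit 5, nat_lit 3, nat_lit 4, nat_lit 2, nat_lit 3, nat_lit 8, nat_lit 1, nat_lit 2, nat_lit 3, nat_lit 4, nat_lit 5, nat_lit 11, nat_lit 2, nat_lit 16, nat_lit 12, nat_lit 15, nat_lit 14, nat_lit 8, nat_lit 18, nat_lit 16] (Rl.cmp (nat_lit 3047) (nat_lit 3881)))) (FT.leaf (Fct.mk false (nat_lit 32) (nat_lit 0) (nat_lit 32) [nat_lit 6, nat_lit 5, nat_lit 4, nat_lit 3, nat_lit 8, nat_lit 2, nat_lit 3, nat_lit 4, nat_lit 1, nat_lit 2, nat_lit 3, nat_lit 8, nat_lit 5, nat_lit 6, nat_lit 4, nat_lit 5, nat_lit 3, nat_lit 4, nat_lit 2, nat_lit 3, nat_lit 8, nat_lit 1, nat_lit 2, nat_lit 3, nat_lit 4, nat_lit 5, nat_lit 0, nat_lit 1, nat_lit 3, nat_lit 2, nat_lit 8, nat_lit 3, nat_lit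 0, nat_lit 2, nat_lit 8, nat_lit 12, nat_lit 15, nat_lit 8, nat_lit 18] (Rl.cmp (nat_lit 3047) (nat_lit 2995)))))) (FT.node (nat_lit 3885) (FT.leaf (Fct.mk false (nat_lit 32) (nat_lit 0) (nat_lit 32) [nat_lit 1, nat_lit 2, nat_lit 3, nat_lit 8, nat_lit 4, nat_lit 5, nat_lit 3, nat_lit 4, nat_lit 2, nat_lit 3, nat_lit 8, nat_lit 1, nat_lit 2, nat_lit 3, nat_lit 4, nat_lit 5, nat_lit 2, nat_lit 1, nat_lit 3, nat_lit 2, nat_lit 8, nat_lit 3, nat_lit 11, nat_lit 10, nat_lit 2, nat_lit 8, nat_lit 10, nat_lit 1, nat_lit 14, nat_lit 13, nat_lit 19] (Rl.cmp (nat_lit 3047) (nat_lit 3883)))) (FT.node (nat_lit 3886) (FT.leaf (Fct.mk false (nat_lit 32) (nat_lit 0) (nat_lit 32) [nat_lit 8, nat_lit 5, nat_lit 6, nat_lit 4, nat_lit 5, nat_lit 3, nat_lit 4, nat_lit 2, nat_lit 3, nat_lit 8, nat_lit 0, nat_lit 1, nat_lit 2, nat_lit 3, nat_lit 4, nat_lit 5, nat_lit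 1, nat_lit 9, nat_lit 4, nat_lit 3, nat_lit 2, nat_lit 8, nat_lit 3, nat_lit 11, nat_lit 10, nat_lit 1, nat_lit 12, nat_lit 15, nat_lit 14, nat_lit 18, nat_lit 16] (Rl.cmp (nat_lit 3004) (nat_lit 3884)))) (FT.leaf (Fct.mk false (nat_lit 32) (nat_lit 0) (nat_lit 32) [nat_lit 5, nat_lit 6, nat_lit 4, nat_lit 5, nat_lit 2, nat_lit 3, nat_lit 4, nat_lit 1, nat_lit 2, nat_lit 3, nat_lit 8, nat_lit 0, nat_lit 1, nat_lit 2, nat_lit 3, nat_lit 4, nat_lit 5, nat_lit 3, nat_lit 2, nat_lit 1, nat_lit 9, nat_lit 4, nat_lit 3, nat_lit 2, nat_lit 8, nat_lit 3, nat_lit 9, nat_lit 10, nat_lit 2, nat_lit 8, nat_lit 10, nat_lit 1, nat_lit 8, nat_lit 16, nat_lit 14, nat_lit 16, nat_lit 8, nat_lit 16] (Rl.cmp (nat_lit 3010) (nat_lit 3885)))))))) (FT.node (nat_lit 3893) (FT.node (nat_lit 3890) (FT.node (nat_lit 3888) (FT.leaf (Fct.mk false (nat_lit 32) (nat_lit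 0) (nat_lit 32) [nat_lit 3, nat_lit 8, nat_lit 6, nat_lit 4, nat_lit 5, nat_lit 3, nat_lit 4, nat_lit 2, nat_lit 3, nat_lit 8, nat_lit 0, nat_lit 1, nat_lit 2, nat_lit 3, nat_lit 4, nat_lit 5, nat_lit 2, nat_lit 0, nat_lit 1, nat_lit 9, nat_lit 4, nat_lit 3, nat_lit 2, nat_lit 8, nat_lit 3, nat_lit 11, nat_lit 16, nat_lit 12, nat_lit 15, nat_lit 14, nat_lit 18] (Rl.cmp (nat_lit 3010) (nat_lit 3886)))) (FT.node (nat_lit 3889) (FT.leaf (Fct.mk false (nat_lit 5) (nat_lit 0) (nat_lit 5) [nat_lit 5, nat_lit 3, nat_lit 11, nat_lit 10, nat_lit 1, nat_lit 16, nat_lit 15, nat_lit 14, nat_lit 13, nat_lit 16] (Rl.cmp (nat_lit 493) (nat_lit 488)))) (FT.leaf (Fct.mk false (nat_lit 5) (nat_lit 0) (nat_lit 5) [nat_lit 4, nat_lit 5, nat_lit 10, nat_lit 1] (Rl.cmp (nat_lit 1754) (nat_lit 3888)))))) (FT.node (nat_lit 3891) (FT.leaf (Fct.mk false (nat_lit 5)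 (nat_lit 0) (nat_lit 5) [nat_lit 8, nat_lit 3, nat_lit 4, nat_lit 2, nat_lit 3, nat_lit 8, nat_lit 5, nat_lit 6, nat_lit 4, nat_lit 5, nat_lit 3, nat_lit 4, nat_lit 2, nat_lit 3, nat_lit 8, nat_lit 0, nat_lit 1, nat_lit 2, nat_lit 3, nat_lit 4, nat_lit 5, nat_lit 8, nat_lit 3, nat_lit 2, nat_lit 1, nat_lit 9, nat_lit 4, nat_lit 3, nat_lit 2, nat_lit 8, nat_lit 3, nat_lit 2, nat_lit 8, nat_lit 10, nat_lit 1, nat_lit 16, nat_lit 14, nat_lit 8, nat_lit 19, nat_lit 16] (Rl.cmp (nat_lit 2094) (nat_lit 3889)))) (FT.node (nat_lit 3892) (FT.leaf (Fct.mk false (nat_lit 5) (nat_lit 0) (nat_lit 5) [nat_lit 8, nat_lit 3, nat_lit 4, nat_lit 2, nat_lit 3, nat_lit 8, nat_lit 7, nat_lit 5, nat_lit 6, nat_lit 4, nat_lit 5, nat_lit 3, nat_lit 4, nat_lit 2, nat_lit 3, nat_lit 8, nat_lit 0, nat_lit 1, nat_lit 2, nat_lit 3, nat_lit 4, nat_lit 5, nat_lit 6, nat_lit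 7, nat_lit 6, nat_lit 5, nat_lit 3, nat_lit 4, nat_lit 2, nat_lit 3, nat_lit 8, nat_lit 1, nat_lit 2, nat_lit 3, nat_lit 4, nat_lit 5, nat_lit 1, nat_lit 3, nat_lit 2, nat_lit 8, nat_lit 3, nat_lit 9, nat_lit 2, nat_lit 12, nat_lit 15, nat_lit 14, nat_lit 13, nat_lit 19, nat_lit 16] (Rl.cmp (nat_lit 2491) (nat_lit 3890)))) (FT.leaf (Fct.mk true (nat_lit 32) (nat_lit 9705) (nat_lit 5) [nat_lit 4, nat_lit 3, nat_lit 8, nat_lit 7, nat_lit 5, nat_lit 6, nat_lit 4, nat_lit 5, nat_lit 3, nat_lit 4, nat_lit 2, nat_lit 3, nat_lit 8, nat_lit 0, nat_lit 1, nat_lit 2, nat_lit 3, nat_lit 4, nat_lit 5, nat_lit 6, nat_lit 7, nat_lit 5, nat_lit 2, nat_lit 3, nat_lit 4, nat_lit 1, nat_lit 2, nat_lit 3, nat_lit 8, nat_lit 0, nat_lit 1, nat_lit 2, nat_lit 3, nat_lit 4, nat_lit 5, nat_lit 1, nat_lit 2, nat_lit 3, nat_lit 8, nat_lit 4, nat_lit 3, nat_lit 2, nat_lit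 1, nat_lit 9, nat_lit 4, nat_lit 3, nat_lit 2, nat_lit 8, nat_lit 3, nat_lit 0, nat_lit 8, nat_lit 16, nat_lit 14, nat_lit 8] (Rl.rel (nat_lit 0) [nat_lit 3, nat_lit 8, nat_lit 6, nat_lit 7, nat_lit 5, nat_lit 6, nat_lit 4, nat_lit 5, nat_lit 3, nat_lit 4, nat_lit 2, nat_lit 3, nat_lit 8, nat_lit 0, nat_lit 1, nat_lit 2, nat_lit 3, nat_lit 4, nat_lit 5, nat_lit 6, nat_lit 7, nat_lit 6, nat_lit 4, nat_lit 5, nat_lit 3, nat_lit 4, nat_lit 1, nat_lit 2, nat_lit 3, nat_lit 8, nat_lit 0, nat_lit 1, nat_lit 2, nat_lit 3, nat_lit 4, nat_lit 5, nat_lit 1, nat_lit 2, nat_lit 0, nat_lit 1, nat_lit 9, nat_lit 4, nat_lit 3, nat_lit 2, nat_lit 8, nat_lit 3, nat_lit 0, nat_lit 15, nat_lit 14] (nat_lit 5) (nat_lit 2) [nat_lit 3784, nat_lit 3882, nat_lit 3313] [])))))) (FT.node (nat_lit 3896) (FT.node (nat_lit 3894) (FT.leaf (Fct.mk true (nat_lit 32) (nat_lit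 440) (nat_lit 5) [nat_lit 7, nat_lit 5, nat_lit 6, nat_lit 3, nat_lit 4, nat_lit 5, nat_lit 2, nat_lit 3, nat_lit 4, nat_lit 1, nat_lit 2, nat_lit 3, nat_lit 8, nat_lit 0, nat_lit 1, nat_lit 2, nat_lit 3, nat_lit 4, nat_lit 5, nat_lit 6, nat_lit 7, nat_lit 8, nat_lit 5, nat_lit 3, nat_lit 4, nat_lit 1, nat_lit 2, nat_lit 3, nat_lit 8, nat_lit 0, nat_lit 1, nat_lit 2, nat_lit 3, nat_lit 4, nat_lit 5, nat_lit 1, nat_lit 3, nat_lit 2, nat_lit 8, nat_lit 3, nat_lit 0, nat_lit 2, nat_lit 16, nat_lit 15, nat_lit 14, nat_lit 13, nat_lit 12, nat_lit 19, nat_lit 16] (Rl.t1 (nat_lit 3892) (nat_lit 3887)))) (FT.node (nat_lit 3895) (FT.leaf (Fct.mk true (nat_lit 5) (nat_lit 59641) (nat_lit 32) [nat_lit 8, nat_lit 7, nat_lit 6, nat_lit 4, nat_lit 5, nat_lit 3, nat_lit 4, nat_lit 2, nat_lit 3, nat_lit 8, nat_lit 0, nat_lit 1, nat_lit 2, nat_lit 3, nat_lit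 4, nat_lit 5, nat_lit 6, nat_lit 7, nat_lit 3, nat_lit 4, nat_lit 2, nat_lit 3, nat_lit 8, nat_lit 5, nat_lit 6, nat_lit 4, nat_lit 5, nat_lit 3, nat_lit 4, nat_lit 2, nat_lit 3, nat_lit 8, nat_lit 1, nat_lit 2, nat_lit 3, nat_lit 4, nat_lit 5, nat_lit 0, nat_lit 1, nat_lit 2, nat_lit 3, nat_lit 2, nat_lit 8, nat_lit 12, nat_lit 15, nat_lit 14, nat_lit 17, nat_lit 12, nat_lit 19] (Rl.inv (nat_lit 3893)))) (FT.leaf (Fct.mk true (nat_lit 5) (nat_lit 943) (nat_lit 32) [nat_lit 3, nat_lit 8, nat_lit 6, nat_lit 4, nat_lit 5, nat_lit 3, nat_lit 4, nat_lit 1, nat_lit 2, nat_lit 3, nat_lit 8, nat_lit 0, nat_lit 1, nat_lit 2, nat_lit 3, nat_lit 4, nat_lit 5, nat_lit 6, nat_lit 7, nat_lit 3, nat_lit 8, nat_lit 2, nat_lit 3, nat_lit 4, nat_lit 5, nat_lit 3, nat_lit 8, nat_lit 4, nat_lit 3, nat_lit 2, nat_lit 0, nat_lit 1, nat_lit 9, nat_lit 4, nat_lit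 3, nat_lit 2, nat_lit 8, nat_lit 3, nat_lit 1, nat_lit 0, nat_lit 2, nat_lit 8, nat_lit 16, nat_lit 14, nat_lit 8] (Rl.t1 (nat_lit 3894) (nat_lit 3891)))))) (FT.node (nat_lit 3898) (FT.node (nat_lit 3897) (FT.leaf (Fct.mk false (nat_lit 32) (nat_lit 0) (nat_lit 32) [nat_lit 3, nat_lit 8, nat_lit 5, nat_lit 2, nat_lit 3, nat_lit 4, nat_lit 1, nat_lit 2, nat_lit 3, nat_lit 8, nat_lit 6, nat_lit 7, nat_lit 5, nat_lit 6, nat_lit 4, nat_lit 5, nat_lit 3, nat_lit 4, nat_lit 2, nat_lit 3, nat_lit 8, nat_lit 1, nat_lit 2, nat_lit 3, nat_lit 4, nat_lit 5, nat_lit 6, nat_lit 7, nat_lit 8, nat_lit 6, nat_lit 4, nat_lit 5, nat_lit 3, nat_lit 4, nat_lit 2, nat_lit 3, nat_lit 8, nat_lit 1, nat_lit 2, nat_lit 3, nat_lit 4, nat_lit 5, nat_lit 1, nat_lit 4, nat_lit 3, nat_lit 2, nat_lit 0, nat_lit 1, nat_lit 9, nat_lit 4, nat_lit 3, nat_lit 2, nat_lit 8, nat_lit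 3, nat_lit 10, nat_lit 2, nat_lit 8, nat_lit 10, nat_lit 1, nat_lit 16, nat_lit 12, nat_lit 15, nat_lit 14, nat_lit 17, nat_lit 12, nat_lit 18] (Rl.cmp (nat_lit 2995) (nat_lit 3456)))) (FT.leaf (Fct.mk false (nat_lit 32) (nat_lit 0) (nat_lit 32) [nat_lit 1, nat_lit 2, nat_lit 3, nat_lit 8, nat_lit 6, nat_lit 4, nat_lit 5, nat_lit 3, nat_lit 4, nat_lit 2, nat_lit 3, nat_lit 8, nat_lit 1, nat_lit 2, nat_lit 3, nat_lit 4, nat_lit 5, nat_lit 2, nat_lit 1, nat_lit 9, nat_lit 4, nat_lit 3, nat_lit 2, nat_lit 8, nat_lit 3, nat_lit 11, nat_lit 2, nat_lit 10, nat_lit 1, nat_lit 12, nat_lit 8, nat_lit 16, nat_lit 14, nat_lit 17, nat_lit 19] (Rl.cmp (nat_lit 3456) (nat_lit 3896))))) (FT.node (nat_lit 3899) (FT.leaf (Fct.mk false (nat_lit 32) (nat_lit 0) (nat_lit 32) [nat_lit 1, nat_lit 2, nat_lit 3, nat_lit 8, nat_lit 6, nat_lit 4, nat_lit 5, nat_lit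 3, nat_lit 4, nat_lit 2, nat_lit 3, nat_lit 8, nat_lit 1, nat_lit 2, nat_lit 3, nat_lit 4, nat_lit 5, nat_lit 2, nat_lit 1, nat_lit 3, nat_lit 2, nat_lit 0, nat_lit 1, nat_lit 4, nat_lit 3, nat_lit 2, nat_lit 8, nat_lit 3, nat_lit 8, nat_lit 10, nat_lit 1, nat_lit 8, nat_lit 12, nat_lit 15, nat_lit 14, nat_lit 12] (Rl.cmp (nat_lit 3047) (nat_lit 3897)))) (FT.leaf (Fct.mk true (nat_lit 32) (nat_lit 31917) (nat_lit 32) [nat_lit 1, nat_lit 2, nat_lit 3, nat_lit 4, nat_lit 5, nat_lit 6, nat_lit 7, nat_lit 5, nat_lit 4, nat_lit 3, nat_lit 8, nat_lit 2, nat_lit 3, nat_lit 4, nat_lit 5, nat_lit 8, nat_lit 3, nat_lit 2, nat_lit 1, nat_lit 9, nat_lit 4, nat_lit 3, nat_lit 2, nat_lit 8, nat_lit 3, nat_lit 10, nat_lit 1, nat_lit 8, nat_lit 12, nat_lit 15, nat_lit 12] (Rl.rel (nat_lit 0) [nat_lit 3, nat_lit 8, nat_lit 6, nat_lit 7, nat_lit 5, nat_lit 6,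 nat_lit 4, nat_lit 5, nat_lit 3, nat_lit 4, nat_lit 2, nat_lit 3, nat_lit 8, nat_lit 0, nat_lit 1, nat_lit 2, nat_lit 3, nat_lit 4, nat_lit 5, nat_lit 6, nat_lit 7, nat_lit 8, nat_lit 2, nat_lit 3, nat_lit 4, nat_lit 5, nat_lit 1, nat_lit 3, nat_lit 2, nat_lit 0, nat_lit 1, nat_lit 9, nat_lit 4, nat_lit 3, nat_lit 2, nat_lit 8, nat_lit 3, nat_lit 10, nat_lit 0, nat_lit 8, nat_lit 12, nat_lit 15, nat_lit 14, nat_lit 17] (nat_lit 5) (nat_lit 1) [nat_lit 3784] [nat_lit 2924, nat_lit 3163]))))))))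

/-- some facts -/
noncomputable def ftc78 : FT := FT.node (nat_lit 3925) (FT.node (nat_lit 3912) (FT.node (nat_lit 3906) (FT.node (nat_lit 3903) (FT.node (nat_lit 3901) (FT.leaf (Fct.mk true (nat_lit 32) (nat_lit 3134) (nat_lit 32) [nat_lit 3, nat_lit 4, nat_lit 1, nat_lit 2, nat_lit 3, nat_lit 8, nat_lit 0, nat_lit 1, nat_lit 2, nat_lit 3, nat_lit 4, nat_lit 5, nat_lit 6, nat_lit 7, nat_lit 3, nat_lit 4, nat_lit 5, nat_lit 2, nat_lit 1, nat_lit 9, nat_lit 4, nat_lit 3, nat_lit 2, nat_lit 8, nat_lit 3, nat_lit 2, nat_lit 10, nat_lit 1, nat_lit 12, nat_lit 15, nat_lit 14] (Rl.t1 (nat_lit 3899) (nat_lit 3898)))) (FT.node (nat_lit 3902) (FT.leaf (Fct.mk false (nat_lit 32) (nat_lit 0) (nat_lit 32) [nat_lit 8, nat_lit 1, nat_lit 2, nat_lit 3, nat_lit 4, nat_lit 5, nat_lit 3, nat_lit 2, nat_lit 0, nat_lit 1, nat_lit 9, nat_lit 4, nat_lit 3, nat_lit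 2, nat_lit 8, nat_lit 3, nat_lit 8, nat_lit 10, nat_lit 0, nat_lit 16, nat_lit 14, nat_lit 13, nat_lit 12, nat_lit 19] (Rl.cmp (nat_lit 3004) (nat_lit 3047)))) (FT.leaf (Fct.mk false (nat_lit 32) (nat_lit 0) (nat_lit 32) [nat_lit 2, nat_lit 3, nat_lit 8, nat_lit 6, nat_lit 4, nat_lit 5, nat_lit 3, nat_lit 4, nat_lit 2, nat_lit 3, nat_lit 8, nat_lit 1, nat_lit 2, nat_lit 3, nat_lit 4, nat_lit 5, nat_lit 2, nat_lit 1, nat_lit 3, nat_lit 2, nat_lit 0, nat_lit 1, nat_lit 4, nat_lit 3, nat_lit 2, nat_lit 8, nat_lit 3, nat_lit 11, nat_lit 1, nat_lit 15, nat_lit 13, nat_lit 19, nat_lit 16] (Rl.cmp (nat_lit 3004) (nat_lit 3901)))))) (FT.node (nat_lit 3904) (FT.leaf (Fct.mk false (nat_lit 32) (nat_lit 0) (nat_lit 32) [nat_lit 5, nat_lit 6, nat_lit 4, nat_lit 5, nat_lit 3, nat_lit 4, nat_lit 2, nat_lit 3, nat_lit 8, nat_lit 1, nat_lit 2, nat_lit 3, nat_lit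 4, nat_lit 5, nat_lit 1, nat_lit 8, nat_lit 3, nat_lit 2, nat_lit 0, nat_lit 1, nat_lit 9, nat_lit 4, nat_lit 3, nat_lit 2, nat_lit 8, nat_lit 3, nat_lit 0, nat_lit 15, nat_lit 14, nat_lit 13, nat_lit 19, nat_lit 16] (Rl.cmp (nat_lit 3010) (nat_lit 3902)))) (FT.node (nat_lit 3905) (FT.leaf (Fct.mk false (nat_lit 32) (nat_lit 0) (nat_lit 32) [nat_lit 5, nat_lit 4, nat_lit 2, nat_lit 3, nat_lit 8, nat_lit 0, nat_lit 1, nat_lit 2, nat_lit 3, nat_lit 4, nat_lit 5, nat_lit 1, nat_lit 2, nat_lit 0, nat_lit 1, nat_lit 4, nat_lit 3, nat_lit 2, nat_lit 8, nat_lit 3, nat_lit 11, nat_lit 13, nat_lit 12, nat_lit 19, nat_lit 16] (Rl.cmp (nat_lit 3047) (nat_lit 3903)))) (FT.leaf (Fct.mk false (nat_lit 32) (nat_lit 0) (nat_lit 32) [nat_lit 3, nat_lit 8, nat_lit 6, nat_lit 4, nat_lit 5, nat_lit 3, nat_lit 4, nat_lit 2, nat_lit 3, nat_lit 8, nat_lit 1, nat_lit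 2, nat_lit 3, nat_lit 4, nat_lit 5, nat_lit 1, nat_lit 8, nat_lit 4, nat_lit 3, nat_lit 2, nat_lit 0, nat_lit 1, nat_lit 9, nat_lit 4, nat_lit 3, nat_lit 2, nat_lit 8, nat_lit 3, nat_lit 11, nat_lit 2, nat_lit 10, nat_lit 1, nat_lit 16, nat_lit 14, nat_lit 18, nat_lit 16] (Rl.cmp (nat_lit 3047) (nat_lit 3004))))))) (FT.node (nat_lit 3909) (FT.node (nat_lit 3907) (FT.leaf (Fct.mk false (nat_lit 32) (nat_lit 0) (nat_lit 32) [nat_lit 3, nat_lit 8, nat_lit 5, nat_lit 2, nat_lit 3, nat_lit 4, nat_lit 1, nat_lit 2, nat_lit 3, nat_lit 8, nat_lit 6, nat_lit 7, nat_lit 5, nat_lit 6, nat_lit 4, nat_lit 5, nat_lit 3, nat_lit 4, nat_lit 2, nat_lit 3, nat_lit 8, nat_lit 1, nat_lit 2, nat_lit 3, nat_lit 4, nat_lit 5, nat_lit 6, nat_lit 7, nat_lit 8, nat_lit 0, nat_lit 1, nat_lit 2, nat_lit 3, nat_lit 4, nat_lit 5, nat_lit 1, nat_lit 2, nat_lit 3, nat_lit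 0, nat_lit 2, nat_lit 15, nat_lit 14, nat_lit 13, nat_lit 12, nat_lit 16] (Rl.cmp (nat_lit 3456) (nat_lit 3004)))) (FT.node (nat_lit 3908) (FT.leaf (Fct.mk false (nat_lit 32) (nat_lit 0) (nat_lit 32) [nat_lit 3, nat_lit 8, nat_lit 5, nat_lit 2, nat_lit 3, nat_lit 4, nat_lit 1, nat_lit 2, nat_lit 3, nat_lit 8, nat_lit 6, nat_lit 7, nat_lit 5, nat_lit 6, nat_lit 4, nat_lit 5, nat_lit 3, nat_lit 4, nat_lit 2, nat_lit 3, nat_lit 8, nat_lit 1, nat_lit 2, nat_lit 3, nat_lit 4, nat_lit 5, nat_lit 6, nat_lit 7, nat_lit 3, nat_lit 4, nat_lit 2, nat_lit 3, nat_lit 8, nat_lit 5, nat_lit 6, nat_lit 4, nat_lit 5, nat_lit 3, nat_lit 4, nat_lit 2, nat_lit 3, nat_lit 8, nat_lit 0, nat_lit 1, nat_lit 2, nat_lit 3, nat_lit 4, nat_lit 5, nat_lit 8, nat_lit 3, nat_lit 2, nat_lit 1, nat_lit 4, nat_lit 3, nat_lit 2, nat_lit 8, nat_lit 3, nat_lit 11, nat_lit 8, nat_lit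 10, nat_lit 1, nat_lit 12, nat_lit 15, nat_lit 17, nat_lit 12, nat_lit 19, nat_lit 16] (Rl.cmp (nat_lit 2995) (nat_lit 3906)))) (FT.leaf (Fct.mk false (nat_lit 32) (nat_lit 0) (nat_lit 32) [nat_lit 3, nat_lit 8, nat_lit 5, nat_lit 2, nat_lit 3, nat_lit 4, nat_lit 1, nat_lit 2, nat_lit 3, nat_lit 8, nat_lit 6, nat_lit 7, nat_lit 5, nat_lit 6, nat_lit 4, nat_lit 5, nat_lit 3, nat_lit 4, nat_lit 2, nat_lit 3, nat_lit 8, nat_lit 1, nat_lit 2, nat_lit 3, nat_lit 4, nat_lit 5, nat_lit 6, nat_lit 7, nat_lit 2, nat_lit 3, nat_lit 8, nat_lit 6, nat_lit 4, nat_lit 5, nat_lit 3, nat_lit 4, nat_lit 2, nat_lit 3, nat_lit 8, nat_lit 0, nat_lit 1, nat_lit 2, nat_lit 3, nat_lit 4, nat_lit 5, nat_lit 1, nat_lit 2, nat_lit 3, nat_lit 11, nat_lit 10, nat_lit 1, nat_lit 12, nat_lit 15, nat_lit 14, nat_lit 8, nat_lit 18] (Rl.cmp (nat_lit 3047) (nat_lit 3907))))))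 (FT.node (nat_lit 3910) (FT.leaf (Fct.mk false (nat_lit 32) (nat_lit 0) (nat_lit 32) [nat_lit 3, nat_lit 8, nat_lit 5, nat_lit 2, nat_lit 3, nat_lit 4, nat_lit 1, nat_lit 2, nat_lit 3, nat_lit 8, nat_lit 6, nat_lit 7, nat_lit 5, nat_lit 6, nat_lit 4, nat_lit 5, nat_lit 3, nat_lit 4, nat_lit 2, nat_lit 3, nat_lit 8, nat_lit 1, nat_lit 2, nat_lit 3, nat_lit 4, nat_lit 5, nat_lit 6, nat_lit 7, nat_lit 4, nat_lit 5, nat_lit 3, nat_lit 4, nat_lit 2, nat_lit 3, nat_lit 8, nat_lit 1, nat_lit 2, nat_lit 3, nat_lit 4, nat_lit 5, nat_lit 2, nat_lit 3, nat_lit 8, nat_lit 4, nat_lit 3, nat_lit 2, nat_lit 1, nat_lit 9, nat_lit 4, nat_lit 3, nat_lit 2, nat_lit 8, nat_lit 3, nat_lit 11, nat_lit 2, nat_lit 14, nat_lit 17, nat_lit 12, nat_lit 19, nat_lit 16] (Rl.cmp (nat_lit 3004) (nat_lit 3908)))) (FT.node (nat_lit 3911) (FT.leaf (Fct.mk false (nat_lit 32)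 (nat_lit 0) (nat_lit 32) [nat_lit 6, nat_lit 5, nat_lit 4, nat_lit 3, nat_lit 8, nat_lit 2, nat_lit 3, nat_lit 4, nat_lit 5, nat_lit 2, nat_lit 1, nat_lit 4, nat_lit 3, nat_lit 2, nat_lit 8, nat_lit 3, nat_lit 10, nat_lit 2, nat_lit 8, nat_lit 10, nat_lit 1, nat_lit 14] (Rl.cmp (nat_lit 3456) (nat_lit 3909)))) (FT.leaf (Fct.mk false (nat_lit 5) (nat_lit 0) (nat_lit 5) [nat_lit 8, nat_lit 3, nat_lit 4, nat_lit 2, nat_lit 3, nat_lit 8, nat_lit 7, nat_lit 5, nat_lit 6, nat_lit 4, nat_lit 5, nat_lit 3, nat_lit 4, nat_lit 2, nat_lit 3, nat_lit 8, nat_lit 0, nat_lit 1, nat_lit 2, nat_lit 3, nat_lit 4, nat_lit 5, nat_lit 6, nat_lit 7, nat_lit 6, nat_lit 5, nat_lit 4, nat_lit 3, nat_lit 8, nat_lit 2, nat_lit 3, nat_lit 4, nat_lit 5, nat_lit 1, nat_lit 9, nat_lit 4, nat_lit 3, nat_lit 2, nat_lit 8, nat_lit 3, nat_lit 11, nat_lit 2, nat_lit 16, nat_lit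 15, nat_lit 14, nat_lit 16, nat_lit 8, nat_lit 18, nat_lit 16] (Rl.cmp (nat_lit 2491) (nat_lit 2954)))))))) (FT.node (nat_lit 3918) (FT.node (nat_lit 3915) (FT.node (nat_lit 3913) (FT.leaf (Fct.mk false (nat_lit 5) (nat_lit 0) (nat_lit 5) [nat_lit 8, nat_lit 4, nat_lit 5, nat_lit 2, nat_lit 3, nat_lit 4, nat_lit 1, nat_lit 2, nat_lit 3, nat_lit 8, nat_lit 6, nat_lit 7, nat_lit 5, nat_lit 6, nat_lit 4, nat_lit 5, nat_lit 3, nat_lit 4, nat_lit 2, nat_lit 3, nat_lit 8, nat_lit 1, nat_lit 2, nat_lit 3, nat_lit 4, nat_lit 5, nat_lit 6, nat_lit 7, nat_lit 0, nat_lit 1, nat_lit 2, nat_lit 3, nat_lit 4, nat_lit 5, nat_lit 9, nat_lit 4, nat_lit 2, nat_lit 16, nat_lit 15, nat_lit 14, nat_lit 13, nat_lit 12] (Rl.cmp (nat_lit 2491) (nat_lit 3911)))) (FT.node (nat_lit 3914) (FT.leaf (Fct.mk false (nat_lit 5) (nat_lit 0) (nat_lit 5) [nat_lit 4, nat_lit 3,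 nat_lit 8, nat_lit 2, nat_lit 3, nat_lit 4, nat_lit 1, nat_lit 2, nat_lit 3, nat_lit 8, nat_lit 6, nat_lit 7, nat_lit 5, nat_lit 6, nat_lit 4, nat_lit 5, nat_lit 3, nat_lit 4, nat_lit 2, nat_lit 3, nat_lit 8, nat_lit 1, nat_lit 2, nat_lit 3, nat_lit 4, nat_lit 5, nat_lit 6, nat_lit 7, nat_lit 3, nat_lit 8, nat_lit 4, nat_lit 5, nat_lit 3, nat_lit 4, nat_lit 2, nat_lit 3, nat_lit 8, nat_lit 1, nat_lit 2, nat_lit 3, nat_lit 4, nat_lit 5, nat_lit 3, nat_lit 2, nat_lit 1, nat_lit 4, nat_lit 3, nat_lit 2, nat_lit 8, nat_lit 3, nat_lit 8, nat_lit 10, nat_lit 0, nat_lit 15, nat_lit 14, nat_lit 18] (Rl.cmp (nat_lit 2491) (nat_lit 3912)))) (FT.leaf (Fct.mk true (nat_lit 32) (nat_lit 41) (nat_lit 5) [nat_lit 3, nat_lit 8, nat_lit 2, nat_lit 3, nat_lit 4, nat_lit 1, nat_lit 2, nat_lit 3, nat_lit 8, nat_lit 6, nat_lit 7, nat_lit 5, nat_lit 6, nat_lit 4,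 nat_lit 5, nat_lit 3, nat_lit 4, nat_lit 2, nat_lit 3, nat_lit 8, nat_lit 1, nat_lit 2, nat_lit 3, nat_lit 4, nat_lit 5, nat_lit 6, nat_lit 7, nat_lit 8, nat_lit 4, nat_lit 5, nat_lit 3, nat_lit 4, nat_lit 1, nat_lit 2, nat_lit 3, nat_lit 8, nat_lit 0, nat_lit 1, nat_lit 2, nat_lit 3, nat_lit 4, nat_lit 5, nat_lit 8, nat_lit 3, nat_lit 2, nat_lit 1, nat_lit 9, nat_lit 4, nat_lit 3, nat_lit 2, nat_lit 8, nat_lit 3, nat_lit 8, nat_lit 10, nat_lit 9, nat_lit 2, nat_lit 12, nat_lit 15, nat_lit 14, nat_lit 12, nat_lit 18, nat_lit 16] (Rl.rel (nat_lit 0) [nat_lit 3, nat_lit 8, nat_lit 6, nat_lit 7, nat_lit 5, nat_lit 6, nat_lit 4, nat_lit 5, nat_lit 3, nat_lit 4, nat_lit 2, nat_lit 3, nat_lit 8, nat_lit 0, nat_lit 1, nat_lit 2, nat_lit 3, nat_lit 4, nat_lit 5, nat_lit 6, nat_lit 7, nat_lit 6, nat_lit 5, nat_lit 4, nat_lit 3, nat_lit 8, nat_lit 0,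 nat_lit 1, nat_lit 2, nat_lit 3, nat_lit 4, nat_lit 5, nat_lit 3, nat_lit 8, nat_lit 10, nat_lit 1, nat_lit 12, nat_lit 15, nat_lit 14, nat_lit 17, nat_lit 18] (nat_lit 5) (nat_lit 2) [nat_lit 3784, nat_lit 3910, nat_lit 3331] []))))) (FT.node (nat_lit 3916) (FT.leaf (Fct.mk true (nat_lit 32) (nat_lit 25) (nat_lit 5) [nat_lit 4, nat_lit 3, nat_lit 8, nat_lit 2, nat_lit 3, nat_lit 4, nat_lit 1, nat_lit 2, nat_lit 3, nat_lit 8, nat_lit 6, nat_lit 7, nat_lit 5, nat_lit 6, nat_lit 4, nat_lit 5, nat_lit 3, nat_lit 4, nat_lit 2, nat_lit 3, nat_lit 8, nat_lit 1, nat_lit 2, nat_lit 3, nat_lit 4, nat_lit 5, nat_lit 6, nat_lit 7, nat_lit 8, nat_lit 4, nat_lit 5, nat_lit 3, nat_lit 4, nat_lit 1, nat_lit 2, nat_lit 3, nat_lit 8, nat_lit 0, nat_lit 1, nat_lit 2, nat_lit 3, nat_lit 4, nat_lit 5, nat_lit 8, nat_lit 3, nat_lit 2, nat_lit 1, nat_lit 9, nat_lit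 4, nat_lit 3, nat_lit 2, nat_lit 8, nat_lit 3, nat_lit 8, nat_lit 10, nat_lit 9, nat_lit 2, nat_lit 12, nat_lit 15, nat_lit 14, nat_lit 12, nat_lit 18, nat_lit 16] (Rl.t1 (nat_lit 3914) (nat_lit 2995)))) (FT.node (nat_lit 3917) (FT.leaf (Fct.mk true (nat_lit 5) (nat_lit 100419) (nat_lit 32) [nat_lit 4, nat_lit 3, nat_lit 8, nat_lit 2, nat_lit 3, nat_lit 4, nat_lit 1, nat_lit 2, nat_lit 3, nat_lit 8, nat_lit 6, nat_lit 7, nat_lit 5, nat_lit 6, nat_lit 4, nat_lit 5, nat_lit 3, nat_lit 4, nat_lit 2, nat_lit 3, nat_lit 8, nat_lit 1, nat_lit 2, nat_lit 3, nat_lit 4, nat_lit 5, nat_lit 6, nat_lit 7, nat_lit 3, nat_lit 8, nat_lit 4, nat_lit 5, nat_lit 3, nat_lit 4, nat_lit 1, nat_lit 2, nat_lit 3, nat_lit 8, nat_lit 0, nat_lit 1, nat_lit 2, nat_lit 3, nat_lit 4, nat_lit 5, nat_lit 3, nat_lit 1, nat_lit 9, nat_lit 17, nat_lit 12, nat_lit 16] (Rl.inv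 (nat_lit 3915)))) (FT.leaf (Fct.mk true (nat_lit 5) (nat_lit 124) (nat_lit 32) [nat_lit 3, nat_lit 8, nat_lit 2, nat_lit 3, nat_lit 4, nat_lit 1, nat_lit 2, nat_lit 3, nat_lit 8, nat_lit 0, nat_lit 1, nat_lit 2, nat_lit 3, nat_lit 4, nat_lit 5, nat_lit 2, nat_lit 1, nat_lit 3, nat_lit 2, nat_lit 8, nat_lit 3, nat_lit 11, nat_lit 10, nat_lit 1, nat_lit 15, nat_lit 14, nat_lit 16, nat_lit 8, nat_lit 19] (Rl.t1 (nat_lit 3916) (nat_lit 3913))))))) (FT.node (nat_lit 3921) (FT.node (nat_lit 3919) (FT.leaf (Fct.mk false (nat_lit 32) (nat_lit 0) (nat_lit 32) [nat_lit 5, nat_lit 4, nat_lit 3, nat_lit 8, nat_lit 0, nat_lit 1, nat_lit 2, nat_lit 3, nat_lit 4, nat_lit 5, nat_lit 2, nat_lit 0, nat_lit 1, nat_lit 4, nat_lit 3, nat_lit 2, nat_lit 8, nat_lit 3, nat_lit 10, nat_lit 2, nat_lit 8, nat_lit 10, nat_lit 1, nat_lit 16, nat_lit 15, nat_lit 14, nat_lit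 16, nat_lit 8] (Rl.cmp (nat_lit 3004) (nat_lit 3004)))) (FT.node (nat_lit 3920) (FT.leaf (Fct.mk false (nat_lit 32) (nat_lit 0) (nat_lit 32) [nat_lit 3, nat_lit 8, nat_lit 5, nat_lit 2, nat_lit 3, nat_lit 4, nat_lit 1, nat_lit 2, nat_lit 3, nat_lit 8, nat_lit 6, nat_lit 7, nat_lit 5, nat_lit 6, nat_lit 4, nat_lit 5, nat_lit 3, nat_lit 4, nat_lit 2, nat_lit 3, nat_lit 8, nat_lit 1, nat_lit 2, nat_lit 3, nat_lit 4, nat_lit 5, nat_lit 6, nat_lit 7, nat_lit 4, nat_lit 2, nat_lit 3, nat_lit 8, nat_lit 5, nat_lit 6, nat_lit 4, nat_lit 5, nat_lit 3, nat_lit 4, nat_lit 2, nat_lit 3, nat_lit 8, nat_lit 1, nat_lit 2, nat_lit 3, nat_lit 4, nat_lit 5, nat_lit 3, nat_lit 2, nat_lit 0, nat_lit 1, nat_lit 9, nat_lit 4, nat_lit 3, nat_lit 2, nat_lit 8, nat_lit 3, nat_lit 1, nat_lit 9, nat_lit 8, nat_lit 16, nat_lit 15, nat_lit 14, nat_lit 13, nat_lit 16] (Rl.cmp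 (nat_lit 3456) (nat_lit 3918)))) (FT.leaf (Fct.mk false (nat_lit 32) (nat_lit 0) (nat_lit 32) [nat_lit 3, nat_lit 8, nat_lit 5, nat_lit 2, nat_lit 3, nat_lit 4, nat_lit 1, nat_lit 2, nat_lit 3, nat_lit 8, nat_lit 6, nat_lit 7, nat_lit 5, nat_lit 6, nat_lit 4, nat_lit 5, nat_lit 3, nat_lit 4, nat_lit 2, nat_lit 3, nat_lit 8, nat_lit 1, nat_lit 2, nat_lit 3, nat_lit 4, nat_lit 5, nat_lit 6, nat_lit 7, nat_lit 3, nat_lit 8, nat_lit 1, nat_lit 2, nat_lit 3, nat_lit 4, nat_lit 5, nat_lit 1, nat_lit 3, nat_lit 2, nat_lit 0, nat_lit 1, nat_lit 4, nat_lit 3, nat_lit 2, nat_lit 8, nat_lit 3, nat_lit 10, nat_lit 0, nat_lit 16, nat_lit 8, nat_lit 12, nat_lit 15, nat_lit 17, nat_lit 18, nat_lit 16] (Rl.cmp (nat_lit 2995) (nat_lit 3919)))))) (FT.node (nat_lit 3923) (FT.node (nat_lit 3922) (FT.leaf (Fct.mk false (nat_lit 32) (nat_lit 0) (nat_lit 32) [nat_lit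 3, nat_lit 8, nat_lit 5, nat_lit 2, nat_lit 3, nat_lit 4, nat_lit 1, nat_lit 2, nat_lit 3, nat_lit 8, nat_lit 6, nat_lit 7, nat_lit 5, nat_lit 6, nat_lit 4, nat_lit 5, nat_lit 3, nat_lit 4, nat_lit 2, nat_lit 3, nat_lit 8, nat_lit 1, nat_lit 2, nat_lit 3, nat_lit 4, nat_lit 5, nat_lit 6, nat_lit 7, nat_lit 3, nat_lit 8, nat_lit 5, nat_lit 6, nat_lit 4, nat_lit 5, nat_lit 3, nat_lit 4, nat_lit 2, nat_lit 3, nat_lit 8, nat_lit 0, nat_lit 1, nat_lit 2, nat_lit 3, nat_lit 4, nat_lit 5, nat_lit 1, nat_lit 2, nat_lit 0, nat_lit 1, nat_lit 9, nat_lit 4, nat_lit 3, nat_lit 2, nat_lit 8, nat_lit 3, nat_lit 11, nat_lit 8, nat_lit 10, nat_lit 15, nat_lit 16, nat_lit 8, nat_lit 16] (Rl.cmp (nat_lit 3004) (nat_lit 3920)))) (FT.leaf (Fct.mk false (nat_lit 32) (nat_lit 0) (nat_lit 32) [nat_lit 3, nat_lit 8, nat_lit 5, nat_lit 2, nat_lit 3, nat_lit 4, nat_lit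 1, nat_lit 2, nat_lit 3, nat_lit 8, nat_lit 6, nat_lit 7, nat_lit 5, nat_lit 6, nat_lit 4, nat_lit 5, nat_lit 3, nat_lit 4, nat_lit 2, nat_lit 3, nat_lit 8, nat_lit 1, nat_lit 2, nat_lit 3, nat_lit 4, nat_lit 5, nat_lit 6, nat_lit 7, nat_lit 4, nat_lit 3, nat_lit 8, nat_lit 0, nat_lit 1, nat_lit 2, nat_lit 3, nat_lit 4, nat_lit 5, nat_lit 8, nat_lit 4, nat_lit 3, nat_lit 2, nat_lit 1, nat_lit 9, nat_lit 4, nat_lit 3, nat_lit 2, nat_lit 8, nat_lit 3, nat_lit 11, nat_lit 15, nat_lit 17, nat_lit 12, nat_lit 19] (Rl.cmp (nat_lit 3004) (nat_lit 3921))))) (FT.node (nat_lit 3924) (FT.leaf (Fct.mk false (nat_lit 5) (nat_lit 0) (nat_lit 5) [nat_lit 6, nat_lit 1, nat_lit 12, nat_lit 15, nat_lit 12] (Rl.cmp (nat_lit 1859) (nat_lit 470)))) (FT.leaf (Fct.mk false (nat_lit 32) (nat_lit 0) (nat_lit 32) [nat_lit 3, nat_lit 8, nat_lit 5, nat_lit 2, nat_lit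 3, nat_lit 4, nat_lit 1, nat_lit 2, nat_lit 3, nat_lit 8, nat_lit 6, nat_lit 7, nat_lit 5, nat_lit 6, nat_lit 4, nat_lit 5, nat_lit 3, nat_lit 4, nat_lit 2, nat_lit 3, nat_lit 8, nat_lit 1, nat_lit 2, nat_lit 3, nat_lit 4, nat_lit 5, nat_lit 6, nat_lit 7, nat_lit 5, nat_lit 3, nat_lit 4, nat_lit 2, nat_lit 3, nat_lit 8, nat_lit 1, nat_lit 2, nat_lit 3, nat_lit 4, nat_lit 5, nat_lit 0, nat_lit 1, nat_lit 4, nat_lit 3, nat_lit 2, nat_lit 8, nat_lit 3, nat_lit 10, nat_lit 2, nat_lit 8, nat_lit 10, nat_lit 1, nat_lit 14, nat_lit 17, nat_lit 18] (Rl.cmp (nat_lit 3456) (nat_lit 2995))))))))) (FT.node (nat_lit 3937) (FT.node (nat_lit 3931) (FT.node (nat_lit 3928) (FT.node (nat_lit 3926) (FT.leaf (Fct.mk false (nat_lit 32) (nat_lit 0) (nat_lit 32) [nat_lit 3, nat_lit 8, nat_lit 5, nat_lit 2, nat_lit 3, nat_lit 4, nat_lit 1, nat_lit 2, nat_lit 3, nat_lit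 8, nat_lit 6, nat_lit 7, nat_lit 5, nat_lit 6, nat_lit 4, nat_lit 5, nat_lit 3, nat_lit 4, nat_lit 2, nat_lit 3, nat_lit 8, nat_lit 1, nat_lit 2, nat_lit 3, nat_lit 4, nat_lit 5, nat_lit 6, nat_lit 7, nat_lit 1, nat_lit 2, nat_lit 3, nat_lit 4, nat_lit 5, nat_lit 3, nat_lit 8, nat_lit 4, nat_lit 3, nat_lit 2, nat_lit 1, nat_lit 9, nat_lit 4, nat_lit 3, nat_lit 2, nat_lit 8, nat_lit 3, nat_lit 11, nat_lit 2, nat_lit 8, nat_lit 10, nat_lit 1, nat_lit 8, nat_lit 12, nat_lit 15, nat_lit 14, nat_lit 17, nat_lit 19] (Rl.cmp (nat_lit 3004) (nat_lit 3924)))) (FT.node (nat_lit 3927) (FT.leaf (Fct.mk false (nat_lit 32) (nat_lit 0) (nat_lit 32) [nat_lit 3, nat_lit 8, nat_lit 5, nat_lit 2, nat_lit 3, nat_lit 4, nat_lit 1, nat_lit 2, nat_lit 3, nat_lit 8, nat_lit 6, nat_lit 7, nat_lit 5, nat_lit 6, nat_lit 4, nat_lit 5, nat_lit 3, nat_lit 4, nat_lit 2,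 nat_lit 3, nat_lit 8, nat_lit 1, nat_lit 2, nat_lit 3, nat_lit 4, nat_lit 5, nat_lit 6, nat_lit 7, nat_lit 4, nat_lit 2, nat_lit 3, nat_lit 8, nat_lit 5, nat_lit 6, nat_lit 4, nat_lit 5, nat_lit 3, nat_lit 4, nat_lit 2, nat_lit 3, nat_lit 8, nat_lit 1, nat_lit 2, nat_lit 3, nat_lit 4, nat_lit 5, nat_lit 1, nat_lit 2, nat_lit 3, nat_lit 1, nat_lit 0, nat_lit 2, nat_lit 16, nat_lit 14, nat_lit 17, nat_lit 18] (Rl.cmp (nat_lit 3010) (nat_lit 3925)))) (FT.leaf (Fct.mk false (nat_lit 32) (nat_lit 0) (nat_lit 32) [nat_lit 3, nat_lit 8, nat_lit 5, nat_lit 2, nat_lit 3, nat_lit 4, nat_lit 1, nat_lit 2, nat_lit 3, nat_lit 8, nat_lit 6, nat_lit 7, nat_lit 5, nat_lit 6, nat_lit 4, nat_lit 5, nat_lit 3, nat_lit 4, nat_lit 2, nat_lit 3, nat_lit 8, nat_lit 1, nat_lit 2, nat_lit 3, nat_lit 4, nat_lit 5, nat_lit 6, nat_lit 7, nat_lit 6, nat_lit 5, nat_lit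 4, nat_lit 3, nat_lit 8, nat_lit 1, nat_lit 2, nat_lit 3, nat_lit 4, nat_lit 5, nat_lit 2, nat_lit 3, nat_lit 8, nat_lit 4, nat_lit 3, nat_lit 2, nat_lit 1, nat_lit 9, nat_lit 4, nat_lit 3, nat_lit 2, nat_lit 8, nat_lit 3, nat_lit 11, nat_lit 10, nat_lit 2, nat_lit 8, nat_lit 10, nat_lit 1, nat_lit 15, nat_lit 14, nat_lit 13] (Rl.cmp (nat_lit 3010) (nat_lit 3926)))))) (FT.node (nat_lit 3929) (FT.leaf (Fct.mk true (nat_lit 32) (nat_lit 4738) (nat_lit 32) [nat_lit 4, nat_lit 3, nat_lit 8, nat_lit 5, nat_lit 6, nat_lit 4, nat_lit 5, nat_lit 3, nat_lit 4, nat_lit 2, nat_lit 3, nat_lit 8, nat_lit 1, nat_lit 2, nat_lit 3, nat_lit 4, nat_lit 5, nat_lit 6, nat_lit 7, nat_lit 3, nat_lit 4, nat_lit 2, nat_lit 3, nat_lit 8, nat_lit 5, nat_lit 6, nat_lit 4, nat_lit 5, nat_lit 3, nat_lit 4, nat_lit 2, nat_lit 3, nat_lit 8, nat_lit 1, nat_lit 2, nat_lit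 3, nat_lit 4, nat_lit 5, nat_lit 9, nat_lit 4, nat_lit 3, nat_lit 2, nat_lit 8, nat_lit 3, nat_lit 1, nat_lit 16, nat_lit 14, nat_lit 8, nat_lit 19] (Rl.rel (nat_lit 0) [nat_lit 3, nat_lit 4, nat_lit 2, nat_lit 3, nat_lit 8, nat_lit 1, nat_lit 2, nat_lit 3, nat_lit 4, nat_lit 5, nat_lit 6, nat_lit 7, nat_lit 3, nat_lit 8, nat_lit 5, nat_lit 2, nat_lit 3, nat_lit 4, nat_lit 1, nat_lit 2, nat_lit 3, nat_lit 8, nat_lit 0, nat_lit 1, nat_lit 2, nat_lit 3, nat_lit 4, nat_lit 5, nat_lit 2, nat_lit 1, nat_lit 3, nat_lit 2, nat_lit 0, nat_lit 1, nat_lit 4, nat_lit 3, nat_lit 2, nat_lit 8, nat_lit 3, nat_lit 0, nat_lit 15, nat_lit 14, nat_lit 8] (nat_lit 5) (nat_lit 1) [nat_lit 3784] [nat_lit 3923, nat_lit 3895]))) (FT.node (nat_lit 3930) (FT.leaf (Fct.mk true (nat_lit 32) (nat_lit 404) (nat_lit 32) [nat_lit 4, nat_lit 5, nat_lit 6, nat_lit 7, nat_lit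 0, nat_lit 1, nat_lit 2, nat_lit 3, nat_lit 4, nat_lit 5, nat_lit 8, nat_lit 4, nat_lit 3, nat_lit 2, nat_lit 1, nat_lit 9, nat_lit 4, nat_lit 3, nat_lit 2, nat_lit 8, nat_lit 3, nat_lit 8, nat_lit 10, nat_lit 0, nat_lit 13, nat_lit 19, nat_lit 16] (Rl.t1 (nat_lit 3928) (nat_lit 3922)))) (FT.leaf (Fct.mk true (nat_lit 32) (nat_lit 72926) (nat_lit 32) [nat_lit 3, nat_lit 8, nat_lit 2, nat_lit 3, nat_lit 4, nat_lit 5, nat_lit 6, nat_lit 7, nat_lit 8, nat_lit 5, nat_lit 2, nat_lit 3, nat_lit 4, nat_lit 1, nat_lit 2, nat_lit 3, nat_lit 8, nat_lit 0, nat_lit 1, nat_lit 2, nat_lit 3, nat_lit 4, nat_lit 5, nat_lit 9, nat_lit 4, nat_lit 11, nat_lit 1, nat_lit 16, nat_lit 12, nat_lit 15, nat_lit 14, nat_lit 13, nat_lit 16] (Rl.inv (nat_lit 3929))))))) (FT.node (nat_lit 3934) (FT.node (nat_lit 3932) (FT.leaf (Fct.mk true (nat_lit 32) (nat_lit 291) (nat_lit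 32) [nat_lit 2, nat_lit 3, nat_lit 8, nat_lit 0, nat_lit 1, nat_lit 2, nat_lit 3, nat_lit 4, nat_lit 5, nat_lit 6, nat_lit 7, nat_lit 8, nat_lit 5, nat_lit 2, nat_lit 3, nat_lit 4, nat_lit 1, nat_lit 2, nat_lit 3, nat_lit 8, nat_lit 0, nat_lit 1, nat_lit 2, nat_lit 3, nat_lit 4, nat_lit 5, nat_lit 3, nat_lit 8, nat_lit 4, nat_lit 3, nat_lit 2, nat_lit 0, nat_lit 1, nat_lit 9, nat_lit 4, nat_lit 3, nat_lit 2, nat_lit 8, nat_lit 3, nat_lit 8, nat_lit 10, nat_lit 1, nat_lit 16, nat_lit 12, nat_lit 15, nat_lit 14, nat_lit 17, nat_lit 12, nat_lit 19] (Rl.t1 (nat_lit 3930) (nat_lit 3927)))) (FT.node (nat_lit 3933) (FT.leaf (Fct.mk false (nat_lit 32) (nat_lit 0) (nat_lit 32) [nat_lit 3, nat_lit 8, nat_lit 5, nat_lit 2, nat_lit 3, nat_lit 4, nat_lit 1, nat_lit 2, nat_lit 3, nat_lit 8, nat_lit 6, nat_lit 7, nat_lit 5, nat_lit 6, nat_lit 4, nat_lit 5,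 nat_lit 3, nat_lit 4, nat_lit 2, nat_lit 3, nat_lit 8, nat_lit 1, nat_lit 2, nat_lit 3, nat_lit 4, nat_lit 5, nat_lit 6, nat_lit 7, nat_lit 8, nat_lit 0, nat_lit 1, nat_lit 2, nat_lit 3, nat_lit 4, nat_lit 5, nat_lit 1, nat_lit 2, nat_lit 3, nat_lit 0, nat_lit 2, nat_lit 15, nat_lit 14, nat_lit 13, nat_lit 12, nat_lit 16] (Rl.cmp (nat_lit 3456) (nat_lit 3004)))) (FT.leaf (Fct.mk true (nat_lit 32) (nat_lit 2305) (nat_lit 32) [] (Rl.rel (nat_lit 0) [nat_lit 3, nat_lit 8, nat_lit 7, nat_lit 6, nat_lit 4, nat_lit 5, nat_lit 3, nat_lit 4, nat_lit 2, nat_lit 3, nat_lit 8, nat_lit 1, nat_lit 2, nat_lit 3, nat_lit 4, nat_lit 5, nat_lit 6, nat_lit 7, nat_lit 1, nat_lit 2, nat_lit 3, nat_lit 4, nat_lit 5, nat_lit 0, nat_lit 1, nat_lit 9, nat_lit 4, nat_lit 3, nat_lit 2, nat_lit 8, nat_lit 3, nat_lit 8, nat_lit 12, nat_lit 15, nat_lit 14, nat_lit 17]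 (nat_lit 5) (nat_lit 1) [nat_lit 3784] [nat_lit 493, nat_lit 3784]))))) (FT.node (nat_lit 3935) (FT.leaf (Fct.mk false (nat_lit 32) (nat_lit 0) (nat_lit 32) [nat_lit 3, nat_lit 8, nat_lit 5, nat_lit 2, nat_lit 3, nat_lit 4, nat_lit 1, nat_lit 2, nat_lit 3, nat_lit 8, nat_lit 6, nat_lit 7, nat_lit 5, nat_lit 6, nat_lit 4, nat_lit 5, nat_lit 3, nat_lit 4, nat_lit 2, nat_lit 3, nat_lit 8, nat_lit 1, nat_lit 2, nat_lit 3, nat_lit 4, nat_lit 5, nat_lit 6, nat_lit 7, nat_lit 5, nat_lit 3, nat_lit 4, nat_lit 2, nat_lit 3, nat_lit 8, nat_lit 1, nat_lit 2, nat_lit 3, nat_lit 4, nat_lit 5, nat_lit 0, nat_lit 1, nat_lit 4, nat_lit 3, nat_lit 2, nat_lit 8, nat_lit 3, nat_lit 10, nat_lit 2, nat_lit 8, nat_lit 10, nat_lit 1, nat_lit 14, nat_lit 17, nat_lit 18] (Rl.cmp (nat_lit 3456) (nat_lit 2995)))) (FT.node (nat_lit 3936) (FT.leaf (Fct.mk false (nat_lit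 32) (nat_lit 0) (nat_lit 32) [nat_lit 8, nat_lit 1, nat_lit 2, nat_lit 3, nat_lit 4, nat_lit 5, nat_lit 3, nat_lit 2, nat_lit 0, nat_lit 1, nat_lit 9, nat_lit 4, nat_lit 3, nat_lit 2, nat_lit 8, nat_lit 3, nat_lit 8, nat_lit 10, nat_lit 0, nat_lit 16, nat_lit 14, nat_lit 13, nat_lit 12, nat_lit 19] (Rl.cmp (nat_lit 3004) (nat_lit 3047)))) (FT.leaf (Fct.mk false (nat_lit 32) (nat_lit 0) (nat_lit 32) [nat_lit 6, nat_lit 5, nat_lit 4, nat_lit 3, nat_lit 8, nat_lit 2, nat_lit 3, nat_lit 4, nat_lit 1, nat_lit 2, nat_lit 3, nat_lit 8, nat_lit 5, nat_lit 6, nat_lit 4, nat_lit 5, nat_lit 3, nat_lit 4, nat_lit 2, nat_lit 3, nat_lit 8, nat_lit 1, nat_lit 2, nat_lit 3, nat_lit 4, nat_lit 5, nat_lit 2, nat_lit 0, nat_lit 1, nat_lit 9, nat_lit 4, nat_lit 3, nat_lit 2, nat_lit 8, nat_lit 3, nat_lit 1, nat_lit 12, nat_lit 8, nat_lit 16, nat_lit 14, nat_lit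 16, nat_lit 8, nat_lit 18, nat_lit 16] (Rl.cmp (nat_lit 3010) (nat_lit 3047)))))))) (FT.node (nat_lit 3943) (FT.node (nat_lit 3940) (FT.node (nat_lit 3938) (FT.leaf (Fct.mk false (nat_lit 32) (nat_lit 0) (nat_lit 32) [nat_lit 3, nat_lit 8, nat_lit 5, nat_lit 2, nat_lit 3, nat_lit 4, nat_lit 1, nat_lit 2, nat_lit 3, nat_lit 8, nat_lit 6, nat_lit 7, nat_lit 5, nat_lit 6, nat_lit 4, nat_lit 5, nat_lit 3, nat_lit 4, nat_lit 2, nat_lit 3, nat_lit 8, nat_lit 1, nat_lit 2, nat_lit 3, nat_lit 4, nat_lit 5, nat_lit 6, nat_lit 7, nat_lit 8, nat_lit 6, nat_lit 5, nat_lit 3, nat_lit 4, nat_lit 2, nat_lit 3, nat_lit 8, nat_lit 1, nat_lit 2, nat_lit 3, nat_lit 4, nat_lit 5, nat_lit 1, nat_lit 2, nat_lit 3, nat_lit 0, nat_lit 2, nat_lit 8, nat_lit 12, nat_lit 15, nat_lit 8, nat_lit 19, nat_lit 16] (Rl.cmp (nat_lit 3456) (nat_lit 3936)))) (FT.node (nat_lit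 3939) (FT.leaf (Fct.mk false (nat_lit 32) (nat_lit 0) (nat_lit 32) [nat_lit 3, nat_lit 8, nat_lit 5, nat_lit 2, nat_lit 3, nat_lit 4, nat_lit 1, nat_lit 2, nat_lit 3, nat_lit 8, nat_lit 6, nat_lit 7, nat_lit 5, nat_lit 6, nat_lit 4, nat_lit 5, nat_lit 3, nat_lit 4, nat_lit 2, nat_lit 3, nat_lit 8, nat_lit 1, nat_lit 2, nat_lit 3, nat_lit 4, nat_lit 5, nat_lit 6, nat_lit 7, nat_lit 4, nat_lit 5, nat_lit 3, nat_lit 4, nat_lit 2, nat_lit 3, nat_lit 8, nat_lit 1, nat_lit 2, nat_lit 3, nat_lit 4, nat_lit 5, nat_lit 8, nat_lit 3, nat_lit 2, nat_lit 1, nat_lit 4, nat_lit 3, nat_lit 2, nat_lit 8, nat_lit 3, nat_lit 11, nat_lit 8, nat_lit 10, nat_lit 1, nat_lit 14, nat_lit 13, nat_lit 16] (Rl.cmp (nat_lit 2995) (nat_lit 3937)))) (FT.leaf (Fct.mk false (nat_lit 32) (nat_lit 0) (nat_lit 32) [nat_lit 3, nat_lit 8, nat_lit 5, nat_lit 2, nat_lit 3, nat_lit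 4, nat_lit 1, nat_lit 2, nat_lit 3, nat_lit 8, nat_lit 6, nat_lit 7, nat_lit 5, nat_lit 6, nat_lit 4, nat_lit 5, nat_lit 3, nat_lit 4, nat_lit 2, nat_lit 3, nat_lit 8, nat_lit 1, nat_lit 2, nat_lit 3, nat_lit 4, nat_lit 5, nat_lit 6, nat_lit 7, nat_lit 4, nat_lit 2, nat_lit 3, nat_lit 8, nat_lit 5, nat_lit 6, nat_lit 4, nat_lit 5, nat_lit 3, nat_lit 4, nat_lit 2, nat_lit 3, nat_lit 8, nat_lit 1, nat_lit 2, nat_lit 3, nat_lit 4, nat_lit 5, nat_lit 3, nat_lit 2, nat_lit 0, nat_lit 1, nat_lit 9, nat_lit 4, nat_lit 3, nat_lit 2, nat_lit 8, nat_lit 3, nat_lit 1, nat_lit 9, nat_lit 8, nat_lit 16, nat_lit 15, nat_lit 14, nat_lit 13, nat_lit 16] (Rl.cmp (nat_lit 3456) (nat_lit 3773)))))) (FT.node (nat_lit 3941) (FT.leaf (Fct.mk false (nat_lit 32) (nat_lit 0) (nat_lit 32) [nat_lit 3, nat_lit 8, nat_lit 5, nat_lit 2, nat_lit 3, nat_lit 4, nat_lit 1,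 nat_lit 2, nat_lit 3, nat_lit 8, nat_lit 6, nat_lit 7, nat_lit 5, nat_lit 6, nat_lit 4, nat_lit 5, nat_lit 3, nat_lit 4, nat_lit 2, nat_lit 3, nat_lit 8, nat_lit 1, nat_lit 2, nat_lit 3, nat_lit 4, nat_lit 5, nat_lit 6, nat_lit 7, nat_lit 6, nat_lit 5, nat_lit 4, nat_lit 3, nat_lit 8, nat_lit 1, nat_lit 2, nat_lit 3, nat_lit 4, nat_lit 5, nat_lit 2, nat_lit 1, nat_lit 3, nat_lit 2, nat_lit 0, nat_lit 1, nat_lit 9, nat_lit 4, nat_lit 3, nat_lit 2, nat_lit 8, nat_lit 3, nat_lit 10, nat_lit 8, nat_lit 12, nat_lit 15, nat_lit 17, nat_lit 12, nat_lit 18, nat_lit 16] (Rl.cmp (nat_lit 3010) (nat_lit 3939)))) (FT.node (nat_lit 3942) (FT.leaf (Fct.mk false (nat_lit 32) (nat_lit 0) (nat_lit 32) [nat_lit 3, nat_lit 8, nat_lit 5, nat_lit 2, nat_lit 3, nat_lit 4, nat_lit 1, nat_lit 2, nat_lit 3, nat_lit 8, nat_lit 6, nat_lit 7, nat_lit 5, nat_lit 6, nat_lit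 4, nat_lit 5, nat_lit 3, nat_lit 4, nat_lit 2, nat_lit 3, nat_lit 8, nat_lit 1, nat_lit 2, nat_lit 3, nat_lit 4, nat_lit 5, nat_lit 6, nat_lit 7, nat_lit 8, nat_lit 4, nat_lit 5, nat_lit 3, nat_lit 4, nat_lit 2, nat_lit 3, nat_lit 8, nat_lit 1, nat_lit 2, nat_lit 3, nat_lit 4, nat_lit 5, nat_lit 8, nat_lit 3, nat_lit 2, nat_lit 1, nat_lit 4, nat_lit 3, nat_lit 2, nat_lit 8, nat_lit 3, nat_lit 11, nat_lit 8, nat_lit 10, nat_lit 1, nat_lit 14, nat_lit 17, nat_lit 12, nat_lit 19] (Rl.cmp (nat_lit 3004) (nat_lit 3940)))) (FT.leaf (Fct.mk false (nat_lit 32) (nat_lit 0) (nat_lit 32) [nat_lit 3, nat_lit 2, nat_lit 1, nat_lit 8, nat_lit 3, nat_lit 2, nat_lit 0, nat_lit 1, nat_lit 4, nat_lit 3, nat_lit 2, nat_lit 8, nat_lit 3, nat_lit 2, nat_lit 8, nat_lit 10, nat_lit 1, nat_lit 8, nat_lit 12, nat_lit 15, nat_lit 14, nat_lit 12, nat_lit 18] (Rl.cmp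 (nat_lit 3456) (nat_lit 3941))))))) (FT.node (nat_lit 3946) (FT.node (nat_lit 3944) (FT.leaf (Fct.mk true (nat_lit 32) (nat_lit 96968) (nat_lit 32) [nat_lit 3, nat_lit 8, nat_lit 5, nat_lit 2, nat_lit 3, nat_lit 4, nat_lit 1, nat_lit 2, nat_lit 3, nat_lit 8, nat_lit 6, nat_lit 7, nat_lit 5, nat_lit 6, nat_lit 4, nat_lit 5, nat_lit 3, nat_lit 4, nat_lit 2, nat_lit 3, nat_lit 8, nat_lit 1, nat_lit 2, nat_lit 3, nat_lit 4, nat_lit 5, nat_lit 6, nat_lit 7, nat_lit 5, nat_lit 3, nat_lit 4, nat_lit 1, nat_lit 2, nat_lit 3, nat_lit 8, nat_lit 0, nat_lit 1, nat_lit 2, nat_lit 3, nat_lit 4, nat_lit 5, nat_lit 2, nat_lit 1, nat_lit 3, nat_lit 2, nat_lit 8, nat_lit 3, nat_lit 2, nat_lit 10, nat_lit 1, nat_lit 17, nat_lit 18, nat_lit 16] (Rl.rel (nat_lit 0) [nat_lit 5, nat_lit 4, nat_lit 1, nat_lit 2, nat_lit 3, nat_lit 8, nat_lit 0, nat_lit 1, nat_lit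 2, nat_lit 3, nat_lit 4, nat_lit 5, nat_lit 6, nat_lit 7, nat_lit 6, nat_lit 2, nat_lit 1, nat_lit 8, nat_lit 3, nat_lit 2, nat_lit 0, nat_lit 1, nat_lit 4, nat_lit 3, nat_lit 2, nat_lit 8, nat_lit 3, nat_lit 8, nat_lit 10, nat_lit 12, nat_lit 15, nat_lit 14, nat_lit 18, nat_lit 16] (nat_lit 32) (nat_lit 1) [nat_lit 3931] [nat_lit 3942, nat_lit 3751]))) (FT.node (nat_lit 3945) (FT.leaf (Fct.mk true (nat_lit 32) (nat_lit 37) (nat_lit 32) [nat_lit 5, nat_lit 3, nat_lit 4, nat_lit 1, nat_lit 2, nat_lit 3, nat_lit 8, nat_lit 0, nat_lit 1, nat_lit 2, nat_lit 3, nat_lit 4, nat_lit 5, nat_lit 1, nat_lit 2, nat_lit 0, nat_lit 1, nat_lit 9, nat_lit 4, nat_lit 3, nat_lit 2, nat_lit 8, nat_lit 3, nat_lit 10, nat_lit 2, nat_lit 8, nat_lit 10, nat_lit 1, nat_lit 8, nat_lit 12, nat_lit 15, nat_lit 14, nat_lit 17, nat_lit 12, nat_lit 18, nat_lit 16] (Rl.t1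 (nat_lit 3943) (nat_lit 3938)))) (FT.leaf (Fct.mk false (nat_lit 32) (nat_lit 0) (nat_lit 32) [nat_lit 3, nat_lit 8, nat_lit 5, nat_lit 2, nat_lit 3, nat_lit 4, nat_lit 1, nat_lit 2, nat_lit 3, nat_lit 8, nat_lit 6, nat_lit 7, nat_lit 5, nat_lit 6, nat_lit 4, nat_lit 5, nat_lit 3, nat_lit 4, nat_lit 2, nat_lit 3, nat_lit 8, nat_lit 1, nat_lit 2, nat_lit 3, nat_lit 4, nat_lit 5, nat_lit 6, nat_lit 7, nat_lit 1, nat_lit 2, nat_lit 3, nat_lit 4, nat_lit 5, nat_lit 3, nat_lit 8, nat_lit 4, nat_lit 3, nat_lit 2, nat_lit 1, nat_lit 9, nat_lit 4, nat_lit 3, nat_lit 2, nat_lit 8, nat_lit 3, nat_lit 11, nat_lit 2, nat_lit 8, nat_lit 10, nat_lit 1, nat_lit 8, nat_lit 12, nat_lit 15, nat_lit 14, nat_lit 17, nat_lit 19] (Rl.cmp (nat_lit 3004) (nat_lit 3934)))))) (FT.node (nat_lit 3948) (FT.node (nat_lit 3947) (FT.leaf (Fct.mk false (nat_lit 32) (nat_lit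 0) (nat_lit 32) [nat_lit 8, nat_lit 3, nat_lit 4, nat_lit 2, nat_lit 3, nat_lit 8, nat_lit 5, nat_lit 6, nat_lit 4, nat_lit 5, nat_lit 3, nat_lit 4, nat_lit 2, nat_lit 3, nat_lit 8, nat_lit 0, nat_lit 1, nat_lit 2, nat_lit 3, nat_lit 4, nat_lit 5, nat_lit 3, nat_lit 8, nat_lit 4, nat_lit 3, nat_lit 2, nat_lit 0, nat_lit 1, nat_lit 9, nat_lit 4, nat_lit 3, nat_lit 2, nat_lit 8, nat_lit 3, nat_lit 0, nat_lit 2, nat_lit 14, nat_lit 13, nat_lit 19, nat_lit 16] (Rl.cmp (nat_lit 3456) (nat_lit 3945)))) (FT.leaf (Fct.mk false (nat_lit 32) (nat_lit 0) (nat_lit 32) [nat_lit 5, nat_lit 4, nat_lit 2, nat_lit 3, nat_lit 8, nat_lit 1, nat_lit 2, nat_lit 3, nat_lit 4, nat_lit 5, nat_lit 8, nat_lit 3, nat_lit 2, nat_lit 1, nat_lit 9, nat_lit 4, nat_lit 3, nat_lit 2, nat_lit 8, nat_lit 3, nat_lit 10, nat_lit 0, nat_lit 12, nat_lit 15, nat_lit 14, nat_lit 17,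 nat_lit 12] (Rl.cmp (nat_lit 3047) (nat_lit 3946))))) (FT.node (nat_lit 3949) (FT.leaf (Fct.mk false (nat_lit 32) (nat_lit 0) (nat_lit 32) [nat_lit 6, nat_lit 5, nat_lit 4, nat_lit 3, nat_lit 8, nat_lit 2, nat_lit 3, nat_lit 4, nat_lit 5, nat_lit 3, nat_lit 2, nat_lit 0, nat_lit 1, nat_lit 9, nat_lit 4, nat_lit 3, nat_lit 2, nat_lit 8, nat_lit 3, nat_lit 10, nat_lit 1, nat_lit 12, nat_lit 8, nat_lit 16, nat_lit 14, nat_lit 18, nat_lit 16] (Rl.cmp (nat_lit 3004) (nat_lit 3947)))) (FT.leaf (Fct.mk false (nat_lit 32) (nat_lit 0) (nat_lit 32) [nat_lit 0, nat_lit 1, nat_lit 2, nat_lit 3, nat_lit 4, nat_lit 5, nat_lit 3, nat_lit 8, nat_lit 4, nat_lit 3, nat_lit 2, nat_lit 0, nat_lit 1, nat_lit 9, nat_lit 4, nat_lit 3, nat_lit 2, nat_lit 8, nat_lit 3, nat_lit 15, nat_lit 17, nat_lit 16] (Rl.cmp (nat_lit 3004) (nat_lit 2995)))))))))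

/-- some facts -/
noncomputable def ftc79 : FT := FT.node (nat_lit 3975) (FT.node (nat_lit 3962) (FT.node (nat_lit 3956) (FT.node (nat_lit 3953) (FT.node (nat_lit 3951) (FT.leaf (Fct.mk false (nat_lit 32) (nat_lit 0) (nat_lit 32) [nat_lit 3, nat_lit 8, nat_lit 5, nat_lit 2, nat_lit 3, nat_lit 4, nat_lit 1, nat_lit 2, nat_lit 3, nat_lit 8, nat_lit 6, nat_lit 7, nat_lit 5, nat_lit 6, nat_lit 4, nat_lit 5, nat_lit 3, nat_lit 4, nat_lit 2, nat_lit 3, nat_lit 8, nat_lit 1, nat_lit 2, nat_lit 3, nat_lit 4, nat_lit 5, nat_lit 6, nat_lit 7, nat_lit 8, nat_lit 0, nat_lit 1, nat_lit 2, nat_lit 3, nat_lit 4, nat_lit 5, nat_lit 1, nat_lit 2, nat_lit 3, nat_lit 8, nat_lit 4, nat_lit 3, nat_lit 2, nat_lit 1, nat_lit 9, nat_lit 4, nat_lit 3, nat_lit 2, nat_lit 8, nat_lit 3, nat_lit 11, nat_lit 10, nat_lit 12, nat_lit 15, nat_lit 14, nat_lit 17, nat_lit 12,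 nat_lit 19] (Rl.cmp (nat_lit 3456) (nat_lit 3949)))) (FT.node (nat_lit 3952) (FT.leaf (Fct.mk false (nat_lit 32) (nat_lit 0) (nat_lit 32) [nat_lit 3, nat_lit 8, nat_lit 5, nat_lit 2, nat_lit 3, nat_lit 4, nat_lit 1, nat_lit 2, nat_lit 3, nat_lit 8, nat_lit 6, nat_lit 7, nat_lit 5, nat_lit 6, nat_lit 4, nat_lit 5, nat_lit 3, nat_lit 4, nat_lit 2, nat_lit 3, nat_lit 8, nat_lit 1, nat_lit 2, nat_lit 3, nat_lit 4, nat_lit 5, nat_lit 6, nat_lit 7, nat_lit 5, nat_lit 4, nat_lit 3, nat_lit 8, nat_lit 0, nat_lit 1, nat_lit 2, nat_lit 3, nat_lit 4, nat_lit 5, nat_lit 9, nat_lit 4, nat_lit 0, nat_lit 15, nat_lit 14, nat_lit 17, nat_lit 12, nat_lit 18, nat_lit 16] (Rl.cmp (nat_lit 3047) (nat_lit 3950)))) (FT.leaf (Fct.mk false (nat_lit 32) (nat_lit 0) (nat_lit 32) [nat_lit 3, nat_lit 8, nat_lit 5, nat_lit 2, nat_lit 3, nat_lit 4, nat_lit 1, nat_lit 2,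 nat_lit 3, nat_lit 8, nat_lit 6, nat_lit 7, nat_lit 5, nat_lit 6, nat_lit 4, nat_lit 5, nat_lit 3, nat_lit 4, nat_lit 2, nat_lit 3, nat_lit 8, nat_lit 1, nat_lit 2, nat_lit 3, nat_lit 4, nat_lit 5, nat_lit 6, nat_lit 7, nat_lit 4, nat_lit 2, nat_lit 3, nat_lit 8, nat_lit 5, nat_lit 6, nat_lit 4, nat_lit 5, nat_lit 3, nat_lit 4, nat_lit 2, nat_lit 3, nat_lit 8, nat_lit 1, nat_lit 2, nat_lit 3, nat_lit 4, nat_lit 5, nat_lit 0, nat_lit 1, nat_lit 2, nat_lit 8, nat_lit 3, nat_lit 13, nat_lit 18, nat_lit 16] (Rl.cmp (nat_lit 3047) (nat_lit 3951)))))) (FT.node (nat_lit 3954) (FT.leaf (Fct.mk false (nat_lit 32) (nat_lit 0) (nat_lit 32) [nat_lit 3, nat_lit 8, nat_lit 5, nat_lit 2, nat_lit 3, nat_lit 4, nat_lit 1, nat_lit 2, nat_lit 3, nat_lit 8, nat_lit 6, nat_lit 7, nat_lit 5, nat_lit 6, nat_lit 4, nat_lit 5, nat_lit 3, nat_lit 4, nat_lit 2, nat_lit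 3, nat_lit 8, nat_lit 1, nat_lit 2, nat_lit 3, nat_lit 4, nat_lit 5, nat_lit 6, nat_lit 7, nat_lit 1, nat_lit 2, nat_lit 3, nat_lit 4, nat_lit 5, nat_lit 3, nat_lit 11, nat_lit 10, nat_lit 1, nat_lit 15, nat_lit 8, nat_lit 18, nat_lit 16] (Rl.cmp (nat_lit 3004) (nat_lit 3456)))) (FT.node (nat_lit 3955) (FT.leaf (Fct.mk false (nat_lit 32) (nat_lit 0) (nat_lit 32) [nat_lit 3, nat_lit 8, nat_lit 5, nat_lit 2, nat_lit 3, nat_lit 4, nat_lit 1, nat_lit 2, nat_lit 3, nat_lit 8, nat_lit 6, nat_lit 7, nat_lit 5, nat_lit 6, nat_lit 4, nat_lit 5, nat_lit 3, nat_lit 4, nat_lit 2, nat_lit 3, nat_lit 8, nat_lit 1, nat_lit 2, nat_lit 3, nat_lit 4, nat_lit 5, nat_lit 6, nat_lit 7, nat_lit 4, nat_lit 2, nat_lit 3, nat_lit 8, nat_lit 5, nat_lit 6, nat_lit 4, nat_lit 5, nat_lit 3, nat_lit 4, nat_lit 2, nat_lit 3, nat_lit 8, nat_lit 1, nat_lit 2, nat_lit 3, nat_lit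 4, nat_lit 5, nat_lit 1, nat_lit 2, nat_lit 3, nat_lit 8, nat_lit 4, nat_lit 3, nat_lit 2, nat_lit 1, nat_lit 9, nat_lit 4, nat_lit 3, nat_lit 2, nat_lit 8, nat_lit 3, nat_lit 11, nat_lit 8, nat_lit 10, nat_lit 8, nat_lit 12, nat_lit 15, nat_lit 17, nat_lit 19] (Rl.cmp (nat_lit 3010) (nat_lit 3953)))) (FT.leaf (Fct.mk false (nat_lit 32) (nat_lit 0) (nat_lit 32) [nat_lit 3, nat_lit 8, nat_lit 5, nat_lit 2, nat_lit 3, nat_lit 4, nat_lit 1, nat_lit 2, nat_lit 3, nat_lit 8, nat_lit 6, nat_lit 7, nat_lit 5, nat_lit 6, nat_lit 4, nat_lit 5, nat_lit 3, nat_lit 4, nat_lit 2, nat_lit 3, nat_lit 8, nat_lit 1, nat_lit 2, nat_lit 3, nat_lit 4, nat_lit 5, nat_lit 6, nat_lit 7, nat_lit 4, nat_lit 2, nat_lit 3, nat_lit 8, nat_lit 0, nat_lit 1, nat_lit 2, nat_lit 3, nat_lit 4, nat_lit 5, nat_lit 1, nat_lit 2, nat_lit 3, nat_lit 11, nat_lit 1, nat_lit 16, nat_lit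 12, nat_lit 15, nat_lit 14, nat_lit 12] (Rl.cmp (nat_lit 3004) (nat_lit 3954))))))) (FT.node (nat_lit 3959) (FT.node (nat_lit 3957) (FT.leaf (Fct.mk true (nat_lit 32) (nat_lit 4806) (nat_lit 32) [nat_lit 8, nat_lit 5, nat_lit 6, nat_lit 4, nat_lit 5, nat_lit 2, nat_lit 3, nat_lit 4, nat_lit 1, nat_lit 2, nat_lit 3, nat_lit 8, nat_lit 0, nat_lit 1, nat_lit 2, nat_lit 3, nat_lit 4, nat_lit 5, nat_lit 6, nat_lit 7, nat_lit 2, nat_lit 3, nat_lit 4, nat_lit 1, nat_lit 2, nat_lit 3, nat_lit 8, nat_lit 0, nat_lit 1, nat_lit 2, nat_lit 3, nat_lit 4, nat_lit 5, nat_lit 9, nat_lit 4, nat_lit 3, nat_lit 2, nat_lit 8, nat_lit 3, nat_lit 11, nat_lit 2, nat_lit 8, nat_lit 16, nat_lit 15, nat_lit 14, nat_lit 13, nat_lit 12] (Rl.rel (nat_lit 0) [nat_lit 8, nat_lit 4, nat_lit 5, nat_lit 2, nat_lit 3, nat_lit 4, nat_lit 1, nat_lit 2, nat_lit 3, nat_lit 8, nat_lit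 0, nat_lit 1, nat_lit 2, nat_lit 3, nat_lit 4, nat_lit 5, nat_lit 6, nat_lit 7, nat_lit 6, nat_lit 8, nat_lit 3, nat_lit 2, nat_lit 1, nat_lit 4, nat_lit 3, nat_lit 2, nat_lit 8, nat_lit 3, nat_lit 8, nat_lit 10, nat_lit 1, nat_lit 15, nat_lit 14, nat_lit 18, nat_lit 16] (nat_lit 32) (nat_lit 2) [nat_lit 3931, nat_lit 3948, nat_lit 3900] []))) (FT.node (nat_lit 3958) (FT.leaf (Fct.mk true (nat_lit 32) (nat_lit 1080) (nat_lit 32) [nat_lit 8, nat_lit 5, nat_lit 2, nat_lit 3, nat_lit 4, nat_lit 1, nat_lit 2, nat_lit 3, nat_lit 8, nat_lit 6, nat_lit 7, nat_lit 5, nat_lit 6, nat_lit 4, nat_lit 5, nat_lit 3, nat_lit 4, nat_lit 2, nat_lit 3, nat_lit 8, nat_lit 1, nat_lit 2, nat_lit 3, nat_lit 4, nat_lit 5, nat_lit 6, nat_lit 7, nat_lit 6, nat_lit 1, nat_lit 3, nat_lit 2, nat_lit 8, nat_lit 3, nat_lit 11, nat_lit 2, nat_lit 8, nat_lit 10, nat_lit 1,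 nat_lit 16, nat_lit 15, nat_lit 14, nat_lit 19] (Rl.t1 (nat_lit 3956) (nat_lit 3952)))) (FT.leaf (Fct.mk true (nat_lit 32) (nat_lit 6837) (nat_lit 32) [nat_lit 3, nat_lit 8, nat_lit 6, nat_lit 7, nat_lit 5, nat_lit 6, nat_lit 4, nat_lit 5, nat_lit 3, nat_lit 4, nat_lit 2, nat_lit 3, nat_lit 8, nat_lit 1, nat_lit 2, nat_lit 3, nat_lit 4, nat_lit 5, nat_lit 6, nat_lit 7, nat_lit 8, nat_lit 4, nat_lit 5, nat_lit 3, nat_lit 4, nat_lit 2, nat_lit 3, nat_lit 8, nat_lit 1, nat_lit 2, nat_lit 3, nat_lit 4, nat_lit 5, nat_lit 3, nat_lit 2, nat_lit 1, nat_lit 8, nat_lit 3, nat_lit 2, nat_lit 0, nat_lit 1, nat_lit 4, nat_lit 3, nat_lit 2, nat_lit 8, nat_lit 3, nat_lit 11, nat_lit 10, nat_lit 1, nat_lit 15, nat_lit 14, nat_lit 13] (Rl.inv (nat_lit 3957)))))) (FT.node (nat_lit 3960) (FT.leaf (Fct.mk true (nat_lit 32) (nat_lit 4050) (nat_lit 32) [nat_lit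 6, nat_lit 5, nat_lit 4, nat_lit 3, nat_lit 8, nat_lit 2, nat_lit 3, nat_lit 4, nat_lit 1, nat_lit 2, nat_lit 3, nat_lit 8, nat_lit 5, nat_lit 6, nat_lit 4, nat_lit 5, nat_lit 3, nat_lit 4, nat_lit 2, nat_lit 3, nat_lit 8, nat_lit 1, nat_lit 2, nat_lit 3, nat_lit 4, nat_lit 5, nat_lit 6, nat_lit 7, nat_lit 6, nat_lit 4, nat_lit 5, nat_lit 3, nat_lit 4, nat_lit 2, nat_lit 3, nat_lit 8, nat_lit 0, nat_lit 1, nat_lit 2, nat_lit 3, nat_lit 4, nat_lit 5, nat_lit 2, nat_lit 1, nat_lit 3, nat_lit 2, nat_lit 8, nat_lit 3, nat_lit 1, nat_lit 16, nat_lit 12, nat_lit 15, nat_lit 14, nat_lit 13, nat_lit 12, nat_lit 19, nat_lit 16] (Rl.t1 (nat_lit 3958) (nat_lit 3955)))) (FT.node (nat_lit 3961) (FT.leaf (Fct.mk false (nat_lit 32) (nat_lit 0) (nat_lit 32) [nat_lit 3, nat_lit 8, nat_lit 5, nat_lit 2, nat_lit 3, nat_lit 4, nat_lit 1, nat_lit 2, nat_lit 3,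 nat_lit 8, nat_lit 6, nat_lit 7, nat_lit 5, nat_lit 6, nat_lit 4, nat_lit 5, nat_lit 3, nat_lit 4, nat_lit 2, nat_lit 3, nat_lit 8, nat_lit 1, nat_lit 2, nat_lit 3, nat_lit 4, nat_lit 5, nat_lit 6, nat_lit 7, nat_lit 4, nat_lit 5, nat_lit 3, nat_lit 4, nat_lit 2, nat_lit 3, nat_lit 8, nat_lit 1, nat_lit 2, nat_lit 3, nat_lit 4, nat_lit 5, nat_lit 3, nat_lit 2, nat_lit 0, nat_lit 1, nat_lit 9, nat_lit 4, nat_lit 3, nat_lit 2, nat_lit 8, nat_lit 3, nat_lit 2, nat_lit 8, nat_lit 10, nat_lit 1, nat_lit 16, nat_lit 15, nat_lit 14, nat_lit 17, nat_lit 12, nat_lit 18] (Rl.cmp (nat_lit 3010) (nat_lit 3456)))) (FT.leaf (Fct.mk false (nat_lit 32) (nat_lit 0) (nat_lit 32) [nat_lit 3, nat_lit 8, nat_lit 5, nat_lit 2, nat_lit 3, nat_lit 4, nat_lit 1, nat_lit 2, nat_lit 3, nat_lit 8, nat_lit 6, nat_lit 7, nat_lit 5, nat_lit 6, nat_lit 4, nat_lit 5, nat_lit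 3, nat_lit 4, nat_lit 2, nat_lit 3, nat_lit 8, nat_lit 1, nat_lit 2, nat_lit 3, nat_lit 4, nat_lit 5, nat_lit 6, nat_lit 7, nat_lit 6, nat_lit 5, nat_lit 3, nat_lit 4, nat_lit 2, nat_lit 3, nat_lit 8, nat_lit 1, nat_lit 2, nat_lit 3, nat_lit 4, nat_lit 5, nat_lit 2, nat_lit 1, nat_lit 3, nat_lit 2, nat_lit 0, nat_lit 1, nat_lit 9, nat_lit 4, nat_lit 3, nat_lit 2, nat_lit 8, nat_lit 3, nat_lit 10, nat_lit 8, nat_lit 16, nat_lit 15, nat_lit 14, nat_lit 13] (Rl.cmp (nat_lit 3047) (nat_lit 3960)))))))) (FT.node (nat_lit 3968) (FT.node (nat_lit 3965) (FT.node (nat_lit 3963) (FT.leaf (Fct.mk false (nat_lit 32) (nat_lit 0) (nat_lit 32) [nat_lit 3, nat_lit 8, nat_lit 5, nat_lit 2, nat_lit 3, nat_lit 4, nat_lit 1, nat_lit 2, nat_lit 3, nat_lit 8, nat_lit 6, nat_lit 7, nat_lit 5, nat_lit 6, nat_lit 4, nat_lit 5, nat_lit 3, nat_lit 4, nat_lit 2, nat_lit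 3, nat_lit 8, nat_lit 1, nat_lit 2, nat_lit 3, nat_lit 4, nat_lit 5, nat_lit 6, nat_lit 7, nat_lit 3, nat_lit 4, nat_lit 2, nat_lit 3, nat_lit 8, nat_lit 5, nat_lit 6, nat_lit 4, nat_lit 5, nat_lit 3, nat_lit 4, nat_lit 2, nat_lit 3, nat_lit 8, nat_lit 0, nat_lit 1, nat_lit 2, nat_lit 3, nat_lit 4, nat_lit 5, nat_lit 0, nat_lit 1, nat_lit 2, nat_lit 8, nat_lit 3, nat_lit 9, nat_lit 10, nat_lit 2, nat_lit 8, nat_lit 10, nat_lit 1, nat_lit 16, nat_lit 8, nat_lit 12, nat_lit 15, nat_lit 19, nat_lit 16] (Rl.cmp (nat_lit 3004) (nat_lit 3961)))) (FT.node (nat_lit 3964) (FT.leaf (Fct.mk false (nat_lit 32) (nat_lit 0) (nat_lit 32) [nat_lit 8, nat_lit 1, nat_lit 2, nat_lit 3, nat_lit 4, nat_lit 5, nat_lit 2, nat_lit 1, nat_lit 8, nat_lit 3, nat_lit 2, nat_lit 0, nat_lit 1, nat_lit 4, nat_lit 3, nat_lit 2, nat_lit 8, nat_lit 3, nat_lit 9, nat_lit 2,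 nat_lit 16, nat_lit 15, nat_lit 14, nat_lit 12, nat_lit 18] (Rl.cmp (nat_lit 3456) (nat_lit 3962)))) (FT.leaf (Fct.mk false (nat_lit 32) (nat_lit 0) (nat_lit 32) [nat_lit 5, nat_lit 4, nat_lit 3, nat_lit 8, nat_lit 2, nat_lit 3, nat_lit 4, nat_lit 5, nat_lit 2, nat_lit 1, nat_lit 4, nat_lit 3, nat_lit 2, nat_lit 8, nat_lit 3, nat_lit 8, nat_lit 10, nat_lit 14, nat_lit 12, nat_lit 18] (Rl.cmp (nat_lit 3010) (nat_lit 2995)))))) (FT.node (nat_lit 3966) (FT.leaf (Fct.mk false (nat_lit 32) (nat_lit 0) (nat_lit 32) [nat_lit 5, nat_lit 6, nat_lit 4, nat_lit 5, nat_lit 3, nat_lit 4, nat_lit 2, nat_lit 3, nat_lit 8, nat_lit 1, nat_lit 2, nat_lit 3, nat_lit 4, nat_lit 5, nat_lit 1, nat_lit 4, nat_lit 3, nat_lit 2, nat_lit 8, nat_lit 3, nat_lit 11, nat_lit 10, nat_lit 1, nat_lit 12, nat_lit 15, nat_lit 14, nat_lit 18, nat_lit 16] (Rl.cmp (nat_lit 3004)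 (nat_lit 3964)))) (FT.node (nat_lit 3967) (FT.leaf (Fct.mk false (nat_lit 32) (nat_lit 0) (nat_lit 32) [nat_lit 8, nat_lit 3, nat_lit 4, nat_lit 1, nat_lit 2, nat_lit 3, nat_lit 8, nat_lit 5, nat_lit 6, nat_lit 4, nat_lit 5, nat_lit 3, nat_lit 4, nat_lit 2, nat_lit 3, nat_lit 8, nat_lit 1, nat_lit 2, nat_lit 3, nat_lit 4, nat_lit 5, nat_lit 3, nat_lit 2, nat_lit 1, nat_lit 4, nat_lit 3, nat_lit 2, nat_lit 8, nat_lit 3, nat_lit 11, nat_lit 2, nat_lit 15, nat_lit 19] (Rl.cmp (nat_lit 3010) (nat_lit 3965)))) (FT.leaf (Fct.mk false (nat_lit 32) (nat_lit 0) (nat_lit 32) [nat_lit 2, nat_lit 3, nat_lit 8, nat_lit 6, nat_lit 4, nat_lit 5, nat_lit 3, nat_lit 4, nat_lit 2, nat_lit 3, nat_lit 8, nat_lit 1, nat_lit 2, nat_lit 3, nat_lit 4, nat_lit 5, nat_lit 3, nat_lit 8, nat_lit 4, nat_lit 3, nat_lit 2, nat_lit 1, nat_lit 9, nat_lit 4, nat_lit 3, nat_lit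 2, nat_lit 8, nat_lit 3, nat_lit 0, nat_lit 2, nat_lit 15, nat_lit 14, nat_lit 13, nat_lit 18, nat_lit 16] (Rl.cmp (nat_lit 3010) (nat_lit 3966))))))) (FT.node (nat_lit 3971) (FT.node (nat_lit 3969) (FT.leaf (Fct.mk true (nat_lit 32) (nat_lit 4225) (nat_lit 32) [nat_lit 6, nat_lit 7, nat_lit 5, nat_lit 6, nat_lit 3, nat_lit 4, nat_lit 5, nat_lit 2, nat_lit 3, nat_lit 4, nat_lit 1, nat_lit 2, nat_lit 3, nat_lit 8, nat_lit 0, nat_lit 1, nat_lit 2, nat_lit 3, nat_lit 4, nat_lit 5, nat_lit 6, nat_lit 7, nat_lit 3, nat_lit 8, nat_lit 6, nat_lit 4, nat_lit 5, nat_lit 3, nat_lit 4, nat_lit 2, nat_lit 3, nat_lit 8, nat_lit 1, nat_lit 2, nat_lit 3, nat_lit 4, nat_lit 5, nat_lit 2, nat_lit 3, nat_lit 2, nat_lit 16, nat_lit 14, nat_lit 12, nat_lit 18] (Rl.rel (nat_lit 0) [nat_lit 5, nat_lit 4, nat_lit 1, nat_lit 2, nat_lit 3, nat_lit 8, nat_lit 0, nat_lit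 1, nat_lit 2, nat_lit 3, nat_lit 4, nat_lit 5, nat_lit 6, nat_lit 7, nat_lit 6, nat_lit 8, nat_lit 3, nat_lit 2, nat_lit 0, nat_lit 1, nat_lit 4, nat_lit 3, nat_lit 2, nat_lit 8, nat_lit 3, nat_lit 10, nat_lit 2, nat_lit 8, nat_lit 10, nat_lit 1, nat_lit 12, nat_lit 15, nat_lit 14, nat_lit 18, nat_lit 16] (nat_lit 32) (nat_lit 1) [nat_lit 3931] [nat_lit 3967, nat_lit 3862]))) (FT.node (nat_lit 3970) (FT.leaf (Fct.mk true (nat_lit 32) (nat_lit 405) (nat_lit 32) [nat_lit 3, nat_lit 8, nat_lit 2, nat_lit 3, nat_lit 4, nat_lit 1, nat_lit 2, nat_lit 3, nat_lit 8, nat_lit 6, nat_lit 7, nat_lit 5, nat_lit 6, nat_lit 4, nat_lit 5, nat_lit 3, nat_lit 4, nat_lit 2, nat_lit 3, nat_lit 8, nat_lit 1, nat_lit 2, nat_lit 3, nat_lit 4, nat_lit 5, nat_lit 6, nat_lit 7, nat_lit 2, nat_lit 3, nat_lit 8, nat_lit 4, nat_lit 5, nat_lit 3, nat_lit 4, nat_lit 2, nat_lit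 3, nat_lit 8, nat_lit 1, nat_lit 2, nat_lit 3, nat_lit 4, nat_lit 5, nat_lit 4, nat_lit 3, nat_lit 2, nat_lit 0, nat_lit 1, nat_lit 9, nat_lit 4, nat_lit 3, nat_lit 2, nat_lit 8, nat_lit 3, nat_lit 0, nat_lit 2, nat_lit 12, nat_lit 15, nat_lit 14, nat_lit 17, nat_lit 12, nat_lit 19] (Rl.t1 (nat_lit 3968) (nat_lit 3963)))) (FT.leaf (Fct.mk false (nat_lit 32) (nat_lit 0) (nat_lit 32) [nat_lit 3, nat_lit 8, nat_lit 5, nat_lit 2, nat_lit 3, nat_lit 4, nat_lit 1, nat_lit 2, nat_lit 3, nat_lit 8, nat_lit 6, nat_lit 7, nat_lit 5, nat_lit 6, nat_lit 4, nat_lit 5, nat_lit 3, nat_lit 4, nat_lit 2, nat_lit 3, nat_lit 8, nat_lit 1, nat_lit 2, nat_lit 3, nat_lit 4, nat_lit 5, nat_lit 6, nat_lit 7, nat_lit 5, nat_lit 3, nat_lit 4, nat_lit 2, nat_lit 3, nat_lit 8, nat_lit 1, nat_lit 2, nat_lit 3, nat_lit 4, nat_lit 5, nat_lit 0, nat_lit 1, nat_lit 4, nat_lit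 3, nat_lit 2, nat_lit 8, nat_lit 3, nat_lit 10, nat_lit 2, nat_lit 8, nat_lit 10, nat_lit 1, nat_lit 14, nat_lit 17, nat_lit 18] (Rl.cmp (nat_lit 3456) (nat_lit 2995)))))) (FT.node (nat_lit 3973) (FT.node (nat_lit 3972) (FT.leaf (Fct.mk false (nat_lit 32) (nat_lit 0) (nat_lit 32) [nat_lit 3, nat_lit 8, nat_lit 5, nat_lit 2, nat_lit 3, nat_lit 4, nat_lit 1, nat_lit 2, nat_lit 3, nat_lit 8, nat_lit 6, nat_lit 7, nat_lit 5, nat_lit 6, nat_lit 4, nat_lit 5, nat_lit 3, nat_lit 4, nat_lit 2, nat_lit 3, nat_lit 8, nat_lit 1, nat_lit 2, nat_lit 3, nat_lit 4, nat_lit 5, nat_lit 6, nat_lit 7, nat_lit 1, nat_lit 2, nat_lit 3, nat_lit 4, nat_lit 5, nat_lit 3, nat_lit 8, nat_lit 4, nat_lit 3, nat_lit 2, nat_lit 1, nat_lit 9, nat_lit 4, nat_lit 3, nat_lit 2, nat_lit 8, nat_lit 3, nat_lit 11, nat_lit 2, nat_lit 8, nat_lit 10, nat_lit 1, nat_lit 8, nat_lit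 12, nat_lit 15, nat_lit 14, nat_lit 17, nat_lit 19] (Rl.cmp (nat_lit 3004) (nat_lit 3970)))) (FT.leaf (Fct.mk false (nat_lit 32) (nat_lit 0) (nat_lit 32) [nat_lit 3, nat_lit 8, nat_lit 5, nat_lit 2, nat_lit 3, nat_lit 4, nat_lit 1, nat_lit 2, nat_lit 3, nat_lit 8, nat_lit 6, nat_lit 7, nat_lit 5, nat_lit 6, nat_lit 4, nat_lit 5, nat_lit 3, nat_lit 4, nat_lit 2, nat_lit 3, nat_lit 8, nat_lit 1, nat_lit 2, nat_lit 3, nat_lit 4, nat_lit 5, nat_lit 6, nat_lit 7, nat_lit 6, nat_lit 5, nat_lit 4, nat_lit 3, nat_lit 8, nat_lit 1, nat_lit 2, nat_lit 3, nat_lit 4, nat_lit 5, nat_lit 1, nat_lit 3, nat_lit 2, nat_lit 0, nat_lit 1, nat_lit 4, nat_lit 3, nat_lit 2, nat_lit 8, nat_lit 3, nat_lit 10, nat_lit 0, nat_lit 16, nat_lit 12, nat_lit 15, nat_lit 14, nat_lit 19, nat_lit 16] (Rl.cmp (nat_lit 3047) (nat_lit 3971))))) (FT.node (nat_lit 3974) (FT.leaf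 (Fct.mk false (nat_lit 32) (nat_lit 0) (nat_lit 32) [nat_lit 3, nat_lit 8, nat_lit 5, nat_lit 2, nat_lit 3, nat_lit 4, nat_lit 1, nat_lit 2, nat_lit 3, nat_lit 8, nat_lit 6, nat_lit 7, nat_lit 5, nat_lit 6, nat_lit 4, nat_lit 5, nat_lit 3, nat_lit 4, nat_lit 2, nat_lit 3, nat_lit 8, nat_lit 1, nat_lit 2, nat_lit 3, nat_lit 4, nat_lit 5, nat_lit 6, nat_lit 7, nat_lit 8, nat_lit 3, nat_lit 4, nat_lit 2, nat_lit 3, nat_lit 8, nat_lit 5, nat_lit 6, nat_lit 4, nat_lit 5, nat_lit 3, nat_lit 4, nat_lit 2, nat_lit 3, nat_lit 8, nat_lit 1, nat_lit 2, nat_lit 3, nat_lit 4, nat_lit 5, nat_lit 2, nat_lit 1, nat_lit 4, nat_lit 3, nat_lit 2, nat_lit 0, nat_lit 1, nat_lit 9, nat_lit 4, nat_lit 3, nat_lit 2, nat_lit 8, nat_lit 3, nat_lit 1, nat_lit 9, nat_lit 15, nat_lit 13, nat_lit 18] (Rl.cmp (nat_lit 3010) (nat_lit 3972)))) (FT.leaf (Fct.mk false (nat_lit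 32) (nat_lit 0) (nat_lit 32) [nat_lit 3, nat_lit 8, nat_lit 6, nat_lit 4, nat_lit 5, nat_lit 3, nat_lit 4, nat_lit 2, nat_lit 3, nat_lit 8, nat_lit 1, nat_lit 2, nat_lit 3, nat_lit 4, nat_lit 5, nat_lit 1, nat_lit 8, nat_lit 4, nat_lit 3, nat_lit 2, nat_lit 0, nat_lit 1, nat_lit 9, nat_lit 4, nat_lit 3, nat_lit 2, nat_lit 8, nat_lit 3, nat_lit 11, nat_lit 2, nat_lit 10, nat_lit 1, nat_lit 16, nat_lit 14, nat_lit 18, nat_lit 16] (Rl.cmp (nat_lit 3047) (nat_lit 3004))))))))) (FT.node (nat_lit 3987) (FT.node (nat_lit 3981) (FT.node (nat_lit 3978) (FT.node (nat_lit 3976) (FT.leaf (Fct.mk false (nat_lit 32) (nat_lit 0) (nat_lit 32) [nat_lit 3, nat_lit 4, nat_lit 2, nat_lit 3, nat_lit 8, nat_lit 5, nat_lit 6, nat_lit 4, nat_lit 5, nat_lit 3, nat_lit 4, nat_lit 2, nat_lit 3, nat_lit 8, nat_lit 1, nat_lit 2, nat_lit 3, nat_lit 4, nat_lit 5, nat_lit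 2, nat_lit 1, nat_lit 8, nat_lit 3, nat_lit 2, nat_lit 0, nat_lit 1, nat_lit 4, nat_lit 3, nat_lit 2, nat_lit 8, nat_lit 3, nat_lit 10, nat_lit 12, nat_lit 15, nat_lit 14, nat_lit 18, nat_lit 16] (Rl.cmp (nat_lit 3010) (nat_lit 3974)))) (FT.node (nat_lit 3977) (FT.leaf (Fct.mk true (nat_lit 32) (nat_lit 10885) (nat_lit 32) [nat_lit 5, nat_lit 6, nat_lit 4, nat_lit 5, nat_lit 3, nat_lit 4, nat_lit 1, nat_lit 2, nat_lit 3, nat_lit 8, nat_lit 0, nat_lit 1, nat_lit 2, nat_lit 3, nat_lit 4, nat_lit 5, nat_lit 6, nat_lit 7, nat_lit 8, nat_lit 3, nat_lit 4, nat_lit 5, nat_lit 1, nat_lit 4, nat_lit 3, nat_lit 2, nat_lit 8, nat_lit 3, nat_lit 8, nat_lit 10, nat_lit 0, nat_lit 8, nat_lit 12, nat_lit 15, nat_lit 16, nat_lit 8, nat_lit 16] (Rl.rel (nat_lit 0) [nat_lit 5, nat_lit 4, nat_lit 1, nat_lit 2, nat_lit 3, nat_lit 8, nat_lit 0, nat_lit 1, nat_lit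 2, nat_lit 3, nat_lit 4, nat_lit 5, nat_lit 6, nat_lit 7, nat_lit 6, nat_lit 8, nat_lit 3, nat_lit 2, nat_lit 0, nat_lit 1, nat_lit 4, nat_lit 3, nat_lit 2, nat_lit 8, nat_lit 3, nat_lit 15, nat_lit 14, nat_lit 18, nat_lit 16] (nat_lit 32) (nat_lit 2) [nat_lit 3931, nat_lit 3973, nat_lit 3957] []))) (FT.leaf (Fct.mk true (nat_lit 32) (nat_lit 1777) (nat_lit 32) [nat_lit 3, nat_lit 4, nat_lit 1, nat_lit 2, nat_lit 3, nat_lit 8, nat_lit 0, nat_lit 1, nat_lit 2, nat_lit 3, nat_lit 4, nat_lit 5, nat_lit 6, nat_lit 7, nat_lit 1, nat_lit 2, nat_lit 3, nat_lit 0, nat_lit 15, nat_lit 16, nat_lit 8, nat_lit 18, nat_lit 16] (Rl.t1 (nat_lit 3976) (nat_lit 3975)))))) (FT.node (nat_lit 3979) (FT.leaf (Fct.mk false (nat_lit 32) (nat_lit 0) (nat_lit 32) [nat_lit 0, nat_lit 1, nat_lit 2, nat_lit 3, nat_lit 4, nat_lit 5, nat_lit 3, nat_lit 8, nat_lit 4, nat_lit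 3, nat_lit 2, nat_lit 0, nat_lit 1, nat_lit 9, nat_lit 4, nat_lit 3, nat_lit 2, nat_lit 8, nat_lit 3, nat_lit 15, nat_lit 17, nat_lit 16] (Rl.cmp (nat_lit 3004) (nat_lit 2995)))) (FT.node (nat_lit 3980) (FT.leaf (Fct.mk false (nat_lit 32) (nat_lit 0) (nat_lit 32) [nat_lit 1, nat_lit 2, nat_lit 3, nat_lit 8, nat_lit 4, nat_lit 5, nat_lit 3, nat_lit 4, nat_lit 2, nat_lit 3, nat_lit 8, nat_lit 1, nat_lit 2, nat_lit 3, nat_lit 4, nat_lit 5, nat_lit 2, nat_lit 8, nat_lit 3, nat_lit 10, nat_lit 8, nat_lit 18] (Rl.cmp (nat_lit 3010) (nat_lit 3010)))) (FT.leaf (Fct.mk false (nat_lit 32) (nat_lit 0) (nat_lit 32) [nat_lit 3, nat_lit 8, nat_lit 5, nat_lit 2, nat_lit 3, nat_lit 4, nat_lit 1, nat_lit 2, nat_lit 3, nat_lit 8, nat_lit 6, nat_lit 7, nat_lit 5, nat_lit 6, nat_lit 4, nat_lit 5, nat_lit 3, nat_lit 4, nat_lit 2, nat_lit 3, nat_lit 8, nat_lit 1,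 nat_lit 2, nat_lit 3, nat_lit 4, nat_lit 5, nat_lit 6, nat_lit 7, nat_lit 6, nat_lit 4, nat_lit 5, nat_lit 3, nat_lit 4, nat_lit 2, nat_lit 3, nat_lit 8, nat_lit 1, nat_lit 2, nat_lit 3, nat_lit 4, nat_lit 5, nat_lit 3, nat_lit 8, nat_lit 4, nat_lit 3, nat_lit 2, nat_lit 1, nat_lit 9, nat_lit 4, nat_lit 3, nat_lit 2, nat_lit 8, nat_lit 3, nat_lit 11, nat_lit 2, nat_lit 10, nat_lit 1, nat_lit 17, nat_lit 12, nat_lit 19] (Rl.cmp (nat_lit 3456) (nat_lit 3979))))))) (FT.node (nat_lit 3984) (FT.node (nat_lit 3982) (FT.leaf (Fct.mk false (nat_lit 32) (nat_lit 0) (nat_lit 32) [nat_lit 3, nat_lit 8, nat_lit 5, nat_lit 2, nat_lit 3, nat_lit 4, nat_lit 1, nat_lit 2, nat_lit 3, nat_lit 8, nat_lit 6, nat_lit 7, nat_lit 5, nat_lit 6, nat_lit 4, nat_lit 5, nat_lit 3, nat_lit 4, nat_lit 2, nat_lit 3, nat_lit 8, nat_lit 1, nat_lit 2, nat_lit 3, nat_lit 4,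 nat_lit 5, nat_lit 6, nat_lit 7, nat_lit 8, nat_lit 5, nat_lit 3, nat_lit 4, nat_lit 2, nat_lit 3, nat_lit 8, nat_lit 1, nat_lit 2, nat_lit 3, nat_lit 4, nat_lit 5, nat_lit 11, nat_lit 2, nat_lit 12, nat_lit 8, nat_lit 16, nat_lit 14, nat_lit 13, nat_lit 12, nat_lit 19] (Rl.cmp (nat_lit 2995) (nat_lit 3980)))) (FT.node (nat_lit 3983) (FT.leaf (Fct.mk false (nat_lit 32) (nat_lit 0) (nat_lit 32) [nat_lit 8, nat_lit 1, nat_lit 2, nat_lit 3, nat_lit 4, nat_lit 5, nat_lit 3, nat_lit 2, nat_lit 0, nat_lit 1, nat_lit 9, nat_lit 4, nat_lit 3, nat_lit 2, nat_lit 8, nat_lit 3, nat_lit 8, nat_lit 10, nat_lit 0, nat_lit 16, nat_lit 14, nat_lit 13, nat_lit 12, nat_lit 19] (Rl.cmp (nat_lit 3004) (nat_lit 3047)))) (FT.leaf (Fct.mk false (nat_lit 32) (nat_lit 0) (nat_lit 32) [nat_lit 8, nat_lit 2, nat_lit 3, nat_lit 4, nat_lit 5, nat_lit 1, nat_lit 3, nat_lit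 2, nat_lit 0, nat_lit 1, nat_lit 9, nat_lit 4, nat_lit 3, nat_lit 2, nat_lit 8, nat_lit 3, nat_lit 11, nat_lit 8, nat_lit 10, nat_lit 8, nat_lit 16, nat_lit 14, nat_lit 13, nat_lit 12, nat_lit 16] (Rl.cmp (nat_lit 3010) (nat_lit 3982)))))) (FT.node (nat_lit 3985) (FT.leaf (Fct.mk false (nat_lit 5) (nat_lit 0) (nat_lit 5) [nat_lit 4, nat_lit 3, nat_lit 8, nat_lit 2, nat_lit 3, nat_lit 4, nat_lit 1, nat_lit 2, nat_lit 3, nat_lit 8, nat_lit 6, nat_lit 7, nat_lit 5, nat_lit 6, nat_lit 4, nat_lit 5, nat_lit 3, nat_lit 4, nat_lit 2, nat_lit 3, nat_lit 8, nat_lit 1, nat_lit 2, nat_lit 3, nat_lit 4, nat_lit 5, nat_lit 6, nat_lit 7, nat_lit 5, nat_lit 6, nat_lit 4, nat_lit 5, nat_lit 3, nat_lit 4, nat_lit 2, nat_lit 3, nat_lit 8, nat_lit 1, nat_lit 2, nat_lit 3, nat_lit 4, nat_lit 5, nat_lit 2, nat_lit 3, nat_lit 8, nat_lit 4, nat_lit 3, nat_lit 2,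 nat_lit 0, nat_lit 1, nat_lit 9, nat_lit 4, nat_lit 3, nat_lit 2, nat_lit 8, nat_lit 3, nat_lit 11, nat_lit 10, nat_lit 1, nat_lit 16, nat_lit 12, nat_lit 15, nat_lit 14, nat_lit 16] (Rl.cmp (nat_lit 1859) (nat_lit 2491)))) (FT.node (nat_lit 3986) (FT.leaf (Fct.mk false (nat_lit 5) (nat_lit 0) (nat_lit 5) [nat_lit 8, nat_lit 4, nat_lit 5, nat_lit 2, nat_lit 3, nat_lit 4, nat_lit 1, nat_lit 2, nat_lit 3, nat_lit 8, nat_lit 6, nat_lit 7, nat_lit 5, nat_lit 6, nat_lit 4, nat_lit 5, nat_lit 3, nat_lit 4, nat_lit 2, nat_lit 3, nat_lit 8, nat_lit 1, nat_lit 2, nat_lit 3, nat_lit 4, nat_lit 5, nat_lit 6, nat_lit 7, nat_lit 6, nat_lit 5, nat_lit 3, nat_lit 4, nat_lit 2, nat_lit 3, nat_lit 8, nat_lit 1, nat_lit 2, nat_lit 3, nat_lit 4, nat_lit 5, nat_lit 1, nat_lit 9, nat_lit 4, nat_lit 3, nat_lit 2, nat_lit 8, nat_lit 3, nat_lit 9, nat_lit 2, nat_lit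 8, nat_lit 19, nat_lit 16] (Rl.cmp (nat_lit 2094) (nat_lit 3984)))) (FT.leaf (Fct.mk false (nat_lit 5) (nat_lit 0) (nat_lit 5) [nat_lit 2, nat_lit 3, nat_lit 8, nat_lit 4, nat_lit 5, nat_lit 3, nat_lit 4, nat_lit 2, nat_lit 3, nat_lit 8, nat_lit 6, nat_lit 7, nat_lit 5, nat_lit 6, nat_lit 4, nat_lit 5, nat_lit 3, nat_lit 4, nat_lit 2, nat_lit 3, nat_lit 8, nat_lit 1, nat_lit 2, nat_lit 3, nat_lit 4, nat_lit 5, nat_lit 6, nat_lit 7, nat_lit 6, nat_lit 5, nat_lit 4, nat_lit 3, nat_lit 8, nat_lit 1, nat_lit 2, nat_lit 3, nat_lit 4, nat_lit 5, nat_lit 1, nat_lit 9, nat_lit 4, nat_lit 3, nat_lit 2, nat_lit 8, nat_lit 3, nat_lit 9, nat_lit 2, nat_lit 8, nat_lit 12, nat_lit 15, nat_lit 12, nat_lit 19, nat_lit 16] (Rl.cmp (nat_lit 511) (nat_lit 3985)))))))) (FT.node (nat_lit 3993) (FT.node (nat_lit 3990) (FT.node (nat_lit 3988) (FT.leaf (Fct.mk true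 (nat_lit 32) (nat_lit 99037) (nat_lit 5) [nat_lit 8, nat_lit 1, nat_lit 2, nat_lit 3, nat_lit 4, nat_lit 5, nat_lit 6, nat_lit 7, nat_lit 8, nat_lit 5, nat_lit 3, nat_lit 4, nat_lit 2, nat_lit 3, nat_lit 8, nat_lit 0, nat_lit 1, nat_lit 2, nat_lit 3, nat_lit 4, nat_lit 5, nat_lit 4, nat_lit 3, nat_lit 2, nat_lit 1, nat_lit 9, nat_lit 4, nat_lit 3, nat_lit 2, nat_lit 8, nat_lit 3, nat_lit 10, nat_lit 16, nat_lit 12, nat_lit 15, nat_lit 14, nat_lit 13, nat_lit 12, nat_lit 16] (Rl.rel (nat_lit 0) [nat_lit 6, nat_lit 5, nat_lit 4, nat_lit 3, nat_lit 8, nat_lit 0, nat_lit 1, nat_lit 2, nat_lit 3, nat_lit 4, nat_lit 5, nat_lit 6, nat_lit 7, nat_lit 6, nat_lit 1, nat_lit 3, nat_lit 8, nat_lit 4, nat_lit 3, nat_lit 2, nat_lit 0, nat_lit 1, nat_lit 9, nat_lit 4, nat_lit 3, nat_lit 2, nat_lit 8, nat_lit 3, nat_lit 11, nat_lit 8, nat_lit 10, nat_lit 12,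 nat_lit 15, nat_lit 14, nat_lit 18, nat_lit 16] (nat_lit 32) (nat_lit 1) [nat_lit 3931] [nat_lit 3983, nat_lit 3303]))) (FT.node (nat_lit 3989) (FT.leaf (Fct.mk true (nat_lit 32) (nat_lit 50) (nat_lit 5) [nat_lit 4, nat_lit 3, nat_lit 8, nat_lit 6, nat_lit 7, nat_lit 5, nat_lit 6, nat_lit 4, nat_lit 5, nat_lit 3, nat_lit 4, nat_lit 2, nat_lit 3, nat_lit 8, nat_lit 0, nat_lit 1, nat_lit 2, nat_lit 3, nat_lit 4, nat_lit 5, nat_lit 6, nat_lit 7, nat_lit 8, nat_lit 0, nat_lit 1, nat_lit 2, nat_lit 3, nat_lit 4, nat_lit 5, nat_lit 9, nat_lit 4, nat_lit 3, nat_lit 2, nat_lit 8, nat_lit 3, nat_lit 0, nat_lit 17, nat_lit 16] (Rl.t1 (nat_lit 3987) (nat_lit 3981)))) (FT.leaf (Fct.mk true (nat_lit 5) (nat_lit 109768) (nat_lit 32) [nat_lit 2, nat_lit 3, nat_lit 8, nat_lit 4, nat_lit 5, nat_lit 3, nat_lit 4, nat_lit 2, nat_lit 3, nat_lit 8, nat_lit 6, nat_lit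 7, nat_lit 5, nat_lit 6, nat_lit 4, nat_lit 5, nat_lit 3, nat_lit 4, nat_lit 2, nat_lit 3, nat_lit 8, nat_lit 1, nat_lit 2, nat_lit 3, nat_lit 4, nat_lit 5, nat_lit 6, nat_lit 7, nat_lit 5, nat_lit 1, nat_lit 3, nat_lit 2, nat_lit 0, nat_lit 1, nat_lit 9, nat_lit 4, nat_lit 3, nat_lit 2, nat_lit 8, nat_lit 3, nat_lit 2, nat_lit 8, nat_lit 10, nat_lit 1, nat_lit 16, nat_lit 12, nat_lit 15, nat_lit 14, nat_lit 12, nat_lit 19, nat_lit 16] (Rl.inv (nat_lit 3988)))))) (FT.node (nat_lit 3991) (FT.leaf (Fct.mk true (nat_lit 5) (nat_lit 217) (nat_lit 32) [nat_lit 4, nat_lit 2, nat_lit 3, nat_lit 8, nat_lit 0, nat_lit 1, nat_lit 2, nat_lit 3, nat_lit 4, nat_lit 5, nat_lit 8, nat_lit 3, nat_lit 2, nat_lit 1, nat_lit 9, nat_lit 4, nat_lit 3, nat_lit 2, nat_lit 8, nat_lit 3, nat_lit 2, nat_lit 10, nat_lit 1, nat_lit 12, nat_lit 8, nat_lit 16, nat_lit 14,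 nat_lit 19] (Rl.t1 (nat_lit 3989) (nat_lit 3986)))) (FT.node (nat_lit 3992) (FT.leaf (Fct.mk false (nat_lit 32) (nat_lit 0) (nat_lit 32) [nat_lit 3, nat_lit 8, nat_lit 5, nat_lit 2, nat_lit 3, nat_lit 4, nat_lit 1, nat_lit 2, nat_lit 3, nat_lit 8, nat_lit 6, nat_lit 7, nat_lit 5, nat_lit 6, nat_lit 4, nat_lit 5, nat_lit 3, nat_lit 4, nat_lit 2, nat_lit 3, nat_lit 8, nat_lit 1, nat_lit 2, nat_lit 3, nat_lit 4, nat_lit 5, nat_lit 6, nat_lit 7, nat_lit 8, nat_lit 3, nat_lit 4, nat_lit 2, nat_lit 3, nat_lit 8, nat_lit 1, nat_lit 2, nat_lit 3, nat_lit 4, nat_lit 5, nat_lit 0, nat_lit 1, nat_lit 2, nat_lit 8, nat_lit 3, nat_lit 0, nat_lit 17, nat_lit 12, nat_lit 16] (Rl.cmp (nat_lit 3004) (nat_lit 3697)))) (FT.leaf (Fct.mk false (nat_lit 32) (nat_lit 0) (nat_lit 32) [nat_lit 3, nat_lit 8, nat_lit 5, nat_lit 2, nat_lit 3, nat_lit 4, nat_lit 1, nat_lit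 2, nat_lit 3, nat_lit 8, nat_lit 6, nat_lit 7, nat_lit 5, nat_lit 6, nat_lit 4, nat_lit 5, nat_lit 3, nat_lit 4, nat_lit 2, nat_lit 3, nat_lit 8, nat_lit 1, nat_lit 2, nat_lit 3, nat_lit 4, nat_lit 5, nat_lit 6, nat_lit 7, nat_lit 2, nat_lit 3, nat_lit 8, nat_lit 1, nat_lit 2, nat_lit 3, nat_lit 4, nat_lit 5, nat_lit 0, nat_lit 1, nat_lit 2, nat_lit 8, nat_lit 3, nat_lit 16, nat_lit 12, nat_lit 15, nat_lit 14, nat_lit 8, nat_lit 19, nat_lit 16] (Rl.cmp (nat_lit 3010) (nat_lit 3991))))))) (FT.node (nat_lit 3996) (FT.node (nat_lit 3994) (FT.leaf (Fct.mk false (nat_lit 32) (nat_lit 0) (nat_lit 32) [nat_lit 5, nat_lit 4, nat_lit 3, nat_lit 8, nat_lit 2, nat_lit 3, nat_lit 4, nat_lit 5, nat_lit 4, nat_lit 3, nat_lit 2, nat_lit 8, nat_lit 3, nat_lit 11, nat_lit 2, nat_lit 13, nat_lit 19] (Rl.cmp (nat_lit 3047) (nat_lit 3010)))) (FT.node (nat_lit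 3995) (FT.leaf (Fct.mk false (nat_lit 32) (nat_lit 0) (nat_lit 32) [nat_lit 5, nat_lit 6, nat_lit 4, nat_lit 5, nat_lit 3, nat_lit 4, nat_lit 2, nat_lit 3, nat_lit 8, nat_lit 1, nat_lit 2, nat_lit 3, nat_lit 4, nat_lit 5, nat_lit 2, nat_lit 1, nat_lit 8, nat_lit 3, nat_lit 2, nat_lit 0, nat_lit 1, nat_lit 9, nat_lit 4, nat_lit 3, nat_lit 2, nat_lit 8, nat_lit 3, nat_lit 12, nat_lit 15, nat_lit 14, nat_lit 17, nat_lit 16] (Rl.cmp (nat_lit 3004) (nat_lit 3993)))) (FT.leaf (Fct.mk false (nat_lit 5) (nat_lit 0) (nat_lit 5) [nat_lit 4, nat_lit 3, nat_lit 8, nat_lit 2, nat_lit 3, nat_lit 4, nat_lit 1, nat_lit 2, nat_lit 3, nat_lit 8, nat_lit 5, nat_lit 6, nat_lit 4, nat_lit 5, nat_lit 3, nat_lit 4, nat_lit 2, nat_lit 3, nat_lit 8, nat_lit 1, nat_lit 2, nat_lit 3, nat_lit 4, nat_lit 5, nat_lit 1, nat_lit 2, nat_lit 3, nat_lit 8, nat_lit 4, nat_lit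 3, nat_lit 2, nat_lit 1, nat_lit 9, nat_lit 4, nat_lit 3, nat_lit 2, nat_lit 8, nat_lit 3, nat_lit 11, nat_lit 10, nat_lit 1, nat_lit 15, nat_lit 14, nat_lit 8, nat_lit 18, nat_lit 16] (Rl.cmp (nat_lit 1754) (nat_lit 2844)))))) (FT.node (nat_lit 3998) (FT.node (nat_lit 3997) (FT.leaf (Fct.mk false (nat_lit 5) (nat_lit 0) (nat_lit 5) [nat_lit 8, nat_lit 3, nat_lit 4, nat_lit 2, nat_lit 3, nat_lit 8, nat_lit 7, nat_lit 5, nat_lit 6, nat_lit 4, nat_lit 5, nat_lit 3, nat_lit 4, nat_lit 2, nat_lit 3, nat_lit 8, nat_lit 0, nat_lit 1, nat_lit 2, nat_lit 3, nat_lit 4, nat_lit 5, nat_lit 6, nat_lit 7, nat_lit 8, nat_lit 3, nat_lit 4, nat_lit 2, nat_lit 3, nat_lit 8, nat_lit 5, nat_lit 6, nat_lit 4, nat_lit 5, nat_lit 3, nat_lit 4, nat_lit 2, nat_lit 3, nat_lit 8, nat_lit 0, nat_lit 1, nat_lit 2, nat_lit 3, nat_lit 4, nat_lit 5, nat_lit 3, nat_lit 8,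 nat_lit 4, nat_lit 3, nat_lit 2, nat_lit 0, nat_lit 1, nat_lit 9, nat_lit 4, nat_lit 3, nat_lit 2, nat_lit 8, nat_lit 3, nat_lit 10, nat_lit 1, nat_lit 12, nat_lit 8, nat_lit 16, nat_lit 14, nat_lit 8, nat_lit 19] (Rl.cmp (nat_lit 2491) (nat_lit 3995)))) (FT.leaf (Fct.mk false (nat_lit 5) (nat_lit 0) (nat_lit 5) [nat_lit 8, nat_lit 3, nat_lit 4, nat_lit 2, nat_lit 3, nat_lit 8, nat_lit 7, nat_lit 5, nat_lit 6, nat_lit 4, nat_lit 5, nat_lit 3, nat_lit 4, nat_lit 2, nat_lit 3, nat_lit 8, nat_lit 0, nat_lit 1, nat_lit 2, nat_lit 3, nat_lit 4, nat_lit 5, nat_lit 6, nat_lit 7, nat_lit 0, nat_lit 1, nat_lit 2, nat_lit 3, nat_lit 4, nat_lit 5, nat_lit 3, nat_lit 2, nat_lit 1, nat_lit 8, nat_lit 3, nat_lit 2, nat_lit 0, nat_lit 1, nat_lit 4, nat_lit 3, nat_lit 2, nat_lit 8, nat_lit 3, nat_lit 10, nat_lit 1, nat_lit 8, nat_lit 12, nat_lit 15, nat_lit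 14, nat_lit 18] (Rl.cmp (nat_lit 493) (nat_lit 3996))))) (FT.node (nat_lit 3999) (FT.leaf (Fct.mk false (nat_lit 32) (nat_lit 0) (nat_lit 32) [nat_lit 5, nat_lit 4, nat_lit 3, nat_lit 8, nat_lit 0, nat_lit 1, nat_lit 2, nat_lit 3, nat_lit 4, nat_lit 5, nat_lit 2, nat_lit 0, nat_lit 1, nat_lit 4, nat_lit 3, nat_lit 2, nat_lit 8, nat_lit 3, nat_lit 10, nat_lit 2, nat_lit 8, nat_lit 10, nat_lit 1, nat_lit 16, nat_lit 15, nat_lit 14, nat_lit 16, nat_lit 8] (Rl.cmp (nat_lit 3004) (nat_lit 3004)))) (FT.leaf (Fct.mk false (nat_lit 32) (nat_lit 0) (nat_lit 32) [nat_lit 3, nat_lit 8, nat_lit 5, nat_lit 2, nat_lit 3, nat_lit 4, nat_lit 1, nat_lit 2, nat_lit 3, nat_lit 8, nat_lit 6, nat_lit 7, nat_lit 5, nat_lit 6, nat_lit 4, nat_lit 5, nat_lit 3, nat_lit 4, nat_lit 2, nat_lit 3, nat_lit 8, nat_lit 1, nat_lit 2, nat_lit 3, nat_lit 4, nat_lit 5, nat_lit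 6, nat_lit 7, nat_lit 4, nat_lit 2, nat_lit 3, nat_lit 8, nat_lit 5, nat_lit 6, nat_lit 4, nat_lit 5, nat_lit 3, nat_lit 4, nat_lit 2, nat_lit 3, nat_lit 8, nat_lit 1, nat_lit 2, nat_lit 3, nat_lit 4, nat_lit 5, nat_lit 3, nat_lit 2, nat_lit 0, nat_lit 1, nat_lit 9, nat_lit 4, nat_lit 3, nat_lit 2, nat_lit 8, nat_lit 3, nat_lit 1, nat_lit 9, nat_lit 8, nat_lit 16, nat_lit 15, nat_lit 14, nat_lit 13, nat_lit 16] (Rl.cmp (nat_lit 3456) (nat_lit 3998)))))))))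

/-- some facts -/
noncomputable def ftc80 : FT := FT.node (nat_lit 4025) (FT.node (nat_lit 4012) (FT.node (nat_lit 4006) (FT.node (nat_lit 4003) (FT.node (nat_lit 4001) (FT.leaf (Fct.mk false (nat_lit 32) (nat_lit 0) (nat_lit 32) [nat_lit 3, nat_lit 8, nat_lit 5, nat_lit 2, nat_lit 3, nat_lit 4, nat_lit 1, nat_lit 2, nat_lit 3, nat_lit 8, nat_lit 6, nat_lit 7, nat_lit 5, nat_lit 6, nat_lit 4, nat_lit 5, nat_lit 3, nat_lit 4, nat_lit 2, nat_lit 3, nat_lit 8, nat_lit 1, nat_lit 2, nat_lit 3, nat_lit 4, nat_lit 5, nat_lit 6, nat_lit 7, nat_lit 4, nat_lit 2, nat_lit 3, nat_lit 8, nat_lit 0, nat_lit 1, nat_lit 2, nat_lit 3, nat_lit 4, nat_lit 5, nat_lit 1, nat_lit 2, nat_lit 0, nat_lit 1, nat_lit 9, nat_lit 4, nat_lit 3, nat_lit 2, nat_lit 8, nat_lit 3, nat_lit 10, nat_lit 2, nat_lit 8, nat_lit 10, nat_lit 1, nat_lit 8, nat_lit 12, nat_lit 15,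 nat_lit 12, nat_lit 19, nat_lit 16] (Rl.cmp (nat_lit 3004) (nat_lit 3999)))) (FT.node (nat_lit 4002) (FT.leaf (Fct.mk false (nat_lit 32) (nat_lit 0) (nat_lit 32) [nat_lit 3, nat_lit 8, nat_lit 5, nat_lit 2, nat_lit 3, nat_lit 4, nat_lit 1, nat_lit 2, nat_lit 3, nat_lit 8, nat_lit 6, nat_lit 7, nat_lit 5, nat_lit 6, nat_lit 4, nat_lit 5, nat_lit 3, nat_lit 4, nat_lit 2, nat_lit 3, nat_lit 8, nat_lit 1, nat_lit 2, nat_lit 3, nat_lit 4, nat_lit 5, nat_lit 6, nat_lit 7, nat_lit 2, nat_lit 3, nat_lit 8, nat_lit 5, nat_lit 6, nat_lit 4, nat_lit 5, nat_lit 3, nat_lit 4, nat_lit 2, nat_lit 3, nat_lit 8, nat_lit 0, nat_lit 1, nat_lit 2, nat_lit 3, nat_lit 4, nat_lit 5, nat_lit 3, nat_lit 11, nat_lit 10, nat_lit 1, nat_lit 15, nat_lit 12] (Rl.cmp (nat_lit 3004) (nat_lit 4000)))) (FT.leaf (Fct.mk false (nat_lit 32) (nat_lit 0) (nat_lit 32) [nat_lit 2,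 nat_lit 3, nat_lit 8, nat_lit 6, nat_lit 4, nat_lit 5, nat_lit 3, nat_lit 4, nat_lit 2, nat_lit 3, nat_lit 8, nat_lit 0, nat_lit 1, nat_lit 2, nat_lit 3, nat_lit 4, nat_lit 5, nat_lit 2, nat_lit 1, nat_lit 8, nat_lit 4, nat_lit 3, nat_lit 2, nat_lit 0, nat_lit 1, nat_lit 9, nat_lit 4, nat_lit 3, nat_lit 2, nat_lit 8, nat_lit 3, nat_lit 10, nat_lit 1, nat_lit 16, nat_lit 14, nat_lit 13, nat_lit 12, nat_lit 19] (Rl.cmp (nat_lit 3456) (nat_lit 4001)))))) (FT.node (nat_lit 4004) (FT.leaf (Fct.mk false (nat_lit 32) (nat_lit 0) (nat_lit 32) [nat_lit 4, nat_lit 3, nat_lit 2, nat_lit 1, nat_lit 9, nat_lit 4, nat_lit 3, nat_lit 2, nat_lit 8, nat_lit 3, nat_lit 9, nat_lit 10, nat_lit 2, nat_lit 8, nat_lit 10, nat_lit 1, nat_lit 12, nat_lit 8, nat_lit 16, nat_lit 14] (Rl.cmp (nat_lit 3004) (nat_lit 4002)))) (FT.node (nat_lit 4005) (FT.leaf (Fct.mk true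 (nat_lit 5) (nat_lit 19691) (nat_lit 32) [nat_lit 8, nat_lit 3, nat_lit 4, nat_lit 2, nat_lit 3, nat_lit 8, nat_lit 7, nat_lit 5, nat_lit 6, nat_lit 4, nat_lit 5, nat_lit 3, nat_lit 4, nat_lit 2, nat_lit 3, nat_lit 8, nat_lit 0, nat_lit 1, nat_lit 2, nat_lit 3, nat_lit 4, nat_lit 5, nat_lit 6, nat_lit 7, nat_lit 6, nat_lit 1, nat_lit 3, nat_lit 2, nat_lit 0, nat_lit 1, nat_lit 9, nat_lit 4, nat_lit 3, nat_lit 2, nat_lit 8, nat_lit 3, nat_lit 11, nat_lit 10, nat_lit 8, nat_lit 16, nat_lit 14, nat_lit 13, nat_lit 18, nat_lit 16] (Rl.rel (nat_lit 0) [nat_lit 0, nat_lit 1, nat_lit 2, nat_lit 3, nat_lit 4, nat_lit 5, nat_lit 6, nat_lit 7, nat_lit 6, nat_lit 1, nat_lit 3, nat_lit 2, nat_lit 0, nat_lit 1, nat_lit 4, nat_lit 3, nat_lit 2, nat_lit 8, nat_lit 3, nat_lit 8, nat_lit 10, nat_lit 15, nat_lit 14, nat_lit 18, nat_lit 16] (nat_lit 32) (nat_lit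 2) [nat_lit 3931, nat_lit 3994, nat_lit 3814] []))) (FT.leaf (Fct.mk true (nat_lit 5) (nat_lit 19) (nat_lit 32) [nat_lit 6, nat_lit 1, nat_lit 3, nat_lit 2, nat_lit 8, nat_lit 3, nat_lit 10, nat_lit 9, nat_lit 2, nat_lit 8, nat_lit 16, nat_lit 14, nat_lit 16, nat_lit 8, nat_lit 19] (Rl.t1 (nat_lit 4004) (nat_lit 3997))))))) (FT.node (nat_lit 4009) (FT.node (nat_lit 4007) (FT.leaf (Fct.mk true (nat_lit 32) (nat_lit 148) (nat_lit 5) [nat_lit 6, nat_lit 5, nat_lit 4, nat_lit 3, nat_lit 8, nat_lit 2, nat_lit 3, nat_lit 4, nat_lit 5, nat_lit 2, nat_lit 1, nat_lit 3, nat_lit 2, nat_lit 8, nat_lit 3, nat_lit 2, nat_lit 8, nat_lit 10, nat_lit 1, nat_lit 14, nat_lit 8] (Rl.inv (nat_lit 4005)))) (FT.node (nat_lit 4008) (FT.leaf (Fct.mk true (nat_lit 32) (nat_lit 0) (nat_lit 5) [nat_lit 6, nat_lit 3, nat_lit 2, nat_lit 8, nat_lit 3, nat_lit 8, nat_lit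 18] (Rl.t1 (nat_lit 4006) (nat_lit 4003)))) (FT.leaf (Fct.mk false (nat_lit 32) (nat_lit 0) (nat_lit 32) [nat_lit 5, nat_lit 4, nat_lit 3, nat_lit 8, nat_lit 2, nat_lit 3, nat_lit 4, nat_lit 5, nat_lit 2, nat_lit 1, nat_lit 4, nat_lit 3, nat_lit 2, nat_lit 8, nat_lit 3, nat_lit 8, nat_lit 10, nat_lit 14, nat_lit 12, nat_lit 18] (Rl.cmp (nat_lit 3010) (nat_lit 2995)))))) (FT.node (nat_lit 4010) (FT.leaf (Fct.mk false (nat_lit 32) (nat_lit 0) (nat_lit 32) [nat_lit 5, nat_lit 6, nat_lit 4, nat_lit 5, nat_lit 3, nat_lit 4, nat_lit 2, nat_lit 3, nat_lit 8, nat_lit 1, nat_lit 2, nat_lit 3, nat_lit 4, nat_lit 5, nat_lit 1, nat_lit 4, nat_lit 3, nat_lit 2, nat_lit 8, nat_lit 3, nat_lit 11, nat_lit 10, nat_lit 1, nat_lit 12, nat_lit 15, nat_lit 14, nat_lit 18, nat_lit 16] (Rl.cmp (nat_lit 3004) (nat_lit 4008)))) (FT.node (nat_lit 4011) (FT.leaf (Fct.mk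 false (nat_lit 32) (nat_lit 0) (nat_lit 32) [nat_lit 5, nat_lit 4, nat_lit 2, nat_lit 3, nat_lit 8, nat_lit 0, nat_lit 1, nat_lit 2, nat_lit 3, nat_lit 4, nat_lit 5, nat_lit 8, nat_lit 4, nat_lit 3, nat_lit 2, nat_lit 1, nat_lit 9, nat_lit 4, nat_lit 3, nat_lit 2, nat_lit 8, nat_lit 3, nat_lit 0, nat_lit 12, nat_lit 15, nat_lit 14, nat_lit 17, nat_lit 12] (Rl.cmp (nat_lit 3047) (nat_lit 4009)))) (FT.leaf (Fct.mk false (nat_lit 32) (nat_lit 0) (nat_lit 32) [nat_lit 3, nat_lit 4, nat_lit 2, nat_lit 3, nat_lit 8, nat_lit 0, nat_lit 1, nat_lit 2, nat_lit 3, nat_lit 4, nat_lit 5, nat_lit 1, nat_lit 8, nat_lit 3, nat_lit 2, nat_lit 0, nat_lit 1, nat_lit 9, nat_lit 4, nat_lit 3, nat_lit 2, nat_lit 8, nat_lit 3, nat_lit 9, nat_lit 15, nat_lit 14, nat_lit 12, nat_lit 18] (Rl.cmp (nat_lit 3010) (nat_lit 4010)))))))) (FT.node (nat_lit 4018) (FT.node (nat_lit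 4015) (FT.node (nat_lit 4013) (FT.leaf (Fct.mk false (nat_lit 32) (nat_lit 0) (nat_lit 32) [nat_lit 3, nat_lit 8, nat_lit 5, nat_lit 2, nat_lit 3, nat_lit 4, nat_lit 1, nat_lit 2, nat_lit 3, nat_lit 8, nat_lit 6, nat_lit 7, nat_lit 5, nat_lit 6, nat_lit 4, nat_lit 5, nat_lit 3, nat_lit 4, nat_lit 2, nat_lit 3, nat_lit 8, nat_lit 1, nat_lit 2, nat_lit 3, nat_lit 4, nat_lit 5, nat_lit 6, nat_lit 7, nat_lit 8, nat_lit 6, nat_lit 5, nat_lit 3, nat_lit 4, nat_lit 2, nat_lit 3, nat_lit 8, nat_lit 1, nat_lit 2, nat_lit 3, nat_lit 4, nat_lit 5, nat_lit 8, nat_lit 3, nat_lit 2, nat_lit 1, nat_lit 9, nat_lit 4, nat_lit 3, nat_lit 2, nat_lit 8, nat_lit 3, nat_lit 8, nat_lit 10, nat_lit 9, nat_lit 2, nat_lit 8, nat_lit 16, nat_lit 14, nat_lit 8] (Rl.cmp (nat_lit 3047) (nat_lit 3924)))) (FT.node (nat_lit 4014) (FT.leaf (Fct.mk false (nat_lit 32) (nat_lit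 0) (nat_lit 32) [nat_lit 3, nat_lit 8, nat_lit 5, nat_lit 2, nat_lit 3, nat_lit 4, nat_lit 1, nat_lit 2, nat_lit 3, nat_lit 8, nat_lit 6, nat_lit 7, nat_lit 5, nat_lit 6, nat_lit 4, nat_lit 5, nat_lit 3, nat_lit 4, nat_lit 2, nat_lit 3, nat_lit 8, nat_lit 1, nat_lit 2, nat_lit 3, nat_lit 4, nat_lit 5, nat_lit 6, nat_lit 7, nat_lit 8, nat_lit 3, nat_lit 4, nat_lit 2, nat_lit 3, nat_lit 8, nat_lit 1, nat_lit 2, nat_lit 3, nat_lit 4, nat_lit 5, nat_lit 1, nat_lit 2, nat_lit 0, nat_lit 1, nat_lit 4, nat_lit 3, nat_lit 2, nat_lit 8, nat_lit 3, nat_lit 2, nat_lit 8, nat_lit 10, nat_lit 1, nat_lit 12, nat_lit 15, nat_lit 14, nat_lit 13, nat_lit 12, nat_lit 16] (Rl.cmp (nat_lit 3004) (nat_lit 4012)))) (FT.leaf (Fct.mk false (nat_lit 32) (nat_lit 0) (nat_lit 32) [nat_lit 3, nat_lit 4, nat_lit 2, nat_lit 3, nat_lit 8, nat_lit 0, nat_lit 1, nat_lit 2,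 nat_lit 3, nat_lit 4, nat_lit 5, nat_lit 1, nat_lit 2, nat_lit 0, nat_lit 1, nat_lit 9, nat_lit 4, nat_lit 3, nat_lit 2, nat_lit 8, nat_lit 3, nat_lit 2, nat_lit 12, nat_lit 8, nat_lit 16, nat_lit 14, nat_lit 13, nat_lit 12, nat_lit 18, nat_lit 16] (Rl.cmp (nat_lit 3456) (nat_lit 4013)))))) (FT.node (nat_lit 4016) (FT.leaf (Fct.mk false (nat_lit 32) (nat_lit 0) (nat_lit 32) [nat_lit 3, nat_lit 8, nat_lit 6, nat_lit 4, nat_lit 5, nat_lit 3, nat_lit 4, nat_lit 2, nat_lit 3, nat_lit 8, nat_lit 1, nat_lit 2, nat_lit 3, nat_lit 4, nat_lit 5, nat_lit 2, nat_lit 0, nat_lit 1, nat_lit 9, nat_lit 4, nat_lit 3, nat_lit 2, nat_lit 8, nat_lit 3, nat_lit 0, nat_lit 2, nat_lit 16, nat_lit 12, nat_lit 15, nat_lit 14, nat_lit 13, nat_lit 18] (Rl.cmp (nat_lit 3004) (nat_lit 4014)))) (FT.node (nat_lit 4017) (FT.leaf (Fct.mk false (nat_lit 32) (nat_lit 0) (nat_lit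 32) [nat_lit 5, nat_lit 4, nat_lit 3, nat_lit 8, nat_lit 0, nat_lit 1, nat_lit 2, nat_lit 3, nat_lit 4, nat_lit 5, nat_lit 2, nat_lit 0, nat_lit 1, nat_lit 4, nat_lit 3, nat_lit 2, nat_lit 8, nat_lit 3, nat_lit 10, nat_lit 2, nat_lit 8, nat_lit 10, nat_lit 1, nat_lit 16, nat_lit 15, nat_lit 14, nat_lit 16, nat_lit 8] (Rl.cmp (nat_lit 3004) (nat_lit 3004)))) (FT.leaf (Fct.mk false (nat_lit 32) (nat_lit 0) (nat_lit 32) [nat_lit 0, nat_lit 1, nat_lit 2, nat_lit 3, nat_lit 4, nat_lit 5, nat_lit 3, nat_lit 2, nat_lit 0, nat_lit 1, nat_lit 4, nat_lit 3, nat_lit 2, nat_lit 8, nat_lit 3, nat_lit 0, nat_lit 2, nat_lit 8, nat_lit 16, nat_lit 14, nat_lit 13, nat_lit 12, nat_lit 18, nat_lit 16] (Rl.cmp (nat_lit 3010) (nat_lit 4016))))))) (FT.node (nat_lit 4021) (FT.node (nat_lit 4019) (FT.leaf (Fct.mk false (nat_lit 32) (nat_lit 0) (nat_lit 32) [nat_lit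 2, nat_lit 3, nat_lit 4, nat_lit 1, nat_lit 2, nat_lit 3, nat_lit 8, nat_lit 0, nat_lit 1, nat_lit 2, nat_lit 3, nat_lit 4, nat_lit 5, nat_lit 1, nat_lit 4, nat_lit 3, nat_lit 2, nat_lit 8, nat_lit 3, nat_lit 2, nat_lit 10, nat_lit 1, nat_lit 16, nat_lit 14, nat_lit 8, nat_lit 18] (Rl.cmp (nat_lit 3010) (nat_lit 4017)))) (FT.node (nat_lit 4020) (FT.leaf (Fct.mk false (nat_lit 32) (nat_lit 0) (nat_lit 32) [nat_lit 3, nat_lit 4, nat_lit 1, nat_lit 2, nat_lit 3, nat_lit 8, nat_lit 5, nat_lit 6, nat_lit 4, nat_lit 5, nat_lit 3, nat_lit 4, nat_lit 2, nat_lit 3, nat_lit 8, nat_lit 1, nat_lit 2, nat_lit 3, nat_lit 4, nat_lit 5, nat_lit 2, nat_lit 1, nat_lit 4, nat_lit 3, nat_lit 2, nat_lit 0, nat_lit 1, nat_lit 9, nat_lit 4, nat_lit 3, nat_lit 2, nat_lit 8, nat_lit 3, nat_lit 16, nat_lit 15, nat_lit 14, nat_lit 12, nat_lit 18, nat_lit 16] (Rl.cmp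 (nat_lit 3004) (nat_lit 4018)))) (FT.leaf (Fct.mk true (nat_lit 32) (nat_lit 389) (nat_lit 32) [nat_lit 5, nat_lit 10, nat_lit 9, nat_lit 2, nat_lit 12, nat_lit 15, nat_lit 16] (Rl.rel (nat_lit 0) [nat_lit 6, nat_lit 5, nat_lit 4, nat_lit 3, nat_lit 8, nat_lit 0, nat_lit 1, nat_lit 2, nat_lit 3, nat_lit 4, nat_lit 5, nat_lit 6, nat_lit 7, nat_lit 6, nat_lit 2, nat_lit 3, nat_lit 8, nat_lit 4, nat_lit 3, nat_lit 2, nat_lit 0, nat_lit 1, nat_lit 9, nat_lit 4, nat_lit 3, nat_lit 2, nat_lit 8, nat_lit 3, nat_lit 8, nat_lit 10, nat_lit 12, nat_lit 15, nat_lit 14, nat_lit 18, nat_lit 16] (nat_lit 32) (nat_lit 1) [nat_lit 3931] [nat_lit 4015, nat_lit 3931]))))) (FT.node (nat_lit 4023) (FT.node (nat_lit 4022) (FT.leaf (Fct.mk true (nat_lit 32) (nat_lit 223) (nat_lit 32) [nat_lit 8, nat_lit 4, nat_lit 5, nat_lit 3, nat_lit 4, nat_lit 1, nat_lit 2, nat_lit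 3, nat_lit 8, nat_lit 0, nat_lit 1, nat_lit 2, nat_lit 3, nat_lit 4, nat_lit 5, nat_lit 1, nat_lit 4, nat_lit 3, nat_lit 2, nat_lit 8, nat_lit 3, nat_lit 11, nat_lit 10, nat_lit 8, nat_lit 12, nat_lit 15, nat_lit 14, nat_lit 13, nat_lit 12, nat_lit 19, nat_lit 16] (Rl.t1 (nat_lit 4020) (nat_lit 4011)))) (FT.leaf (Fct.mk true (nat_lit 32) (nat_lit 388) (nat_lit 32) [nat_lit 5, nat_lit 3, nat_lit 4, nat_lit 2, nat_lit 3, nat_lit 8, nat_lit 0, nat_lit 1, nat_lit 2, nat_lit 3, nat_lit 4, nat_lit 5, nat_lit 1, nat_lit 3, nat_lit 2, nat_lit 0, nat_lit 1, nat_lit 9, nat_lit 4, nat_lit 3, nat_lit 2, nat_lit 8, nat_lit 3, nat_lit 9, nat_lit 15, nat_lit 12, nat_lit 18] (Rl.inv (nat_lit 4021))))) (FT.node (nat_lit 4024) (FT.leaf (Fct.mk true (nat_lit 32) (nat_lit 26) (nat_lit 32) [nat_lit 6, nat_lit 5, nat_lit 3, nat_lit 4, nat_lit 1, nat_lit 2, nat_lit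 3, nat_lit 8, nat_lit 0, nat_lit 1, nat_lit 2, nat_lit 3, nat_lit 4, nat_lit 5, nat_lit 2, nat_lit 8, nat_lit 3, nat_lit 11, nat_lit 2, nat_lit 8, nat_lit 10, nat_lit 1, nat_lit 8, nat_lit 16, nat_lit 15, nat_lit 14, nat_lit 18] (Rl.t1 (nat_lit 4022) (nat_lit 4019)))) (FT.leaf (Fct.mk false (nat_lit 5) (nat_lit 0) (nat_lit 5) [nat_lit 4, nat_lit 5, nat_lit 0, nat_lit 1, nat_lit 2, nat_lit 3, nat_lit 0, nat_lit 12, nat_lit 15, nat_lit 16] (Rl.cmp (nat_lit 1859) (nat_lit 2852))))))))) (FT.node (nat_lit 4037) (FT.node (nat_lit 4031) (FT.node (nat_lit 4028) (FT.node (nat_lit 4026) (FT.leaf (Fct.mk false (nat_lit 5) (nat_lit 0) (nat_lit 5) [nat_lit 2, nat_lit 3, nat_lit 4, nat_lit 5, nat_lit 10, nat_lit 1, nat_lit 12] (Rl.cmp (nat_lit 511) (nat_lit 4024)))) (FT.node (nat_lit 4027) (FT.leaf (Fct.mk false (nat_lit 32) (nat_lit 0) (nat_lit 32) [nat_lit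 0, nat_lit 1, nat_lit 2, nat_lit 3, nat_lit 4, nat_lit 5, nat_lit 3, nat_lit 8, nat_lit 4, nat_lit 3, nat_lit 2, nat_lit 0, nat_lit 1, nat_lit 9, nat_lit 4, nat_lit 3, nat_lit 2, nat_lit 8, nat_lit 3, nat_lit 15, nat_lit 17, nat_lit 16] (Rl.cmp (nat_lit 3004) (nat_lit 2995)))) (FT.leaf (Fct.mk false (nat_lit 32) (nat_lit 0) (nat_lit 32) [nat_lit 8, nat_lit 1, nat_lit 2, nat_lit 3, nat_lit 4, nat_lit 5, nat_lit 3, nat_lit 2, nat_lit 0, nat_lit 1, nat_lit 9, nat_lit 4, nat_lit 3, nat_lit 2, nat_lit 8, nat_lit 3, nat_lit 8, nat_lit 10, nat_lit 0, nat_lit 16, nat_lit 14, nat_lit 13, nat_lit 12, nat_lit 19] (Rl.cmp (nat_lit 3004) (nat_lit 3047)))))) (FT.node (nat_lit 4029) (FT.leaf (Fct.mk false (nat_lit 32) (nat_lit 0) (nat_lit 32) [nat_lit 5, nat_lit 4, nat_lit 3, nat_lit 8, nat_lit 2, nat_lit 3, nat_lit 4, nat_lit 5, nat_lit 4, nat_lit 3, nat_lit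 2, nat_lit 8, nat_lit 3, nat_lit 11, nat_lit 2, nat_lit 13, nat_lit 19] (Rl.cmp (nat_lit 3047) (nat_lit 3010)))) (FT.node (nat_lit 4030) (FT.leaf (Fct.mk false (nat_lit 32) (nat_lit 0) (nat_lit 32) [nat_lit 5, nat_lit 6, nat_lit 4, nat_lit 5, nat_lit 3, nat_lit 4, nat_lit 2, nat_lit 3, nat_lit 8, nat_lit 1, nat_lit 2, nat_lit 3, nat_lit 4, nat_lit 5, nat_lit 2, nat_lit 1, nat_lit 8, nat_lit 3, nat_lit 2, nat_lit 0, nat_lit 1, nat_lit 9, nat_lit 4, nat_lit 3, nat_lit 2, nat_lit 8, nat_lit 3, nat_lit 12, nat_lit 15, nat_lit 14, nat_lit 17, nat_lit 16] (Rl.cmp (nat_lit 3004) (nat_lit 4028)))) (FT.leaf (Fct.mk false (nat_lit 32) (nat_lit 0) (nat_lit 32) [nat_lit 8, nat_lit 1, nat_lit 2, nat_lit 3, nat_lit 4, nat_lit 5, nat_lit 3, nat_lit 2, nat_lit 0, nat_lit 1, nat_lit 9, nat_lit 4, nat_lit 3, nat_lit 2, nat_lit 8, nat_lit 3, nat_lit 8, nat_lit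 10, nat_lit 0, nat_lit 16, nat_lit 14, nat_lit 13, nat_lit 12, nat_lit 19] (Rl.cmp (nat_lit 3004) (nat_lit 3047))))))) (FT.node (nat_lit 4034) (FT.node (nat_lit 4032) (FT.leaf (Fct.mk false (nat_lit 32) (nat_lit 0) (nat_lit 32) [nat_lit 8, nat_lit 2, nat_lit 3, nat_lit 4, nat_lit 5, nat_lit 1, nat_lit 3, nat_lit 2, nat_lit 0, nat_lit 1, nat_lit 9, nat_lit 4, nat_lit 3, nat_lit 2, nat_lit 8, nat_lit 3, nat_lit 11, nat_lit 8, nat_lit 10, nat_lit 8, nat_lit 16, nat_lit 14, nat_lit 13, nat_lit 12, nat_lit 16] (Rl.cmp (nat_lit 3010) (nat_lit 4030)))) (FT.node (nat_lit 4033) (FT.leaf (Fct.mk true (nat_lit 32) (nat_lit 1006) (nat_lit 32) [nat_lit 7, nat_lit 6, nat_lit 5, nat_lit 3, nat_lit 4, nat_lit 2, nat_lit 3, nat_lit 8, nat_lit 0, nat_lit 1, nat_lit 2, nat_lit 3, nat_lit 4, nat_lit 5, nat_lit 6, nat_lit 7, nat_lit 6, nat_lit 5, nat_lit 3, nat_lit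 4, nat_lit 2, nat_lit 3, nat_lit 8, nat_lit 0, nat_lit 1, nat_lit 2, nat_lit 3, nat_lit 4, nat_lit 5, nat_lit 2, nat_lit 0, nat_lit 1, nat_lit 3, nat_lit 2, nat_lit 8, nat_lit 3, nat_lit 11, nat_lit 8, nat_lit 10, nat_lit 1, nat_lit 14, nat_lit 16, nat_lit 8] (Rl.rel (nat_lit 0) [nat_lit 3, nat_lit 4, nat_lit 5, nat_lit 6, nat_lit 7, nat_lit 6, nat_lit 1, nat_lit 3, nat_lit 8, nat_lit 4, nat_lit 3, nat_lit 2, nat_lit 0, nat_lit 1, nat_lit 9, nat_lit 4, nat_lit 3, nat_lit 2, nat_lit 8, nat_lit 3, nat_lit 8, nat_lit 10, nat_lit 16, nat_lit 12, nat_lit 15, nat_lit 14, nat_lit 18, nat_lit 16] (nat_lit 32) (nat_lit 1) [nat_lit 3931] [nat_lit 4031, nat_lit 4023]))) (FT.leaf (Fct.mk true (nat_lit 32) (nat_lit 63) (nat_lit 32) [nat_lit 7, nat_lit 6, nat_lit 5, nat_lit 3, nat_lit 4, nat_lit 1, nat_lit 2, nat_lit 3, nat_lit 8, nat_lit 0, nat_lit 1, nat_lit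 2, nat_lit 3, nat_lit 4, nat_lit 5, nat_lit 6, nat_lit 7, nat_lit 6, nat_lit 5, nat_lit 3, nat_lit 4, nat_lit 2, nat_lit 3, nat_lit 8, nat_lit 0, nat_lit 1, nat_lit 2, nat_lit 3, nat_lit 4, nat_lit 5, nat_lit 11, nat_lit 10, nat_lit 8, nat_lit 16, nat_lit 14, nat_lit 17, nat_lit 16] (Rl.t1 (nat_lit 4032) (nat_lit 4029)))))) (FT.node (nat_lit 4035) (FT.leaf (Fct.mk false (nat_lit 32) (nat_lit 0) (nat_lit 32) [nat_lit 5, nat_lit 4, nat_lit 3, nat_lit 8, nat_lit 2, nat_lit 3, nat_lit 4, nat_lit 5, nat_lit 2, nat_lit 1, nat_lit 4, nat_lit 3, nat_lit 2, nat_lit 8, nat_lit 3, nat_lit 8, nat_lit 10, nat_lit 14, nat_lit 12, nat_lit 18] (Rl.cmp (nat_lit 3010) (nat_lit 2995)))) (FT.node (nat_lit 4036) (FT.leaf (Fct.mk false (nat_lit 32) (nat_lit 0) (nat_lit 32) [nat_lit 8, nat_lit 1, nat_lit 2, nat_lit 3, nat_lit 4, nat_lit 5, nat_lit 3, nat_lit 2, nat_lit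 0, nat_lit 1, nat_lit 9, nat_lit 4, nat_lit 3, nat_lit 2, nat_lit 8, nat_lit 3, nat_lit 8, nat_lit 10, nat_lit 0, nat_lit 16, nat_lit 14, nat_lit 13, nat_lit 12, nat_lit 19] (Rl.cmp (nat_lit 3004) (nat_lit 3047)))) (FT.leaf (Fct.mk false (nat_lit 32) (nat_lit 0) (nat_lit 32) [nat_lit 3, nat_lit 8, nat_lit 5, nat_lit 2, nat_lit 3, nat_lit 4, nat_lit 1, nat_lit 2, nat_lit 3, nat_lit 8, nat_lit 6, nat_lit 7, nat_lit 5, nat_lit 6, nat_lit 4, nat_lit 5, nat_lit 3, nat_lit 4, nat_lit 2, nat_lit 3, nat_lit 8, nat_lit 1, nat_lit 2, nat_lit 3, nat_lit 4, nat_lit 5, nat_lit 6, nat_lit 7, nat_lit 1, nat_lit 2, nat_lit 3, nat_lit 4, nat_lit 5, nat_lit 1, nat_lit 3, nat_lit 2, nat_lit 0, nat_lit 1, nat_lit 9, nat_lit 4, nat_lit 3, nat_lit 2, nat_lit 8, nat_lit 3, nat_lit 10, nat_lit 1, nat_lit 8, nat_lit 12, nat_lit 15, nat_lit 17, nat_lit 18, nat_lit 16]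 (Rl.cmp (nat_lit 3456) (nat_lit 4035)))))))) (FT.node (nat_lit 4043) (FT.node (nat_lit 4040) (FT.node (nat_lit 4038) (FT.leaf (Fct.mk false (nat_lit 32) (nat_lit 0) (nat_lit 32) [nat_lit 3, nat_lit 8, nat_lit 5, nat_lit 2, nat_lit 3, nat_lit 4, nat_lit 1, nat_lit 2, nat_lit 3, nat_lit 8, nat_lit 6, nat_lit 7, nat_lit 5, nat_lit 6, nat_lit 4, nat_lit 5, nat_lit 3, nat_lit 4, nat_lit 2, nat_lit 3, nat_lit 8, nat_lit 1, nat_lit 2, nat_lit 3, nat_lit 4, nat_lit 5, nat_lit 6, nat_lit 7, nat_lit 6, nat_lit 5, nat_lit 4, nat_lit 3, nat_lit 8, nat_lit 1, nat_lit 2, nat_lit 3, nat_lit 4, nat_lit 5, nat_lit 2, nat_lit 1, nat_lit 3, nat_lit 2, nat_lit 0, nat_lit 1, nat_lit 9, nat_lit 4, nat_lit 3, nat_lit 2, nat_lit 8, nat_lit 3, nat_lit 10, nat_lit 2, nat_lit 8, nat_lit 10, nat_lit 1, nat_lit 15, nat_lit 14, nat_lit 13, nat_lit 12, nat_lit 16] (Rl.cmp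 (nat_lit 3047) (nat_lit 4036)))) (FT.node (nat_lit 4039) (FT.leaf (Fct.mk false (nat_lit 32) (nat_lit 0) (nat_lit 32) [nat_lit 3, nat_lit 8, nat_lit 5, nat_lit 2, nat_lit 3, nat_lit 4, nat_lit 1, nat_lit 2, nat_lit 3, nat_lit 8, nat_lit 6, nat_lit 7, nat_lit 5, nat_lit 6, nat_lit 4, nat_lit 5, nat_lit 3, nat_lit 4, nat_lit 2, nat_lit 3, nat_lit 8, nat_lit 1, nat_lit 2, nat_lit 3, nat_lit 4, nat_lit 5, nat_lit 6, nat_lit 7, nat_lit 8, nat_lit 4, nat_lit 5, nat_lit 3, nat_lit 4, nat_lit 2, nat_lit 3, nat_lit 8, nat_lit 1, nat_lit 2, nat_lit 3, nat_lit 4, nat_lit 5, nat_lit 8, nat_lit 3, nat_lit 2, nat_lit 1, nat_lit 4, nat_lit 3, nat_lit 2, nat_lit 8, nat_lit 3, nat_lit 9, nat_lit 8, nat_lit 16, nat_lit 14, nat_lit 16] (Rl.cmp (nat_lit 3004) (nat_lit 4037)))) (FT.leaf (Fct.mk false (nat_lit 32) (nat_lit 0) (nat_lit 32) [nat_lit 3, nat_lit 2,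 nat_lit 1, nat_lit 8, nat_lit 3, nat_lit 2, nat_lit 0, nat_lit 1, nat_lit 4, nat_lit 3, nat_lit 2, nat_lit 8, nat_lit 3, nat_lit 2, nat_lit 10, nat_lit 1, nat_lit 8, nat_lit 12, nat_lit 15, nat_lit 14, nat_lit 18] (Rl.cmp (nat_lit 3456) (nat_lit 4038)))))) (FT.node (nat_lit 4041) (FT.leaf (Fct.mk false (nat_lit 32) (nat_lit 0) (nat_lit 32) [nat_lit 1, nat_lit 2, nat_lit 3, nat_lit 8, nat_lit 4, nat_lit 5, nat_lit 3, nat_lit 4, nat_lit 2, nat_lit 3, nat_lit 8, nat_lit 1, nat_lit 2, nat_lit 3, nat_lit 4, nat_lit 5, nat_lit 2, nat_lit 8, nat_lit 3, nat_lit 10, nat_lit 8, nat_lit 18] (Rl.cmp (nat_lit 3010) (nat_lit 3010)))) (FT.node (nat_lit 4042) (FT.leaf (Fct.mk false (nat_lit 32) (nat_lit 0) (nat_lit 32) [nat_lit 8, nat_lit 5, nat_lit 6, nat_lit 4, nat_lit 5, nat_lit 3, nat_lit 4, nat_lit 2, nat_lit 3, nat_lit 8, nat_lit 0, nat_lit 1, nat_lit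 2, nat_lit 3, nat_lit 4, nat_lit 5, nat_lit 1, nat_lit 2, nat_lit 0, nat_lit 1, nat_lit 9, nat_lit 4, nat_lit 3, nat_lit 2, nat_lit 8, nat_lit 3, nat_lit 8, nat_lit 10, nat_lit 15, nat_lit 14, nat_lit 13, nat_lit 12, nat_lit 19, nat_lit 16] (Rl.cmp (nat_lit 3004) (nat_lit 4040)))) (FT.leaf (Fct.mk false (nat_lit 32) (nat_lit 0) (nat_lit 32) [nat_lit 3, nat_lit 8, nat_lit 5, nat_lit 2, nat_lit 3, nat_lit 4, nat_lit 1, nat_lit 2, nat_lit 3, nat_lit 8, nat_lit 6, nat_lit 7, nat_lit 5, nat_lit 6, nat_lit 4, nat_lit 5, nat_lit 3, nat_lit 4, nat_lit 2, nat_lit 3, nat_lit 8, nat_lit 1, nat_lit 2, nat_lit 3, nat_lit 4, nat_lit 5, nat_lit 6, nat_lit 7, nat_lit 3, nat_lit 4, nat_lit 2, nat_lit 3, nat_lit 8, nat_lit 0, nat_lit 1, nat_lit 2, nat_lit 3, nat_lit 4, nat_lit 5, nat_lit 2, nat_lit 0, nat_lit 1, nat_lit 9, nat_lit 4, nat_lit 3, nat_lit 2, nat_lit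 8, nat_lit 3, nat_lit 2, nat_lit 8, nat_lit 10, nat_lit 1, nat_lit 12, nat_lit 15, nat_lit 14, nat_lit 17, nat_lit 12, nat_lit 18, nat_lit 16] (Rl.cmp (nat_lit 3456) (nat_lit 4041))))))) (FT.node (nat_lit 4046) (FT.node (nat_lit 4044) (FT.leaf (Fct.mk false (nat_lit 32) (nat_lit 0) (nat_lit 32) [nat_lit 3, nat_lit 8, nat_lit 5, nat_lit 2, nat_lit 3, nat_lit 4, nat_lit 1, nat_lit 2, nat_lit 3, nat_lit 8, nat_lit 6, nat_lit 7, nat_lit 5, nat_lit 6, nat_lit 4, nat_lit 5, nat_lit 3, nat_lit 4, nat_lit 2, nat_lit 3, nat_lit 8, nat_lit 1, nat_lit 2, nat_lit 3, nat_lit 4, nat_lit 5, nat_lit 6, nat_lit 7, nat_lit 8, nat_lit 5, nat_lit 6, nat_lit 4, nat_lit 5, nat_lit 3, nat_lit 4, nat_lit 2, nat_lit 3, nat_lit 8, nat_lit 0, nat_lit 1, nat_lit 2, nat_lit 3, nat_lit 4, nat_lit 5, nat_lit 1, nat_lit 2, nat_lit 0, nat_lit 1, nat_lit 4, nat_lit 3, nat_lit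 2, nat_lit 8, nat_lit 3, nat_lit 11, nat_lit 8, nat_lit 10, nat_lit 1, nat_lit 8, nat_lit 16, nat_lit 14, nat_lit 8, nat_lit 16] (Rl.cmp (nat_lit 2995) (nat_lit 4042)))) (FT.node (nat_lit 4045) (FT.leaf (Fct.mk true (nat_lit 32) (nat_lit 99497) (nat_lit 32) [nat_lit 3, nat_lit 8, nat_lit 5, nat_lit 2, nat_lit 3, nat_lit 4, nat_lit 1, nat_lit 2, nat_lit 3, nat_lit 8, nat_lit 6, nat_lit 7, nat_lit 5, nat_lit 6, nat_lit 4, nat_lit 5, nat_lit 3, nat_lit 4, nat_lit 2, nat_lit 3, nat_lit 8, nat_lit 1, nat_lit 2, nat_lit 3, nat_lit 4, nat_lit 5, nat_lit 6, nat_lit 7, nat_lit 6, nat_lit 5, nat_lit 4, nat_lit 3, nat_lit 8, nat_lit 1, nat_lit 2, nat_lit 3, nat_lit 4, nat_lit 5, nat_lit 2, nat_lit 3, nat_lit 8, nat_lit 4, nat_lit 3, nat_lit 2, nat_lit 1, nat_lit 9, nat_lit 4, nat_lit 3, nat_lit 2, nat_lit 8, nat_lit 3, nat_lit 1, nat_lit 0, nat_lit 2,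 nat_lit 8, nat_lit 12, nat_lit 15, nat_lit 14, nat_lit 12, nat_lit 18] (Rl.rel (nat_lit 0) [nat_lit 3, nat_lit 4, nat_lit 5, nat_lit 6, nat_lit 7, nat_lit 8, nat_lit 3, nat_lit 4, nat_lit 5, nat_lit 1, nat_lit 8, nat_lit 3, nat_lit 2, nat_lit 0, nat_lit 1, nat_lit 4, nat_lit 3, nat_lit 2, nat_lit 8, nat_lit 3, nat_lit 8, nat_lit 10, nat_lit 12, nat_lit 15, nat_lit 14, nat_lit 18, nat_lit 16] (nat_lit 32) (nat_lit 2) [nat_lit 3931, nat_lit 4039, nat_lit 3929] []))) (FT.leaf (Fct.mk true (nat_lit 32) (nat_lit 5) (nat_lit 32) [nat_lit 5, nat_lit 4, nat_lit 3, nat_lit 8, nat_lit 1, nat_lit 2, nat_lit 3, nat_lit 4, nat_lit 5, nat_lit 1, nat_lit 8, nat_lit 3, nat_lit 2, nat_lit 0, nat_lit 1, nat_lit 9, nat_lit 4, nat_lit 3, nat_lit 2, nat_lit 8, nat_lit 3, nat_lit 2, nat_lit 10, nat_lit 1, nat_lit 16, nat_lit 14, nat_lit 18, nat_lit 16] (Rl.t1 (nat_lit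 4044) (nat_lit 4043)))))) (FT.node (nat_lit 4048) (FT.node (nat_lit 4047) (FT.leaf (Fct.mk false (nat_lit 32) (nat_lit 0) (nat_lit 32) [nat_lit 0, nat_lit 1, nat_lit 2, nat_lit 3, nat_lit 4, nat_lit 5, nat_lit 3, nat_lit 8, nat_lit 4, nat_lit 3, nat_lit 2, nat_lit 0, nat_lit 1, nat_lit 9, nat_lit 4, nat_lit 3, nat_lit 2, nat_lit 8, nat_lit 3, nat_lit 15, nat_lit 17, nat_lit 16] (Rl.cmp (nat_lit 3004) (nat_lit 2995)))) (FT.leaf (Fct.mk false (nat_lit 32) (nat_lit 0) (nat_lit 32) [nat_lit 3, nat_lit 8, nat_lit 6, nat_lit 4, nat_lit 5, nat_lit 3, nat_lit 4, nat_lit 2, nat_lit 3, nat_lit 8, nat_lit 1, nat_lit 2, nat_lit 3, nat_lit 4, nat_lit 5, nat_lit 2, nat_lit 1, nat_lit 8, nat_lit 4, nat_lit 3, nat_lit 2, nat_lit 0, nat_lit 1, nat_lit 9, nat_lit 4, nat_lit 3, nat_lit 2, nat_lit 8, nat_lit 3, nat_lit 11, nat_lit 2, nat_lit 10, nat_lit 1, nat_lit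 16, nat_lit 14, nat_lit 18, nat_lit 16] (Rl.cmp (nat_lit 3047) (nat_lit 4046))))) (FT.node (nat_lit 4049) (FT.leaf (Fct.mk false (nat_lit 32) (nat_lit 0) (nat_lit 32) [nat_lit 5, nat_lit 4, nat_lit 3, nat_lit 8, nat_lit 0, nat_lit 1, nat_lit 2, nat_lit 3, nat_lit 4, nat_lit 5, nat_lit 2, nat_lit 0, nat_lit 1, nat_lit 4, nat_lit 3, nat_lit 2, nat_lit 8, nat_lit 3, nat_lit 10, nat_lit 2, nat_lit 8, nat_lit 10, nat_lit 1, nat_lit 16, nat_lit 15, nat_lit 14, nat_lit 16, nat_lit 8] (Rl.cmp (nat_lit 3004) (nat_lit 3004)))) (FT.leaf (Fct.mk false (nat_lit 32) (nat_lit 0) (nat_lit 32) [nat_lit 0, nat_lit 1, nat_lit 2, nat_lit 3, nat_lit 4, nat_lit 5, nat_lit 3, nat_lit 2, nat_lit 0, nat_lit 1, nat_lit 4, nat_lit 3, nat_lit 2, nat_lit 8, nat_lit 3, nat_lit 0, nat_lit 2, nat_lit 8, nat_lit 16, nat_lit 14, nat_lit 13, nat_lit 12, nat_lit 18, nat_lit 16]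 (Rl.cmp (nat_lit 3010) (nat_lit 4048)))))))))

/-- some facts -/
noncomputable def ftc81 : FT := FT.node (nat_lit 4075) (FT.node (nat_lit 4062) (FT.node (nat_lit 4056) (FT.node (nat_lit 4053) (FT.node (nat_lit 4051) (FT.leaf (Fct.mk true (nat_lit 32) (nat_lit 15533) (nat_lit 32) [nat_lit 3, nat_lit 8, nat_lit 6, nat_lit 4, nat_lit 5, nat_lit 3, nat_lit 4, nat_lit 2, nat_lit 3, nat_lit 8, nat_lit 1, nat_lit 2, nat_lit 3, nat_lit 4, nat_lit 5, nat_lit 1, nat_lit 3, nat_lit 2, nat_lit 8, nat_lit 3, nat_lit 8, nat_lit 10, nat_lit 0, nat_lit 12, nat_lit 8, nat_lit 16, nat_lit 14, nat_lit 13, nat_lit 19, nat_lit 16] (Rl.rel (nat_lit 0) [nat_lit 3, nat_lit 2, nat_lit 8, nat_lit 3, nat_lit 10, nat_lit 14, nat_lit 8, nat_lit 18] (nat_lit 32) (nat_lit 2) [nat_lit 4045, nat_lit 4047, nat_lit 4045] []))) (FT.node (nat_lit 4052) (FT.leaf (Fct.mk true (nat_lit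 32) (nat_lit 12) (nat_lit 32) [nat_lit 2, nat_lit 3, nat_lit 4, nat_lit 5, nat_lit 3, nat_lit 8, nat_lit 4, nat_lit 3, nat_lit 2, nat_lit 1, nat_lit 9, nat_lit 4, nat_lit 3, nat_lit 2, nat_lit 8, nat_lit 3, nat_lit 10, nat_lit 0, nat_lit 16, nat_lit 12, nat_lit 15, nat_lit 14, nat_lit 18] (Rl.t1 (nat_lit 4050) (nat_lit 4049)))) (FT.leaf (Fct.mk false (nat_lit 32) (nat_lit 0) (nat_lit 32) [nat_lit 8, nat_lit 1, nat_lit 2, nat_lit 3, nat_lit 4, nat_lit 5, nat_lit 3, nat_lit 2, nat_lit 0, nat_lit 1, nat_lit 9, nat_lit 4, nat_lit 3, nat_lit 2, nat_lit 8, nat_lit 3, nat_lit 8, nat_lit 10, nat_lit 0, nat_lit 16, nat_lit 14, nat_lit 13, nat_lit 12, nat_lit 19] (Rl.cmp (nat_lit 3004) (nat_lit 3047)))))) (FT.node (nat_lit 4054) (FT.leaf (Fct.mk false (nat_lit 32) (nat_lit 0) (nat_lit 32) [nat_lit 8, nat_lit 2, nat_lit 3, nat_lit 4, nat_lit 5, nat_lit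 1, nat_lit 3, nat_lit 2, nat_lit 0, nat_lit 1, nat_lit 9, nat_lit 4, nat_lit 3, nat_lit 2, nat_lit 8, nat_lit 3, nat_lit 11, nat_lit 8, nat_lit 10, nat_lit 8, nat_lit 16, nat_lit 14, nat_lit 13, nat_lit 12, nat_lit 16] (Rl.cmp (nat_lit 3010) (nat_lit 4052)))) (FT.node (nat_lit 4055) (FT.leaf (Fct.mk false (nat_lit 32) (nat_lit 0) (nat_lit 32) [nat_lit 5, nat_lit 4, nat_lit 2, nat_lit 3, nat_lit 8, nat_lit 1, nat_lit 2, nat_lit 3, nat_lit 4, nat_lit 5, nat_lit 2, nat_lit 1, nat_lit 3, nat_lit 2, nat_lit 0, nat_lit 1, nat_lit 9, nat_lit 4, nat_lit 3, nat_lit 2, nat_lit 8, nat_lit 3, nat_lit 11, nat_lit 8, nat_lit 10, nat_lit 16, nat_lit 14, nat_lit 13, nat_lit 12, nat_lit 18] (Rl.cmp (nat_lit 3010) (nat_lit 4053)))) (FT.leaf (Fct.mk false (nat_lit 32) (nat_lit 0) (nat_lit 32) [nat_lit 8, nat_lit 2, nat_lit 3, nat_lit 4, nat_lit 5, nat_lit 1,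 nat_lit 2, nat_lit 0, nat_lit 1, nat_lit 9, nat_lit 4, nat_lit 3, nat_lit 2, nat_lit 8, nat_lit 3, nat_lit 10, nat_lit 1, nat_lit 8, nat_lit 16, nat_lit 14, nat_lit 16, nat_lit 8, nat_lit 18] (Rl.cmp (nat_lit 3047) (nat_lit 4054))))))) (FT.node (nat_lit 4059) (FT.node (nat_lit 4057) (FT.leaf (Fct.mk false (nat_lit 32) (nat_lit 0) (nat_lit 32) [nat_lit 3, nat_lit 8, nat_lit 5, nat_lit 2, nat_lit 3, nat_lit 4, nat_lit 1, nat_lit 2, nat_lit 3, nat_lit 8, nat_lit 6, nat_lit 7, nat_lit 5, nat_lit 6, nat_lit 4, nat_lit 5, nat_lit 3, nat_lit 4, nat_lit 2, nat_lit 3, nat_lit 8, nat_lit 1, nat_lit 2, nat_lit 3, nat_lit 4, nat_lit 5, nat_lit 6, nat_lit 7, nat_lit 8, nat_lit 6, nat_lit 4, nat_lit 5, nat_lit 3, nat_lit 4, nat_lit 2, nat_lit 3, nat_lit 8, nat_lit 1, nat_lit 2, nat_lit 3, nat_lit 4, nat_lit 5, nat_lit 1, nat_lit 4, nat_lit 3, nat_lit 2,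 nat_lit 0, nat_lit 1, nat_lit 9, nat_lit 4, nat_lit 3, nat_lit 2, nat_lit 8, nat_lit 3, nat_lit 10, nat_lit 2, nat_lit 8, nat_lit 10, nat_lit 1, nat_lit 16, nat_lit 12, nat_lit 15, nat_lit 14, nat_lit 17, nat_lit 12, nat_lit 18] (Rl.cmp (nat_lit 2995) (nat_lit 3456)))) (FT.node (nat_lit 4058) (FT.leaf (Fct.mk false (nat_lit 32) (nat_lit 0) (nat_lit 32) [nat_lit 1, nat_lit 2, nat_lit 3, nat_lit 8, nat_lit 6, nat_lit 4, nat_lit 5, nat_lit 3, nat_lit 4, nat_lit 2, nat_lit 3, nat_lit 8, nat_lit 1, nat_lit 2, nat_lit 3, nat_lit 4, nat_lit 5, nat_lit 2, nat_lit 1, nat_lit 9, nat_lit 4, nat_lit 3, nat_lit 2, nat_lit 8, nat_lit 3, nat_lit 11, nat_lit 2, nat_lit 10, nat_lit 1, nat_lit 12, nat_lit 8, nat_lit 16, nat_lit 14, nat_lit 17, nat_lit 19] (Rl.cmp (nat_lit 3456) (nat_lit 4056)))) (FT.leaf (Fct.mk false (nat_lit 32) (nat_lit 0) (nat_lit 32) [nat_lit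 1, nat_lit 2, nat_lit 3, nat_lit 8, nat_lit 6, nat_lit 4, nat_lit 5, nat_lit 3, nat_lit 4, nat_lit 2, nat_lit 3, nat_lit 8, nat_lit 1, nat_lit 2, nat_lit 3, nat_lit 4, nat_lit 5, nat_lit 2, nat_lit 1, nat_lit 3, nat_lit 2, nat_lit 0, nat_lit 1, nat_lit 4, nat_lit 3, nat_lit 2, nat_lit 8, nat_lit 3, nat_lit 8, nat_lit 10, nat_lit 1, nat_lit 8, nat_lit 12, nat_lit 15, nat_lit 14, nat_lit 12] (Rl.cmp (nat_lit 3047) (nat_lit 4057)))))) (FT.node (nat_lit 4060) (FT.leaf (Fct.mk true (nat_lit 32) (nat_lit 1326) (nat_lit 32) [nat_lit 8, nat_lit 6, nat_lit 5, nat_lit 3, nat_lit 4, nat_lit 2, nat_lit 3, nat_lit 8, nat_lit 1, nat_lit 2, nat_lit 3, nat_lit 4, nat_lit 5, nat_lit 2, nat_lit 0, nat_lit 1, nat_lit 3, nat_lit 2, nat_lit 8, nat_lit 3, nat_lit 11, nat_lit 8, nat_lit 10, nat_lit 8, nat_lit 12, nat_lit 15, nat_lit 14, nat_lit 17, nat_lit 12, nat_lit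 19, nat_lit 16] (Rl.rel (nat_lit 0) [nat_lit 8, nat_lit 3, nat_lit 4, nat_lit 5, nat_lit 2, nat_lit 8, nat_lit 3, nat_lit 14, nat_lit 8] (nat_lit 32) (nat_lit 2) [nat_lit 4045, nat_lit 4055, nat_lit 4021] []))) (FT.node (nat_lit 4061) (FT.leaf (Fct.mk true (nat_lit 32) (nat_lit 36) (nat_lit 32) [nat_lit 2, nat_lit 3, nat_lit 8, nat_lit 1, nat_lit 2, nat_lit 3, nat_lit 4, nat_lit 5, nat_lit 1, nat_lit 2, nat_lit 0, nat_lit 1, nat_lit 4, nat_lit 3, nat_lit 2, nat_lit 8, nat_lit 3, nat_lit 11, nat_lit 1, nat_lit 15, nat_lit 13] (Rl.t1 (nat_lit 4059) (nat_lit 4058)))) (FT.leaf (Fct.mk false (nat_lit 32) (nat_lit 0) (nat_lit 32) [nat_lit 5, nat_lit 4, nat_lit 3, nat_lit 8, nat_lit 0, nat_lit 1, nat_lit 2, nat_lit 3, nat_lit 4, nat_lit 5, nat_lit 2, nat_lit 0, nat_lit 1, nat_lit 3, nat_lit 2, nat_lit 8, nat_lit 3, nat_lit 10, nat_lit 2, nat_lit 8,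 nat_lit 10, nat_lit 1, nat_lit 16, nat_lit 15, nat_lit 14, nat_lit 16, nat_lit 8] (Rl.cmp (nat_lit 3004) (nat_lit 4026)))))))) (FT.node (nat_lit 4068) (FT.node (nat_lit 4065) (FT.node (nat_lit 4063) (FT.leaf (Fct.mk false (nat_lit 32) (nat_lit 0) (nat_lit 32) [nat_lit 6, nat_lit 5, nat_lit 4, nat_lit 3, nat_lit 8, nat_lit 2, nat_lit 3, nat_lit 4, nat_lit 1, nat_lit 2, nat_lit 3, nat_lit 8, nat_lit 5, nat_lit 6, nat_lit 4, nat_lit 5, nat_lit 3, nat_lit 4, nat_lit 2, nat_lit 3, nat_lit 8, nat_lit 1, nat_lit 2, nat_lit 3, nat_lit 4, nat_lit 5, nat_lit 2, nat_lit 0, nat_lit 1, nat_lit 9, nat_lit 4, nat_lit 3, nat_lit 2, nat_lit 8, nat_lit 3, nat_lit 1, nat_lit 12, nat_lit 8, nat_lit 16, nat_lit 14, nat_lit 16, nat_lit 8, nat_lit 18, nat_lit 16] (Rl.cmp (nat_lit 3010) (nat_lit 3047)))) (FT.node (nat_lit 4064) (FT.leaf (Fct.mk false (nat_lit 32)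 (nat_lit 0) (nat_lit 32) [nat_lit 0, nat_lit 1, nat_lit 2, nat_lit 3, nat_lit 4, nat_lit 5, nat_lit 3, nat_lit 8, nat_lit 4, nat_lit 3, nat_lit 2, nat_lit 0, nat_lit 1, nat_lit 9, nat_lit 4, nat_lit 3, nat_lit 2, nat_lit 8, nat_lit 3, nat_lit 15, nat_lit 17, nat_lit 16] (Rl.cmp (nat_lit 3004) (nat_lit 2995)))) (FT.leaf (Fct.mk false (nat_lit 32) (nat_lit 0) (nat_lit 32) [nat_lit 2, nat_lit 3, nat_lit 4, nat_lit 1, nat_lit 2, nat_lit 3, nat_lit 8, nat_lit 0, nat_lit 1, nat_lit 2, nat_lit 3, nat_lit 4, nat_lit 5, nat_lit 3, nat_lit 8, nat_lit 4, nat_lit 3, nat_lit 2, nat_lit 0, nat_lit 1, nat_lit 9, nat_lit 4, nat_lit 3, nat_lit 2, nat_lit 8, nat_lit 3, nat_lit 11, nat_lit 10, nat_lit 8, nat_lit 16, nat_lit 14, nat_lit 19] (Rl.cmp (nat_lit 3010) (nat_lit 3004)))))) (FT.node (nat_lit 4066) (FT.leaf (Fct.mk false (nat_lit 32) (nat_lit 0) (nat_lit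 32) [nat_lit 5, nat_lit 4, nat_lit 3, nat_lit 8, nat_lit 0, nat_lit 1, nat_lit 2, nat_lit 3, nat_lit 4, nat_lit 5, nat_lit 1, nat_lit 8, nat_lit 3, nat_lit 2, nat_lit 0, nat_lit 1, nat_lit 9, nat_lit 4, nat_lit 3, nat_lit 2, nat_lit 8, nat_lit 3, nat_lit 2, nat_lit 16, nat_lit 14, nat_lit 12, nat_lit 19] (Rl.cmp (nat_lit 3010) (nat_lit 4064)))) (FT.node (nat_lit 4067) (FT.leaf (Fct.mk false (nat_lit 32) (nat_lit 0) (nat_lit 32) [nat_lit 3, nat_lit 8, nat_lit 5, nat_lit 2, nat_lit 3, nat_lit 4, nat_lit 1, nat_lit 2, nat_lit 3, nat_lit 8, nat_lit 6, nat_lit 7, nat_lit 5, nat_lit 6, nat_lit 4, nat_lit 5, nat_lit 3, nat_lit 4, nat_lit 2, nat_lit 3, nat_lit 8, nat_lit 1, nat_lit 2, nat_lit 3, nat_lit 4, nat_lit 5, nat_lit 6, nat_lit 7, nat_lit 4, nat_lit 5, nat_lit 3, nat_lit 4, nat_lit 2, nat_lit 3, nat_lit 8, nat_lit 1, nat_lit 2, nat_lit 3, nat_lit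 4, nat_lit 5, nat_lit 3, nat_lit 2, nat_lit 0, nat_lit 1, nat_lit 9, nat_lit 4, nat_lit 3, nat_lit 2, nat_lit 8, nat_lit 3, nat_lit 2, nat_lit 8, nat_lit 10, nat_lit 1, nat_lit 16, nat_lit 15, nat_lit 14, nat_lit 17, nat_lit 12, nat_lit 18] (Rl.cmp (nat_lit 3010) (nat_lit 3456)))) (FT.leaf (Fct.mk false (nat_lit 32) (nat_lit 0) (nat_lit 32) [nat_lit 6, nat_lit 5, nat_lit 4, nat_lit 3, nat_lit 8, nat_lit 2, nat_lit 3, nat_lit 4, nat_lit 5, nat_lit 3, nat_lit 2, nat_lit 1, nat_lit 9, nat_lit 4, nat_lit 3, nat_lit 2, nat_lit 8, nat_lit 3, nat_lit 1, nat_lit 12, nat_lit 8, nat_lit 16, nat_lit 14, nat_lit 18, nat_lit 16] (Rl.cmp (nat_lit 3456) (nat_lit 4066))))))) (FT.node (nat_lit 4071) (FT.node (nat_lit 4069) (FT.leaf (Fct.mk false (nat_lit 32) (nat_lit 0) (nat_lit 32) [nat_lit 5, nat_lit 4, nat_lit 3, nat_lit 8, nat_lit 2, nat_lit 3, nat_lit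 4, nat_lit 1, nat_lit 2, nat_lit 3, nat_lit 8, nat_lit 5, nat_lit 6, nat_lit 4, nat_lit 5, nat_lit 3, nat_lit 4, nat_lit 2, nat_lit 3, nat_lit 8, nat_lit 1, nat_lit 2, nat_lit 3, nat_lit 4, nat_lit 5, nat_lit 1, nat_lit 8, nat_lit 3, nat_lit 2, nat_lit 0, nat_lit 1, nat_lit 4, nat_lit 3, nat_lit 2, nat_lit 8, nat_lit 3, nat_lit 8, nat_lit 10, nat_lit 9, nat_lit 2, nat_lit 8, nat_lit 16, nat_lit 15, nat_lit 14, nat_lit 8, nat_lit 18, nat_lit 16] (Rl.cmp (nat_lit 3047) (nat_lit 4067)))) (FT.node (nat_lit 4070) (FT.leaf (Fct.mk false (nat_lit 32) (nat_lit 0) (nat_lit 32) [nat_lit 5, nat_lit 4, nat_lit 3, nat_lit 8, nat_lit 2, nat_lit 3, nat_lit 4, nat_lit 5, nat_lit 2, nat_lit 1, nat_lit 4, nat_lit 3, nat_lit 2, nat_lit 8, nat_lit 3, nat_lit 8, nat_lit 10, nat_lit 14, nat_lit 12, nat_lit 18] (Rl.cmp (nat_lit 3010) (nat_lit 2995)))) (FT.leaf (Fct.mk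 false (nat_lit 32) (nat_lit 0) (nat_lit 32) [nat_lit 5, nat_lit 6, nat_lit 4, nat_lit 5, nat_lit 3, nat_lit 4, nat_lit 2, nat_lit 3, nat_lit 8, nat_lit 1, nat_lit 2, nat_lit 3, nat_lit 4, nat_lit 5, nat_lit 1, nat_lit 4, nat_lit 3, nat_lit 2, nat_lit 8, nat_lit 3, nat_lit 11, nat_lit 10, nat_lit 1, nat_lit 12, nat_lit 15, nat_lit 14, nat_lit 18, nat_lit 16] (Rl.cmp (nat_lit 3004) (nat_lit 4069)))))) (FT.node (nat_lit 4073) (FT.node (nat_lit 4072) (FT.leaf (Fct.mk false (nat_lit 32) (nat_lit 0) (nat_lit 32) [nat_lit 8, nat_lit 3, nat_lit 4, nat_lit 1, nat_lit 2, nat_lit 3, nat_lit 8, nat_lit 5, nat_lit 6, nat_lit 4, nat_lit 5, nat_lit 3, nat_lit 4, nat_lit 2, nat_lit 3, nat_lit 8, nat_lit 1, nat_lit 2, nat_lit 3, nat_lit 4, nat_lit 5, nat_lit 3, nat_lit 2, nat_lit 1, nat_lit 4, nat_lit 3, nat_lit 2, nat_lit 8, nat_lit 3, nat_lit 11, nat_lit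 2, nat_lit 15, nat_lit 19] (Rl.cmp (nat_lit 3010) (nat_lit 4070)))) (FT.leaf (Fct.mk false (nat_lit 32) (nat_lit 0) (nat_lit 32) [nat_lit 8, nat_lit 1, nat_lit 2, nat_lit 3, nat_lit 4, nat_lit 5, nat_lit 3, nat_lit 2, nat_lit 0, nat_lit 1, nat_lit 9, nat_lit 4, nat_lit 3, nat_lit 2, nat_lit 8, nat_lit 3, nat_lit 8, nat_lit 10, nat_lit 0, nat_lit 16, nat_lit 14, nat_lit 13, nat_lit 12, nat_lit 19] (Rl.cmp (nat_lit 3004) (nat_lit 3047))))) (FT.node (nat_lit 4074) (FT.leaf (Fct.mk false (nat_lit 32) (nat_lit 0) (nat_lit 32) [nat_lit 2, nat_lit 3, nat_lit 4, nat_lit 1, nat_lit 2, nat_lit 3, nat_lit 8, nat_lit 0, nat_lit 1, nat_lit 2, nat_lit 3, nat_lit 4, nat_lit 5, nat_lit 3, nat_lit 8, nat_lit 4, nat_lit 3, nat_lit 2, nat_lit 0, nat_lit 1, nat_lit 9, nat_lit 4, nat_lit 3, nat_lit 2, nat_lit 8, nat_lit 3, nat_lit 11, nat_lit 10, nat_lit 8, nat_lit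 16, nat_lit 14, nat_lit 19] (Rl.cmp (nat_lit 3010) (nat_lit 3004)))) (FT.leaf (Fct.mk false (nat_lit 32) (nat_lit 0) (nat_lit 32) [nat_lit 6, nat_lit 5, nat_lit 4, nat_lit 3, nat_lit 8, nat_lit 2, nat_lit 3, nat_lit 4, nat_lit 1, nat_lit 2, nat_lit 3, nat_lit 8, nat_lit 5, nat_lit 6, nat_lit 4, nat_lit 5, nat_lit 3, nat_lit 4, nat_lit 2, nat_lit 3, nat_lit 8, nat_lit 1, nat_lit 2, nat_lit 3, nat_lit 4, nat_lit 5, nat_lit 2, nat_lit 0, nat_lit 1, nat_lit 9, nat_lit 4, nat_lit 3, nat_lit 2, nat_lit 8, nat_lit 3, nat_lit 1, nat_lit 12, nat_lit 8, nat_lit 16, nat_lit 14, nat_lit 16, nat_lit 8, nat_lit 18, nat_lit 16] (Rl.cmp (nat_lit 3010) (nat_lit 3047))))))))) (FT.node (nat_lit 4087) (FT.node (nat_lit 4081) (FT.node (nat_lit 4078) (FT.node (nat_lit 4076) (FT.leaf (Fct.mk false (nat_lit 32) (nat_lit 0) (nat_lit 32) [nat_lit 6, nat_lit 5, nat_lit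 4, nat_lit 3, nat_lit 8, nat_lit 2, nat_lit 3, nat_lit 4, nat_lit 1, nat_lit 2, nat_lit 3, nat_lit 8, nat_lit 5, nat_lit 6, nat_lit 4, nat_lit 5, nat_lit 3, nat_lit 4, nat_lit 2, nat_lit 3, nat_lit 8, nat_lit 1, nat_lit 2, nat_lit 3, nat_lit 4, nat_lit 5, nat_lit 0, nat_lit 1, nat_lit 3, nat_lit 2, nat_lit 8, nat_lit 3, nat_lit 0, nat_lit 2, nat_lit 8, nat_lit 12, nat_lit 15, nat_lit 8, nat_lit 18] (Rl.cmp (nat_lit 3047) (nat_lit 2995)))) (FT.node (nat_lit 4077) (FT.leaf (Fct.mk false (nat_lit 32) (nat_lit 0) (nat_lit 32) [nat_lit 5, nat_lit 6, nat_lit 4, nat_lit 5, nat_lit 3, nat_lit 4, nat_lit 2, nat_lit 3, nat_lit 8, nat_lit 1, nat_lit 2, nat_lit 3, nat_lit 4, nat_lit 5, nat_lit 1, nat_lit 9, nat_lit 4, nat_lit 3, nat_lit 2, nat_lit 8, nat_lit 3, nat_lit 11, nat_lit 10, nat_lit 1, nat_lit 12, nat_lit 15, nat_lit 14, nat_lit 18, nat_lit 16]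 (Rl.cmp (nat_lit 3004) (nat_lit 3010)))) (FT.leaf (Fct.mk false (nat_lit 32) (nat_lit 0) (nat_lit 32) [nat_lit 3, nat_lit 8, nat_lit 5, nat_lit 2, nat_lit 3, nat_lit 4, nat_lit 1, nat_lit 2, nat_lit 3, nat_lit 8, nat_lit 6, nat_lit 7, nat_lit 5, nat_lit 6, nat_lit 4, nat_lit 5, nat_lit 3, nat_lit 4, nat_lit 2, nat_lit 3, nat_lit 8, nat_lit 1, nat_lit 2, nat_lit 3, nat_lit 4, nat_lit 5, nat_lit 6, nat_lit 7, nat_lit 8, nat_lit 6, nat_lit 5, nat_lit 3, nat_lit 4, nat_lit 2, nat_lit 3, nat_lit 8, nat_lit 1, nat_lit 2, nat_lit 3, nat_lit 4, nat_lit 5, nat_lit 2, nat_lit 0, nat_lit 1, nat_lit 9, nat_lit 4, nat_lit 3, nat_lit 2, nat_lit 8, nat_lit 3, nat_lit 9, nat_lit 10, nat_lit 2, nat_lit 8, nat_lit 10, nat_lit 1, nat_lit 15, nat_lit 14, nat_lit 17, nat_lit 18] (Rl.cmp (nat_lit 3456) (nat_lit 4075)))))) (FT.node (nat_lit 4079) (FT.leaf (Fct.mk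 false (nat_lit 32) (nat_lit 0) (nat_lit 32) [nat_lit 6, nat_lit 5, nat_lit 4, nat_lit 3, nat_lit 8, nat_lit 2, nat_lit 3, nat_lit 4, nat_lit 1, nat_lit 2, nat_lit 3, nat_lit 8, nat_lit 5, nat_lit 6, nat_lit 4, nat_lit 5, nat_lit 3, nat_lit 4, nat_lit 2, nat_lit 3, nat_lit 8, nat_lit 1, nat_lit 2, nat_lit 3, nat_lit 4, nat_lit 5, nat_lit 2, nat_lit 0, nat_lit 1, nat_lit 9, nat_lit 4, nat_lit 3, nat_lit 2, nat_lit 8, nat_lit 3, nat_lit 1, nat_lit 12, nat_lit 8, nat_lit 16, nat_lit 14, nat_lit 16, nat_lit 8, nat_lit 18, nat_lit 16] (Rl.cmp (nat_lit 3010) (nat_lit 3047)))) (FT.node (nat_lit 4080) (FT.leaf (Fct.mk false (nat_lit 32) (nat_lit 0) (nat_lit 32) [nat_lit 8, nat_lit 1, nat_lit 2, nat_lit 3, nat_lit 4, nat_lit 5, nat_lit 3, nat_lit 8, nat_lit 4, nat_lit 3, nat_lit 2, nat_lit 0, nat_lit 1, nat_lit 9, nat_lit 4, nat_lit 3, nat_lit 2, nat_lit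 8, nat_lit 3, nat_lit 15, nat_lit 17, nat_lit 16] (Rl.cmp (nat_lit 3004) (nat_lit 4078)))) (FT.leaf (Fct.mk false (nat_lit 32) (nat_lit 0) (nat_lit 32) [nat_lit 3, nat_lit 8, nat_lit 5, nat_lit 2, nat_lit 3, nat_lit 4, nat_lit 1, nat_lit 2, nat_lit 3, nat_lit 8, nat_lit 6, nat_lit 7, nat_lit 5, nat_lit 6, nat_lit 4, nat_lit 5, nat_lit 3, nat_lit 4, nat_lit 2, nat_lit 3, nat_lit 8, nat_lit 1, nat_lit 2, nat_lit 3, nat_lit 4, nat_lit 5, nat_lit 6, nat_lit 7, nat_lit 8, nat_lit 6, nat_lit 4, nat_lit 5, nat_lit 3, nat_lit 4, nat_lit 2, nat_lit 3, nat_lit 8, nat_lit 1, nat_lit 2, nat_lit 3, nat_lit 4, nat_lit 5, nat_lit 1, nat_lit 4, nat_lit 3, nat_lit 2, nat_lit 0, nat_lit 1, nat_lit 9, nat_lit 4, nat_lit 3, nat_lit 2, nat_lit 8, nat_lit 3, nat_lit 10, nat_lit 2, nat_lit 8, nat_lit 10, nat_lit 1, nat_lit 16, nat_lit 12, nat_lit 15, nat_lit 14,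 nat_lit 17, nat_lit 12, nat_lit 18] (Rl.cmp (nat_lit 2995) (nat_lit 3456))))))) (FT.node (nat_lit 4084) (FT.node (nat_lit 4082) (FT.leaf (Fct.mk false (nat_lit 32) (nat_lit 0) (nat_lit 32) [nat_lit 1, nat_lit 2, nat_lit 3, nat_lit 8, nat_lit 6, nat_lit 4, nat_lit 5, nat_lit 3, nat_lit 4, nat_lit 2, nat_lit 3, nat_lit 8, nat_lit 1, nat_lit 2, nat_lit 3, nat_lit 4, nat_lit 5, nat_lit 2, nat_lit 1, nat_lit 9, nat_lit 4, nat_lit 3, nat_lit 2, nat_lit 8, nat_lit 3, nat_lit 11, nat_lit 2, nat_lit 10, nat_lit 1, nat_lit 12, nat_lit 8, nat_lit 16, nat_lit 14, nat_lit 17, nat_lit 19] (Rl.cmp (nat_lit 3456) (nat_lit 4080)))) (FT.node (nat_lit 4083) (FT.leaf (Fct.mk false (nat_lit 32) (nat_lit 0) (nat_lit 32) [nat_lit 5, nat_lit 6, nat_lit 4, nat_lit 5, nat_lit 3, nat_lit 4, nat_lit 2, nat_lit 3, nat_lit 8, nat_lit 1, nat_lit 2, nat_lit 3, nat_lit 4,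 nat_lit 5, nat_lit 1, nat_lit 9, nat_lit 4, nat_lit 3, nat_lit 2, nat_lit 8, nat_lit 3, nat_lit 11, nat_lit 10, nat_lit 1, nat_lit 12, nat_lit 15, nat_lit 14, nat_lit 18, nat_lit 16] (Rl.cmp (nat_lit 3004) (nat_lit 3010)))) (FT.leaf (Fct.mk false (nat_lit 32) (nat_lit 0) (nat_lit 32) [nat_lit 5, nat_lit 4, nat_lit 3, nat_lit 8, nat_lit 0, nat_lit 1, nat_lit 2, nat_lit 3, nat_lit 4, nat_lit 5, nat_lit 2, nat_lit 0, nat_lit 1, nat_lit 4, nat_lit 3, nat_lit 2, nat_lit 8, nat_lit 3, nat_lit 10, nat_lit 2, nat_lit 8, nat_lit 10, nat_lit 1, nat_lit 16, nat_lit 15, nat_lit 14, nat_lit 16, nat_lit 8] (Rl.cmp (nat_lit 3004) (nat_lit 3004)))))) (FT.node (nat_lit 4085) (FT.leaf (Fct.mk false (nat_lit 32) (nat_lit 0) (nat_lit 32) [nat_lit 3, nat_lit 8, nat_lit 5, nat_lit 2, nat_lit 3, nat_lit 4, nat_lit 1, nat_lit 2, nat_lit 3, nat_lit 8, nat_lit 6, nat_lit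 7, nat_lit 5, nat_lit 6, nat_lit 4, nat_lit 5, nat_lit 3, nat_lit 4, nat_lit 2, nat_lit 3, nat_lit 8, nat_lit 1, nat_lit 2, nat_lit 3, nat_lit 4, nat_lit 5, nat_lit 6, nat_lit 7, nat_lit 4, nat_lit 2, nat_lit 3, nat_lit 8, nat_lit 5, nat_lit 6, nat_lit 4, nat_lit 5, nat_lit 3, nat_lit 4, nat_lit 2, nat_lit 3, nat_lit 8, nat_lit 1, nat_lit 2, nat_lit 3, nat_lit 4, nat_lit 5, nat_lit 3, nat_lit 2, nat_lit 0, nat_lit 1, nat_lit 9, nat_lit 4, nat_lit 3, nat_lit 2, nat_lit 8, nat_lit 3, nat_lit 1, nat_lit 9, nat_lit 8, nat_lit 16, nat_lit 15, nat_lit 14, nat_lit 13, nat_lit 16] (Rl.cmp (nat_lit 3456) (nat_lit 4083)))) (FT.node (nat_lit 4086) (FT.leaf (Fct.mk false (nat_lit 32) (nat_lit 0) (nat_lit 32) [nat_lit 3, nat_lit 8, nat_lit 5, nat_lit 2, nat_lit 3, nat_lit 4, nat_lit 1, nat_lit 2, nat_lit 3, nat_lit 8, nat_lit 6, nat_lit 7, nat_lit 5, nat_lit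 6, nat_lit 4, nat_lit 5, nat_lit 3, nat_lit 4, nat_lit 2, nat_lit 3, nat_lit 8, nat_lit 1, nat_lit 2, nat_lit 3, nat_lit 4, nat_lit 5, nat_lit 6, nat_lit 7, nat_lit 4, nat_lit 2, nat_lit 3, nat_lit 8, nat_lit 0, nat_lit 1, nat_lit 2, nat_lit 3, nat_lit 4, nat_lit 5, nat_lit 1, nat_lit 2, nat_lit 0, nat_lit 1, nat_lit 9, nat_lit 4, nat_lit 3, nat_lit 2, nat_lit 8, nat_lit 3, nat_lit 10, nat_lit 2, nat_lit 8, nat_lit 10, nat_lit 1, nat_lit 8, nat_lit 12, nat_lit 15, nat_lit 12, nat_lit 19, nat_lit 16] (Rl.cmp (nat_lit 3004) (nat_lit 4084)))) (FT.leaf (Fct.mk false (nat_lit 32) (nat_lit 0) (nat_lit 32) [nat_lit 3, nat_lit 8, nat_lit 5, nat_lit 2, nat_lit 3, nat_lit 4, nat_lit 1, nat_lit 2, nat_lit 3, nat_lit 8, nat_lit 6, nat_lit 7, nat_lit 5, nat_lit 6, nat_lit 4, nat_lit 5, nat_lit 3, nat_lit 4, nat_lit 2, nat_lit 3, nat_lit 8, nat_lit 1, nat_lit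 2, nat_lit 3, nat_lit 4, nat_lit 5, nat_lit 6, nat_lit 7, nat_lit 8, nat_lit 6, nat_lit 5, nat_lit 3, nat_lit 4, nat_lit 2, nat_lit 3, nat_lit 8, nat_lit 1, nat_lit 2, nat_lit 3, nat_lit 4, nat_lit 5, nat_lit 1, nat_lit 3, nat_lit 2, nat_lit 0, nat_lit 1, nat_lit 4, nat_lit 3, nat_lit 2, nat_lit 8, nat_lit 3, nat_lit 11, nat_lit 8, nat_lit 10, nat_lit 1, nat_lit 16, nat_lit 15, nat_lit 14, nat_lit 8] (Rl.cmp (nat_lit 3456) (nat_lit 3047)))))))) (FT.node (nat_lit 4093) (FT.node (nat_lit 4090) (FT.node (nat_lit 4088) (FT.leaf (Fct.mk false (nat_lit 32) (nat_lit 0) (nat_lit 32) [nat_lit 0, nat_lit 1, nat_lit 2, nat_lit 3, nat_lit 4, nat_lit 5, nat_lit 3, nat_lit 8, nat_lit 4, nat_lit 3, nat_lit 2, nat_lit 0, nat_lit 1, nat_lit 9, nat_lit 4, nat_lit 3, nat_lit 2, nat_lit 8, nat_lit 3, nat_lit 15, nat_lit 17, nat_lit 16] (Rl.cmp (nat_lit 3004) (nat_lit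 2995)))) (FT.node (nat_lit 4089) (FT.leaf (Fct.mk false (nat_lit 32) (nat_lit 0) (nat_lit 32) [nat_lit 3, nat_lit 8, nat_lit 5, nat_lit 2, nat_lit 3, nat_lit 4, nat_lit 1, nat_lit 2, nat_lit 3, nat_lit 8, nat_lit 6, nat_lit 7, nat_lit 5, nat_lit 6, nat_lit 4, nat_lit 5, nat_lit 3, nat_lit 4, nat_lit 2, nat_lit 3, nat_lit 8, nat_lit 1, nat_lit 2, nat_lit 3, nat_lit 4, nat_lit 5, nat_lit 6, nat_lit 7, nat_lit 8, nat_lit 0, nat_lit 1, nat_lit 2, nat_lit 3, nat_lit 4, nat_lit 5, nat_lit 1, nat_lit 2, nat_lit 3, nat_lit 0, nat_lit 2, nat_lit 15, nat_lit 14, nat_lit 13, nat_lit 12, nat_lit 16] (Rl.cmp (nat_lit 3456) (nat_lit 3004)))) (FT.leaf (Fct.mk false (nat_lit 32) (nat_lit 0) (nat_lit 32) [nat_lit 3, nat_lit 8, nat_lit 5, nat_lit 2, nat_lit 3, nat_lit 4, nat_lit 1, nat_lit 2, nat_lit 3, nat_lit 8, nat_lit 6, nat_lit 7, nat_lit 5, nat_lit 6,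 nat_lit 4, nat_lit 5, nat_lit 3, nat_lit 4, nat_lit 2, nat_lit 3, nat_lit 8, nat_lit 1, nat_lit 2, nat_lit 3, nat_lit 4, nat_lit 5, nat_lit 6, nat_lit 7, nat_lit 2, nat_lit 3, nat_lit 8, nat_lit 5, nat_lit 6, nat_lit 4, nat_lit 5, nat_lit 3, nat_lit 4, nat_lit 2, nat_lit 3, nat_lit 8, nat_lit 0, nat_lit 1, nat_lit 2, nat_lit 3, nat_lit 4, nat_lit 5, nat_lit 8, nat_lit 3, nat_lit 2, nat_lit 1, nat_lit 4, nat_lit 3, nat_lit 2, nat_lit 8, nat_lit 3, nat_lit 11, nat_lit 8, nat_lit 10, nat_lit 8, nat_lit 12, nat_lit 15, nat_lit 14, nat_lit 17, nat_lit 12, nat_lit 19] (Rl.cmp (nat_lit 3010) (nat_lit 4088)))))) (FT.node (nat_lit 4091) (FT.leaf (Fct.mk false (nat_lit 32) (nat_lit 0) (nat_lit 32) [nat_lit 2, nat_lit 3, nat_lit 8, nat_lit 6, nat_lit 4, nat_lit 5, nat_lit 3, nat_lit 4, nat_lit 2, nat_lit 3, nat_lit 8, nat_lit 0, nat_lit 1, nat_lit 2,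 nat_lit 3, nat_lit 4, nat_lit 5, nat_lit 1, nat_lit 8, nat_lit 3, nat_lit 2, nat_lit 0, nat_lit 1, nat_lit 9, nat_lit 4, nat_lit 3, nat_lit 2, nat_lit 8, nat_lit 3, nat_lit 2, nat_lit 16, nat_lit 14, nat_lit 13, nat_lit 18, nat_lit 16] (Rl.cmp (nat_lit 3456) (nat_lit 4089)))) (FT.node (nat_lit 4092) (FT.leaf (Fct.mk false (nat_lit 32) (nat_lit 0) (nat_lit 32) [nat_lit 3, nat_lit 8, nat_lit 5, nat_lit 2, nat_lit 3, nat_lit 4, nat_lit 1, nat_lit 2, nat_lit 3, nat_lit 8, nat_lit 6, nat_lit 7, nat_lit 5, nat_lit 6, nat_lit 4, nat_lit 5, nat_lit 3, nat_lit 4, nat_lit 2, nat_lit 3, nat_lit 8, nat_lit 1, nat_lit 2, nat_lit 3, nat_lit 4, nat_lit 5, nat_lit 6, nat_lit 7, nat_lit 4, nat_lit 5, nat_lit 3, nat_lit 4, nat_lit 2, nat_lit 3, nat_lit 8, nat_lit 1, nat_lit 2, nat_lit 3, nat_lit 4, nat_lit 5, nat_lit 3, nat_lit 2, nat_lit 0, nat_lit 1, nat_lit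 9, nat_lit 4, nat_lit 3, nat_lit 2, nat_lit 8, nat_lit 3, nat_lit 2, nat_lit 8, nat_lit 10, nat_lit 1, nat_lit 16, nat_lit 15, nat_lit 14, nat_lit 17, nat_lit 12, nat_lit 18] (Rl.cmp (nat_lit 3010) (nat_lit 3456)))) (FT.leaf (Fct.mk false (nat_lit 32) (nat_lit 0) (nat_lit 32) [nat_lit 3, nat_lit 8, nat_lit 5, nat_lit 2, nat_lit 3, nat_lit 4, nat_lit 1, nat_lit 2, nat_lit 3, nat_lit 8, nat_lit 6, nat_lit 7, nat_lit 5, nat_lit 6, nat_lit 4, nat_lit 5, nat_lit 3, nat_lit 4, nat_lit 2, nat_lit 3, nat_lit 8, nat_lit 1, nat_lit 2, nat_lit 3, nat_lit 4, nat_lit 5, nat_lit 6, nat_lit 7, nat_lit 5, nat_lit 6, nat_lit 4, nat_lit 5, nat_lit 3, nat_lit 4, nat_lit 2, nat_lit 3, nat_lit 8, nat_lit 1, nat_lit 2, nat_lit 3, nat_lit 4, nat_lit 5, nat_lit 0, nat_lit 1, nat_lit 2, nat_lit 8, nat_lit 3, nat_lit 9, nat_lit 16, nat_lit 12, nat_lit 15, nat_lit 14,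 nat_lit 8, nat_lit 19] (Rl.cmp (nat_lit 3004) (nat_lit 4091))))))) (FT.node (nat_lit 4096) (FT.node (nat_lit 4094) (FT.leaf (Fct.mk false (nat_lit 32) (nat_lit 0) (nat_lit 32) [nat_lit 3, nat_lit 8, nat_lit 5, nat_lit 2, nat_lit 3, nat_lit 4, nat_lit 1, nat_lit 2, nat_lit 3, nat_lit 8, nat_lit 6, nat_lit 7, nat_lit 5, nat_lit 6, nat_lit 4, nat_lit 5, nat_lit 3, nat_lit 4, nat_lit 2, nat_lit 3, nat_lit 8, nat_lit 1, nat_lit 2, nat_lit 3, nat_lit 4, nat_lit 5, nat_lit 6, nat_lit 7, nat_lit 4, nat_lit 3, nat_lit 8, nat_lit 5, nat_lit 6, nat_lit 4, nat_lit 5, nat_lit 3, nat_lit 4, nat_lit 2, nat_lit 3, nat_lit 8, nat_lit 1, nat_lit 2, nat_lit 3, nat_lit 4, nat_lit 5, nat_lit 0, nat_lit 1, nat_lit 2, nat_lit 8, nat_lit 3, nat_lit 17, nat_lit 12] (Rl.cmp (nat_lit 3010) (nat_lit 4092)))) (FT.node (nat_lit 4095) (FT.leaf (Fct.mk false (nat_lit 32)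 (nat_lit 0) (nat_lit 32) [nat_lit 5, nat_lit 4, nat_lit 3, nat_lit 8, nat_lit 0, nat_lit 1, nat_lit 2, nat_lit 3, nat_lit 4, nat_lit 5, nat_lit 2, nat_lit 0, nat_lit 1, nat_lit 3, nat_lit 2, nat_lit 8, nat_lit 3, nat_lit 10, nat_lit 2, nat_lit 8, nat_lit 10, nat_lit 1, nat_lit 16, nat_lit 15, nat_lit 14, nat_lit 16, nat_lit 8] (Rl.cmp (nat_lit 3004) (nat_lit 4087)))) (FT.leaf (Fct.mk false (nat_lit 32) (nat_lit 0) (nat_lit 32) [nat_lit 5, nat_lit 4, nat_lit 3, nat_lit 8, nat_lit 0, nat_lit 1, nat_lit 2, nat_lit 3, nat_lit 4, nat_lit 5, nat_lit 2, nat_lit 0, nat_lit 1, nat_lit 4, nat_lit 3, nat_lit 2, nat_lit 8, nat_lit 3, nat_lit 10, nat_lit 2, nat_lit 8, nat_lit 10, nat_lit 1, nat_lit 16, nat_lit 15, nat_lit 14, nat_lit 16, nat_lit 8] (Rl.cmp (nat_lit 3004) (nat_lit 3004)))))) (FT.node (nat_lit 4098) (FT.node (nat_lit 4097) (FT.leaf (Fct.mk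 false (nat_lit 32) (nat_lit 0) (nat_lit 32) [nat_lit 2, nat_lit 3, nat_lit 4, nat_lit 1, nat_lit 2, nat_lit 3, nat_lit 8, nat_lit 0, nat_lit 1, nat_lit 2, nat_lit 3, nat_lit 4, nat_lit 5, nat_lit 3, nat_lit 8, nat_lit 4, nat_lit 3, nat_lit 2, nat_lit 0, nat_lit 1, nat_lit 9, nat_lit 4, nat_lit 3, nat_lit 2, nat_lit 8, nat_lit 3, nat_lit 11, nat_lit 10, nat_lit 8, nat_lit 16, nat_lit 14, nat_lit 19] (Rl.cmp (nat_lit 3010) (nat_lit 3004)))) (FT.leaf (Fct.mk false (nat_lit 32) (nat_lit 0) (nat_lit 32) [nat_lit 5, nat_lit 4, nat_lit 3, nat_lit 8, nat_lit 0, nat_lit 1, nat_lit 2, nat_lit 3, nat_lit 4, nat_lit 5, nat_lit 1, nat_lit 8, nat_lit 3, nat_lit 2, nat_lit 0, nat_lit 1, nat_lit 9, nat_lit 4, nat_lit 3, nat_lit 2, nat_lit 8, nat_lit 3, nat_lit 2, nat_lit 16, nat_lit 14, nat_lit 12, nat_lit 19] (Rl.cmp (nat_lit 3010) (nat_lit 4096))))) (FT.node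 (nat_lit 4099) (FT.leaf (Fct.mk false (nat_lit 32) (nat_lit 0) (nat_lit 32) [nat_lit 5, nat_lit 4, nat_lit 3, nat_lit 8, nat_lit 0, nat_lit 1, nat_lit 2, nat_lit 3, nat_lit 4, nat_lit 5, nat_lit 2, nat_lit 0, nat_lit 1, nat_lit 4, nat_lit 3, nat_lit 2, nat_lit 8, nat_lit 3, nat_lit 10, nat_lit 2, nat_lit 8, nat_lit 10, nat_lit 1, nat_lit 16, nat_lit 15, nat_lit 14, nat_lit 16, nat_lit 8] (Rl.cmp (nat_lit 3004) (nat_lit 3004)))) (FT.leaf (Fct.mk false (nat_lit 32) (nat_lit 0) (nat_lit 32) [nat_lit 3, nat_lit 8, nat_lit 5, nat_lit 2, nat_lit 3, nat_lit 4, nat_lit 1, nat_lit 2, nat_lit 3, nat_lit 8, nat_lit 6, nat_lit 7, nat_lit 5, nat_lit 6, nat_lit 4, nat_lit 5, nat_lit 3, nat_lit 4, nat_lit 2, nat_lit 3, nat_lit 8, nat_lit 1, nat_lit 2, nat_lit 3, nat_lit 4, nat_lit 5, nat_lit 6, nat_lit 7, nat_lit 1, nat_lit 2, nat_lit 3, nat_lit 4, nat_lit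 5, nat_lit 3, nat_lit 11, nat_lit 10, nat_lit 1, nat_lit 15, nat_lit 8, nat_lit 18, nat_lit 16] (Rl.cmp (nat_lit 3004) (nat_lit 3456)))))))))

/-- some facts -/
noncomputable def ftc82 : FT := FT.node (nat_lit 4125) (FT.node (nat_lit 4112) (FT.node (nat_lit 4106) (FT.node (nat_lit 4103) (FT.node (nat_lit 4101) (FT.leaf (Fct.mk false (nat_lit 32) (nat_lit 0) (nat_lit 32) [nat_lit 3, nat_lit 8, nat_lit 6, nat_lit 4, nat_lit 5, nat_lit 3, nat_lit 4, nat_lit 2, nat_lit 3, nat_lit 8, nat_lit 1, nat_lit 2, nat_lit 3, nat_lit 4, nat_lit 5, nat_lit 1, nat_lit 8, nat_lit 4, nat_lit 3, nat_lit 2, nat_lit 0, nat_lit 1, nat_lit 9, nat_lit 4, nat_lit 3, nat_lit 2, nat_lit 8, nat_lit 3, nat_lit 11, nat_lit 2, nat_lit 10, nat_lit 1, nat_lit 16, nat_lit 14, nat_lit 18, nat_lit 16] (Rl.cmp (nat_lit 3047) (nat_lit 3004)))) (FT.node (nat_lit 4102) (FT.leaf (Fct.mk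 false (nat_lit 32) (nat_lit 0) (nat_lit 32) [nat_lit 3, nat_lit 4, nat_lit 1, nat_lit 2, nat_lit 3, nat_lit 8, nat_lit 5, nat_lit 6, nat_lit 4, nat_lit 5, nat_lit 3, nat_lit 4, nat_lit 2, nat_lit 3, nat_lit 8, nat_lit 1, nat_lit 2, nat_lit 3, nat_lit 4, nat_lit 5, nat_lit 2, nat_lit 1, nat_lit 4, nat_lit 3, nat_lit 2, nat_lit 0, nat_lit 1, nat_lit 9, nat_lit 4, nat_lit 3, nat_lit 2, nat_lit 8, nat_lit 3, nat_lit 10, nat_lit 9, nat_lit 2, nat_lit 12, nat_lit 15, nat_lit 14, nat_lit 16, nat_lit 8, nat_lit 19, nat_lit 16] (Rl.cmp (nat_lit 3047) (nat_lit 4100)))) (FT.leaf (Fct.mk false (nat_lit 32) (nat_lit 0) (nat_lit 32) [nat_lit 8, nat_lit 3, nat_lit 4, nat_lit 1, nat_lit 2, nat_lit 3, nat_lit 8, nat_lit 5, nat_lit 6, nat_lit 4, nat_lit 5, nat_lit 3, nat_lit 4, nat_lit 2, nat_lit 3, nat_lit 8, nat_lit 1, nat_lit 2, nat_lit 3, nat_lit 4, nat_lit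 5, nat_lit 2, nat_lit 1, nat_lit 4, nat_lit 3, nat_lit 2, nat_lit 8, nat_lit 3, nat_lit 11, nat_lit 1, nat_lit 15, nat_lit 14, nat_lit 8, nat_lit 19] (Rl.cmp (nat_lit 3004) (nat_lit 4101)))))) (FT.node (nat_lit 4104) (FT.leaf (Fct.mk false (nat_lit 32) (nat_lit 0) (nat_lit 32) [nat_lit 3, nat_lit 8, nat_lit 5, nat_lit 2, nat_lit 3, nat_lit 4, nat_lit 1, nat_lit 2, nat_lit 3, nat_lit 8, nat_lit 6, nat_lit 7, nat_lit 5, nat_lit 6, nat_lit 4, nat_lit 5, nat_lit 3, nat_lit 4, nat_lit 2, nat_lit 3, nat_lit 8, nat_lit 1, nat_lit 2, nat_lit 3, nat_lit 4, nat_lit 5, nat_lit 6, nat_lit 7, nat_lit 2, nat_lit 3, nat_lit 8, nat_lit 4, nat_lit 5, nat_lit 3, nat_lit 4, nat_lit 2, nat_lit 3, nat_lit 8, nat_lit 1, nat_lit 2, nat_lit 3, nat_lit 4, nat_lit 5, nat_lit 3, nat_lit 2, nat_lit 0, nat_lit 1, nat_lit 4, nat_lit 3, nat_lit 2, nat_lit 8, nat_lit 3, nat_lit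 15, nat_lit 13, nat_lit 18, nat_lit 16] (Rl.cmp (nat_lit 3456) (nat_lit 4096)))) (FT.node (nat_lit 4105) (FT.leaf (Fct.mk false (nat_lit 32) (nat_lit 0) (nat_lit 32) [nat_lit 3, nat_lit 4, nat_lit 2, nat_lit 3, nat_lit 8, nat_lit 5, nat_lit 6, nat_lit 4, nat_lit 5, nat_lit 3, nat_lit 4, nat_lit 2, nat_lit 3, nat_lit 8, nat_lit 1, nat_lit 2, nat_lit 3, nat_lit 4, nat_lit 5, nat_lit 2, nat_lit 1, nat_lit 8, nat_lit 3, nat_lit 2, nat_lit 0, nat_lit 1, nat_lit 4, nat_lit 3, nat_lit 2, nat_lit 8, nat_lit 3, nat_lit 10, nat_lit 12, nat_lit 15, nat_lit 14, nat_lit 18, nat_lit 16] (Rl.cmp (nat_lit 3010) (nat_lit 3905)))) (FT.leaf (Fct.mk false (nat_lit 32) (nat_lit 0) (nat_lit 32) [nat_lit 3, nat_lit 8, nat_lit 5, nat_lit 2, nat_lit 3, nat_lit 4, nat_lit 1, nat_lit 2, nat_lit 3, nat_lit 8, nat_lit 6, nat_lit 7, nat_lit 5, nat_lit 6, nat_lit 4, nat_lit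 5, nat_lit 3, nat_lit 4, nat_lit 2, nat_lit 3, nat_lit 8, nat_lit 1, nat_lit 2, nat_lit 3, nat_lit 4, nat_lit 5, nat_lit 6, nat_lit 7, nat_lit 8, nat_lit 0, nat_lit 1, nat_lit 2, nat_lit 3, nat_lit 4, nat_lit 5, nat_lit 1, nat_lit 2, nat_lit 3, nat_lit 8, nat_lit 4, nat_lit 3, nat_lit 2, nat_lit 1, nat_lit 9, nat_lit 4, nat_lit 3, nat_lit 2, nat_lit 8, nat_lit 3, nat_lit 11, nat_lit 10, nat_lit 12, nat_lit 15, nat_lit 14, nat_lit 17, nat_lit 12, nat_lit 19] (Rl.cmp (nat_lit 3456) (nat_lit 4063))))))) (FT.node (nat_lit 4109) (FT.node (nat_lit 4107) (FT.leaf (Fct.mk false (nat_lit 32) (nat_lit 0) (nat_lit 32) [nat_lit 3, nat_lit 8, nat_lit 5, nat_lit 2, nat_lit 3, nat_lit 4, nat_lit 1, nat_lit 2, nat_lit 3, nat_lit 8, nat_lit 6, nat_lit 7, nat_lit 5, nat_lit 6, nat_lit 4, nat_lit 5, nat_lit 3, nat_lit 4, nat_lit 2, nat_lit 3, nat_lit 8, nat_lit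 1, nat_lit 2, nat_lit 3, nat_lit 4, nat_lit 5, nat_lit 6, nat_lit 7, nat_lit 5, nat_lit 4, nat_lit 3, nat_lit 8, nat_lit 0, nat_lit 1, nat_lit 2, nat_lit 3, nat_lit 4, nat_lit 5, nat_lit 9, nat_lit 4, nat_lit 0, nat_lit 15, nat_lit 14, nat_lit 17, nat_lit 12, nat_lit 18, nat_lit 16] (Rl.cmp (nat_lit 3047) (nat_lit 4105)))) (FT.node (nat_lit 4108) (FT.leaf (Fct.mk false (nat_lit 5) (nat_lit 0) (nat_lit 5) [nat_lit 3, nat_lit 11, nat_lit 10, nat_lit 1, nat_lit 16, nat_lit 15, nat_lit 14, nat_lit 13, nat_lit 16] (Rl.cmp (nat_lit 488) (nat_lit 470)))) (FT.leaf (Fct.mk false (nat_lit 32) (nat_lit 0) (nat_lit 32) [nat_lit 8, nat_lit 3, nat_lit 4, nat_lit 1, nat_lit 2, nat_lit 3, nat_lit 8, nat_lit 5, nat_lit 6, nat_lit 4, nat_lit 5, nat_lit 3, nat_lit 4, nat_lit 2, nat_lit 3, nat_lit 8, nat_lit 1, nat_lit 2, nat_lit 3, nat_lit 4, nat_lit 5, nat_lit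 2, nat_lit 1, nat_lit 4, nat_lit 3, nat_lit 2, nat_lit 8, nat_lit 3, nat_lit 11, nat_lit 2, nat_lit 15, nat_lit 19] (Rl.cmp (nat_lit 3010) (nat_lit 4082)))))) (FT.node (nat_lit 4110) (FT.leaf (Fct.mk false (nat_lit 32) (nat_lit 0) (nat_lit 32) [nat_lit 3, nat_lit 4, nat_lit 2, nat_lit 3, nat_lit 8, nat_lit 0, nat_lit 1, nat_lit 2, nat_lit 3, nat_lit 4, nat_lit 5, nat_lit 1, nat_lit 4, nat_lit 3, nat_lit 2, nat_lit 8, nat_lit 3, nat_lit 11, nat_lit 10, nat_lit 12, nat_lit 15, nat_lit 14, nat_lit 17, nat_lit 18, nat_lit 16] (Rl.cmp (nat_lit 3047) (nat_lit 4108)))) (FT.node (nat_lit 4111) (FT.leaf (Fct.mk true (nat_lit 32) (nat_lit 24067) (nat_lit 32) [nat_lit 8, nat_lit 1, nat_lit 2, nat_lit 3, nat_lit 4, nat_lit 5, nat_lit 6, nat_lit 7, nat_lit 4, nat_lit 3, nat_lit 8, nat_lit 2, nat_lit 3, nat_lit 4, nat_lit 1, nat_lit 2, nat_lit 3, nat_lit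 8, nat_lit 0, nat_lit 1, nat_lit 2, nat_lit 3, nat_lit 4, nat_lit 5, nat_lit 1, nat_lit 2, nat_lit 0, nat_lit 1, nat_lit 3, nat_lit 2, nat_lit 8, nat_lit 3, nat_lit 11, nat_lit 10, nat_lit 1, nat_lit 15, nat_lit 13, nat_lit 19] (Rl.rel (nat_lit 0) [nat_lit 8, nat_lit 3, nat_lit 4, nat_lit 5, nat_lit 6, nat_lit 7, nat_lit 2] (nat_lit 32) (nat_lit 2) [nat_lit 4007, nat_lit 4025, nat_lit 3182] []))) (FT.leaf (Fct.mk true (nat_lit 32) (nat_lit 34) (nat_lit 32) [nat_lit 6, nat_lit 5, nat_lit 4, nat_lit 3, nat_lit 8, nat_lit 2, nat_lit 3, nat_lit 4, nat_lit 5, nat_lit 6, nat_lit 7, nat_lit 4, nat_lit 11, nat_lit 10, nat_lit 17, nat_lit 12, nat_lit 18] (Rl.t1 (nat_lit 4110) (nat_lit 4109)))))))) (FT.node (nat_lit 4118) (FT.node (nat_lit 4115) (FT.node (nat_lit 4113) (FT.leaf (Fct.mk false (nat_lit 4) (nat_lit 0) (nat_lit 4) [nat_lit 8, nat_lit 3,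 nat_lit 4, nat_lit 1, nat_lit 2, nat_lit 3, nat_lit 8, nat_lit 6, nat_lit 7, nat_lit 5, nat_lit 6, nat_lit 4, nat_lit 5, nat_lit 3, nat_lit 4, nat_lit 2, nat_lit 3, nat_lit 8, nat_lit 1, nat_lit 2, nat_lit 3, nat_lit 4, nat_lit 5, nat_lit 6, nat_lit 7, nat_lit 6, nat_lit 5, nat_lit 4, nat_lit 3, nat_lit 8, nat_lit 2, nat_lit 3, nat_lit 4, nat_lit 1, nat_lit 2, nat_lit 3, nat_lit 8, nat_lit 5, nat_lit 6, nat_lit 4, nat_lit 5, nat_lit 3, nat_lit 4, nat_lit 2, nat_lit 3, nat_lit 8, nat_lit 1, nat_lit 2, nat_lit 3, nat_lit 4, nat_lit 5, nat_lit 1, nat_lit 9, nat_lit 4, nat_lit 3, nat_lit 2, nat_lit 8, nat_lit 3, nat_lit 1, nat_lit 16, nat_lit 8, nat_lit 19, nat_lit 16] (Rl.cmp (nat_lit 2284) (nat_lit 263)))) (FT.node (nat_lit 4114) (FT.leaf (Fct.mk false (nat_lit 5) (nat_lit 0) (nat_lit 5) [nat_lit 6, nat_lit 1, nat_lit 2, nat_lit 3, nat_lit 12,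 nat_lit 15, nat_lit 14, nat_lit 12] (Rl.cmp (nat_lit 511) (nat_lit 2931)))) (FT.leaf (Fct.mk false (nat_lit 5) (nat_lit 0) (nat_lit 5) [nat_lit 3, nat_lit 4, nat_lit 5, nat_lit 0, nat_lit 1, nat_lit 2, nat_lit 3, nat_lit 10, nat_lit 0, nat_lit 12, nat_lit 15, nat_lit 16] (Rl.cmp (nat_lit 1859) (nat_lit 1754)))))) (FT.node (nat_lit 4116) (FT.leaf (Fct.mk false (nat_lit 5) (nat_lit 0) (nat_lit 5) [nat_lit 5, nat_lit 9, nat_lit 4, nat_lit 11, nat_lit 10, nat_lit 15, nat_lit 14, nat_lit 13] (Rl.cmp (nat_lit 1754) (nat_lit 4114)))) (FT.node (nat_lit 4117) (FT.leaf (Fct.mk false (nat_lit 5) (nat_lit 0) (nat_lit 5) [nat_lit 6, nat_lit 9, nat_lit 4, nat_lit 10, nat_lit 15, nat_lit 14, nat_lit 12, nat_lit 16] (Rl.cmp (nat_lit 511) (nat_lit 4115)))) (FT.leaf (Fct.mk false (nat_lit 5) (nat_lit 0) (nat_lit 5) [nat_lit 6, nat_lit 1, nat_lit 2, nat_lit 3,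 nat_lit 2, nat_lit 12, nat_lit 15, nat_lit 14, nat_lit 12] (Rl.cmp (nat_lit 511) (nat_lit 488))))))) (FT.node (nat_lit 4121) (FT.node (nat_lit 4119) (FT.leaf (Fct.mk true (nat_lit 5) (nat_lit 4443) (nat_lit 32) [nat_lit 8, nat_lit 2, nat_lit 3, nat_lit 4, nat_lit 1, nat_lit 2, nat_lit 3, nat_lit 8, nat_lit 0, nat_lit 1, nat_lit 2, nat_lit 3, nat_lit 4, nat_lit 5, nat_lit 6, nat_lit 7, nat_lit 1, nat_lit 2, nat_lit 0, nat_lit 1, nat_lit 9, nat_lit 4, nat_lit 3, nat_lit 2, nat_lit 8, nat_lit 3, nat_lit 8, nat_lit 10, nat_lit 0, nat_lit 8, nat_lit 12, nat_lit 15, nat_lit 14, nat_lit 16, nat_lit 8, nat_lit 18, nat_lit 16] (Rl.rel (nat_lit 0) [nat_lit 8, nat_lit 3, nat_lit 4, nat_lit 5, nat_lit 6, nat_lit 7, nat_lit 1, nat_lit 2, nat_lit 3, nat_lit 10, nat_lit 1, nat_lit 12] (nat_lit 32) (nat_lit 2) [nat_lit 4007, nat_lit 4117, nat_lit 2608] [])))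 (FT.node (nat_lit 4120) (FT.leaf (Fct.mk true (nat_lit 5) (nat_lit 1132) (nat_lit 32) [nat_lit 8, nat_lit 2, nat_lit 3, nat_lit 4, nat_lit 1, nat_lit 2, nat_lit 3, nat_lit 8, nat_lit 0, nat_lit 1, nat_lit 2, nat_lit 3, nat_lit 4, nat_lit 5, nat_lit 6, nat_lit 7, nat_lit 3, nat_lit 2, nat_lit 0, nat_lit 1, nat_lit 9, nat_lit 4, nat_lit 3, nat_lit 2, nat_lit 8, nat_lit 3, nat_lit 8, nat_lit 10, nat_lit 0, nat_lit 8, nat_lit 12, nat_lit 15, nat_lit 14, nat_lit 12] (Rl.t1 (nat_lit 4118) (nat_lit 2765)))) (FT.leaf (Fct.mk true (nat_lit 32) (nat_lit 1773) (nat_lit 5) [nat_lit 2, nat_lit 3, nat_lit 4, nat_lit 1, nat_lit 2, nat_lit 3, nat_lit 8, nat_lit 0, nat_lit 1, nat_lit 2, nat_lit 3, nat_lit 4, nat_lit 5, nat_lit 6, nat_lit 7, nat_lit 3, nat_lit 2, nat_lit 1, nat_lit 8, nat_lit 3, nat_lit 2, nat_lit 0, nat_lit 1, nat_lit 9, nat_lit 4, nat_lit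 3, nat_lit 2, nat_lit 8, nat_lit 3, nat_lit 0, nat_lit 15, nat_lit 14, nat_lit 8, nat_lit 18] (Rl.inv (nat_lit 4119)))))) (FT.node (nat_lit 4123) (FT.node (nat_lit 4122) (FT.leaf (Fct.mk false (nat_lit 32) (nat_lit 0) (nat_lit 32) [nat_lit 3, nat_lit 8, nat_lit 5, nat_lit 2, nat_lit 3, nat_lit 4, nat_lit 1, nat_lit 2, nat_lit 3, nat_lit 8, nat_lit 6, nat_lit 7, nat_lit 5, nat_lit 6, nat_lit 4, nat_lit 5, nat_lit 3, nat_lit 4, nat_lit 2, nat_lit 3, nat_lit 8, nat_lit 1, nat_lit 2, nat_lit 3, nat_lit 4, nat_lit 5, nat_lit 6, nat_lit 7, nat_lit 8, nat_lit 0, nat_lit 1, nat_lit 2, nat_lit 3, nat_lit 4, nat_lit 5, nat_lit 1, nat_lit 2, nat_lit 3, nat_lit 0, nat_lit 2, nat_lit 15, nat_lit 14, nat_lit 13, nat_lit 12, nat_lit 16] (Rl.cmp (nat_lit 3456) (nat_lit 3004)))) (FT.leaf (Fct.mk false (nat_lit 32) (nat_lit 0) (nat_lit 32) [nat_lit 3, nat_lit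 8, nat_lit 5, nat_lit 2, nat_lit 3, nat_lit 4, nat_lit 1, nat_lit 2, nat_lit 3, nat_lit 8, nat_lit 6, nat_lit 7, nat_lit 5, nat_lit 6, nat_lit 4, nat_lit 5, nat_lit 3, nat_lit 4, nat_lit 2, nat_lit 3, nat_lit 8, nat_lit 1, nat_lit 2, nat_lit 3, nat_lit 4, nat_lit 5, nat_lit 6, nat_lit 7, nat_lit 3, nat_lit 4, nat_lit 2, nat_lit 3, nat_lit 8, nat_lit 5, nat_lit 6, nat_lit 4, nat_lit 5, nat_lit 3, nat_lit 4, nat_lit 2, nat_lit 3, nat_lit 8, nat_lit 0, nat_lit 1, nat_lit 2, nat_lit 3, nat_lit 4, nat_lit 5, nat_lit 8, nat_lit 3, nat_lit 2, nat_lit 1, nat_lit 4, nat_lit 3, nat_lit 2, nat_lit 8, nat_lit 3, nat_lit 11, nat_lit 8, nat_lit 10, nat_lit 1, nat_lit 12, nat_lit 15, nat_lit 17, nat_lit 12, nat_lit 19, nat_lit 16] (Rl.cmp (nat_lit 2995) (nat_lit 4121))))) (FT.node (nat_lit 4124) (FT.leaf (Fct.mk false (nat_lit 32) (nat_lit 0) (nat_lit 32)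 [nat_lit 8, nat_lit 1, nat_lit 2, nat_lit 3, nat_lit 4, nat_lit 5, nat_lit 1, nat_lit 8, nat_lit 4, nat_lit 3, nat_lit 2, nat_lit 0, nat_lit 1, nat_lit 9, nat_lit 4, nat_lit 3, nat_lit 2, nat_lit 8, nat_lit 3, nat_lit 11, nat_lit 10, nat_lit 1, nat_lit 15, nat_lit 16, nat_lit 8, nat_lit 19] (Rl.cmp (nat_lit 3456) (nat_lit 4122)))) (FT.leaf (Fct.mk false (nat_lit 32) (nat_lit 0) (nat_lit 32) [nat_lit 2, nat_lit 3, nat_lit 8, nat_lit 6, nat_lit 4, nat_lit 5, nat_lit 3, nat_lit 4, nat_lit 2, nat_lit 3, nat_lit 8, nat_lit 1, nat_lit 2, nat_lit 3, nat_lit 4, nat_lit 5, nat_lit 2, nat_lit 1, nat_lit 4, nat_lit 3, nat_lit 2, nat_lit 0, nat_lit 1, nat_lit 9, nat_lit 4, nat_lit 3, nat_lit 2, nat_lit 8, nat_lit 3, nat_lit 8, nat_lit 10, nat_lit 9, nat_lit 2, nat_lit 15, nat_lit 12, nat_lit 18] (Rl.cmp (nat_lit 3004) (nat_lit 4123))))))))) (FT.node (nat_lit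 4137) (FT.node (nat_lit 4131) (FT.node (nat_lit 4128) (FT.node (nat_lit 4126) (FT.leaf (Fct.mk false (nat_lit 32) (nat_lit 0) (nat_lit 32) [nat_lit 6, nat_lit 4, nat_lit 3, nat_lit 2, nat_lit 8, nat_lit 3, nat_lit 8, nat_lit 10, nat_lit 12, nat_lit 18] (Rl.cmp (nat_lit 3004) (nat_lit 4124)))) (FT.node (nat_lit 4127) (FT.leaf (Fct.mk false (nat_lit 32) (nat_lit 0) (nat_lit 32) [nat_lit 6, nat_lit 5, nat_lit 4, nat_lit 3, nat_lit 8, nat_lit 2, nat_lit 3, nat_lit 4, nat_lit 1, nat_lit 2, nat_lit 3, nat_lit 8, nat_lit 5, nat_lit 6, nat_lit 4, nat_lit 5, nat_lit 3, nat_lit 4, nat_lit 2, nat_lit 3, nat_lit 8, nat_lit 1, nat_lit 2, nat_lit 3, nat_lit 4, nat_lit 5, nat_lit 1, nat_lit 8, nat_lit 3, nat_lit 2, nat_lit 0, nat_lit 1, nat_lit 4, nat_lit 3, nat_lit 2, nat_lit 8, nat_lit 3, nat_lit 11, nat_lit 2, nat_lit 10, nat_lit 1, nat_lit 8, nat_lit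 12, nat_lit 15, nat_lit 14, nat_lit 17] (Rl.cmp (nat_lit 3010) (nat_lit 4074)))) (FT.leaf (Fct.mk false (nat_lit 32) (nat_lit 0) (nat_lit 32) [nat_lit 8, nat_lit 1, nat_lit 2, nat_lit 3, nat_lit 4, nat_lit 5, nat_lit 2, nat_lit 1, nat_lit 9, nat_lit 4, nat_lit 3, nat_lit 2, nat_lit 8, nat_lit 3, nat_lit 11, nat_lit 8, nat_lit 10, nat_lit 8, nat_lit 12, nat_lit 15, nat_lit 14, nat_lit 17, nat_lit 18, nat_lit 16] (Rl.cmp (nat_lit 3004) (nat_lit 4126)))))) (FT.node (nat_lit 4129) (FT.leaf (Fct.mk false (nat_lit 32) (nat_lit 0) (nat_lit 32) [nat_lit 3, nat_lit 8, nat_lit 5, nat_lit 2, nat_lit 3, nat_lit 4, nat_lit 1, nat_lit 2, nat_lit 3, nat_lit 8, nat_lit 6, nat_lit 7, nat_lit 5, nat_lit 6, nat_lit 4, nat_lit 5, nat_lit 3, nat_lit 4, nat_lit 2, nat_lit 3, nat_lit 8, nat_lit 1, nat_lit 2, nat_lit 3, nat_lit 4, nat_lit 5, nat_lit 6, nat_lit 7,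 nat_lit 8, nat_lit 0, nat_lit 1, nat_lit 2, nat_lit 3, nat_lit 4, nat_lit 5, nat_lit 1, nat_lit 2, nat_lit 3, nat_lit 0, nat_lit 2, nat_lit 15, nat_lit 14, nat_lit 13, nat_lit 12, nat_lit 16] (Rl.cmp (nat_lit 3456) (nat_lit 3004)))) (FT.node (nat_lit 4130) (FT.leaf (Fct.mk false (nat_lit 32) (nat_lit 0) (nat_lit 32) [nat_lit 2, nat_lit 3, nat_lit 4, nat_lit 1, nat_lit 2, nat_lit 3, nat_lit 8, nat_lit 0, nat_lit 1, nat_lit 2, nat_lit 3, nat_lit 4, nat_lit 5, nat_lit 3, nat_lit 8, nat_lit 4, nat_lit 3, nat_lit 2, nat_lit 0, nat_lit 1, nat_lit 9, nat_lit 4, nat_lit 3, nat_lit 2, nat_lit 8, nat_lit 3, nat_lit 11, nat_lit 10, nat_lit 8, nat_lit 16, nat_lit 14, nat_lit 19] (Rl.cmp (nat_lit 3010) (nat_lit 3004)))) (FT.leaf (Fct.mk false (nat_lit 32) (nat_lit 0) (nat_lit 32) [nat_lit 3, nat_lit 8, nat_lit 5, nat_lit 2, nat_lit 3, nat_lit 4, nat_lit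 1, nat_lit 2, nat_lit 3, nat_lit 8, nat_lit 6, nat_lit 7, nat_lit 5, nat_lit 6, nat_lit 4, nat_lit 5, nat_lit 3, nat_lit 4, nat_lit 2, nat_lit 3, nat_lit 8, nat_lit 1, nat_lit 2, nat_lit 3, nat_lit 4, nat_lit 5, nat_lit 6, nat_lit 7, nat_lit 2, nat_lit 3, nat_lit 8, nat_lit 4, nat_lit 5, nat_lit 3, nat_lit 4, nat_lit 2, nat_lit 3, nat_lit 8, nat_lit 1, nat_lit 2, nat_lit 3, nat_lit 4, nat_lit 5, nat_lit 3, nat_lit 2, nat_lit 0, nat_lit 1, nat_lit 4, nat_lit 3, nat_lit 2, nat_lit 8, nat_lit 3, nat_lit 15, nat_lit 13, nat_lit 18, nat_lit 16] (Rl.cmp (nat_lit 3456) (nat_lit 4129))))))) (FT.node (nat_lit 4134) (FT.node (nat_lit 4132) (FT.leaf (Fct.mk false (nat_lit 32) (nat_lit 0) (nat_lit 32) [nat_lit 3, nat_lit 8, nat_lit 5, nat_lit 2, nat_lit 3, nat_lit 4, nat_lit 1, nat_lit 2, nat_lit 3, nat_lit 8, nat_lit 6, nat_lit 7, nat_lit 5, nat_lit 6,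 nat_lit 4, nat_lit 5, nat_lit 3, nat_lit 4, nat_lit 2, nat_lit 3, nat_lit 8, nat_lit 1, nat_lit 2, nat_lit 3, nat_lit 4, nat_lit 5, nat_lit 6, nat_lit 7, nat_lit 1, nat_lit 2, nat_lit 3, nat_lit 4, nat_lit 5, nat_lit 4, nat_lit 3, nat_lit 2, nat_lit 0, nat_lit 1, nat_lit 9, nat_lit 4, nat_lit 3, nat_lit 2, nat_lit 8, nat_lit 3, nat_lit 1, nat_lit 9, nat_lit 16, nat_lit 12, nat_lit 15, nat_lit 14, nat_lit 12, nat_lit 19] (Rl.cmp (nat_lit 3010) (nat_lit 4130)))) (FT.node (nat_lit 4133) (FT.leaf (Fct.mk false (nat_lit 32) (nat_lit 0) (nat_lit 32) [nat_lit 8, nat_lit 1, nat_lit 2, nat_lit 3, nat_lit 4, nat_lit 5, nat_lit 3, nat_lit 2, nat_lit 0, nat_lit 1, nat_lit 9, nat_lit 4, nat_lit 3, nat_lit 2, nat_lit 8, nat_lit 3, nat_lit 8, nat_lit 10, nat_lit 0, nat_lit 16, nat_lit 14, nat_lit 13, nat_lit 12, nat_lit 19] (Rl.cmp (nat_lit 3004) (nat_lit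 3047)))) (FT.leaf (Fct.mk false (nat_lit 32) (nat_lit 0) (nat_lit 32) [nat_lit 2, nat_lit 3, nat_lit 4, nat_lit 1, nat_lit 2, nat_lit 3, nat_lit 8, nat_lit 0, nat_lit 1, nat_lit 2, nat_lit 3, nat_lit 4, nat_lit 5, nat_lit 3, nat_lit 8, nat_lit 4, nat_lit 3, nat_lit 2, nat_lit 0, nat_lit 1, nat_lit 9, nat_lit 4, nat_lit 3, nat_lit 2, nat_lit 8, nat_lit 3, nat_lit 11, nat_lit 10, nat_lit 8, nat_lit 16, nat_lit 14, nat_lit 19] (Rl.cmp (nat_lit 3010) (nat_lit 3004)))))) (FT.node (nat_lit 4135) (FT.leaf (Fct.mk false (nat_lit 32) (nat_lit 0) (nat_lit 32) [nat_lit 5, nat_lit 4, nat_lit 3, nat_lit 8, nat_lit 2, nat_lit 3, nat_lit 4, nat_lit 5, nat_lit 2, nat_lit 1, nat_lit 4, nat_lit 3, nat_lit 2, nat_lit 8, nat_lit 3, nat_lit 8, nat_lit 10, nat_lit 14, nat_lit 12, nat_lit 18] (Rl.cmp (nat_lit 3010) (nat_lit 2995)))) (FT.node (nat_lit 4136) (FT.leaf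 (Fct.mk false (nat_lit 32) (nat_lit 0) (nat_lit 32) [nat_lit 5, nat_lit 6, nat_lit 4, nat_lit 5, nat_lit 3, nat_lit 4, nat_lit 2, nat_lit 3, nat_lit 8, nat_lit 1, nat_lit 2, nat_lit 3, nat_lit 4, nat_lit 5, nat_lit 1, nat_lit 4, nat_lit 3, nat_lit 2, nat_lit 8, nat_lit 3, nat_lit 11, nat_lit 10, nat_lit 1, nat_lit 12, nat_lit 15, nat_lit 14, nat_lit 18, nat_lit 16] (Rl.cmp (nat_lit 3004) (nat_lit 4134)))) (FT.leaf (Fct.mk false (nat_lit 32) (nat_lit 0) (nat_lit 32) [nat_lit 2, nat_lit 3, nat_lit 8, nat_lit 6, nat_lit 4, nat_lit 5, nat_lit 3, nat_lit 4, nat_lit 2, nat_lit 3, nat_lit 8, nat_lit 1, nat_lit 2, nat_lit 3, nat_lit 4, nat_lit 5, nat_lit 2, nat_lit 1, nat_lit 3, nat_lit 2, nat_lit 0, nat_lit 1, nat_lit 4, nat_lit 3, nat_lit 2, nat_lit 8, nat_lit 3, nat_lit 11, nat_lit 1, nat_lit 15, nat_lit 13, nat_lit 19, nat_lit 16] (Rl.cmp (nat_lit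 3004) (nat_lit 4072)))))))) (FT.node (nat_lit 4143) (FT.node (nat_lit 4140) (FT.node (nat_lit 4138) (FT.leaf (Fct.mk false (nat_lit 32) (nat_lit 0) (nat_lit 32) [nat_lit 2, nat_lit 3, nat_lit 4, nat_lit 1, nat_lit 2, nat_lit 3, nat_lit 8, nat_lit 0, nat_lit 1, nat_lit 2, nat_lit 3, nat_lit 4, nat_lit 5, nat_lit 3, nat_lit 8, nat_lit 4, nat_lit 3, nat_lit 2, nat_lit 0, nat_lit 1, nat_lit 9, nat_lit 4, nat_lit 3, nat_lit 2, nat_lit 8, nat_lit 3, nat_lit 11, nat_lit 10, nat_lit 8, nat_lit 16, nat_lit 14, nat_lit 19] (Rl.cmp (nat_lit 3010) (nat_lit 3004)))) (FT.node (nat_lit 4139) (FT.leaf (Fct.mk false (nat_lit 4) (nat_lit 0) (nat_lit 4) [nat_lit 2, nat_lit 3, nat_lit 8, nat_lit 4, nat_lit 5, nat_lit 3, nat_lit 4, nat_lit 2, nat_lit 3, nat_lit 8, nat_lit 6, nat_lit 7, nat_lit 5, nat_lit 6, nat_lit 4, nat_lit 5, nat_lit 3, nat_lit 4, nat_lit 2,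 nat_lit 3, nat_lit 8, nat_lit 1, nat_lit 2, nat_lit 3, nat_lit 4, nat_lit 5, nat_lit 6, nat_lit 7, nat_lit 8, nat_lit 3, nat_lit 4, nat_lit 5, nat_lit 1, nat_lit 4, nat_lit 3, nat_lit 2, nat_lit 8, nat_lit 3, nat_lit 10, nat_lit 12, nat_lit 8, nat_lit 16, nat_lit 14, nat_lit 12, nat_lit 16] (Rl.cmp (nat_lit 2284) (nat_lit 312)))) (FT.leaf (Fct.mk false (nat_lit 4) (nat_lit 0) (nat_lit 4) [nat_lit 8, nat_lit 3, nat_lit 4, nat_lit 1, nat_lit 2, nat_lit 3, nat_lit 8, nat_lit 6, nat_lit 7, nat_lit 5, nat_lit 6, nat_lit 4, nat_lit 5, nat_lit 3, nat_lit 4, nat_lit 2, nat_lit 3, nat_lit 8, nat_lit 1, nat_lit 2, nat_lit 3, nat_lit 4, nat_lit 5, nat_lit 6, nat_lit 7, nat_lit 6, nat_lit 1, nat_lit 3, nat_lit 2, nat_lit 8, nat_lit 3, nat_lit 9, nat_lit 2, nat_lit 8, nat_lit 16, nat_lit 14, nat_lit 12, nat_lit 18, nat_lit 16] (Rl.cmp (nat_lit 243) (nat_lit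 4138)))))) (FT.node (nat_lit 4141) (FT.leaf (Fct.mk false (nat_lit 32) (nat_lit 0) (nat_lit 32) [nat_lit 2, nat_lit 3, nat_lit 4, nat_lit 1, nat_lit 2, nat_lit 3, nat_lit 8, nat_lit 0, nat_lit 1, nat_lit 2, nat_lit 3, nat_lit 4, nat_lit 5, nat_lit 3, nat_lit 8, nat_lit 4, nat_lit 3, nat_lit 2, nat_lit 0, nat_lit 1, nat_lit 9, nat_lit 4, nat_lit 3, nat_lit 2, nat_lit 8, nat_lit 3, nat_lit 11, nat_lit 10, nat_lit 8, nat_lit 16, nat_lit 14, nat_lit 19] (Rl.cmp (nat_lit 3010) (nat_lit 3004)))) (FT.node (nat_lit 4142) (FT.leaf (Fct.mk false (nat_lit 32) (nat_lit 0) (nat_lit 32) [nat_lit 3, nat_lit 4, nat_lit 1, nat_lit 2, nat_lit 3, nat_lit 8, nat_lit 5, nat_lit 6, nat_lit 4, nat_lit 5, nat_lit 3, nat_lit 4, nat_lit 2, nat_lit 3, nat_lit 8, nat_lit 1, nat_lit 2, nat_lit 3, nat_lit 4, nat_lit 5, nat_lit 0, nat_lit 1, nat_lit 2, nat_lit 8, nat_lit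 3, nat_lit 11, nat_lit 1, nat_lit 12, nat_lit 15, nat_lit 12, nat_lit 19, nat_lit 16] (Rl.cmp (nat_lit 3004) (nat_lit 4140)))) (FT.leaf (Fct.mk false (nat_lit 32) (nat_lit 0) (nat_lit 32) [nat_lit 5, nat_lit 4, nat_lit 3, nat_lit 8, nat_lit 2, nat_lit 3, nat_lit 4, nat_lit 1, nat_lit 2, nat_lit 3, nat_lit 8, nat_lit 5, nat_lit 6, nat_lit 4, nat_lit 5, nat_lit 3, nat_lit 4, nat_lit 2, nat_lit 3, nat_lit 8, nat_lit 1, nat_lit 2, nat_lit 3, nat_lit 4, nat_lit 5, nat_lit 3, nat_lit 8, nat_lit 4, nat_lit 3, nat_lit 2, nat_lit 1, nat_lit 9, nat_lit 4, nat_lit 3, nat_lit 2, nat_lit 8, nat_lit 3, nat_lit 10, nat_lit 1, nat_lit 12, nat_lit 8, nat_lit 16, nat_lit 14, nat_lit 8, nat_lit 19] (Rl.cmp (nat_lit 3004) (nat_lit 3853))))))) (FT.node (nat_lit 4146) (FT.node (nat_lit 4144) (FT.leaf (Fct.mk false (nat_lit 32) (nat_lit 0) (nat_lit 32) [nat_lit 1,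 nat_lit 2, nat_lit 3, nat_lit 8, nat_lit 6, nat_lit 4, nat_lit 5, nat_lit 3, nat_lit 4, nat_lit 2, nat_lit 3, nat_lit 8, nat_lit 1, nat_lit 2, nat_lit 3, nat_lit 4, nat_lit 5, nat_lit 2, nat_lit 1, nat_lit 3, nat_lit 2, nat_lit 8, nat_lit 3, nat_lit 1, nat_lit 9, nat_lit 8, nat_lit 16, nat_lit 14, nat_lit 16, nat_lit 8, nat_lit 18, nat_lit 16] (Rl.cmp (nat_lit 3010) (nat_lit 4142)))) (FT.node (nat_lit 4145) (FT.leaf (Fct.mk false (nat_lit 32) (nat_lit 0) (nat_lit 32) [nat_lit 8, nat_lit 3, nat_lit 4, nat_lit 2, nat_lit 3, nat_lit 8, nat_lit 1, nat_lit 2, nat_lit 3, nat_lit 4, nat_lit 5, nat_lit 4, nat_lit 3, nat_lit 2, nat_lit 8, nat_lit 3, nat_lit 11, nat_lit 12, nat_lit 15, nat_lit 14, nat_lit 13, nat_lit 12] (Rl.cmp (nat_lit 3004) (nat_lit 4143)))) (FT.leaf (Fct.mk false (nat_lit 32) (nat_lit 0) (nat_lit 32) [nat_lit 2, nat_lit 3, nat_lit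 4, nat_lit 5, nat_lit 1, nat_lit 3, nat_lit 2, nat_lit 8, nat_lit 3, nat_lit 11, nat_lit 2, nat_lit 10, nat_lit 1, nat_lit 15, nat_lit 13, nat_lit 12, nat_lit 18] (Rl.cmp (nat_lit 3010) (nat_lit 4144)))))) (FT.node (nat_lit 4148) (FT.node (nat_lit 4147) (FT.leaf (Fct.mk false (nat_lit 5) (nat_lit 0) (nat_lit 5) [nat_lit 6, nat_lit 1, nat_lit 2, nat_lit 3, nat_lit 9, nat_lit 2, nat_lit 16, nat_lit 15, nat_lit 14, nat_lit 12] (Rl.cmp (nat_lit 1754) (nat_lit 511)))) (FT.leaf (Fct.mk true (nat_lit 5) (nat_lit 6175) (nat_lit 5) [nat_lit 8, nat_lit 4, nat_lit 5, nat_lit 3, nat_lit 4, nat_lit 2, nat_lit 3, nat_lit 8, nat_lit 1, nat_lit 2, nat_lit 3, nat_lit 4, nat_lit 5, nat_lit 3, nat_lit 8, nat_lit 4, nat_lit 3, nat_lit 2, nat_lit 0, nat_lit 1, nat_lit 9, nat_lit 4, nat_lit 3, nat_lit 2, nat_lit 8, nat_lit 3, nat_lit 9, nat_lit 10, nat_lit 2, nat_lit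 8, nat_lit 10, nat_lit 1, nat_lit 16, nat_lit 15, nat_lit 14, nat_lit 19, nat_lit 16] (Rl.rel (nat_lit 0) [nat_lit 8, nat_lit 3, nat_lit 4, nat_lit 5, nat_lit 1, nat_lit 4, nat_lit 3, nat_lit 2, nat_lit 0, nat_lit 1, nat_lit 9, nat_lit 4, nat_lit 3, nat_lit 2, nat_lit 8, nat_lit 3, nat_lit 11, nat_lit 10, nat_lit 2, nat_lit 8, nat_lit 10, nat_lit 1, nat_lit 15, nat_lit 8] (nat_lit 5) (nat_lit 2) [nat_lit 3990, nat_lit 4145, nat_lit 3029] [])))) (FT.node (nat_lit 4149) (FT.leaf (Fct.mk true (nat_lit 5) (nat_lit 662) (nat_lit 5) [nat_lit 8, nat_lit 6, nat_lit 5, nat_lit 3, nat_lit 4, nat_lit 2, nat_lit 3, nat_lit 8, nat_lit 1, nat_lit 2, nat_lit 3, nat_lit 4, nat_lit 5, nat_lit 8, nat_lit 4, nat_lit 3, nat_lit 2, nat_lit 0, nat_lit 1, nat_lit 9, nat_lit 4, nat_lit 3, nat_lit 2, nat_lit 8, nat_lit 3, nat_lit 10, nat_lit 1, nat_lit 16, nat_lit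 14, nat_lit 16, nat_lit 8, nat_lit 18] (Rl.t1 (nat_lit 4147) (nat_lit 4146)))) (FT.leaf (Fct.mk false (nat_lit 32) (nat_lit 0) (nat_lit 32) [nat_lit 5, nat_lit 4, nat_lit 3, nat_lit 8, nat_lit 2, nat_lit 3, nat_lit 4, nat_lit 1, nat_lit 2, nat_lit 3, nat_lit 8, nat_lit 5, nat_lit 6, nat_lit 4, nat_lit 5, nat_lit 3, nat_lit 4, nat_lit 2, nat_lit 3, nat_lit 8, nat_lit 1, nat_lit 2, nat_lit 3, nat_lit 4, nat_lit 5, nat_lit 2, nat_lit 1, nat_lit 8, nat_lit 3, nat_lit 2, nat_lit 0, nat_lit 1, nat_lit 4, nat_lit 3, nat_lit 2, nat_lit 8, nat_lit 3, nat_lit 10, nat_lit 9, nat_lit 2, nat_lit 8, nat_lit 16, nat_lit 15, nat_lit 14, nat_lit 16, nat_lit 8, nat_lit 18, nat_lit 16] (Rl.cmp (nat_lit 3004) (nat_lit 4097)))))))))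

/-- some facts -/
noncomputable def ftc83 : FT := FT.node (nat_lit 4175) (FT.node (nat_lit 4162) (FT.node (nat_lit 4156) (FT.node (nat_lit 4153) (FT.node (nat_lit 4151) (FT.leaf (Fct.mk false (nat_lit 32) (nat_lit 0) (nat_lit 32) [nat_lit 6, nat_lit 1, nat_lit 2, nat_lit 0, nat_lit 1, nat_lit 4, nat_lit 3, nat_lit 2, nat_lit 8, nat_lit 3, nat_lit 8, nat_lit 10, nat_lit 8, nat_lit 12, nat_lit 15, nat_lit 14] (Rl.cmp (nat_lit 3047) (nat_lit 4149)))) (FT.node (nat_lit 4152) (FT.leaf (Fct.mk false (nat_lit 32) (nat_lit 0) (nat_lit 32) [nat_lit 3, nat_lit 8, nat_lit 5, nat_lit 2, nat_lit 3, nat_lit 4, nat_lit 1, nat_lit 2, nat_lit 3, nat_lit 8, nat_lit 6, nat_lit 7, nat_lit 5, nat_lit 6, nat_lit 4, nat_lit 5, nat_lit 3, nat_lit 4, nat_lit 2, nat_lit 3, nat_lit 8, nat_lit 1, nat_lit 2, nat_lit 3, nat_lit 4, nat_lit 5, nat_lit 6, nat_lit 7, nat_lit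 5, nat_lit 3, nat_lit 4, nat_lit 2, nat_lit 3, nat_lit 8, nat_lit 1, nat_lit 2, nat_lit 3, nat_lit 4, nat_lit 5, nat_lit 0, nat_lit 1, nat_lit 4, nat_lit 3, nat_lit 2, nat_lit 8, nat_lit 3, nat_lit 10, nat_lit 2, nat_lit 8, nat_lit 10, nat_lit 1, nat_lit 14, nat_lit 17, nat_lit 18] (Rl.cmp (nat_lit 3456) (nat_lit 2995)))) (FT.leaf (Fct.mk false (nat_lit 5) (nat_lit 0) (nat_lit 5) [nat_lit 6, nat_lit 9, nat_lit 4, nat_lit 10, nat_lit 12, nat_lit 15, nat_lit 12, nat_lit 16] (Rl.cmp (nat_lit 1754) (nat_lit 1859)))))) (FT.node (nat_lit 4154) (FT.leaf (Fct.mk false (nat_lit 5) (nat_lit 0) (nat_lit 5) [nat_lit 0, nat_lit 1, nat_lit 2, nat_lit 3, nat_lit 4, nat_lit 5, nat_lit 3, nat_lit 11, nat_lit 10, nat_lit 14, nat_lit 13] (Rl.cmp (nat_lit 1859) (nat_lit 472)))) (FT.node (nat_lit 4155) (FT.leaf (Fct.mk false (nat_lit 5) (nat_lit 0) (nat_lit 5)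 [nat_lit 8, nat_lit 3, nat_lit 4, nat_lit 2, nat_lit 3, nat_lit 8, nat_lit 7, nat_lit 5, nat_lit 6, nat_lit 4, nat_lit 5, nat_lit 3, nat_lit 4, nat_lit 2, nat_lit 3, nat_lit 8, nat_lit 0, nat_lit 1, nat_lit 2, nat_lit 3, nat_lit 4, nat_lit 5, nat_lit 6, nat_lit 7, nat_lit 3, nat_lit 8, nat_lit 4, nat_lit 5, nat_lit 3, nat_lit 4, nat_lit 2, nat_lit 3, nat_lit 8, nat_lit 1, nat_lit 2, nat_lit 3, nat_lit 4, nat_lit 5, nat_lit 4, nat_lit 3, nat_lit 2, nat_lit 8, nat_lit 3, nat_lit 10, nat_lit 0, nat_lit 16, nat_lit 14, nat_lit 17] (Rl.cmp (nat_lit 2491) (nat_lit 1754)))) (FT.leaf (Fct.mk false (nat_lit 5) (nat_lit 0) (nat_lit 5) [nat_lit 8, nat_lit 3, nat_lit 4, nat_lit 2, nat_lit 3, nat_lit 8, nat_lit 7, nat_lit 5, nat_lit 6, nat_lit 4, nat_lit 5, nat_lit 3, nat_lit 4, nat_lit 2, nat_lit 3, nat_lit 8, nat_lit 0, nat_lit 1, nat_lit 2, nat_lit 3,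 nat_lit 4, nat_lit 5, nat_lit 6, nat_lit 7, nat_lit 6, nat_lit 5, nat_lit 4, nat_lit 2, nat_lit 3, nat_lit 8, nat_lit 1, nat_lit 2, nat_lit 3, nat_lit 4, nat_lit 5, nat_lit 1, nat_lit 9, nat_lit 4, nat_lit 3, nat_lit 2, nat_lit 8, nat_lit 3, nat_lit 11, nat_lit 10, nat_lit 2, nat_lit 8, nat_lit 10, nat_lit 1, nat_lit 15, nat_lit 14, nat_lit 13, nat_lit 18] (Rl.cmp (nat_lit 493) (nat_lit 4154))))))) (FT.node (nat_lit 4159) (FT.node (nat_lit 4157) (FT.leaf (Fct.mk false (nat_lit 5) (nat_lit 0) (nat_lit 5) [nat_lit 8, nat_lit 3, nat_lit 4, nat_lit 2, nat_lit 3, nat_lit 8, nat_lit 7, nat_lit 5, nat_lit 6, nat_lit 4, nat_lit 5, nat_lit 3, nat_lit 4, nat_lit 2, nat_lit 3, nat_lit 8, nat_lit 0, nat_lit 1, nat_lit 2, nat_lit 3, nat_lit 4, nat_lit 5, nat_lit 6, nat_lit 7, nat_lit 8, nat_lit 4, nat_lit 5, nat_lit 3, nat_lit 4, nat_lit 2, nat_lit 3, nat_lit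 8, nat_lit 1, nat_lit 2, nat_lit 3, nat_lit 4, nat_lit 5, nat_lit 4, nat_lit 3, nat_lit 2, nat_lit 1, nat_lit 8, nat_lit 3, nat_lit 2, nat_lit 0, nat_lit 1, nat_lit 4, nat_lit 3, nat_lit 2, nat_lit 8, nat_lit 3, nat_lit 10, nat_lit 16, nat_lit 15, nat_lit 14, nat_lit 16] (Rl.cmp (nat_lit 1754) (nat_lit 4155)))) (FT.node (nat_lit 4158) (FT.leaf (Fct.mk false (nat_lit 32) (nat_lit 0) (nat_lit 32) [nat_lit 3, nat_lit 8, nat_lit 5, nat_lit 2, nat_lit 3, nat_lit 4, nat_lit 1, nat_lit 2, nat_lit 3, nat_lit 8, nat_lit 6, nat_lit 7, nat_lit 5, nat_lit 6, nat_lit 4, nat_lit 5, nat_lit 3, nat_lit 4, nat_lit 2, nat_lit 3, nat_lit 8, nat_lit 1, nat_lit 2, nat_lit 3, nat_lit 4, nat_lit 5, nat_lit 6, nat_lit 7, nat_lit 3, nat_lit 4, nat_lit 2, nat_lit 3, nat_lit 8, nat_lit 5, nat_lit 6, nat_lit 4, nat_lit 5, nat_lit 3, nat_lit 4, nat_lit 2, nat_lit 3, nat_lit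 8, nat_lit 0, nat_lit 1, nat_lit 2, nat_lit 3, nat_lit 4, nat_lit 5, nat_lit 8, nat_lit 3, nat_lit 2, nat_lit 1, nat_lit 4, nat_lit 3, nat_lit 2, nat_lit 8, nat_lit 3, nat_lit 11, nat_lit 8, nat_lit 10, nat_lit 1, nat_lit 12, nat_lit 15, nat_lit 17, nat_lit 12, nat_lit 19, nat_lit 16] (Rl.cmp (nat_lit 2995) (nat_lit 4128)))) (FT.leaf (Fct.mk false (nat_lit 32) (nat_lit 0) (nat_lit 32) [nat_lit 3, nat_lit 8, nat_lit 5, nat_lit 2, nat_lit 3, nat_lit 4, nat_lit 1, nat_lit 2, nat_lit 3, nat_lit 8, nat_lit 6, nat_lit 7, nat_lit 5, nat_lit 6, nat_lit 4, nat_lit 5, nat_lit 3, nat_lit 4, nat_lit 2, nat_lit 3, nat_lit 8, nat_lit 1, nat_lit 2, nat_lit 3, nat_lit 4, nat_lit 5, nat_lit 6, nat_lit 7, nat_lit 2, nat_lit 3, nat_lit 8, nat_lit 6, nat_lit 4, nat_lit 5, nat_lit 3, nat_lit 4, nat_lit 2, nat_lit 3, nat_lit 8, nat_lit 0, nat_lit 1, nat_lit 2, nat_lit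 3, nat_lit 4, nat_lit 5, nat_lit 1, nat_lit 2, nat_lit 3, nat_lit 11, nat_lit 10, nat_lit 1, nat_lit 12, nat_lit 15, nat_lit 14, nat_lit 8, nat_lit 18] (Rl.cmp (nat_lit 3047) (nat_lit 4157)))))) (FT.node (nat_lit 4160) (FT.leaf (Fct.mk false (nat_lit 32) (nat_lit 0) (nat_lit 32) [nat_lit 3, nat_lit 8, nat_lit 5, nat_lit 2, nat_lit 3, nat_lit 4, nat_lit 1, nat_lit 2, nat_lit 3, nat_lit 8, nat_lit 6, nat_lit 7, nat_lit 5, nat_lit 6, nat_lit 4, nat_lit 5, nat_lit 3, nat_lit 4, nat_lit 2, nat_lit 3, nat_lit 8, nat_lit 1, nat_lit 2, nat_lit 3, nat_lit 4, nat_lit 5, nat_lit 6, nat_lit 7, nat_lit 4, nat_lit 5, nat_lit 3, nat_lit 4, nat_lit 2, nat_lit 3, nat_lit 8, nat_lit 1, nat_lit 2, nat_lit 3, nat_lit 4, nat_lit 5, nat_lit 2, nat_lit 3, nat_lit 8, nat_lit 4, nat_lit 3, nat_lit 2, nat_lit 1, nat_lit 9, nat_lit 4, nat_lit 3, nat_lit 2, nat_lit 8,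 nat_lit 3, nat_lit 11, nat_lit 2, nat_lit 14, nat_lit 17, nat_lit 12, nat_lit 19, nat_lit 16] (Rl.cmp (nat_lit 3004) (nat_lit 4158)))) (FT.node (nat_lit 4161) (FT.leaf (Fct.mk false (nat_lit 32) (nat_lit 0) (nat_lit 32) [nat_lit 6, nat_lit 5, nat_lit 4, nat_lit 3, nat_lit 8, nat_lit 2, nat_lit 3, nat_lit 4, nat_lit 5, nat_lit 2, nat_lit 1, nat_lit 4, nat_lit 3, nat_lit 2, nat_lit 8, nat_lit 3, nat_lit 10, nat_lit 2, nat_lit 8, nat_lit 10, nat_lit 1, nat_lit 14] (Rl.cmp (nat_lit 3456) (nat_lit 4159)))) (FT.leaf (Fct.mk false (nat_lit 32) (nat_lit 0) (nat_lit 32) [nat_lit 5, nat_lit 4, nat_lit 3, nat_lit 8, nat_lit 0, nat_lit 1, nat_lit 2, nat_lit 3, nat_lit 4, nat_lit 5, nat_lit 2, nat_lit 0, nat_lit 1, nat_lit 4, nat_lit 3, nat_lit 2, nat_lit 8, nat_lit 3, nat_lit 10, nat_lit 2, nat_lit 8, nat_lit 10, nat_lit 1, nat_lit 16, nat_lit 15, nat_lit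 14, nat_lit 16, nat_lit 8] (Rl.cmp (nat_lit 3004) (nat_lit 3004)))))))) (FT.node (nat_lit 4168) (FT.node (nat_lit 4165) (FT.node (nat_lit 4163) (FT.leaf (Fct.mk false (nat_lit 32) (nat_lit 0) (nat_lit 32) [nat_lit 5, nat_lit 4, nat_lit 3, nat_lit 8, nat_lit 0, nat_lit 1, nat_lit 2, nat_lit 3, nat_lit 4, nat_lit 5, nat_lit 2, nat_lit 0, nat_lit 1, nat_lit 4, nat_lit 3, nat_lit 2, nat_lit 8, nat_lit 3, nat_lit 10, nat_lit 2, nat_lit 8, nat_lit 10, nat_lit 1, nat_lit 16, nat_lit 15, nat_lit 14, nat_lit 16, nat_lit 8] (Rl.cmp (nat_lit 3004) (nat_lit 3004)))) (FT.node (nat_lit 4164) (FT.leaf (Fct.mk false (nat_lit 32) (nat_lit 0) (nat_lit 32) [nat_lit 3, nat_lit 8, nat_lit 5, nat_lit 2, nat_lit 3, nat_lit 4, nat_lit 1, nat_lit 2, nat_lit 3, nat_lit 8, nat_lit 6, nat_lit 7, nat_lit 5, nat_lit 6, nat_lit 4, nat_lit 5, nat_lit 3, nat_lit 4, nat_lit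 2, nat_lit 3, nat_lit 8, nat_lit 1, nat_lit 2, nat_lit 3, nat_lit 4, nat_lit 5, nat_lit 6, nat_lit 7, nat_lit 8, nat_lit 0, nat_lit 1, nat_lit 2, nat_lit 3, nat_lit 4, nat_lit 5, nat_lit 1, nat_lit 2, nat_lit 3, nat_lit 0, nat_lit 2, nat_lit 15, nat_lit 14, nat_lit 13, nat_lit 12, nat_lit 16] (Rl.cmp (nat_lit 3456) (nat_lit 3004)))) (FT.leaf (Fct.mk false (nat_lit 32) (nat_lit 0) (nat_lit 32) [nat_lit 3, nat_lit 8, nat_lit 5, nat_lit 2, nat_lit 3, nat_lit 4, nat_lit 1, nat_lit 2, nat_lit 3, nat_lit 8, nat_lit 6, nat_lit 7, nat_lit 5, nat_lit 6, nat_lit 4, nat_lit 5, nat_lit 3, nat_lit 4, nat_lit 2, nat_lit 3, nat_lit 8, nat_lit 1, nat_lit 2, nat_lit 3, nat_lit 4, nat_lit 5, nat_lit 6, nat_lit 7, nat_lit 5, nat_lit 4, nat_lit 3, nat_lit 8, nat_lit 0, nat_lit 1, nat_lit 2, nat_lit 3, nat_lit 4, nat_lit 5, nat_lit 8, nat_lit 3, nat_lit 2, nat_lit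 1, nat_lit 4, nat_lit 3, nat_lit 2, nat_lit 8, nat_lit 3, nat_lit 11, nat_lit 12, nat_lit 15, nat_lit 14, nat_lit 13, nat_lit 16] (Rl.cmp (nat_lit 3047) (nat_lit 4163)))))) (FT.node (nat_lit 4166) (FT.leaf (Fct.mk false (nat_lit 32) (nat_lit 0) (nat_lit 32) [nat_lit 6, nat_lit 5, nat_lit 4, nat_lit 3, nat_lit 8, nat_lit 2, nat_lit 3, nat_lit 4, nat_lit 1, nat_lit 2, nat_lit 3, nat_lit 8, nat_lit 5, nat_lit 6, nat_lit 4, nat_lit 5, nat_lit 3, nat_lit 4, nat_lit 2, nat_lit 3, nat_lit 8, nat_lit 1, nat_lit 2, nat_lit 3, nat_lit 4, nat_lit 5, nat_lit 0, nat_lit 1, nat_lit 3, nat_lit 2, nat_lit 8, nat_lit 3, nat_lit 0, nat_lit 2, nat_lit 8, nat_lit 12, nat_lit 15, nat_lit 8, nat_lit 18] (Rl.cmp (nat_lit 3047) (nat_lit 2995)))) (FT.node (nat_lit 4167) (FT.leaf (Fct.mk false (nat_lit 32) (nat_lit 0) (nat_lit 32) [nat_lit 8, nat_lit 1, nat_lit 2, nat_lit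 3, nat_lit 4, nat_lit 5, nat_lit 2, nat_lit 0, nat_lit 1, nat_lit 9, nat_lit 4, nat_lit 3, nat_lit 2, nat_lit 8, nat_lit 3, nat_lit 8, nat_lit 10, nat_lit 0, nat_lit 16, nat_lit 14, nat_lit 13, nat_lit 12, nat_lit 19] (Rl.cmp (nat_lit 3004) (nat_lit 4075)))) (FT.leaf (Fct.mk false (nat_lit 32) (nat_lit 0) (nat_lit 32) [nat_lit 8, nat_lit 1, nat_lit 2, nat_lit 3, nat_lit 4, nat_lit 5, nat_lit 3, nat_lit 2, nat_lit 0, nat_lit 1, nat_lit 9, nat_lit 4, nat_lit 3, nat_lit 2, nat_lit 8, nat_lit 3, nat_lit 8, nat_lit 10, nat_lit 0, nat_lit 16, nat_lit 14, nat_lit 13, nat_lit 12, nat_lit 19] (Rl.cmp (nat_lit 3004) (nat_lit 3047))))))) (FT.node (nat_lit 4171) (FT.node (nat_lit 4169) (FT.leaf (Fct.mk false (nat_lit 32) (nat_lit 0) (nat_lit 32) [nat_lit 6, nat_lit 5, nat_lit 4, nat_lit 3, nat_lit 8, nat_lit 2, nat_lit 3, nat_lit 4, nat_lit 1, nat_lit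 2, nat_lit 3, nat_lit 8, nat_lit 5, nat_lit 6, nat_lit 4, nat_lit 5, nat_lit 3, nat_lit 4, nat_lit 2, nat_lit 3, nat_lit 8, nat_lit 1, nat_lit 2, nat_lit 3, nat_lit 4, nat_lit 5, nat_lit 0, nat_lit 1, nat_lit 3, nat_lit 2, nat_lit 8, nat_lit 3, nat_lit 0, nat_lit 2, nat_lit 8, nat_lit 12, nat_lit 15, nat_lit 8, nat_lit 18] (Rl.cmp (nat_lit 3047) (nat_lit 2995)))) (FT.node (nat_lit 4170) (FT.leaf (Fct.mk false (nat_lit 32) (nat_lit 0) (nat_lit 32) [nat_lit 6, nat_lit 5, nat_lit 4, nat_lit 3, nat_lit 8, nat_lit 2, nat_lit 3, nat_lit 4, nat_lit 1, nat_lit 2, nat_lit 3, nat_lit 8, nat_lit 5, nat_lit 6, nat_lit 4, nat_lit 5, nat_lit 3, nat_lit 4, nat_lit 2, nat_lit 3, nat_lit 8, nat_lit 1, nat_lit 2, nat_lit 3, nat_lit 4, nat_lit 5, nat_lit 0, nat_lit 1, nat_lit 9, nat_lit 4, nat_lit 3, nat_lit 2, nat_lit 8, nat_lit 3, nat_lit 1, nat_lit 12, nat_lit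 8, nat_lit 16, nat_lit 14, nat_lit 16, nat_lit 8, nat_lit 18, nat_lit 16] (Rl.cmp (nat_lit 3010) (nat_lit 4168)))) (FT.leaf (Fct.mk false (nat_lit 32) (nat_lit 0) (nat_lit 32) [nat_lit 8, nat_lit 1, nat_lit 2, nat_lit 3, nat_lit 4, nat_lit 5, nat_lit 3, nat_lit 2, nat_lit 0, nat_lit 1, nat_lit 9, nat_lit 4, nat_lit 3, nat_lit 2, nat_lit 8, nat_lit 3, nat_lit 8, nat_lit 10, nat_lit 0, nat_lit 16, nat_lit 14, nat_lit 13, nat_lit 12, nat_lit 19] (Rl.cmp (nat_lit 3004) (nat_lit 3047)))))) (FT.node (nat_lit 4173) (FT.node (nat_lit 4172) (FT.leaf (Fct.mk false (nat_lit 32) (nat_lit 0) (nat_lit 32) [nat_lit 2, nat_lit 3, nat_lit 8, nat_lit 6, nat_lit 4, nat_lit 5, nat_lit 3, nat_lit 4, nat_lit 2, nat_lit 3, nat_lit 8, nat_lit 1, nat_lit 2, nat_lit 3, nat_lit 4, nat_lit 5, nat_lit 2, nat_lit 1, nat_lit 3, nat_lit 2, nat_lit 0, nat_lit 1, nat_lit 4,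 nat_lit 3, nat_lit 2, nat_lit 8, nat_lit 3, nat_lit 11, nat_lit 1, nat_lit 15, nat_lit 13, nat_lit 19, nat_lit 16] (Rl.cmp (nat_lit 3004) (nat_lit 4170)))) (FT.leaf (Fct.mk false (nat_lit 32) (nat_lit 0) (nat_lit 32) [nat_lit 3, nat_lit 8, nat_lit 5, nat_lit 2, nat_lit 3, nat_lit 4, nat_lit 1, nat_lit 2, nat_lit 3, nat_lit 8, nat_lit 6, nat_lit 7, nat_lit 5, nat_lit 6, nat_lit 4, nat_lit 5, nat_lit 3, nat_lit 4, nat_lit 2, nat_lit 3, nat_lit 8, nat_lit 1, nat_lit 2, nat_lit 3, nat_lit 4, nat_lit 5, nat_lit 6, nat_lit 7, nat_lit 4, nat_lit 2, nat_lit 3, nat_lit 8, nat_lit 0, nat_lit 1, nat_lit 2, nat_lit 3, nat_lit 4, nat_lit 5, nat_lit 9, nat_lit 4, nat_lit 10, nat_lit 2, nat_lit 8, nat_lit 10, nat_lit 1, nat_lit 15, nat_lit 17] (Rl.cmp (nat_lit 3456) (nat_lit 4171))))) (FT.node (nat_lit 4174) (FT.leaf (Fct.mk false (nat_lit 32) (nat_lit 0)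 (nat_lit 32) [nat_lit 2, nat_lit 3, nat_lit 4, nat_lit 1, nat_lit 2, nat_lit 3, nat_lit 8, nat_lit 0, nat_lit 1, nat_lit 2, nat_lit 3, nat_lit 4, nat_lit 5, nat_lit 3, nat_lit 8, nat_lit 4, nat_lit 3, nat_lit 2, nat_lit 0, nat_lit 1, nat_lit 9, nat_lit 4, nat_lit 3, nat_lit 2, nat_lit 8, nat_lit 3, nat_lit 11, nat_lit 10, nat_lit 8, nat_lit 16, nat_lit 14, nat_lit 19] (Rl.cmp (nat_lit 3010) (nat_lit 3004)))) (FT.leaf (Fct.mk false (nat_lit 32) (nat_lit 0) (nat_lit 32) [nat_lit 3, nat_lit 4, nat_lit 2, nat_lit 3, nat_lit 8, nat_lit 5, nat_lit 6, nat_lit 4, nat_lit 5, nat_lit 3, nat_lit 4, nat_lit 2, nat_lit 3, nat_lit 8, nat_lit 1, nat_lit 2, nat_lit 3, nat_lit 4, nat_lit 5, nat_lit 3, nat_lit 2, nat_lit 1, nat_lit 8, nat_lit 3, nat_lit 2, nat_lit 0, nat_lit 1, nat_lit 9, nat_lit 4, nat_lit 3, nat_lit 2, nat_lit 8, nat_lit 3, nat_lit 11, nat_lit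 10, nat_lit 1, nat_lit 12, nat_lit 15, nat_lit 14, nat_lit 17, nat_lit 16] (Rl.cmp (nat_lit 3047) (nat_lit 4173))))))))) (FT.node (nat_lit 4187) (FT.node (nat_lit 4181) (FT.node (nat_lit 4178) (FT.node (nat_lit 4176) (FT.leaf (Fct.mk false (nat_lit 32) (nat_lit 0) (nat_lit 32) [nat_lit 5, nat_lit 4, nat_lit 3, nat_lit 8, nat_lit 0, nat_lit 1, nat_lit 2, nat_lit 3, nat_lit 4, nat_lit 5, nat_lit 2, nat_lit 1, nat_lit 8, nat_lit 3, nat_lit 2, nat_lit 0, nat_lit 1, nat_lit 9, nat_lit 4, nat_lit 3, nat_lit 2, nat_lit 8, nat_lit 3, nat_lit 11, nat_lit 16, nat_lit 14, nat_lit 17, nat_lit 12] (Rl.cmp (nat_lit 3047) (nat_lit 4174)))) (FT.node (nat_lit 4177) (FT.leaf (Fct.mk false (nat_lit 32) (nat_lit 0) (nat_lit 32) [nat_lit 3, nat_lit 8, nat_lit 5, nat_lit 2, nat_lit 3, nat_lit 4, nat_lit 1, nat_lit 2, nat_lit 3, nat_lit 8, nat_lit 6, nat_lit 7, nat_lit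 5, nat_lit 6, nat_lit 4, nat_lit 5, nat_lit 3, nat_lit 4, nat_lit 2, nat_lit 3, nat_lit 8, nat_lit 1, nat_lit 2, nat_lit 3, nat_lit 4, nat_lit 5, nat_lit 6, nat_lit 7, nat_lit 1, nat_lit 2, nat_lit 3, nat_lit 4, nat_lit 5, nat_lit 3, nat_lit 11, nat_lit 10, nat_lit 1, nat_lit 15, nat_lit 8, nat_lit 18, nat_lit 16] (Rl.cmp (nat_lit 3004) (nat_lit 3456)))) (FT.leaf (Fct.mk false (nat_lit 32) (nat_lit 0) (nat_lit 32) [nat_lit 3, nat_lit 8, nat_lit 5, nat_lit 2, nat_lit 3, nat_lit 4, nat_lit 1, nat_lit 2, nat_lit 3, nat_lit 8, nat_lit 6, nat_lit 7, nat_lit 5, nat_lit 6, nat_lit 4, nat_lit 5, nat_lit 3, nat_lit 4, nat_lit 2, nat_lit 3, nat_lit 8, nat_lit 1, nat_lit 2, nat_lit 3, nat_lit 4, nat_lit 5, nat_lit 6, nat_lit 7, nat_lit 4, nat_lit 2, nat_lit 3, nat_lit 8, nat_lit 5, nat_lit 6, nat_lit 4, nat_lit 5, nat_lit 3, nat_lit 4, nat_lit 2, nat_lit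 3, nat_lit 8, nat_lit 1, nat_lit 2, nat_lit 3, nat_lit 4, nat_lit 5, nat_lit 1, nat_lit 2, nat_lit 3, nat_lit 8, nat_lit 4, nat_lit 3, nat_lit 2, nat_lit 1, nat_lit 9, nat_lit 4, nat_lit 3, nat_lit 2, nat_lit 8, nat_lit 3, nat_lit 11, nat_lit 8, nat_lit 10, nat_lit 8, nat_lit 12, nat_lit 15, nat_lit 17, nat_lit 19] (Rl.cmp (nat_lit 3010) (nat_lit 4176)))))) (FT.node (nat_lit 4179) (FT.leaf (Fct.mk false (nat_lit 32) (nat_lit 0) (nat_lit 32) [nat_lit 3, nat_lit 8, nat_lit 5, nat_lit 2, nat_lit 3, nat_lit 4, nat_lit 1, nat_lit 2, nat_lit 3, nat_lit 8, nat_lit 6, nat_lit 7, nat_lit 5, nat_lit 6, nat_lit 4, nat_lit 5, nat_lit 3, nat_lit 4, nat_lit 2, nat_lit 3, nat_lit 8, nat_lit 1, nat_lit 2, nat_lit 3, nat_lit 4, nat_lit 5, nat_lit 6, nat_lit 7, nat_lit 4, nat_lit 2, nat_lit 3, nat_lit 8, nat_lit 0, nat_lit 1, nat_lit 2, nat_lit 3, nat_lit 4,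 nat_lit 5, nat_lit 1, nat_lit 2, nat_lit 3, nat_lit 11, nat_lit 1, nat_lit 16, nat_lit 12, nat_lit 15, nat_lit 14, nat_lit 12] (Rl.cmp (nat_lit 3004) (nat_lit 4177)))) (FT.node (nat_lit 4180) (FT.leaf (Fct.mk false (nat_lit 32) (nat_lit 0) (nat_lit 32) [nat_lit 2, nat_lit 3, nat_lit 4, nat_lit 1, nat_lit 2, nat_lit 3, nat_lit 8, nat_lit 0, nat_lit 1, nat_lit 2, nat_lit 3, nat_lit 4, nat_lit 5, nat_lit 4, nat_lit 3, nat_lit 2, nat_lit 8, nat_lit 3, nat_lit 11, nat_lit 2, nat_lit 16, nat_lit 14, nat_lit 13, nat_lit 12] (Rl.cmp (nat_lit 3047) (nat_lit 3706)))) (FT.leaf (Fct.mk false (nat_lit 32) (nat_lit 0) (nat_lit 32) [nat_lit 3, nat_lit 8, nat_lit 5, nat_lit 2, nat_lit 3, nat_lit 4, nat_lit 1, nat_lit 2, nat_lit 3, nat_lit 8, nat_lit 6, nat_lit 7, nat_lit 5, nat_lit 6, nat_lit 4, nat_lit 5, nat_lit 3, nat_lit 4, nat_lit 2, nat_lit 3, nat_lit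 8, nat_lit 1, nat_lit 2, nat_lit 3, nat_lit 4, nat_lit 5, nat_lit 6, nat_lit 7, nat_lit 8, nat_lit 0, nat_lit 1, nat_lit 2, nat_lit 3, nat_lit 4, nat_lit 5, nat_lit 1, nat_lit 2, nat_lit 3, nat_lit 0, nat_lit 2, nat_lit 15, nat_lit 14, nat_lit 13, nat_lit 12, nat_lit 16] (Rl.cmp (nat_lit 3456) (nat_lit 3004))))))) (FT.node (nat_lit 4184) (FT.node (nat_lit 4182) (FT.leaf (Fct.mk false (nat_lit 4) (nat_lit 0) (nat_lit 4) [nat_lit 8, nat_lit 3, nat_lit 4, nat_lit 5, nat_lit 8, nat_lit 3, nat_lit 8, nat_lit 10, nat_lit 8] (Rl.cmp (nat_lit 243) (nat_lit 2962)))) (FT.node (nat_lit 4183) (FT.leaf (Fct.mk false (nat_lit 4) (nat_lit 0) (nat_lit 4) [nat_lit 6, nat_lit 5, nat_lit 4, nat_lit 3, nat_lit 8, nat_lit 2, nat_lit 3, nat_lit 4, nat_lit 5, nat_lit 1, nat_lit 3, nat_lit 2, nat_lit 8, nat_lit 3, nat_lit 9, nat_lit 2, nat_lit 8, nat_lit 16, nat_lit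 14, nat_lit 18, nat_lit 16] (Rl.cmp (nat_lit 1995) (nat_lit 4181)))) (FT.leaf (Fct.mk false (nat_lit 32) (nat_lit 0) (nat_lit 32) [nat_lit 8, nat_lit 1, nat_lit 2, nat_lit 3, nat_lit 4, nat_lit 5, nat_lit 3, nat_lit 2, nat_lit 0, nat_lit 1, nat_lit 9, nat_lit 4, nat_lit 3, nat_lit 2, nat_lit 8, nat_lit 3, nat_lit 8, nat_lit 10, nat_lit 0, nat_lit 16, nat_lit 14, nat_lit 13, nat_lit 12, nat_lit 19] (Rl.cmp (nat_lit 3004) (nat_lit 3047)))))) (FT.node (nat_lit 4185) (FT.leaf (Fct.mk false (nat_lit 32) (nat_lit 0) (nat_lit 32) [nat_lit 3, nat_lit 8, nat_lit 5, nat_lit 2, nat_lit 3, nat_lit 4, nat_lit 1, nat_lit 2, nat_lit 3, nat_lit 8, nat_lit 6, nat_lit 7, nat_lit 5, nat_lit 6, nat_lit 4, nat_lit 5, nat_lit 3, nat_lit 4, nat_lit 2, nat_lit 3, nat_lit 8, nat_lit 1, nat_lit 2, nat_lit 3, nat_lit 4, nat_lit 5, nat_lit 6, nat_lit 7, nat_lit 8, nat_lit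 4, nat_lit 5, nat_lit 3, nat_lit 4, nat_lit 2, nat_lit 3, nat_lit 8, nat_lit 1, nat_lit 2, nat_lit 3, nat_lit 4, nat_lit 5, nat_lit 0, nat_lit 1, nat_lit 9, nat_lit 4, nat_lit 3, nat_lit 2, nat_lit 8, nat_lit 3, nat_lit 11, nat_lit 2, nat_lit 8, nat_lit 12, nat_lit 15, nat_lit 8] (Rl.cmp (nat_lit 3456) (nat_lit 3010)))) (FT.node (nat_lit 4186) (FT.leaf (Fct.mk false (nat_lit 32) (nat_lit 0) (nat_lit 32) [nat_lit 5, nat_lit 6, nat_lit 4, nat_lit 5, nat_lit 3, nat_lit 4, nat_lit 2, nat_lit 3, nat_lit 8, nat_lit 1, nat_lit 2, nat_lit 3, nat_lit 4, nat_lit 5, nat_lit 1, nat_lit 9, nat_lit 4, nat_lit 3, nat_lit 2, nat_lit 8, nat_lit 3, nat_lit 11, nat_lit 10, nat_lit 1, nat_lit 12, nat_lit 15, nat_lit 14, nat_lit 18, nat_lit 16] (Rl.cmp (nat_lit 3004) (nat_lit 3010)))) (FT.leaf (Fct.mk false (nat_lit 32) (nat_lit 0) (nat_lit 32) [nat_lit 8, nat_lit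 3, nat_lit 4, nat_lit 1, nat_lit 2, nat_lit 3, nat_lit 8, nat_lit 5, nat_lit 6, nat_lit 4, nat_lit 5, nat_lit 3, nat_lit 4, nat_lit 2, nat_lit 3, nat_lit 8, nat_lit 1, nat_lit 2, nat_lit 3, nat_lit 4, nat_lit 5, nat_lit 2, nat_lit 1, nat_lit 4, nat_lit 3, nat_lit 2, nat_lit 8, nat_lit 3, nat_lit 11, nat_lit 2, nat_lit 15, nat_lit 19] (Rl.cmp (nat_lit 3010) (nat_lit 4185)))))))) (FT.node (nat_lit 4193) (FT.node (nat_lit 4190) (FT.node (nat_lit 4188) (FT.leaf (Fct.mk false (nat_lit 32) (nat_lit 0) (nat_lit 32) [nat_lit 6, nat_lit 5, nat_lit 4, nat_lit 3, nat_lit 8, nat_lit 2, nat_lit 3, nat_lit 4, nat_lit 1, nat_lit 2, nat_lit 3, nat_lit 8, nat_lit 5, nat_lit 6, nat_lit 4, nat_lit 5, nat_lit 3, nat_lit 4, nat_lit 2, nat_lit 3, nat_lit 8, nat_lit 1, nat_lit 2, nat_lit 3, nat_lit 4, nat_lit 5, nat_lit 0, nat_lit 1, nat_lit 3, nat_lit 2, nat_lit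 8, nat_lit 3, nat_lit 0, nat_lit 2, nat_lit 8, nat_lit 12, nat_lit 15, nat_lit 8, nat_lit 18] (Rl.cmp (nat_lit 3047) (nat_lit 2995)))) (FT.node (nat_lit 4189) (FT.leaf (Fct.mk false (nat_lit 32) (nat_lit 0) (nat_lit 32) [nat_lit 3, nat_lit 8, nat_lit 5, nat_lit 2, nat_lit 3, nat_lit 4, nat_lit 1, nat_lit 2, nat_lit 3, nat_lit 8, nat_lit 6, nat_lit 7, nat_lit 5, nat_lit 6, nat_lit 4, nat_lit 5, nat_lit 3, nat_lit 4, nat_lit 2, nat_lit 3, nat_lit 8, nat_lit 1, nat_lit 2, nat_lit 3, nat_lit 4, nat_lit 5, nat_lit 6, nat_lit 7, nat_lit 1, nat_lit 2, nat_lit 3, nat_lit 4, nat_lit 5, nat_lit 1, nat_lit 4, nat_lit 3, nat_lit 2, nat_lit 0, nat_lit 1, nat_lit 9, nat_lit 4, nat_lit 3, nat_lit 2, nat_lit 8, nat_lit 3, nat_lit 9, nat_lit 16, nat_lit 12, nat_lit 15, nat_lit 14, nat_lit 12, nat_lit 19] (Rl.cmp (nat_lit 3456) (nat_lit 4079)))) (FT.leaf (Fct.mk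 false (nat_lit 32) (nat_lit 0) (nat_lit 32) [nat_lit 3, nat_lit 8, nat_lit 5, nat_lit 2, nat_lit 3, nat_lit 4, nat_lit 1, nat_lit 2, nat_lit 3, nat_lit 8, nat_lit 6, nat_lit 7, nat_lit 5, nat_lit 6, nat_lit 4, nat_lit 5, nat_lit 3, nat_lit 4, nat_lit 2, nat_lit 3, nat_lit 8, nat_lit 1, nat_lit 2, nat_lit 3, nat_lit 4, nat_lit 5, nat_lit 6, nat_lit 7, nat_lit 6, nat_lit 5, nat_lit 4, nat_lit 3, nat_lit 8, nat_lit 1, nat_lit 2, nat_lit 3, nat_lit 4, nat_lit 5, nat_lit 1, nat_lit 2, nat_lit 0, nat_lit 1, nat_lit 9, nat_lit 4, nat_lit 3, nat_lit 2, nat_lit 8, nat_lit 3, nat_lit 0, nat_lit 17, nat_lit 12, nat_lit 16] (Rl.cmp (nat_lit 3047) (nat_lit 4188)))))) (FT.node (nat_lit 4191) (FT.leaf (Fct.mk false (nat_lit 32) (nat_lit 0) (nat_lit 32) [nat_lit 3, nat_lit 8, nat_lit 5, nat_lit 2, nat_lit 3, nat_lit 4, nat_lit 1, nat_lit 2, nat_lit 3, nat_lit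 8, nat_lit 6, nat_lit 7, nat_lit 5, nat_lit 6, nat_lit 4, nat_lit 5, nat_lit 3, nat_lit 4, nat_lit 2, nat_lit 3, nat_lit 8, nat_lit 1, nat_lit 2, nat_lit 3, nat_lit 4, nat_lit 5, nat_lit 6, nat_lit 7, nat_lit 1, nat_lit 2, nat_lit 3, nat_lit 4, nat_lit 5, nat_lit 1, nat_lit 3, nat_lit 2, nat_lit 0, nat_lit 1, nat_lit 9, nat_lit 4, nat_lit 3, nat_lit 2, nat_lit 8, nat_lit 3, nat_lit 10, nat_lit 1, nat_lit 8, nat_lit 12, nat_lit 15, nat_lit 17, nat_lit 18, nat_lit 16] (Rl.cmp (nat_lit 3456) (nat_lit 4132)))) (FT.node (nat_lit 4192) (FT.leaf (Fct.mk false (nat_lit 32) (nat_lit 0) (nat_lit 32) [nat_lit 3, nat_lit 8, nat_lit 5, nat_lit 2, nat_lit 3, nat_lit 4, nat_lit 1, nat_lit 2, nat_lit 3, nat_lit 8, nat_lit 6, nat_lit 7, nat_lit 5, nat_lit 6, nat_lit 4, nat_lit 5, nat_lit 3, nat_lit 4, nat_lit 2, nat_lit 3, nat_lit 8, nat_lit 1, nat_lit 2, nat_lit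 3, nat_lit 4, nat_lit 5, nat_lit 6, nat_lit 7, nat_lit 6, nat_lit 5, nat_lit 4, nat_lit 3, nat_lit 8, nat_lit 1, nat_lit 2, nat_lit 3, nat_lit 4, nat_lit 5, nat_lit 2, nat_lit 1, nat_lit 3, nat_lit 2, nat_lit 0, nat_lit 1, nat_lit 9, nat_lit 4, nat_lit 3, nat_lit 2, nat_lit 8, nat_lit 3, nat_lit 10, nat_lit 2, nat_lit 8, nat_lit 10, nat_lit 1, nat_lit 15, nat_lit 14, nat_lit 13, nat_lit 12, nat_lit 16] (Rl.cmp (nat_lit 3047) (nat_lit 4190)))) (FT.leaf (Fct.mk false (nat_lit 32) (nat_lit 0) (nat_lit 32) [nat_lit 6, nat_lit 5, nat_lit 4, nat_lit 3, nat_lit 8, nat_lit 2, nat_lit 3, nat_lit 4, nat_lit 1, nat_lit 2, nat_lit 3, nat_lit 8, nat_lit 5, nat_lit 6, nat_lit 4, nat_lit 5, nat_lit 3, nat_lit 4, nat_lit 2, nat_lit 3, nat_lit 8, nat_lit 1, nat_lit 2, nat_lit 3, nat_lit 4, nat_lit 5, nat_lit 2, nat_lit 0, nat_lit 1, nat_lit 9, nat_lit 4, nat_lit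 3, nat_lit 2, nat_lit 8, nat_lit 3, nat_lit 1, nat_lit 12, nat_lit 8, nat_lit 16, nat_lit 14, nat_lit 16, nat_lit 8, nat_lit 18, nat_lit 16] (Rl.cmp (nat_lit 3010) (nat_lit 3047))))))) (FT.node (nat_lit 4196) (FT.node (nat_lit 4194) (FT.leaf (Fct.mk false (nat_lit 32) (nat_lit 0) (nat_lit 32) [nat_lit 2, nat_lit 3, nat_lit 4, nat_lit 1, nat_lit 2, nat_lit 3, nat_lit 8, nat_lit 0, nat_lit 1, nat_lit 2, nat_lit 3, nat_lit 4, nat_lit 5, nat_lit 3, nat_lit 8, nat_lit 4, nat_lit 3, nat_lit 2, nat_lit 0, nat_lit 1, nat_lit 9, nat_lit 4, nat_lit 3, nat_lit 2, nat_lit 8, nat_lit 3, nat_lit 11, nat_lit 10, nat_lit 8, nat_lit 16, nat_lit 14, nat_lit 19] (Rl.cmp (nat_lit 3010) (nat_lit 3004)))) (FT.node (nat_lit 4195) (FT.leaf (Fct.mk false (nat_lit 32) (nat_lit 0) (nat_lit 32) [nat_lit 3, nat_lit 8, nat_lit 5, nat_lit 2, nat_lit 3, nat_lit 4, nat_lit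 1, nat_lit 2, nat_lit 3, nat_lit 8, nat_lit 6, nat_lit 7, nat_lit 5, nat_lit 6, nat_lit 4, nat_lit 5, nat_lit 3, nat_lit 4, nat_lit 2, nat_lit 3, nat_lit 8, nat_lit 1, nat_lit 2, nat_lit 3, nat_lit 4, nat_lit 5, nat_lit 6, nat_lit 7, nat_lit 5, nat_lit 3, nat_lit 4, nat_lit 2, nat_lit 3, nat_lit 8, nat_lit 1, nat_lit 2, nat_lit 3, nat_lit 4, nat_lit 5, nat_lit 0, nat_lit 1, nat_lit 4, nat_lit 3, nat_lit 2, nat_lit 8, nat_lit 3, nat_lit 10, nat_lit 2, nat_lit 8, nat_lit 10, nat_lit 1, nat_lit 14, nat_lit 17, nat_lit 18] (Rl.cmp (nat_lit 3456) (nat_lit 2995)))) (FT.leaf (Fct.mk false (nat_lit 32) (nat_lit 0) (nat_lit 32) [nat_lit 3, nat_lit 8, nat_lit 5, nat_lit 2, nat_lit 3, nat_lit 4, nat_lit 1, nat_lit 2, nat_lit 3, nat_lit 8, nat_lit 6, nat_lit 7, nat_lit 5, nat_lit 6, nat_lit 4, nat_lit 5, nat_lit 3, nat_lit 4, nat_lit 2, nat_lit 3, nat_lit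 8, nat_lit 1, nat_lit 2, nat_lit 3, nat_lit 4, nat_lit 5, nat_lit 6, nat_lit 7, nat_lit 1, nat_lit 2, nat_lit 3, nat_lit 4, nat_lit 5, nat_lit 3, nat_lit 8, nat_lit 4, nat_lit 3, nat_lit 2, nat_lit 1, nat_lit 9, nat_lit 4, nat_lit 3, nat_lit 2, nat_lit 8, nat_lit 3, nat_lit 11, nat_lit 2, nat_lit 8, nat_lit 10, nat_lit 1, nat_lit 8, nat_lit 12, nat_lit 15, nat_lit 14, nat_lit 17, nat_lit 19] (Rl.cmp (nat_lit 3004) (nat_lit 4194)))))) (FT.node (nat_lit 4198) (FT.node (nat_lit 4197) (FT.leaf (Fct.mk false (nat_lit 32) (nat_lit 0) (nat_lit 32) [nat_lit 3, nat_lit 8, nat_lit 5, nat_lit 2, nat_lit 3, nat_lit 4, nat_lit 1, nat_lit 2, nat_lit 3, nat_lit 8, nat_lit 6, nat_lit 7, nat_lit 5, nat_lit 6, nat_lit 4, nat_lit 5, nat_lit 3, nat_lit 4, nat_lit 2, nat_lit 3, nat_lit 8, nat_lit 1, nat_lit 2, nat_lit 3, nat_lit 4, nat_lit 5, nat_lit 6, nat_lit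 7, nat_lit 4, nat_lit 2, nat_lit 3, nat_lit 8, nat_lit 5, nat_lit 6, nat_lit 4, nat_lit 5, nat_lit 3, nat_lit 4, nat_lit 2, nat_lit 3, nat_lit 8, nat_lit 1, nat_lit 2, nat_lit 3, nat_lit 4, nat_lit 5, nat_lit 0, nat_lit 1, nat_lit 9, nat_lit 4, nat_lit 3, nat_lit 2, nat_lit 8, nat_lit 3, nat_lit 0, nat_lit 17, nat_lit 12, nat_lit 16] (Rl.cmp (nat_lit 3456) (nat_lit 4065)))) (FT.leaf (Fct.mk false (nat_lit 32) (nat_lit 0) (nat_lit 32) [nat_lit 3, nat_lit 8, nat_lit 5, nat_lit 2, nat_lit 3, nat_lit 4, nat_lit 1, nat_lit 2, nat_lit 3, nat_lit 8, nat_lit 6, nat_lit 7, nat_lit 5, nat_lit 6, nat_lit 4, nat_lit 5, nat_lit 3, nat_lit 4, nat_lit 2, nat_lit 3, nat_lit 8, nat_lit 1, nat_lit 2, nat_lit 3, nat_lit 4, nat_lit 5, nat_lit 6, nat_lit 7, nat_lit 4, nat_lit 2, nat_lit 3, nat_lit 8, nat_lit 0, nat_lit 1, nat_lit 2, nat_lit 3, nat_lit 4, nat_lit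 5, nat_lit 2, nat_lit 1, nat_lit 3, nat_lit 2, nat_lit 0, nat_lit 1, nat_lit 9, nat_lit 4, nat_lit 3, nat_lit 2, nat_lit 8, nat_lit 3, nat_lit 11, nat_lit 8, nat_lit 10, nat_lit 1, nat_lit 16, nat_lit 14, nat_lit 8, nat_lit 16] (Rl.cmp (nat_lit 3004) (nat_lit 4196))))) (FT.node (nat_lit 4199) (FT.leaf (Fct.mk false (nat_lit 32) (nat_lit 0) (nat_lit 32) [nat_lit 5, nat_lit 6, nat_lit 4, nat_lit 5, nat_lit 3, nat_lit 4, nat_lit 2, nat_lit 3, nat_lit 8, nat_lit 1, nat_lit 2, nat_lit 3, nat_lit 4, nat_lit 5, nat_lit 1, nat_lit 4, nat_lit 3, nat_lit 2, nat_lit 8, nat_lit 3, nat_lit 11, nat_lit 10, nat_lit 1, nat_lit 12, nat_lit 15, nat_lit 14, nat_lit 18, nat_lit 16] (Rl.cmp (nat_lit 3004) (nat_lit 3704)))) (FT.leaf (Fct.mk false (nat_lit 32) (nat_lit 0) (nat_lit 32) [nat_lit 2, nat_lit 3, nat_lit 8, nat_lit 6, nat_lit 4, nat_lit 5, nat_lit 3, nat_lit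 4, nat_lit 2, nat_lit 3, nat_lit 8, nat_lit 1, nat_lit 2, nat_lit 3, nat_lit 4, nat_lit 5, nat_lit 2, nat_lit 1, nat_lit 3, nat_lit 2, nat_lit 0, nat_lit 1, nat_lit 4, nat_lit 3, nat_lit 2, nat_lit 8, nat_lit 3, nat_lit 11, nat_lit 1, nat_lit 15, nat_lit 13, nat_lit 19, nat_lit 16] (Rl.cmp (nat_lit 3004) (nat_lit 4027)))))))))

/-- some facts -/
noncomputable def ftc84 : FT := FT.node (nat_lit 4225) (FT.node (nat_lit 4212) (FT.node (nat_lit 4206) (FT.node (nat_lit 4203) (FT.node (nat_lit 4201) (FT.leaf (Fct.mk false (nat_lit 32) (nat_lit 0) (nat_lit 32) [nat_lit 3, nat_lit 8, nat_lit 5, nat_lit 2, nat_lit 3, nat_lit 4, nat_lit 1, nat_lit 2, nat_lit 3, nat_lit 8, nat_lit 6, nat_lit 7, nat_lit 5, nat_lit 6, nat_lit 4, nat_lit 5, nat_lit 3, nat_lit 4, nat_lit 2, nat_lit 3, nat_lit 8, nat_lit 1, nat_lit 2, nat_lit 3, nat_lit 4, nat_lit 5, nat_lit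 6, nat_lit 7, nat_lit 4, nat_lit 2, nat_lit 3, nat_lit 8, nat_lit 0, nat_lit 1, nat_lit 2, nat_lit 3, nat_lit 4, nat_lit 5, nat_lit 9, nat_lit 4, nat_lit 10, nat_lit 2, nat_lit 8, nat_lit 10, nat_lit 1, nat_lit 15, nat_lit 17] (Rl.cmp (nat_lit 3456) (nat_lit 4199)))) (FT.node (nat_lit 4202) (FT.leaf (Fct.mk false (nat_lit 32) (nat_lit 0) (nat_lit 32) [nat_lit 3, nat_lit 8, nat_lit 5, nat_lit 2, nat_lit 3, nat_lit 4, nat_lit 1, nat_lit 2, nat_lit 3, nat_lit 8, nat_lit 6, nat_lit 7, nat_lit 5, nat_lit 6, nat_lit 4, nat_lit 5, nat_lit 3, nat_lit 4, nat_lit 2, nat_lit 3, nat_lit 8, nat_lit 1, nat_lit 2, nat_lit 3, nat_lit 4, nat_lit 5, nat_lit 6, nat_lit 7, nat_lit 2, nat_lit 3, nat_lit 8, nat_lit 5, nat_lit 6, nat_lit 4, nat_lit 5, nat_lit 3, nat_lit 4, nat_lit 2, nat_lit 3, nat_lit 8, nat_lit 0, nat_lit 1, nat_lit 2, nat_lit 3, nat_lit 4, nat_lit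 5, nat_lit 8, nat_lit 3, nat_lit 2, nat_lit 1, nat_lit 4, nat_lit 3, nat_lit 2, nat_lit 8, nat_lit 3, nat_lit 11, nat_lit 10, nat_lit 8, nat_lit 12, nat_lit 15, nat_lit 14, nat_lit 13, nat_lit 16] (Rl.cmp (nat_lit 3004) (nat_lit 4200)))) (FT.leaf (Fct.mk false (nat_lit 32) (nat_lit 0) (nat_lit 32) [nat_lit 3, nat_lit 8, nat_lit 5, nat_lit 2, nat_lit 3, nat_lit 4, nat_lit 1, nat_lit 2, nat_lit 3, nat_lit 8, nat_lit 6, nat_lit 7, nat_lit 5, nat_lit 6, nat_lit 4, nat_lit 5, nat_lit 3, nat_lit 4, nat_lit 2, nat_lit 3, nat_lit 8, nat_lit 1, nat_lit 2, nat_lit 3, nat_lit 4, nat_lit 5, nat_lit 6, nat_lit 7, nat_lit 1, nat_lit 2, nat_lit 3, nat_lit 4, nat_lit 5, nat_lit 1, nat_lit 2, nat_lit 0, nat_lit 1, nat_lit 3, nat_lit 2, nat_lit 8, nat_lit 3, nat_lit 9, nat_lit 15, nat_lit 17, nat_lit 12, nat_lit 16] (Rl.cmp (nat_lit 3047) (nat_lit 4201))))))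 (FT.node (nat_lit 4204) (FT.leaf (Fct.mk false (nat_lit 5) (nat_lit 0) (nat_lit 5) [nat_lit 8, nat_lit 3, nat_lit 4, nat_lit 2, nat_lit 3, nat_lit 8, nat_lit 5, nat_lit 6, nat_lit 4, nat_lit 5, nat_lit 3, nat_lit 4, nat_lit 2, nat_lit 3, nat_lit 8, nat_lit 1, nat_lit 2, nat_lit 3, nat_lit 4, nat_lit 5, nat_lit 3, nat_lit 8, nat_lit 4, nat_lit 3, nat_lit 2, nat_lit 1, nat_lit 9, nat_lit 4, nat_lit 3, nat_lit 2, nat_lit 8, nat_lit 3, nat_lit 11, nat_lit 2, nat_lit 10, nat_lit 1, nat_lit 8, nat_lit 16, nat_lit 14, nat_lit 17, nat_lit 12, nat_lit 16] (Rl.cmp (nat_lit 470) (nat_lit 2739)))) (FT.node (nat_lit 4205) (FT.leaf (Fct.mk false (nat_lit 5) (nat_lit 0) (nat_lit 5) [nat_lit 8, nat_lit 3, nat_lit 4, nat_lit 2, nat_lit 3, nat_lit 8, nat_lit 7, nat_lit 5, nat_lit 6, nat_lit 4, nat_lit 5, nat_lit 3, nat_lit 4, nat_lit 2, nat_lit 3, nat_lit 8,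 nat_lit 0, nat_lit 1, nat_lit 2, nat_lit 3, nat_lit 4, nat_lit 5, nat_lit 6, nat_lit 7, nat_lit 6, nat_lit 5, nat_lit 4, nat_lit 3, nat_lit 8, nat_lit 2, nat_lit 3, nat_lit 4, nat_lit 5, nat_lit 2, nat_lit 3, nat_lit 8, nat_lit 4, nat_lit 3, nat_lit 2, nat_lit 0, nat_lit 1, nat_lit 9, nat_lit 4, nat_lit 3, nat_lit 2, nat_lit 8, nat_lit 3, nat_lit 11, nat_lit 12, nat_lit 15, nat_lit 14, nat_lit 12] (Rl.cmp (nat_lit 2491) (nat_lit 4203)))) (FT.leaf (Fct.mk false (nat_lit 5) (nat_lit 0) (nat_lit 5) [nat_lit 8, nat_lit 4, nat_lit 5, nat_lit 2, nat_lit 3, nat_lit 4, nat_lit 1, nat_lit 2, nat_lit 3, nat_lit 8, nat_lit 6, nat_lit 7, nat_lit 5, nat_lit 6, nat_lit 4, nat_lit 5, nat_lit 3, nat_lit 4, nat_lit 2, nat_lit 3, nat_lit 8, nat_lit 1, nat_lit 2, nat_lit 3, nat_lit 4, nat_lit 5, nat_lit 6, nat_lit 7, nat_lit 0, nat_lit 1, nat_lit 2, nat_lit 3,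 nat_lit 4, nat_lit 5, nat_lit 8, nat_lit 3, nat_lit 2, nat_lit 1, nat_lit 4, nat_lit 3, nat_lit 2, nat_lit 8, nat_lit 3, nat_lit 10, nat_lit 1, nat_lit 15, nat_lit 14, nat_lit 8, nat_lit 18, nat_lit 16] (Rl.cmp (nat_lit 2491) (nat_lit 4204))))))) (FT.node (nat_lit 4209) (FT.node (nat_lit 4207) (FT.leaf (Fct.mk false (nat_lit 32) (nat_lit 0) (nat_lit 32) [nat_lit 1, nat_lit 2, nat_lit 3, nat_lit 8, nat_lit 6, nat_lit 4, nat_lit 5, nat_lit 3, nat_lit 4, nat_lit 2, nat_lit 3, nat_lit 8, nat_lit 1, nat_lit 2, nat_lit 3, nat_lit 4, nat_lit 5, nat_lit 2, nat_lit 1, nat_lit 9, nat_lit 4, nat_lit 3, nat_lit 2, nat_lit 8, nat_lit 3, nat_lit 11, nat_lit 2, nat_lit 10, nat_lit 1, nat_lit 12, nat_lit 8, nat_lit 16, nat_lit 14, nat_lit 17, nat_lit 19] (Rl.cmp (nat_lit 3456) (nat_lit 3686)))) (FT.node (nat_lit 4208) (FT.leaf (Fct.mk false (nat_lit 32) (nat_lit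 0) (nat_lit 32) [nat_lit 0, nat_lit 1, nat_lit 2, nat_lit 3, nat_lit 4, nat_lit 5, nat_lit 3, nat_lit 8, nat_lit 4, nat_lit 3, nat_lit 2, nat_lit 0, nat_lit 1, nat_lit 9, nat_lit 4, nat_lit 3, nat_lit 2, nat_lit 8, nat_lit 3, nat_lit 15, nat_lit 17, nat_lit 16] (Rl.cmp (nat_lit 3004) (nat_lit 2995)))) (FT.leaf (Fct.mk false (nat_lit 32) (nat_lit 0) (nat_lit 32) [nat_lit 5, nat_lit 4, nat_lit 3, nat_lit 8, nat_lit 2, nat_lit 3, nat_lit 4, nat_lit 5, nat_lit 3, nat_lit 2, nat_lit 8, nat_lit 3, nat_lit 11, nat_lit 2, nat_lit 13, nat_lit 19] (Rl.cmp (nat_lit 3456) (nat_lit 3456)))))) (FT.node (nat_lit 4210) (FT.leaf (Fct.mk false (nat_lit 32) (nat_lit 0) (nat_lit 32) [nat_lit 3, nat_lit 4, nat_lit 1, nat_lit 2, nat_lit 3, nat_lit 8, nat_lit 5, nat_lit 6, nat_lit 4, nat_lit 5, nat_lit 3, nat_lit 4, nat_lit 2, nat_lit 3, nat_lit 8, nat_lit 1, nat_lit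 2, nat_lit 3, nat_lit 4, nat_lit 5, nat_lit 0, nat_lit 1, nat_lit 2, nat_lit 8, nat_lit 3, nat_lit 11, nat_lit 1, nat_lit 12, nat_lit 15, nat_lit 12, nat_lit 19, nat_lit 16] (Rl.cmp (nat_lit 3004) (nat_lit 4073)))) (FT.node (nat_lit 4211) (FT.leaf (Fct.mk false (nat_lit 32) (nat_lit 0) (nat_lit 32) [nat_lit 3, nat_lit 8, nat_lit 5, nat_lit 2, nat_lit 3, nat_lit 4, nat_lit 1, nat_lit 2, nat_lit 3, nat_lit 8, nat_lit 6, nat_lit 7, nat_lit 5, nat_lit 6, nat_lit 4, nat_lit 5, nat_lit 3, nat_lit 4, nat_lit 2, nat_lit 3, nat_lit 8, nat_lit 1, nat_lit 2, nat_lit 3, nat_lit 4, nat_lit 5, nat_lit 6, nat_lit 7, nat_lit 8, nat_lit 6, nat_lit 5, nat_lit 3, nat_lit 4, nat_lit 2, nat_lit 3, nat_lit 8, nat_lit 1, nat_lit 2, nat_lit 3, nat_lit 4, nat_lit 5, nat_lit 1, nat_lit 2, nat_lit 3, nat_lit 8, nat_lit 4, nat_lit 3, nat_lit 2, nat_lit 1, nat_lit 9, nat_lit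 4, nat_lit 3, nat_lit 2, nat_lit 8, nat_lit 3, nat_lit 11, nat_lit 10, nat_lit 17, nat_lit 12, nat_lit 19] (Rl.cmp (nat_lit 3456) (nat_lit 4169)))) (FT.leaf (Fct.mk false (nat_lit 32) (nat_lit 0) (nat_lit 32) [nat_lit 3, nat_lit 8, nat_lit 5, nat_lit 2, nat_lit 3, nat_lit 4, nat_lit 1, nat_lit 2, nat_lit 3, nat_lit 8, nat_lit 6, nat_lit 7, nat_lit 5, nat_lit 6, nat_lit 4, nat_lit 5, nat_lit 3, nat_lit 4, nat_lit 2, nat_lit 3, nat_lit 8, nat_lit 1, nat_lit 2, nat_lit 3, nat_lit 4, nat_lit 5, nat_lit 6, nat_lit 7, nat_lit 4, nat_lit 5, nat_lit 3, nat_lit 4, nat_lit 2, nat_lit 3, nat_lit 8, nat_lit 1, nat_lit 2, nat_lit 3, nat_lit 4, nat_lit 5, nat_lit 9, nat_lit 4, nat_lit 11, nat_lit 1, nat_lit 12, nat_lit 8, nat_lit 16, nat_lit 14, nat_lit 13, nat_lit 12, nat_lit 19] (Rl.cmp (nat_lit 2995) (nat_lit 4210)))))))) (FT.node (nat_lit 4218) (FT.node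 (nat_lit 4215) (FT.node (nat_lit 4213) (FT.leaf (Fct.mk false (nat_lit 32) (nat_lit 0) (nat_lit 32) [nat_lit 3, nat_lit 8, nat_lit 5, nat_lit 2, nat_lit 3, nat_lit 4, nat_lit 1, nat_lit 2, nat_lit 3, nat_lit 8, nat_lit 6, nat_lit 7, nat_lit 5, nat_lit 6, nat_lit 4, nat_lit 5, nat_lit 3, nat_lit 4, nat_lit 2, nat_lit 3, nat_lit 8, nat_lit 1, nat_lit 2, nat_lit 3, nat_lit 4, nat_lit 5, nat_lit 6, nat_lit 7, nat_lit 5, nat_lit 6, nat_lit 4, nat_lit 5, nat_lit 3, nat_lit 4, nat_lit 2, nat_lit 3, nat_lit 8, nat_lit 1, nat_lit 2, nat_lit 3, nat_lit 4, nat_lit 5, nat_lit 8, nat_lit 3, nat_lit 2, nat_lit 1, nat_lit 4, nat_lit 3, nat_lit 2, nat_lit 8, nat_lit 3, nat_lit 11, nat_lit 2, nat_lit 15, nat_lit 14, nat_lit 13] (Rl.cmp (nat_lit 3004) (nat_lit 4211)))) (FT.node (nat_lit 4214) (FT.leaf (Fct.mk false (nat_lit 32) (nat_lit 0) (nat_lit 32) [nat_lit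 3, nat_lit 8, nat_lit 5, nat_lit 2, nat_lit 3, nat_lit 4, nat_lit 1, nat_lit 2, nat_lit 3, nat_lit 8, nat_lit 6, nat_lit 7, nat_lit 5, nat_lit 6, nat_lit 4, nat_lit 5, nat_lit 3, nat_lit 4, nat_lit 2, nat_lit 3, nat_lit 8, nat_lit 1, nat_lit 2, nat_lit 3, nat_lit 4, nat_lit 5, nat_lit 6, nat_lit 7, nat_lit 8, nat_lit 4, nat_lit 5, nat_lit 3, nat_lit 4, nat_lit 2, nat_lit 3, nat_lit 8, nat_lit 1, nat_lit 2, nat_lit 3, nat_lit 4, nat_lit 5, nat_lit 8, nat_lit 3, nat_lit 2, nat_lit 1, nat_lit 4, nat_lit 3, nat_lit 2, nat_lit 8, nat_lit 3, nat_lit 9, nat_lit 8, nat_lit 16, nat_lit 14, nat_lit 16] (Rl.cmp (nat_lit 3004) (nat_lit 4191)))) (FT.leaf (Fct.mk false (nat_lit 32) (nat_lit 0) (nat_lit 32) [nat_lit 3, nat_lit 2, nat_lit 1, nat_lit 8, nat_lit 3, nat_lit 2, nat_lit 0, nat_lit 1, nat_lit 4, nat_lit 3, nat_lit 2, nat_lit 8, nat_lit 3, nat_lit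 2, nat_lit 10, nat_lit 1, nat_lit 8, nat_lit 12, nat_lit 15, nat_lit 14, nat_lit 18] (Rl.cmp (nat_lit 3456) (nat_lit 4213)))))) (FT.node (nat_lit 4216) (FT.leaf (Fct.mk false (nat_lit 32) (nat_lit 0) (nat_lit 32) [nat_lit 3, nat_lit 8, nat_lit 5, nat_lit 2, nat_lit 3, nat_lit 4, nat_lit 1, nat_lit 2, nat_lit 3, nat_lit 8, nat_lit 6, nat_lit 7, nat_lit 5, nat_lit 6, nat_lit 4, nat_lit 5, nat_lit 3, nat_lit 4, nat_lit 2, nat_lit 3, nat_lit 8, nat_lit 1, nat_lit 2, nat_lit 3, nat_lit 4, nat_lit 5, nat_lit 6, nat_lit 7, nat_lit 8, nat_lit 6, nat_lit 5, nat_lit 3, nat_lit 4, nat_lit 2, nat_lit 3, nat_lit 8, nat_lit 1, nat_lit 2, nat_lit 3, nat_lit 4, nat_lit 5, nat_lit 8, nat_lit 3, nat_lit 2, nat_lit 1, nat_lit 9, nat_lit 4, nat_lit 3, nat_lit 2, nat_lit 8, nat_lit 3, nat_lit 8, nat_lit 10, nat_lit 9, nat_lit 2, nat_lit 8, nat_lit 16, nat_lit 14,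 nat_lit 8] (Rl.cmp (nat_lit 3047) (nat_lit 4151)))) (FT.node (nat_lit 4217) (FT.leaf (Fct.mk false (nat_lit 32) (nat_lit 0) (nat_lit 32) [nat_lit 3, nat_lit 8, nat_lit 5, nat_lit 2, nat_lit 3, nat_lit 4, nat_lit 1, nat_lit 2, nat_lit 3, nat_lit 8, nat_lit 6, nat_lit 7, nat_lit 5, nat_lit 6, nat_lit 4, nat_lit 5, nat_lit 3, nat_lit 4, nat_lit 2, nat_lit 3, nat_lit 8, nat_lit 1, nat_lit 2, nat_lit 3, nat_lit 4, nat_lit 5, nat_lit 6, nat_lit 7, nat_lit 8, nat_lit 5, nat_lit 3, nat_lit 4, nat_lit 2, nat_lit 3, nat_lit 8, nat_lit 1, nat_lit 2, nat_lit 3, nat_lit 4, nat_lit 5, nat_lit 1, nat_lit 2, nat_lit 3, nat_lit 2, nat_lit 8, nat_lit 10, nat_lit 1, nat_lit 14, nat_lit 12, nat_lit 19] (Rl.cmp (nat_lit 3010) (nat_lit 4215)))) (FT.leaf (Fct.mk false (nat_lit 32) (nat_lit 0) (nat_lit 32) [nat_lit 6, nat_lit 1, nat_lit 2, nat_lit 0, nat_lit 1, nat_lit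 4, nat_lit 3, nat_lit 2, nat_lit 8, nat_lit 3, nat_lit 10, nat_lit 8, nat_lit 12, nat_lit 15, nat_lit 14, nat_lit 8] (Rl.cmp (nat_lit 3456) (nat_lit 4216))))))) (FT.node (nat_lit 4221) (FT.node (nat_lit 4219) (FT.leaf (Fct.mk false (nat_lit 32) (nat_lit 0) (nat_lit 32) [nat_lit 3, nat_lit 8, nat_lit 5, nat_lit 2, nat_lit 3, nat_lit 4, nat_lit 1, nat_lit 2, nat_lit 3, nat_lit 8, nat_lit 6, nat_lit 7, nat_lit 5, nat_lit 6, nat_lit 4, nat_lit 5, nat_lit 3, nat_lit 4, nat_lit 2, nat_lit 3, nat_lit 8, nat_lit 1, nat_lit 2, nat_lit 3, nat_lit 4, nat_lit 5, nat_lit 6, nat_lit 7, nat_lit 8, nat_lit 3, nat_lit 4, nat_lit 2, nat_lit 3, nat_lit 8, nat_lit 1, nat_lit 2, nat_lit 3, nat_lit 4, nat_lit 5, nat_lit 1, nat_lit 2, nat_lit 0, nat_lit 1, nat_lit 3, nat_lit 2, nat_lit 8, nat_lit 3, nat_lit 10, nat_lit 1, nat_lit 15, nat_lit 13, nat_lit 18] (Rl.cmp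 (nat_lit 3456) (nat_lit 3491)))) (FT.node (nat_lit 4220) (FT.leaf (Fct.mk false (nat_lit 32) (nat_lit 0) (nat_lit 32) [nat_lit 3, nat_lit 8, nat_lit 5, nat_lit 2, nat_lit 3, nat_lit 4, nat_lit 1, nat_lit 2, nat_lit 3, nat_lit 8, nat_lit 6, nat_lit 7, nat_lit 5, nat_lit 6, nat_lit 4, nat_lit 5, nat_lit 3, nat_lit 4, nat_lit 2, nat_lit 3, nat_lit 8, nat_lit 1, nat_lit 2, nat_lit 3, nat_lit 4, nat_lit 5, nat_lit 6, nat_lit 7, nat_lit 5, nat_lit 4, nat_lit 2, nat_lit 3, nat_lit 8, nat_lit 1, nat_lit 2, nat_lit 3, nat_lit 4, nat_lit 5, nat_lit 2, nat_lit 3, nat_lit 0, nat_lit 2, nat_lit 16, nat_lit 14, nat_lit 17, nat_lit 18] (Rl.cmp (nat_lit 3047) (nat_lit 4218)))) (FT.leaf (Fct.mk false (nat_lit 32) (nat_lit 0) (nat_lit 32) [nat_lit 3, nat_lit 8, nat_lit 5, nat_lit 2, nat_lit 3, nat_lit 4, nat_lit 1, nat_lit 2, nat_lit 3, nat_lit 8, nat_lit 6,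 nat_lit 7, nat_lit 5, nat_lit 6, nat_lit 4, nat_lit 5, nat_lit 3, nat_lit 4, nat_lit 2, nat_lit 3, nat_lit 8, nat_lit 1, nat_lit 2, nat_lit 3, nat_lit 4, nat_lit 5, nat_lit 6, nat_lit 7, nat_lit 5, nat_lit 6, nat_lit 4, nat_lit 5, nat_lit 3, nat_lit 4, nat_lit 2, nat_lit 3, nat_lit 8, nat_lit 1, nat_lit 2, nat_lit 3, nat_lit 4, nat_lit 5, nat_lit 8, nat_lit 3, nat_lit 2, nat_lit 1, nat_lit 4, nat_lit 3, nat_lit 2, nat_lit 8, nat_lit 3, nat_lit 11, nat_lit 15, nat_lit 14, nat_lit 17, nat_lit 19] (Rl.cmp (nat_lit 3010) (nat_lit 4219)))))) (FT.node (nat_lit 4223) (FT.node (nat_lit 4222) (FT.leaf (Fct.mk false (nat_lit 32) (nat_lit 0) (nat_lit 32) [nat_lit 6, nat_lit 5, nat_lit 4, nat_lit 3, nat_lit 8, nat_lit 2, nat_lit 3, nat_lit 4, nat_lit 1, nat_lit 2, nat_lit 3, nat_lit 8, nat_lit 5, nat_lit 6, nat_lit 4, nat_lit 5, nat_lit 3, nat_lit 4, nat_lit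 2, nat_lit 3, nat_lit 8, nat_lit 1, nat_lit 2, nat_lit 3, nat_lit 4, nat_lit 5, nat_lit 0, nat_lit 1, nat_lit 9, nat_lit 4, nat_lit 3, nat_lit 2, nat_lit 8, nat_lit 3, nat_lit 1, nat_lit 12, nat_lit 8, nat_lit 16, nat_lit 14, nat_lit 16, nat_lit 8, nat_lit 18, nat_lit 16] (Rl.cmp (nat_lit 3010) (nat_lit 4187)))) (FT.leaf (Fct.mk false (nat_lit 32) (nat_lit 0) (nat_lit 32) [nat_lit 3, nat_lit 8, nat_lit 5, nat_lit 2, nat_lit 3, nat_lit 4, nat_lit 1, nat_lit 2, nat_lit 3, nat_lit 8, nat_lit 6, nat_lit 7, nat_lit 5, nat_lit 6, nat_lit 4, nat_lit 5, nat_lit 3, nat_lit 4, nat_lit 2, nat_lit 3, nat_lit 8, nat_lit 1, nat_lit 2, nat_lit 3, nat_lit 4, nat_lit 5, nat_lit 6, nat_lit 7, nat_lit 8, nat_lit 6, nat_lit 5, nat_lit 3, nat_lit 4, nat_lit 2, nat_lit 3, nat_lit 8, nat_lit 1, nat_lit 2, nat_lit 3, nat_lit 4, nat_lit 5, nat_lit 1, nat_lit 2, nat_lit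 3, nat_lit 8, nat_lit 4, nat_lit 3, nat_lit 2, nat_lit 1, nat_lit 9, nat_lit 4, nat_lit 3, nat_lit 2, nat_lit 8, nat_lit 3, nat_lit 11, nat_lit 10, nat_lit 17, nat_lit 12, nat_lit 19] (Rl.cmp (nat_lit 3456) (nat_lit 4221))))) (FT.node (nat_lit 4224) (FT.leaf (Fct.mk false (nat_lit 32) (nat_lit 0) (nat_lit 32) [nat_lit 3, nat_lit 8, nat_lit 5, nat_lit 2, nat_lit 3, nat_lit 4, nat_lit 1, nat_lit 2, nat_lit 3, nat_lit 8, nat_lit 6, nat_lit 7, nat_lit 5, nat_lit 6, nat_lit 4, nat_lit 5, nat_lit 3, nat_lit 4, nat_lit 2, nat_lit 3, nat_lit 8, nat_lit 1, nat_lit 2, nat_lit 3, nat_lit 4, nat_lit 5, nat_lit 6, nat_lit 7, nat_lit 4, nat_lit 5, nat_lit 3, nat_lit 4, nat_lit 2, nat_lit 3, nat_lit 8, nat_lit 1, nat_lit 2, nat_lit 3, nat_lit 4, nat_lit 5, nat_lit 9, nat_lit 4, nat_lit 11, nat_lit 1, nat_lit 12, nat_lit 8, nat_lit 16, nat_lit 14, nat_lit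 13, nat_lit 12, nat_lit 19] (Rl.cmp (nat_lit 2995) (nat_lit 4222)))) (FT.leaf (Fct.mk false (nat_lit 32) (nat_lit 0) (nat_lit 32) [nat_lit 3, nat_lit 8, nat_lit 5, nat_lit 2, nat_lit 3, nat_lit 4, nat_lit 1, nat_lit 2, nat_lit 3, nat_lit 8, nat_lit 6, nat_lit 7, nat_lit 5, nat_lit 6, nat_lit 4, nat_lit 5, nat_lit 3, nat_lit 4, nat_lit 2, nat_lit 3, nat_lit 8, nat_lit 1, nat_lit 2, nat_lit 3, nat_lit 4, nat_lit 5, nat_lit 6, nat_lit 7, nat_lit 5, nat_lit 6, nat_lit 4, nat_lit 5, nat_lit 3, nat_lit 4, nat_lit 2, nat_lit 3, nat_lit 8, nat_lit 1, nat_lit 2, nat_lit 3, nat_lit 4, nat_lit 5, nat_lit 8, nat_lit 3, nat_lit 2, nat_lit 1, nat_lit 4, nat_lit 3, nat_lit 2, nat_lit 8, nat_lit 3, nat_lit 11, nat_lit 2, nat_lit 15, nat_lit 14, nat_lit 13] (Rl.cmp (nat_lit 3004) (nat_lit 4223))))))))) (FT.node (nat_lit 4237) (FT.node (nat_lit 4231) (FT.node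 (nat_lit 4228) (FT.node (nat_lit 4226) (FT.leaf (Fct.mk false (nat_lit 32) (nat_lit 0) (nat_lit 32) [nat_lit 6, nat_lit 5, nat_lit 4, nat_lit 3, nat_lit 8, nat_lit 2, nat_lit 3, nat_lit 4, nat_lit 1, nat_lit 2, nat_lit 3, nat_lit 8, nat_lit 5, nat_lit 6, nat_lit 4, nat_lit 5, nat_lit 3, nat_lit 4, nat_lit 2, nat_lit 3, nat_lit 8, nat_lit 1, nat_lit 2, nat_lit 3, nat_lit 4, nat_lit 5, nat_lit 2, nat_lit 0, nat_lit 1, nat_lit 9, nat_lit 4, nat_lit 3, nat_lit 2, nat_lit 8, nat_lit 3, nat_lit 1, nat_lit 12, nat_lit 8, nat_lit 16, nat_lit 14, nat_lit 16, nat_lit 8, nat_lit 18, nat_lit 16] (Rl.cmp (nat_lit 3010) (nat_lit 3047)))) (FT.node (nat_lit 4227) (FT.leaf (Fct.mk false (nat_lit 32) (nat_lit 0) (nat_lit 32) [nat_lit 97] (Rl.cmp (nat_lit 3047) (nat_lit 3047)))) (FT.leaf (Fct.mk false (nat_lit 32) (nat_lit 0) (nat_lit 32) [nat_lit 5, nat_lit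 4, nat_lit 3, nat_lit 8, nat_lit 2, nat_lit 3, nat_lit 4, nat_lit 5, nat_lit 2, nat_lit 1, nat_lit 4, nat_lit 3, nat_lit 2, nat_lit 8, nat_lit 3, nat_lit 8, nat_lit 10, nat_lit 14, nat_lit 12, nat_lit 18] (Rl.cmp (nat_lit 3010) (nat_lit 2995)))))) (FT.node (nat_lit 4229) (FT.leaf (Fct.mk false (nat_lit 32) (nat_lit 0) (nat_lit 32) [nat_lit 5, nat_lit 6, nat_lit 4, nat_lit 5, nat_lit 3, nat_lit 4, nat_lit 2, nat_lit 3, nat_lit 8, nat_lit 1, nat_lit 2, nat_lit 3, nat_lit 4, nat_lit 5, nat_lit 1, nat_lit 4, nat_lit 3, nat_lit 2, nat_lit 8, nat_lit 3, nat_lit 11, nat_lit 10, nat_lit 1, nat_lit 12, nat_lit 15, nat_lit 14, nat_lit 18, nat_lit 16] (Rl.cmp (nat_lit 3004) (nat_lit 4227)))) (FT.node (nat_lit 4230) (FT.leaf (Fct.mk false (nat_lit 32) (nat_lit 0) (nat_lit 32) [nat_lit 3, nat_lit 8, nat_lit 6, nat_lit 4, nat_lit 5, nat_lit 3, nat_lit 4,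 nat_lit 2, nat_lit 3, nat_lit 8, nat_lit 0, nat_lit 1, nat_lit 2, nat_lit 3, nat_lit 4, nat_lit 5, nat_lit 1, nat_lit 8, nat_lit 4, nat_lit 3, nat_lit 2, nat_lit 0, nat_lit 1, nat_lit 9, nat_lit 4, nat_lit 3, nat_lit 2, nat_lit 8, nat_lit 3, nat_lit 10, nat_lit 1, nat_lit 16, nat_lit 14, nat_lit 17, nat_lit 16] (Rl.cmp (nat_lit 3004) (nat_lit 4228)))) (FT.leaf (Fct.mk false (nat_lit 32) (nat_lit 0) (nat_lit 32) [nat_lit 8, nat_lit 5, nat_lit 6, nat_lit 4, nat_lit 5, nat_lit 3, nat_lit 4, nat_lit 2, nat_lit 3, nat_lit 8, nat_lit 0, nat_lit 1, nat_lit 2, nat_lit 3, nat_lit 4, nat_lit 5, nat_lit 2, nat_lit 1, nat_lit 8, nat_lit 3, nat_lit 2, nat_lit 0, nat_lit 1, nat_lit 4, nat_lit 3, nat_lit 2, nat_lit 8, nat_lit 3, nat_lit 10, nat_lit 12, nat_lit 15, nat_lit 14, nat_lit 13, nat_lit 12, nat_lit 19] (Rl.cmp (nat_lit 3010) (nat_lit 4229)))))))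 (FT.node (nat_lit 4234) (FT.node (nat_lit 4232) (FT.leaf (Fct.mk false (nat_lit 32) (nat_lit 0) (nat_lit 32) [nat_lit 8, nat_lit 1, nat_lit 2, nat_lit 3, nat_lit 4, nat_lit 5, nat_lit 3, nat_lit 2, nat_lit 0, nat_lit 1, nat_lit 9, nat_lit 4, nat_lit 3, nat_lit 2, nat_lit 8, nat_lit 3, nat_lit 8, nat_lit 10, nat_lit 0, nat_lit 16, nat_lit 14, nat_lit 13, nat_lit 12, nat_lit 19] (Rl.cmp (nat_lit 3004) (nat_lit 3047)))) (FT.node (nat_lit 4233) (FT.leaf (Fct.mk false (nat_lit 32) (nat_lit 0) (nat_lit 32) [nat_lit 2, nat_lit 3, nat_lit 8, nat_lit 6, nat_lit 4, nat_lit 5, nat_lit 3, nat_lit 4, nat_lit 2, nat_lit 3, nat_lit 8, nat_lit 1, nat_lit 2, nat_lit 3, nat_lit 4, nat_lit 5, nat_lit 2, nat_lit 1, nat_lit 3, nat_lit 2, nat_lit 0, nat_lit 1, nat_lit 4, nat_lit 3, nat_lit 2, nat_lit 8, nat_lit 3, nat_lit 11, nat_lit 1, nat_lit 15, nat_lit 13, nat_lit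 19, nat_lit 16] (Rl.cmp (nat_lit 3004) (nat_lit 4231)))) (FT.leaf (Fct.mk false (nat_lit 32) (nat_lit 0) (nat_lit 32) [nat_lit 2, nat_lit 3, nat_lit 4, nat_lit 1, nat_lit 2, nat_lit 3, nat_lit 8, nat_lit 0, nat_lit 1, nat_lit 2, nat_lit 3, nat_lit 4, nat_lit 5, nat_lit 3, nat_lit 8, nat_lit 4, nat_lit 3, nat_lit 2, nat_lit 0, nat_lit 1, nat_lit 9, nat_lit 4, nat_lit 3, nat_lit 2, nat_lit 8, nat_lit 3, nat_lit 11, nat_lit 10, nat_lit 8, nat_lit 16, nat_lit 14, nat_lit 19] (Rl.cmp (nat_lit 3010) (nat_lit 3004)))))) (FT.node (nat_lit 4235) (FT.leaf (Fct.mk false (nat_lit 32) (nat_lit 0) (nat_lit 32) [nat_lit 3, nat_lit 4, nat_lit 1, nat_lit 2, nat_lit 3, nat_lit 8, nat_lit 5, nat_lit 6, nat_lit 4, nat_lit 5, nat_lit 3, nat_lit 4, nat_lit 2, nat_lit 3, nat_lit 8, nat_lit 1, nat_lit 2, nat_lit 3, nat_lit 4, nat_lit 5, nat_lit 0, nat_lit 1, nat_lit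 2, nat_lit 8, nat_lit 3, nat_lit 11, nat_lit 1, nat_lit 12, nat_lit 15, nat_lit 12, nat_lit 19, nat_lit 16] (Rl.cmp (nat_lit 3004) (nat_lit 4233)))) (FT.node (nat_lit 4236) (FT.leaf (Fct.mk false (nat_lit 32) (nat_lit 0) (nat_lit 32) [nat_lit 3, nat_lit 8, nat_lit 5, nat_lit 2, nat_lit 3, nat_lit 4, nat_lit 1, nat_lit 2, nat_lit 3, nat_lit 8, nat_lit 6, nat_lit 7, nat_lit 5, nat_lit 6, nat_lit 4, nat_lit 5, nat_lit 3, nat_lit 4, nat_lit 2, nat_lit 3, nat_lit 8, nat_lit 1, nat_lit 2, nat_lit 3, nat_lit 4, nat_lit 5, nat_lit 6, nat_lit 7, nat_lit 5, nat_lit 3, nat_lit 4, nat_lit 2, nat_lit 3, nat_lit 8, nat_lit 1, nat_lit 2, nat_lit 3, nat_lit 4, nat_lit 5, nat_lit 2, nat_lit 3, nat_lit 11, nat_lit 1, nat_lit 8, nat_lit 16, nat_lit 14, nat_lit 13, nat_lit 19, nat_lit 16] (Rl.cmp (nat_lit 3047) (nat_lit 3652)))) (FT.leaf (Fct.mk false (nat_lit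 32) (nat_lit 0) (nat_lit 32) [nat_lit 3, nat_lit 8, nat_lit 5, nat_lit 2, nat_lit 3, nat_lit 4, nat_lit 1, nat_lit 2, nat_lit 3, nat_lit 8, nat_lit 6, nat_lit 7, nat_lit 5, nat_lit 6, nat_lit 4, nat_lit 5, nat_lit 3, nat_lit 4, nat_lit 2, nat_lit 3, nat_lit 8, nat_lit 1, nat_lit 2, nat_lit 3, nat_lit 4, nat_lit 5, nat_lit 6, nat_lit 7, nat_lit 1, nat_lit 2, nat_lit 3, nat_lit 4, nat_lit 5, nat_lit 3, nat_lit 2, nat_lit 0, nat_lit 1, nat_lit 4, nat_lit 3, nat_lit 2, nat_lit 8, nat_lit 3, nat_lit 10, nat_lit 2, nat_lit 8, nat_lit 10, nat_lit 1, nat_lit 12, nat_lit 15, nat_lit 14, nat_lit 13, nat_lit 12] (Rl.cmp (nat_lit 3004) (nat_lit 4235)))))))) (FT.node (nat_lit 4243) (FT.node (nat_lit 4240) (FT.node (nat_lit 4238) (FT.leaf (Fct.mk false (nat_lit 32) (nat_lit 0) (nat_lit 32) [nat_lit 3, nat_lit 4, nat_lit 1, nat_lit 2, nat_lit 3, nat_lit 8,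 nat_lit 5, nat_lit 6, nat_lit 4, nat_lit 5, nat_lit 3, nat_lit 4, nat_lit 2, nat_lit 3, nat_lit 8, nat_lit 1, nat_lit 2, nat_lit 3, nat_lit 4, nat_lit 5, nat_lit 0, nat_lit 1, nat_lit 3, nat_lit 2, nat_lit 8, nat_lit 3, nat_lit 11, nat_lit 1, nat_lit 12, nat_lit 15, nat_lit 12, nat_lit 19, nat_lit 16] (Rl.cmp (nat_lit 3004) (nat_lit 3490)))) (FT.node (nat_lit 4239) (FT.leaf (Fct.mk false (nat_lit 32) (nat_lit 0) (nat_lit 32) [nat_lit 3, nat_lit 8, nat_lit 5, nat_lit 2, nat_lit 3, nat_lit 4, nat_lit 1, nat_lit 2, nat_lit 3, nat_lit 8, nat_lit 6, nat_lit 7, nat_lit 5, nat_lit 6, nat_lit 4, nat_lit 5, nat_lit 3, nat_lit 4, nat_lit 2, nat_lit 3, nat_lit 8, nat_lit 1, nat_lit 2, nat_lit 3, nat_lit 4, nat_lit 5, nat_lit 6, nat_lit 7, nat_lit 5, nat_lit 4, nat_lit 3, nat_lit 8, nat_lit 0, nat_lit 1, nat_lit 2, nat_lit 3, nat_lit 4, nat_lit 5, nat_lit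 2, nat_lit 1, nat_lit 3, nat_lit 2, nat_lit 0, nat_lit 1, nat_lit 4, nat_lit 3, nat_lit 2, nat_lit 8, nat_lit 3, nat_lit 9, nat_lit 10, nat_lit 2, nat_lit 8, nat_lit 10, nat_lit 1, nat_lit 8, nat_lit 12, nat_lit 15, nat_lit 19] (Rl.cmp (nat_lit 3456) (nat_lit 4237)))) (FT.leaf (Fct.mk false (nat_lit 32) (nat_lit 0) (nat_lit 32) [nat_lit 3, nat_lit 8, nat_lit 5, nat_lit 2, nat_lit 3, nat_lit 4, nat_lit 1, nat_lit 2, nat_lit 3, nat_lit 8, nat_lit 6, nat_lit 7, nat_lit 5, nat_lit 6, nat_lit 4, nat_lit 5, nat_lit 3, nat_lit 4, nat_lit 2, nat_lit 3, nat_lit 8, nat_lit 1, nat_lit 2, nat_lit 3, nat_lit 4, nat_lit 5, nat_lit 6, nat_lit 7, nat_lit 8, nat_lit 6, nat_lit 5, nat_lit 3, nat_lit 4, nat_lit 2, nat_lit 3, nat_lit 8, nat_lit 1, nat_lit 2, nat_lit 3, nat_lit 4, nat_lit 5, nat_lit 3, nat_lit 8, nat_lit 4, nat_lit 3, nat_lit 2, nat_lit 1, nat_lit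 9, nat_lit 4, nat_lit 3, nat_lit 2, nat_lit 8, nat_lit 3, nat_lit 9, nat_lit 14, nat_lit 16, nat_lit 8] (Rl.cmp (nat_lit 3004) (nat_lit 4238)))))) (FT.node (nat_lit 4241) (FT.leaf (Fct.mk false (nat_lit 32) (nat_lit 0) (nat_lit 32) [nat_lit 1, nat_lit 2, nat_lit 3, nat_lit 8, nat_lit 4, nat_lit 5, nat_lit 3, nat_lit 4, nat_lit 2, nat_lit 3, nat_lit 8, nat_lit 1, nat_lit 2, nat_lit 3, nat_lit 4, nat_lit 5, nat_lit 2, nat_lit 1, nat_lit 3, nat_lit 2, nat_lit 0, nat_lit 1, nat_lit 4, nat_lit 3, nat_lit 2, nat_lit 8, nat_lit 3, nat_lit 8, nat_lit 10, nat_lit 1, nat_lit 8, nat_lit 12, nat_lit 15, nat_lit 14, nat_lit 8, nat_lit 18] (Rl.cmp (nat_lit 3456) (nat_lit 4239)))) (FT.node (nat_lit 4242) (FT.leaf (Fct.mk false (nat_lit 32) (nat_lit 0) (nat_lit 32) [nat_lit 3, nat_lit 8, nat_lit 5, nat_lit 2, nat_lit 3, nat_lit 4, nat_lit 1, nat_lit 2, nat_lit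 3, nat_lit 8, nat_lit 6, nat_lit 7, nat_lit 5, nat_lit 6, nat_lit 4, nat_lit 5, nat_lit 3, nat_lit 4, nat_lit 2, nat_lit 3, nat_lit 8, nat_lit 1, nat_lit 2, nat_lit 3, nat_lit 4, nat_lit 5, nat_lit 6, nat_lit 7, nat_lit 1, nat_lit 2, nat_lit 3, nat_lit 4, nat_lit 5, nat_lit 4, nat_lit 3, nat_lit 2, nat_lit 0, nat_lit 1, nat_lit 9, nat_lit 4, nat_lit 3, nat_lit 2, nat_lit 8, nat_lit 3, nat_lit 1, nat_lit 9, nat_lit 16, nat_lit 12, nat_lit 15, nat_lit 14, nat_lit 12, nat_lit 19] (Rl.cmp (nat_lit 3010) (nat_lit 4103)))) (FT.leaf (Fct.mk false (nat_lit 32) (nat_lit 0) (nat_lit 32) [nat_lit 3, nat_lit 8, nat_lit 5, nat_lit 2, nat_lit 3, nat_lit 4, nat_lit 1, nat_lit 2, nat_lit 3, nat_lit 8, nat_lit 6, nat_lit 7, nat_lit 5, nat_lit 6, nat_lit 4, nat_lit 5, nat_lit 3, nat_lit 4, nat_lit 2, nat_lit 3, nat_lit 8, nat_lit 1, nat_lit 2, nat_lit 3, nat_lit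 4, nat_lit 5, nat_lit 6, nat_lit 7, nat_lit 8, nat_lit 6, nat_lit 5, nat_lit 3, nat_lit 4, nat_lit 2, nat_lit 3, nat_lit 8, nat_lit 1, nat_lit 2, nat_lit 3, nat_lit 4, nat_lit 5, nat_lit 4, nat_lit 11, nat_lit 2, nat_lit 10, nat_lit 1, nat_lit 8, nat_lit 16, nat_lit 14, nat_lit 13, nat_lit 12, nat_lit 19, nat_lit 16] (Rl.cmp (nat_lit 3004) (nat_lit 4164))))))) (FT.node (nat_lit 4246) (FT.node (nat_lit 4244) (FT.leaf (Fct.mk false (nat_lit 32) (nat_lit 0) (nat_lit 32) [nat_lit 1, nat_lit 2, nat_lit 3, nat_lit 8, nat_lit 4, nat_lit 5, nat_lit 3, nat_lit 4, nat_lit 2, nat_lit 3, nat_lit 8, nat_lit 1, nat_lit 2, nat_lit 3, nat_lit 4, nat_lit 5, nat_lit 1, nat_lit 3, nat_lit 2, nat_lit 8, nat_lit 3, nat_lit 10, nat_lit 9, nat_lit 2, nat_lit 8, nat_lit 16, nat_lit 14, nat_lit 8, nat_lit 19] (Rl.cmp (nat_lit 3456) (nat_lit 4242)))) (FT.node (nat_lit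 4245) (FT.leaf (Fct.mk false (nat_lit 32) (nat_lit 0) (nat_lit 32) [nat_lit 0, nat_lit 8] (Rl.cmp (nat_lit 3047) (nat_lit 4243)))) (FT.leaf (Fct.mk false (nat_lit 32) (nat_lit 0) (nat_lit 32) [nat_lit 0, nat_lit 1, nat_lit 2, nat_lit 3, nat_lit 4, nat_lit 5, nat_lit 2, nat_lit 1, nat_lit 8, nat_lit 3, nat_lit 2, nat_lit 0, nat_lit 1, nat_lit 4, nat_lit 3, nat_lit 2, nat_lit 8, nat_lit 3, nat_lit 9, nat_lit 2, nat_lit 16, nat_lit 15, nat_lit 14, nat_lit 12, nat_lit 18] (Rl.cmp (nat_lit 3047) (nat_lit 4209)))))) (FT.node (nat_lit 4248) (FT.node (nat_lit 4247) (FT.leaf (Fct.mk false (nat_lit 32) (nat_lit 0) (nat_lit 32) [nat_lit 3, nat_lit 8, nat_lit 6, nat_lit 4, nat_lit 5, nat_lit 3, nat_lit 4, nat_lit 2, nat_lit 3, nat_lit 8, nat_lit 1, nat_lit 2, nat_lit 3, nat_lit 4, nat_lit 5, nat_lit 3, nat_lit 11, nat_lit 10, nat_lit 2, nat_lit 8, nat_lit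 10, nat_lit 1, nat_lit 8, nat_lit 12, nat_lit 15, nat_lit 17, nat_lit 18, nat_lit 16] (Rl.cmp (nat_lit 3047) (nat_lit 4245)))) (FT.leaf (Fct.mk false (nat_lit 32) (nat_lit 0) (nat_lit 32) [nat_lit 1, nat_lit 2, nat_lit 3, nat_lit 8, nat_lit 4, nat_lit 5, nat_lit 3, nat_lit 4, nat_lit 2, nat_lit 3, nat_lit 8, nat_lit 1, nat_lit 2, nat_lit 3, nat_lit 4, nat_lit 5, nat_lit 2, nat_lit 1, nat_lit 3, nat_lit 2, nat_lit 0, nat_lit 1, nat_lit 4, nat_lit 3, nat_lit 2, nat_lit 8, nat_lit 3, nat_lit 10, nat_lit 1, nat_lit 8, nat_lit 12, nat_lit 15, nat_lit 14, nat_lit 12] (Rl.cmp (nat_lit 3004) (nat_lit 4246))))) (FT.node (nat_lit 4249) (FT.leaf (Fct.mk false (nat_lit 5) (nat_lit 0) (nat_lit 5) [nat_lit 4, nat_lit 3, nat_lit 8, nat_lit 2, nat_lit 3, nat_lit 4, nat_lit 1, nat_lit 2, nat_lit 3, nat_lit 8, nat_lit 6, nat_lit 7, nat_lit 5, nat_lit 6, nat_lit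 4, nat_lit 5, nat_lit 3, nat_lit 4, nat_lit 2, nat_lit 3, nat_lit 8, nat_lit 1, nat_lit 2, nat_lit 3, nat_lit 4, nat_lit 5, nat_lit 6, nat_lit 7, nat_lit 8, nat_lit 3, nat_lit 4, nat_lit 2, nat_lit 3, nat_lit 8, nat_lit 5, nat_lit 6, nat_lit 4, nat_lit 5, nat_lit 3, nat_lit 4, nat_lit 2, nat_lit 3, nat_lit 8, nat_lit 0, nat_lit 1, nat_lit 2, nat_lit 3, nat_lit 4, nat_lit 5, nat_lit 1, nat_lit 2, nat_lit 3, nat_lit 8, nat_lit 4, nat_lit 3, nat_lit 2, nat_lit 1, nat_lit 9, nat_lit 4, nat_lit 3, nat_lit 2, nat_lit 8, nat_lit 3, nat_lit 10, nat_lit 1, nat_lit 8, nat_lit 12, nat_lit 15, nat_lit 18, nat_lit 16] (Rl.cmp (nat_lit 2491) (nat_lit 2801)))) (FT.leaf (Fct.mk false (nat_lit 5) (nat_lit 0) (nat_lit 5) [nat_lit 8, nat_lit 4, nat_lit 5, nat_lit 2, nat_lit 3, nat_lit 4, nat_lit 1, nat_lit 2, nat_lit 3, nat_lit 8, nat_lit 6, nat_lit 7, nat_lit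 5, nat_lit 6, nat_lit 4, nat_lit 5, nat_lit 3, nat_lit 4, nat_lit 2, nat_lit 3, nat_lit 8, nat_lit 1, nat_lit 2, nat_lit 3, nat_lit 4, nat_lit 5, nat_lit 6, nat_lit 7, nat_lit 5, nat_lit 6, nat_lit 4, nat_lit 5, nat_lit 3, nat_lit 4, nat_lit 2, nat_lit 3, nat_lit 8, nat_lit 1, nat_lit 2, nat_lit 3, nat_lit 4, nat_lit 5, nat_lit 1, nat_lit 2, nat_lit 3, nat_lit 11, nat_lit 2, nat_lit 8, nat_lit 10, nat_lit 1, nat_lit 16, nat_lit 14, nat_lit 13, nat_lit 18] (Rl.cmp (nat_lit 2094) (nat_lit 4248)))))))))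

/-- some facts -/
noncomputable def ftc85 : FT := FT.node (nat_lit 4275) (FT.node (nat_lit 4262) (FT.node (nat_lit 4256) (FT.node (nat_lit 4253) (FT.node (nat_lit 4251) (FT.leaf (Fct.mk false (nat_lit 5) (nat_lit 0) (nat_lit 5) [nat_lit 72] (Rl.cmp (nat_lit 1754) (nat_lit 488)))) (FT.node (nat_lit 4252) (FT.leaf (Fct.mk false (nat_lit 5) (nat_lit 0) (nat_lit 5) [nat_lit 6, nat_lit 9, nat_lit 4, nat_lit 10, nat_lit 1, nat_lit 12, nat_lit 15, nat_lit 12, nat_lit 16] (Rl.cmp (nat_lit 1754) (nat_lit 4153)))) (FT.leaf (Fct.mk false (nat_lit 32) (nat_lit 0) (nat_lit 32) [nat_lit 3, nat_lit 4, nat_lit 1, nat_lit 2, nat_lit 3, nat_lit 8, nat_lit 5, nat_lit 6, nat_lit 4, nat_lit 5, nat_lit 3, nat_lit 4, nat_lit 2, nat_lit 3, nat_lit 8, nat_lit 1, nat_lit 2, nat_lit 3, nat_lit 4, nat_lit 5, nat_lit 0, nat_lit 1, nat_lit 2, nat_lit 8, nat_lit 3, nat_lit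 11, nat_lit 1, nat_lit 12, nat_lit 15, nat_lit 12, nat_lit 19, nat_lit 16] (Rl.cmp (nat_lit 3004) (nat_lit 4193)))))) (FT.node (nat_lit 4254) (FT.leaf (Fct.mk false (nat_lit 32) (nat_lit 0) (nat_lit 32) [nat_lit 0, nat_lit 1, nat_lit 2, nat_lit 3, nat_lit 4, nat_lit 5, nat_lit 2, nat_lit 1, nat_lit 8, nat_lit 3, nat_lit 2, nat_lit 0, nat_lit 1, nat_lit 4, nat_lit 3, nat_lit 2, nat_lit 8, nat_lit 3, nat_lit 9, nat_lit 2, nat_lit 16, nat_lit 15, nat_lit 14, nat_lit 12, nat_lit 18] (Rl.cmp (nat_lit 3047) (nat_lit 4252)))) (FT.node (nat_lit 4255) (FT.leaf (Fct.mk false (nat_lit 32) (nat_lit 0) (nat_lit 32) [nat_lit 3, nat_lit 8, nat_lit 6, nat_lit 4, nat_lit 5, nat_lit 3, nat_lit 4, nat_lit 2, nat_lit 3, nat_lit 8, nat_lit 1, nat_lit 2, nat_lit 3, nat_lit 4, nat_lit 5, nat_lit 1, nat_lit 8, nat_lit 4, nat_lit 3, nat_lit 2, nat_lit 0, nat_lit 1,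 nat_lit 9, nat_lit 4, nat_lit 3, nat_lit 2, nat_lit 8, nat_lit 3, nat_lit 11, nat_lit 2, nat_lit 10, nat_lit 1, nat_lit 16, nat_lit 14, nat_lit 18, nat_lit 16] (Rl.cmp (nat_lit 3047) (nat_lit 3004)))) (FT.leaf (Fct.mk false (nat_lit 32) (nat_lit 0) (nat_lit 32) [nat_lit 3, nat_lit 4, nat_lit 1, nat_lit 2, nat_lit 3, nat_lit 8, nat_lit 5, nat_lit 6, nat_lit 4, nat_lit 5, nat_lit 3, nat_lit 4, nat_lit 2, nat_lit 3, nat_lit 8, nat_lit 1, nat_lit 2, nat_lit 3, nat_lit 4, nat_lit 5, nat_lit 2, nat_lit 1, nat_lit 4, nat_lit 3, nat_lit 2, nat_lit 0, nat_lit 1, nat_lit 9, nat_lit 4, nat_lit 3, nat_lit 2, nat_lit 8, nat_lit 3, nat_lit 10, nat_lit 9, nat_lit 2, nat_lit 12, nat_lit 15, nat_lit 14, nat_lit 16, nat_lit 8, nat_lit 19, nat_lit 16] (Rl.cmp (nat_lit 3047) (nat_lit 4254))))))) (FT.node (nat_lit 4259) (FT.node (nat_lit 4257) (FT.leaf (Fct.mk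 false (nat_lit 32) (nat_lit 0) (nat_lit 32) [nat_lit 8, nat_lit 3, nat_lit 4, nat_lit 1, nat_lit 2, nat_lit 3, nat_lit 8, nat_lit 5, nat_lit 6, nat_lit 4, nat_lit 5, nat_lit 3, nat_lit 4, nat_lit 2, nat_lit 3, nat_lit 8, nat_lit 1, nat_lit 2, nat_lit 3, nat_lit 4, nat_lit 5, nat_lit 2, nat_lit 1, nat_lit 4, nat_lit 3, nat_lit 2, nat_lit 8, nat_lit 3, nat_lit 11, nat_lit 1, nat_lit 15, nat_lit 14, nat_lit 8, nat_lit 19] (Rl.cmp (nat_lit 3004) (nat_lit 4255)))) (FT.node (nat_lit 4258) (FT.leaf (Fct.mk false (nat_lit 32) (nat_lit 0) (nat_lit 32) [nat_lit 3, nat_lit 8, nat_lit 5, nat_lit 2, nat_lit 3, nat_lit 4, nat_lit 1, nat_lit 2, nat_lit 3, nat_lit 8, nat_lit 6, nat_lit 7, nat_lit 5, nat_lit 6, nat_lit 4, nat_lit 5, nat_lit 3, nat_lit 4, nat_lit 2, nat_lit 3, nat_lit 8, nat_lit 1, nat_lit 2, nat_lit 3, nat_lit 4, nat_lit 5, nat_lit 6, nat_lit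 7, nat_lit 1, nat_lit 2, nat_lit 3, nat_lit 4, nat_lit 5, nat_lit 3, nat_lit 11, nat_lit 10, nat_lit 1, nat_lit 15, nat_lit 8, nat_lit 18, nat_lit 16] (Rl.cmp (nat_lit 3004) (nat_lit 3456)))) (FT.leaf (Fct.mk false (nat_lit 32) (nat_lit 0) (nat_lit 32) [nat_lit 3, nat_lit 8, nat_lit 5, nat_lit 2, nat_lit 3, nat_lit 4, nat_lit 1, nat_lit 2, nat_lit 3, nat_lit 8, nat_lit 6, nat_lit 7, nat_lit 5, nat_lit 6, nat_lit 4, nat_lit 5, nat_lit 3, nat_lit 4, nat_lit 2, nat_lit 3, nat_lit 8, nat_lit 1, nat_lit 2, nat_lit 3, nat_lit 4, nat_lit 5, nat_lit 6, nat_lit 7, nat_lit 4, nat_lit 2, nat_lit 3, nat_lit 8, nat_lit 5, nat_lit 6, nat_lit 4, nat_lit 5, nat_lit 3, nat_lit 4, nat_lit 2, nat_lit 3, nat_lit 8, nat_lit 1, nat_lit 2, nat_lit 3, nat_lit 4, nat_lit 5, nat_lit 1, nat_lit 2, nat_lit 3, nat_lit 8, nat_lit 4, nat_lit 3, nat_lit 2, nat_lit 1, nat_lit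 9, nat_lit 4, nat_lit 3, nat_lit 2, nat_lit 8, nat_lit 3, nat_lit 11, nat_lit 8, nat_lit 10, nat_lit 8, nat_lit 12, nat_lit 15, nat_lit 17, nat_lit 19] (Rl.cmp (nat_lit 3010) (nat_lit 4257)))))) (FT.node (nat_lit 4260) (FT.leaf (Fct.mk false (nat_lit 32) (nat_lit 0) (nat_lit 32) [nat_lit 3, nat_lit 8, nat_lit 5, nat_lit 2, nat_lit 3, nat_lit 4, nat_lit 1, nat_lit 2, nat_lit 3, nat_lit 8, nat_lit 6, nat_lit 7, nat_lit 5, nat_lit 6, nat_lit 4, nat_lit 5, nat_lit 3, nat_lit 4, nat_lit 2, nat_lit 3, nat_lit 8, nat_lit 1, nat_lit 2, nat_lit 3, nat_lit 4, nat_lit 5, nat_lit 6, nat_lit 7, nat_lit 4, nat_lit 2, nat_lit 3, nat_lit 8, nat_lit 0, nat_lit 1, nat_lit 2, nat_lit 3, nat_lit 4, nat_lit 5, nat_lit 1, nat_lit 2, nat_lit 3, nat_lit 11, nat_lit 1, nat_lit 16, nat_lit 12, nat_lit 15, nat_lit 14, nat_lit 12] (Rl.cmp (nat_lit 3004) (nat_lit 4258))))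 (FT.node (nat_lit 4261) (FT.leaf (Fct.mk false (nat_lit 32) (nat_lit 0) (nat_lit 32) [nat_lit 3, nat_lit 8, nat_lit 5, nat_lit 2, nat_lit 3, nat_lit 4, nat_lit 1, nat_lit 2, nat_lit 3, nat_lit 8, nat_lit 6, nat_lit 7, nat_lit 5, nat_lit 6, nat_lit 4, nat_lit 5, nat_lit 3, nat_lit 4, nat_lit 2, nat_lit 3, nat_lit 8, nat_lit 1, nat_lit 2, nat_lit 3, nat_lit 4, nat_lit 5, nat_lit 6, nat_lit 7, nat_lit 2, nat_lit 3, nat_lit 8, nat_lit 5, nat_lit 6, nat_lit 4, nat_lit 5, nat_lit 3, nat_lit 4, nat_lit 2, nat_lit 3, nat_lit 8, nat_lit 0, nat_lit 1, nat_lit 2, nat_lit 3, nat_lit 4, nat_lit 5, nat_lit 4, nat_lit 3, nat_lit 2, nat_lit 0, nat_lit 1, nat_lit 9, nat_lit 4, nat_lit 3, nat_lit 2, nat_lit 8, nat_lit 3, nat_lit 2, nat_lit 8, nat_lit 10, nat_lit 1, nat_lit 15, nat_lit 14, nat_lit 17, nat_lit 12, nat_lit 18, nat_lit 16] (Rl.cmp (nat_lit 3004)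 (nat_lit 4259)))) (FT.leaf (Fct.mk true (nat_lit 2) (nat_lit 4254) (nat_lit 32) [nat_lit 1, nat_lit 2, nat_lit 3, nat_lit 8, nat_lit 4, nat_lit 5, nat_lit 3, nat_lit 4, nat_lit 2, nat_lit 3, nat_lit 8, nat_lit 1, nat_lit 2, nat_lit 3, nat_lit 4, nat_lit 5, nat_lit 6, nat_lit 7, nat_lit 1, nat_lit 2, nat_lit 3, nat_lit 8, nat_lit 4, nat_lit 5, nat_lit 3, nat_lit 4, nat_lit 2, nat_lit 3, nat_lit 8, nat_lit 1, nat_lit 2, nat_lit 3, nat_lit 4, nat_lit 5, nat_lit 2, nat_lit 8, nat_lit 18] (Rl.rel (nat_lit 0) [nat_lit 8, nat_lit 3, nat_lit 4, nat_lit 2, nat_lit 3, nat_lit 8, nat_lit 5, nat_lit 6, nat_lit 4, nat_lit 5, nat_lit 3, nat_lit 4, nat_lit 2, nat_lit 3, nat_lit 8, nat_lit 1, nat_lit 2, nat_lit 3, nat_lit 4, nat_lit 5, nat_lit 6, nat_lit 7, nat_lit 8, nat_lit 3, nat_lit 4, nat_lit 5, nat_lit 3, nat_lit 2, nat_lit 0, nat_lit 1, nat_lit 9, nat_lit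 4, nat_lit 3, nat_lit 2, nat_lit 8, nat_lit 3, nat_lit 8, nat_lit 10, nat_lit 0, nat_lit 15, nat_lit 18] (nat_lit 32) (nat_lit 2) [nat_lit 3805, nat_lit 4256, nat_lit 3013] []))))))) (FT.node (nat_lit 4268) (FT.node (nat_lit 4265) (FT.node (nat_lit 4263) (FT.leaf (Fct.mk true (nat_lit 2) (nat_lit 439) (nat_lit 32) [nat_lit 5, nat_lit 4, nat_lit 3, nat_lit 8, nat_lit 2, nat_lit 3, nat_lit 4, nat_lit 1, nat_lit 2, nat_lit 3, nat_lit 8, nat_lit 7, nat_lit 5, nat_lit 6, nat_lit 4, nat_lit 5, nat_lit 3, nat_lit 4, nat_lit 2, nat_lit 3, nat_lit 8, nat_lit 1, nat_lit 2, nat_lit 3, nat_lit 4, nat_lit 5, nat_lit 6, nat_lit 7, nat_lit 5, nat_lit 4, nat_lit 3, nat_lit 8, nat_lit 2, nat_lit 3, nat_lit 4, nat_lit 5, nat_lit 8, nat_lit 4, nat_lit 3, nat_lit 2, nat_lit 0, nat_lit 1, nat_lit 9, nat_lit 4, nat_lit 3, nat_lit 2, nat_lit 8, nat_lit 3, nat_lit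 11, nat_lit 10, nat_lit 1, nat_lit 12, nat_lit 8, nat_lit 16, nat_lit 14, nat_lit 13, nat_lit 18] (Rl.t1 (nat_lit 4261) (nat_lit 3116)))) (FT.node (nat_lit 4264) (FT.leaf (Fct.mk true (nat_lit 32) (nat_lit 110834) (nat_lit 2) [nat_lit 1, nat_lit 2, nat_lit 3, nat_lit 8, nat_lit 7, nat_lit 6, nat_lit 4, nat_lit 5, nat_lit 3, nat_lit 4, nat_lit 2, nat_lit 3, nat_lit 8, nat_lit 1, nat_lit 2, nat_lit 3, nat_lit 4, nat_lit 5, nat_lit 6, nat_lit 7, nat_lit 6, nat_lit 5, nat_lit 4, nat_lit 3, nat_lit 8, nat_lit 2, nat_lit 3, nat_lit 4, nat_lit 1, nat_lit 2, nat_lit 3, nat_lit 8, nat_lit 5, nat_lit 6, nat_lit 4, nat_lit 5, nat_lit 3, nat_lit 4, nat_lit 2, nat_lit 3, nat_lit 8, nat_lit 1, nat_lit 2, nat_lit 3, nat_lit 4, nat_lit 5, nat_lit 1, nat_lit 3, nat_lit 2, nat_lit 8, nat_lit 3, nat_lit 0, nat_lit 2, nat_lit 8, nat_lit 12, nat_lit 15, nat_lit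 8] (Rl.inv (nat_lit 4262)))) (FT.leaf (Fct.mk true (nat_lit 32) (nat_lit 9391) (nat_lit 2) [nat_lit 5, nat_lit 4, nat_lit 3, nat_lit 8, nat_lit 6, nat_lit 7, nat_lit 5, nat_lit 6, nat_lit 4, nat_lit 5, nat_lit 3, nat_lit 4, nat_lit 1, nat_lit 2, nat_lit 3, nat_lit 8, nat_lit 0, nat_lit 1, nat_lit 2, nat_lit 3, nat_lit 4, nat_lit 5, nat_lit 6, nat_lit 7, nat_lit 5, nat_lit 3, nat_lit 4, nat_lit 2, nat_lit 3, nat_lit 8, nat_lit 1, nat_lit 2, nat_lit 3, nat_lit 4, nat_lit 5, nat_lit 2, nat_lit 10, nat_lit 1, nat_lit 12, nat_lit 15, nat_lit 14, nat_lit 17, nat_lit 12, nat_lit 19, nat_lit 16] (Rl.t1 (nat_lit 4263) (nat_lit 4260)))))) (FT.node (nat_lit 4266) (FT.leaf (Fct.mk false (nat_lit 32) (nat_lit 0) (nat_lit 32) [nat_lit 3, nat_lit 8, nat_lit 5, nat_lit 2, nat_lit 3, nat_lit 4, nat_lit 1, nat_lit 2, nat_lit 3, nat_lit 8, nat_lit 6, nat_lit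 7, nat_lit 5, nat_lit 6, nat_lit 4, nat_lit 5, nat_lit 3, nat_lit 4, nat_lit 2, nat_lit 3, nat_lit 8, nat_lit 1, nat_lit 2, nat_lit 3, nat_lit 4, nat_lit 5, nat_lit 6, nat_lit 7, nat_lit 5, nat_lit 4, nat_lit 3, nat_lit 8, nat_lit 0, nat_lit 1, nat_lit 2, nat_lit 3, nat_lit 4, nat_lit 5, nat_lit 0, nat_lit 1, nat_lit 9, nat_lit 4, nat_lit 3, nat_lit 2, nat_lit 8, nat_lit 3, nat_lit 11, nat_lit 8, nat_lit 10, nat_lit 1, nat_lit 8, nat_lit 16] (Rl.cmp (nat_lit 3456) (nat_lit 4234)))) (FT.node (nat_lit 4267) (FT.leaf (Fct.mk false (nat_lit 32) (nat_lit 0) (nat_lit 32) [nat_lit 3, nat_lit 8, nat_lit 5, nat_lit 2, nat_lit 3, nat_lit 4, nat_lit 1, nat_lit 2, nat_lit 3, nat_lit 8, nat_lit 6, nat_lit 7, nat_lit 5, nat_lit 6, nat_lit 4, nat_lit 5, nat_lit 3, nat_lit 4, nat_lit 2, nat_lit 3, nat_lit 8, nat_lit 1, nat_lit 2, nat_lit 3, nat_lit 4, nat_lit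 5, nat_lit 6, nat_lit 7, nat_lit 4, nat_lit 2, nat_lit 3, nat_lit 8, nat_lit 5, nat_lit 6, nat_lit 4, nat_lit 5, nat_lit 3, nat_lit 4, nat_lit 2, nat_lit 3, nat_lit 8, nat_lit 1, nat_lit 2, nat_lit 3, nat_lit 4, nat_lit 5, nat_lit 1, nat_lit 2, nat_lit 3, nat_lit 8, nat_lit 4, nat_lit 3, nat_lit 2, nat_lit 1, nat_lit 9, nat_lit 4, nat_lit 3, nat_lit 2, nat_lit 8, nat_lit 3, nat_lit 11, nat_lit 8, nat_lit 10, nat_lit 8, nat_lit 12, nat_lit 15, nat_lit 17, nat_lit 19] (Rl.cmp (nat_lit 3010) (nat_lit 4099)))) (FT.leaf (Fct.mk false (nat_lit 32) (nat_lit 0) (nat_lit 32) [nat_lit 1, nat_lit 2, nat_lit 3, nat_lit 8, nat_lit 4, nat_lit 5, nat_lit 3, nat_lit 4, nat_lit 2, nat_lit 3, nat_lit 8, nat_lit 1, nat_lit 2, nat_lit 3, nat_lit 4, nat_lit 5, nat_lit 2, nat_lit 8, nat_lit 3, nat_lit 10, nat_lit 8, nat_lit 18] (Rl.cmp (nat_lit 3010) (nat_lit 3010)))))))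 (FT.node (nat_lit 4271) (FT.node (nat_lit 4269) (FT.leaf (Fct.mk false (nat_lit 32) (nat_lit 0) (nat_lit 32) [nat_lit 8, nat_lit 5, nat_lit 6, nat_lit 4, nat_lit 5, nat_lit 3, nat_lit 4, nat_lit 2, nat_lit 3, nat_lit 8, nat_lit 0, nat_lit 1, nat_lit 2, nat_lit 3, nat_lit 4, nat_lit 5, nat_lit 1, nat_lit 2, nat_lit 0, nat_lit 1, nat_lit 9, nat_lit 4, nat_lit 3, nat_lit 2, nat_lit 8, nat_lit 3, nat_lit 8, nat_lit 10, nat_lit 15, nat_lit 14, nat_lit 13, nat_lit 12, nat_lit 19, nat_lit 16] (Rl.cmp (nat_lit 3004) (nat_lit 4267)))) (FT.node (nat_lit 4270) (FT.leaf (Fct.mk false (nat_lit 32) (nat_lit 0) (nat_lit 32) [nat_lit 3, nat_lit 8, nat_lit 5, nat_lit 2, nat_lit 3, nat_lit 4, nat_lit 1, nat_lit 2, nat_lit 3, nat_lit 8, nat_lit 6, nat_lit 7, nat_lit 5, nat_lit 6, nat_lit 4, nat_lit 5, nat_lit 3, nat_lit 4, nat_lit 2, nat_lit 3, nat_lit 8, nat_lit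 1, nat_lit 2, nat_lit 3, nat_lit 4, nat_lit 5, nat_lit 6, nat_lit 7, nat_lit 4, nat_lit 5, nat_lit 3, nat_lit 4, nat_lit 2, nat_lit 3, nat_lit 8, nat_lit 1, nat_lit 2, nat_lit 3, nat_lit 4, nat_lit 5, nat_lit 8, nat_lit 3, nat_lit 2, nat_lit 1, nat_lit 4, nat_lit 3, nat_lit 2, nat_lit 8, nat_lit 3, nat_lit 9, nat_lit 8, nat_lit 16, nat_lit 14, nat_lit 16, nat_lit 8] (Rl.cmp (nat_lit 3456) (nat_lit 4150)))) (FT.leaf (Fct.mk false (nat_lit 32) (nat_lit 0) (nat_lit 32) [nat_lit 8, nat_lit 1, nat_lit 2, nat_lit 3, nat_lit 4, nat_lit 5, nat_lit 2, nat_lit 0, nat_lit 1, nat_lit 9, nat_lit 4, nat_lit 3, nat_lit 2, nat_lit 8, nat_lit 3, nat_lit 8, nat_lit 10, nat_lit 0, nat_lit 16, nat_lit 14, nat_lit 13, nat_lit 12, nat_lit 19] (Rl.cmp (nat_lit 3004) (nat_lit 4165)))))) (FT.node (nat_lit 4273) (FT.node (nat_lit 4272) (FT.leaf (Fct.mk false (nat_lit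 32) (nat_lit 0) (nat_lit 32) [nat_lit 5, nat_lit 4, nat_lit 3, nat_lit 8, nat_lit 2, nat_lit 3, nat_lit 4, nat_lit 5, nat_lit 3, nat_lit 2, nat_lit 8, nat_lit 3, nat_lit 11, nat_lit 2, nat_lit 13, nat_lit 19] (Rl.cmp (nat_lit 3456) (nat_lit 3456)))) (FT.leaf (Fct.mk false (nat_lit 32) (nat_lit 0) (nat_lit 32) [nat_lit 5, nat_lit 4, nat_lit 3, nat_lit 8, nat_lit 2, nat_lit 3, nat_lit 4, nat_lit 5, nat_lit 4, nat_lit 3, nat_lit 2, nat_lit 8, nat_lit 3, nat_lit 11, nat_lit 2, nat_lit 13, nat_lit 19] (Rl.cmp (nat_lit 3047) (nat_lit 3010))))) (FT.node (nat_lit 4274) (FT.leaf (Fct.mk false (nat_lit 32) (nat_lit 0) (nat_lit 32) [nat_lit 5, nat_lit 6, nat_lit 4, nat_lit 5, nat_lit 3, nat_lit 4, nat_lit 2, nat_lit 3, nat_lit 8, nat_lit 1, nat_lit 2, nat_lit 3, nat_lit 4, nat_lit 5, nat_lit 2, nat_lit 1, nat_lit 8, nat_lit 3, nat_lit 2, nat_lit 0, nat_lit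 1, nat_lit 9, nat_lit 4, nat_lit 3, nat_lit 2, nat_lit 8, nat_lit 3, nat_lit 12, nat_lit 15, nat_lit 14, nat_lit 17, nat_lit 16] (Rl.cmp (nat_lit 3004) (nat_lit 4272)))) (FT.leaf (Fct.mk false (nat_lit 4) (nat_lit 0) (nat_lit 4) [nat_lit 8, nat_lit 5, nat_lit 2, nat_lit 3, nat_lit 4, nat_lit 1, nat_lit 2, nat_lit 3, nat_lit 8, nat_lit 6, nat_lit 7, nat_lit 5, nat_lit 6, nat_lit 4, nat_lit 5, nat_lit 3, nat_lit 4, nat_lit 2, nat_lit 3, nat_lit 8, nat_lit 1, nat_lit 2, nat_lit 3, nat_lit 4, nat_lit 5, nat_lit 6, nat_lit 7, nat_lit 3, nat_lit 8, nat_lit 1, nat_lit 2, nat_lit 3, nat_lit 4, nat_lit 5, nat_lit 4, nat_lit 3, nat_lit 2, nat_lit 1, nat_lit 9, nat_lit 4, nat_lit 3, nat_lit 2, nat_lit 8, nat_lit 3, nat_lit 9, nat_lit 10, nat_lit 2, nat_lit 8, nat_lit 10, nat_lit 1, nat_lit 12, nat_lit 8, nat_lit 16, nat_lit 14, nat_lit 16, nat_lit 8]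 (Rl.cmp (nat_lit 2372) (nat_lit 2862))))))))) (FT.node (nat_lit 4287) (FT.node (nat_lit 4281) (FT.node (nat_lit 4278) (FT.node (nat_lit 4276) (FT.leaf (Fct.mk false (nat_lit 4) (nat_lit 0) (nat_lit 4) [nat_lit 3, nat_lit 8, nat_lit 5, nat_lit 2, nat_lit 3, nat_lit 4, nat_lit 1, nat_lit 2, nat_lit 3, nat_lit 8, nat_lit 6, nat_lit 7, nat_lit 5, nat_lit 6, nat_lit 4, nat_lit 5, nat_lit 3, nat_lit 4, nat_lit 2, nat_lit 3, nat_lit 8, nat_lit 1, nat_lit 2, nat_lit 3, nat_lit 4, nat_lit 5, nat_lit 6, nat_lit 7, nat_lit 8, nat_lit 1, nat_lit 2, nat_lit 3, nat_lit 4, nat_lit 5, nat_lit 3, nat_lit 10, nat_lit 9, nat_lit 2, nat_lit 16, nat_lit 14, nat_lit 8, nat_lit 16] (Rl.cmp (nat_lit 2284) (nat_lit 4274)))) (FT.node (nat_lit 4277) (FT.leaf (Fct.mk false (nat_lit 4) (nat_lit 0) (nat_lit 4) [nat_lit 5, nat_lit 4, nat_lit 3, nat_lit 8, nat_lit 6, nat_lit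 7, nat_lit 5, nat_lit 6, nat_lit 4, nat_lit 5, nat_lit 3, nat_lit 4, nat_lit 2, nat_lit 3, nat_lit 8, nat_lit 1, nat_lit 2, nat_lit 3, nat_lit 4, nat_lit 5, nat_lit 6, nat_lit 7, nat_lit 6, nat_lit 3, nat_lit 2, nat_lit 8, nat_lit 3, nat_lit 9, nat_lit 2, nat_lit 8, nat_lit 16, nat_lit 14, nat_lit 12, nat_lit 16] (Rl.cmp (nat_lit 312) (nat_lit 2893)))) (FT.leaf (Fct.mk false (nat_lit 4) (nat_lit 0) (nat_lit 4) [nat_lit 2, nat_lit 3, nat_lit 4, nat_lit 1, nat_lit 2, nat_lit 3, nat_lit 8, nat_lit 6, nat_lit 7, nat_lit 5, nat_lit 6, nat_lit 4, nat_lit 5, nat_lit 3, nat_lit 4, nat_lit 2, nat_lit 3, nat_lit 8, nat_lit 1, nat_lit 2, nat_lit 3, nat_lit 4, nat_lit 5, nat_lit 6, nat_lit 7, nat_lit 3, nat_lit 8, nat_lit 2, nat_lit 3, nat_lit 4, nat_lit 1, nat_lit 2, nat_lit 3, nat_lit 8, nat_lit 5, nat_lit 6, nat_lit 4, nat_lit 5, nat_lit 3, nat_lit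 4, nat_lit 2, nat_lit 3, nat_lit 8, nat_lit 1, nat_lit 2, nat_lit 3, nat_lit 4, nat_lit 5, nat_lit 2, nat_lit 1, nat_lit 9, nat_lit 4, nat_lit 3, nat_lit 2, nat_lit 8, nat_lit 3, nat_lit 8, nat_lit 10, nat_lit 1, nat_lit 16, nat_lit 8, nat_lit 18] (Rl.cmp (nat_lit 243) (nat_lit 4276)))))) (FT.node (nat_lit 4279) (FT.leaf (Fct.mk false (nat_lit 32) (nat_lit 0) (nat_lit 32) [nat_lit 5, nat_lit 4, nat_lit 3, nat_lit 8, nat_lit 2, nat_lit 3, nat_lit 4, nat_lit 1, nat_lit 2, nat_lit 3, nat_lit 8, nat_lit 5, nat_lit 6, nat_lit 4, nat_lit 5, nat_lit 3, nat_lit 4, nat_lit 2, nat_lit 3, nat_lit 8, nat_lit 1, nat_lit 2, nat_lit 3, nat_lit 4, nat_lit 5, nat_lit 3, nat_lit 8, nat_lit 4, nat_lit 3, nat_lit 2, nat_lit 1, nat_lit 9, nat_lit 4, nat_lit 3, nat_lit 2, nat_lit 8, nat_lit 3, nat_lit 10, nat_lit 1, nat_lit 12, nat_lit 8, nat_lit 16, nat_lit 14,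 nat_lit 8, nat_lit 19] (Rl.cmp (nat_lit 3004) (nat_lit 4162)))) (FT.node (nat_lit 4280) (FT.leaf (Fct.mk false (nat_lit 32) (nat_lit 0) (nat_lit 32) [nat_lit 8, nat_lit 3, nat_lit 4, nat_lit 2, nat_lit 3, nat_lit 8, nat_lit 5, nat_lit 6, nat_lit 4, nat_lit 5, nat_lit 3, nat_lit 4, nat_lit 2, nat_lit 3, nat_lit 8, nat_lit 0, nat_lit 1, nat_lit 2, nat_lit 3, nat_lit 4, nat_lit 5, nat_lit 2, nat_lit 1, nat_lit 8, nat_lit 3, nat_lit 2, nat_lit 0, nat_lit 1, nat_lit 4, nat_lit 3, nat_lit 2, nat_lit 8, nat_lit 3, nat_lit 12, nat_lit 15, nat_lit 14, nat_lit 16, nat_lit 8, nat_lit 19] (Rl.cmp (nat_lit 3004) (nat_lit 4278)))) (FT.leaf (Fct.mk false (nat_lit 32) (nat_lit 0) (nat_lit 32) [nat_lit 8, nat_lit 3, nat_lit 4, nat_lit 1, nat_lit 2, nat_lit 3, nat_lit 8, nat_lit 5, nat_lit 6, nat_lit 4, nat_lit 5, nat_lit 3, nat_lit 4, nat_lit 2, nat_lit 3,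 nat_lit 8, nat_lit 1, nat_lit 2, nat_lit 3, nat_lit 4, nat_lit 5, nat_lit 3, nat_lit 2, nat_lit 1, nat_lit 4, nat_lit 3, nat_lit 2, nat_lit 8, nat_lit 3, nat_lit 11, nat_lit 2, nat_lit 15, nat_lit 19] (Rl.cmp (nat_lit 3010) (nat_lit 4135))))))) (FT.node (nat_lit 4284) (FT.node (nat_lit 4282) (FT.leaf (Fct.mk false (nat_lit 32) (nat_lit 0) (nat_lit 32) [nat_lit 3, nat_lit 8, nat_lit 5, nat_lit 2, nat_lit 3, nat_lit 4, nat_lit 1, nat_lit 2, nat_lit 3, nat_lit 8, nat_lit 6, nat_lit 7, nat_lit 5, nat_lit 6, nat_lit 4, nat_lit 5, nat_lit 3, nat_lit 4, nat_lit 2, nat_lit 3, nat_lit 8, nat_lit 1, nat_lit 2, nat_lit 3, nat_lit 4, nat_lit 5, nat_lit 6, nat_lit 7, nat_lit 3, nat_lit 8, nat_lit 4, nat_lit 5, nat_lit 3, nat_lit 4, nat_lit 2, nat_lit 3, nat_lit 8, nat_lit 0, nat_lit 1, nat_lit 2, nat_lit 3, nat_lit 4, nat_lit 5, nat_lit 8, nat_lit 4, nat_lit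 3, nat_lit 2, nat_lit 1, nat_lit 9, nat_lit 4, nat_lit 3, nat_lit 2, nat_lit 8, nat_lit 3, nat_lit 8, nat_lit 10, nat_lit 9, nat_lit 2, nat_lit 15, nat_lit 8] (Rl.cmp (nat_lit 3456) (nat_lit 4280)))) (FT.node (nat_lit 4283) (FT.leaf (Fct.mk false (nat_lit 32) (nat_lit 0) (nat_lit 32) [nat_lit 3, nat_lit 8, nat_lit 5, nat_lit 2, nat_lit 3, nat_lit 4, nat_lit 1, nat_lit 2, nat_lit 3, nat_lit 8, nat_lit 6, nat_lit 7, nat_lit 5, nat_lit 6, nat_lit 4, nat_lit 5, nat_lit 3, nat_lit 4, nat_lit 2, nat_lit 3, nat_lit 8, nat_lit 1, nat_lit 2, nat_lit 3, nat_lit 4, nat_lit 5, nat_lit 6, nat_lit 7, nat_lit 4, nat_lit 3, nat_lit 8, nat_lit 5, nat_lit 6, nat_lit 4, nat_lit 5, nat_lit 3, nat_lit 4, nat_lit 2, nat_lit 3, nat_lit 8, nat_lit 1, nat_lit 2, nat_lit 3, nat_lit 4, nat_lit 5, nat_lit 2, nat_lit 3, nat_lit 1, nat_lit 0, nat_lit 2, nat_lit 16, nat_lit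 14, nat_lit 17, nat_lit 18] (Rl.cmp (nat_lit 3047) (nat_lit 4281)))) (FT.leaf (Fct.mk false (nat_lit 32) (nat_lit 0) (nat_lit 32) [nat_lit 5, nat_lit 6, nat_lit 4, nat_lit 5, nat_lit 3, nat_lit 4, nat_lit 2, nat_lit 3, nat_lit 8, nat_lit 1, nat_lit 2, nat_lit 3, nat_lit 4, nat_lit 5, nat_lit 2, nat_lit 1, nat_lit 8, nat_lit 3, nat_lit 2, nat_lit 0, nat_lit 1, nat_lit 4, nat_lit 3, nat_lit 2, nat_lit 8, nat_lit 3, nat_lit 12, nat_lit 15, nat_lit 14, nat_lit 17, nat_lit 16] (Rl.cmp (nat_lit 3004) (nat_lit 4208)))))) (FT.node (nat_lit 4285) (FT.leaf (Fct.mk false (nat_lit 32) (nat_lit 0) (nat_lit 32) [nat_lit 5, nat_lit 4, nat_lit 2, nat_lit 3, nat_lit 8, nat_lit 0, nat_lit 1, nat_lit 2, nat_lit 3, nat_lit 4, nat_lit 5, nat_lit 8, nat_lit 4, nat_lit 3, nat_lit 2, nat_lit 1, nat_lit 9, nat_lit 4, nat_lit 3, nat_lit 2, nat_lit 8, nat_lit 3, nat_lit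 0, nat_lit 12, nat_lit 15, nat_lit 14, nat_lit 17, nat_lit 12] (Rl.cmp (nat_lit 3047) (nat_lit 4198)))) (FT.node (nat_lit 4286) (FT.leaf (Fct.mk false (nat_lit 32) (nat_lit 0) (nat_lit 32) [nat_lit 3, nat_lit 8, nat_lit 5, nat_lit 2, nat_lit 3, nat_lit 4, nat_lit 1, nat_lit 2, nat_lit 3, nat_lit 8, nat_lit 6, nat_lit 7, nat_lit 5, nat_lit 6, nat_lit 4, nat_lit 5, nat_lit 3, nat_lit 4, nat_lit 2, nat_lit 3, nat_lit 8, nat_lit 1, nat_lit 2, nat_lit 3, nat_lit 4, nat_lit 5, nat_lit 6, nat_lit 7, nat_lit 4, nat_lit 3, nat_lit 8, nat_lit 5, nat_lit 6, nat_lit 4, nat_lit 5, nat_lit 3, nat_lit 4, nat_lit 2, nat_lit 3, nat_lit 8, nat_lit 1, nat_lit 2, nat_lit 3, nat_lit 4, nat_lit 5, nat_lit 1, nat_lit 3, nat_lit 2, nat_lit 0, nat_lit 1, nat_lit 4, nat_lit 3, nat_lit 2, nat_lit 8, nat_lit 3, nat_lit 11, nat_lit 2, nat_lit 16, nat_lit 12, nat_lit 15,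 nat_lit 14, nat_lit 13, nat_lit 12, nat_lit 19, nat_lit 16] (Rl.cmp (nat_lit 3456) (nat_lit 4284)))) (FT.leaf (Fct.mk false (nat_lit 32) (nat_lit 0) (nat_lit 32) [nat_lit 3, nat_lit 8, nat_lit 5, nat_lit 2, nat_lit 3, nat_lit 4, nat_lit 1, nat_lit 2, nat_lit 3, nat_lit 8, nat_lit 6, nat_lit 7, nat_lit 5, nat_lit 6, nat_lit 4, nat_lit 5, nat_lit 3, nat_lit 4, nat_lit 2, nat_lit 3, nat_lit 8, nat_lit 1, nat_lit 2, nat_lit 3, nat_lit 4, nat_lit 5, nat_lit 6, nat_lit 7, nat_lit 3, nat_lit 8, nat_lit 6, nat_lit 4, nat_lit 5, nat_lit 3, nat_lit 4, nat_lit 2, nat_lit 3, nat_lit 8, nat_lit 1, nat_lit 2, nat_lit 3, nat_lit 4, nat_lit 5, nat_lit 3, nat_lit 2, nat_lit 0, nat_lit 1, nat_lit 9, nat_lit 4, nat_lit 3, nat_lit 2, nat_lit 8, nat_lit 3, nat_lit 11, nat_lit 2, nat_lit 14, nat_lit 18] (Rl.cmp (nat_lit 3010) (nat_lit 4285)))))))) (FT.node (nat_lit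 4293) (FT.node (nat_lit 4290) (FT.node (nat_lit 4288) (FT.leaf (Fct.mk false (nat_lit 32) (nat_lit 0) (nat_lit 32) [nat_lit 3, nat_lit 4, nat_lit 2, nat_lit 3, nat_lit 8, nat_lit 5, nat_lit 6, nat_lit 4, nat_lit 5, nat_lit 3, nat_lit 4, nat_lit 2, nat_lit 3, nat_lit 8, nat_lit 1, nat_lit 2, nat_lit 3, nat_lit 4, nat_lit 5, nat_lit 2, nat_lit 1, nat_lit 8, nat_lit 3, nat_lit 2, nat_lit 0, nat_lit 1, nat_lit 9, nat_lit 4, nat_lit 3, nat_lit 2, nat_lit 8, nat_lit 3, nat_lit 11, nat_lit 10, nat_lit 1, nat_lit 12, nat_lit 15, nat_lit 14, nat_lit 17, nat_lit 16] (Rl.cmp (nat_lit 3456) (nat_lit 3932)))) (FT.node (nat_lit 4289) (FT.leaf (Fct.mk false (nat_lit 32) (nat_lit 0) (nat_lit 32) [nat_lit 5, nat_lit 4, nat_lit 3, nat_lit 8, nat_lit 1, nat_lit 2, nat_lit 3, nat_lit 4, nat_lit 5, nat_lit 2, nat_lit 1, nat_lit 4, nat_lit 3, nat_lit 2, nat_lit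 0, nat_lit 1, nat_lit 9, nat_lit 4, nat_lit 3, nat_lit 2, nat_lit 8, nat_lit 3, nat_lit 9, nat_lit 10, nat_lit 2, nat_lit 8, nat_lit 10, nat_lit 1, nat_lit 14, nat_lit 16, nat_lit 8, nat_lit 18] (Rl.cmp (nat_lit 3004) (nat_lit 4287)))) (FT.leaf (Fct.mk false (nat_lit 32) (nat_lit 0) (nat_lit 32) [nat_lit 8, nat_lit 3, nat_lit 4, nat_lit 2, nat_lit 3, nat_lit 8, nat_lit 1, nat_lit 2, nat_lit 3, nat_lit 4, nat_lit 5, nat_lit 1, nat_lit 2, nat_lit 0, nat_lit 1, nat_lit 9, nat_lit 4, nat_lit 3, nat_lit 2, nat_lit 8, nat_lit 3, nat_lit 11, nat_lit 10, nat_lit 2, nat_lit 8, nat_lit 10, nat_lit 1, nat_lit 16, nat_lit 14, nat_lit 16, nat_lit 8, nat_lit 19, nat_lit 16] (Rl.cmp (nat_lit 3010) (nat_lit 4288)))))) (FT.node (nat_lit 4291) (FT.leaf (Fct.mk false (nat_lit 32) (nat_lit 0) (nat_lit 32) [nat_lit 2, nat_lit 3, nat_lit 4, nat_lit 5, nat_lit 1,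 nat_lit 3, nat_lit 2, nat_lit 0, nat_lit 1, nat_lit 9, nat_lit 4, nat_lit 3, nat_lit 2, nat_lit 8, nat_lit 3, nat_lit 8, nat_lit 10, nat_lit 1, nat_lit 8, nat_lit 16, nat_lit 14, nat_lit 16, nat_lit 8, nat_lit 18] (Rl.cmp (nat_lit 3010) (nat_lit 4289)))) (FT.node (nat_lit 4292) (FT.leaf (Fct.mk false (nat_lit 32) (nat_lit 0) (nat_lit 32) [nat_lit 6, nat_lit 5, nat_lit 4, nat_lit 3, nat_lit 8, nat_lit 2, nat_lit 3, nat_lit 4, nat_lit 1, nat_lit 2, nat_lit 3, nat_lit 8, nat_lit 5, nat_lit 6, nat_lit 4, nat_lit 5, nat_lit 3, nat_lit 4, nat_lit 2, nat_lit 3, nat_lit 8, nat_lit 1, nat_lit 2, nat_lit 3, nat_lit 4, nat_lit 5, nat_lit 1, nat_lit 8, nat_lit 3, nat_lit 2, nat_lit 0, nat_lit 1, nat_lit 4, nat_lit 3, nat_lit 2, nat_lit 8, nat_lit 3, nat_lit 11, nat_lit 2, nat_lit 10, nat_lit 1, nat_lit 8, nat_lit 12, nat_lit 15, nat_lit 14, nat_lit 17]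 (Rl.cmp (nat_lit 3010) (nat_lit 4192)))) (FT.leaf (Fct.mk false (nat_lit 32) (nat_lit 0) (nat_lit 32) [nat_lit 8, nat_lit 1, nat_lit 2, nat_lit 3, nat_lit 4, nat_lit 5, nat_lit 2, nat_lit 1, nat_lit 9, nat_lit 4, nat_lit 3, nat_lit 2, nat_lit 8, nat_lit 3, nat_lit 11, nat_lit 8, nat_lit 10, nat_lit 8, nat_lit 12, nat_lit 15, nat_lit 14, nat_lit 17, nat_lit 18, nat_lit 16] (Rl.cmp (nat_lit 3004) (nat_lit 4291))))))) (FT.node (nat_lit 4296) (FT.node (nat_lit 4294) (FT.leaf (Fct.mk false (nat_lit 32) (nat_lit 0) (nat_lit 32) [nat_lit 2, nat_lit 3, nat_lit 4, nat_lit 1, nat_lit 2, nat_lit 3, nat_lit 8, nat_lit 0, nat_lit 1, nat_lit 2, nat_lit 3, nat_lit 4, nat_lit 5, nat_lit 2, nat_lit 3, nat_lit 8, nat_lit 10, nat_lit 9, nat_lit 2, nat_lit 14, nat_lit 12, nat_lit 19, nat_lit 16] (Rl.cmp (nat_lit 3010) (nat_lit 4253)))) (FT.node (nat_lit 4295)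 (FT.leaf (Fct.mk false (nat_lit 32) (nat_lit 0) (nat_lit 32) [nat_lit 5, nat_lit 4, nat_lit 3, nat_lit 8, nat_lit 0, nat_lit 1, nat_lit 2, nat_lit 3, nat_lit 4, nat_lit 5, nat_lit 11, nat_lit 2, nat_lit 8, nat_lit 10, nat_lit 1, nat_lit 12, nat_lit 15, nat_lit 13, nat_lit 12] (Rl.cmp (nat_lit 3010) (nat_lit 4293)))) (FT.leaf (Fct.mk false (nat_lit 32) (nat_lit 0) (nat_lit 32) [nat_lit 2, nat_lit 3, nat_lit 4, nat_lit 1, nat_lit 2, nat_lit 3, nat_lit 8, nat_lit 0, nat_lit 1, nat_lit 2, nat_lit 3, nat_lit 4, nat_lit 5, nat_lit 1, nat_lit 3, nat_lit 8, nat_lit 4, nat_lit 3, nat_lit 2, nat_lit 0, nat_lit 1, nat_lit 9, nat_lit 4, nat_lit 3, nat_lit 2, nat_lit 8, nat_lit 3, nat_lit 11, nat_lit 10, nat_lit 8, nat_lit 16, nat_lit 14, nat_lit 19] (Rl.cmp (nat_lit 3010) (nat_lit 3978)))))) (FT.node (nat_lit 4298) (FT.node (nat_lit 4297) (FT.leaf (Fct.mk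 false (nat_lit 32) (nat_lit 0) (nat_lit 32) [nat_lit 3, nat_lit 4, nat_lit 1, nat_lit 2, nat_lit 3, nat_lit 8, nat_lit 5, nat_lit 6, nat_lit 4, nat_lit 5, nat_lit 3, nat_lit 4, nat_lit 2, nat_lit 3, nat_lit 8, nat_lit 1, nat_lit 2, nat_lit 3, nat_lit 4, nat_lit 5, nat_lit 0, nat_lit 1, nat_lit 3, nat_lit 2, nat_lit 8, nat_lit 3, nat_lit 11, nat_lit 1, nat_lit 12, nat_lit 15, nat_lit 12, nat_lit 19, nat_lit 16] (Rl.cmp (nat_lit 3004) (nat_lit 4295)))) (FT.leaf (Fct.mk false (nat_lit 32) (nat_lit 0) (nat_lit 32) [nat_lit 3, nat_lit 8, nat_lit 5, nat_lit 2, nat_lit 3, nat_lit 4, nat_lit 1, nat_lit 2, nat_lit 3, nat_lit 8, nat_lit 6, nat_lit 7, nat_lit 5, nat_lit 6, nat_lit 4, nat_lit 5, nat_lit 3, nat_lit 4, nat_lit 2, nat_lit 3, nat_lit 8, nat_lit 1, nat_lit 2, nat_lit 3, nat_lit 4, nat_lit 5, nat_lit 6, nat_lit 7, nat_lit 5, nat_lit 4, nat_lit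 3, nat_lit 8, nat_lit 0, nat_lit 1, nat_lit 2, nat_lit 3, nat_lit 4, nat_lit 5, nat_lit 2, nat_lit 1, nat_lit 3, nat_lit 2, nat_lit 0, nat_lit 1, nat_lit 4, nat_lit 3, nat_lit 2, nat_lit 8, nat_lit 3, nat_lit 9, nat_lit 10, nat_lit 2, nat_lit 8, nat_lit 10, nat_lit 1, nat_lit 8, nat_lit 12, nat_lit 15, nat_lit 19] (Rl.cmp (nat_lit 3456) (nat_lit 4296))))) (FT.node (nat_lit 4299) (FT.leaf (Fct.mk false (nat_lit 32) (nat_lit 0) (nat_lit 32) [nat_lit 3, nat_lit 8, nat_lit 5, nat_lit 2, nat_lit 3, nat_lit 4, nat_lit 1, nat_lit 2, nat_lit 3, nat_lit 8, nat_lit 6, nat_lit 7, nat_lit 5, nat_lit 6, nat_lit 4, nat_lit 5, nat_lit 3, nat_lit 4, nat_lit 2, nat_lit 3, nat_lit 8, nat_lit 1, nat_lit 2, nat_lit 3, nat_lit 4, nat_lit 5, nat_lit 6, nat_lit 7, nat_lit 8, nat_lit 6, nat_lit 5, nat_lit 3, nat_lit 4, nat_lit 2, nat_lit 3, nat_lit 8, nat_lit 1, nat_lit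 2, nat_lit 3, nat_lit 4, nat_lit 5, nat_lit 3, nat_lit 8, nat_lit 4, nat_lit 3, nat_lit 2, nat_lit 1, nat_lit 9, nat_lit 4, nat_lit 3, nat_lit 2, nat_lit 8, nat_lit 3, nat_lit 9, nat_lit 14, nat_lit 16, nat_lit 8] (Rl.cmp (nat_lit 3004) (nat_lit 4297)))) (FT.leaf (Fct.mk false (nat_lit 32) (nat_lit 0) (nat_lit 32) [nat_lit 1, nat_lit 2, nat_lit 3, nat_lit 8, nat_lit 4, nat_lit 5, nat_lit 3, nat_lit 4, nat_lit 2, nat_lit 3, nat_lit 8, nat_lit 1, nat_lit 2, nat_lit 3, nat_lit 4, nat_lit 5, nat_lit 2, nat_lit 1, nat_lit 3, nat_lit 2, nat_lit 0, nat_lit 1, nat_lit 4, nat_lit 3, nat_lit 2, nat_lit 8, nat_lit 3, nat_lit 8, nat_lit 10, nat_lit 1, nat_lit 8, nat_lit 12, nat_lit 15, nat_lit 14, nat_lit 8, nat_lit 18] (Rl.cmp (nat_lit 3456) (nat_lit 4298)))))))))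

/-- some facts -/
noncomputable def ftc86 : FT := FT.node (nat_lit 4325) (FT.node (nat_lit 4312) (FT.node (nat_lit 4306) (FT.node (nat_lit 4303) (FT.node (nat_lit 4301) (FT.leaf (Fct.mk false (nat_lit 32) (nat_lit 0) (nat_lit 32) [nat_lit 3, nat_lit 4, nat_lit 1, nat_lit 2, nat_lit 3, nat_lit 8, nat_lit 5, nat_lit 6, nat_lit 4, nat_lit 5, nat_lit 3, nat_lit 4, nat_lit 2, nat_lit 3, nat_lit 8, nat_lit 1, nat_lit 2, nat_lit 3, nat_lit 4, nat_lit 5, nat_lit 0, nat_lit 1, nat_lit 2, nat_lit 8, nat_lit 3, nat_lit 11, nat_lit 1, nat_lit 12, nat_lit 15, nat_lit 12, nat_lit 19, nat_lit 16] (Rl.cmp (nat_lit 3004) (nat_lit 3696)))) (FT.node (nat_lit 4302) (FT.leaf (Fct.mk false (nat_lit 32) (nat_lit 0) (nat_lit 32) [nat_lit 3, nat_lit 8, nat_lit 5, nat_lit 2, nat_lit 3, nat_lit 4, nat_lit 1, nat_lit 2, nat_lit 3, nat_lit 8, nat_lit 6, nat_lit 7, nat_lit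 5, nat_lit 6, nat_lit 4, nat_lit 5, nat_lit 3, nat_lit 4, nat_lit 2, nat_lit 3, nat_lit 8, nat_lit 1, nat_lit 2, nat_lit 3, nat_lit 4, nat_lit 5, nat_lit 6, nat_lit 7, nat_lit 8, nat_lit 6, nat_lit 4, nat_lit 5, nat_lit 3, nat_lit 4, nat_lit 2, nat_lit 3, nat_lit 8, nat_lit 1, nat_lit 2, nat_lit 3, nat_lit 4, nat_lit 5, nat_lit 1, nat_lit 4, nat_lit 3, nat_lit 2, nat_lit 0, nat_lit 1, nat_lit 9, nat_lit 4, nat_lit 3, nat_lit 2, nat_lit 8, nat_lit 3, nat_lit 10, nat_lit 2, nat_lit 8, nat_lit 10, nat_lit 1, nat_lit 16, nat_lit 12, nat_lit 15, nat_lit 14, nat_lit 17, nat_lit 12, nat_lit 18] (Rl.cmp (nat_lit 2995) (nat_lit 3456)))) (FT.leaf (Fct.mk false (nat_lit 32) (nat_lit 0) (nat_lit 32) [nat_lit 1, nat_lit 2, nat_lit 3, nat_lit 8, nat_lit 6, nat_lit 4, nat_lit 5, nat_lit 3, nat_lit 4, nat_lit 2, nat_lit 3, nat_lit 8, nat_lit 1, nat_lit 2,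 nat_lit 3, nat_lit 4, nat_lit 5, nat_lit 2, nat_lit 1, nat_lit 9, nat_lit 4, nat_lit 3, nat_lit 2, nat_lit 8, nat_lit 3, nat_lit 11, nat_lit 2, nat_lit 10, nat_lit 1, nat_lit 12, nat_lit 8, nat_lit 16, nat_lit 14, nat_lit 17, nat_lit 19] (Rl.cmp (nat_lit 3456) (nat_lit 4301)))))) (FT.node (nat_lit 4304) (FT.leaf (Fct.mk false (nat_lit 32) (nat_lit 0) (nat_lit 32) [nat_lit 1, nat_lit 2, nat_lit 3, nat_lit 8, nat_lit 6, nat_lit 4, nat_lit 5, nat_lit 3, nat_lit 4, nat_lit 2, nat_lit 3, nat_lit 8, nat_lit 1, nat_lit 2, nat_lit 3, nat_lit 4, nat_lit 5, nat_lit 2, nat_lit 1, nat_lit 3, nat_lit 2, nat_lit 0, nat_lit 1, nat_lit 4, nat_lit 3, nat_lit 2, nat_lit 8, nat_lit 3, nat_lit 8, nat_lit 10, nat_lit 1, nat_lit 8, nat_lit 12, nat_lit 15, nat_lit 14, nat_lit 12] (Rl.cmp (nat_lit 3047) (nat_lit 4302)))) (FT.node (nat_lit 4305) (FT.leaf (Fct.mk false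 (nat_lit 32) (nat_lit 0) (nat_lit 32) [nat_lit 5, nat_lit 6, nat_lit 4, nat_lit 5, nat_lit 3, nat_lit 4, nat_lit 2, nat_lit 3, nat_lit 8, nat_lit 1, nat_lit 2, nat_lit 3, nat_lit 4, nat_lit 5, nat_lit 1, nat_lit 4, nat_lit 3, nat_lit 2, nat_lit 8, nat_lit 3, nat_lit 11, nat_lit 10, nat_lit 1, nat_lit 12, nat_lit 15, nat_lit 14, nat_lit 18, nat_lit 16] (Rl.cmp (nat_lit 3004) (nat_lit 4034)))) (FT.leaf (Fct.mk false (nat_lit 32) (nat_lit 0) (nat_lit 32) [nat_lit 3, nat_lit 8, nat_lit 5, nat_lit 2, nat_lit 3, nat_lit 4, nat_lit 1, nat_lit 2, nat_lit 3, nat_lit 8, nat_lit 6, nat_lit 7, nat_lit 5, nat_lit 6, nat_lit 4, nat_lit 5, nat_lit 3, nat_lit 4, nat_lit 2, nat_lit 3, nat_lit 8, nat_lit 1, nat_lit 2, nat_lit 3, nat_lit 4, nat_lit 5, nat_lit 6, nat_lit 7, nat_lit 8, nat_lit 3, nat_lit 4, nat_lit 2, nat_lit 3, nat_lit 8, nat_lit 1, nat_lit 2,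 nat_lit 3, nat_lit 4, nat_lit 5, nat_lit 4, nat_lit 3, nat_lit 2, nat_lit 0, nat_lit 1, nat_lit 9, nat_lit 4, nat_lit 3, nat_lit 2, nat_lit 8, nat_lit 3, nat_lit 11, nat_lit 2, nat_lit 16, nat_lit 12, nat_lit 15, nat_lit 14, nat_lit 13, nat_lit 19, nat_lit 16] (Rl.cmp (nat_lit 3456) (nat_lit 4304))))))) (FT.node (nat_lit 4309) (FT.node (nat_lit 4307) (FT.leaf (Fct.mk false (nat_lit 32) (nat_lit 0) (nat_lit 32) [nat_lit 3, nat_lit 8, nat_lit 5, nat_lit 2, nat_lit 3, nat_lit 4, nat_lit 1, nat_lit 2, nat_lit 3, nat_lit 8, nat_lit 6, nat_lit 7, nat_lit 5, nat_lit 6, nat_lit 4, nat_lit 5, nat_lit 3, nat_lit 4, nat_lit 2, nat_lit 3, nat_lit 8, nat_lit 1, nat_lit 2, nat_lit 3, nat_lit 4, nat_lit 5, nat_lit 6, nat_lit 7, nat_lit 2, nat_lit 3, nat_lit 8, nat_lit 1, nat_lit 2, nat_lit 3, nat_lit 4, nat_lit 5, nat_lit 3, nat_lit 2, nat_lit 0, nat_lit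 1, nat_lit 9, nat_lit 4, nat_lit 3, nat_lit 2, nat_lit 8, nat_lit 3, nat_lit 11, nat_lit 2, nat_lit 18] (Rl.cmp (nat_lit 3010) (nat_lit 4305)))) (FT.node (nat_lit 4308) (FT.leaf (Fct.mk false (nat_lit 32) (nat_lit 0) (nat_lit 32) [nat_lit 2, nat_lit 3, nat_lit 4, nat_lit 1, nat_lit 2, nat_lit 3, nat_lit 8, nat_lit 0, nat_lit 1, nat_lit 2, nat_lit 3, nat_lit 4, nat_lit 5, nat_lit 1, nat_lit 3, nat_lit 8, nat_lit 4, nat_lit 3, nat_lit 2, nat_lit 0, nat_lit 1, nat_lit 9, nat_lit 4, nat_lit 3, nat_lit 2, nat_lit 8, nat_lit 3, nat_lit 11, nat_lit 10, nat_lit 8, nat_lit 16, nat_lit 14, nat_lit 19] (Rl.cmp (nat_lit 3010) (nat_lit 3705)))) (FT.leaf (Fct.mk false (nat_lit 32) (nat_lit 0) (nat_lit 32) [nat_lit 3, nat_lit 4, nat_lit 1, nat_lit 2, nat_lit 3, nat_lit 8, nat_lit 5, nat_lit 6, nat_lit 4, nat_lit 5, nat_lit 3, nat_lit 4, nat_lit 2, nat_lit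 3, nat_lit 8, nat_lit 1, nat_lit 2, nat_lit 3, nat_lit 4, nat_lit 5, nat_lit 0, nat_lit 1, nat_lit 3, nat_lit 2, nat_lit 8, nat_lit 3, nat_lit 11, nat_lit 1, nat_lit 12, nat_lit 15, nat_lit 12, nat_lit 19, nat_lit 16] (Rl.cmp (nat_lit 3004) (nat_lit 4307)))))) (FT.node (nat_lit 4310) (FT.leaf (Fct.mk false (nat_lit 32) (nat_lit 0) (nat_lit 32) [nat_lit 2, nat_lit 3, nat_lit 8, nat_lit 6, nat_lit 4, nat_lit 5, nat_lit 3, nat_lit 4, nat_lit 2, nat_lit 3, nat_lit 8, nat_lit 1, nat_lit 2, nat_lit 3, nat_lit 4, nat_lit 5, nat_lit 2, nat_lit 1, nat_lit 3, nat_lit 2, nat_lit 0, nat_lit 1, nat_lit 4, nat_lit 3, nat_lit 2, nat_lit 8, nat_lit 3, nat_lit 11, nat_lit 1, nat_lit 15, nat_lit 13, nat_lit 19, nat_lit 16] (Rl.cmp (nat_lit 3004) (nat_lit 4167)))) (FT.node (nat_lit 4311) (FT.leaf (Fct.mk false (nat_lit 32) (nat_lit 0) (nat_lit 32) [nat_lit 3,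 nat_lit 8, nat_lit 5, nat_lit 2, nat_lit 3, nat_lit 4, nat_lit 1, nat_lit 2, nat_lit 3, nat_lit 8, nat_lit 6, nat_lit 7, nat_lit 5, nat_lit 6, nat_lit 4, nat_lit 5, nat_lit 3, nat_lit 4, nat_lit 2, nat_lit 3, nat_lit 8, nat_lit 1, nat_lit 2, nat_lit 3, nat_lit 4, nat_lit 5, nat_lit 6, nat_lit 7, nat_lit 4, nat_lit 2, nat_lit 3, nat_lit 8, nat_lit 0, nat_lit 1, nat_lit 2, nat_lit 3, nat_lit 4, nat_lit 5, nat_lit 9, nat_lit 4, nat_lit 10, nat_lit 2, nat_lit 8, nat_lit 10, nat_lit 1, nat_lit 15, nat_lit 17] (Rl.cmp (nat_lit 3456) (nat_lit 4309)))) (FT.leaf (Fct.mk false (nat_lit 32) (nat_lit 0) (nat_lit 32) [nat_lit 0, nat_lit 1, nat_lit 2, nat_lit 3, nat_lit 4, nat_lit 5, nat_lit 3, nat_lit 2, nat_lit 0, nat_lit 1, nat_lit 4, nat_lit 3, nat_lit 2, nat_lit 8, nat_lit 3, nat_lit 0, nat_lit 2, nat_lit 8, nat_lit 16, nat_lit 14, nat_lit 13, nat_lit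 12, nat_lit 18, nat_lit 16] (Rl.cmp (nat_lit 3010) (nat_lit 4098)))))))) (FT.node (nat_lit 4318) (FT.node (nat_lit 4315) (FT.node (nat_lit 4313) (FT.leaf (Fct.mk false (nat_lit 5) (nat_lit 0) (nat_lit 5) [nat_lit 6, nat_lit 1, nat_lit 12, nat_lit 15, nat_lit 12] (Rl.cmp (nat_lit 1859) (nat_lit 470)))) (FT.node (nat_lit 4314) (FT.leaf (Fct.mk false (nat_lit 32) (nat_lit 0) (nat_lit 32) [nat_lit 8, nat_lit 5, nat_lit 6, nat_lit 4, nat_lit 5, nat_lit 3, nat_lit 4, nat_lit 2, nat_lit 3, nat_lit 8, nat_lit 0, nat_lit 1, nat_lit 2, nat_lit 3, nat_lit 4, nat_lit 5, nat_lit 1, nat_lit 4, nat_lit 3, nat_lit 2, nat_lit 8, nat_lit 3, nat_lit 11, nat_lit 10, nat_lit 1, nat_lit 12, nat_lit 15, nat_lit 14, nat_lit 18, nat_lit 16] (Rl.cmp (nat_lit 3004) (nat_lit 4226)))) (FT.leaf (Fct.mk false (nat_lit 32) (nat_lit 0) (nat_lit 32) [nat_lit 5, nat_lit 6, nat_lit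 4, nat_lit 5, nat_lit 2, nat_lit 3, nat_lit 4, nat_lit 1, nat_lit 2, nat_lit 3, nat_lit 8, nat_lit 0, nat_lit 1, nat_lit 2, nat_lit 3, nat_lit 4, nat_lit 5, nat_lit 3, nat_lit 2, nat_lit 1, nat_lit 4, nat_lit 3, nat_lit 2, nat_lit 8, nat_lit 3, nat_lit 9, nat_lit 10, nat_lit 2, nat_lit 8, nat_lit 10, nat_lit 1, nat_lit 8, nat_lit 16, nat_lit 14, nat_lit 16, nat_lit 8, nat_lit 16] (Rl.cmp (nat_lit 3010) (nat_lit 4313)))))) (FT.node (nat_lit 4316) (FT.leaf (Fct.mk false (nat_lit 5) (nat_lit 0) (nat_lit 5) [nat_lit 8, nat_lit 2, nat_lit 3, nat_lit 4, nat_lit 1, nat_lit 2, nat_lit 3, nat_lit 8, nat_lit 5, nat_lit 6, nat_lit 4, nat_lit 5, nat_lit 3, nat_lit 4, nat_lit 2, nat_lit 3, nat_lit 8, nat_lit 1, nat_lit 2, nat_lit 3, nat_lit 4, nat_lit 5, nat_lit 0, nat_lit 1, nat_lit 2, nat_lit 3, nat_lit 1, nat_lit 16, nat_lit 15, nat_lit 14, nat_lit 13]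 (Rl.cmp (nat_lit 488) (nat_lit 2094)))) (FT.node (nat_lit 4317) (FT.leaf (Fct.mk false (nat_lit 5) (nat_lit 0) (nat_lit 5) [nat_lit 8, nat_lit 3, nat_lit 4, nat_lit 2, nat_lit 3, nat_lit 8, nat_lit 7, nat_lit 5, nat_lit 6, nat_lit 4, nat_lit 5, nat_lit 3, nat_lit 4, nat_lit 2, nat_lit 3, nat_lit 8, nat_lit 0, nat_lit 1, nat_lit 2, nat_lit 3, nat_lit 4, nat_lit 5, nat_lit 6, nat_lit 7, nat_lit 6, nat_lit 5, nat_lit 4, nat_lit 2, nat_lit 3, nat_lit 8, nat_lit 1, nat_lit 2, nat_lit 3, nat_lit 4, nat_lit 5, nat_lit 1, nat_lit 3, nat_lit 2, nat_lit 8, nat_lit 3, nat_lit 10, nat_lit 9, nat_lit 2, nat_lit 12, nat_lit 15, nat_lit 14, nat_lit 13, nat_lit 19, nat_lit 16] (Rl.cmp (nat_lit 2491) (nat_lit 4315)))) (FT.leaf (Fct.mk false (nat_lit 5) (nat_lit 0) (nat_lit 5) [nat_lit 4, nat_lit 3, nat_lit 8, nat_lit 2, nat_lit 3, nat_lit 4, nat_lit 1, nat_lit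 2, nat_lit 3, nat_lit 8, nat_lit 6, nat_lit 7, nat_lit 5, nat_lit 6, nat_lit 4, nat_lit 5, nat_lit 3, nat_lit 4, nat_lit 2, nat_lit 3, nat_lit 8, nat_lit 1, nat_lit 2, nat_lit 3, nat_lit 4, nat_lit 5, nat_lit 6, nat_lit 7, nat_lit 2, nat_lit 3, nat_lit 8, nat_lit 4, nat_lit 5, nat_lit 3, nat_lit 4, nat_lit 2, nat_lit 3, nat_lit 8, nat_lit 1, nat_lit 2, nat_lit 3, nat_lit 4, nat_lit 5, nat_lit 3, nat_lit 2, nat_lit 1, nat_lit 4, nat_lit 3, nat_lit 2, nat_lit 8, nat_lit 3, nat_lit 2, nat_lit 8, nat_lit 10, nat_lit 1, nat_lit 12, nat_lit 15, nat_lit 14, nat_lit 12, nat_lit 18] (Rl.cmp (nat_lit 1859) (nat_lit 4316))))))) (FT.node (nat_lit 4321) (FT.node (nat_lit 4319) (FT.leaf (Fct.mk false (nat_lit 5) (nat_lit 0) (nat_lit 5) [nat_lit 8, nat_lit 3, nat_lit 4, nat_lit 2, nat_lit 3, nat_lit 8, nat_lit 7, nat_lit 5, nat_lit 6, nat_lit 4, nat_lit 5,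 nat_lit 3, nat_lit 4, nat_lit 2, nat_lit 3, nat_lit 8, nat_lit 0, nat_lit 1, nat_lit 2, nat_lit 3, nat_lit 4, nat_lit 5, nat_lit 6, nat_lit 7, nat_lit 8, nat_lit 3, nat_lit 4, nat_lit 2, nat_lit 3, nat_lit 8, nat_lit 5, nat_lit 6, nat_lit 4, nat_lit 5, nat_lit 3, nat_lit 4, nat_lit 2, nat_lit 3, nat_lit 8, nat_lit 0, nat_lit 1, nat_lit 2, nat_lit 3, nat_lit 4, nat_lit 5, nat_lit 8, nat_lit 3, nat_lit 2, nat_lit 0, nat_lit 1, nat_lit 9, nat_lit 4, nat_lit 3, nat_lit 2, nat_lit 8, nat_lit 3, nat_lit 11, nat_lit 2, nat_lit 12, nat_lit 8, nat_lit 16, nat_lit 14, nat_lit 17, nat_lit 12] (Rl.cmp (nat_lit 470) (nat_lit 2874)))) (FT.node (nat_lit 4320) (FT.leaf (Fct.mk false (nat_lit 5) (nat_lit 0) (nat_lit 5) [nat_lit 4, nat_lit 3, nat_lit 8, nat_lit 2, nat_lit 3, nat_lit 4, nat_lit 1, nat_lit 2, nat_lit 3, nat_lit 8, nat_lit 6, nat_lit 7, nat_lit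 5, nat_lit 6, nat_lit 4, nat_lit 5, nat_lit 3, nat_lit 4, nat_lit 2, nat_lit 3, nat_lit 8, nat_lit 1, nat_lit 2, nat_lit 3, nat_lit 4, nat_lit 5, nat_lit 6, nat_lit 7, nat_lit 8, nat_lit 5, nat_lit 3, nat_lit 4, nat_lit 2, nat_lit 3, nat_lit 8, nat_lit 1, nat_lit 2, nat_lit 3, nat_lit 4, nat_lit 5, nat_lit 3, nat_lit 2, nat_lit 1, nat_lit 4, nat_lit 3, nat_lit 2, nat_lit 8, nat_lit 3, nat_lit 11, nat_lit 10, nat_lit 2, nat_lit 8, nat_lit 10, nat_lit 1, nat_lit 12, nat_lit 15, nat_lit 13, nat_lit 12, nat_lit 18] (Rl.cmp (nat_lit 1859) (nat_lit 4318)))) (FT.leaf (Fct.mk false (nat_lit 32) (nat_lit 0) (nat_lit 32) [nat_lit 3, nat_lit 8, nat_lit 5, nat_lit 2, nat_lit 3, nat_lit 4, nat_lit 1, nat_lit 2, nat_lit 3, nat_lit 8, nat_lit 6, nat_lit 7, nat_lit 5, nat_lit 6, nat_lit 4, nat_lit 5, nat_lit 3, nat_lit 4, nat_lit 2, nat_lit 3, nat_lit 8, nat_lit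 1, nat_lit 2, nat_lit 3, nat_lit 4, nat_lit 5, nat_lit 6, nat_lit 7, nat_lit 6, nat_lit 5, nat_lit 4, nat_lit 3, nat_lit 8, nat_lit 1, nat_lit 2, nat_lit 3, nat_lit 4, nat_lit 5, nat_lit 1, nat_lit 3, nat_lit 2, nat_lit 0, nat_lit 1, nat_lit 4, nat_lit 3, nat_lit 2, nat_lit 8, nat_lit 3, nat_lit 11, nat_lit 2, nat_lit 16, nat_lit 15, nat_lit 14, nat_lit 13, nat_lit 12, nat_lit 19, nat_lit 16] (Rl.cmp (nat_lit 3004) (nat_lit 4180)))))) (FT.node (nat_lit 4323) (FT.node (nat_lit 4322) (FT.leaf (Fct.mk false (nat_lit 32) (nat_lit 0) (nat_lit 32) [nat_lit 3, nat_lit 8, nat_lit 6, nat_lit 4, nat_lit 5, nat_lit 3, nat_lit 4, nat_lit 2, nat_lit 3, nat_lit 8, nat_lit 1, nat_lit 2, nat_lit 3, nat_lit 4, nat_lit 5, nat_lit 2, nat_lit 1, nat_lit 8, nat_lit 4, nat_lit 3, nat_lit 2, nat_lit 0, nat_lit 1, nat_lit 9, nat_lit 4, nat_lit 3, nat_lit 2, nat_lit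 8, nat_lit 3, nat_lit 11, nat_lit 2, nat_lit 10, nat_lit 1, nat_lit 16, nat_lit 14, nat_lit 18, nat_lit 16] (Rl.cmp (nat_lit 3047) (nat_lit 4207)))) (FT.leaf (Fct.mk false (nat_lit 32) (nat_lit 0) (nat_lit 32) [nat_lit 3, nat_lit 8, nat_lit 5, nat_lit 2, nat_lit 3, nat_lit 4, nat_lit 1, nat_lit 2, nat_lit 3, nat_lit 8, nat_lit 6, nat_lit 7, nat_lit 5, nat_lit 6, nat_lit 4, nat_lit 5, nat_lit 3, nat_lit 4, nat_lit 2, nat_lit 3, nat_lit 8, nat_lit 1, nat_lit 2, nat_lit 3, nat_lit 4, nat_lit 5, nat_lit 6, nat_lit 7, nat_lit 4, nat_lit 3, nat_lit 8, nat_lit 0, nat_lit 1, nat_lit 2, nat_lit 3, nat_lit 4, nat_lit 5, nat_lit 1, nat_lit 2, nat_lit 3, nat_lit 8, nat_lit 4, nat_lit 3, nat_lit 2, nat_lit 1, nat_lit 9, nat_lit 4, nat_lit 3, nat_lit 2, nat_lit 8, nat_lit 3, nat_lit 11, nat_lit 8, nat_lit 10, nat_lit 15, nat_lit 17, nat_lit 12, nat_lit 19,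 nat_lit 16] (Rl.cmp (nat_lit 3456) (nat_lit 4321))))) (FT.node (nat_lit 4324) (FT.leaf (Fct.mk false (nat_lit 32) (nat_lit 0) (nat_lit 32) [nat_lit 3, nat_lit 8, nat_lit 5, nat_lit 2, nat_lit 3, nat_lit 4, nat_lit 1, nat_lit 2, nat_lit 3, nat_lit 8, nat_lit 6, nat_lit 7, nat_lit 5, nat_lit 6, nat_lit 4, nat_lit 5, nat_lit 3, nat_lit 4, nat_lit 2, nat_lit 3, nat_lit 8, nat_lit 1, nat_lit 2, nat_lit 3, nat_lit 4, nat_lit 5, nat_lit 6, nat_lit 7, nat_lit 3, nat_lit 8, nat_lit 1, nat_lit 2, nat_lit 3, nat_lit 4, nat_lit 5, nat_lit 2, nat_lit 0, nat_lit 1, nat_lit 4, nat_lit 3, nat_lit 2, nat_lit 8, nat_lit 3, nat_lit 9, nat_lit 10, nat_lit 2, nat_lit 8, nat_lit 10, nat_lit 1, nat_lit 16, nat_lit 15, nat_lit 14, nat_lit 13, nat_lit 12] (Rl.cmp (nat_lit 3004) (nat_lit 4322)))) (FT.leaf (Fct.mk false (nat_lit 4) (nat_lit 0) (nat_lit 4) [nat_lit 8,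 nat_lit 3, nat_lit 4, nat_lit 1, nat_lit 2, nat_lit 3, nat_lit 8, nat_lit 6, nat_lit 7, nat_lit 5, nat_lit 6, nat_lit 4, nat_lit 5, nat_lit 3, nat_lit 4, nat_lit 2, nat_lit 3, nat_lit 8, nat_lit 1, nat_lit 2, nat_lit 3, nat_lit 4, nat_lit 5, nat_lit 6, nat_lit 7, nat_lit 8, nat_lit 3, nat_lit 4, nat_lit 5, nat_lit 2, nat_lit 8, nat_lit 3, nat_lit 9, nat_lit 8, nat_lit 16, nat_lit 14, nat_lit 12, nat_lit 16] (Rl.cmp (nat_lit 243) (nat_lit 2284))))))))) (FT.node (nat_lit 4337) (FT.node (nat_lit 4331) (FT.node (nat_lit 4328) (FT.node (nat_lit 4326) (FT.leaf (Fct.mk false (nat_lit 32) (nat_lit 0) (nat_lit 32) [nat_lit 3, nat_lit 8, nat_lit 5, nat_lit 2, nat_lit 3, nat_lit 4, nat_lit 1, nat_lit 2, nat_lit 3, nat_lit 8, nat_lit 6, nat_lit 7, nat_lit 5, nat_lit 6, nat_lit 4, nat_lit 5, nat_lit 3, nat_lit 4, nat_lit 2, nat_lit 3, nat_lit 8, nat_lit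 1, nat_lit 2, nat_lit 3, nat_lit 4, nat_lit 5, nat_lit 6, nat_lit 7, nat_lit 8, nat_lit 6, nat_lit 5, nat_lit 3, nat_lit 4, nat_lit 2, nat_lit 3, nat_lit 8, nat_lit 1, nat_lit 2, nat_lit 3, nat_lit 4, nat_lit 5, nat_lit 4, nat_lit 8, nat_lit 10, nat_lit 12, nat_lit 8, nat_lit 16, nat_lit 14, nat_lit 19, nat_lit 16] (Rl.cmp (nat_lit 3047) (nat_lit 3456)))) (FT.node (nat_lit 4327) (FT.leaf (Fct.mk false (nat_lit 32) (nat_lit 0) (nat_lit 32) [nat_lit 3, nat_lit 8, nat_lit 5, nat_lit 2, nat_lit 3, nat_lit 4, nat_lit 1, nat_lit 2, nat_lit 3, nat_lit 8, nat_lit 6, nat_lit 7, nat_lit 5, nat_lit 6, nat_lit 4, nat_lit 5, nat_lit 3, nat_lit 4, nat_lit 2, nat_lit 3, nat_lit 8, nat_lit 1, nat_lit 2, nat_lit 3, nat_lit 4, nat_lit 5, nat_lit 6, nat_lit 7, nat_lit 8, nat_lit 5, nat_lit 3, nat_lit 4, nat_lit 2, nat_lit 3, nat_lit 8, nat_lit 1, nat_lit 2, nat_lit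 3, nat_lit 4, nat_lit 5, nat_lit 1, nat_lit 2, nat_lit 3, nat_lit 8, nat_lit 4, nat_lit 3, nat_lit 2, nat_lit 1, nat_lit 9, nat_lit 4, nat_lit 3, nat_lit 2, nat_lit 8, nat_lit 3, nat_lit 9, nat_lit 2, nat_lit 16] (Rl.cmp (nat_lit 3010) (nat_lit 4325)))) (FT.leaf (Fct.mk false (nat_lit 32) (nat_lit 0) (nat_lit 32) [nat_lit 6, nat_lit 1, nat_lit 2, nat_lit 0, nat_lit 1, nat_lit 3, nat_lit 2, nat_lit 8, nat_lit 3, nat_lit 10, nat_lit 8, nat_lit 12, nat_lit 15, nat_lit 14, nat_lit 8] (Rl.cmp (nat_lit 3456) (nat_lit 4326)))))) (FT.node (nat_lit 4329) (FT.leaf (Fct.mk false (nat_lit 32) (nat_lit 0) (nat_lit 32) [nat_lit 3, nat_lit 4, nat_lit 2, nat_lit 3, nat_lit 8, nat_lit 5, nat_lit 6, nat_lit 4, nat_lit 5, nat_lit 3, nat_lit 4, nat_lit 2, nat_lit 3, nat_lit 8, nat_lit 1, nat_lit 2, nat_lit 3, nat_lit 4, nat_lit 5, nat_lit 2, nat_lit 1, nat_lit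 8, nat_lit 3, nat_lit 2, nat_lit 0, nat_lit 1, nat_lit 4, nat_lit 3, nat_lit 2, nat_lit 8, nat_lit 3, nat_lit 12, nat_lit 15, nat_lit 14, nat_lit 16, nat_lit 8, nat_lit 19] (Rl.cmp (nat_lit 3004) (nat_lit 4327)))) (FT.node (nat_lit 4330) (FT.leaf (Fct.mk false (nat_lit 32) (nat_lit 0) (nat_lit 32) [nat_lit 5, nat_lit 4, nat_lit 3, nat_lit 8, nat_lit 0, nat_lit 1, nat_lit 2, nat_lit 3, nat_lit 4, nat_lit 5, nat_lit 1, nat_lit 8, nat_lit 3, nat_lit 2, nat_lit 0, nat_lit 1, nat_lit 9, nat_lit 4, nat_lit 3, nat_lit 2, nat_lit 8, nat_lit 3, nat_lit 2, nat_lit 16, nat_lit 14, nat_lit 12, nat_lit 19] (Rl.cmp (nat_lit 3010) (nat_lit 4137)))) (FT.leaf (Fct.mk false (nat_lit 32) (nat_lit 0) (nat_lit 32) [nat_lit 5, nat_lit 4, nat_lit 3, nat_lit 8, nat_lit 2, nat_lit 3, nat_lit 4, nat_lit 1, nat_lit 2, nat_lit 3, nat_lit 8, nat_lit 5, nat_lit 6, nat_lit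 4, nat_lit 5, nat_lit 3, nat_lit 4, nat_lit 2, nat_lit 3, nat_lit 8, nat_lit 1, nat_lit 2, nat_lit 3, nat_lit 4, nat_lit 5, nat_lit 2, nat_lit 1, nat_lit 8, nat_lit 3, nat_lit 2, nat_lit 0, nat_lit 1, nat_lit 4, nat_lit 3, nat_lit 2, nat_lit 8, nat_lit 3, nat_lit 10, nat_lit 9, nat_lit 2, nat_lit 8, nat_lit 16, nat_lit 15, nat_lit 14, nat_lit 16, nat_lit 8, nat_lit 18, nat_lit 16] (Rl.cmp (nat_lit 3004) (nat_lit 4329))))))) (FT.node (nat_lit 4334) (FT.node (nat_lit 4332) (FT.leaf (Fct.mk false (nat_lit 32) (nat_lit 0) (nat_lit 32) [nat_lit 6, nat_lit 1, nat_lit 2, nat_lit 0, nat_lit 1, nat_lit 4, nat_lit 3, nat_lit 2, nat_lit 8, nat_lit 3, nat_lit 8, nat_lit 10, nat_lit 8, nat_lit 12, nat_lit 15, nat_lit 14] (Rl.cmp (nat_lit 3047) (nat_lit 4330)))) (FT.node (nat_lit 4333) (FT.leaf (Fct.mk false (nat_lit 32) (nat_lit 0) (nat_lit 32) [nat_lit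 3, nat_lit 8, nat_lit 5, nat_lit 2, nat_lit 3, nat_lit 4, nat_lit 1, nat_lit 2, nat_lit 3, nat_lit 8, nat_lit 6, nat_lit 7, nat_lit 5, nat_lit 6, nat_lit 4, nat_lit 5, nat_lit 3, nat_lit 4, nat_lit 2, nat_lit 3, nat_lit 8, nat_lit 1, nat_lit 2, nat_lit 3, nat_lit 4, nat_lit 5, nat_lit 6, nat_lit 7, nat_lit 8, nat_lit 6, nat_lit 5, nat_lit 3, nat_lit 4, nat_lit 2, nat_lit 3, nat_lit 8, nat_lit 1, nat_lit 2, nat_lit 3, nat_lit 4, nat_lit 5, nat_lit 4, nat_lit 8, nat_lit 10, nat_lit 12, nat_lit 8, nat_lit 16, nat_lit 14, nat_lit 19, nat_lit 16] (Rl.cmp (nat_lit 3047) (nat_lit 3456)))) (FT.leaf (Fct.mk false (nat_lit 32) (nat_lit 0) (nat_lit 32) [nat_lit 3, nat_lit 8, nat_lit 5, nat_lit 2, nat_lit 3, nat_lit 4, nat_lit 1, nat_lit 2, nat_lit 3, nat_lit 8, nat_lit 6, nat_lit 7, nat_lit 5, nat_lit 6, nat_lit 4, nat_lit 5, nat_lit 3, nat_lit 4, nat_lit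 2, nat_lit 3, nat_lit 8, nat_lit 1, nat_lit 2, nat_lit 3, nat_lit 4, nat_lit 5, nat_lit 6, nat_lit 7, nat_lit 1, nat_lit 2, nat_lit 3, nat_lit 4, nat_lit 5, nat_lit 2, nat_lit 0, nat_lit 1, nat_lit 4, nat_lit 3, nat_lit 2, nat_lit 8, nat_lit 3, nat_lit 11, nat_lit 2, nat_lit 8, nat_lit 12, nat_lit 15, nat_lit 14, nat_lit 8, nat_lit 16] (Rl.cmp (nat_lit 3456) (nat_lit 4270)))))) (FT.node (nat_lit 4335) (FT.leaf (Fct.mk false (nat_lit 32) (nat_lit 0) (nat_lit 32) [nat_lit 3, nat_lit 8, nat_lit 5, nat_lit 2, nat_lit 3, nat_lit 4, nat_lit 1, nat_lit 2, nat_lit 3, nat_lit 8, nat_lit 6, nat_lit 7, nat_lit 5, nat_lit 6, nat_lit 4, nat_lit 5, nat_lit 3, nat_lit 4, nat_lit 2, nat_lit 3, nat_lit 8, nat_lit 1, nat_lit 2, nat_lit 3, nat_lit 4, nat_lit 5, nat_lit 6, nat_lit 7, nat_lit 6, nat_lit 5, nat_lit 4, nat_lit 3, nat_lit 8, nat_lit 1, nat_lit 2,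 nat_lit 3, nat_lit 4, nat_lit 5, nat_lit 0, nat_lit 1, nat_lit 4, nat_lit 3, nat_lit 2, nat_lit 8, nat_lit 3, nat_lit 11, nat_lit 8, nat_lit 10, nat_lit 16, nat_lit 15, nat_lit 14, nat_lit 16, nat_lit 8] (Rl.cmp (nat_lit 3047) (nat_lit 4333)))) (FT.node (nat_lit 4336) (FT.leaf (Fct.mk false (nat_lit 32) (nat_lit 0) (nat_lit 32) [nat_lit 5, nat_lit 6, nat_lit 4, nat_lit 5, nat_lit 3, nat_lit 4, nat_lit 2, nat_lit 3, nat_lit 8, nat_lit 1, nat_lit 2, nat_lit 3, nat_lit 4, nat_lit 5, nat_lit 1, nat_lit 9, nat_lit 4, nat_lit 3, nat_lit 2, nat_lit 8, nat_lit 3, nat_lit 11, nat_lit 10, nat_lit 1, nat_lit 12, nat_lit 15, nat_lit 14, nat_lit 18, nat_lit 16] (Rl.cmp (nat_lit 3004) (nat_lit 3010)))) (FT.leaf (Fct.mk false (nat_lit 32) (nat_lit 0) (nat_lit 32) [nat_lit 3, nat_lit 8, nat_lit 5, nat_lit 2, nat_lit 3, nat_lit 4, nat_lit 1, nat_lit 2, nat_lit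 3, nat_lit 8, nat_lit 6, nat_lit 7, nat_lit 5, nat_lit 6, nat_lit 4, nat_lit 5, nat_lit 3, nat_lit 4, nat_lit 2, nat_lit 3, nat_lit 8, nat_lit 1, nat_lit 2, nat_lit 3, nat_lit 4, nat_lit 5, nat_lit 6, nat_lit 7, nat_lit 8, nat_lit 3, nat_lit 4, nat_lit 2, nat_lit 3, nat_lit 8, nat_lit 1, nat_lit 2, nat_lit 3, nat_lit 4, nat_lit 5, nat_lit 1, nat_lit 2, nat_lit 0, nat_lit 1, nat_lit 3, nat_lit 2, nat_lit 8, nat_lit 3, nat_lit 10, nat_lit 1, nat_lit 15, nat_lit 13, nat_lit 18] (Rl.cmp (nat_lit 3456) (nat_lit 4335)))))))) (FT.node (nat_lit 4343) (FT.node (nat_lit 4340) (FT.node (nat_lit 4338) (FT.leaf (Fct.mk false (nat_lit 32) (nat_lit 0) (nat_lit 32) [nat_lit 3, nat_lit 8, nat_lit 5, nat_lit 2, nat_lit 3, nat_lit 4, nat_lit 1, nat_lit 2, nat_lit 3, nat_lit 8, nat_lit 6, nat_lit 7, nat_lit 5, nat_lit 6, nat_lit 4, nat_lit 5, nat_lit 3, nat_lit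 4, nat_lit 2, nat_lit 3, nat_lit 8, nat_lit 1, nat_lit 2, nat_lit 3, nat_lit 4, nat_lit 5, nat_lit 6, nat_lit 7, nat_lit 5, nat_lit 4, nat_lit 3, nat_lit 8, nat_lit 0, nat_lit 1, nat_lit 2, nat_lit 3, nat_lit 4, nat_lit 5, nat_lit 2, nat_lit 1, nat_lit 4, nat_lit 3, nat_lit 2, nat_lit 0, nat_lit 1, nat_lit 9, nat_lit 4, nat_lit 3, nat_lit 2, nat_lit 8, nat_lit 3, nat_lit 8, nat_lit 10, nat_lit 9, nat_lit 2, nat_lit 15, nat_lit 17, nat_lit 19, nat_lit 16] (Rl.cmp (nat_lit 3004) (nat_lit 4336)))) (FT.node (nat_lit 4339) (FT.leaf (Fct.mk false (nat_lit 32) (nat_lit 0) (nat_lit 32) [nat_lit 3, nat_lit 8, nat_lit 5, nat_lit 2, nat_lit 3, nat_lit 4, nat_lit 1, nat_lit 2, nat_lit 3, nat_lit 8, nat_lit 6, nat_lit 7, nat_lit 5, nat_lit 6, nat_lit 4, nat_lit 5, nat_lit 3, nat_lit 4, nat_lit 2, nat_lit 3, nat_lit 8, nat_lit 1, nat_lit 2, nat_lit 3, nat_lit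 4, nat_lit 5, nat_lit 6, nat_lit 7, nat_lit 3, nat_lit 4, nat_lit 2, nat_lit 3, nat_lit 8, nat_lit 5, nat_lit 6, nat_lit 4, nat_lit 5, nat_lit 3, nat_lit 4, nat_lit 2, nat_lit 3, nat_lit 8, nat_lit 0, nat_lit 1, nat_lit 2, nat_lit 3, nat_lit 4, nat_lit 5, nat_lit 3, nat_lit 2, nat_lit 0, nat_lit 1, nat_lit 9, nat_lit 4, nat_lit 3, nat_lit 2, nat_lit 8, nat_lit 3, nat_lit 10, nat_lit 2, nat_lit 8, nat_lit 10, nat_lit 1, nat_lit 16, nat_lit 14, nat_lit 17, nat_lit 12, nat_lit 18, nat_lit 16] (Rl.cmp (nat_lit 3010) (nat_lit 4337)))) (FT.leaf (Fct.mk false (nat_lit 32) (nat_lit 0) (nat_lit 32) [nat_lit 8, nat_lit 1, nat_lit 2, nat_lit 3, nat_lit 4, nat_lit 5, nat_lit 3, nat_lit 2, nat_lit 0, nat_lit 1, nat_lit 4, nat_lit 3, nat_lit 2, nat_lit 8, nat_lit 3, nat_lit 11, nat_lit 2, nat_lit 8, nat_lit 10, nat_lit 1, nat_lit 16, nat_lit 15, nat_lit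 14, nat_lit 16, nat_lit 8, nat_lit 19, nat_lit 16] (Rl.cmp (nat_lit 3456) (nat_lit 4338)))))) (FT.node (nat_lit 4341) (FT.leaf (Fct.mk false (nat_lit 32) (nat_lit 0) (nat_lit 32) [nat_lit 3, nat_lit 8, nat_lit 5, nat_lit 2, nat_lit 3, nat_lit 4, nat_lit 1, nat_lit 2, nat_lit 3, nat_lit 8, nat_lit 6, nat_lit 7, nat_lit 5, nat_lit 6, nat_lit 4, nat_lit 5, nat_lit 3, nat_lit 4, nat_lit 2, nat_lit 3, nat_lit 8, nat_lit 1, nat_lit 2, nat_lit 3, nat_lit 4, nat_lit 5, nat_lit 6, nat_lit 7, nat_lit 4, nat_lit 2, nat_lit 3, nat_lit 8, nat_lit 5, nat_lit 6, nat_lit 4, nat_lit 5, nat_lit 3, nat_lit 4, nat_lit 2, nat_lit 3, nat_lit 8, nat_lit 1, nat_lit 2, nat_lit 3, nat_lit 4, nat_lit 5, nat_lit 1, nat_lit 2, nat_lit 0, nat_lit 1, nat_lit 4, nat_lit 3, nat_lit 2, nat_lit 8, nat_lit 3, nat_lit 1, nat_lit 9, nat_lit 8, nat_lit 12, nat_lit 15, nat_lit 17,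 nat_lit 12, nat_lit 18, nat_lit 16] (Rl.cmp (nat_lit 3456) (nat_lit 4094)))) (FT.node (nat_lit 4342) (FT.leaf (Fct.mk false (nat_lit 32) (nat_lit 0) (nat_lit 32) [nat_lit 3, nat_lit 8, nat_lit 5, nat_lit 2, nat_lit 3, nat_lit 4, nat_lit 1, nat_lit 2, nat_lit 3, nat_lit 8, nat_lit 6, nat_lit 7, nat_lit 5, nat_lit 6, nat_lit 4, nat_lit 5, nat_lit 3, nat_lit 4, nat_lit 2, nat_lit 3, nat_lit 8, nat_lit 1, nat_lit 2, nat_lit 3, nat_lit 4, nat_lit 5, nat_lit 6, nat_lit 7, nat_lit 8, nat_lit 6, nat_lit 5, nat_lit 3, nat_lit 4, nat_lit 2, nat_lit 3, nat_lit 8, nat_lit 1, nat_lit 2, nat_lit 3, nat_lit 4, nat_lit 5, nat_lit 8, nat_lit 3, nat_lit 2, nat_lit 1, nat_lit 9, nat_lit 4, nat_lit 3, nat_lit 2, nat_lit 8, nat_lit 3, nat_lit 8, nat_lit 10, nat_lit 9, nat_lit 2, nat_lit 8, nat_lit 16, nat_lit 14, nat_lit 8] (Rl.cmp (nat_lit 3047) (nat_lit 3772))))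 (FT.leaf (Fct.mk false (nat_lit 32) (nat_lit 0) (nat_lit 32) [nat_lit 3, nat_lit 8, nat_lit 5, nat_lit 2, nat_lit 3, nat_lit 4, nat_lit 1, nat_lit 2, nat_lit 3, nat_lit 8, nat_lit 6, nat_lit 7, nat_lit 5, nat_lit 6, nat_lit 4, nat_lit 5, nat_lit 3, nat_lit 4, nat_lit 2, nat_lit 3, nat_lit 8, nat_lit 1, nat_lit 2, nat_lit 3, nat_lit 4, nat_lit 5, nat_lit 6, nat_lit 7, nat_lit 8, nat_lit 3, nat_lit 4, nat_lit 2, nat_lit 3, nat_lit 8, nat_lit 1, nat_lit 2, nat_lit 3, nat_lit 4, nat_lit 5, nat_lit 0, nat_lit 1, nat_lit 2, nat_lit 8, nat_lit 3, nat_lit 0, nat_lit 17, nat_lit 12, nat_lit 16] (Rl.cmp (nat_lit 3004) (nat_lit 3487))))))) (FT.node (nat_lit 4346) (FT.node (nat_lit 4344) (FT.leaf (Fct.mk false (nat_lit 32) (nat_lit 0) (nat_lit 32) [nat_lit 3, nat_lit 8, nat_lit 5, nat_lit 2, nat_lit 3, nat_lit 4, nat_lit 1, nat_lit 2, nat_lit 3, nat_lit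 8, nat_lit 6, nat_lit 7, nat_lit 5, nat_lit 6, nat_lit 4, nat_lit 5, nat_lit 3, nat_lit 4, nat_lit 2, nat_lit 3, nat_lit 8, nat_lit 1, nat_lit 2, nat_lit 3, nat_lit 4, nat_lit 5, nat_lit 6, nat_lit 7, nat_lit 5, nat_lit 3, nat_lit 4, nat_lit 2, nat_lit 3, nat_lit 8, nat_lit 1, nat_lit 2, nat_lit 3, nat_lit 4, nat_lit 5, nat_lit 0, nat_lit 1, nat_lit 4, nat_lit 3, nat_lit 2, nat_lit 8, nat_lit 3, nat_lit 10, nat_lit 2, nat_lit 8, nat_lit 10, nat_lit 1, nat_lit 14, nat_lit 17, nat_lit 18] (Rl.cmp (nat_lit 3456) (nat_lit 2995)))) (FT.node (nat_lit 4345) (FT.leaf (Fct.mk false (nat_lit 32) (nat_lit 0) (nat_lit 32) [nat_lit 3, nat_lit 8, nat_lit 5, nat_lit 2, nat_lit 3, nat_lit 4, nat_lit 1, nat_lit 2, nat_lit 3, nat_lit 8, nat_lit 6, nat_lit 7, nat_lit 5, nat_lit 6, nat_lit 4, nat_lit 5, nat_lit 3, nat_lit 4, nat_lit 2, nat_lit 3, nat_lit 8, nat_lit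 1, nat_lit 2, nat_lit 3, nat_lit 4, nat_lit 5, nat_lit 6, nat_lit 7, nat_lit 8, nat_lit 6, nat_lit 5, nat_lit 3, nat_lit 4, nat_lit 2, nat_lit 3, nat_lit 8, nat_lit 1, nat_lit 2, nat_lit 3, nat_lit 4, nat_lit 5, nat_lit 8, nat_lit 3, nat_lit 2, nat_lit 1, nat_lit 9, nat_lit 4, nat_lit 3, nat_lit 2, nat_lit 8, nat_lit 3, nat_lit 8, nat_lit 10, nat_lit 9, nat_lit 2, nat_lit 8, nat_lit 16, nat_lit 14, nat_lit 8] (Rl.cmp (nat_lit 3047) (nat_lit 4343)))) (FT.leaf (Fct.mk false (nat_lit 32) (nat_lit 0) (nat_lit 32) [nat_lit 3, nat_lit 8, nat_lit 5, nat_lit 2, nat_lit 3, nat_lit 4, nat_lit 1, nat_lit 2, nat_lit 3, nat_lit 8, nat_lit 6, nat_lit 7, nat_lit 5, nat_lit 6, nat_lit 4, nat_lit 5, nat_lit 3, nat_lit 4, nat_lit 2, nat_lit 3, nat_lit 8, nat_lit 1, nat_lit 2, nat_lit 3, nat_lit 4, nat_lit 5, nat_lit 6, nat_lit 7, nat_lit 8, nat_lit 5, nat_lit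 3, nat_lit 4, nat_lit 2, nat_lit 3, nat_lit 8, nat_lit 1, nat_lit 2, nat_lit 3, nat_lit 4, nat_lit 5, nat_lit 1, nat_lit 2, nat_lit 3, nat_lit 2, nat_lit 8, nat_lit 10, nat_lit 1, nat_lit 14, nat_lit 12, nat_lit 19] (Rl.cmp (nat_lit 3010) (nat_lit 4344)))))) (FT.node (nat_lit 4348) (FT.node (nat_lit 4347) (FT.leaf (Fct.mk false (nat_lit 32) (nat_lit 0) (nat_lit 32) [nat_lit 6, nat_lit 1, nat_lit 2, nat_lit 0, nat_lit 1, nat_lit 4, nat_lit 3, nat_lit 2, nat_lit 8, nat_lit 3, nat_lit 10, nat_lit 8, nat_lit 12, nat_lit 15, nat_lit 14, nat_lit 8] (Rl.cmp (nat_lit 3456) (nat_lit 4345)))) (FT.leaf (Fct.mk false (nat_lit 32) (nat_lit 0) (nat_lit 32) [nat_lit 0, nat_lit 1, nat_lit 2, nat_lit 3, nat_lit 4, nat_lit 5, nat_lit 2, nat_lit 1, nat_lit 8, nat_lit 3, nat_lit 2, nat_lit 0, nat_lit 1, nat_lit 4, nat_lit 3, nat_lit 2, nat_lit 8, nat_lit 3, nat_lit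 9, nat_lit 2, nat_lit 16, nat_lit 15, nat_lit 14, nat_lit 12, nat_lit 18] (Rl.cmp (nat_lit 3047) (nat_lit 4300))))) (FT.node (nat_lit 4349) (FT.leaf (Fct.mk false (nat_lit 32) (nat_lit 0) (nat_lit 32) [nat_lit 3, nat_lit 8, nat_lit 6, nat_lit 4, nat_lit 5, nat_lit 3, nat_lit 4, nat_lit 2, nat_lit 3, nat_lit 8, nat_lit 1, nat_lit 2, nat_lit 3, nat_lit 4, nat_lit 5, nat_lit 3, nat_lit 11, nat_lit 10, nat_lit 2, nat_lit 8, nat_lit 10, nat_lit 1, nat_lit 8, nat_lit 12, nat_lit 15, nat_lit 17, nat_lit 18, nat_lit 16] (Rl.cmp (nat_lit 3047) (nat_lit 4347)))) (FT.leaf (Fct.mk false (nat_lit 32) (nat_lit 0) (nat_lit 32) [nat_lit 1, nat_lit 2, nat_lit 3, nat_lit 8, nat_lit 4, nat_lit 5, nat_lit 3, nat_lit 4, nat_lit 2, nat_lit 3, nat_lit 8, nat_lit 1, nat_lit 2, nat_lit 3, nat_lit 4, nat_lit 5, nat_lit 2, nat_lit 1, nat_lit 3, nat_lit 2, nat_lit 0,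 nat_lit 1, nat_lit 4, nat_lit 3, nat_lit 2, nat_lit 8, nat_lit 3, nat_lit 10, nat_lit 1, nat_lit 8, nat_lit 12, nat_lit 15, nat_lit 14, nat_lit 12] (Rl.cmp (nat_lit 3004) (nat_lit 4348)))))))))

/-- some facts -/
noncomputable def ftc87 : FT := FT.node (nat_lit 4375) (FT.node (nat_lit 4362) (FT.node (nat_lit 4356) (FT.node (nat_lit 4353) (FT.node (nat_lit 4351) (FT.leaf (Fct.mk false (nat_lit 5) (nat_lit 0) (nat_lit 5) [nat_lit 5, nat_lit 11, nat_lit 10, nat_lit 16, nat_lit 15, nat_lit 14, nat_lit 13, nat_lit 16] (Rl.cmp (nat_lit 472) (nat_lit 470)))) (FT.node (nat_lit 4352) (FT.leaf (Fct.mk false (nat_lit 32) (nat_lit 0) (nat_lit 32) [nat_lit 0, nat_lit 1, nat_lit 2, nat_lit 3, nat_lit 4, nat_lit 5, nat_lit 3, nat_lit 2, nat_lit 0, nat_lit 1, nat_lit 4, nat_lit 3, nat_lit 2, nat_lit 8, nat_lit 3, nat_lit 0, nat_lit 2, nat_lit 8, nat_lit 16,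 nat_lit 14, nat_lit 13, nat_lit 12, nat_lit 18, nat_lit 16] (Rl.cmp (nat_lit 3010) (nat_lit 4095)))) (FT.leaf (Fct.mk false (nat_lit 32) (nat_lit 0) (nat_lit 32) [nat_lit 5, nat_lit 4, nat_lit 3, nat_lit 8, nat_lit 0, nat_lit 1, nat_lit 2, nat_lit 3, nat_lit 4, nat_lit 5, nat_lit 3, nat_lit 2, nat_lit 0, nat_lit 1, nat_lit 9, nat_lit 4, nat_lit 3, nat_lit 2, nat_lit 8, nat_lit 3, nat_lit 11, nat_lit 12, nat_lit 15, nat_lit 14, nat_lit 12, nat_lit 18] (Rl.cmp (nat_lit 3004) (nat_lit 4351)))))) (FT.node (nat_lit 4354) (FT.leaf (Fct.mk false (nat_lit 25) (nat_lit 0) (nat_lit 25) [nat_lit 7, nat_lit 6, nat_lit 5, nat_lit 4, nat_lit 3, nat_lit 8, nat_lit 2, nat_lit 3, nat_lit 4, nat_lit 5, nat_lit 6, nat_lit 7, nat_lit 8, nat_lit 5, nat_lit 2, nat_lit 3, nat_lit 4, nat_lit 1, nat_lit 2, nat_lit 3, nat_lit 8, nat_lit 0, nat_lit 1, nat_lit 2, nat_lit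 3, nat_lit 4, nat_lit 5, nat_lit 8, nat_lit 10, nat_lit 0, nat_lit 8, nat_lit 12, nat_lit 15, nat_lit 14, nat_lit 13, nat_lit 12, nat_lit 18] (Rl.cmp (nat_lit 1231) (nat_lit 2927)))) (FT.node (nat_lit 4355) (FT.leaf (Fct.mk false (nat_lit 25) (nat_lit 0) (nat_lit 25) [nat_lit 7, nat_lit 6, nat_lit 5, nat_lit 3, nat_lit 4, nat_lit 1, nat_lit 2, nat_lit 3, nat_lit 8, nat_lit 0, nat_lit 1, nat_lit 2, nat_lit 3, nat_lit 4, nat_lit 5, nat_lit 6, nat_lit 7, nat_lit 6, nat_lit 4, nat_lit 3, nat_lit 2, nat_lit 1, nat_lit 8, nat_lit 3, nat_lit 2, nat_lit 0, nat_lit 1, nat_lit 4, nat_lit 3, nat_lit 2, nat_lit 8, nat_lit 3, nat_lit 11, nat_lit 8, nat_lit 10, nat_lit 13, nat_lit 19] (Rl.cmp (nat_lit 2467) (nat_lit 4353)))) (FT.leaf (Fct.mk false (nat_lit 32) (nat_lit 0) (nat_lit 32) [nat_lit 3, nat_lit 8, nat_lit 5, nat_lit 2, nat_lit 3, nat_lit 4, nat_lit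 1, nat_lit 2, nat_lit 3, nat_lit 8, nat_lit 6, nat_lit 7, nat_lit 5, nat_lit 6, nat_lit 4, nat_lit 5, nat_lit 3, nat_lit 4, nat_lit 2, nat_lit 3, nat_lit 8, nat_lit 1, nat_lit 2, nat_lit 3, nat_lit 4, nat_lit 5, nat_lit 6, nat_lit 7, nat_lit 3, nat_lit 4, nat_lit 2, nat_lit 3, nat_lit 8, nat_lit 0, nat_lit 1, nat_lit 2, nat_lit 3, nat_lit 4, nat_lit 5, nat_lit 2, nat_lit 0, nat_lit 1, nat_lit 9, nat_lit 4, nat_lit 3, nat_lit 2, nat_lit 8, nat_lit 3, nat_lit 2, nat_lit 8, nat_lit 10, nat_lit 1, nat_lit 12, nat_lit 15, nat_lit 14, nat_lit 17, nat_lit 12, nat_lit 18, nat_lit 16] (Rl.cmp (nat_lit 3456) (nat_lit 4268))))))) (FT.node (nat_lit 4359) (FT.node (nat_lit 4357) (FT.leaf (Fct.mk false (nat_lit 4) (nat_lit 0) (nat_lit 4) [nat_lit 5, nat_lit 4, nat_lit 3, nat_lit 8, nat_lit 6, nat_lit 7, nat_lit 5, nat_lit 6, nat_lit 4, nat_lit 5, nat_lit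 3, nat_lit 4, nat_lit 2, nat_lit 3, nat_lit 8, nat_lit 1, nat_lit 2, nat_lit 3, nat_lit 4, nat_lit 5, nat_lit 6, nat_lit 7, nat_lit 6, nat_lit 3, nat_lit 2, nat_lit 8, nat_lit 3, nat_lit 2, nat_lit 8, nat_lit 16, nat_lit 14, nat_lit 12, nat_lit 16] (Rl.cmp (nat_lit 2372) (nat_lit 2880)))) (FT.node (nat_lit 4358) (FT.leaf (Fct.mk false (nat_lit 32) (nat_lit 0) (nat_lit 32) [nat_lit 3, nat_lit 4, nat_lit 1, nat_lit 2, nat_lit 3, nat_lit 8, nat_lit 5, nat_lit 6, nat_lit 4, nat_lit 5, nat_lit 3, nat_lit 4, nat_lit 2, nat_lit 3, nat_lit 8, nat_lit 1, nat_lit 2, nat_lit 3, nat_lit 4, nat_lit 5, nat_lit 2, nat_lit 1, nat_lit 8, nat_lit 3, nat_lit 2, nat_lit 0, nat_lit 1, nat_lit 9, nat_lit 4, nat_lit 3, nat_lit 2, nat_lit 8, nat_lit 3, nat_lit 16, nat_lit 15, nat_lit 14, nat_lit 17, nat_lit 12, nat_lit 16] (Rl.cmp (nat_lit 3010) (nat_lit 4328))))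 (FT.leaf (Fct.mk false (nat_lit 32) (nat_lit 0) (nat_lit 32) [nat_lit 6, nat_lit 8, nat_lit 3, nat_lit 2, nat_lit 0, nat_lit 1, nat_lit 9, nat_lit 4, nat_lit 3, nat_lit 2, nat_lit 8, nat_lit 3, nat_lit 8, nat_lit 10, nat_lit 1, nat_lit 12, nat_lit 8, nat_lit 16, nat_lit 14, nat_lit 12, nat_lit 18] (Rl.cmp (nat_lit 3010) (nat_lit 4331)))))) (FT.node (nat_lit 4360) (FT.leaf (Fct.mk false (nat_lit 4) (nat_lit 0) (nat_lit 4) [nat_lit 2, nat_lit 3, nat_lit 8, nat_lit 4, nat_lit 5, nat_lit 3, nat_lit 4, nat_lit 2, nat_lit 3, nat_lit 8, nat_lit 6, nat_lit 7, nat_lit 5, nat_lit 6, nat_lit 4, nat_lit 5, nat_lit 3, nat_lit 4, nat_lit 2, nat_lit 3, nat_lit 8, nat_lit 1, nat_lit 2, nat_lit 3, nat_lit 4, nat_lit 5, nat_lit 6, nat_lit 7, nat_lit 6, nat_lit 9, nat_lit 4, nat_lit 3, nat_lit 2, nat_lit 8, nat_lit 3, nat_lit 2, nat_lit 12, nat_lit 8, nat_lit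 16, nat_lit 14, nat_lit 12, nat_lit 18, nat_lit 16] (Rl.cmp (nat_lit 2284) (nat_lit 240)))) (FT.node (nat_lit 4361) (FT.leaf (Fct.mk false (nat_lit 4) (nat_lit 0) (nat_lit 4) [nat_lit 6, nat_lit 7, nat_lit 5, nat_lit 6, nat_lit 4, nat_lit 5, nat_lit 3, nat_lit 4, nat_lit 2, nat_lit 3, nat_lit 8, nat_lit 1, nat_lit 2, nat_lit 3, nat_lit 4, nat_lit 5, nat_lit 6, nat_lit 7, nat_lit 3, nat_lit 4, nat_lit 1, nat_lit 2, nat_lit 3, nat_lit 8, nat_lit 5, nat_lit 6, nat_lit 4, nat_lit 5, nat_lit 3, nat_lit 4, nat_lit 2, nat_lit 3, nat_lit 8, nat_lit 1, nat_lit 2, nat_lit 3, nat_lit 4, nat_lit 5, nat_lit 3, nat_lit 2, nat_lit 8, nat_lit 3, nat_lit 8, nat_lit 10, nat_lit 9, nat_lit 2, nat_lit 12, nat_lit 19] (Rl.cmp (nat_lit 2284) (nat_lit 4324)))) (FT.leaf (Fct.mk false (nat_lit 4) (nat_lit 0) (nat_lit 4) [nat_lit 6, nat_lit 7, nat_lit 5, nat_lit 6,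 nat_lit 4, nat_lit 5, nat_lit 3, nat_lit 4, nat_lit 2, nat_lit 3, nat_lit 8, nat_lit 1, nat_lit 2, nat_lit 3, nat_lit 4, nat_lit 5, nat_lit 6, nat_lit 7, nat_lit 6, nat_lit 5, nat_lit 4, nat_lit 3, nat_lit 8, nat_lit 2, nat_lit 3, nat_lit 4, nat_lit 5, nat_lit 1, nat_lit 4, nat_lit 3, nat_lit 2, nat_lit 8, nat_lit 3, nat_lit 9, nat_lit 10, nat_lit 2, nat_lit 8, nat_lit 10, nat_lit 1, nat_lit 8, nat_lit 16, nat_lit 14, nat_lit 16, nat_lit 8] (Rl.cmp (nat_lit 243) (nat_lit 4360)))))))) (FT.node (nat_lit 4368) (FT.node (nat_lit 4365) (FT.node (nat_lit 4363) (FT.leaf (Fct.mk false (nat_lit 4) (nat_lit 0) (nat_lit 4) [nat_lit 5, nat_lit 1, nat_lit 3, nat_lit 2, nat_lit 8, nat_lit 3, nat_lit 8, nat_lit 10, nat_lit 1, nat_lit 18] (Rl.cmp (nat_lit 2372) (nat_lit 4361)))) (FT.node (nat_lit 4364) (FT.leaf (Fct.mk false (nat_lit 32) (nat_lit 0) (nat_lit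 32) [nat_lit 8, nat_lit 3, nat_lit 4, nat_lit 1, nat_lit 2, nat_lit 3, nat_lit 8, nat_lit 5, nat_lit 6, nat_lit 4, nat_lit 5, nat_lit 3, nat_lit 4, nat_lit 2, nat_lit 3, nat_lit 8, nat_lit 1, nat_lit 2, nat_lit 3, nat_lit 4, nat_lit 5, nat_lit 3, nat_lit 2, nat_lit 1, nat_lit 4, nat_lit 3, nat_lit 2, nat_lit 0, nat_lit 1, nat_lit 9, nat_lit 4, nat_lit 3, nat_lit 2, nat_lit 8, nat_lit 3, nat_lit 16, nat_lit 15, nat_lit 14, nat_lit 16, nat_lit 8, nat_lit 19, nat_lit 16] (Rl.cmp (nat_lit 3010) (nat_lit 4273)))) (FT.leaf (Fct.mk false (nat_lit 32) (nat_lit 0) (nat_lit 32) [nat_lit 5, nat_lit 4, nat_lit 3, nat_lit 8, nat_lit 2, nat_lit 3, nat_lit 4, nat_lit 5, nat_lit 2, nat_lit 1, nat_lit 4, nat_lit 3, nat_lit 2, nat_lit 8, nat_lit 3, nat_lit 8, nat_lit 10, nat_lit 14, nat_lit 12, nat_lit 18] (Rl.cmp (nat_lit 3010) (nat_lit 2995)))))) (FT.node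 (nat_lit 4366) (FT.leaf (Fct.mk false (nat_lit 32) (nat_lit 0) (nat_lit 32) [nat_lit 3, nat_lit 8, nat_lit 5, nat_lit 2, nat_lit 3, nat_lit 4, nat_lit 1, nat_lit 2, nat_lit 3, nat_lit 8, nat_lit 6, nat_lit 7, nat_lit 5, nat_lit 6, nat_lit 4, nat_lit 5, nat_lit 3, nat_lit 4, nat_lit 2, nat_lit 3, nat_lit 8, nat_lit 1, nat_lit 2, nat_lit 3, nat_lit 4, nat_lit 5, nat_lit 6, nat_lit 7, nat_lit 8, nat_lit 4, nat_lit 5, nat_lit 3, nat_lit 4, nat_lit 2, nat_lit 3, nat_lit 8, nat_lit 1, nat_lit 2, nat_lit 3, nat_lit 4, nat_lit 5, nat_lit 1, nat_lit 2, nat_lit 0, nat_lit 1, nat_lit 4, nat_lit 3, nat_lit 2, nat_lit 8, nat_lit 3, nat_lit 11, nat_lit 8, nat_lit 10, nat_lit 1, nat_lit 16, nat_lit 15, nat_lit 14] (Rl.cmp (nat_lit 3004) (nat_lit 4320)))) (FT.node (nat_lit 4367) (FT.leaf (Fct.mk false (nat_lit 5) (nat_lit 0) (nat_lit 5) [nat_lit 4, nat_lit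 5, nat_lit 9, nat_lit 4, nat_lit 1, nat_lit 0, nat_lit 2, nat_lit 12, nat_lit 15, nat_lit 14] (Rl.cmp (nat_lit 1859) (nat_lit 4250)))) (FT.leaf (Fct.mk false (nat_lit 32) (nat_lit 0) (nat_lit 32) [nat_lit 3, nat_lit 4, nat_lit 2, nat_lit 3, nat_lit 8, nat_lit 0, nat_lit 1, nat_lit 2, nat_lit 3, nat_lit 4, nat_lit 5, nat_lit 1, nat_lit 4, nat_lit 3, nat_lit 2, nat_lit 8, nat_lit 3, nat_lit 11, nat_lit 10, nat_lit 12, nat_lit 15, nat_lit 14, nat_lit 17, nat_lit 18, nat_lit 16] (Rl.cmp (nat_lit 3047) (nat_lit 4186))))))) (FT.node (nat_lit 4371) (FT.node (nat_lit 4369) (FT.leaf (Fct.mk false (nat_lit 32) (nat_lit 0) (nat_lit 32) [nat_lit 2, nat_lit 3, nat_lit 8, nat_lit 6, nat_lit 4, nat_lit 5, nat_lit 3, nat_lit 4, nat_lit 2, nat_lit 3, nat_lit 8, nat_lit 1, nat_lit 2, nat_lit 3, nat_lit 4, nat_lit 5, nat_lit 2, nat_lit 1, nat_lit 3, nat_lit 2,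 nat_lit 0, nat_lit 1, nat_lit 4, nat_lit 3, nat_lit 2, nat_lit 8, nat_lit 3, nat_lit 11, nat_lit 15, nat_lit 13, nat_lit 12, nat_lit 19, nat_lit 16] (Rl.cmp (nat_lit 3047) (nat_lit 4367)))) (FT.node (nat_lit 4370) (FT.leaf (Fct.mk false (nat_lit 5) (nat_lit 0) (nat_lit 5) [nat_lit 3, nat_lit 8, nat_lit 2, nat_lit 3, nat_lit 4, nat_lit 1, nat_lit 2, nat_lit 3, nat_lit 8, nat_lit 5, nat_lit 6, nat_lit 4, nat_lit 5, nat_lit 3, nat_lit 4, nat_lit 2, nat_lit 3, nat_lit 8, nat_lit 1, nat_lit 2, nat_lit 3, nat_lit 4, nat_lit 5, nat_lit 0, nat_lit 1, nat_lit 2, nat_lit 3, nat_lit 9, nat_lit 16, nat_lit 15, nat_lit 14, nat_lit 13] (Rl.cmp (nat_lit 2094) (nat_lit 493)))) (FT.leaf (Fct.mk false (nat_lit 5) (nat_lit 0) (nat_lit 5) [nat_lit 8, nat_lit 3, nat_lit 4, nat_lit 2, nat_lit 3, nat_lit 8, nat_lit 7, nat_lit 5, nat_lit 6, nat_lit 4, nat_lit 5, nat_lit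 3, nat_lit 4, nat_lit 2, nat_lit 3, nat_lit 8, nat_lit 0, nat_lit 1, nat_lit 2, nat_lit 3, nat_lit 4, nat_lit 5, nat_lit 6, nat_lit 7, nat_lit 6, nat_lit 5, nat_lit 4, nat_lit 3, nat_lit 8, nat_lit 1, nat_lit 2, nat_lit 3, nat_lit 4, nat_lit 5, nat_lit 1, nat_lit 3, nat_lit 2, nat_lit 8, nat_lit 3, nat_lit 0, nat_lit 16, nat_lit 8, nat_lit 19, nat_lit 16] (Rl.cmp (nat_lit 2491) (nat_lit 4369)))))) (FT.node (nat_lit 4373) (FT.node (nat_lit 4372) (FT.leaf (Fct.mk false (nat_lit 4) (nat_lit 0) (nat_lit 4) [nat_lit 2, nat_lit 3, nat_lit 8, nat_lit 4, nat_lit 5, nat_lit 3, nat_lit 4, nat_lit 2, nat_lit 3, nat_lit 8, nat_lit 6, nat_lit 7, nat_lit 5, nat_lit 6, nat_lit 4, nat_lit 5, nat_lit 3, nat_lit 4, nat_lit 2, nat_lit 3, nat_lit 8, nat_lit 1, nat_lit 2, nat_lit 3, nat_lit 4, nat_lit 5, nat_lit 6, nat_lit 7, nat_lit 6, nat_lit 9, nat_lit 4, nat_lit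 3, nat_lit 2, nat_lit 8, nat_lit 3, nat_lit 9, nat_lit 12, nat_lit 8, nat_lit 16, nat_lit 14, nat_lit 12, nat_lit 18, nat_lit 16] (Rl.cmp (nat_lit 2284) (nat_lit 241)))) (FT.leaf (Fct.mk false (nat_lit 4) (nat_lit 0) (nat_lit 4) [nat_lit 5, nat_lit 4, nat_lit 3, nat_lit 8, nat_lit 6, nat_lit 7, nat_lit 5, nat_lit 6, nat_lit 4, nat_lit 5, nat_lit 3, nat_lit 4, nat_lit 2, nat_lit 3, nat_lit 8, nat_lit 1, nat_lit 2, nat_lit 3, nat_lit 4, nat_lit 5, nat_lit 6, nat_lit 7, nat_lit 1, nat_lit 2, nat_lit 3, nat_lit 8, nat_lit 4, nat_lit 5, nat_lit 3, nat_lit 4, nat_lit 2, nat_lit 3, nat_lit 8, nat_lit 1, nat_lit 2, nat_lit 3, nat_lit 4, nat_lit 5, nat_lit 8, nat_lit 4, nat_lit 3, nat_lit 2, nat_lit 1, nat_lit 9, nat_lit 4, nat_lit 3, nat_lit 2, nat_lit 8, nat_lit 3, nat_lit 2, nat_lit 10, nat_lit 1, nat_lit 16, nat_lit 14, nat_lit 18] (Rl.cmp (nat_lit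 312) (nat_lit 2879))))) (FT.node (nat_lit 4374) (FT.leaf (Fct.mk false (nat_lit 4) (nat_lit 0) (nat_lit 4) [nat_lit 2, nat_lit 3, nat_lit 4, nat_lit 1, nat_lit 2, nat_lit 3, nat_lit 8, nat_lit 6, nat_lit 7, nat_lit 5, nat_lit 6, nat_lit 4, nat_lit 5, nat_lit 3, nat_lit 4, nat_lit 2, nat_lit 3, nat_lit 8, nat_lit 1, nat_lit 2, nat_lit 3, nat_lit 4, nat_lit 5, nat_lit 6, nat_lit 7, nat_lit 2, nat_lit 3, nat_lit 4, nat_lit 5, nat_lit 4, nat_lit 9, nat_lit 2, nat_lit 14, nat_lit 8, nat_lit 16] (Rl.cmp (nat_lit 234) (nat_lit 4372)))) (FT.leaf (Fct.mk false (nat_lit 4) (nat_lit 0) (nat_lit 4) [nat_lit 3, nat_lit 8, nat_lit 5, nat_lit 2, nat_lit 3, nat_lit 4, nat_lit 1, nat_lit 2, nat_lit 3, nat_lit 8, nat_lit 6, nat_lit 7, nat_lit 5, nat_lit 6, nat_lit 4, nat_lit 5, nat_lit 3, nat_lit 4, nat_lit 2, nat_lit 3, nat_lit 8, nat_lit 1, nat_lit 2, nat_lit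 3, nat_lit 4, nat_lit 5, nat_lit 6, nat_lit 7, nat_lit 8, nat_lit 2, nat_lit 3, nat_lit 4, nat_lit 5, nat_lit 3, nat_lit 10, nat_lit 9, nat_lit 2, nat_lit 16, nat_lit 14, nat_lit 8, nat_lit 16] (Rl.cmp (nat_lit 263) (nat_lit 4275))))))))) (FT.node (nat_lit 4387) (FT.node (nat_lit 4381) (FT.node (nat_lit 4378) (FT.node (nat_lit 4376) (FT.leaf (Fct.mk false (nat_lit 25) (nat_lit 0) (nat_lit 25) [nat_lit 4, nat_lit 3, nat_lit 8, nat_lit 2, nat_lit 3, nat_lit 4, nat_lit 5, nat_lit 3, nat_lit 8, nat_lit 4, nat_lit 3, nat_lit 2, nat_lit 0, nat_lit 1, nat_lit 9, nat_lit 4, nat_lit 3, nat_lit 2, nat_lit 8, nat_lit 3, nat_lit 0, nat_lit 12, nat_lit 15, nat_lit 14, nat_lit 8, nat_lit 18] (Rl.cmp (nat_lit 2004) (nat_lit 1237)))) (FT.node (nat_lit 4377) (FT.leaf (Fct.mk false (nat_lit 25) (nat_lit 0) (nat_lit 25) [nat_lit 8, nat_lit 7, nat_lit 6, nat_lit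 5, nat_lit 2, nat_lit 3, nat_lit 4, nat_lit 1, nat_lit 2, nat_lit 3, nat_lit 8, nat_lit 0, nat_lit 1, nat_lit 2, nat_lit 3, nat_lit 4, nat_lit 5, nat_lit 6, nat_lit 7, nat_lit 4, nat_lit 1, nat_lit 2, nat_lit 3, nat_lit 8, nat_lit 0, nat_lit 1, nat_lit 2, nat_lit 3, nat_lit 4, nat_lit 5, nat_lit 0, nat_lit 1, nat_lit 3, nat_lit 2, nat_lit 8, nat_lit 3, nat_lit 2, nat_lit 10, nat_lit 1, nat_lit 12, nat_lit 15, nat_lit 18, nat_lit 16] (Rl.cmp (nat_lit 2467) (nat_lit 4375)))) (FT.leaf (Fct.mk false (nat_lit 25) (nat_lit 0) (nat_lit 25) [nat_lit 7, nat_lit 6, nat_lit 5, nat_lit 4, nat_lit 3, nat_lit 8, nat_lit 2, nat_lit 3, nat_lit 4, nat_lit 5, nat_lit 6, nat_lit 7, nat_lit 6, nat_lit 5, nat_lit 3, nat_lit 4, nat_lit 1, nat_lit 2, nat_lit 3, nat_lit 8, nat_lit 0, nat_lit 1, nat_lit 2, nat_lit 3, nat_lit 4, nat_lit 5, nat_lit 1, nat_lit 9, nat_lit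 4, nat_lit 3, nat_lit 2, nat_lit 8, nat_lit 3, nat_lit 11, nat_lit 2, nat_lit 15, nat_lit 14, nat_lit 17, nat_lit 19, nat_lit 16] (Rl.cmp (nat_lit 2004) (nat_lit 4376)))))) (FT.node (nat_lit 4379) (FT.leaf (Fct.mk false (nat_lit 25) (nat_lit 0) (nat_lit 25) [nat_lit 8, nat_lit 7, nat_lit 6, nat_lit 4, nat_lit 5, nat_lit 3, nat_lit 4, nat_lit 1, nat_lit 2, nat_lit 3, nat_lit 8, nat_lit 0, nat_lit 1, nat_lit 2, nat_lit 3, nat_lit 4, nat_lit 5, nat_lit 6, nat_lit 7, nat_lit 3, nat_lit 8, nat_lit 2, nat_lit 3, nat_lit 4, nat_lit 1, nat_lit 2, nat_lit 3, nat_lit 8, nat_lit 0, nat_lit 1, nat_lit 2, nat_lit 3, nat_lit 4, nat_lit 5, nat_lit 2, nat_lit 3, nat_lit 8, nat_lit 4, nat_lit 3, nat_lit 2, nat_lit 1, nat_lit 9, nat_lit 4, nat_lit 3, nat_lit 2, nat_lit 8, nat_lit 3, nat_lit 11, nat_lit 2, nat_lit 16, nat_lit 12, nat_lit 15, nat_lit 14, nat_lit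 17, nat_lit 19] (Rl.cmp (nat_lit 2117) (nat_lit 4377)))) (FT.node (nat_lit 4380) (FT.leaf (Fct.mk false (nat_lit 25) (nat_lit 0) (nat_lit 25) [nat_lit 8, nat_lit 7, nat_lit 6, nat_lit 4, nat_lit 5, nat_lit 3, nat_lit 4, nat_lit 1, nat_lit 2, nat_lit 3, nat_lit 8, nat_lit 0, nat_lit 1, nat_lit 2, nat_lit 3, nat_lit 4, nat_lit 5, nat_lit 6, nat_lit 7, nat_lit 3, nat_lit 8, nat_lit 2, nat_lit 3, nat_lit 4, nat_lit 5, nat_lit 3, nat_lit 10, nat_lit 9, nat_lit 2, nat_lit 8] (Rl.cmp (nat_lit 1813) (nat_lit 4378)))) (FT.leaf (Fct.mk false (nat_lit 32) (nat_lit 0) (nat_lit 32) [nat_lit 0, nat_lit 1, nat_lit 2, nat_lit 3, nat_lit 4, nat_lit 5, nat_lit 3, nat_lit 2, nat_lit 1, nat_lit 9, nat_lit 4, nat_lit 3, nat_lit 2, nat_lit 8, nat_lit 3, nat_lit 11, nat_lit 10, nat_lit 8, nat_lit 12, nat_lit 15, nat_lit 14, nat_lit 13, nat_lit 12] (Rl.cmp (nat_lit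 3010) (nat_lit 4352))))))) (FT.node (nat_lit 4384) (FT.node (nat_lit 4382) (FT.leaf (Fct.mk false (nat_lit 32) (nat_lit 0) (nat_lit 32) [nat_lit 3, nat_lit 8, nat_lit 6, nat_lit 4, nat_lit 5, nat_lit 3, nat_lit 4, nat_lit 2, nat_lit 3, nat_lit 8, nat_lit 0, nat_lit 1, nat_lit 2, nat_lit 3, nat_lit 4, nat_lit 5, nat_lit 2, nat_lit 0, nat_lit 1, nat_lit 4, nat_lit 3, nat_lit 2, nat_lit 8, nat_lit 3, nat_lit 2, nat_lit 8, nat_lit 10, nat_lit 1, nat_lit 16, nat_lit 12, nat_lit 15, nat_lit 14, nat_lit 16, nat_lit 8] (Rl.cmp (nat_lit 3004) (nat_lit 4283)))) (FT.node (nat_lit 4383) (FT.leaf (Fct.mk false (nat_lit 32) (nat_lit 0) (nat_lit 32) [nat_lit 8, nat_lit 5, nat_lit 6, nat_lit 4, nat_lit 5, nat_lit 3, nat_lit 4, nat_lit 2, nat_lit 3, nat_lit 8, nat_lit 0, nat_lit 1, nat_lit 2, nat_lit 3, nat_lit 4, nat_lit 5, nat_lit 2, nat_lit 0, nat_lit 1,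 nat_lit 9, nat_lit 4, nat_lit 3, nat_lit 2, nat_lit 8, nat_lit 3, nat_lit 11, nat_lit 10, nat_lit 1, nat_lit 8, nat_lit 12, nat_lit 15, nat_lit 18, nat_lit 16] (Rl.cmp (nat_lit 3010) (nat_lit 4381)))) (FT.leaf (Fct.mk false (nat_lit 32) (nat_lit 0) (nat_lit 32) [nat_lit 2, nat_lit 3, nat_lit 8, nat_lit 6, nat_lit 4, nat_lit 5, nat_lit 3, nat_lit 4, nat_lit 2, nat_lit 3, nat_lit 8, nat_lit 1, nat_lit 2, nat_lit 3, nat_lit 4, nat_lit 5, nat_lit 2, nat_lit 3, nat_lit 8, nat_lit 4, nat_lit 3, nat_lit 2, nat_lit 1, nat_lit 9, nat_lit 4, nat_lit 3, nat_lit 2, nat_lit 8, nat_lit 3, nat_lit 0, nat_lit 15, nat_lit 14, nat_lit 17, nat_lit 12] (Rl.cmp (nat_lit 3010) (nat_lit 4102)))))) (FT.node (nat_lit 4385) (FT.leaf (Fct.mk false (nat_lit 32) (nat_lit 0) (nat_lit 32) [nat_lit 5, nat_lit 6, nat_lit 4, nat_lit 5, nat_lit 3, nat_lit 4, nat_lit 2, nat_lit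 3, nat_lit 8, nat_lit 1, nat_lit 2, nat_lit 3, nat_lit 4, nat_lit 5, nat_lit 1, nat_lit 4, nat_lit 3, nat_lit 2, nat_lit 8, nat_lit 3, nat_lit 11, nat_lit 1, nat_lit 12, nat_lit 15, nat_lit 14, nat_lit 16, nat_lit 8, nat_lit 19] (Rl.cmp (nat_lit 3010) (nat_lit 4383)))) (FT.node (nat_lit 4386) (FT.leaf (Fct.mk false (nat_lit 32) (nat_lit 0) (nat_lit 32) [nat_lit 5, nat_lit 4, nat_lit 3, nat_lit 8, nat_lit 2, nat_lit 3, nat_lit 4, nat_lit 1, nat_lit 2, nat_lit 3, nat_lit 8, nat_lit 5, nat_lit 6, nat_lit 4, nat_lit 5, nat_lit 3, nat_lit 4, nat_lit 2, nat_lit 3, nat_lit 8, nat_lit 1, nat_lit 2, nat_lit 3, nat_lit 4, nat_lit 5, nat_lit 2, nat_lit 3, nat_lit 8, nat_lit 4, nat_lit 3, nat_lit 2, nat_lit 1, nat_lit 9, nat_lit 4, nat_lit 3, nat_lit 2, nat_lit 8, nat_lit 3, nat_lit 10, nat_lit 1, nat_lit 12, nat_lit 8, nat_lit 16, nat_lit 14, nat_lit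 8, nat_lit 19] (Rl.cmp (nat_lit 3004) (nat_lit 4061)))) (FT.leaf (Fct.mk false (nat_lit 32) (nat_lit 0) (nat_lit 32) [nat_lit 6, nat_lit 0, nat_lit 1, nat_lit 3, nat_lit 2, nat_lit 8, nat_lit 3, nat_lit 9, nat_lit 2, nat_lit 8, nat_lit 16, nat_lit 14, nat_lit 16, nat_lit 8, nat_lit 19] (Rl.cmp (nat_lit 3047) (nat_lit 4385)))))))) (FT.node (nat_lit 4393) (FT.node (nat_lit 4390) (FT.node (nat_lit 4388) (FT.leaf (Fct.mk false (nat_lit 32) (nat_lit 0) (nat_lit 32) [nat_lit 99] (Rl.cmp (nat_lit 3047) (nat_lit 4086)))) (FT.node (nat_lit 4389) (FT.leaf (Fct.mk false (nat_lit 32) (nat_lit 0) (nat_lit 32) [nat_lit 3, nat_lit 8, nat_lit 5, nat_lit 2, nat_lit 3, nat_lit 4, nat_lit 1, nat_lit 2, nat_lit 3, nat_lit 8, nat_lit 6, nat_lit 7, nat_lit 5, nat_lit 6, nat_lit 4, nat_lit 5, nat_lit 3, nat_lit 4, nat_lit 2, nat_lit 3, nat_lit 8, nat_lit 1, nat_lit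 2, nat_lit 3, nat_lit 4, nat_lit 5, nat_lit 6, nat_lit 7, nat_lit 6, nat_lit 5, nat_lit 3, nat_lit 4, nat_lit 2, nat_lit 3, nat_lit 8, nat_lit 1, nat_lit 2, nat_lit 3, nat_lit 4, nat_lit 5, nat_lit 1, nat_lit 3, nat_lit 2, nat_lit 0, nat_lit 1, nat_lit 4, nat_lit 3, nat_lit 2, nat_lit 8, nat_lit 3, nat_lit 1, nat_lit 8, nat_lit 16, nat_lit 15, nat_lit 14, nat_lit 13] (Rl.cmp (nat_lit 3010) (nat_lit 4387)))) (FT.leaf (Fct.mk false (nat_lit 32) (nat_lit 0) (nat_lit 32) [nat_lit 3, nat_lit 8, nat_lit 5, nat_lit 2, nat_lit 3, nat_lit 4, nat_lit 1, nat_lit 2, nat_lit 3, nat_lit 8, nat_lit 6, nat_lit 7, nat_lit 5, nat_lit 6, nat_lit 4, nat_lit 5, nat_lit 3, nat_lit 4, nat_lit 2, nat_lit 3, nat_lit 8, nat_lit 1, nat_lit 2, nat_lit 3, nat_lit 4, nat_lit 5, nat_lit 6, nat_lit 7, nat_lit 3, nat_lit 4, nat_lit 2, nat_lit 3, nat_lit 8, nat_lit 5, nat_lit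 6, nat_lit 4, nat_lit 5, nat_lit 3, nat_lit 4, nat_lit 2, nat_lit 3, nat_lit 8, nat_lit 0, nat_lit 1, nat_lit 2, nat_lit 3, nat_lit 4, nat_lit 5, nat_lit 8, nat_lit 3, nat_lit 2, nat_lit 1, nat_lit 4, nat_lit 3, nat_lit 2, nat_lit 8, nat_lit 3, nat_lit 11, nat_lit 2, nat_lit 8, nat_lit 10, nat_lit 1, nat_lit 12, nat_lit 15, nat_lit 17, nat_lit 19, nat_lit 16] (Rl.cmp (nat_lit 3004) (nat_lit 4388)))))) (FT.node (nat_lit 4391) (FT.leaf (Fct.mk false (nat_lit 32) (nat_lit 0) (nat_lit 32) [nat_lit 5, nat_lit 4, nat_lit 3, nat_lit 8, nat_lit 2, nat_lit 3, nat_lit 4, nat_lit 5, nat_lit 4, nat_lit 3, nat_lit 2, nat_lit 0, nat_lit 1, nat_lit 9, nat_lit 4, nat_lit 3, nat_lit 2, nat_lit 8, nat_lit 3, nat_lit 11, nat_lit 2, nat_lit 8, nat_lit 10, nat_lit 1, nat_lit 12, nat_lit 8, nat_lit 16, nat_lit 14, nat_lit 13, nat_lit 18, nat_lit 16] (Rl.cmp (nat_lit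 3047) (nat_lit 4271)))) (FT.node (nat_lit 4392) (FT.leaf (Fct.mk false (nat_lit 32) (nat_lit 0) (nat_lit 32) [nat_lit 5, nat_lit 6, nat_lit 4, nat_lit 5, nat_lit 3, nat_lit 4, nat_lit 2, nat_lit 3, nat_lit 8, nat_lit 1, nat_lit 2, nat_lit 3, nat_lit 4, nat_lit 5, nat_lit 1, nat_lit 2, nat_lit 0, nat_lit 1, nat_lit 9, nat_lit 4, nat_lit 3, nat_lit 2, nat_lit 8, nat_lit 3, nat_lit 8, nat_lit 10, nat_lit 15, nat_lit 14, nat_lit 13, nat_lit 12, nat_lit 19, nat_lit 16] (Rl.cmp (nat_lit 3004) (nat_lit 4390)))) (FT.leaf (Fct.mk false (nat_lit 32) (nat_lit 0) (nat_lit 32) [nat_lit 8, nat_lit 3, nat_lit 4, nat_lit 1, nat_lit 2, nat_lit 3, nat_lit 8, nat_lit 5, nat_lit 6, nat_lit 4, nat_lit 5, nat_lit 3, nat_lit 4, nat_lit 2, nat_lit 3, nat_lit 8, nat_lit 1, nat_lit 2, nat_lit 3, nat_lit 4, nat_lit 5, nat_lit 1, nat_lit 3, nat_lit 2, nat_lit 0, nat_lit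 1, nat_lit 9, nat_lit 4, nat_lit 3, nat_lit 2, nat_lit 8, nat_lit 3, nat_lit 11, nat_lit 2, nat_lit 8, nat_lit 10, nat_lit 1, nat_lit 12, nat_lit 15, nat_lit 14, nat_lit 13, nat_lit 12, nat_lit 18] (Rl.cmp (nat_lit 3010) (nat_lit 4391))))))) (FT.node (nat_lit 4396) (FT.node (nat_lit 4394) (FT.leaf (Fct.mk true (nat_lit 4) (nat_lit 412) (nat_lit 33) [] (Rl.df))) (FT.node (nat_lit 4395) (FT.leaf (Fct.mk true (nat_lit 33) (nat_lit 412) (nat_lit 4) [] (Rl.inv (nat_lit 4393)))) (FT.leaf (Fct.mk false (nat_lit 4) (nat_lit 0) (nat_lit 4) [nat_lit 7, nat_lit 4, nat_lit 10, nat_lit 1] (Rl.cmp (nat_lit 263) (nat_lit 2423)))))) (FT.node (nat_lit 4398) (FT.node (nat_lit 4397) (FT.leaf (Fct.mk false (nat_lit 4) (nat_lit 0) (nat_lit 4) [nat_lit 2, nat_lit 3, nat_lit 4, nat_lit 1, nat_lit 2, nat_lit 3, nat_lit 8, nat_lit 6, nat_lit 7, nat_lit 5, nat_lit 6,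 nat_lit 4, nat_lit 5, nat_lit 3, nat_lit 4, nat_lit 2, nat_lit 3, nat_lit 8, nat_lit 1, nat_lit 2, nat_lit 3, nat_lit 4, nat_lit 5, nat_lit 6, nat_lit 7, nat_lit 3, nat_lit 8, nat_lit 2, nat_lit 3, nat_lit 4, nat_lit 1, nat_lit 2, nat_lit 3, nat_lit 8, nat_lit 5, nat_lit 6, nat_lit 4, nat_lit 5, nat_lit 3, nat_lit 4, nat_lit 2, nat_lit 3, nat_lit 8, nat_lit 1, nat_lit 2, nat_lit 3, nat_lit 4, nat_lit 5, nat_lit 2, nat_lit 1, nat_lit 9, nat_lit 4, nat_lit 3, nat_lit 2, nat_lit 8, nat_lit 3, nat_lit 2, nat_lit 8, nat_lit 10, nat_lit 1, nat_lit 16, nat_lit 8, nat_lit 18] (Rl.cmp (nat_lit 243) (nat_lit 4356)))) (FT.leaf (Fct.mk true (nat_lit 4) (nat_lit 28027) (nat_lit 33) [nat_lit 4, nat_lit 3, nat_lit 8, nat_lit 2, nat_lit 3, nat_lit 4, nat_lit 1, nat_lit 2, nat_lit 3, nat_lit 8, nat_lit 5, nat_lit 6, nat_lit 4, nat_lit 5, nat_lit 3, nat_lit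 4, nat_lit 2, nat_lit 3, nat_lit 8, nat_lit 1, nat_lit 2, nat_lit 3, nat_lit 4, nat_lit 5, nat_lit 6, nat_lit 7, nat_lit 8, nat_lit 4, nat_lit 5, nat_lit 3, nat_lit 4, nat_lit 2, nat_lit 3, nat_lit 8, nat_lit 1, nat_lit 2, nat_lit 3, nat_lit 4, nat_lit 5, nat_lit 1, nat_lit 4, nat_lit 3, nat_lit 2, nat_lit 0, nat_lit 1, nat_lit 9, nat_lit 4, nat_lit 3, nat_lit 2, nat_lit 8, nat_lit 3, nat_lit 11, nat_lit 9, nat_lit 10, nat_lit 2, nat_lit 8, nat_lit 10, nat_lit 1, nat_lit 12, nat_lit 15, nat_lit 14, nat_lit 19, nat_lit 16] (Rl.rel (nat_lit 0) [nat_lit 3, nat_lit 4, nat_lit 5, nat_lit 2, nat_lit 3, nat_lit 4, nat_lit 1, nat_lit 2, nat_lit 3, nat_lit 8, nat_lit 0, nat_lit 1, nat_lit 2, nat_lit 3, nat_lit 4, nat_lit 5, nat_lit 6, nat_lit 7, nat_lit 6, nat_lit 2, nat_lit 3, nat_lit 1, nat_lit 9] (nat_lit 33) (nat_lit 2) [nat_lit 4394, nat_lit 4395,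 nat_lit 668, nat_lit 1967] [])))) (FT.node (nat_lit 4399) (FT.leaf (Fct.mk true (nat_lit 4) (nat_lit 2589) (nat_lit 33) [nat_lit 7, nat_lit 5, nat_lit 6, nat_lit 4, nat_lit 5, nat_lit 3, nat_lit 4, nat_lit 2, nat_lit 3, nat_lit 8, nat_lit 1, nat_lit 2, nat_lit 3, nat_lit 4, nat_lit 5, nat_lit 6, nat_lit 7, nat_lit 1, nat_lit 2, nat_lit 3, nat_lit 4, nat_lit 5, nat_lit 2, nat_lit 0, nat_lit 1, nat_lit 3, nat_lit 2, nat_lit 8, nat_lit 3, nat_lit 11, nat_lit 8, nat_lit 10, nat_lit 1, nat_lit 16, nat_lit 12, nat_lit 15, nat_lit 14, nat_lit 17, nat_lit 12, nat_lit 19] (Rl.t1 (nat_lit 4397) (nat_lit 4396)))) (FT.leaf (Fct.mk true (nat_lit 33) (nat_lit 108) (nat_lit 4) [nat_lit 8, nat_lit 7, nat_lit 5, nat_lit 6, nat_lit 4, nat_lit 5, nat_lit 3, nat_lit 4, nat_lit 2, nat_lit 3, nat_lit 8, nat_lit 0, nat_lit 1, nat_lit 2, nat_lit 3, nat_lit 4, nat_lit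 5, nat_lit 6, nat_lit 7, nat_lit 8, nat_lit 3, nat_lit 4, nat_lit 2, nat_lit 3, nat_lit 8, nat_lit 0, nat_lit 1, nat_lit 2, nat_lit 3, nat_lit 4, nat_lit 5, nat_lit 0, nat_lit 1, nat_lit 9, nat_lit 4, nat_lit 3, nat_lit 2, nat_lit 8, nat_lit 3, nat_lit 9, nat_lit 2, nat_lit 15, nat_lit 14, nat_lit 8] (Rl.inv (nat_lit 4398)))))))))

/-- some facts -/
noncomputable def ftc88 : FT := FT.node (nat_lit 4425) (FT.node (nat_lit 4412) (FT.node (nat_lit 4406) (FT.node (nat_lit 4403) (FT.node (nat_lit 4401) (FT.leaf (Fct.mk false (nat_lit 33) (nat_lit 0) (nat_lit 33) [nat_lit 100] (Rl.rel (nat_lit 0) [nat_lit 8, nat_lit 4, nat_lit 5, nat_lit 2, nat_lit 3, nat_lit 4, nat_lit 1, nat_lit 2, nat_lit 3, nat_lit 8, nat_lit 0, nat_lit 1, nat_lit 2, nat_lit 3, nat_lit 4, nat_lit 5, nat_lit 6, nat_lit 7, nat_lit 6, nat_lit 1, nat_lit 8, nat_lit 3, nat_lit 2,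 nat_lit 0, nat_lit 1, nat_lit 4, nat_lit 3, nat_lit 2, nat_lit 8, nat_lit 3, nat_lit 11, nat_lit 10, nat_lit 2, nat_lit 8, nat_lit 10, nat_lit 1, nat_lit 8, nat_lit 12, nat_lit 15, nat_lit 14, nat_lit 17, nat_lit 12, nat_lit 19, nat_lit 16] (nat_lit 33) (nat_lit 3) [nat_lit 4394, nat_lit 2946, nat_lit 668, nat_lit 1967, nat_lit 4396, nat_lit 4398] []))) (FT.node (nat_lit 4402) (FT.leaf (Fct.mk false (nat_lit 4) (nat_lit 0) (nat_lit 4) [nat_lit 6, nat_lit 7, nat_lit 5, nat_lit 6, nat_lit 4, nat_lit 5, nat_lit 3, nat_lit 4, nat_lit 2, nat_lit 3, nat_lit 8, nat_lit 1, nat_lit 2, nat_lit 3, nat_lit 4, nat_lit 5, nat_lit 6, nat_lit 7, nat_lit 4, nat_lit 5, nat_lit 1, nat_lit 2, nat_lit 8, nat_lit 3, nat_lit 10, nat_lit 9, nat_lit 2, nat_lit 12, nat_lit 8, nat_lit 16, nat_lit 14, nat_lit 12, nat_lit 16] (Rl.cmp (nat_lit 263) (nat_lit 2373)))) (FT.leaf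 (Fct.mk false (nat_lit 33) (nat_lit 0) (nat_lit 33) [nat_lit 101] (Rl.rel (nat_lit 0) [nat_lit 8, nat_lit 4, nat_lit 5, nat_lit 2, nat_lit 3, nat_lit 4, nat_lit 1, nat_lit 2, nat_lit 3, nat_lit 8, nat_lit 0, nat_lit 1, nat_lit 2, nat_lit 3, nat_lit 4, nat_lit 5, nat_lit 6, nat_lit 7, nat_lit 6, nat_lit 1, nat_lit 8, nat_lit 3, nat_lit 2, nat_lit 0, nat_lit 1, nat_lit 4, nat_lit 3, nat_lit 2, nat_lit 8, nat_lit 3, nat_lit 11, nat_lit 10, nat_lit 2, nat_lit 8, nat_lit 10, nat_lit 1, nat_lit 8, nat_lit 12, nat_lit 15, nat_lit 14, nat_lit 17, nat_lit 12, nat_lit 19] (nat_lit 33) (nat_lit 3) [nat_lit 4394, nat_lit 4401, nat_lit 668, nat_lit 1967, nat_lit 4277, nat_lit 4398] []))))) (FT.node (nat_lit 4404) (FT.leaf (Fct.mk false (nat_lit 4) (nat_lit 0) (nat_lit 4) [nat_lit 7, nat_lit 6, nat_lit 5, nat_lit 4, nat_lit 3, nat_lit 8, nat_lit 1, nat_lit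 2, nat_lit 3, nat_lit 4, nat_lit 5, nat_lit 1, nat_lit 3, nat_lit 2, nat_lit 8, nat_lit 3, nat_lit 9, nat_lit 2, nat_lit 8, nat_lit 16, nat_lit 14, nat_lit 18, nat_lit 16] (Rl.cmp (nat_lit 2372) (nat_lit 2840)))) (FT.node (nat_lit 4405) (FT.leaf (Fct.mk true (nat_lit 32) (nat_lit 93234) (nat_lit 33) [nat_lit 4, nat_lit 3, nat_lit 8, nat_lit 7, nat_lit 5, nat_lit 6, nat_lit 4, nat_lit 5, nat_lit 3, nat_lit 4, nat_lit 2, nat_lit 3, nat_lit 8, nat_lit 0, nat_lit 1, nat_lit 2, nat_lit 3, nat_lit 4, nat_lit 5, nat_lit 6, nat_lit 7, nat_lit 8, nat_lit 5, nat_lit 2, nat_lit 3, nat_lit 4, nat_lit 1, nat_lit 2, nat_lit 3, nat_lit 8, nat_lit 0, nat_lit 1, nat_lit 2, nat_lit 3, nat_lit 4, nat_lit 5, nat_lit 2, nat_lit 3, nat_lit 0, nat_lit 2, nat_lit 8, nat_lit 16, nat_lit 15, nat_lit 14, nat_lit 16] (Rl.rel (nat_lit 0) [nat_lit 8, nat_lit 4, nat_lit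 5, nat_lit 2, nat_lit 3, nat_lit 4, nat_lit 1, nat_lit 2, nat_lit 3, nat_lit 8, nat_lit 0, nat_lit 1, nat_lit 2, nat_lit 3, nat_lit 4, nat_lit 5, nat_lit 6, nat_lit 7, nat_lit 6, nat_lit 1, nat_lit 8, nat_lit 3, nat_lit 2, nat_lit 0, nat_lit 1, nat_lit 4, nat_lit 3, nat_lit 2, nat_lit 8, nat_lit 3, nat_lit 11, nat_lit 10, nat_lit 2, nat_lit 8, nat_lit 10, nat_lit 1, nat_lit 8, nat_lit 12, nat_lit 15, nat_lit 17, nat_lit 12, nat_lit 19, nat_lit 16] (nat_lit 33) (nat_lit 2) [nat_lit 4394, nat_lit 4403, nat_lit 2999] []))) (FT.leaf (Fct.mk true (nat_lit 32) (nat_lit 2677) (nat_lit 33) [nat_lit 4, nat_lit 3, nat_lit 8, nat_lit 2, nat_lit 3, nat_lit 4, nat_lit 1, nat_lit 2, nat_lit 3, nat_lit 8, nat_lit 7, nat_lit 5, nat_lit 6, nat_lit 4, nat_lit 5, nat_lit 3, nat_lit 4, nat_lit 2, nat_lit 3, nat_lit 8, nat_lit 1, nat_lit 2, nat_lit 3, nat_lit 4,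 nat_lit 5, nat_lit 6, nat_lit 7, nat_lit 3, nat_lit 4, nat_lit 5, nat_lit 3, nat_lit 8, nat_lit 4, nat_lit 3, nat_lit 2, nat_lit 1, nat_lit 9, nat_lit 4, nat_lit 3, nat_lit 2, nat_lit 8, nat_lit 3, nat_lit 11, nat_lit 10, nat_lit 2, nat_lit 8, nat_lit 10, nat_lit 1, nat_lit 16, nat_lit 12, nat_lit 15, nat_lit 14, nat_lit 17, nat_lit 12, nat_lit 19, nat_lit 16] (Rl.t1 (nat_lit 4404) (nat_lit 4368))))))) (FT.node (nat_lit 4409) (FT.node (nat_lit 4407) (FT.leaf (Fct.mk true (nat_lit 33) (nat_lit 527) (nat_lit 32) [nat_lit 7, nat_lit 6, nat_lit 5, nat_lit 3, nat_lit 4, nat_lit 2, nat_lit 3, nat_lit 8, nat_lit 1, nat_lit 2, nat_lit 3, nat_lit 4, nat_lit 5, nat_lit 6, nat_lit 7, nat_lit 6, nat_lit 4, nat_lit 5, nat_lit 3, nat_lit 4, nat_lit 2, nat_lit 3, nat_lit 8, nat_lit 1, nat_lit 2, nat_lit 3, nat_lit 4, nat_lit 5, nat_lit 1, nat_lit 8, nat_lit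 4, nat_lit 3, nat_lit 2, nat_lit 0, nat_lit 1, nat_lit 9, nat_lit 4, nat_lit 3, nat_lit 2, nat_lit 8, nat_lit 3, nat_lit 11, nat_lit 9, nat_lit 10, nat_lit 2, nat_lit 8, nat_lit 10, nat_lit 1, nat_lit 8, nat_lit 16, nat_lit 15, nat_lit 14, nat_lit 12, nat_lit 18, nat_lit 16] (Rl.inv (nat_lit 4405)))) (FT.node (nat_lit 4408) (FT.leaf (Fct.mk true (nat_lit 33) (nat_lit 384) (nat_lit 32) [nat_lit 5, nat_lit 6, nat_lit 7, nat_lit 4, nat_lit 1, nat_lit 2, nat_lit 3, nat_lit 8, nat_lit 5, nat_lit 6, nat_lit 4, nat_lit 5, nat_lit 3, nat_lit 4, nat_lit 2, nat_lit 3, nat_lit 8, nat_lit 1, nat_lit 2, nat_lit 3, nat_lit 4, nat_lit 5, nat_lit 3, nat_lit 2, nat_lit 1, nat_lit 8, nat_lit 3, nat_lit 2, nat_lit 0, nat_lit 1, nat_lit 9, nat_lit 4, nat_lit 3, nat_lit 2, nat_lit 8, nat_lit 3, nat_lit 11, nat_lit 2, nat_lit 8, nat_lit 10, nat_lit 1, nat_lit 12,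 nat_lit 8, nat_lit 16, nat_lit 14, nat_lit 18, nat_lit 16] (Rl.t1 (nat_lit 4406) (nat_lit 4400)))) (FT.leaf (Fct.mk false (nat_lit 33) (nat_lit 0) (nat_lit 33) [nat_lit 102] (Rl.cmp (nat_lit 4402) (nat_lit 4400)))))) (FT.node (nat_lit 4410) (FT.leaf (Fct.mk true (nat_lit 32) (nat_lit 14476) (nat_lit 33) [nat_lit 8, nat_lit 5, nat_lit 2, nat_lit 3, nat_lit 4, nat_lit 1, nat_lit 2, nat_lit 3, nat_lit 8, nat_lit 0, nat_lit 1, nat_lit 2, nat_lit 3, nat_lit 4, nat_lit 5, nat_lit 6, nat_lit 7, nat_lit 6, nat_lit 5, nat_lit 3, nat_lit 4, nat_lit 2, nat_lit 3, nat_lit 8, nat_lit 0, nat_lit 1, nat_lit 2, nat_lit 3, nat_lit 4, nat_lit 5, nat_lit 2, nat_lit 1, nat_lit 3, nat_lit 2, nat_lit 0, nat_lit 1, nat_lit 9, nat_lit 4, nat_lit 3, nat_lit 2, nat_lit 8, nat_lit 3, nat_lit 11, nat_lit 1, nat_lit 12, nat_lit 15, nat_lit 17, nat_lit 18, nat_lit 16] (Rl.rel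 (nat_lit 0) [nat_lit 8, nat_lit 4, nat_lit 5, nat_lit 2, nat_lit 3, nat_lit 4, nat_lit 1, nat_lit 2, nat_lit 3, nat_lit 8, nat_lit 0, nat_lit 1, nat_lit 2, nat_lit 3, nat_lit 4, nat_lit 5, nat_lit 6, nat_lit 7, nat_lit 6, nat_lit 1, nat_lit 8, nat_lit 3, nat_lit 2, nat_lit 0, nat_lit 1, nat_lit 4, nat_lit 3, nat_lit 2, nat_lit 8, nat_lit 3, nat_lit 11, nat_lit 10, nat_lit 2, nat_lit 8, nat_lit 10, nat_lit 1, nat_lit 8, nat_lit 12, nat_lit 15, nat_lit 17, nat_lit 12, nat_lit 19] (nat_lit 33) (nat_lit 2) [nat_lit 4394, nat_lit 2855, nat_lit 3624] []))) (FT.node (nat_lit 4411) (FT.leaf (Fct.mk true (nat_lit 32) (nat_lit 2688) (nat_lit 33) [nat_lit 4, nat_lit 1, nat_lit 2, nat_lit 3, nat_lit 8, nat_lit 0, nat_lit 1, nat_lit 2, nat_lit 3, nat_lit 4, nat_lit 5, nat_lit 6, nat_lit 7, nat_lit 6, nat_lit 4, nat_lit 5, nat_lit 3, nat_lit 4, nat_lit 1,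 nat_lit 2, nat_lit 3, nat_lit 8, nat_lit 0, nat_lit 1, nat_lit 2, nat_lit 3, nat_lit 4, nat_lit 5, nat_lit 4, nat_lit 11, nat_lit 8, nat_lit 10, nat_lit 16, nat_lit 8, nat_lit 12, nat_lit 15, nat_lit 17, nat_lit 12, nat_lit 19] (Rl.t1 (nat_lit 4409) (nat_lit 4323)))) (FT.leaf (Fct.mk true (nat_lit 33) (nat_lit 7064) (nat_lit 32) [nat_lit 8, nat_lit 5, nat_lit 6, nat_lit 4, nat_lit 5, nat_lit 3, nat_lit 4, nat_lit 2, nat_lit 3, nat_lit 8, nat_lit 1, nat_lit 2, nat_lit 3, nat_lit 4, nat_lit 5, nat_lit 6, nat_lit 7, nat_lit 3, nat_lit 8, nat_lit 0, nat_lit 1, nat_lit 2, nat_lit 3, nat_lit 4, nat_lit 5, nat_lit 2, nat_lit 8, nat_lit 10, nat_lit 1, nat_lit 14, nat_lit 17, nat_lit 12] (Rl.inv (nat_lit 4410)))))))) (FT.node (nat_lit 4418) (FT.node (nat_lit 4415) (FT.node (nat_lit 4413) (FT.leaf (Fct.mk true (nat_lit 33) (nat_lit 6752) (nat_lit 32)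 [nat_lit 2, nat_lit 3, nat_lit 8, nat_lit 6, nat_lit 4, nat_lit 5, nat_lit 3, nat_lit 4, nat_lit 2, nat_lit 3, nat_lit 8, nat_lit 1, nat_lit 2, nat_lit 3, nat_lit 4, nat_lit 5, nat_lit 6, nat_lit 7, nat_lit 4, nat_lit 3, nat_lit 8, nat_lit 2, nat_lit 3, nat_lit 4, nat_lit 1, nat_lit 2, nat_lit 3, nat_lit 8, nat_lit 0, nat_lit 1, nat_lit 2, nat_lit 3, nat_lit 4, nat_lit 5, nat_lit 4, nat_lit 3, nat_lit 2, nat_lit 1, nat_lit 8, nat_lit 3, nat_lit 2, nat_lit 0, nat_lit 1, nat_lit 4, nat_lit 3, nat_lit 2, nat_lit 8, nat_lit 3, nat_lit 10, nat_lit 9, nat_lit 2, nat_lit 12, nat_lit 15, nat_lit 8, nat_lit 19, nat_lit 16] (Rl.t1 (nat_lit 4411) (nat_lit 4408)))) (FT.node (nat_lit 4414) (FT.leaf (Fct.mk false (nat_lit 4) (nat_lit 0) (nat_lit 4) [nat_lit 2, nat_lit 3, nat_lit 8, nat_lit 4, nat_lit 5, nat_lit 3, nat_lit 4, nat_lit 2, nat_lit 3, nat_lit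 8, nat_lit 6, nat_lit 7, nat_lit 5, nat_lit 6, nat_lit 4, nat_lit 5, nat_lit 3, nat_lit 4, nat_lit 2, nat_lit 3, nat_lit 8, nat_lit 1, nat_lit 2, nat_lit 3, nat_lit 4, nat_lit 5, nat_lit 6, nat_lit 7, nat_lit 8, nat_lit 2, nat_lit 3, nat_lit 4, nat_lit 1, nat_lit 2, nat_lit 3, nat_lit 8, nat_lit 5, nat_lit 6, nat_lit 4, nat_lit 5, nat_lit 3, nat_lit 4, nat_lit 2, nat_lit 3, nat_lit 8, nat_lit 1, nat_lit 2, nat_lit 3, nat_lit 4, nat_lit 5, nat_lit 2, nat_lit 1, nat_lit 4, nat_lit 3, nat_lit 2, nat_lit 8, nat_lit 3, nat_lit 1, nat_lit 16, nat_lit 8, nat_lit 19, nat_lit 16] (Rl.cmp (nat_lit 2284) (nat_lit 2978)))) (FT.leaf (Fct.mk false (nat_lit 4) (nat_lit 0) (nat_lit 4) [nat_lit 5, nat_lit 4, nat_lit 3, nat_lit 8, nat_lit 6, nat_lit 7, nat_lit 5, nat_lit 6, nat_lit 4, nat_lit 5, nat_lit 3, nat_lit 4, nat_lit 2, nat_lit 3, nat_lit 8, nat_lit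 1, nat_lit 2, nat_lit 3, nat_lit 4, nat_lit 5, nat_lit 6, nat_lit 7, nat_lit 3, nat_lit 4, nat_lit 2, nat_lit 3, nat_lit 8, nat_lit 5, nat_lit 6, nat_lit 4, nat_lit 5, nat_lit 3, nat_lit 4, nat_lit 2, nat_lit 3, nat_lit 8, nat_lit 1, nat_lit 2, nat_lit 3, nat_lit 4, nat_lit 5, nat_lit 2, nat_lit 1, nat_lit 4, nat_lit 3, nat_lit 2, nat_lit 8, nat_lit 3, nat_lit 2, nat_lit 10, nat_lit 1, nat_lit 12, nat_lit 8, nat_lit 16, nat_lit 14, nat_lit 16] (Rl.cmp (nat_lit 2284) (nat_lit 4413)))))) (FT.node (nat_lit 4416) (FT.leaf (Fct.mk false (nat_lit 4) (nat_lit 0) (nat_lit 4) [nat_lit 7, nat_lit 6, nat_lit 5, nat_lit 3, nat_lit 4, nat_lit 2, nat_lit 3, nat_lit 8, nat_lit 1, nat_lit 2, nat_lit 3, nat_lit 4, nat_lit 5, nat_lit 8, nat_lit 3, nat_lit 2, nat_lit 1, nat_lit 9, nat_lit 4, nat_lit 3, nat_lit 2, nat_lit 8, nat_lit 3, nat_lit 10, nat_lit 12,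 nat_lit 8, nat_lit 16, nat_lit 14, nat_lit 16, nat_lit 8, nat_lit 18, nat_lit 16] (Rl.cmp (nat_lit 2372) (nat_lit 4414)))) (FT.node (nat_lit 4417) (FT.leaf (Fct.mk false (nat_lit 4) (nat_lit 0) (nat_lit 4) [nat_lit 7, nat_lit 6, nat_lit 5, nat_lit 3, nat_lit 4, nat_lit 2, nat_lit 3, nat_lit 8, nat_lit 1, nat_lit 2, nat_lit 3, nat_lit 4, nat_lit 5, nat_lit 2, nat_lit 1, nat_lit 3, nat_lit 2, nat_lit 8, nat_lit 3, nat_lit 2, nat_lit 8, nat_lit 16, nat_lit 14, nat_lit 8, nat_lit 19] (Rl.cmp (nat_lit 312) (nat_lit 4415)))) (FT.leaf (Fct.mk true (nat_lit 5) (nat_lit 87905) (nat_lit 33) [nat_lit 3, nat_lit 8, nat_lit 4, nat_lit 5, nat_lit 3, nat_lit 4, nat_lit 1, nat_lit 2, nat_lit 3, nat_lit 8, nat_lit 6, nat_lit 7, nat_lit 5, nat_lit 6, nat_lit 4, nat_lit 5, nat_lit 3, nat_lit 4, nat_lit 2, nat_lit 3, nat_lit 8, nat_lit 1, nat_lit 2, nat_lit 3,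 nat_lit 4, nat_lit 5, nat_lit 6, nat_lit 7, nat_lit 6, nat_lit 4, nat_lit 5, nat_lit 3, nat_lit 4, nat_lit 1, nat_lit 2, nat_lit 3, nat_lit 8, nat_lit 0, nat_lit 1, nat_lit 2, nat_lit 3, nat_lit 4, nat_lit 5, nat_lit 11, nat_lit 10, nat_lit 2, nat_lit 8, nat_lit 10, nat_lit 1, nat_lit 12, nat_lit 15, nat_lit 17, nat_lit 19] (Rl.rel (nat_lit 0) [nat_lit 8, nat_lit 4, nat_lit 5, nat_lit 2, nat_lit 3, nat_lit 4, nat_lit 1, nat_lit 2, nat_lit 3, nat_lit 8, nat_lit 0, nat_lit 1, nat_lit 2, nat_lit 3, nat_lit 4, nat_lit 5, nat_lit 6, nat_lit 7, nat_lit 6, nat_lit 8, nat_lit 3, nat_lit 2, nat_lit 1, nat_lit 4, nat_lit 3, nat_lit 2, nat_lit 8, nat_lit 3, nat_lit 11, nat_lit 10, nat_lit 2, nat_lit 8, nat_lit 10, nat_lit 1, nat_lit 8, nat_lit 12, nat_lit 15, nat_lit 14, nat_lit 17, nat_lit 12, nat_lit 19, nat_lit 16] (nat_lit 33) (nat_lit 2) [nat_lit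 4394, nat_lit 4416, nat_lit 2378, nat_lit 2425] [])))))) (FT.node (nat_lit 4421) (FT.node (nat_lit 4419) (FT.leaf (Fct.mk true (nat_lit 5) (nat_lit 552) (nat_lit 33) [nat_lit 8, nat_lit 5, nat_lit 2, nat_lit 3, nat_lit 4, nat_lit 1, nat_lit 2, nat_lit 3, nat_lit 8, nat_lit 6, nat_lit 7, nat_lit 5, nat_lit 6, nat_lit 4, nat_lit 5, nat_lit 3, nat_lit 4, nat_lit 2, nat_lit 3, nat_lit 8, nat_lit 1, nat_lit 2, nat_lit 3, nat_lit 4, nat_lit 5, nat_lit 6, nat_lit 7, nat_lit 3, nat_lit 8, nat_lit 5, nat_lit 2, nat_lit 3, nat_lit 4, nat_lit 1, nat_lit 2, nat_lit 3, nat_lit 8, nat_lit 0, nat_lit 1, nat_lit 2, nat_lit 3, nat_lit 4, nat_lit 5, nat_lit 3, nat_lit 2, nat_lit 1, nat_lit 8, nat_lit 3, nat_lit 2, nat_lit 0, nat_lit 1, nat_lit 4, nat_lit 3, nat_lit 2, nat_lit 8, nat_lit 3, nat_lit 11, nat_lit 8, nat_lit 10, nat_lit 1, nat_lit 15, nat_lit 13,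 nat_lit 12, nat_lit 18] (Rl.t1 (nat_lit 4417) (nat_lit 2957)))) (FT.node (nat_lit 4420) (FT.leaf (Fct.mk true (nat_lit 33) (nat_lit 2135) (nat_lit 5) [nat_lit 7, nat_lit 6, nat_lit 5, nat_lit 4, nat_lit 2, nat_lit 3, nat_lit 8, nat_lit 0, nat_lit 1, nat_lit 2, nat_lit 3, nat_lit 4, nat_lit 5, nat_lit 6, nat_lit 7, nat_lit 3, nat_lit 8, nat_lit 1, nat_lit 2, nat_lit 3, nat_lit 4, nat_lit 5, nat_lit 3, nat_lit 2, nat_lit 1, nat_lit 4, nat_lit 3, nat_lit 2, nat_lit 8, nat_lit 3, nat_lit 8, nat_lit 10, nat_lit 9, nat_lit 2, nat_lit 8, nat_lit 16, nat_lit 15, nat_lit 14, nat_lit 13, nat_lit 19] (Rl.inv (nat_lit 4418)))) (FT.leaf (Fct.mk true (nat_lit 33) (nat_lit 386) (nat_lit 5) [nat_lit 3, nat_lit 8, nat_lit 4, nat_lit 5, nat_lit 3, nat_lit 4, nat_lit 2, nat_lit 3, nat_lit 8, nat_lit 0, nat_lit 1, nat_lit 2, nat_lit 3, nat_lit 4, nat_lit 5, nat_lit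 6, nat_lit 7, nat_lit 4, nat_lit 3, nat_lit 8, nat_lit 1, nat_lit 2, nat_lit 3, nat_lit 4, nat_lit 5, nat_lit 8, nat_lit 3, nat_lit 0, nat_lit 17, nat_lit 16] (Rl.t1 (nat_lit 4419) (nat_lit 4400)))))) (FT.node (nat_lit 4423) (FT.node (nat_lit 4422) (FT.leaf (Fct.mk false (nat_lit 4) (nat_lit 0) (nat_lit 4) [nat_lit 6, nat_lit 7, nat_lit 5, nat_lit 6, nat_lit 4, nat_lit 5, nat_lit 3, nat_lit 4, nat_lit 2, nat_lit 3, nat_lit 8, nat_lit 1, nat_lit 2, nat_lit 3, nat_lit 4, nat_lit 5, nat_lit 6, nat_lit 7, nat_lit 2, nat_lit 8, nat_lit 3, nat_lit 9, nat_lit 2, nat_lit 12, nat_lit 8, nat_lit 16, nat_lit 14, nat_lit 12, nat_lit 16] (Rl.cmp (nat_lit 241) (nat_lit 2804)))) (FT.leaf (Fct.mk false (nat_lit 33) (nat_lit 0) (nat_lit 33) [nat_lit 102] (Rl.cmp (nat_lit 4402) (nat_lit 4400))))) (FT.node (nat_lit 4424) (FT.leaf (Fct.mk true (nat_lit 5) (nat_lit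 19998) (nat_lit 33) [nat_lit 3, nat_lit 8, nat_lit 7, nat_lit 6, nat_lit 4, nat_lit 5, nat_lit 3, nat_lit 4, nat_lit 1, nat_lit 2, nat_lit 3, nat_lit 8, nat_lit 0, nat_lit 1, nat_lit 2, nat_lit 3, nat_lit 4, nat_lit 5, nat_lit 6, nat_lit 7, nat_lit 4, nat_lit 3, nat_lit 8, nat_lit 1, nat_lit 2, nat_lit 3, nat_lit 4, nat_lit 5, nat_lit 2, nat_lit 1, nat_lit 8, nat_lit 3, nat_lit 2, nat_lit 0, nat_lit 1, nat_lit 4, nat_lit 3, nat_lit 2, nat_lit 8, nat_lit 3, nat_lit 11, nat_lit 2, nat_lit 10, nat_lit 1, nat_lit 16, nat_lit 15, nat_lit 14, nat_lit 17, nat_lit 12, nat_lit 19] (Rl.rel (nat_lit 0) [nat_lit 8, nat_lit 4, nat_lit 5, nat_lit 2, nat_lit 3, nat_lit 4, nat_lit 1, nat_lit 2, nat_lit 3, nat_lit 8, nat_lit 0, nat_lit 1, nat_lit 2, nat_lit 3, nat_lit 4, nat_lit 5, nat_lit 6, nat_lit 7, nat_lit 6, nat_lit 1, nat_lit 8, nat_lit 3, nat_lit 2,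 nat_lit 0, nat_lit 1, nat_lit 4, nat_lit 3, nat_lit 2, nat_lit 8, nat_lit 3, nat_lit 11, nat_lit 10, nat_lit 2, nat_lit 8, nat_lit 10, nat_lit 1, nat_lit 15, nat_lit 17, nat_lit 12, nat_lit 19, nat_lit 16] (nat_lit 33) (nat_lit 2) [nat_lit 4394, nat_lit 4421, nat_lit 2619] []))) (FT.leaf (Fct.mk true (nat_lit 5) (nat_lit 2616) (nat_lit 33) [nat_lit 4, nat_lit 2, nat_lit 3, nat_lit 8, nat_lit 6, nat_lit 7, nat_lit 5, nat_lit 6, nat_lit 4, nat_lit 5, nat_lit 3, nat_lit 4, nat_lit 2, nat_lit 3, nat_lit 8, nat_lit 1, nat_lit 2, nat_lit 3, nat_lit 4, nat_lit 5, nat_lit 6, nat_lit 7, nat_lit 4, nat_lit 2, nat_lit 3, nat_lit 8, nat_lit 1, nat_lit 2, nat_lit 3, nat_lit 4, nat_lit 5, nat_lit 2, nat_lit 1, nat_lit 8, nat_lit 3, nat_lit 2, nat_lit 0, nat_lit 1, nat_lit 9, nat_lit 4, nat_lit 3, nat_lit 2, nat_lit 8, nat_lit 3, nat_lit 11, nat_lit 10, nat_lit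 1, nat_lit 16, nat_lit 15, nat_lit 14, nat_lit 17, nat_lit 12] (Rl.t1 (nat_lit 4423) (nat_lit 2827))))))))) (FT.node (nat_lit 4437) (FT.node (nat_lit 4431) (FT.node (nat_lit 4428) (FT.node (nat_lit 4426) (FT.leaf (Fct.mk true (nat_lit 33) (nat_lit 7507) (nat_lit 5) [nat_lit 3, nat_lit 4, nat_lit 2, nat_lit 3, nat_lit 8, nat_lit 7, nat_lit 5, nat_lit 6, nat_lit 4, nat_lit 5, nat_lit 3, nat_lit 4, nat_lit 2, nat_lit 3, nat_lit 8, nat_lit 0, nat_lit 1, nat_lit 2, nat_lit 3, nat_lit 4, nat_lit 5, nat_lit 6, nat_lit 7, nat_lit 3, nat_lit 8, nat_lit 2, nat_lit 3, nat_lit 4, nat_lit 1, nat_lit 2, nat_lit 3, nat_lit 8, nat_lit 5, nat_lit 6, nat_lit 4, nat_lit 5, nat_lit 3, nat_lit 4, nat_lit 2, nat_lit 3, nat_lit 8, nat_lit 1, nat_lit 2, nat_lit 3, nat_lit 4, nat_lit 5, nat_lit 8, nat_lit 4, nat_lit 3, nat_lit 2, nat_lit 1, nat_lit 9, nat_lit 4, nat_lit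 3, nat_lit 2, nat_lit 8, nat_lit 3, nat_lit 11, nat_lit 2, nat_lit 10, nat_lit 1, nat_lit 14, nat_lit 16] (Rl.inv (nat_lit 4424)))) (FT.node (nat_lit 4427) (FT.leaf (Fct.mk true (nat_lit 33) (nat_lit 405) (nat_lit 5) [nat_lit 5, nat_lit 3, nat_lit 4, nat_lit 1, nat_lit 2, nat_lit 3, nat_lit 8, nat_lit 0, nat_lit 1, nat_lit 2, nat_lit 3, nat_lit 4, nat_lit 5, nat_lit 6, nat_lit 7, nat_lit 1, nat_lit 2, nat_lit 3, nat_lit 8, nat_lit 0, nat_lit 1, nat_lit 2, nat_lit 3, nat_lit 4, nat_lit 5, nat_lit 0, nat_lit 1, nat_lit 2, nat_lit 3, nat_lit 0, nat_lit 15, nat_lit 8] (Rl.t1 (nat_lit 4425) (nat_lit 4422)))) (FT.leaf (Fct.mk false (nat_lit 4) (nat_lit 0) (nat_lit 4) [nat_lit 7, nat_lit 5, nat_lit 4, nat_lit 3, nat_lit 8, nat_lit 1, nat_lit 2, nat_lit 3, nat_lit 4, nat_lit 5] (Rl.cmp (nat_lit 243) (nat_lit 2984)))))) (FT.node (nat_lit 4429) (FT.leaf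 (Fct.mk true (nat_lit 32) (nat_lit 117714) (nat_lit 33) [nat_lit 2, nat_lit 3, nat_lit 8, nat_lit 7, nat_lit 6, nat_lit 4, nat_lit 5, nat_lit 3, nat_lit 4, nat_lit 2, nat_lit 3, nat_lit 8, nat_lit 0, nat_lit 1, nat_lit 2, nat_lit 3, nat_lit 4, nat_lit 5, nat_lit 6, nat_lit 7, nat_lit 5, nat_lit 3, nat_lit 4, nat_lit 2, nat_lit 3, nat_lit 8, nat_lit 0, nat_lit 1, nat_lit 2, nat_lit 3, nat_lit 4, nat_lit 5, nat_lit 8, nat_lit 3, nat_lit 2, nat_lit 1, nat_lit 9, nat_lit 4, nat_lit 3, nat_lit 2, nat_lit 8, nat_lit 3, nat_lit 11, nat_lit 8, nat_lit 10, nat_lit 12, nat_lit 15, nat_lit 14, nat_lit 13, nat_lit 12, nat_lit 19, nat_lit 16] (Rl.rel (nat_lit 0) [nat_lit 5, nat_lit 4, nat_lit 1, nat_lit 2, nat_lit 3, nat_lit 8, nat_lit 0, nat_lit 1, nat_lit 2, nat_lit 3, nat_lit 4, nat_lit 5, nat_lit 6, nat_lit 7, nat_lit 6, nat_lit 2, nat_lit 1, nat_lit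 8, nat_lit 3, nat_lit 2, nat_lit 0, nat_lit 1, nat_lit 4, nat_lit 3, nat_lit 2, nat_lit 8, nat_lit 3, nat_lit 11, nat_lit 10, nat_lit 2, nat_lit 8, nat_lit 10, nat_lit 1, nat_lit 8, nat_lit 12, nat_lit 15, nat_lit 14, nat_lit 17, nat_lit 12, nat_lit 19, nat_lit 16] (nat_lit 33) (nat_lit 2) [nat_lit 4394, nat_lit 4427, nat_lit 3423] []))) (FT.node (nat_lit 4430) (FT.leaf (Fct.mk true (nat_lit 32) (nat_lit 2307) (nat_lit 33) [nat_lit 3, nat_lit 4, nat_lit 2, nat_lit 3, nat_lit 8, nat_lit 6, nat_lit 7, nat_lit 5, nat_lit 6, nat_lit 4, nat_lit 5, nat_lit 3, nat_lit 4, nat_lit 2, nat_lit 3, nat_lit 8, nat_lit 1, nat_lit 2, nat_lit 3, nat_lit 4, nat_lit 5, nat_lit 6, nat_lit 7, nat_lit 4, nat_lit 3, nat_lit 8, nat_lit 0, nat_lit 1, nat_lit 2, nat_lit 3, nat_lit 4, nat_lit 5, nat_lit 2, nat_lit 1, nat_lit 9, nat_lit 4, nat_lit 3, nat_lit 2, nat_lit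 8, nat_lit 3, nat_lit 10, nat_lit 1, nat_lit 8, nat_lit 12, nat_lit 15, nat_lit 12, nat_lit 18, nat_lit 16] (Rl.t1 (nat_lit 4428) (nat_lit 4355)))) (FT.leaf (Fct.mk true (nat_lit 33) (nat_lit 1005) (nat_lit 32) [nat_lit 3, nat_lit 8, nat_lit 4, nat_lit 5, nat_lit 3, nat_lit 4, nat_lit 2, nat_lit 3, nat_lit 8, nat_lit 6, nat_lit 7, nat_lit 5, nat_lit 6, nat_lit 4, nat_lit 5, nat_lit 3, nat_lit 4, nat_lit 2, nat_lit 3, nat_lit 8, nat_lit 1, nat_lit 2, nat_lit 3, nat_lit 4, nat_lit 5, nat_lit 6, nat_lit 7, nat_lit 4, nat_lit 5, nat_lit 3, nat_lit 4, nat_lit 1, nat_lit 2, nat_lit 3, nat_lit 8, nat_lit 0, nat_lit 1, nat_lit 2, nat_lit 3, nat_lit 4, nat_lit 5, nat_lit 3, nat_lit 2, nat_lit 0, nat_lit 1, nat_lit 4, nat_lit 3, nat_lit 2, nat_lit 8, nat_lit 3, nat_lit 2, nat_lit 8, nat_lit 10, nat_lit 1, nat_lit 15, nat_lit 14, nat_lit 8, nat_lit 18,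 nat_lit 16] (Rl.inv (nat_lit 4429))))))) (FT.node (nat_lit 4434) (FT.node (nat_lit 4432) (FT.leaf (Fct.mk true (nat_lit 33) (nat_lit 572) (nat_lit 32) [nat_lit 3, nat_lit 8, nat_lit 4, nat_lit 5, nat_lit 3, nat_lit 4, nat_lit 2, nat_lit 3, nat_lit 8, nat_lit 6, nat_lit 7, nat_lit 5, nat_lit 6, nat_lit 4, nat_lit 5, nat_lit 3, nat_lit 4, nat_lit 2, nat_lit 3, nat_lit 8, nat_lit 1, nat_lit 2, nat_lit 3, nat_lit 4, nat_lit 5, nat_lit 6, nat_lit 7, nat_lit 8, nat_lit 6, nat_lit 5, nat_lit 3, nat_lit 4, nat_lit 1, nat_lit 2, nat_lit 3, nat_lit 8, nat_lit 0, nat_lit 1, nat_lit 2, nat_lit 3, nat_lit 4, nat_lit 5, nat_lit 0, nat_lit 1, nat_lit 3, nat_lit 2, nat_lit 8, nat_lit 3, nat_lit 11, nat_lit 8, nat_lit 10, nat_lit 15, nat_lit 14, nat_lit 17, nat_lit 12, nat_lit 18, nat_lit 16] (Rl.t1 (nat_lit 4430) (nat_lit 4400)))) (FT.node (nat_lit 4433) (FT.leaf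 (Fct.mk false (nat_lit 4) (nat_lit 0) (nat_lit 4) [nat_lit 2, nat_lit 3, nat_lit 8, nat_lit 4, nat_lit 5, nat_lit 3, nat_lit 4, nat_lit 2, nat_lit 3, nat_lit 8, nat_lit 6, nat_lit 7, nat_lit 5, nat_lit 6, nat_lit 4, nat_lit 5, nat_lit 3, nat_lit 4, nat_lit 2, nat_lit 3, nat_lit 8, nat_lit 1, nat_lit 2, nat_lit 3, nat_lit 4, nat_lit 5, nat_lit 6, nat_lit 7, nat_lit 8, nat_lit 3, nat_lit 4, nat_lit 2, nat_lit 3, nat_lit 8, nat_lit 5, nat_lit 6, nat_lit 4, nat_lit 5, nat_lit 3, nat_lit 4, nat_lit 2, nat_lit 3, nat_lit 8, nat_lit 1, nat_lit 2, nat_lit 3, nat_lit 4, nat_lit 5, nat_lit 2, nat_lit 3, nat_lit 8, nat_lit 4, nat_lit 3, nat_lit 2, nat_lit 1, nat_lit 9, nat_lit 4, nat_lit 3, nat_lit 2, nat_lit 8, nat_lit 3, nat_lit 10, nat_lit 2, nat_lit 8, nat_lit 10, nat_lit 1, nat_lit 8, nat_lit 16, nat_lit 14, nat_lit 18] (Rl.cmp (nat_lit 2372) (nat_lit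 2645)))) (FT.leaf (Fct.mk true (nat_lit 33) (nat_lit 3551) (nat_lit 33) [nat_lit 3, nat_lit 4, nat_lit 2, nat_lit 3, nat_lit 8, nat_lit 6, nat_lit 7, nat_lit 5, nat_lit 6, nat_lit 4, nat_lit 5, nat_lit 3, nat_lit 4, nat_lit 2, nat_lit 3, nat_lit 8, nat_lit 0, nat_lit 1, nat_lit 2, nat_lit 3, nat_lit 4, nat_lit 5, nat_lit 6, nat_lit 7, nat_lit 6, nat_lit 4, nat_lit 3, nat_lit 2, nat_lit 1, nat_lit 9, nat_lit 4, nat_lit 3, nat_lit 2, nat_lit 8, nat_lit 3, nat_lit 1, nat_lit 9, nat_lit 16, nat_lit 14, nat_lit 17, nat_lit 12, nat_lit 18] (Rl.rel (nat_lit 0) [nat_lit 8, nat_lit 4, nat_lit 5, nat_lit 2, nat_lit 3, nat_lit 4, nat_lit 1, nat_lit 2, nat_lit 3, nat_lit 8, nat_lit 0, nat_lit 1, nat_lit 2, nat_lit 3, nat_lit 4, nat_lit 5, nat_lit 6, nat_lit 7, nat_lit 6, nat_lit 1, nat_lit 2, nat_lit 0, nat_lit 1, nat_lit 3, nat_lit 2, nat_lit 8, nat_lit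 3, nat_lit 11, nat_lit 10, nat_lit 2, nat_lit 8, nat_lit 10, nat_lit 1, nat_lit 8, nat_lit 12, nat_lit 15, nat_lit 17, nat_lit 12, nat_lit 19, nat_lit 16] (nat_lit 33) (nat_lit 2) [nat_lit 4394, nat_lit 4432, nat_lit 4398] []))))) (FT.node (nat_lit 4435) (FT.leaf (Fct.mk true (nat_lit 33) (nat_lit 515) (nat_lit 33) [nat_lit 3, nat_lit 4, nat_lit 2, nat_lit 3, nat_lit 8, nat_lit 6, nat_lit 7, nat_lit 5, nat_lit 6, nat_lit 4, nat_lit 5, nat_lit 3, nat_lit 4, nat_lit 2, nat_lit 3, nat_lit 8, nat_lit 0, nat_lit 1, nat_lit 2, nat_lit 3, nat_lit 4, nat_lit 5, nat_lit 6, nat_lit 7, nat_lit 8, nat_lit 3, nat_lit 4, nat_lit 2, nat_lit 3, nat_lit 8, nat_lit 0, nat_lit 1, nat_lit 2, nat_lit 3, nat_lit 4, nat_lit 5, nat_lit 1, nat_lit 2, nat_lit 8, nat_lit 3, nat_lit 11, nat_lit 1, nat_lit 17, nat_lit 19, nat_lit 16] (Rl.t1 (nat_lit 4433) (nat_lit 4400))))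 (FT.node (nat_lit 4436) (FT.leaf (Fct.mk false (nat_lit 4) (nat_lit 0) (nat_lit 4) [nat_lit 3] (Rl.cmp (nat_lit 241) (nat_lit 239)))) (FT.leaf (Fct.mk false (nat_lit 33) (nat_lit 0) (nat_lit 33) [nat_lit 102] (Rl.cmp (nat_lit 4402) (nat_lit 4400)))))))) (FT.node (nat_lit 4443) (FT.node (nat_lit 4440) (FT.node (nat_lit 4438) (FT.leaf (Fct.mk true (nat_lit 33) (nat_lit 998) (nat_lit 33) [] (Rl.rel (nat_lit 0) [nat_lit 5, nat_lit 4, nat_lit 1, nat_lit 2, nat_lit 3, nat_lit 8, nat_lit 0, nat_lit 1, nat_lit 2, nat_lit 3, nat_lit 4, nat_lit 5, nat_lit 6, nat_lit 7, nat_lit 6, nat_lit 2, nat_lit 1, nat_lit 8, nat_lit 3, nat_lit 2, nat_lit 0, nat_lit 1, nat_lit 4, nat_lit 3, nat_lit 2, nat_lit 8, nat_lit 3, nat_lit 11, nat_lit 10, nat_lit 2, nat_lit 8, nat_lit 10, nat_lit 1, nat_lit 12, nat_lit 15, nat_lit 14, nat_lit 17, nat_lit 12, nat_lit 19, nat_lit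 16] (nat_lit 33) (nat_lit 2) [nat_lit 4394, nat_lit 4435, nat_lit 4393] []))) (FT.node (nat_lit 4439) (FT.leaf (Fct.mk true (nat_lit 33) (nat_lit 415) (nat_lit 33) [nat_lit 101] (Rl.t1 (nat_lit 4437) (nat_lit 4436)))) (FT.leaf (Fct.mk false (nat_lit 4) (nat_lit 0) (nat_lit 4) [nat_lit 2, nat_lit 3, nat_lit 4, nat_lit 1, nat_lit 2, nat_lit 3, nat_lit 8, nat_lit 6, nat_lit 7, nat_lit 5, nat_lit 6, nat_lit 4, nat_lit 5, nat_lit 3, nat_lit 4, nat_lit 2, nat_lit 3, nat_lit 8, nat_lit 1, nat_lit 2, nat_lit 3, nat_lit 4, nat_lit 5, nat_lit 6, nat_lit 7, nat_lit 3, nat_lit 4, nat_lit 1, nat_lit 2, nat_lit 3, nat_lit 8, nat_lit 5, nat_lit 6, nat_lit 4, nat_lit 5, nat_lit 3, nat_lit 4, nat_lit 2, nat_lit 3, nat_lit 8, nat_lit 1, nat_lit 2, nat_lit 3, nat_lit 4, nat_lit 5, nat_lit 2, nat_lit 3, nat_lit 10, nat_lit 1, nat_lit 14, nat_lit 16, nat_lit 8,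 nat_lit 18, nat_lit 16] (Rl.cmp (nat_lit 2372) (nat_lit 2976)))))) (FT.node (nat_lit 4441) (FT.leaf (Fct.mk false (nat_lit 4) (nat_lit 0) (nat_lit 4) [nat_lit 6, nat_lit 5, nat_lit 4, nat_lit 3, nat_lit 8, nat_lit 2, nat_lit 3, nat_lit 4, nat_lit 1, nat_lit 2, nat_lit 3, nat_lit 8, nat_lit 5, nat_lit 6, nat_lit 4, nat_lit 5, nat_lit 3, nat_lit 4, nat_lit 2, nat_lit 3, nat_lit 8, nat_lit 1, nat_lit 2, nat_lit 3, nat_lit 4, nat_lit 5, nat_lit 6, nat_lit 7, nat_lit 4, nat_lit 3, nat_lit 8, nat_lit 2, nat_lit 3, nat_lit 4, nat_lit 1, nat_lit 2, nat_lit 3, nat_lit 8, nat_lit 5, nat_lit 6, nat_lit 4, nat_lit 5, nat_lit 3, nat_lit 4, nat_lit 2, nat_lit 3, nat_lit 8, nat_lit 1, nat_lit 2, nat_lit 3, nat_lit 4, nat_lit 5, nat_lit 8, nat_lit 4, nat_lit 3, nat_lit 2, nat_lit 1, nat_lit 9, nat_lit 4, nat_lit 3, nat_lit 2, nat_lit 8, nat_lit 3, nat_lit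 10, nat_lit 1, nat_lit 12, nat_lit 8, nat_lit 16, nat_lit 14, nat_lit 16, nat_lit 8, nat_lit 19] (Rl.cmp (nat_lit 2372) (nat_lit 4439)))) (FT.node (nat_lit 4442) (FT.leaf (Fct.mk true (nat_lit 32) (nat_lit 1073) (nat_lit 33) [nat_lit 7, nat_lit 6, nat_lit 5, nat_lit 4, nat_lit 1, nat_lit 2, nat_lit 3, nat_lit 8, nat_lit 0, nat_lit 1, nat_lit 2, nat_lit 3, nat_lit 4, nat_lit 5, nat_lit 6, nat_lit 7, nat_lit 5, nat_lit 4, nat_lit 3, nat_lit 8, nat_lit 1, nat_lit 2, nat_lit 3, nat_lit 4, nat_lit 5, nat_lit 2, nat_lit 1, nat_lit 3, nat_lit 2, nat_lit 0, nat_lit 1, nat_lit 9, nat_lit 4, nat_lit 3, nat_lit 2, nat_lit 8, nat_lit 3, nat_lit 2, nat_lit 10, nat_lit 1, nat_lit 8, nat_lit 12, nat_lit 15, nat_lit 14, nat_lit 17, nat_lit 19, nat_lit 16] (Rl.rel (nat_lit 0) [nat_lit 5, nat_lit 4, nat_lit 1, nat_lit 2, nat_lit 3, nat_lit 8, nat_lit 0, nat_lit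 1, nat_lit 2, nat_lit 3, nat_lit 4, nat_lit 5, nat_lit 6, nat_lit 7, nat_lit 6, nat_lit 1, nat_lit 2, nat_lit 0, nat_lit 1, nat_lit 4, nat_lit 3, nat_lit 2, nat_lit 8, nat_lit 3, nat_lit 11, nat_lit 10, nat_lit 2, nat_lit 8, nat_lit 10, nat_lit 1, nat_lit 8, nat_lit 12, nat_lit 15, nat_lit 14, nat_lit 17, nat_lit 19, nat_lit 16] (nat_lit 33) (nat_lit 2) [nat_lit 4394, nat_lit 4440, nat_lit 3344] []))) (FT.leaf (Fct.mk true (nat_lit 32) (nat_lit 1072) (nat_lit 33) [nat_lit 7, nat_lit 6, nat_lit 5, nat_lit 4, nat_lit 1, nat_lit 2, nat_lit 3, nat_lit 8, nat_lit 0, nat_lit 1, nat_lit 2, nat_lit 3, nat_lit 4, nat_lit 5, nat_lit 6, nat_lit 7, nat_lit 5, nat_lit 4, nat_lit 3, nat_lit 8, nat_lit 1, nat_lit 2, nat_lit 3, nat_lit 4, nat_lit 5, nat_lit 2, nat_lit 1, nat_lit 4, nat_lit 3, nat_lit 2, nat_lit 0, nat_lit 1, nat_lit 9, nat_lit 4, nat_lit 3,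 nat_lit 2, nat_lit 8, nat_lit 3, nat_lit 2, nat_lit 10, nat_lit 1, nat_lit 8, nat_lit 12, nat_lit 15, nat_lit 14, nat_lit 17, nat_lit 19, nat_lit 16] (Rl.t1 (nat_lit 4441) (nat_lit 2995))))))) (FT.node (nat_lit 4446) (FT.node (nat_lit 4444) (FT.leaf (Fct.mk true (nat_lit 33) (nat_lit 526) (nat_lit 32) [nat_lit 4, nat_lit 3, nat_lit 8, nat_lit 7, nat_lit 5, nat_lit 6, nat_lit 4, nat_lit 5, nat_lit 3, nat_lit 4, nat_lit 2, nat_lit 3, nat_lit 8, nat_lit 0, nat_lit 1, nat_lit 2, nat_lit 3, nat_lit 4, nat_lit 5, nat_lit 6, nat_lit 7, nat_lit 2, nat_lit 3, nat_lit 4, nat_lit 5, nat_lit 2, nat_lit 1, nat_lit 3, nat_lit 2, nat_lit 0, nat_lit 1, nat_lit 9, nat_lit 4, nat_lit 3, nat_lit 2, nat_lit 8, nat_lit 3, nat_lit 10, nat_lit 9, nat_lit 2, nat_lit 8, nat_lit 12, nat_lit 15, nat_lit 12, nat_lit 18, nat_lit 16] (Rl.inv (nat_lit 4442)))) (FT.node (nat_lit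 4445) (FT.leaf (Fct.mk true (nat_lit 33) (nat_lit 225) (nat_lit 32) [nat_lit 5, nat_lit 3, nat_lit 4, nat_lit 1, nat_lit 2, nat_lit 3, nat_lit 8, nat_lit 0, nat_lit 1, nat_lit 2, nat_lit 3, nat_lit 4, nat_lit 5, nat_lit 6, nat_lit 7, nat_lit 3, nat_lit 8, nat_lit 6, nat_lit 4, nat_lit 5, nat_lit 3, nat_lit 4, nat_lit 2, nat_lit 3, nat_lit 8, nat_lit 1, nat_lit 2, nat_lit 3, nat_lit 4, nat_lit 5, nat_lit 1, nat_lit 3, nat_lit 2, nat_lit 0, nat_lit 1, nat_lit 9, nat_lit 4, nat_lit 3, nat_lit 2, nat_lit 8, nat_lit 3, nat_lit 8, nat_lit 10, nat_lit 0, nat_lit 8, nat_lit 12, nat_lit 15, nat_lit 12, nat_lit 16] (Rl.t1 (nat_lit 4443) (nat_lit 4400)))) (FT.leaf (Fct.mk true (nat_lit 33) (nat_lit 6890) (nat_lit 33) [nat_lit 5, nat_lit 3, nat_lit 2, nat_lit 1, nat_lit 8, nat_lit 3, nat_lit 2, nat_lit 0, nat_lit 1, nat_lit 9, nat_lit 4, nat_lit 3, nat_lit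 2, nat_lit 8, nat_lit 3, nat_lit 11, nat_lit 2, nat_lit 8, nat_lit 10, nat_lit 1, nat_lit 12, nat_lit 15, nat_lit 14, nat_lit 17, nat_lit 12, nat_lit 19, nat_lit 16] (Rl.rel (nat_lit 0) [nat_lit 8, nat_lit 4, nat_lit 5, nat_lit 2, nat_lit 3, nat_lit 4, nat_lit 1, nat_lit 2, nat_lit 3, nat_lit 8, nat_lit 0, nat_lit 1, nat_lit 2, nat_lit 3, nat_lit 4, nat_lit 5, nat_lit 6, nat_lit 7, nat_lit 6, nat_lit 2, nat_lit 1, nat_lit 3, nat_lit 2, nat_lit 8, nat_lit 3, nat_lit 11, nat_lit 10, nat_lit 2, nat_lit 8, nat_lit 10, nat_lit 1, nat_lit 8, nat_lit 12, nat_lit 15, nat_lit 14, nat_lit 17, nat_lit 12, nat_lit 19, nat_lit 16] (nat_lit 33) (nat_lit 2) [nat_lit 4394, nat_lit 2901, nat_lit 4398] []))))) (FT.node (nat_lit 4448) (FT.node (nat_lit 4447) (FT.leaf (Fct.mk true (nat_lit 32) (nat_lit 3104) (nat_lit 33) [nat_lit 3, nat_lit 4, nat_lit 2, nat_lit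 3, nat_lit 8, nat_lit 0, nat_lit 1, nat_lit 2, nat_lit 3, nat_lit 4, nat_lit 5, nat_lit 6, nat_lit 7, nat_lit 4, nat_lit 2, nat_lit 3, nat_lit 8, nat_lit 1, nat_lit 2, nat_lit 3, nat_lit 4, nat_lit 5, nat_lit 1, nat_lit 2, nat_lit 3, nat_lit 8, nat_lit 4, nat_lit 3, nat_lit 2, nat_lit 1, nat_lit 9, nat_lit 4, nat_lit 3, nat_lit 2, nat_lit 8, nat_lit 3, nat_lit 8, nat_lit 10, nat_lit 12, nat_lit 15, nat_lit 14, nat_lit 17, nat_lit 18, nat_lit 16] (Rl.rel (nat_lit 0) [nat_lit 5, nat_lit 4, nat_lit 1, nat_lit 2, nat_lit 3, nat_lit 8, nat_lit 0, nat_lit 1, nat_lit 2, nat_lit 3, nat_lit 4, nat_lit 5, nat_lit 6, nat_lit 7, nat_lit 6, nat_lit 8, nat_lit 3, nat_lit 2, nat_lit 0, nat_lit 1, nat_lit 4, nat_lit 3, nat_lit 2, nat_lit 8, nat_lit 3, nat_lit 11, nat_lit 2, nat_lit 8, nat_lit 10, nat_lit 1, nat_lit 8, nat_lit 12, nat_lit 15, nat_lit 17, nat_lit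 12, nat_lit 19, nat_lit 16] (nat_lit 33) (nat_lit 2) [nat_lit 4394, nat_lit 2832, nat_lit 3344] []))) (FT.leaf (Fct.mk true (nat_lit 32) (nat_lit 109) (nat_lit 33) [nat_lit 3, nat_lit 8, nat_lit 6, nat_lit 4, nat_lit 5, nat_lit 3, nat_lit 4, nat_lit 2, nat_lit 3, nat_lit 8, nat_lit 1, nat_lit 2, nat_lit 3, nat_lit 4, nat_lit 5, nat_lit 6, nat_lit 7, nat_lit 5, nat_lit 4, nat_lit 3, nat_lit 2, nat_lit 1, nat_lit 9, nat_lit 4, nat_lit 3, nat_lit 2, nat_lit 8, nat_lit 3, nat_lit 8, nat_lit 10, nat_lit 12, nat_lit 15, nat_lit 14, nat_lit 18, nat_lit 16] (Rl.t1 (nat_lit 4446) (nat_lit 4358))))) (FT.node (nat_lit 4449) (FT.leaf (Fct.mk true (nat_lit 33) (nat_lit 411) (nat_lit 32) [nat_lit 8, nat_lit 2, nat_lit 3, nat_lit 4, nat_lit 1, nat_lit 2, nat_lit 3, nat_lit 8, nat_lit 0, nat_lit 1, nat_lit 2, nat_lit 3, nat_lit 4, nat_lit 5, nat_lit 6, nat_lit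 7, nat_lit 5, nat_lit 4, nat_lit 3, nat_lit 8, nat_lit 2, nat_lit 3, nat_lit 4, nat_lit 5, nat_lit 1, nat_lit 8, nat_lit 3, nat_lit 2, nat_lit 0, nat_lit 1, nat_lit 9, nat_lit 4, nat_lit 3, nat_lit 2, nat_lit 8, nat_lit 3, nat_lit 2, nat_lit 8, nat_lit 10, nat_lit 1, nat_lit 15, nat_lit 14, nat_lit 18, nat_lit 16] (Rl.inv (nat_lit 4447)))) (FT.leaf (Fct.mk true (nat_lit 32) (nat_lit 59004) (nat_lit 33) [nat_lit 5, nat_lit 6, nat_lit 4, nat_lit 5, nat_lit 3, nat_lit 4, nat_lit 2, nat_lit 3, nat_lit 8, nat_lit 1, nat_lit 2, nat_lit 3, nat_lit 4, nat_lit 5, nat_lit 6, nat_lit 7, nat_lit 8, nat_lit 4, nat_lit 5, nat_lit 3, nat_lit 4, nat_lit 1, nat_lit 2, nat_lit 3, nat_lit 8, nat_lit 0, nat_lit 1, nat_lit 2, nat_lit 3, nat_lit 4, nat_lit 5, nat_lit 3, nat_lit 2, nat_lit 0, nat_lit 1, nat_lit 9, nat_lit 4, nat_lit 3, nat_lit 2, nat_lit 8, nat_lit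 3, nat_lit 10, nat_lit 2, nat_lit 8, nat_lit 10, nat_lit 1, nat_lit 16, nat_lit 12, nat_lit 15, nat_lit 14, nat_lit 17, nat_lit 12, nat_lit 16] (Rl.rel (nat_lit 0) [nat_lit 5, nat_lit 4, nat_lit 1, nat_lit 2, nat_lit 3, nat_lit 8, nat_lit 0, nat_lit 1, nat_lit 2, nat_lit 3, nat_lit 4, nat_lit 5, nat_lit 6, nat_lit 7, nat_lit 6, nat_lit 0, nat_lit 1, nat_lit 4, nat_lit 3, nat_lit 2, nat_lit 8, nat_lit 3, nat_lit 11, nat_lit 10, nat_lit 2, nat_lit 8, nat_lit 10, nat_lit 1, nat_lit 8, nat_lit 12, nat_lit 15, nat_lit 14, nat_lit 17, nat_lit 12, nat_lit 19, nat_lit 16] (nat_lit 33) (nat_lit 2) [nat_lit 4394, nat_lit 4362, nat_lit 3344] []))))))))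

/-- some facts -/
noncomputable def ftc89 : FT := FT.node (nat_lit 4475) (FT.node (nat_lit 4462) (FT.node (nat_lit 4456) (FT.node (nat_lit 4453) (FT.node (nat_lit 4451) (FT.leaf (Fct.mk true (nat_lit 32) (nat_lit 3984) (nat_lit 33) [nat_lit 0, nat_lit 1, nat_lit 2, nat_lit 3, nat_lit 4, nat_lit 5, nat_lit 6, nat_lit 7, nat_lit 2, nat_lit 3, nat_lit 4, nat_lit 5, nat_lit 2, nat_lit 1, nat_lit 8, nat_lit 4, nat_lit 3, nat_lit 2, nat_lit 0, nat_lit 1, nat_lit 9, nat_lit 4, nat_lit 3, nat_lit 2, nat_lit 8, nat_lit 3, nat_lit 2, nat_lit 10, nat_lit 1, nat_lit 8, nat_lit 12, nat_lit 15, nat_lit 17, nat_lit 12] (Rl.t1 (nat_lit 4449) (nat_lit 4357)))) (FT.node (nat_lit 4452) (FT.leaf (Fct.mk true (nat_lit 33) (nat_lit 2131) (nat_lit 32) [nat_lit 3, nat_lit 4, nat_lit 1, nat_lit 2, nat_lit 3, nat_lit 8, nat_lit 0, nat_lit 1, nat_lit 2, nat_lit 3, nat_lit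 4, nat_lit 5, nat_lit 6, nat_lit 7, nat_lit 3, nat_lit 8, nat_lit 1, nat_lit 2, nat_lit 3, nat_lit 4, nat_lit 5, nat_lit 2, nat_lit 0, nat_lit 1, nat_lit 4, nat_lit 3, nat_lit 2, nat_lit 8, nat_lit 3, nat_lit 9, nat_lit 2, nat_lit 8, nat_lit 12, nat_lit 15, nat_lit 12, nat_lit 16] (Rl.inv (nat_lit 4450)))) (FT.leaf (Fct.mk true (nat_lit 33) (nat_lit 804) (nat_lit 32) [nat_lit 3, nat_lit 4, nat_lit 2, nat_lit 3, nat_lit 8, nat_lit 7, nat_lit 5, nat_lit 6, nat_lit 4, nat_lit 5, nat_lit 3, nat_lit 4, nat_lit 2, nat_lit 3, nat_lit 8, nat_lit 0, nat_lit 1, nat_lit 2, nat_lit 3, nat_lit 4, nat_lit 5, nat_lit 6, nat_lit 7, nat_lit 5, nat_lit 4, nat_lit 2, nat_lit 3, nat_lit 8, nat_lit 1, nat_lit 2, nat_lit 3, nat_lit 4, nat_lit 5, nat_lit 3, nat_lit 2, nat_lit 0, nat_lit 1, nat_lit 9, nat_lit 4, nat_lit 3, nat_lit 2, nat_lit 8, nat_lit 3, nat_lit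 8, nat_lit 10, nat_lit 0, nat_lit 14, nat_lit 13, nat_lit 12, nat_lit 19] (Rl.t1 (nat_lit 4451) (nat_lit 4400)))))) (FT.node (nat_lit 4454) (FT.leaf (Fct.mk false (nat_lit 4) (nat_lit 0) (nat_lit 4) [nat_lit 7, nat_lit 5, nat_lit 4, nat_lit 3, nat_lit 8, nat_lit 2, nat_lit 3, nat_lit 4, nat_lit 5, nat_lit 2, nat_lit 1, nat_lit 4, nat_lit 3, nat_lit 2, nat_lit 8, nat_lit 3, nat_lit 8, nat_lit 10, nat_lit 1, nat_lit 14, nat_lit 12, nat_lit 18] (Rl.cmp (nat_lit 312) (nat_lit 2835)))) (FT.node (nat_lit 4455) (FT.leaf (Fct.mk false (nat_lit 4) (nat_lit 0) (nat_lit 4) [nat_lit 7, nat_lit 8, nat_lit 3, nat_lit 4, nat_lit 5, nat_lit 8, nat_lit 3, nat_lit 8, nat_lit 10, nat_lit 8] (Rl.cmp (nat_lit 243) (nat_lit 4453)))) (FT.leaf (Fct.mk false (nat_lit 4) (nat_lit 0) (nat_lit 4) [nat_lit 6, nat_lit 5, nat_lit 4, nat_lit 3, nat_lit 8, nat_lit 2, nat_lit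 3, nat_lit 4, nat_lit 1, nat_lit 2, nat_lit 3, nat_lit 8, nat_lit 5, nat_lit 6, nat_lit 4, nat_lit 5, nat_lit 3, nat_lit 4, nat_lit 2, nat_lit 3, nat_lit 8, nat_lit 1, nat_lit 2, nat_lit 3, nat_lit 4, nat_lit 5, nat_lit 6, nat_lit 7, nat_lit 3, nat_lit 12] (Rl.cmp (nat_lit 1995) (nat_lit 4454))))))) (FT.node (nat_lit 4459) (FT.node (nat_lit 4457) (FT.leaf (Fct.mk false (nat_lit 33) (nat_lit 0) (nat_lit 33) [nat_lit 103] (Rl.rel (nat_lit 0) [nat_lit 5, nat_lit 4, nat_lit 1, nat_lit 2, nat_lit 3, nat_lit 8, nat_lit 0, nat_lit 1, nat_lit 2, nat_lit 3, nat_lit 4, nat_lit 5, nat_lit 6, nat_lit 7, nat_lit 6, nat_lit 8, nat_lit 3, nat_lit 2, nat_lit 0, nat_lit 1, nat_lit 4, nat_lit 3, nat_lit 2, nat_lit 8, nat_lit 3, nat_lit 11, nat_lit 2, nat_lit 8, nat_lit 10, nat_lit 1, nat_lit 12, nat_lit 15, nat_lit 17, nat_lit 12, nat_lit 19, nat_lit 16] (nat_lit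 33) (nat_lit 3) [nat_lit 4394, nat_lit 4455, nat_lit 3344, nat_lit 4286, nat_lit 4410] []))) (FT.node (nat_lit 4458) (FT.leaf (Fct.mk true (nat_lit 33) (nat_lit 382) (nat_lit 32) [nat_lit 7, nat_lit 6, nat_lit 5, nat_lit 2, nat_lit 3, nat_lit 4, nat_lit 1, nat_lit 2, nat_lit 3, nat_lit 8, nat_lit 0, nat_lit 1, nat_lit 2, nat_lit 3, nat_lit 4, nat_lit 5, nat_lit 6, nat_lit 7, nat_lit 8, nat_lit 6, nat_lit 4, nat_lit 5, nat_lit 3, nat_lit 4, nat_lit 2, nat_lit 3, nat_lit 8, nat_lit 1, nat_lit 2, nat_lit 3, nat_lit 4, nat_lit 5, nat_lit 1, nat_lit 8, nat_lit 3, nat_lit 2, nat_lit 0, nat_lit 1, nat_lit 9, nat_lit 4, nat_lit 3, nat_lit 2, nat_lit 8, nat_lit 3, nat_lit 11, nat_lit 9, nat_lit 10, nat_lit 2, nat_lit 8, nat_lit 10, nat_lit 1, nat_lit 8, nat_lit 16, nat_lit 14, nat_lit 12, nat_lit 18, nat_lit 16] (Rl.t1 (nat_lit 4407) (nat_lit 4456))))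 (FT.leaf (Fct.mk false (nat_lit 33) (nat_lit 0) (nat_lit 33) [nat_lit 5, nat_lit 6, nat_lit 4, nat_lit 5, nat_lit 3, nat_lit 4, nat_lit 2, nat_lit 3, nat_lit 8, nat_lit 1, nat_lit 2, nat_lit 3, nat_lit 4, nat_lit 5, nat_lit 6, nat_lit 7, nat_lit 9, nat_lit 4, nat_lit 3, nat_lit 2, nat_lit 8, nat_lit 3, nat_lit 11, nat_lit 1, nat_lit 12, nat_lit 15, nat_lit 14, nat_lit 13, nat_lit 12] (Rl.cmp (nat_lit 4402) (nat_lit 4456)))))) (FT.node (nat_lit 4460) (FT.leaf (Fct.mk true (nat_lit 33) (nat_lit 403) (nat_lit 32) [nat_lit 8, nat_lit 4, nat_lit 5, nat_lit 3, nat_lit 4, nat_lit 2, nat_lit 3, nat_lit 8, nat_lit 6, nat_lit 7, nat_lit 5, nat_lit 6, nat_lit 4, nat_lit 5, nat_lit 3, nat_lit 4, nat_lit 2, nat_lit 3, nat_lit 8, nat_lit 0, nat_lit 1, nat_lit 2, nat_lit 3, nat_lit 4, nat_lit 5, nat_lit 6, nat_lit 7, nat_lit 6, nat_lit 5, nat_lit 4, nat_lit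 3, nat_lit 8, nat_lit 0, nat_lit 1, nat_lit 2, nat_lit 3, nat_lit 4, nat_lit 5, nat_lit 1, nat_lit 2, nat_lit 3, nat_lit 8, nat_lit 4, nat_lit 3, nat_lit 2, nat_lit 1, nat_lit 9, nat_lit 4, nat_lit 3, nat_lit 2, nat_lit 8, nat_lit 3, nat_lit 0, nat_lit 2, nat_lit 15, nat_lit 14, nat_lit 12] (Rl.t1 (nat_lit 4412) (nat_lit 4458)))) (FT.node (nat_lit 4461) (FT.leaf (Fct.mk false (nat_lit 33) (nat_lit 0) (nat_lit 33) [nat_lit 2, nat_lit 3, nat_lit 8, nat_lit 1, nat_lit 2, nat_lit 3, nat_lit 4, nat_lit 5, nat_lit 6, nat_lit 7, nat_lit 2, nat_lit 3, nat_lit 8, nat_lit 0, nat_lit 1, nat_lit 2, nat_lit 3, nat_lit 4, nat_lit 5, nat_lit 3, nat_lit 2, nat_lit 1, nat_lit 9, nat_lit 4, nat_lit 3, nat_lit 2, nat_lit 8, nat_lit 3, nat_lit 0, nat_lit 14, nat_lit 8, nat_lit 18] (Rl.cmp (nat_lit 4456) (nat_lit 4400)))) (FT.leaf (Fct.mk false (nat_lit 33) (nat_lit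 0) (nat_lit 33) [nat_lit 104] (Rl.cmp (nat_lit 4400) (nat_lit 4460)))))))) (FT.node (nat_lit 4468) (FT.node (nat_lit 4465) (FT.node (nat_lit 4463) (FT.leaf (Fct.mk true (nat_lit 33) (nat_lit 113) (nat_lit 5) [nat_lit 8, nat_lit 3, nat_lit 4, nat_lit 2, nat_lit 3, nat_lit 8, nat_lit 7, nat_lit 5, nat_lit 6, nat_lit 4, nat_lit 5, nat_lit 3, nat_lit 4, nat_lit 2, nat_lit 3, nat_lit 8, nat_lit 1, nat_lit 2, nat_lit 3, nat_lit 4, nat_lit 5, nat_lit 6, nat_lit 7, nat_lit 8, nat_lit 4, nat_lit 5, nat_lit 3, nat_lit 4, nat_lit 2, nat_lit 3, nat_lit 8, nat_lit 0, nat_lit 1, nat_lit 2, nat_lit 3, nat_lit 4, nat_lit 5, nat_lit 1, nat_lit 2, nat_lit 0, nat_lit 1, nat_lit 3, nat_lit 2, nat_lit 8, nat_lit 3, nat_lit 11, nat_lit 2, nat_lit 8, nat_lit 10, nat_lit 1, nat_lit 19] (Rl.t1 (nat_lit 4420) (nat_lit 4461)))) (FT.node (nat_lit 4464) (FT.leaf (Fct.mk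 false (nat_lit 33) (nat_lit 0) (nat_lit 33) [nat_lit 2, nat_lit 3, nat_lit 8, nat_lit 1, nat_lit 2, nat_lit 3, nat_lit 4, nat_lit 5, nat_lit 6, nat_lit 7, nat_lit 2, nat_lit 3, nat_lit 8, nat_lit 0, nat_lit 1, nat_lit 2, nat_lit 3, nat_lit 4, nat_lit 5, nat_lit 3, nat_lit 2, nat_lit 1, nat_lit 9, nat_lit 4, nat_lit 3, nat_lit 2, nat_lit 8, nat_lit 3, nat_lit 0, nat_lit 14, nat_lit 8, nat_lit 18] (Rl.cmp (nat_lit 4456) (nat_lit 4400)))) (FT.leaf (Fct.mk false (nat_lit 33) (nat_lit 0) (nat_lit 33) [nat_lit 5, nat_lit 4, nat_lit 3, nat_lit 8, nat_lit 2, nat_lit 3, nat_lit 4, nat_lit 1, nat_lit 2, nat_lit 3, nat_lit 8, nat_lit 5, nat_lit 6, nat_lit 4, nat_lit 5, nat_lit 3, nat_lit 4, nat_lit 2, nat_lit 3, nat_lit 8, nat_lit 1, nat_lit 2, nat_lit 3, nat_lit 4, nat_lit 5, nat_lit 6, nat_lit 7, nat_lit 4, nat_lit 2, nat_lit 3, nat_lit 8, nat_lit 0,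 nat_lit 1, nat_lit 2, nat_lit 3, nat_lit 4, nat_lit 5, nat_lit 1, nat_lit 4, nat_lit 3, nat_lit 2, nat_lit 8, nat_lit 3, nat_lit 11, nat_lit 10, nat_lit 2, nat_lit 8, nat_lit 10, nat_lit 1, nat_lit 12, nat_lit 15, nat_lit 16, nat_lit 8, nat_lit 19, nat_lit 16] (Rl.cmp (nat_lit 4402) (nat_lit 4463)))))) (FT.node (nat_lit 4466) (FT.leaf (Fct.mk false (nat_lit 33) (nat_lit 0) (nat_lit 33) [nat_lit 1, nat_lit 2, nat_lit 3, nat_lit 8, nat_lit 6, nat_lit 7, nat_lit 5, nat_lit 6, nat_lit 4, nat_lit 5, nat_lit 3, nat_lit 4, nat_lit 2, nat_lit 3, nat_lit 8, nat_lit 1, nat_lit 2, nat_lit 3, nat_lit 4, nat_lit 5, nat_lit 6, nat_lit 7, nat_lit 8, nat_lit 5, nat_lit 6, nat_lit 4, nat_lit 5, nat_lit 3, nat_lit 4, nat_lit 2, nat_lit 3, nat_lit 8, nat_lit 1, nat_lit 2, nat_lit 3, nat_lit 4, nat_lit 5, nat_lit 1, nat_lit 9, nat_lit 4, nat_lit 3, nat_lit 2,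 nat_lit 8, nat_lit 3, nat_lit 11, nat_lit 8, nat_lit 12, nat_lit 15, nat_lit 13, nat_lit 19] (Rl.cmp (nat_lit 4456) (nat_lit 4464)))) (FT.node (nat_lit 4467) (FT.leaf (Fct.mk false (nat_lit 33) (nat_lit 0) (nat_lit 33) [nat_lit 4, nat_lit 5, nat_lit 3, nat_lit 4, nat_lit 2, nat_lit 3, nat_lit 8, nat_lit 6, nat_lit 7, nat_lit 5, nat_lit 6, nat_lit 4, nat_lit 5, nat_lit 3, nat_lit 4, nat_lit 2, nat_lit 3, nat_lit 8, nat_lit 0, nat_lit 1, nat_lit 2, nat_lit 3, nat_lit 4, nat_lit 5, nat_lit 6, nat_lit 7, nat_lit 5, nat_lit 6, nat_lit 4, nat_lit 5, nat_lit 3, nat_lit 4, nat_lit 1, nat_lit 2, nat_lit 3, nat_lit 8, nat_lit 0, nat_lit 1, nat_lit 2, nat_lit 3, nat_lit 4, nat_lit 5, nat_lit 1, nat_lit 2, nat_lit 8, nat_lit 3, nat_lit 9, nat_lit 2, nat_lit 8, nat_lit 12, nat_lit 15, nat_lit 17] (Rl.cmp (nat_lit 4456) (nat_lit 4465)))) (FT.leaf (Fct.mk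 false (nat_lit 33) (nat_lit 0) (nat_lit 33) [nat_lit 5, nat_lit 3, nat_lit 4, nat_lit 2, nat_lit 3, nat_lit 8, nat_lit 6, nat_lit 7, nat_lit 5, nat_lit 6, nat_lit 4, nat_lit 5, nat_lit 3, nat_lit 4, nat_lit 2, nat_lit 3, nat_lit 8, nat_lit 0, nat_lit 1, nat_lit 2, nat_lit 3, nat_lit 4, nat_lit 5, nat_lit 6, nat_lit 7, nat_lit 6, nat_lit 3, nat_lit 4, nat_lit 5, nat_lit 2, nat_lit 3, nat_lit 4, nat_lit 1, nat_lit 2, nat_lit 3, nat_lit 8, nat_lit 0, nat_lit 1, nat_lit 2, nat_lit 3, nat_lit 4, nat_lit 5, nat_lit 2, nat_lit 3, nat_lit 8, nat_lit 4, nat_lit 3, nat_lit 2, nat_lit 0, nat_lit 1, nat_lit 9, nat_lit 4, nat_lit 3, nat_lit 2, nat_lit 8, nat_lit 3, nat_lit 11, nat_lit 2, nat_lit 16, nat_lit 14, nat_lit 12, nat_lit 19, nat_lit 16] (Rl.cmp (nat_lit 4402) (nat_lit 4466))))))) (FT.node (nat_lit 4471) (FT.node (nat_lit 4469) (FT.leaf (Fct.mk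 false (nat_lit 33) (nat_lit 0) (nat_lit 33) [nat_lit 5, nat_lit 3, nat_lit 4, nat_lit 2, nat_lit 3, nat_lit 8, nat_lit 6, nat_lit 7, nat_lit 5, nat_lit 6, nat_lit 4, nat_lit 5, nat_lit 3, nat_lit 4, nat_lit 2, nat_lit 3, nat_lit 8, nat_lit 1, nat_lit 2, nat_lit 3, nat_lit 4, nat_lit 5, nat_lit 6, nat_lit 7, nat_lit 2, nat_lit 3, nat_lit 8, nat_lit 5, nat_lit 6, nat_lit 4, nat_lit 5, nat_lit 3, nat_lit 4, nat_lit 2, nat_lit 3, nat_lit 8, nat_lit 1, nat_lit 2, nat_lit 3, nat_lit 4, nat_lit 5, nat_lit 1, nat_lit 2, nat_lit 0, nat_lit 1, nat_lit 9, nat_lit 4, nat_lit 3, nat_lit 2, nat_lit 8, nat_lit 3, nat_lit 11, nat_lit 1, nat_lit 17, nat_lit 12, nat_lit 18] (Rl.cmp (nat_lit 4456) (nat_lit 4467)))) (FT.node (nat_lit 4470) (FT.leaf (Fct.mk false (nat_lit 33) (nat_lit 0) (nat_lit 33) [nat_lit 5, nat_lit 6, nat_lit 4, nat_lit 5, nat_lit 3, nat_lit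 4, nat_lit 2, nat_lit 3, nat_lit 8, nat_lit 1, nat_lit 2, nat_lit 3, nat_lit 4, nat_lit 5, nat_lit 6, nat_lit 7, nat_lit 6, nat_lit 5, nat_lit 4, nat_lit 3, nat_lit 8, nat_lit 2, nat_lit 3, nat_lit 4, nat_lit 1, nat_lit 2, nat_lit 3, nat_lit 8, nat_lit 5, nat_lit 6, nat_lit 4, nat_lit 5, nat_lit 3, nat_lit 4, nat_lit 2, nat_lit 3, nat_lit 8, nat_lit 1, nat_lit 2, nat_lit 3, nat_lit 4, nat_lit 5, nat_lit 1, nat_lit 8, nat_lit 4, nat_lit 3, nat_lit 2, nat_lit 0, nat_lit 1, nat_lit 9, nat_lit 4, nat_lit 3, nat_lit 2, nat_lit 8, nat_lit 3, nat_lit 11, nat_lit 2, nat_lit 8, nat_lit 10, nat_lit 1, nat_lit 8, nat_lit 16, nat_lit 14, nat_lit 17, nat_lit 12, nat_lit 19] (Rl.cmp (nat_lit 4456) (nat_lit 4468)))) (FT.leaf (Fct.mk false (nat_lit 33) (nat_lit 0) (nat_lit 33) [nat_lit 4, nat_lit 2, nat_lit 3, nat_lit 8, nat_lit 1, nat_lit 2, nat_lit 3, nat_lit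 4, nat_lit 5, nat_lit 6, nat_lit 7, nat_lit 4, nat_lit 2, nat_lit 3, nat_lit 8, nat_lit 1, nat_lit 2, nat_lit 3, nat_lit 4, nat_lit 5, nat_lit 1, nat_lit 3, nat_lit 2, nat_lit 0, nat_lit 1, nat_lit 4, nat_lit 3, nat_lit 2, nat_lit 8, nat_lit 3, nat_lit 11, nat_lit 2, nat_lit 8, nat_lit 10, nat_lit 1, nat_lit 12, nat_lit 8, nat_lit 16, nat_lit 14, nat_lit 17, nat_lit 12, nat_lit 19] (Rl.cmp (nat_lit 4402) (nat_lit 4469)))))) (FT.node (nat_lit 4473) (FT.node (nat_lit 4472) (FT.leaf (Fct.mk true (nat_lit 33) (nat_lit 536) (nat_lit 32) [nat_lit 4, nat_lit 2, nat_lit 3, nat_lit 8, nat_lit 5, nat_lit 6, nat_lit 4, nat_lit 5, nat_lit 3, nat_lit 4, nat_lit 2, nat_lit 3, nat_lit 8, nat_lit 0, nat_lit 1, nat_lit 2, nat_lit 3, nat_lit 4, nat_lit 5, nat_lit 6, nat_lit 7, nat_lit 0, nat_lit 1, nat_lit 3, nat_lit 2, nat_lit 8, nat_lit 3, nat_lit 9, nat_lit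 10, nat_lit 2, nat_lit 8, nat_lit 10, nat_lit 1, nat_lit 16, nat_lit 12, nat_lit 15, nat_lit 14, nat_lit 17, nat_lit 12] (Rl.t1 (nat_lit 4431) (nat_lit 4470)))) (FT.leaf (Fct.mk false (nat_lit 33) (nat_lit 0) (nat_lit 33) [nat_lit 6, nat_lit 4, nat_lit 5, nat_lit 2, nat_lit 3, nat_lit 4, nat_lit 1, nat_lit 2, nat_lit 3, nat_lit 8, nat_lit 0, nat_lit 1, nat_lit 2, nat_lit 3, nat_lit 4, nat_lit 5, nat_lit 6, nat_lit 7, nat_lit 6, nat_lit 5, nat_lit 4, nat_lit 3, nat_lit 8, nat_lit 2, nat_lit 3, nat_lit 4, nat_lit 1, nat_lit 2, nat_lit 3, nat_lit 8, nat_lit 5, nat_lit 6, nat_lit 4, nat_lit 5, nat_lit 3, nat_lit 4, nat_lit 2, nat_lit 3, nat_lit 8, nat_lit 1, nat_lit 2, nat_lit 3, nat_lit 4, nat_lit 5, nat_lit 4, nat_lit 3, nat_lit 2, nat_lit 0, nat_lit 1, nat_lit 9, nat_lit 4, nat_lit 3, nat_lit 2, nat_lit 8, nat_lit 3, nat_lit 10, nat_lit 2, nat_lit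 8, nat_lit 10, nat_lit 1, nat_lit 16, nat_lit 15, nat_lit 14, nat_lit 16, nat_lit 8, nat_lit 18] (Rl.cmp (nat_lit 4456) (nat_lit 4402))))) (FT.node (nat_lit 4474) (FT.leaf (Fct.mk false (nat_lit 33) (nat_lit 0) (nat_lit 33) [nat_lit 5, nat_lit 4, nat_lit 3, nat_lit 8, nat_lit 6, nat_lit 7, nat_lit 5, nat_lit 6, nat_lit 4, nat_lit 5, nat_lit 3, nat_lit 4, nat_lit 1, nat_lit 2, nat_lit 3, nat_lit 8, nat_lit 0, nat_lit 1, nat_lit 2, nat_lit 3, nat_lit 4, nat_lit 5, nat_lit 6, nat_lit 7, nat_lit 2, nat_lit 3, nat_lit 8, nat_lit 1, nat_lit 2, nat_lit 3, nat_lit 4, nat_lit 5, nat_lit 4, nat_lit 9, nat_lit 15, nat_lit 14, nat_lit 8, nat_lit 16] (Rl.cmp (nat_lit 4402) (nat_lit 4472)))) (FT.leaf (Fct.mk false (nat_lit 33) (nat_lit 0) (nat_lit 33) [nat_lit 3, nat_lit 4, nat_lit 5, nat_lit 2, nat_lit 3, nat_lit 4, nat_lit 1, nat_lit 2, nat_lit 3, nat_lit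 8, nat_lit 6, nat_lit 7, nat_lit 5, nat_lit 6, nat_lit 4, nat_lit 5, nat_lit 3, nat_lit 4, nat_lit 2, nat_lit 3, nat_lit 8, nat_lit 1, nat_lit 2, nat_lit 3, nat_lit 4, nat_lit 5, nat_lit 6, nat_lit 7, nat_lit 8, nat_lit 4, nat_lit 5, nat_lit 3, nat_lit 4, nat_lit 1, nat_lit 2, nat_lit 3, nat_lit 8, nat_lit 0, nat_lit 1, nat_lit 2, nat_lit 3, nat_lit 4, nat_lit 5, nat_lit 3, nat_lit 11, nat_lit 8, nat_lit 10, nat_lit 1, nat_lit 12, nat_lit 15, nat_lit 17, nat_lit 12, nat_lit 19, nat_lit 16] (Rl.cmp (nat_lit 4456) (nat_lit 4473))))))))) (FT.node (nat_lit 4487) (FT.node (nat_lit 4481) (FT.node (nat_lit 4478) (FT.node (nat_lit 4476) (FT.leaf (Fct.mk false (nat_lit 33) (nat_lit 0) (nat_lit 33) [nat_lit 4, nat_lit 1, nat_lit 2, nat_lit 3, nat_lit 8, nat_lit 7, nat_lit 5, nat_lit 6, nat_lit 4, nat_lit 5, nat_lit 3, nat_lit 4, nat_lit 2, nat_lit 3,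 nat_lit 8, nat_lit 1, nat_lit 2, nat_lit 3, nat_lit 4, nat_lit 5, nat_lit 6, nat_lit 7, nat_lit 5, nat_lit 4, nat_lit 3, nat_lit 8, nat_lit 0, nat_lit 1, nat_lit 2, nat_lit 3, nat_lit 4, nat_lit 5, nat_lit 4, nat_lit 3, nat_lit 2, nat_lit 1, nat_lit 8, nat_lit 3, nat_lit 2, nat_lit 0, nat_lit 1, nat_lit 4, nat_lit 3, nat_lit 2, nat_lit 8, nat_lit 3, nat_lit 0, nat_lit 2, nat_lit 15, nat_lit 14, nat_lit 17, nat_lit 19, nat_lit 16] (Rl.cmp (nat_lit 4402) (nat_lit 4474)))) (FT.node (nat_lit 4477) (FT.leaf (Fct.mk false (nat_lit 33) (nat_lit 0) (nat_lit 33) [nat_lit 8, nat_lit 7, nat_lit 5, nat_lit 6, nat_lit 4, nat_lit 5, nat_lit 3, nat_lit 4, nat_lit 2, nat_lit 3, nat_lit 8, nat_lit 0, nat_lit 1, nat_lit 2, nat_lit 3, nat_lit 4, nat_lit 5, nat_lit 6, nat_lit 7, nat_lit 2, nat_lit 3, nat_lit 8, nat_lit 1, nat_lit 2, nat_lit 3, nat_lit 4, nat_lit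 5, nat_lit 2, nat_lit 1, nat_lit 3, nat_lit 2, nat_lit 0, nat_lit 1, nat_lit 4, nat_lit 3, nat_lit 2, nat_lit 8, nat_lit 3, nat_lit 10, nat_lit 12, nat_lit 15, nat_lit 17, nat_lit 12, nat_lit 19] (Rl.cmp (nat_lit 4456) (nat_lit 4475)))) (FT.leaf (Fct.mk false (nat_lit 33) (nat_lit 0) (nat_lit 33) [nat_lit 5, nat_lit 4, nat_lit 1, nat_lit 2, nat_lit 3, nat_lit 8, nat_lit 0, nat_lit 1, nat_lit 2, nat_lit 3, nat_lit 4, nat_lit 5, nat_lit 6, nat_lit 7, nat_lit 3, nat_lit 4, nat_lit 2, nat_lit 3, nat_lit 8, nat_lit 1, nat_lit 2, nat_lit 3, nat_lit 4, nat_lit 5, nat_lit 3, nat_lit 2, nat_lit 1, nat_lit 8, nat_lit 3, nat_lit 2, nat_lit 0, nat_lit 1, nat_lit 9, nat_lit 4, nat_lit 3, nat_lit 2, nat_lit 8, nat_lit 3, nat_lit 10, nat_lit 0, nat_lit 14, nat_lit 13, nat_lit 16] (Rl.cmp (nat_lit 4400) (nat_lit 4476)))))) (FT.node (nat_lit 4479) (FT.leaf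 (Fct.mk false (nat_lit 33) (nat_lit 0) (nat_lit 33) [nat_lit 3, nat_lit 4, nat_lit 2, nat_lit 3, nat_lit 8, nat_lit 0, nat_lit 1, nat_lit 2, nat_lit 3, nat_lit 4, nat_lit 5, nat_lit 6, nat_lit 7, nat_lit 8, nat_lit 3, nat_lit 4, nat_lit 2, nat_lit 3, nat_lit 8, nat_lit 5, nat_lit 6, nat_lit 4, nat_lit 5, nat_lit 3, nat_lit 4, nat_lit 2, nat_lit 3, nat_lit 8, nat_lit 1, nat_lit 2, nat_lit 3, nat_lit 4, nat_lit 5, nat_lit 1, nat_lit 8, nat_lit 4, nat_lit 3, nat_lit 2, nat_lit 0, nat_lit 1, nat_lit 9, nat_lit 4, nat_lit 3, nat_lit 2, nat_lit 8, nat_lit 3, nat_lit 16, nat_lit 8, nat_lit 12, nat_lit 15, nat_lit 16, nat_lit 8, nat_lit 19, nat_lit 16] (Rl.cmp (nat_lit 4402) (nat_lit 4477)))) (FT.node (nat_lit 4480) (FT.leaf (Fct.mk false (nat_lit 33) (nat_lit 0) (nat_lit 33) [nat_lit 4, nat_lit 2, nat_lit 3, nat_lit 8, nat_lit 0, nat_lit 1, nat_lit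 2, nat_lit 3, nat_lit 4, nat_lit 5, nat_lit 6, nat_lit 7, nat_lit 8, nat_lit 4, nat_lit 5, nat_lit 3, nat_lit 4, nat_lit 1, nat_lit 2, nat_lit 3, nat_lit 8, nat_lit 0, nat_lit 1, nat_lit 2, nat_lit 3, nat_lit 4, nat_lit 5, nat_lit 4, nat_lit 3, nat_lit 2, nat_lit 1, nat_lit 9, nat_lit 4, nat_lit 3, nat_lit 2, nat_lit 8, nat_lit 3, nat_lit 10, nat_lit 9, nat_lit 2, nat_lit 16, nat_lit 14, nat_lit 13, nat_lit 12, nat_lit 18] (Rl.cmp (nat_lit 4456) (nat_lit 4478)))) (FT.leaf (Fct.mk false (nat_lit 33) (nat_lit 0) (nat_lit 33) [nat_lit 4, nat_lit 1, nat_lit 2, nat_lit 3, nat_lit 8, nat_lit 7, nat_lit 5, nat_lit 6, nat_lit 4, nat_lit 5, nat_lit 3, nat_lit 4, nat_lit 2, nat_lit 3, nat_lit 8, nat_lit 1, nat_lit 2, nat_lit 3, nat_lit 4, nat_lit 5, nat_lit 6, nat_lit 7, nat_lit 6, nat_lit 5, nat_lit 4, nat_lit 2, nat_lit 3, nat_lit 8, nat_lit 0, nat_lit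 1, nat_lit 2, nat_lit 3, nat_lit 4, nat_lit 5, nat_lit 1, nat_lit 2, nat_lit 3, nat_lit 11, nat_lit 8, nat_lit 10, nat_lit 12, nat_lit 15, nat_lit 14] (Rl.cmp (nat_lit 4456) (nat_lit 4479))))))) (FT.node (nat_lit 4484) (FT.node (nat_lit 4482) (FT.leaf (Fct.mk false (nat_lit 33) (nat_lit 0) (nat_lit 33) [nat_lit 5, nat_lit 4, nat_lit 2, nat_lit 3, nat_lit 8, nat_lit 6, nat_lit 7, nat_lit 5, nat_lit 6, nat_lit 4, nat_lit 5, nat_lit 3, nat_lit 4, nat_lit 2, nat_lit 3, nat_lit 8, nat_lit 1, nat_lit 2, nat_lit 3, nat_lit 4, nat_lit 5, nat_lit 6, nat_lit 7, nat_lit 8, nat_lit 5, nat_lit 6, nat_lit 4, nat_lit 5, nat_lit 2, nat_lit 3, nat_lit 4, nat_lit 1, nat_lit 2, nat_lit 3, nat_lit 8, nat_lit 0, nat_lit 1, nat_lit 2, nat_lit 3, nat_lit 4, nat_lit 5, nat_lit 0, nat_lit 1, nat_lit 2, nat_lit 3, nat_lit 8, nat_lit 10, nat_lit 9, nat_lit 2, nat_lit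 15, nat_lit 13, nat_lit 18] (Rl.cmp (nat_lit 4402) (nat_lit 4480)))) (FT.node (nat_lit 4483) (FT.leaf (Fct.mk false (nat_lit 33) (nat_lit 0) (nat_lit 33) [nat_lit 8, nat_lit 6, nat_lit 7, nat_lit 5, nat_lit 6, nat_lit 4, nat_lit 5, nat_lit 2, nat_lit 3, nat_lit 4, nat_lit 1, nat_lit 2, nat_lit 3, nat_lit 8, nat_lit 0, nat_lit 1, nat_lit 2, nat_lit 3, nat_lit 4, nat_lit 5, nat_lit 6, nat_lit 7, nat_lit 6, nat_lit 3, nat_lit 4, nat_lit 5, nat_lit 2, nat_lit 3, nat_lit 4, nat_lit 1, nat_lit 2, nat_lit 3, nat_lit 8, nat_lit 0, nat_lit 1, nat_lit 2, nat_lit 3, nat_lit 4, nat_lit 5, nat_lit 0, nat_lit 1, nat_lit 3, nat_lit 2, nat_lit 8, nat_lit 3, nat_lit 1, nat_lit 9, nat_lit 8, nat_lit 16, nat_lit 14, nat_lit 13, nat_lit 12, nat_lit 18, nat_lit 16] (Rl.cmp (nat_lit 4456) (nat_lit 4481)))) (FT.leaf (Fct.mk true (nat_lit 33) (nat_lit 885) (nat_lit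 33) [nat_lit 8, nat_lit 6, nat_lit 7, nat_lit 5, nat_lit 6, nat_lit 4, nat_lit 5, nat_lit 2, nat_lit 3, nat_lit 4, nat_lit 1, nat_lit 2, nat_lit 3, nat_lit 8, nat_lit 0, nat_lit 1, nat_lit 2, nat_lit 3, nat_lit 4, nat_lit 5, nat_lit 6, nat_lit 7, nat_lit 5, nat_lit 4, nat_lit 3, nat_lit 8, nat_lit 2, nat_lit 3, nat_lit 4, nat_lit 5, nat_lit 2, nat_lit 1, nat_lit 4, nat_lit 3, nat_lit 2, nat_lit 0, nat_lit 1, nat_lit 9, nat_lit 4, nat_lit 3, nat_lit 2, nat_lit 8, nat_lit 3, nat_lit 11, nat_lit 10, nat_lit 2, nat_lit 8, nat_lit 10, nat_lit 1, nat_lit 8, nat_lit 12, nat_lit 15, nat_lit 16, nat_lit 8] (Rl.t1 (nat_lit 4445) (nat_lit 4482)))))) (FT.node (nat_lit 4485) (FT.leaf (Fct.mk false (nat_lit 33) (nat_lit 0) (nat_lit 33) [nat_lit 2, nat_lit 3, nat_lit 8, nat_lit 1, nat_lit 2, nat_lit 3, nat_lit 4, nat_lit 5, nat_lit 6, nat_lit 7, nat_lit 2,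 nat_lit 3, nat_lit 8, nat_lit 0, nat_lit 1, nat_lit 2, nat_lit 3, nat_lit 4, nat_lit 5, nat_lit 3, nat_lit 2, nat_lit 1, nat_lit 9, nat_lit 4, nat_lit 3, nat_lit 2, nat_lit 8, nat_lit 3, nat_lit 0, nat_lit 14, nat_lit 8, nat_lit 18] (Rl.cmp (nat_lit 4456) (nat_lit 4400)))) (FT.node (nat_lit 4486) (FT.leaf (Fct.mk false (nat_lit 33) (nat_lit 0) (nat_lit 33) [nat_lit 5, nat_lit 4, nat_lit 3, nat_lit 8, nat_lit 2, nat_lit 3, nat_lit 4, nat_lit 1, nat_lit 2, nat_lit 3, nat_lit 8, nat_lit 5, nat_lit 6, nat_lit 4, nat_lit 5, nat_lit 3, nat_lit 4, nat_lit 2, nat_lit 3, nat_lit 8, nat_lit 1, nat_lit 2, nat_lit 3, nat_lit 4, nat_lit 5, nat_lit 6, nat_lit 7, nat_lit 4, nat_lit 2, nat_lit 3, nat_lit 8, nat_lit 0, nat_lit 1, nat_lit 2, nat_lit 3, nat_lit 4, nat_lit 5, nat_lit 1, nat_lit 4, nat_lit 3, nat_lit 2, nat_lit 8, nat_lit 3, nat_lit 11, nat_lit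 10, nat_lit 2, nat_lit 8, nat_lit 10, nat_lit 1, nat_lit 12, nat_lit 15, nat_lit 16, nat_lit 8, nat_lit 19, nat_lit 16] (Rl.cmp (nat_lit 4402) (nat_lit 4484)))) (FT.leaf (Fct.mk false (nat_lit 33) (nat_lit 0) (nat_lit 33) [nat_lit 1, nat_lit 2, nat_lit 3, nat_lit 8, nat_lit 6, nat_lit 7, nat_lit 5, nat_lit 6, nat_lit 4, nat_lit 5, nat_lit 3, nat_lit 4, nat_lit 2, nat_lit 3, nat_lit 8, nat_lit 1, nat_lit 2, nat_lit 3, nat_lit 4, nat_lit 5, nat_lit 6, nat_lit 7, nat_lit 8, nat_lit 5, nat_lit 6, nat_lit 4, nat_lit 5, nat_lit 3, nat_lit 4, nat_lit 2, nat_lit 3, nat_lit 8, nat_lit 1, nat_lit 2, nat_lit 3, nat_lit 4, nat_lit 5, nat_lit 1, nat_lit 9, nat_lit 4, nat_lit 3, nat_lit 2, nat_lit 8, nat_lit 3, nat_lit 11, nat_lit 8, nat_lit 12, nat_lit 15, nat_lit 13, nat_lit 19] (Rl.cmp (nat_lit 4456) (nat_lit 4485)))))))) (FT.node (nat_lit 4493) (FT.node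 (nat_lit 4490) (FT.node (nat_lit 4488) (FT.leaf (Fct.mk false (nat_lit 33) (nat_lit 0) (nat_lit 33) [nat_lit 4, nat_lit 5, nat_lit 3, nat_lit 4, nat_lit 2, nat_lit 3, nat_lit 8, nat_lit 6, nat_lit 7, nat_lit 5, nat_lit 6, nat_lit 4, nat_lit 5, nat_lit 3, nat_lit 4, nat_lit 2, nat_lit 3, nat_lit 8, nat_lit 0, nat_lit 1, nat_lit 2, nat_lit 3, nat_lit 4, nat_lit 5, nat_lit 6, nat_lit 7, nat_lit 5, nat_lit 6, nat_lit 4, nat_lit 5, nat_lit 3, nat_lit 4, nat_lit 1, nat_lit 2, nat_lit 3, nat_lit 8, nat_lit 0, nat_lit 1, nat_lit 2, nat_lit 3, nat_lit 4, nat_lit 5, nat_lit 1, nat_lit 2, nat_lit 8, nat_lit 3, nat_lit 9, nat_lit 2, nat_lit 8, nat_lit 12, nat_lit 15, nat_lit 17] (Rl.cmp (nat_lit 4456) (nat_lit 4486)))) (FT.node (nat_lit 4489) (FT.leaf (Fct.mk false (nat_lit 33) (nat_lit 0) (nat_lit 33) [nat_lit 5, nat_lit 3, nat_lit 4, nat_lit 2, nat_lit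 3, nat_lit 8, nat_lit 6, nat_lit 7, nat_lit 5, nat_lit 6, nat_lit 4, nat_lit 5, nat_lit 3, nat_lit 4, nat_lit 2, nat_lit 3, nat_lit 8, nat_lit 0, nat_lit 1, nat_lit 2, nat_lit 3, nat_lit 4, nat_lit 5, nat_lit 6, nat_lit 7, nat_lit 6, nat_lit 3, nat_lit 4, nat_lit 5, nat_lit 2, nat_lit 3, nat_lit 4, nat_lit 1, nat_lit 2, nat_lit 3, nat_lit 8, nat_lit 0, nat_lit 1, nat_lit 2, nat_lit 3, nat_lit 4, nat_lit 5, nat_lit 2, nat_lit 3, nat_lit 8, nat_lit 4, nat_lit 3, nat_lit 2, nat_lit 0, nat_lit 1, nat_lit 9, nat_lit 4, nat_lit 3, nat_lit 2, nat_lit 8, nat_lit 3, nat_lit 11, nat_lit 2, nat_lit 16, nat_lit 14, nat_lit 12, nat_lit 19, nat_lit 16] (Rl.cmp (nat_lit 4402) (nat_lit 4487)))) (FT.leaf (Fct.mk false (nat_lit 33) (nat_lit 0) (nat_lit 33) [nat_lit 5, nat_lit 3, nat_lit 4, nat_lit 2, nat_lit 3, nat_lit 8, nat_lit 6, nat_lit 7, nat_lit 5, nat_lit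 6, nat_lit 4, nat_lit 5, nat_lit 3, nat_lit 4, nat_lit 2, nat_lit 3, nat_lit 8, nat_lit 1, nat_lit 2, nat_lit 3, nat_lit 4, nat_lit 5, nat_lit 6, nat_lit 7, nat_lit 2, nat_lit 3, nat_lit 8, nat_lit 5, nat_lit 6, nat_lit 4, nat_lit 5, nat_lit 3, nat_lit 4, nat_lit 2, nat_lit 3, nat_lit 8, nat_lit 1, nat_lit 2, nat_lit 3, nat_lit 4, nat_lit 5, nat_lit 1, nat_lit 2, nat_lit 0, nat_lit 1, nat_lit 9, nat_lit 4, nat_lit 3, nat_lit 2, nat_lit 8, nat_lit 3, nat_lit 11, nat_lit 1, nat_lit 17, nat_lit 12, nat_lit 18] (Rl.cmp (nat_lit 4456) (nat_lit 4488)))))) (FT.node (nat_lit 4491) (FT.leaf (Fct.mk false (nat_lit 33) (nat_lit 0) (nat_lit 33) [nat_lit 5, nat_lit 2, nat_lit 3, nat_lit 4, nat_lit 1, nat_lit 2, nat_lit 3, nat_lit 8, nat_lit 6, nat_lit 7, nat_lit 5, nat_lit 6, nat_lit 4, nat_lit 5, nat_lit 3, nat_lit 4, nat_lit 2, nat_lit 3, nat_lit 8, nat_lit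 1, nat_lit 2, nat_lit 3, nat_lit 4, nat_lit 5, nat_lit 6, nat_lit 7, nat_lit 3, nat_lit 8, nat_lit 2, nat_lit 3, nat_lit 4, nat_lit 1, nat_lit 2, nat_lit 3, nat_lit 8, nat_lit 5, nat_lit 6, nat_lit 4, nat_lit 5, nat_lit 3, nat_lit 4, nat_lit 2, nat_lit 3, nat_lit 8, nat_lit 1, nat_lit 2, nat_lit 3, nat_lit 4, nat_lit 5, nat_lit 1, nat_lit 8, nat_lit 3, nat_lit 2, nat_lit 0, nat_lit 1, nat_lit 4, nat_lit 3, nat_lit 2, nat_lit 8, nat_lit 3, nat_lit 1, nat_lit 16, nat_lit 14, nat_lit 17, nat_lit 12, nat_lit 18] (Rl.cmp (nat_lit 4400) (nat_lit 4489)))) (FT.node (nat_lit 4492) (FT.leaf (Fct.mk true (nat_lit 33) (nat_lit 309) (nat_lit 32) [nat_lit 7, nat_lit 6, nat_lit 5, nat_lit 4, nat_lit 3, nat_lit 8, nat_lit 2, nat_lit 3, nat_lit 4, nat_lit 5, nat_lit 6, nat_lit 7, nat_lit 5, nat_lit 4, nat_lit 1, nat_lit 2, nat_lit 3, nat_lit 8, nat_lit 0, nat_lit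 1, nat_lit 2, nat_lit 3, nat_lit 4, nat_lit 5, nat_lit 2, nat_lit 1, nat_lit 4, nat_lit 3, nat_lit 2, nat_lit 8, nat_lit 3, nat_lit 1, nat_lit 15, nat_lit 14] (Rl.t1 (nat_lit 4448) (nat_lit 4490)))) (FT.leaf (Fct.mk false (nat_lit 33) (nat_lit 0) (nat_lit 33) [nat_lit 6, nat_lit 4, nat_lit 5, nat_lit 2, nat_lit 3, nat_lit 4, nat_lit 1, nat_lit 2, nat_lit 3, nat_lit 8, nat_lit 0, nat_lit 1, nat_lit 2, nat_lit 3, nat_lit 4, nat_lit 5, nat_lit 6, nat_lit 7, nat_lit 6, nat_lit 5, nat_lit 4, nat_lit 3, nat_lit 8, nat_lit 2, nat_lit 3, nat_lit 4, nat_lit 1, nat_lit 2, nat_lit 3, nat_lit 8, nat_lit 5, nat_lit 6, nat_lit 4, nat_lit 5, nat_lit 3, nat_lit 4, nat_lit 2, nat_lit 3, nat_lit 8, nat_lit 1, nat_lit 2, nat_lit 3, nat_lit 4, nat_lit 5, nat_lit 4, nat_lit 3, nat_lit 2, nat_lit 0, nat_lit 1, nat_lit 9, nat_lit 4, nat_lit 3, nat_lit 2, nat_lit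 8, nat_lit 3, nat_lit 10, nat_lit 2, nat_lit 8, nat_lit 10, nat_lit 1, nat_lit 16, nat_lit 15, nat_lit 14, nat_lit 16, nat_lit 8, nat_lit 18] (Rl.cmp (nat_lit 4456) (nat_lit 4402))))))) (FT.node (nat_lit 4496) (FT.node (nat_lit 4494) (FT.leaf (Fct.mk false (nat_lit 33) (nat_lit 0) (nat_lit 33) [nat_lit 5, nat_lit 4, nat_lit 3, nat_lit 8, nat_lit 6, nat_lit 7, nat_lit 5, nat_lit 6, nat_lit 4, nat_lit 5, nat_lit 3, nat_lit 4, nat_lit 1, nat_lit 2, nat_lit 3, nat_lit 8, nat_lit 0, nat_lit 1, nat_lit 2, nat_lit 3, nat_lit 4, nat_lit 5, nat_lit 6, nat_lit 7, nat_lit 2, nat_lit 3, nat_lit 8, nat_lit 1, nat_lit 2, nat_lit 3, nat_lit 4, nat_lit 5, nat_lit 4, nat_lit 9, nat_lit 15, nat_lit 14, nat_lit 8, nat_lit 16] (Rl.cmp (nat_lit 4402) (nat_lit 4492)))) (FT.node (nat_lit 4495) (FT.leaf (Fct.mk false (nat_lit 33) (nat_lit 0) (nat_lit 33) [nat_lit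 3, nat_lit 4, nat_lit 5, nat_lit 2, nat_lit 3, nat_lit 4, nat_lit 1, nat_lit 2, nat_lit 3, nat_lit 8, nat_lit 6, nat_lit 7, nat_lit 5, nat_lit 6, nat_lit 4, nat_lit 5, nat_lit 3, nat_lit 4, nat_lit 2, nat_lit 3, nat_lit 8, nat_lit 1, nat_lit 2, nat_lit 3, nat_lit 4, nat_lit 5, nat_lit 6, nat_lit 7, nat_lit 8, nat_lit 4, nat_lit 5, nat_lit 3, nat_lit 4, nat_lit 1, nat_lit 2, nat_lit 3, nat_lit 8, nat_lit 0, nat_lit 1, nat_lit 2, nat_lit 3, nat_lit 4, nat_lit 5, nat_lit 3, nat_lit 11, nat_lit 8, nat_lit 10, nat_lit 1, nat_lit 12, nat_lit 15, nat_lit 17, nat_lit 12, nat_lit 19, nat_lit 16] (Rl.cmp (nat_lit 4456) (nat_lit 4493)))) (FT.leaf (Fct.mk false (nat_lit 33) (nat_lit 0) (nat_lit 33) [nat_lit 4, nat_lit 1, nat_lit 2, nat_lit 3, nat_lit 8, nat_lit 7, nat_lit 5, nat_lit 6, nat_lit 4, nat_lit 5, nat_lit 3, nat_lit 4, nat_lit 2, nat_lit 3, nat_lit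 8, nat_lit 1, nat_lit 2, nat_lit 3, nat_lit 4, nat_lit 5, nat_lit 6, nat_lit 7, nat_lit 5, nat_lit 4, nat_lit 3, nat_lit 8, nat_lit 0, nat_lit 1, nat_lit 2, nat_lit 3, nat_lit 4, nat_lit 5, nat_lit 4, nat_lit 3, nat_lit 2, nat_lit 1, nat_lit 8, nat_lit 3, nat_lit 2, nat_lit 0, nat_lit 1, nat_lit 4, nat_lit 3, nat_lit 2, nat_lit 8, nat_lit 3, nat_lit 0, nat_lit 2, nat_lit 15, nat_lit 14, nat_lit 17, nat_lit 19, nat_lit 16] (Rl.cmp (nat_lit 4402) (nat_lit 4494)))))) (FT.node (nat_lit 4498) (FT.node (nat_lit 4497) (FT.leaf (Fct.mk false (nat_lit 33) (nat_lit 0) (nat_lit 33) [nat_lit 8, nat_lit 7, nat_lit 5, nat_lit 6, nat_lit 4, nat_lit 5, nat_lit 3, nat_lit 4, nat_lit 2, nat_lit 3, nat_lit 8, nat_lit 0, nat_lit 1, nat_lit 2, nat_lit 3, nat_lit 4, nat_lit 5, nat_lit 6, nat_lit 7, nat_lit 2, nat_lit 3, nat_lit 8, nat_lit 1, nat_lit 2, nat_lit 3,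 nat_lit 4, nat_lit 5, nat_lit 2, nat_lit 1, nat_lit 3, nat_lit 2, nat_lit 0, nat_lit 1, nat_lit 4, nat_lit 3, nat_lit 2, nat_lit 8, nat_lit 3, nat_lit 10, nat_lit 12, nat_lit 15, nat_lit 17, nat_lit 12, nat_lit 19] (Rl.cmp (nat_lit 4456) (nat_lit 4495)))) (FT.leaf (Fct.mk false (nat_lit 33) (nat_lit 0) (nat_lit 33) [nat_lit 3, nat_lit 8, nat_lit 7, nat_lit 6, nat_lit 4, nat_lit 5, nat_lit 3, nat_lit 4, nat_lit 1, nat_lit 2, nat_lit 3, nat_lit 8, nat_lit 0, nat_lit 1, nat_lit 2, nat_lit 3, nat_lit 4, nat_lit 5, nat_lit 6, nat_lit 7, nat_lit 6, nat_lit 5, nat_lit 4, nat_lit 3, nat_lit 8, nat_lit 0, nat_lit 1, nat_lit 2, nat_lit 3, nat_lit 4, nat_lit 5, nat_lit 0, nat_lit 1, nat_lit 9, nat_lit 4, nat_lit 3, nat_lit 2, nat_lit 8, nat_lit 3, nat_lit 9, nat_lit 14, nat_lit 16, nat_lit 8, nat_lit 16] (Rl.cmp (nat_lit 4402) (nat_lit 4496))))) (FT.node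 (nat_lit 4499) (FT.leaf (Fct.mk false (nat_lit 33) (nat_lit 0) (nat_lit 33) [nat_lit 1, nat_lit 2, nat_lit 3, nat_lit 8, nat_lit 7, nat_lit 5, nat_lit 6, nat_lit 4, nat_lit 5, nat_lit 3, nat_lit 4, nat_lit 2, nat_lit 3, nat_lit 8, nat_lit 1, nat_lit 2, nat_lit 3, nat_lit 4, nat_lit 5, nat_lit 6, nat_lit 7, nat_lit 4, nat_lit 2, nat_lit 3, nat_lit 8, nat_lit 5, nat_lit 6, nat_lit 4, nat_lit 5, nat_lit 3, nat_lit 4, nat_lit 2, nat_lit 3, nat_lit 8, nat_lit 0, nat_lit 1, nat_lit 2, nat_lit 3, nat_lit 4, nat_lit 5, nat_lit 1, nat_lit 2, nat_lit 3, nat_lit 11, nat_lit 2, nat_lit 8, nat_lit 10, nat_lit 1, nat_lit 12, nat_lit 15, nat_lit 14, nat_lit 13, nat_lit 19] (Rl.cmp (nat_lit 4456) (nat_lit 4497)))) (FT.leaf (Fct.mk false (nat_lit 33) (nat_lit 0) (nat_lit 33) [nat_lit 3, nat_lit 8, nat_lit 2, nat_lit 3, nat_lit 4, nat_lit 5, nat_lit 6, nat_lit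 7, nat_lit 5, nat_lit 6, nat_lit 3, nat_lit 4, nat_lit 5, nat_lit 2, nat_lit 3, nat_lit 4, nat_lit 1, nat_lit 2, nat_lit 3, nat_lit 8, nat_lit 0, nat_lit 1, nat_lit 2, nat_lit 3, nat_lit 4, nat_lit 5, nat_lit 1, nat_lit 2, nat_lit 3, nat_lit 8, nat_lit 4, nat_lit 3, nat_lit 2, nat_lit 1, nat_lit 9, nat_lit 4, nat_lit 3, nat_lit 2, nat_lit 8, nat_lit 3, nat_lit 9, nat_lit 16, nat_lit 14, nat_lit 16, nat_lit 8, nat_lit 18, nat_lit 16] (Rl.cmp (nat_lit 4400) (nat_lit 4498)))))))))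

/-- some facts -/
noncomputable def ftc90 : FT := FT.node (nat_lit 4525) (FT.node (nat_lit 4512) (FT.node (nat_lit 4506) (FT.node (nat_lit 4503) (FT.node (nat_lit 4501) (FT.leaf (Fct.mk false (nat_lit 33) (nat_lit 0) (nat_lit 33) [nat_lit 3, nat_lit 4, nat_lit 1, nat_lit 2, nat_lit 3, nat_lit 8, nat_lit 6, nat_lit 7, nat_lit 5, nat_lit 6, nat_lit 4, nat_lit 5, nat_lit 3, nat_lit 4, nat_lit 2, nat_lit 3, nat_lit 8, nat_lit 1, nat_lit 2, nat_lit 3, nat_lit 4, nat_lit 5, nat_lit 6, nat_lit 7, nat_lit 8, nat_lit 5, nat_lit 6, nat_lit 4, nat_lit 5, nat_lit 2, nat_lit 3, nat_lit 4, nat_lit 1, nat_lit 2, nat_lit 3, nat_lit 8, nat_lit 0, nat_lit 1, nat_lit 2, nat_lit 3, nat_lit 4, nat_lit 5, nat_lit 8, nat_lit 3, nat_lit 2, nat_lit 0, nat_lit 1, nat_lit 9, nat_lit 4, nat_lit 3, nat_lit 2, nat_lit 8, nat_lit 3, nat_lit 1, nat_lit 0, nat_lit 2, nat_lit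 12, nat_lit 15, nat_lit 17, nat_lit 18] (Rl.cmp (nat_lit 4402) (nat_lit 4499)))) (FT.node (nat_lit 4502) (FT.leaf (Fct.mk true (nat_lit 5) (nat_lit 16283) (nat_lit 33) [nat_lit 3, nat_lit 4, nat_lit 2, nat_lit 3, nat_lit 8, nat_lit 5, nat_lit 6, nat_lit 4, nat_lit 5, nat_lit 3, nat_lit 4, nat_lit 2, nat_lit 3, nat_lit 8, nat_lit 0, nat_lit 1, nat_lit 2, nat_lit 3, nat_lit 4, nat_lit 5, nat_lit 6, nat_lit 7, nat_lit 8, nat_lit 4, nat_lit 5, nat_lit 2, nat_lit 3, nat_lit 4, nat_lit 1, nat_lit 2, nat_lit 3, nat_lit 8, nat_lit 0, nat_lit 1, nat_lit 2, nat_lit 3, nat_lit 4, nat_lit 5, nat_lit 1, nat_lit 2, nat_lit 3, nat_lit 8, nat_lit 4, nat_lit 3, nat_lit 2, nat_lit 1, nat_lit 9, nat_lit 4, nat_lit 3, nat_lit 2, nat_lit 8, nat_lit 3, nat_lit 1, nat_lit 15, nat_lit 14, nat_lit 17, nat_lit 12] (Rl.rel (nat_lit 0) [nat_lit 8, nat_lit 5, nat_lit 6,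 nat_lit 4, nat_lit 5, nat_lit 3, nat_lit 4, nat_lit 1, nat_lit 2, nat_lit 3, nat_lit 8, nat_lit 0, nat_lit 1, nat_lit 2, nat_lit 3, nat_lit 4, nat_lit 5, nat_lit 6, nat_lit 7, nat_lit 6, nat_lit 1, nat_lit 8, nat_lit 4, nat_lit 3, nat_lit 2, nat_lit 0, nat_lit 1, nat_lit 9, nat_lit 4, nat_lit 3, nat_lit 2, nat_lit 8, nat_lit 3, nat_lit 11, nat_lit 10, nat_lit 2, nat_lit 8, nat_lit 10, nat_lit 1, nat_lit 8, nat_lit 12, nat_lit 15, nat_lit 17, nat_lit 12, nat_lit 19, nat_lit 16] (nat_lit 33) (nat_lit 2) [nat_lit 4394, nat_lit 4139, nat_lit 2378, nat_lit 2425] []))) (FT.leaf (Fct.mk true (nat_lit 5) (nat_lit 1227) (nat_lit 33) [nat_lit 8, nat_lit 6, nat_lit 7, nat_lit 5, nat_lit 6, nat_lit 4, nat_lit 5, nat_lit 3, nat_lit 4, nat_lit 2, nat_lit 3, nat_lit 8, nat_lit 0, nat_lit 1, nat_lit 2, nat_lit 3, nat_lit 4, nat_lit 5, nat_lit 6, nat_lit 7,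 nat_lit 1, nat_lit 2, nat_lit 3, nat_lit 4, nat_lit 5, nat_lit 2, nat_lit 1, nat_lit 3, nat_lit 2, nat_lit 8, nat_lit 3, nat_lit 10, nat_lit 9, nat_lit 2, nat_lit 16, nat_lit 15, nat_lit 14, nat_lit 17, nat_lit 19, nat_lit 16] (Rl.t1 (nat_lit 4501) (nat_lit 2960)))))) (FT.node (nat_lit 4504) (FT.leaf (Fct.mk true (nat_lit 33) (nat_lit 32307) (nat_lit 5) [nat_lit 3, nat_lit 8, nat_lit 4, nat_lit 5, nat_lit 3, nat_lit 4, nat_lit 1, nat_lit 2, nat_lit 3, nat_lit 8, nat_lit 6, nat_lit 7, nat_lit 5, nat_lit 6, nat_lit 4, nat_lit 5, nat_lit 3, nat_lit 4, nat_lit 2, nat_lit 3, nat_lit 8, nat_lit 1, nat_lit 2, nat_lit 3, nat_lit 4, nat_lit 5, nat_lit 6, nat_lit 7, nat_lit 5, nat_lit 3, nat_lit 4, nat_lit 1, nat_lit 2, nat_lit 3, nat_lit 8, nat_lit 0, nat_lit 1, nat_lit 2, nat_lit 3, nat_lit 4, nat_lit 5, nat_lit 2, nat_lit 1, nat_lit 3, nat_lit 2,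 nat_lit 8, nat_lit 3, nat_lit 11, nat_lit 1, nat_lit 15, nat_lit 14, nat_lit 16, nat_lit 8, nat_lit 16] (Rl.inv (nat_lit 4502)))) (FT.node (nat_lit 4505) (FT.leaf (Fct.mk true (nat_lit 33) (nat_lit 6377) (nat_lit 5) [nat_lit 4, nat_lit 5, nat_lit 6, nat_lit 7, nat_lit 6, nat_lit 5, nat_lit 2, nat_lit 3, nat_lit 4, nat_lit 1, nat_lit 2, nat_lit 3, nat_lit 8, nat_lit 0, nat_lit 1, nat_lit 2, nat_lit 3, nat_lit 4, nat_lit 5, nat_lit 8, nat_lit 3, nat_lit 2, nat_lit 0, nat_lit 1, nat_lit 4, nat_lit 3, nat_lit 2, nat_lit 8, nat_lit 3, nat_lit 2, nat_lit 12, nat_lit 15, nat_lit 13, nat_lit 12, nat_lit 16] (Rl.t1 (nat_lit 4503) (nat_lit 4500)))) (FT.leaf (Fct.mk false (nat_lit 4) (nat_lit 0) (nat_lit 4) [nat_lit 5, nat_lit 6, nat_lit 4, nat_lit 5, nat_lit 3, nat_lit 4, nat_lit 2, nat_lit 3, nat_lit 8, nat_lit 1, nat_lit 2, nat_lit 3, nat_lit 4, nat_lit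 5, nat_lit 1, nat_lit 9, nat_lit 4, nat_lit 3, nat_lit 2, nat_lit 8, nat_lit 3, nat_lit 9, nat_lit 2, nat_lit 12, nat_lit 8, nat_lit 16, nat_lit 14, nat_lit 18, nat_lit 16] (Rl.cmp (nat_lit 312) (nat_lit 1995))))))) (FT.node (nat_lit 4509) (FT.node (nat_lit 4507) (FT.leaf (Fct.mk false (nat_lit 4) (nat_lit 0) (nat_lit 4) [nat_lit 5, nat_lit 4, nat_lit 3, nat_lit 8, nat_lit 6, nat_lit 7, nat_lit 5, nat_lit 6, nat_lit 4, nat_lit 5, nat_lit 3, nat_lit 4, nat_lit 2, nat_lit 3, nat_lit 8, nat_lit 1, nat_lit 2, nat_lit 3, nat_lit 4, nat_lit 5, nat_lit 6, nat_lit 7, nat_lit 6, nat_lit 3, nat_lit 2, nat_lit 8, nat_lit 3, nat_lit 2, nat_lit 8, nat_lit 16, nat_lit 14, nat_lit 12, nat_lit 16] (Rl.cmp (nat_lit 2372) (nat_lit 4505)))) (FT.node (nat_lit 4508) (FT.leaf (Fct.mk true (nat_lit 33) (nat_lit 1578) (nat_lit 33) [nat_lit 6, nat_lit 7, nat_lit 5,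 nat_lit 6, nat_lit 4, nat_lit 5, nat_lit 3, nat_lit 4, nat_lit 2, nat_lit 3, nat_lit 8, nat_lit 1, nat_lit 2, nat_lit 3, nat_lit 4, nat_lit 5, nat_lit 6, nat_lit 7, nat_lit 4, nat_lit 3, nat_lit 8, nat_lit 1, nat_lit 2, nat_lit 3, nat_lit 4, nat_lit 5, nat_lit 2, nat_lit 1, nat_lit 3, nat_lit 2, nat_lit 0, nat_lit 1, nat_lit 4, nat_lit 3, nat_lit 2, nat_lit 8, nat_lit 3, nat_lit 11, nat_lit 10, nat_lit 1, nat_lit 15, nat_lit 14, nat_lit 17, nat_lit 12, nat_lit 19] (Rl.rel (nat_lit 0) [nat_lit 5, nat_lit 4, nat_lit 1, nat_lit 2, nat_lit 3, nat_lit 8, nat_lit 0, nat_lit 1, nat_lit 2, nat_lit 3, nat_lit 4, nat_lit 5, nat_lit 6, nat_lit 7, nat_lit 6, nat_lit 0, nat_lit 1, nat_lit 4, nat_lit 3, nat_lit 2, nat_lit 8, nat_lit 3, nat_lit 11, nat_lit 10, nat_lit 2, nat_lit 8, nat_lit 10, nat_lit 1, nat_lit 8, nat_lit 12, nat_lit 15, nat_lit 17, nat_lit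 12, nat_lit 19, nat_lit 16] (nat_lit 33) (nat_lit 2) [nat_lit 4394, nat_lit 4506, nat_lit 4393] []))) (FT.leaf (Fct.mk false (nat_lit 33) (nat_lit 0) (nat_lit 33) [nat_lit 4, nat_lit 2, nat_lit 3, nat_lit 8, nat_lit 1, nat_lit 2, nat_lit 3, nat_lit 4, nat_lit 5, nat_lit 6, nat_lit 7, nat_lit 5, nat_lit 10, nat_lit 0, nat_lit 16, nat_lit 14, nat_lit 12, nat_lit 18] (Rl.cmp (nat_lit 4400) (nat_lit 4456)))))) (FT.node (nat_lit 4510) (FT.leaf (Fct.mk false (nat_lit 33) (nat_lit 0) (nat_lit 33) [nat_lit 8, nat_lit 3, nat_lit 4, nat_lit 1, nat_lit 2, nat_lit 3, nat_lit 8, nat_lit 5, nat_lit 6, nat_lit 4, nat_lit 5, nat_lit 3, nat_lit 4, nat_lit 2, nat_lit 3, nat_lit 8, nat_lit 1, nat_lit 2, nat_lit 3, nat_lit 4, nat_lit 5, nat_lit 6, nat_lit 7, nat_lit 3, nat_lit 8, nat_lit 2, nat_lit 3, nat_lit 4, nat_lit 1, nat_lit 2, nat_lit 3, nat_lit 8, nat_lit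 5, nat_lit 6, nat_lit 4, nat_lit 5, nat_lit 3, nat_lit 4, nat_lit 2, nat_lit 3, nat_lit 8, nat_lit 1, nat_lit 2, nat_lit 3, nat_lit 4, nat_lit 5, nat_lit 1, nat_lit 2, nat_lit 3, nat_lit 8, nat_lit 4, nat_lit 3, nat_lit 2, nat_lit 1, nat_lit 9, nat_lit 4, nat_lit 3, nat_lit 2, nat_lit 8, nat_lit 3, nat_lit 11, nat_lit 10, nat_lit 15, nat_lit 14, nat_lit 8, nat_lit 18, nat_lit 16] (Rl.cmp (nat_lit 4402) (nat_lit 4508)))) (FT.node (nat_lit 4511) (FT.leaf (Fct.mk false (nat_lit 33) (nat_lit 0) (nat_lit 33) [nat_lit 5, nat_lit 2, nat_lit 3, nat_lit 4, nat_lit 1, nat_lit 2, nat_lit 3, nat_lit 8, nat_lit 6, nat_lit 7, nat_lit 5, nat_lit 6, nat_lit 4, nat_lit 5, nat_lit 3, nat_lit 4, nat_lit 2, nat_lit 3, nat_lit 8, nat_lit 1, nat_lit 2, nat_lit 3, nat_lit 4, nat_lit 5, nat_lit 6, nat_lit 7, nat_lit 8, nat_lit 4, nat_lit 5, nat_lit 2, nat_lit 3, nat_lit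 4, nat_lit 1, nat_lit 2, nat_lit 3, nat_lit 8, nat_lit 0, nat_lit 1, nat_lit 2, nat_lit 3, nat_lit 4, nat_lit 5, nat_lit 2, nat_lit 1, nat_lit 8, nat_lit 3, nat_lit 2, nat_lit 0, nat_lit 1, nat_lit 4, nat_lit 3, nat_lit 2, nat_lit 8, nat_lit 3, nat_lit 1, nat_lit 9, nat_lit 16, nat_lit 12, nat_lit 15, nat_lit 14, nat_lit 13] (Rl.cmp (nat_lit 4456) (nat_lit 4509)))) (FT.leaf (Fct.mk false (nat_lit 33) (nat_lit 0) (nat_lit 33) [nat_lit 5, nat_lit 3, nat_lit 4, nat_lit 2, nat_lit 3, nat_lit 8, nat_lit 6, nat_lit 7, nat_lit 5, nat_lit 6, nat_lit 4, nat_lit 5, nat_lit 3, nat_lit 4, nat_lit 2, nat_lit 3, nat_lit 8, nat_lit 1, nat_lit 2, nat_lit 3, nat_lit 4, nat_lit 5, nat_lit 6, nat_lit 7, nat_lit 5, nat_lit 3, nat_lit 4, nat_lit 2, nat_lit 3, nat_lit 8, nat_lit 0, nat_lit 1, nat_lit 2, nat_lit 3, nat_lit 4, nat_lit 5, nat_lit 4, nat_lit 10, nat_lit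 2, nat_lit 8, nat_lit 10, nat_lit 1, nat_lit 16, nat_lit 15, nat_lit 14, nat_lit 17, nat_lit 16] (Rl.cmp (nat_lit 4400) (nat_lit 4510)))))))) (FT.node (nat_lit 4518) (FT.node (nat_lit 4515) (FT.node (nat_lit 4513) (FT.leaf (Fct.mk false (nat_lit 33) (nat_lit 0) (nat_lit 33) [nat_lit 4, nat_lit 3, nat_lit 8, nat_lit 1, nat_lit 2, nat_lit 3, nat_lit 4, nat_lit 5, nat_lit 6, nat_lit 7, nat_lit 2, nat_lit 3, nat_lit 8, nat_lit 5, nat_lit 6, nat_lit 4, nat_lit 5, nat_lit 3, nat_lit 4, nat_lit 2, nat_lit 3, nat_lit 8, nat_lit 0, nat_lit 1, nat_lit 2, nat_lit 3, nat_lit 4, nat_lit 5, nat_lit 8, nat_lit 3, nat_lit 2, nat_lit 0, nat_lit 1, nat_lit 4, nat_lit 3, nat_lit 2, nat_lit 8, nat_lit 3, nat_lit 10, nat_lit 0, nat_lit 16, nat_lit 12, nat_lit 15, nat_lit 14] (Rl.cmp (nat_lit 4402) (nat_lit 4511)))) (FT.node (nat_lit 4514) (FT.leaf (Fct.mk false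 (nat_lit 33) (nat_lit 0) (nat_lit 33) [nat_lit 2, nat_lit 3, nat_lit 8, nat_lit 7, nat_lit 5, nat_lit 6, nat_lit 4, nat_lit 5, nat_lit 3, nat_lit 4, nat_lit 2, nat_lit 3, nat_lit 8, nat_lit 0, nat_lit 1, nat_lit 2, nat_lit 3, nat_lit 4, nat_lit 5, nat_lit 6, nat_lit 7, nat_lit 8, nat_lit 5, nat_lit 6, nat_lit 4, nat_lit 5, nat_lit 3, nat_lit 4, nat_lit 1, nat_lit 2, nat_lit 3, nat_lit 8, nat_lit 0, nat_lit 1, nat_lit 2, nat_lit 3, nat_lit 4, nat_lit 5, nat_lit 1, nat_lit 8, nat_lit 3, nat_lit 2, nat_lit 0, nat_lit 1, nat_lit 9, nat_lit 4, nat_lit 3, nat_lit 2, nat_lit 8, nat_lit 3, nat_lit 11, nat_lit 2, nat_lit 10, nat_lit 1, nat_lit 8, nat_lit 12, nat_lit 15, nat_lit 17, nat_lit 12, nat_lit 18, nat_lit 16] (Rl.cmp (nat_lit 4456) (nat_lit 4512)))) (FT.leaf (Fct.mk true (nat_lit 33) (nat_lit 4959) (nat_lit 33) [nat_lit 4, nat_lit 3, nat_lit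 8, nat_lit 2, nat_lit 3, nat_lit 4, nat_lit 1, nat_lit 2, nat_lit 3, nat_lit 8, nat_lit 0, nat_lit 1, nat_lit 2, nat_lit 3, nat_lit 4, nat_lit 5, nat_lit 6, nat_lit 7, nat_lit 8, nat_lit 6, nat_lit 5, nat_lit 2, nat_lit 3, nat_lit 4, nat_lit 1, nat_lit 2, nat_lit 3, nat_lit 8, nat_lit 0, nat_lit 1, nat_lit 2, nat_lit 3, nat_lit 4, nat_lit 5, nat_lit 1, nat_lit 3, nat_lit 2, nat_lit 0, nat_lit 1, nat_lit 9, nat_lit 4, nat_lit 3, nat_lit 2, nat_lit 8, nat_lit 3, nat_lit 11, nat_lit 9, nat_lit 10, nat_lit 2, nat_lit 8, nat_lit 10, nat_lit 1, nat_lit 16, nat_lit 15, nat_lit 14, nat_lit 17, nat_lit 12, nat_lit 16] (Rl.rel (nat_lit 0) [nat_lit 5, nat_lit 4, nat_lit 1, nat_lit 2, nat_lit 3, nat_lit 8, nat_lit 0, nat_lit 1, nat_lit 2, nat_lit 3, nat_lit 4, nat_lit 5, nat_lit 6, nat_lit 7, nat_lit 6, nat_lit 8, nat_lit 3, nat_lit 2, nat_lit 0, nat_lit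 1, nat_lit 4, nat_lit 3, nat_lit 2, nat_lit 8, nat_lit 3, nat_lit 11, nat_lit 2, nat_lit 8, nat_lit 10, nat_lit 1, nat_lit 12, nat_lit 15, nat_lit 17, nat_lit 12, nat_lit 19] (nat_lit 33) (nat_lit 2) [nat_lit 4394, nat_lit 4374, nat_lit 4398] []))))) (FT.node (nat_lit 4516) (FT.leaf (Fct.mk true (nat_lit 33) (nat_lit 612) (nat_lit 33) [nat_lit 7, nat_lit 6, nat_lit 4, nat_lit 5, nat_lit 3, nat_lit 4, nat_lit 2, nat_lit 3, nat_lit 8, nat_lit 1, nat_lit 2, nat_lit 3, nat_lit 4, nat_lit 5, nat_lit 6, nat_lit 7, nat_lit 8, nat_lit 3, nat_lit 4, nat_lit 5, nat_lit 2, nat_lit 1, nat_lit 9, nat_lit 4, nat_lit 3, nat_lit 2, nat_lit 8, nat_lit 3, nat_lit 10, nat_lit 0, nat_lit 15, nat_lit 14, nat_lit 12, nat_lit 19, nat_lit 16] (Rl.t1 (nat_lit 4514) (nat_lit 4513)))) (FT.node (nat_lit 4517) (FT.leaf (Fct.mk false (nat_lit 4) (nat_lit 0) (nat_lit 4)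 [nat_lit 2, nat_lit 3, nat_lit 4, nat_lit 1, nat_lit 2, nat_lit 3, nat_lit 8, nat_lit 6, nat_lit 7, nat_lit 5, nat_lit 6, nat_lit 4, nat_lit 5, nat_lit 3, nat_lit 4, nat_lit 2, nat_lit 3, nat_lit 8, nat_lit 1, nat_lit 2, nat_lit 3, nat_lit 4, nat_lit 5, nat_lit 6, nat_lit 7, nat_lit 8, nat_lit 3, nat_lit 4, nat_lit 5, nat_lit 3, nat_lit 2, nat_lit 8, nat_lit 3, nat_lit 2, nat_lit 12, nat_lit 8, nat_lit 16, nat_lit 14, nat_lit 12, nat_lit 18, nat_lit 16] (Rl.cmp (nat_lit 2372) (nat_lit 2980)))) (FT.leaf (Fct.mk false (nat_lit 4) (nat_lit 0) (nat_lit 4) [nat_lit 2, nat_lit 3, nat_lit 4, nat_lit 1, nat_lit 2, nat_lit 3, nat_lit 8, nat_lit 6, nat_lit 7, nat_lit 5, nat_lit 6, nat_lit 4, nat_lit 5, nat_lit 3, nat_lit 4, nat_lit 2, nat_lit 3, nat_lit 8, nat_lit 1, nat_lit 2, nat_lit 3, nat_lit 4, nat_lit 5, nat_lit 6, nat_lit 7, nat_lit 8, nat_lit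 3, nat_lit 4, nat_lit 5, nat_lit 1, nat_lit 3, nat_lit 2, nat_lit 8, nat_lit 3, nat_lit 2, nat_lit 12, nat_lit 8, nat_lit 16, nat_lit 14, nat_lit 12, nat_lit 18, nat_lit 16] (Rl.cmp (nat_lit 263) (nat_lit 4516))))))) (FT.node (nat_lit 4521) (FT.node (nat_lit 4519) (FT.leaf (Fct.mk false (nat_lit 5) (nat_lit 0) (nat_lit 5) [nat_lit 8, nat_lit 3, nat_lit 4, nat_lit 2, nat_lit 3, nat_lit 8, nat_lit 5, nat_lit 6, nat_lit 4, nat_lit 5, nat_lit 3, nat_lit 4, nat_lit 2, nat_lit 3, nat_lit 8, nat_lit 1, nat_lit 2, nat_lit 3, nat_lit 4, nat_lit 5, nat_lit 2, nat_lit 3, nat_lit 8, nat_lit 4, nat_lit 3, nat_lit 2, nat_lit 1, nat_lit 9, nat_lit 4, nat_lit 3, nat_lit 2, nat_lit 8, nat_lit 3, nat_lit 11, nat_lit 10, nat_lit 1, nat_lit 8, nat_lit 16, nat_lit 14, nat_lit 17, nat_lit 12, nat_lit 16] (Rl.cmp (nat_lit 2094) (nat_lit 2712)))) (FT.node (nat_lit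 4520) (FT.leaf (Fct.mk false (nat_lit 5) (nat_lit 0) (nat_lit 5) [nat_lit 8, nat_lit 3, nat_lit 4, nat_lit 2, nat_lit 3, nat_lit 8, nat_lit 7, nat_lit 5, nat_lit 6, nat_lit 4, nat_lit 5, nat_lit 3, nat_lit 4, nat_lit 2, nat_lit 3, nat_lit 8, nat_lit 0, nat_lit 1, nat_lit 2, nat_lit 3, nat_lit 4, nat_lit 5, nat_lit 6, nat_lit 7, nat_lit 6, nat_lit 5, nat_lit 4, nat_lit 3, nat_lit 8, nat_lit 2, nat_lit 3, nat_lit 4, nat_lit 5, nat_lit 1, nat_lit 9, nat_lit 4, nat_lit 3, nat_lit 2, nat_lit 8, nat_lit 3, nat_lit 0, nat_lit 2, nat_lit 12, nat_lit 15, nat_lit 14, nat_lit 17, nat_lit 12, nat_lit 18] (Rl.cmp (nat_lit 2491) (nat_lit 4518)))) (FT.leaf (Fct.mk false (nat_lit 33) (nat_lit 0) (nat_lit 33) [nat_lit 2, nat_lit 3, nat_lit 8, nat_lit 1, nat_lit 2, nat_lit 3, nat_lit 4, nat_lit 5, nat_lit 6, nat_lit 7, nat_lit 2, nat_lit 3, nat_lit 8, nat_lit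 0, nat_lit 1, nat_lit 2, nat_lit 3, nat_lit 4, nat_lit 5, nat_lit 3, nat_lit 2, nat_lit 1, nat_lit 9, nat_lit 4, nat_lit 3, nat_lit 2, nat_lit 8, nat_lit 3, nat_lit 0, nat_lit 14, nat_lit 8, nat_lit 18] (Rl.cmp (nat_lit 4456) (nat_lit 4400)))))) (FT.node (nat_lit 4523) (FT.node (nat_lit 4522) (FT.leaf (Fct.mk true (nat_lit 5) (nat_lit 89794) (nat_lit 33) [nat_lit 8, nat_lit 6, nat_lit 4, nat_lit 5, nat_lit 3, nat_lit 4, nat_lit 2, nat_lit 3, nat_lit 8, nat_lit 0, nat_lit 1, nat_lit 2, nat_lit 3, nat_lit 4, nat_lit 5, nat_lit 6, nat_lit 7, nat_lit 4, nat_lit 5, nat_lit 8, nat_lit 3, nat_lit 2, nat_lit 0, nat_lit 1, nat_lit 4, nat_lit 3, nat_lit 2, nat_lit 8, nat_lit 3, nat_lit 11, nat_lit 9, nat_lit 10, nat_lit 2, nat_lit 8, nat_lit 10, nat_lit 1, nat_lit 8, nat_lit 16, nat_lit 14, nat_lit 8, nat_lit 16] (Rl.rel (nat_lit 0) [nat_lit 8, nat_lit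 5, nat_lit 6, nat_lit 4, nat_lit 5, nat_lit 3, nat_lit 4, nat_lit 1, nat_lit 2, nat_lit 3, nat_lit 8, nat_lit 0, nat_lit 1, nat_lit 2, nat_lit 3, nat_lit 4, nat_lit 5, nat_lit 6, nat_lit 7, nat_lit 6, nat_lit 8, nat_lit 4, nat_lit 3, nat_lit 2, nat_lit 1, nat_lit 9, nat_lit 4, nat_lit 3, nat_lit 2, nat_lit 8, nat_lit 3, nat_lit 11, nat_lit 10, nat_lit 2, nat_lit 8, nat_lit 10, nat_lit 1, nat_lit 8, nat_lit 12, nat_lit 15, nat_lit 14, nat_lit 17, nat_lit 12, nat_lit 19, nat_lit 16] (nat_lit 33) (nat_lit 2) [nat_lit 4394, nat_lit 4517, nat_lit 1980] []))) (FT.leaf (Fct.mk true (nat_lit 5) (nat_lit 549) (nat_lit 33) [nat_lit 3, nat_lit 4, nat_lit 1, nat_lit 2, nat_lit 3, nat_lit 8, nat_lit 6, nat_lit 7, nat_lit 5, nat_lit 6, nat_lit 4, nat_lit 5, nat_lit 3, nat_lit 4, nat_lit 2, nat_lit 3, nat_lit 8, nat_lit 1, nat_lit 2, nat_lit 3, nat_lit 4,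 nat_lit 5, nat_lit 6, nat_lit 7, nat_lit 5, nat_lit 2, nat_lit 3, nat_lit 4, nat_lit 1, nat_lit 2, nat_lit 3, nat_lit 8, nat_lit 0, nat_lit 1, nat_lit 2, nat_lit 3, nat_lit 4, nat_lit 5, nat_lit 1, nat_lit 2, nat_lit 0, nat_lit 1, nat_lit 9, nat_lit 4, nat_lit 3, nat_lit 2, nat_lit 8, nat_lit 3, nat_lit 8, nat_lit 10, nat_lit 1, nat_lit 16, nat_lit 12, nat_lit 15, nat_lit 14, nat_lit 17, nat_lit 12, nat_lit 19] (Rl.t1 (nat_lit 4521) (nat_lit 4519))))) (FT.node (nat_lit 4524) (FT.leaf (Fct.mk true (nat_lit 33) (nat_lit 68740) (nat_lit 5) [nat_lit 7, nat_lit 6, nat_lit 5, nat_lit 4, nat_lit 3, nat_lit 8, nat_lit 0, nat_lit 1, nat_lit 2, nat_lit 3, nat_lit 4, nat_lit 5, nat_lit 6, nat_lit 7, nat_lit 6, nat_lit 5, nat_lit 3, nat_lit 4, nat_lit 1, nat_lit 2, nat_lit 3, nat_lit 8, nat_lit 0, nat_lit 1, nat_lit 2, nat_lit 3, nat_lit 4, nat_lit 5,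 nat_lit 2, nat_lit 1, nat_lit 4, nat_lit 3, nat_lit 2, nat_lit 0, nat_lit 1, nat_lit 9, nat_lit 4, nat_lit 3, nat_lit 2, nat_lit 8, nat_lit 3, nat_lit 9, nat_lit 2, nat_lit 8, nat_lit 12, nat_lit 15, nat_lit 14, nat_lit 12] (Rl.inv (nat_lit 4522)))) (FT.leaf (Fct.mk true (nat_lit 33) (nat_lit 291) (nat_lit 5) [nat_lit 4, nat_lit 3, nat_lit 8, nat_lit 2, nat_lit 3, nat_lit 4, nat_lit 1, nat_lit 2, nat_lit 3, nat_lit 8, nat_lit 0, nat_lit 1, nat_lit 2, nat_lit 3, nat_lit 4, nat_lit 5, nat_lit 6, nat_lit 7, nat_lit 5, nat_lit 4, nat_lit 3, nat_lit 8, nat_lit 1, nat_lit 2, nat_lit 3, nat_lit 4, nat_lit 5, nat_lit 3, nat_lit 2, nat_lit 1, nat_lit 4, nat_lit 3, nat_lit 2, nat_lit 0, nat_lit 1, nat_lit 9, nat_lit 4, nat_lit 3, nat_lit 2, nat_lit 8, nat_lit 3, nat_lit 0, nat_lit 12, nat_lit 15, nat_lit 14, nat_lit 12, nat_lit 19] (Rl.t1 (nat_lit 4523)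 (nat_lit 4520))))))))) (FT.node (nat_lit 4537) (FT.node (nat_lit 4531) (FT.node (nat_lit 4528) (FT.node (nat_lit 4526) (FT.leaf (Fct.mk false (nat_lit 33) (nat_lit 0) (nat_lit 33) [nat_lit 102] (Rl.cmp (nat_lit 4402) (nat_lit 4400)))) (FT.node (nat_lit 4527) (FT.leaf (Fct.mk false (nat_lit 33) (nat_lit 0) (nat_lit 33) [nat_lit 6, nat_lit 4, nat_lit 5, nat_lit 3, nat_lit 4, nat_lit 2, nat_lit 3, nat_lit 8, nat_lit 1, nat_lit 2, nat_lit 3, nat_lit 4, nat_lit 5, nat_lit 6, nat_lit 7, nat_lit 4, nat_lit 5, nat_lit 1, nat_lit 3, nat_lit 2, nat_lit 0, nat_lit 1, nat_lit 4, nat_lit 3, nat_lit 2, nat_lit 8, nat_lit 3, nat_lit 8, nat_lit 10, nat_lit 16, nat_lit 15, nat_lit 14, nat_lit 13, nat_lit 12, nat_lit 19, nat_lit 16] (Rl.cmp (nat_lit 4456) (nat_lit 4525)))) (FT.leaf (Fct.mk false (nat_lit 33) (nat_lit 0) (nat_lit 33) [nat_lit 3, nat_lit 8, nat_lit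 2, nat_lit 3, nat_lit 4, nat_lit 1, nat_lit 2, nat_lit 3, nat_lit 8, nat_lit 5, nat_lit 6, nat_lit 4, nat_lit 5, nat_lit 3, nat_lit 4, nat_lit 2, nat_lit 3, nat_lit 8, nat_lit 1, nat_lit 2, nat_lit 3, nat_lit 4, nat_lit 5, nat_lit 6, nat_lit 7, nat_lit 3, nat_lit 8, nat_lit 2, nat_lit 3, nat_lit 4, nat_lit 1, nat_lit 2, nat_lit 3, nat_lit 8, nat_lit 5, nat_lit 6, nat_lit 4, nat_lit 5, nat_lit 3, nat_lit 4, nat_lit 2, nat_lit 3, nat_lit 8, nat_lit 1, nat_lit 2, nat_lit 3, nat_lit 4, nat_lit 5, nat_lit 8, nat_lit 3, nat_lit 2, nat_lit 0, nat_lit 1, nat_lit 9, nat_lit 4, nat_lit 3, nat_lit 2, nat_lit 8, nat_lit 3, nat_lit 2, nat_lit 8, nat_lit 10, nat_lit 1, nat_lit 8, nat_lit 16, nat_lit 14, nat_lit 16, nat_lit 8, nat_lit 19, nat_lit 16] (Rl.cmp (nat_lit 4400) (nat_lit 4526)))))) (FT.node (nat_lit 4529) (FT.leaf (Fct.mk false (nat_lit 33) (nat_lit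 0) (nat_lit 33) [nat_lit 5, nat_lit 4, nat_lit 3, nat_lit 8, nat_lit 2, nat_lit 3, nat_lit 4, nat_lit 5, nat_lit 6, nat_lit 7, nat_lit 6, nat_lit 5, nat_lit 4, nat_lit 3, nat_lit 8, nat_lit 2, nat_lit 3, nat_lit 4, nat_lit 5, nat_lit 1, nat_lit 8, nat_lit 4, nat_lit 3, nat_lit 2, nat_lit 0, nat_lit 1, nat_lit 9, nat_lit 4, nat_lit 3, nat_lit 2, nat_lit 8, nat_lit 3, nat_lit 8, nat_lit 10, nat_lit 1, nat_lit 8, nat_lit 12, nat_lit 15, nat_lit 14, nat_lit 13, nat_lit 12, nat_lit 19] (Rl.cmp (nat_lit 4402) (nat_lit 4527)))) (FT.node (nat_lit 4530) (FT.leaf (Fct.mk false (nat_lit 33) (nat_lit 0) (nat_lit 33) [nat_lit 3, nat_lit 8, nat_lit 0, nat_lit 1, nat_lit 2, nat_lit 3, nat_lit 4, nat_lit 5, nat_lit 6, nat_lit 7, nat_lit 3, nat_lit 4, nat_lit 2, nat_lit 3, nat_lit 8, nat_lit 1, nat_lit 2, nat_lit 3, nat_lit 4, nat_lit 5, nat_lit 2, nat_lit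 3, nat_lit 8, nat_lit 4, nat_lit 3, nat_lit 2, nat_lit 0, nat_lit 1, nat_lit 9, nat_lit 4, nat_lit 3, nat_lit 2, nat_lit 8, nat_lit 3, nat_lit 11, nat_lit 2, nat_lit 10, nat_lit 1, nat_lit 16, nat_lit 15, nat_lit 14, nat_lit 16, nat_lit 8] (Rl.cmp (nat_lit 4456) (nat_lit 4528)))) (FT.leaf (Fct.mk false (nat_lit 33) (nat_lit 0) (nat_lit 33) [nat_lit 4, nat_lit 1, nat_lit 2, nat_lit 3, nat_lit 8, nat_lit 0, nat_lit 1, nat_lit 2, nat_lit 3, nat_lit 4, nat_lit 5, nat_lit 6, nat_lit 7, nat_lit 4, nat_lit 5, nat_lit 3, nat_lit 4, nat_lit 1, nat_lit 2, nat_lit 3, nat_lit 8, nat_lit 0, nat_lit 1, nat_lit 2, nat_lit 3, nat_lit 4, nat_lit 5, nat_lit 3, nat_lit 2, nat_lit 8, nat_lit 3, nat_lit 15, nat_lit 14, nat_lit 12, nat_lit 19, nat_lit 16] (Rl.cmp (nat_lit 4402) (nat_lit 4529))))))) (FT.node (nat_lit 4534) (FT.node (nat_lit 4532) (FT.leaf (Fct.mk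 false (nat_lit 33) (nat_lit 0) (nat_lit 33) [nat_lit 8, nat_lit 7, nat_lit 6, nat_lit 4, nat_lit 5, nat_lit 3, nat_lit 4, nat_lit 2, nat_lit 3, nat_lit 8, nat_lit 1, nat_lit 2, nat_lit 3, nat_lit 4, nat_lit 5, nat_lit 6, nat_lit 7, nat_lit 6, nat_lit 4, nat_lit 5, nat_lit 3, nat_lit 4, nat_lit 1, nat_lit 2, nat_lit 3, nat_lit 8, nat_lit 0, nat_lit 1, nat_lit 2, nat_lit 3, nat_lit 4, nat_lit 5, nat_lit 2, nat_lit 8, nat_lit 3, nat_lit 9, nat_lit 2, nat_lit 15, nat_lit 14, nat_lit 16, nat_lit 8, nat_lit 16] (Rl.cmp (nat_lit 4456) (nat_lit 4530)))) (FT.node (nat_lit 4533) (FT.leaf (Fct.mk false (nat_lit 33) (nat_lit 0) (nat_lit 33) [nat_lit 8, nat_lit 7, nat_lit 5, nat_lit 6, nat_lit 4, nat_lit 5, nat_lit 3, nat_lit 4, nat_lit 1, nat_lit 2, nat_lit 3, nat_lit 8, nat_lit 0, nat_lit 1, nat_lit 2, nat_lit 3, nat_lit 4, nat_lit 5, nat_lit 6, nat_lit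 7, nat_lit 2, nat_lit 3, nat_lit 4, nat_lit 1, nat_lit 2, nat_lit 3, nat_lit 8, nat_lit 5, nat_lit 6, nat_lit 4, nat_lit 5, nat_lit 3, nat_lit 4, nat_lit 2, nat_lit 3, nat_lit 8, nat_lit 1, nat_lit 2, nat_lit 3, nat_lit 4, nat_lit 5, nat_lit 3, nat_lit 2, nat_lit 1, nat_lit 8, nat_lit 3, nat_lit 2, nat_lit 0, nat_lit 1, nat_lit 9, nat_lit 4, nat_lit 3, nat_lit 2, nat_lit 8, nat_lit 3, nat_lit 11, nat_lit 2, nat_lit 10, nat_lit 1, nat_lit 13, nat_lit 16] (Rl.cmp (nat_lit 4456) (nat_lit 4531)))) (FT.leaf (Fct.mk false (nat_lit 33) (nat_lit 0) (nat_lit 33) [nat_lit 8, nat_lit 7, nat_lit 6, nat_lit 5, nat_lit 3, nat_lit 4, nat_lit 1, nat_lit 2, nat_lit 3, nat_lit 8, nat_lit 0, nat_lit 1, nat_lit 2, nat_lit 3, nat_lit 4, nat_lit 5, nat_lit 6, nat_lit 7, nat_lit 8, nat_lit 5, nat_lit 6, nat_lit 4, nat_lit 5, nat_lit 2, nat_lit 3, nat_lit 4, nat_lit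 1, nat_lit 2, nat_lit 3, nat_lit 8, nat_lit 0, nat_lit 1, nat_lit 2, nat_lit 3, nat_lit 4, nat_lit 5, nat_lit 3, nat_lit 2, nat_lit 0, nat_lit 1, nat_lit 4, nat_lit 3, nat_lit 2, nat_lit 8, nat_lit 3, nat_lit 11, nat_lit 8, nat_lit 10, nat_lit 12, nat_lit 15, nat_lit 14, nat_lit 13] (Rl.cmp (nat_lit 4402) (nat_lit 4532)))))) (FT.node (nat_lit 4535) (FT.leaf (Fct.mk true (nat_lit 33) (nat_lit 2140) (nat_lit 33) [nat_lit 4, nat_lit 3, nat_lit 8, nat_lit 2, nat_lit 3, nat_lit 4, nat_lit 1, nat_lit 2, nat_lit 3, nat_lit 8, nat_lit 0, nat_lit 1, nat_lit 2, nat_lit 3, nat_lit 4, nat_lit 5, nat_lit 6, nat_lit 7, nat_lit 4, nat_lit 3, nat_lit 8, nat_lit 2, nat_lit 3, nat_lit 4, nat_lit 1, nat_lit 2, nat_lit 3, nat_lit 8, nat_lit 0, nat_lit 1, nat_lit 2, nat_lit 3, nat_lit 4, nat_lit 5, nat_lit 4, nat_lit 3, nat_lit 2, nat_lit 8, nat_lit 3, nat_lit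 2, nat_lit 8, nat_lit 10, nat_lit 1, nat_lit 12, nat_lit 15, nat_lit 14, nat_lit 12, nat_lit 18, nat_lit 16] (Rl.rel (nat_lit 0) [nat_lit 5, nat_lit 4, nat_lit 1, nat_lit 2, nat_lit 3, nat_lit 8, nat_lit 0, nat_lit 1, nat_lit 2, nat_lit 3, nat_lit 4, nat_lit 5, nat_lit 6, nat_lit 7, nat_lit 6, nat_lit 0, nat_lit 1, nat_lit 4, nat_lit 3, nat_lit 2, nat_lit 8, nat_lit 3, nat_lit 11, nat_lit 10, nat_lit 2, nat_lit 8, nat_lit 10, nat_lit 1, nat_lit 8, nat_lit 12, nat_lit 15, nat_lit 17, nat_lit 12, nat_lit 19] (nat_lit 33) (nat_lit 2) [nat_lit 4394, nat_lit 4373, nat_lit 4398] []))) (FT.node (nat_lit 4536) (FT.leaf (Fct.mk true (nat_lit 33) (nat_lit 631) (nat_lit 33) [nat_lit 1, nat_lit 2, nat_lit 3, nat_lit 8, nat_lit 5, nat_lit 6, nat_lit 4, nat_lit 5, nat_lit 3, nat_lit 4, nat_lit 2, nat_lit 3, nat_lit 8, nat_lit 1, nat_lit 2, nat_lit 3, nat_lit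 4, nat_lit 5, nat_lit 6, nat_lit 7, nat_lit 11, nat_lit 1, nat_lit 8, nat_lit 12, nat_lit 15, nat_lit 14, nat_lit 17, nat_lit 12, nat_lit 16] (Rl.t1 (nat_lit 4534) (nat_lit 4533)))) (FT.leaf (Fct.mk false (nat_lit 4) (nat_lit 0) (nat_lit 4) [nat_lit 5, nat_lit 4, nat_lit 3, nat_lit 8, nat_lit 6, nat_lit 7, nat_lit 5, nat_lit 6, nat_lit 4, nat_lit 5, nat_lit 3, nat_lit 4, nat_lit 2, nat_lit 3, nat_lit 8, nat_lit 1, nat_lit 2, nat_lit 3, nat_lit 4, nat_lit 5, nat_lit 6, nat_lit 7, nat_lit 8, nat_lit 2, nat_lit 3, nat_lit 4, nat_lit 1, nat_lit 2, nat_lit 3, nat_lit 8, nat_lit 5, nat_lit 6, nat_lit 4, nat_lit 5, nat_lit 3, nat_lit 4, nat_lit 2, nat_lit 3, nat_lit 8, nat_lit 1, nat_lit 2, nat_lit 3, nat_lit 4, nat_lit 5, nat_lit 1, nat_lit 2, nat_lit 8, nat_lit 3, nat_lit 16, nat_lit 14, nat_lit 12] (Rl.cmp (nat_lit 2284) (nat_lit 4359)))))))) (FT.node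 (nat_lit 4543) (FT.node (nat_lit 4540) (FT.node (nat_lit 4538) (FT.leaf (Fct.mk false (nat_lit 4) (nat_lit 0) (nat_lit 4) [nat_lit 2, nat_lit 3, nat_lit 4, nat_lit 1, nat_lit 2, nat_lit 3, nat_lit 8, nat_lit 6, nat_lit 7, nat_lit 5, nat_lit 6, nat_lit 4, nat_lit 5, nat_lit 3, nat_lit 4, nat_lit 2, nat_lit 3, nat_lit 8, nat_lit 1, nat_lit 2, nat_lit 3, nat_lit 4, nat_lit 5, nat_lit 6, nat_lit 7, nat_lit 6, nat_lit 2, nat_lit 1, nat_lit 9, nat_lit 4, nat_lit 3, nat_lit 2, nat_lit 8, nat_lit 3, nat_lit 10, nat_lit 1, nat_lit 14, nat_lit 16, nat_lit 8, nat_lit 19, nat_lit 16] (Rl.cmp (nat_lit 243) (nat_lit 4536)))) (FT.node (nat_lit 4539) (FT.leaf (Fct.mk false (nat_lit 33) (nat_lit 0) (nat_lit 33) [nat_lit 6, nat_lit 4, nat_lit 5, nat_lit 2, nat_lit 3, nat_lit 4, nat_lit 1, nat_lit 2, nat_lit 3, nat_lit 8, nat_lit 0, nat_lit 1, nat_lit 2, nat_lit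 3, nat_lit 4, nat_lit 5, nat_lit 6, nat_lit 7, nat_lit 6, nat_lit 5, nat_lit 4, nat_lit 3, nat_lit 8, nat_lit 2, nat_lit 3, nat_lit 4, nat_lit 1, nat_lit 2, nat_lit 3, nat_lit 8, nat_lit 5, nat_lit 6, nat_lit 4, nat_lit 5, nat_lit 3, nat_lit 4, nat_lit 2, nat_lit 3, nat_lit 8, nat_lit 1, nat_lit 2, nat_lit 3, nat_lit 4, nat_lit 5, nat_lit 4, nat_lit 3, nat_lit 2, nat_lit 0, nat_lit 1, nat_lit 9, nat_lit 4, nat_lit 3, nat_lit 2, nat_lit 8, nat_lit 3, nat_lit 10, nat_lit 2, nat_lit 8, nat_lit 10, nat_lit 1, nat_lit 16, nat_lit 15, nat_lit 14, nat_lit 16, nat_lit 8, nat_lit 18] (Rl.cmp (nat_lit 4456) (nat_lit 4402)))) (FT.leaf (Fct.mk false (nat_lit 33) (nat_lit 0) (nat_lit 33) [nat_lit 3, nat_lit 8, nat_lit 2, nat_lit 3, nat_lit 4, nat_lit 1, nat_lit 2, nat_lit 3, nat_lit 8, nat_lit 5, nat_lit 6, nat_lit 4, nat_lit 5, nat_lit 3, nat_lit 4, nat_lit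 2, nat_lit 3, nat_lit 8, nat_lit 1, nat_lit 2, nat_lit 3, nat_lit 4, nat_lit 5, nat_lit 6, nat_lit 7, nat_lit 3, nat_lit 8, nat_lit 2, nat_lit 3, nat_lit 4, nat_lit 5, nat_lit 3, nat_lit 2, nat_lit 1, nat_lit 8, nat_lit 3, nat_lit 2, nat_lit 0, nat_lit 1, nat_lit 4, nat_lit 3, nat_lit 2, nat_lit 8, nat_lit 3, nat_lit 8, nat_lit 10, nat_lit 0, nat_lit 16, nat_lit 14, nat_lit 13, nat_lit 12, nat_lit 18] (Rl.cmp (nat_lit 4456) (nat_lit 4538)))))) (FT.node (nat_lit 4541) (FT.leaf (Fct.mk false (nat_lit 33) (nat_lit 0) (nat_lit 33) [nat_lit 5, nat_lit 4, nat_lit 3, nat_lit 8, nat_lit 2, nat_lit 3, nat_lit 4, nat_lit 5, nat_lit 6, nat_lit 7, nat_lit 2, nat_lit 3, nat_lit 8, nat_lit 6, nat_lit 4, nat_lit 5, nat_lit 3, nat_lit 4, nat_lit 2, nat_lit 3, nat_lit 8, nat_lit 1, nat_lit 2, nat_lit 3, nat_lit 4, nat_lit 5, nat_lit 1, nat_lit 8, nat_lit 3,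 nat_lit 2, nat_lit 0, nat_lit 1, nat_lit 9, nat_lit 4, nat_lit 3, nat_lit 2, nat_lit 8, nat_lit 3, nat_lit 8, nat_lit 10, nat_lit 1, nat_lit 8, nat_lit 12, nat_lit 15, nat_lit 14, nat_lit 16, nat_lit 8, nat_lit 18] (Rl.cmp (nat_lit 4402) (nat_lit 4539)))) (FT.node (nat_lit 4542) (FT.leaf (Fct.mk false (nat_lit 33) (nat_lit 0) (nat_lit 33) [nat_lit 3, nat_lit 8, nat_lit 0, nat_lit 1, nat_lit 2, nat_lit 3, nat_lit 4, nat_lit 5, nat_lit 6, nat_lit 7, nat_lit 8, nat_lit 3, nat_lit 4, nat_lit 2, nat_lit 3, nat_lit 8, nat_lit 1, nat_lit 2, nat_lit 3, nat_lit 4, nat_lit 5, nat_lit 1, nat_lit 4, nat_lit 3, nat_lit 2, nat_lit 8, nat_lit 3, nat_lit 9, nat_lit 10, nat_lit 2, nat_lit 8, nat_lit 10, nat_lit 1, nat_lit 12, nat_lit 15, nat_lit 13, nat_lit 12, nat_lit 18, nat_lit 16] (Rl.cmp (nat_lit 4456) (nat_lit 4540)))) (FT.leaf (Fct.mk false (nat_lit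 33) (nat_lit 0) (nat_lit 33) [nat_lit 4, nat_lit 1, nat_lit 2, nat_lit 3, nat_lit 8, nat_lit 0, nat_lit 1, nat_lit 2, nat_lit 3, nat_lit 4, nat_lit 5, nat_lit 6, nat_lit 7, nat_lit 8, nat_lit 3, nat_lit 4, nat_lit 2, nat_lit 3, nat_lit 8, nat_lit 0, nat_lit 1, nat_lit 2, nat_lit 3, nat_lit 4, nat_lit 5, nat_lit 1, nat_lit 3, nat_lit 8, nat_lit 4, nat_lit 3, nat_lit 2, nat_lit 0, nat_lit 1, nat_lit 9, nat_lit 4, nat_lit 3, nat_lit 2, nat_lit 8, nat_lit 3, nat_lit 9, nat_lit 2, nat_lit 17, nat_lit 12, nat_lit 18] (Rl.cmp (nat_lit 4402) (nat_lit 4541))))))) (FT.node (nat_lit 4546) (FT.node (nat_lit 4544) (FT.leaf (Fct.mk false (nat_lit 33) (nat_lit 0) (nat_lit 33) [nat_lit 8, nat_lit 7, nat_lit 6, nat_lit 4, nat_lit 5, nat_lit 3, nat_lit 4, nat_lit 2, nat_lit 3, nat_lit 8, nat_lit 1, nat_lit 2, nat_lit 3, nat_lit 4, nat_lit 5, nat_lit 6, nat_lit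 7, nat_lit 5, nat_lit 4, nat_lit 3, nat_lit 8, nat_lit 2, nat_lit 3, nat_lit 4, nat_lit 5, nat_lit 1, nat_lit 4, nat_lit 3, nat_lit 2, nat_lit 0, nat_lit 1, nat_lit 9, nat_lit 4, nat_lit 3, nat_lit 2, nat_lit 8, nat_lit 3, nat_lit 0, nat_lit 2, nat_lit 12, nat_lit 15, nat_lit 16, nat_lit 8, nat_lit 18, nat_lit 16] (Rl.cmp (nat_lit 4456) (nat_lit 4542)))) (FT.node (nat_lit 4545) (FT.leaf (Fct.mk true (nat_lit 33) (nat_lit 1126) (nat_lit 33) [nat_lit 8, nat_lit 6, nat_lit 7, nat_lit 5, nat_lit 6, nat_lit 4, nat_lit 5, nat_lit 2, nat_lit 3, nat_lit 4, nat_lit 1, nat_lit 2, nat_lit 3, nat_lit 8, nat_lit 0, nat_lit 1, nat_lit 2, nat_lit 3, nat_lit 4, nat_lit 5, nat_lit 6, nat_lit 7, nat_lit 6, nat_lit 2, nat_lit 0, nat_lit 1, nat_lit 9, nat_lit 4, nat_lit 3, nat_lit 2, nat_lit 8, nat_lit 3, nat_lit 11, nat_lit 8, nat_lit 10, nat_lit 1, nat_lit 8,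 nat_lit 12, nat_lit 15, nat_lit 12, nat_lit 18, nat_lit 16] (Rl.rel (nat_lit 0) [nat_lit 8, nat_lit 5, nat_lit 6, nat_lit 4, nat_lit 5, nat_lit 3, nat_lit 4, nat_lit 1, nat_lit 2, nat_lit 3, nat_lit 8, nat_lit 0, nat_lit 1, nat_lit 2, nat_lit 3, nat_lit 4, nat_lit 5, nat_lit 6, nat_lit 7, nat_lit 6, nat_lit 1, nat_lit 2, nat_lit 0, nat_lit 1, nat_lit 9, nat_lit 4, nat_lit 3, nat_lit 2, nat_lit 8, nat_lit 3, nat_lit 11, nat_lit 9, nat_lit 10, nat_lit 2, nat_lit 8, nat_lit 10, nat_lit 1, nat_lit 8, nat_lit 12, nat_lit 15, nat_lit 17, nat_lit 12, nat_lit 19, nat_lit 16] (nat_lit 33) (nat_lit 2) [nat_lit 4394, nat_lit 4537, nat_lit 4393] []))) (FT.leaf (Fct.mk true (nat_lit 33) (nat_lit 223) (nat_lit 33) [nat_lit 1, nat_lit 2, nat_lit 3, nat_lit 8, nat_lit 6, nat_lit 7, nat_lit 5, nat_lit 6, nat_lit 4, nat_lit 5, nat_lit 3, nat_lit 4, nat_lit 2,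 nat_lit 3, nat_lit 8, nat_lit 1, nat_lit 2, nat_lit 3, nat_lit 4, nat_lit 5, nat_lit 6, nat_lit 7, nat_lit 3, nat_lit 8, nat_lit 2, nat_lit 3, nat_lit 4, nat_lit 1, nat_lit 2, nat_lit 3, nat_lit 8, nat_lit 5, nat_lit 6, nat_lit 4, nat_lit 5, nat_lit 3, nat_lit 4, nat_lit 2, nat_lit 3, nat_lit 8, nat_lit 1, nat_lit 2, nat_lit 3, nat_lit 4, nat_lit 5, nat_lit 4, nat_lit 3, nat_lit 2, nat_lit 8, nat_lit 3, nat_lit 10, nat_lit 1, nat_lit 12, nat_lit 15, nat_lit 13, nat_lit 18] (Rl.t1 (nat_lit 4544) (nat_lit 4543)))))) (FT.node (nat_lit 4548) (FT.node (nat_lit 4547) (FT.leaf (Fct.mk false (nat_lit 4) (nat_lit 0) (nat_lit 4) [nat_lit 3, nat_lit 8, nat_lit 5, nat_lit 2, nat_lit 3, nat_lit 4, nat_lit 1, nat_lit 2, nat_lit 3, nat_lit 8, nat_lit 6, nat_lit 7, nat_lit 5, nat_lit 6, nat_lit 4, nat_lit 5, nat_lit 3, nat_lit 4, nat_lit 2, nat_lit 3, nat_lit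 8, nat_lit 1, nat_lit 2, nat_lit 3, nat_lit 4, nat_lit 5, nat_lit 6, nat_lit 7, nat_lit 3, nat_lit 8, nat_lit 2, nat_lit 3, nat_lit 4, nat_lit 5, nat_lit 1, nat_lit 4, nat_lit 3, nat_lit 2, nat_lit 8, nat_lit 3, nat_lit 10, nat_lit 2, nat_lit 8, nat_lit 10, nat_lit 1, nat_lit 8, nat_lit 16, nat_lit 14, nat_lit 16, nat_lit 8, nat_lit 16] (Rl.cmp (nat_lit 2372) (nat_lit 4112)))) (FT.leaf (Fct.mk false (nat_lit 4) (nat_lit 0) (nat_lit 4) [nat_lit 8, nat_lit 3, nat_lit 4, nat_lit 1, nat_lit 2, nat_lit 3, nat_lit 8, nat_lit 6, nat_lit 7, nat_lit 5, nat_lit 6, nat_lit 4, nat_lit 5, nat_lit 3, nat_lit 4, nat_lit 2, nat_lit 3, nat_lit 8, nat_lit 1, nat_lit 2, nat_lit 3, nat_lit 4, nat_lit 5, nat_lit 6, nat_lit 7, nat_lit 1, nat_lit 2, nat_lit 3, nat_lit 4, nat_lit 5, nat_lit 9, nat_lit 2, nat_lit 16, nat_lit 14, nat_lit 8, nat_lit 18, nat_lit 16] (Rl.cmp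 (nat_lit 2372) (nat_lit 4546))))) (FT.node (nat_lit 4549) (FT.leaf (Fct.mk false (nat_lit 33) (nat_lit 0) (nat_lit 33) [nat_lit 6, nat_lit 4, nat_lit 5, nat_lit 2, nat_lit 3, nat_lit 4, nat_lit 1, nat_lit 2, nat_lit 3, nat_lit 8, nat_lit 0, nat_lit 1, nat_lit 2, nat_lit 3, nat_lit 4, nat_lit 5, nat_lit 6, nat_lit 7, nat_lit 6, nat_lit 5, nat_lit 4, nat_lit 3, nat_lit 8, nat_lit 2, nat_lit 3, nat_lit 4, nat_lit 1, nat_lit 2, nat_lit 3, nat_lit 8, nat_lit 5, nat_lit 6, nat_lit 4, nat_lit 5, nat_lit 3, nat_lit 4, nat_lit 2, nat_lit 3, nat_lit 8, nat_lit 1, nat_lit 2, nat_lit 3, nat_lit 4, nat_lit 5, nat_lit 4, nat_lit 3, nat_lit 2, nat_lit 0, nat_lit 1, nat_lit 9, nat_lit 4, nat_lit 3, nat_lit 2, nat_lit 8, nat_lit 3, nat_lit 10, nat_lit 2, nat_lit 8, nat_lit 10, nat_lit 1, nat_lit 16, nat_lit 15, nat_lit 14, nat_lit 16, nat_lit 8, nat_lit 18]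 (Rl.cmp (nat_lit 4456) (nat_lit 4402)))) (FT.leaf (Fct.mk false (nat_lit 33) (nat_lit 0) (nat_lit 33) [nat_lit 3, nat_lit 8, nat_lit 2, nat_lit 3, nat_lit 4, nat_lit 1, nat_lit 2, nat_lit 3, nat_lit 8, nat_lit 5, nat_lit 6, nat_lit 4, nat_lit 5, nat_lit 3, nat_lit 4, nat_lit 2, nat_lit 3, nat_lit 8, nat_lit 1, nat_lit 2, nat_lit 3, nat_lit 4, nat_lit 5, nat_lit 6, nat_lit 7, nat_lit 3, nat_lit 8, nat_lit 2, nat_lit 3, nat_lit 4, nat_lit 5, nat_lit 3, nat_lit 2, nat_lit 1, nat_lit 8, nat_lit 3, nat_lit 2, nat_lit 0, nat_lit 1, nat_lit 4, nat_lit 3, nat_lit 2, nat_lit 8, nat_lit 3, nat_lit 8, nat_lit 10, nat_lit 0, nat_lit 16, nat_lit 14, nat_lit 13, nat_lit 12, nat_lit 18] (Rl.cmp (nat_lit 4456) (nat_lit 4548)))))))))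

/-- some facts -/
noncomputable def ftc91 : FT := FT.node (nat_lit 4575) (FT.node (nat_lit 4562) (FT.node (nat_lit 4556) (FT.node (nat_lit 4553) (FT.node (nat_lit 4551) (FT.leaf (Fct.mk false (nat_lit 33) (nat_lit 0) (nat_lit 33) [nat_lit 5, nat_lit 4, nat_lit 3, nat_lit 8, nat_lit 2, nat_lit 3, nat_lit 4, nat_lit 5, nat_lit 6, nat_lit 7, nat_lit 2, nat_lit 3, nat_lit 8, nat_lit 6, nat_lit 4, nat_lit 5, nat_lit 3, nat_lit 4, nat_lit 2, nat_lit 3, nat_lit 8, nat_lit 1, nat_lit 2, nat_lit 3, nat_lit 4, nat_lit 5, nat_lit 1, nat_lit 8, nat_lit 3, nat_lit 2, nat_lit 0, nat_lit 1, nat_lit 9, nat_lit 4, nat_lit 3, nat_lit 2, nat_lit 8, nat_lit 3, nat_lit 8, nat_lit 10, nat_lit 1, nat_lit 8, nat_lit 12, nat_lit 15, nat_lit 14, nat_lit 16, nat_lit 8, nat_lit 18] (Rl.cmp (nat_lit 4402) (nat_lit 4549)))) (FT.node (nat_lit 4552) (FT.leaf (Fct.mk false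 (nat_lit 33) (nat_lit 0) (nat_lit 33) [nat_lit 3, nat_lit 8, nat_lit 0, nat_lit 1, nat_lit 2, nat_lit 3, nat_lit 4, nat_lit 5, nat_lit 6, nat_lit 7, nat_lit 8, nat_lit 3, nat_lit 4, nat_lit 2, nat_lit 3, nat_lit 8, nat_lit 1, nat_lit 2, nat_lit 3, nat_lit 4, nat_lit 5, nat_lit 1, nat_lit 4, nat_lit 3, nat_lit 2, nat_lit 8, nat_lit 3, nat_lit 9, nat_lit 10, nat_lit 2, nat_lit 8, nat_lit 10, nat_lit 1, nat_lit 12, nat_lit 15, nat_lit 13, nat_lit 12, nat_lit 18, nat_lit 16] (Rl.cmp (nat_lit 4456) (nat_lit 4550)))) (FT.leaf (Fct.mk false (nat_lit 33) (nat_lit 0) (nat_lit 33) [nat_lit 4, nat_lit 1, nat_lit 2, nat_lit 3, nat_lit 8, nat_lit 0, nat_lit 1, nat_lit 2, nat_lit 3, nat_lit 4, nat_lit 5, nat_lit 6, nat_lit 7, nat_lit 8, nat_lit 3, nat_lit 4, nat_lit 2, nat_lit 3, nat_lit 8, nat_lit 0, nat_lit 1, nat_lit 2, nat_lit 3, nat_lit 4, nat_lit 5,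 nat_lit 1, nat_lit 3, nat_lit 8, nat_lit 4, nat_lit 3, nat_lit 2, nat_lit 0, nat_lit 1, nat_lit 9, nat_lit 4, nat_lit 3, nat_lit 2, nat_lit 8, nat_lit 3, nat_lit 9, nat_lit 2, nat_lit 17, nat_lit 12, nat_lit 18] (Rl.cmp (nat_lit 4402) (nat_lit 4551)))))) (FT.node (nat_lit 4554) (FT.leaf (Fct.mk false (nat_lit 33) (nat_lit 0) (nat_lit 33) [nat_lit 8, nat_lit 7, nat_lit 6, nat_lit 4, nat_lit 5, nat_lit 3, nat_lit 4, nat_lit 2, nat_lit 3, nat_lit 8, nat_lit 1, nat_lit 2, nat_lit 3, nat_lit 4, nat_lit 5, nat_lit 6, nat_lit 7, nat_lit 5, nat_lit 4, nat_lit 3, nat_lit 8, nat_lit 2, nat_lit 3, nat_lit 4, nat_lit 5, nat_lit 1, nat_lit 4, nat_lit 3, nat_lit 2, nat_lit 0, nat_lit 1, nat_lit 9, nat_lit 4, nat_lit 3, nat_lit 2, nat_lit 8, nat_lit 3, nat_lit 0, nat_lit 2, nat_lit 12, nat_lit 15, nat_lit 16, nat_lit 8, nat_lit 18, nat_lit 16] (Rl.cmp (nat_lit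 4456) (nat_lit 4552)))) (FT.node (nat_lit 4555) (FT.leaf (Fct.mk true (nat_lit 32) (nat_lit 67335) (nat_lit 33) [nat_lit 8, nat_lit 6, nat_lit 5, nat_lit 2, nat_lit 3, nat_lit 4, nat_lit 1, nat_lit 2, nat_lit 3, nat_lit 8, nat_lit 0, nat_lit 1, nat_lit 2, nat_lit 3, nat_lit 4, nat_lit 5, nat_lit 6, nat_lit 7, nat_lit 8, nat_lit 3, nat_lit 4, nat_lit 1, nat_lit 2, nat_lit 3, nat_lit 8, nat_lit 0, nat_lit 1, nat_lit 2, nat_lit 3, nat_lit 4, nat_lit 5, nat_lit 3, nat_lit 8, nat_lit 4, nat_lit 3, nat_lit 2, nat_lit 0, nat_lit 1, nat_lit 9, nat_lit 4, nat_lit 3, nat_lit 2, nat_lit 8, nat_lit 3, nat_lit 2, nat_lit 10, nat_lit 1, nat_lit 12, nat_lit 15, nat_lit 12, nat_lit 19, nat_lit 16] (Rl.rel (nat_lit 0) [nat_lit 8, nat_lit 5, nat_lit 6, nat_lit 4, nat_lit 5, nat_lit 3, nat_lit 4, nat_lit 1, nat_lit 2, nat_lit 3, nat_lit 8, nat_lit 0, nat_lit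 1, nat_lit 2, nat_lit 3, nat_lit 4, nat_lit 5, nat_lit 6, nat_lit 7, nat_lit 6, nat_lit 1, nat_lit 8, nat_lit 4, nat_lit 3, nat_lit 2, nat_lit 0, nat_lit 1, nat_lit 9, nat_lit 4, nat_lit 3, nat_lit 2, nat_lit 8, nat_lit 3, nat_lit 11, nat_lit 10, nat_lit 2, nat_lit 8, nat_lit 10, nat_lit 1, nat_lit 12, nat_lit 15, nat_lit 17, nat_lit 12, nat_lit 19] (nat_lit 33) (nat_lit 2) [nat_lit 4394, nat_lit 4547, nat_lit 2999] []))) (FT.leaf (Fct.mk true (nat_lit 32) (nat_lit 480) (nat_lit 33) [nat_lit 5, nat_lit 6, nat_lit 3, nat_lit 4, nat_lit 5, nat_lit 2, nat_lit 3, nat_lit 4, nat_lit 1, nat_lit 2, nat_lit 3, nat_lit 8, nat_lit 0, nat_lit 1, nat_lit 2, nat_lit 3, nat_lit 4, nat_lit 5, nat_lit 6, nat_lit 7, nat_lit 5, nat_lit 4, nat_lit 1, nat_lit 2, nat_lit 3, nat_lit 8, nat_lit 0, nat_lit 1, nat_lit 2, nat_lit 3, nat_lit 4, nat_lit 5, nat_lit 3,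 nat_lit 2, nat_lit 0, nat_lit 1, nat_lit 9, nat_lit 4, nat_lit 3, nat_lit 2, nat_lit 8, nat_lit 3, nat_lit 10, nat_lit 2, nat_lit 8, nat_lit 10, nat_lit 1, nat_lit 8, nat_lit 12, nat_lit 15, nat_lit 14, nat_lit 12, nat_lit 19, nat_lit 16] (Rl.t1 (nat_lit 4554) (nat_lit 4382))))))) (FT.node (nat_lit 4559) (FT.node (nat_lit 4557) (FT.leaf (Fct.mk true (nat_lit 33) (nat_lit 31914) (nat_lit 32) [nat_lit 4, nat_lit 3, nat_lit 8, nat_lit 2, nat_lit 3, nat_lit 4, nat_lit 1, nat_lit 2, nat_lit 3, nat_lit 8, nat_lit 0, nat_lit 1, nat_lit 2, nat_lit 3, nat_lit 4, nat_lit 5, nat_lit 6, nat_lit 7, nat_lit 8, nat_lit 6, nat_lit 4, nat_lit 5, nat_lit 2, nat_lit 3, nat_lit 4, nat_lit 1, nat_lit 2, nat_lit 3, nat_lit 8, nat_lit 0, nat_lit 1, nat_lit 2, nat_lit 3, nat_lit 4, nat_lit 5, nat_lit 0, nat_lit 1, nat_lit 2, nat_lit 8, nat_lit 3, nat_lit 2, nat_lit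 8, nat_lit 10, nat_lit 1, nat_lit 16, nat_lit 8, nat_lit 12, nat_lit 15, nat_lit 8, nat_lit 18, nat_lit 16] (Rl.inv (nat_lit 4555)))) (FT.node (nat_lit 4558) (FT.leaf (Fct.mk true (nat_lit 33) (nat_lit 329) (nat_lit 32) [nat_lit 8, nat_lit 4, nat_lit 5, nat_lit 2, nat_lit 3, nat_lit 4, nat_lit 1, nat_lit 2, nat_lit 3, nat_lit 8, nat_lit 6, nat_lit 7, nat_lit 5, nat_lit 6, nat_lit 4, nat_lit 5, nat_lit 3, nat_lit 4, nat_lit 2, nat_lit 3, nat_lit 8, nat_lit 1, nat_lit 2, nat_lit 3, nat_lit 4, nat_lit 5, nat_lit 6, nat_lit 7, nat_lit 5, nat_lit 4, nat_lit 3, nat_lit 8, nat_lit 2, nat_lit 3, nat_lit 4, nat_lit 1, nat_lit 2, nat_lit 3, nat_lit 8, nat_lit 5, nat_lit 6, nat_lit 4, nat_lit 5, nat_lit 3, nat_lit 4, nat_lit 2, nat_lit 3, nat_lit 8, nat_lit 1, nat_lit 2, nat_lit 3, nat_lit 4, nat_lit 5, nat_lit 1, nat_lit 4, nat_lit 3, nat_lit 2, nat_lit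 8, nat_lit 3, nat_lit 10, nat_lit 1, nat_lit 12, nat_lit 8, nat_lit 16, nat_lit 14, nat_lit 13, nat_lit 12, nat_lit 16] (Rl.t1 (nat_lit 4556) (nat_lit 4553)))) (FT.leaf (Fct.mk true (nat_lit 33) (nat_lit 3045) (nat_lit 33) [nat_lit 4, nat_lit 3, nat_lit 8, nat_lit 2, nat_lit 3, nat_lit 4, nat_lit 1, nat_lit 2, nat_lit 3, nat_lit 8, nat_lit 0, nat_lit 1, nat_lit 2, nat_lit 3, nat_lit 4, nat_lit 5, nat_lit 6, nat_lit 7, nat_lit 5, nat_lit 1, nat_lit 2, nat_lit 8, nat_lit 3, nat_lit 11, nat_lit 10, nat_lit 2, nat_lit 8, nat_lit 10, nat_lit 1, nat_lit 8, nat_lit 16, nat_lit 15, nat_lit 14, nat_lit 8] (Rl.rel (nat_lit 0) [nat_lit 5, nat_lit 4, nat_lit 1, nat_lit 2, nat_lit 3, nat_lit 8, nat_lit 0, nat_lit 1, nat_lit 2, nat_lit 3, nat_lit 4, nat_lit 5, nat_lit 6, nat_lit 7, nat_lit 6, nat_lit 0, nat_lit 1, nat_lit 4, nat_lit 3, nat_lit 2, nat_lit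 8, nat_lit 3, nat_lit 11, nat_lit 10, nat_lit 2, nat_lit 8, nat_lit 10, nat_lit 1, nat_lit 15, nat_lit 17, nat_lit 12, nat_lit 19, nat_lit 16] (nat_lit 33) (nat_lit 2) [nat_lit 4394, nat_lit 2947, nat_lit 4398] []))))) (FT.node (nat_lit 4560) (FT.leaf (Fct.mk true (nat_lit 33) (nat_lit 524) (nat_lit 33) [nat_lit 7, nat_lit 6, nat_lit 5, nat_lit 3, nat_lit 4, nat_lit 1, nat_lit 2, nat_lit 3, nat_lit 8, nat_lit 0, nat_lit 1, nat_lit 2, nat_lit 3, nat_lit 4, nat_lit 5, nat_lit 6, nat_lit 7, nat_lit 1, nat_lit 2, nat_lit 3, nat_lit 4, nat_lit 5, nat_lit 1, nat_lit 3, nat_lit 2, nat_lit 8, nat_lit 3, nat_lit 11, nat_lit 9, nat_lit 10, nat_lit 2, nat_lit 8, nat_lit 10, nat_lit 1, nat_lit 8, nat_lit 12, nat_lit 15, nat_lit 14, nat_lit 17, nat_lit 19, nat_lit 16] (Rl.t1 (nat_lit 4558) (nat_lit 4400)))) (FT.node (nat_lit 4561) (FT.leaf (Fct.mk true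 (nat_lit 5) (nat_lit 70508) (nat_lit 33) [nat_lit 3, nat_lit 8, nat_lit 6, nat_lit 4, nat_lit 5, nat_lit 3, nat_lit 4, nat_lit 1, nat_lit 2, nat_lit 3, nat_lit 8, nat_lit 0, nat_lit 1, nat_lit 2, nat_lit 3, nat_lit 4, nat_lit 5, nat_lit 6, nat_lit 7, nat_lit 4, nat_lit 2, nat_lit 3, nat_lit 8, nat_lit 0, nat_lit 1, nat_lit 2, nat_lit 3, nat_lit 4, nat_lit 5, nat_lit 1, nat_lit 8, nat_lit 4, nat_lit 3, nat_lit 2, nat_lit 0, nat_lit 1, nat_lit 9, nat_lit 4, nat_lit 3, nat_lit 2, nat_lit 8, nat_lit 3, nat_lit 11, nat_lit 8, nat_lit 10, nat_lit 1, nat_lit 15, nat_lit 17, nat_lit 12, nat_lit 19] (Rl.rel (nat_lit 0) [nat_lit 0, nat_lit 1, nat_lit 2, nat_lit 3, nat_lit 4, nat_lit 5, nat_lit 6, nat_lit 7, nat_lit 6, nat_lit 1, nat_lit 3, nat_lit 2, nat_lit 0, nat_lit 1, nat_lit 4, nat_lit 3, nat_lit 2, nat_lit 8, nat_lit 3, nat_lit 11, nat_lit 10,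 nat_lit 2, nat_lit 8, nat_lit 10, nat_lit 1, nat_lit 8, nat_lit 12, nat_lit 15, nat_lit 14, nat_lit 17, nat_lit 12, nat_lit 19, nat_lit 16] (nat_lit 33) (nat_lit 2) [nat_lit 4394, nat_lit 2442, nat_lit 2378, nat_lit 2425] []))) (FT.leaf (Fct.mk true (nat_lit 5) (nat_lit 866) (nat_lit 33) [nat_lit 3, nat_lit 8, nat_lit 1, nat_lit 2, nat_lit 3, nat_lit 4, nat_lit 5, nat_lit 6, nat_lit 7, nat_lit 6, nat_lit 5, nat_lit 3, nat_lit 4, nat_lit 2, nat_lit 3, nat_lit 8, nat_lit 1, nat_lit 2, nat_lit 3, nat_lit 4, nat_lit 5, nat_lit 1, nat_lit 3, nat_lit 8, nat_lit 4, nat_lit 3, nat_lit 2, nat_lit 0, nat_lit 1, nat_lit 9, nat_lit 4, nat_lit 3, nat_lit 2, nat_lit 8, nat_lit 3, nat_lit 11, nat_lit 1, nat_lit 16, nat_lit 12, nat_lit 15, nat_lit 14, nat_lit 8, nat_lit 19] (Rl.t1 (nat_lit 4560) (nat_lit 2967)))))))) (FT.node (nat_lit 4568) (FT.node (nat_lit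 4565) (FT.node (nat_lit 4563) (FT.leaf (Fct.mk true (nat_lit 33) (nat_lit 410) (nat_lit 5) [nat_lit 4, nat_lit 1, nat_lit 2, nat_lit 3, nat_lit 8, nat_lit 5, nat_lit 6, nat_lit 4, nat_lit 5, nat_lit 3, nat_lit 4, nat_lit 2, nat_lit 3, nat_lit 8, nat_lit 1, nat_lit 2, nat_lit 3, nat_lit 4, nat_lit 5, nat_lit 6, nat_lit 7, nat_lit 3, nat_lit 8, nat_lit 5, nat_lit 2, nat_lit 3, nat_lit 4, nat_lit 1, nat_lit 2, nat_lit 3, nat_lit 8, nat_lit 0, nat_lit 1, nat_lit 2, nat_lit 3, nat_lit 4, nat_lit 5, nat_lit 3, nat_lit 8, nat_lit 4, nat_lit 3, nat_lit 2, nat_lit 0, nat_lit 1, nat_lit 9, nat_lit 4, nat_lit 3, nat_lit 2, nat_lit 8, nat_lit 3, nat_lit 1, nat_lit 0, nat_lit 2, nat_lit 13] (Rl.inv (nat_lit 4561)))) (FT.node (nat_lit 4564) (FT.leaf (Fct.mk false (nat_lit 4) (nat_lit 0) (nat_lit 4) [nat_lit 2, nat_lit 3, nat_lit 8, nat_lit 4, nat_lit 5,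 nat_lit 3, nat_lit 4, nat_lit 2, nat_lit 3, nat_lit 8, nat_lit 6, nat_lit 7, nat_lit 5, nat_lit 6, nat_lit 4, nat_lit 5, nat_lit 3, nat_lit 4, nat_lit 2, nat_lit 3, nat_lit 8, nat_lit 1, nat_lit 2, nat_lit 3, nat_lit 4, nat_lit 5, nat_lit 6, nat_lit 7, nat_lit 8, nat_lit 3, nat_lit 4, nat_lit 2, nat_lit 3, nat_lit 8, nat_lit 5, nat_lit 6, nat_lit 4, nat_lit 5, nat_lit 3, nat_lit 4, nat_lit 2, nat_lit 3, nat_lit 8, nat_lit 1, nat_lit 2, nat_lit 3, nat_lit 4, nat_lit 5, nat_lit 2, nat_lit 3, nat_lit 8, nat_lit 4, nat_lit 3, nat_lit 2, nat_lit 1, nat_lit 9, nat_lit 4, nat_lit 3, nat_lit 2, nat_lit 8, nat_lit 3, nat_lit 10, nat_lit 2, nat_lit 8, nat_lit 10, nat_lit 1, nat_lit 8, nat_lit 16, nat_lit 14, nat_lit 18] (Rl.cmp (nat_lit 2372) (nat_lit 2838)))) (FT.leaf (Fct.mk false (nat_lit 33) (nat_lit 0) (nat_lit 33) [nat_lit 102] (Rl.cmp (nat_lit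 4402) (nat_lit 4400)))))) (FT.node (nat_lit 4566) (FT.leaf (Fct.mk false (nat_lit 33) (nat_lit 0) (nat_lit 33) [nat_lit 6, nat_lit 4, nat_lit 5, nat_lit 3, nat_lit 4, nat_lit 2, nat_lit 3, nat_lit 8, nat_lit 1, nat_lit 2, nat_lit 3, nat_lit 4, nat_lit 5, nat_lit 6, nat_lit 7, nat_lit 4, nat_lit 5, nat_lit 1, nat_lit 3, nat_lit 2, nat_lit 0, nat_lit 1, nat_lit 4, nat_lit 3, nat_lit 2, nat_lit 8, nat_lit 3, nat_lit 8, nat_lit 10, nat_lit 16, nat_lit 15, nat_lit 14, nat_lit 13, nat_lit 12, nat_lit 19, nat_lit 16] (Rl.cmp (nat_lit 4456) (nat_lit 4564)))) (FT.node (nat_lit 4567) (FT.leaf (Fct.mk false (nat_lit 33) (nat_lit 0) (nat_lit 33) [nat_lit 3, nat_lit 8, nat_lit 2, nat_lit 3, nat_lit 4, nat_lit 1, nat_lit 2, nat_lit 3, nat_lit 8, nat_lit 5, nat_lit 6, nat_lit 4, nat_lit 5, nat_lit 3, nat_lit 4, nat_lit 2, nat_lit 3, nat_lit 8, nat_lit 1,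 nat_lit 2, nat_lit 3, nat_lit 4, nat_lit 5, nat_lit 6, nat_lit 7, nat_lit 3, nat_lit 8, nat_lit 2, nat_lit 3, nat_lit 4, nat_lit 1, nat_lit 2, nat_lit 3, nat_lit 8, nat_lit 5, nat_lit 6, nat_lit 4, nat_lit 5, nat_lit 3, nat_lit 4, nat_lit 2, nat_lit 3, nat_lit 8, nat_lit 1, nat_lit 2, nat_lit 3, nat_lit 4, nat_lit 5, nat_lit 8, nat_lit 3, nat_lit 2, nat_lit 0, nat_lit 1, nat_lit 9, nat_lit 4, nat_lit 3, nat_lit 2, nat_lit 8, nat_lit 3, nat_lit 2, nat_lit 8, nat_lit 10, nat_lit 1, nat_lit 8, nat_lit 16, nat_lit 14, nat_lit 16, nat_lit 8, nat_lit 19, nat_lit 16] (Rl.cmp (nat_lit 4400) (nat_lit 4565)))) (FT.leaf (Fct.mk false (nat_lit 33) (nat_lit 0) (nat_lit 33) [nat_lit 5, nat_lit 4, nat_lit 3, nat_lit 8, nat_lit 2, nat_lit 3, nat_lit 4, nat_lit 5, nat_lit 6, nat_lit 7, nat_lit 6, nat_lit 5, nat_lit 4, nat_lit 3, nat_lit 8, nat_lit 2, nat_lit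 3, nat_lit 4, nat_lit 5, nat_lit 1, nat_lit 8, nat_lit 4, nat_lit 3, nat_lit 2, nat_lit 0, nat_lit 1, nat_lit 9, nat_lit 4, nat_lit 3, nat_lit 2, nat_lit 8, nat_lit 3, nat_lit 8, nat_lit 10, nat_lit 1, nat_lit 8, nat_lit 12, nat_lit 15, nat_lit 14, nat_lit 13, nat_lit 12, nat_lit 19] (Rl.cmp (nat_lit 4402) (nat_lit 4566))))))) (FT.node (nat_lit 4571) (FT.node (nat_lit 4569) (FT.leaf (Fct.mk false (nat_lit 33) (nat_lit 0) (nat_lit 33) [nat_lit 3, nat_lit 8, nat_lit 0, nat_lit 1, nat_lit 2, nat_lit 3, nat_lit 4, nat_lit 5, nat_lit 6, nat_lit 7, nat_lit 3, nat_lit 4, nat_lit 2, nat_lit 3, nat_lit 8, nat_lit 1, nat_lit 2, nat_lit 3, nat_lit 4, nat_lit 5, nat_lit 2, nat_lit 3, nat_lit 8, nat_lit 4, nat_lit 3, nat_lit 2, nat_lit 0, nat_lit 1, nat_lit 9, nat_lit 4, nat_lit 3, nat_lit 2, nat_lit 8, nat_lit 3, nat_lit 11, nat_lit 2, nat_lit 10, nat_lit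 1, nat_lit 16, nat_lit 15, nat_lit 14, nat_lit 16, nat_lit 8] (Rl.cmp (nat_lit 4456) (nat_lit 4567)))) (FT.node (nat_lit 4570) (FT.leaf (Fct.mk false (nat_lit 33) (nat_lit 0) (nat_lit 33) [nat_lit 4, nat_lit 1, nat_lit 2, nat_lit 3, nat_lit 8, nat_lit 0, nat_lit 1, nat_lit 2, nat_lit 3, nat_lit 4, nat_lit 5, nat_lit 6, nat_lit 7, nat_lit 4, nat_lit 5, nat_lit 3, nat_lit 4, nat_lit 1, nat_lit 2, nat_lit 3, nat_lit 8, nat_lit 0, nat_lit 1, nat_lit 2, nat_lit 3, nat_lit 4, nat_lit 5, nat_lit 3, nat_lit 2, nat_lit 8, nat_lit 3, nat_lit 15, nat_lit 14, nat_lit 12, nat_lit 19, nat_lit 16] (Rl.cmp (nat_lit 4402) (nat_lit 4568)))) (FT.leaf (Fct.mk false (nat_lit 33) (nat_lit 0) (nat_lit 33) [nat_lit 8, nat_lit 7, nat_lit 6, nat_lit 4, nat_lit 5, nat_lit 3, nat_lit 4, nat_lit 2, nat_lit 3, nat_lit 8, nat_lit 1, nat_lit 2, nat_lit 3, nat_lit 4, nat_lit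 5, nat_lit 6, nat_lit 7, nat_lit 6, nat_lit 4, nat_lit 5, nat_lit 3, nat_lit 4, nat_lit 1, nat_lit 2, nat_lit 3, nat_lit 8, nat_lit 0, nat_lit 1, nat_lit 2, nat_lit 3, nat_lit 4, nat_lit 5, nat_lit 2, nat_lit 8, nat_lit 3, nat_lit 9, nat_lit 2, nat_lit 15, nat_lit 14, nat_lit 16, nat_lit 8, nat_lit 16] (Rl.cmp (nat_lit 4456) (nat_lit 4569)))))) (FT.node (nat_lit 4573) (FT.node (nat_lit 4572) (FT.leaf (Fct.mk true (nat_lit 32) (nat_lit 9646) (nat_lit 33) [nat_lit 7, nat_lit 6, nat_lit 5, nat_lit 3, nat_lit 4, nat_lit 1, nat_lit 2, nat_lit 3, nat_lit 8, nat_lit 0, nat_lit 1, nat_lit 2, nat_lit 3, nat_lit 4, nat_lit 5, nat_lit 6, nat_lit 7, nat_lit 5, nat_lit 4, nat_lit 3, nat_lit 8, nat_lit 1, nat_lit 2, nat_lit 3, nat_lit 4, nat_lit 5, nat_lit 2, nat_lit 1, nat_lit 8, nat_lit 4, nat_lit 3, nat_lit 2, nat_lit 0, nat_lit 1, nat_lit 9, nat_lit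 4, nat_lit 3, nat_lit 2, nat_lit 8, nat_lit 3, nat_lit 2, nat_lit 10, nat_lit 1, nat_lit 12, nat_lit 15, nat_lit 14, nat_lit 17, nat_lit 19] (Rl.rel (nat_lit 0) [nat_lit 8, nat_lit 5, nat_lit 6, nat_lit 4, nat_lit 5, nat_lit 3, nat_lit 4, nat_lit 1, nat_lit 2, nat_lit 3, nat_lit 8, nat_lit 0, nat_lit 1, nat_lit 2, nat_lit 3, nat_lit 4, nat_lit 5, nat_lit 6, nat_lit 7, nat_lit 6, nat_lit 1, nat_lit 2, nat_lit 0, nat_lit 1, nat_lit 9, nat_lit 4, nat_lit 3, nat_lit 2, nat_lit 8, nat_lit 3, nat_lit 11, nat_lit 9, nat_lit 10, nat_lit 2, nat_lit 8, nat_lit 10, nat_lit 1, nat_lit 8, nat_lit 12, nat_lit 15, nat_lit 17, nat_lit 12, nat_lit 19] (nat_lit 33) (nat_lit 2) [nat_lit 4394, nat_lit 4563, nat_lit 3344] []))) (FT.leaf (Fct.mk true (nat_lit 32) (nat_lit 2662) (nat_lit 33) [nat_lit 8, nat_lit 4, nat_lit 5, nat_lit 3, nat_lit 4, nat_lit 2, nat_lit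 3, nat_lit 8, nat_lit 6, nat_lit 7, nat_lit 5, nat_lit 6, nat_lit 4, nat_lit 5, nat_lit 3, nat_lit 4, nat_lit 2, nat_lit 3, nat_lit 8, nat_lit 0, nat_lit 1, nat_lit 2, nat_lit 3, nat_lit 4, nat_lit 5, nat_lit 6, nat_lit 7, nat_lit 3, nat_lit 8, nat_lit 1, nat_lit 2, nat_lit 3, nat_lit 4, nat_lit 5, nat_lit 2, nat_lit 1, nat_lit 3, nat_lit 2, nat_lit 8, nat_lit 3, nat_lit 2, nat_lit 16, nat_lit 15, nat_lit 14] (Rl.t1 (nat_lit 4571) (nat_lit 4290))))) (FT.node (nat_lit 4574) (FT.leaf (Fct.mk true (nat_lit 33) (nat_lit 12897) (nat_lit 32) [nat_lit 5, nat_lit 2, nat_lit 3, nat_lit 4, nat_lit 1, nat_lit 2, nat_lit 3, nat_lit 8, nat_lit 6, nat_lit 7, nat_lit 5, nat_lit 6, nat_lit 4, nat_lit 5, nat_lit 3, nat_lit 4, nat_lit 2, nat_lit 3, nat_lit 8, nat_lit 1, nat_lit 2, nat_lit 3, nat_lit 4, nat_lit 5, nat_lit 6, nat_lit 7, nat_lit 2, nat_lit 3, nat_lit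 8, nat_lit 0, nat_lit 1, nat_lit 2, nat_lit 3, nat_lit 4, nat_lit 5, nat_lit 2, nat_lit 8, nat_lit 10, nat_lit 1, nat_lit 12, nat_lit 15, nat_lit 14, nat_lit 16, nat_lit 8, nat_lit 16] (Rl.inv (nat_lit 4572)))) (FT.leaf (Fct.mk true (nat_lit 33) (nat_lit 422) (nat_lit 32) [nat_lit 4, nat_lit 3, nat_lit 8, nat_lit 1, nat_lit 2, nat_lit 3, nat_lit 4, nat_lit 5, nat_lit 6, nat_lit 7, nat_lit 8, nat_lit 1, nat_lit 2, nat_lit 3, nat_lit 4, nat_lit 5, nat_lit 1, nat_lit 3, nat_lit 2, nat_lit 0, nat_lit 1, nat_lit 9, nat_lit 4, nat_lit 3, nat_lit 2, nat_lit 8, nat_lit 3, nat_lit 10, nat_lit 12, nat_lit 8, nat_lit 16, nat_lit 14, nat_lit 12, nat_lit 18] (Rl.t1 (nat_lit 4573) (nat_lit 4570))))))))) (FT.node (nat_lit 4587) (FT.node (nat_lit 4581) (FT.node (nat_lit 4578) (FT.node (nat_lit 4576) (FT.leaf (Fct.mk false (nat_lit 4) (nat_lit 0) (nat_lit 4)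 [nat_lit 5, nat_lit 4, nat_lit 3, nat_lit 8, nat_lit 6, nat_lit 7, nat_lit 5, nat_lit 6, nat_lit 4, nat_lit 5, nat_lit 3, nat_lit 4, nat_lit 2, nat_lit 3, nat_lit 8, nat_lit 1, nat_lit 2, nat_lit 3, nat_lit 4, nat_lit 5, nat_lit 6, nat_lit 7, nat_lit 6, nat_lit 5, nat_lit 4, nat_lit 3, nat_lit 8, nat_lit 2, nat_lit 3, nat_lit 4, nat_lit 5, nat_lit 3, nat_lit 9, nat_lit 2, nat_lit 16, nat_lit 14, nat_lit 8, nat_lit 18, nat_lit 16] (Rl.cmp (nat_lit 2372) (nat_lit 240)))) (FT.node (nat_lit 4577) (FT.leaf (Fct.mk false (nat_lit 4) (nat_lit 0) (nat_lit 4) [nat_lit 5, nat_lit 4, nat_lit 3, nat_lit 8, nat_lit 6, nat_lit 7, nat_lit 5, nat_lit 6, nat_lit 4, nat_lit 5, nat_lit 3, nat_lit 4, nat_lit 2, nat_lit 3, nat_lit 8, nat_lit 1, nat_lit 2, nat_lit 3, nat_lit 4, nat_lit 5, nat_lit 6, nat_lit 7, nat_lit 6, nat_lit 5, nat_lit 4, nat_lit 3, nat_lit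 8, nat_lit 1, nat_lit 2, nat_lit 3, nat_lit 4, nat_lit 5, nat_lit 3, nat_lit 9, nat_lit 2, nat_lit 16, nat_lit 14, nat_lit 8, nat_lit 18, nat_lit 16] (Rl.cmp (nat_lit 263) (nat_lit 4575)))) (FT.leaf (Fct.mk false (nat_lit 4) (nat_lit 0) (nat_lit 4) [nat_lit 6, nat_lit 7, nat_lit 5, nat_lit 6, nat_lit 4, nat_lit 5, nat_lit 3, nat_lit 4, nat_lit 2, nat_lit 3, nat_lit 8, nat_lit 1, nat_lit 2, nat_lit 3, nat_lit 4, nat_lit 5, nat_lit 6, nat_lit 7, nat_lit 4, nat_lit 2, nat_lit 3, nat_lit 8, nat_lit 5, nat_lit 6, nat_lit 4, nat_lit 5, nat_lit 3, nat_lit 4, nat_lit 2, nat_lit 3, nat_lit 8, nat_lit 1, nat_lit 2, nat_lit 3, nat_lit 4, nat_lit 5, nat_lit 14, nat_lit 16, nat_lit 8, nat_lit 16] (Rl.cmp (nat_lit 1995) (nat_lit 4576)))))) (FT.node (nat_lit 4579) (FT.leaf (Fct.mk false (nat_lit 4) (nat_lit 0) (nat_lit 4) [nat_lit 101] (Rl.cmp (nat_lit 1995)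 (nat_lit 4577)))) (FT.node (nat_lit 4580) (FT.leaf (Fct.mk true (nat_lit 32) (nat_lit 95424) (nat_lit 33) [nat_lit 8, nat_lit 6, nat_lit 5, nat_lit 3, nat_lit 4, nat_lit 2, nat_lit 3, nat_lit 8, nat_lit 0, nat_lit 1, nat_lit 2, nat_lit 3, nat_lit 4, nat_lit 5, nat_lit 6, nat_lit 7, nat_lit 8, nat_lit 3, nat_lit 4, nat_lit 1, nat_lit 2, nat_lit 3, nat_lit 8, nat_lit 0, nat_lit 1, nat_lit 2, nat_lit 3, nat_lit 4, nat_lit 5, nat_lit 2, nat_lit 1, nat_lit 9, nat_lit 4, nat_lit 3, nat_lit 2, nat_lit 8, nat_lit 3, nat_lit 1, nat_lit 9, nat_lit 8, nat_lit 12, nat_lit 15, nat_lit 14, nat_lit 17, nat_lit 12, nat_lit 19] (Rl.rel (nat_lit 0) [nat_lit 8, nat_lit 5, nat_lit 6, nat_lit 4, nat_lit 5, nat_lit 3, nat_lit 4, nat_lit 1, nat_lit 2, nat_lit 3, nat_lit 8, nat_lit 0, nat_lit 1, nat_lit 2, nat_lit 3, nat_lit 4, nat_lit 5, nat_lit 6, nat_lit 7, nat_lit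 6, nat_lit 2, nat_lit 1, nat_lit 9, nat_lit 4, nat_lit 3, nat_lit 2, nat_lit 8, nat_lit 3, nat_lit 11, nat_lit 9, nat_lit 10, nat_lit 2, nat_lit 8, nat_lit 10, nat_lit 1, nat_lit 8, nat_lit 12, nat_lit 15, nat_lit 14, nat_lit 17, nat_lit 12, nat_lit 19, nat_lit 16] (nat_lit 33) (nat_lit 2) [nat_lit 4394, nat_lit 4578, nat_lit 2992] []))) (FT.leaf (Fct.mk true (nat_lit 32) (nat_lit 387) (nat_lit 33) [nat_lit 1, nat_lit 2, nat_lit 3, nat_lit 8, nat_lit 0, nat_lit 1, nat_lit 2, nat_lit 3, nat_lit 4, nat_lit 5, nat_lit 6, nat_lit 7, nat_lit 6, nat_lit 5, nat_lit 4, nat_lit 3, nat_lit 8, nat_lit 1, nat_lit 2, nat_lit 3, nat_lit 4, nat_lit 5, nat_lit 2, nat_lit 1, nat_lit 3, nat_lit 2, nat_lit 8, nat_lit 3, nat_lit 1, nat_lit 9, nat_lit 8, nat_lit 12, nat_lit 15, nat_lit 14, nat_lit 17, nat_lit 12, nat_lit 18] (Rl.t1 (nat_lit 4579) (nat_lit 4389)))))))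 (FT.node (nat_lit 4584) (FT.node (nat_lit 4582) (FT.leaf (Fct.mk true (nat_lit 33) (nat_lit 29808) (nat_lit 32) [nat_lit 8, nat_lit 5, nat_lit 3, nat_lit 4, nat_lit 2, nat_lit 3, nat_lit 8, nat_lit 1, nat_lit 2, nat_lit 3, nat_lit 4, nat_lit 5, nat_lit 6, nat_lit 7, nat_lit 2, nat_lit 3, nat_lit 4, nat_lit 1, nat_lit 2, nat_lit 3, nat_lit 8, nat_lit 0, nat_lit 1, nat_lit 2, nat_lit 3, nat_lit 4, nat_lit 5, nat_lit 8, nat_lit 3, nat_lit 2, nat_lit 1, nat_lit 9, nat_lit 4, nat_lit 3, nat_lit 2, nat_lit 8, nat_lit 3, nat_lit 11, nat_lit 8, nat_lit 10, nat_lit 16, nat_lit 15, nat_lit 14, nat_lit 8, nat_lit 19] (Rl.inv (nat_lit 4580)))) (FT.node (nat_lit 4583) (FT.leaf (Fct.mk true (nat_lit 33) (nat_lit 282) (nat_lit 32) [nat_lit 2, nat_lit 3, nat_lit 8, nat_lit 4, nat_lit 5, nat_lit 3, nat_lit 4, nat_lit 2, nat_lit 3, nat_lit 8, nat_lit 1, nat_lit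 2, nat_lit 3, nat_lit 4, nat_lit 5, nat_lit 6, nat_lit 7, nat_lit 8, nat_lit 2, nat_lit 3, nat_lit 4, nat_lit 1, nat_lit 2, nat_lit 3, nat_lit 8, nat_lit 0, nat_lit 1, nat_lit 2, nat_lit 3, nat_lit 4, nat_lit 5, nat_lit 8, nat_lit 3, nat_lit 2, nat_lit 0, nat_lit 1, nat_lit 9, nat_lit 4, nat_lit 3, nat_lit 2, nat_lit 8, nat_lit 3, nat_lit 8, nat_lit 10, nat_lit 1, nat_lit 16, nat_lit 12, nat_lit 15, nat_lit 14, nat_lit 17, nat_lit 12, nat_lit 19, nat_lit 16] (Rl.t1 (nat_lit 4581) (nat_lit 4402)))) (FT.leaf (Fct.mk true (nat_lit 32) (nat_lit 65406) (nat_lit 33) [nat_lit 6, nat_lit 4, nat_lit 5, nat_lit 3, nat_lit 4, nat_lit 2, nat_lit 3, nat_lit 8, nat_lit 1, nat_lit 2, nat_lit 3, nat_lit 4, nat_lit 5, nat_lit 6, nat_lit 7, nat_lit 4, nat_lit 3, nat_lit 8, nat_lit 2, nat_lit 3, nat_lit 4, nat_lit 5, nat_lit 8, nat_lit 4, nat_lit 3, nat_lit 2,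 nat_lit 0, nat_lit 1, nat_lit 9, nat_lit 4, nat_lit 3, nat_lit 2, nat_lit 8, nat_lit 3, nat_lit 11, nat_lit 10, nat_lit 2, nat_lit 8, nat_lit 10, nat_lit 1, nat_lit 8, nat_lit 12, nat_lit 15, nat_lit 17, nat_lit 19] (Rl.rel (nat_lit 0) [nat_lit 0, nat_lit 1, nat_lit 2, nat_lit 3, nat_lit 4, nat_lit 5, nat_lit 6, nat_lit 7, nat_lit 6, nat_lit 1, nat_lit 3, nat_lit 2, nat_lit 0, nat_lit 1, nat_lit 4, nat_lit 3, nat_lit 2, nat_lit 8, nat_lit 3, nat_lit 11, nat_lit 10, nat_lit 2, nat_lit 8, nat_lit 10, nat_lit 1, nat_lit 12, nat_lit 15, nat_lit 14, nat_lit 17, nat_lit 12, nat_lit 19, nat_lit 16] (nat_lit 33) (nat_lit 2) [nat_lit 4394, nat_lit 4182, nat_lit 2999] []))))) (FT.node (nat_lit 4585) (FT.leaf (Fct.mk true (nat_lit 32) (nat_lit 2673) (nat_lit 33) [nat_lit 5, nat_lit 6, nat_lit 7, nat_lit 4, nat_lit 1, nat_lit 2, nat_lit 3, nat_lit 8, nat_lit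 0, nat_lit 1, nat_lit 2, nat_lit 3, nat_lit 4, nat_lit 5, nat_lit 2, nat_lit 1, nat_lit 8, nat_lit 4, nat_lit 3, nat_lit 2, nat_lit 0, nat_lit 1, nat_lit 9, nat_lit 4, nat_lit 3, nat_lit 2, nat_lit 8, nat_lit 3, nat_lit 2, nat_lit 10, nat_lit 1, nat_lit 12, nat_lit 15, nat_lit 17, nat_lit 12, nat_lit 19] (Rl.t1 (nat_lit 4583) (nat_lit 4384)))) (FT.node (nat_lit 4586) (FT.leaf (Fct.mk true (nat_lit 33) (nat_lit 352) (nat_lit 32) [nat_lit 8, nat_lit 6, nat_lit 5, nat_lit 2, nat_lit 3, nat_lit 4, nat_lit 1, nat_lit 2, nat_lit 3, nat_lit 8, nat_lit 0, nat_lit 1, nat_lit 2, nat_lit 3, nat_lit 4, nat_lit 5, nat_lit 6, nat_lit 7, nat_lit 5, nat_lit 4, nat_lit 2, nat_lit 3, nat_lit 8, nat_lit 0, nat_lit 1, nat_lit 2, nat_lit 3, nat_lit 4, nat_lit 5, nat_lit 3, nat_lit 2, nat_lit 8, nat_lit 3, nat_lit 9, nat_lit 2, nat_lit 8, nat_lit 16, nat_lit 15,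 nat_lit 14] (Rl.inv (nat_lit 4584)))) (FT.leaf (Fct.mk false (nat_lit 4) (nat_lit 0) (nat_lit 4) [nat_lit 2, nat_lit 3, nat_lit 8, nat_lit 4, nat_lit 5, nat_lit 3, nat_lit 4, nat_lit 2, nat_lit 3, nat_lit 8, nat_lit 6, nat_lit 7, nat_lit 5, nat_lit 6, nat_lit 4, nat_lit 5, nat_lit 3, nat_lit 4, nat_lit 2, nat_lit 3, nat_lit 8, nat_lit 1, nat_lit 2, nat_lit 3, nat_lit 4, nat_lit 5, nat_lit 6, nat_lit 7, nat_lit 3, nat_lit 4, nat_lit 5, nat_lit 1, nat_lit 3, nat_lit 2, nat_lit 8, nat_lit 3, nat_lit 10, nat_lit 12, nat_lit 8, nat_lit 16, nat_lit 14, nat_lit 12, nat_lit 16] (Rl.cmp (nat_lit 240) (nat_lit 2527)))))))) (FT.node (nat_lit 4593) (FT.node (nat_lit 4590) (FT.node (nat_lit 4588) (FT.leaf (Fct.mk false (nat_lit 4) (nat_lit 0) (nat_lit 4) [nat_lit 5, nat_lit 4, nat_lit 3, nat_lit 8, nat_lit 6, nat_lit 7, nat_lit 5, nat_lit 6, nat_lit 4,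 nat_lit 5, nat_lit 3, nat_lit 4, nat_lit 2, nat_lit 3, nat_lit 8, nat_lit 1, nat_lit 2, nat_lit 3, nat_lit 4, nat_lit 5, nat_lit 6, nat_lit 7, nat_lit 8, nat_lit 1, nat_lit 2, nat_lit 3, nat_lit 4, nat_lit 5, nat_lit 1, nat_lit 3, nat_lit 2, nat_lit 8, nat_lit 3, nat_lit 2, nat_lit 8, nat_lit 19, nat_lit 16] (Rl.cmp (nat_lit 2284) (nat_lit 4586)))) (FT.node (nat_lit 4589) (FT.leaf (Fct.mk true (nat_lit 33) (nat_lit 2255) (nat_lit 33) [nat_lit 8, nat_lit 1, nat_lit 2, nat_lit 3, nat_lit 4, nat_lit 5, nat_lit 6, nat_lit 7, nat_lit 5, nat_lit 8, nat_lit 3, nat_lit 2, nat_lit 0, nat_lit 1, nat_lit 4, nat_lit 3, nat_lit 2, nat_lit 8, nat_lit 3, nat_lit 11, nat_lit 2, nat_lit 8, nat_lit 10, nat_lit 1, nat_lit 16, nat_lit 15, nat_lit 14, nat_lit 17, nat_lit 12, nat_lit 19, nat_lit 16] (Rl.rel (nat_lit 0) [nat_lit 8, nat_lit 5, nat_lit 6, nat_lit 4,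 nat_lit 5, nat_lit 3, nat_lit 4, nat_lit 1, nat_lit 2, nat_lit 3, nat_lit 8, nat_lit 0, nat_lit 1, nat_lit 2, nat_lit 3, nat_lit 4, nat_lit 5, nat_lit 6, nat_lit 7, nat_lit 6, nat_lit 1, nat_lit 2, nat_lit 0, nat_lit 1, nat_lit 9, nat_lit 4, nat_lit 3, nat_lit 2, nat_lit 8, nat_lit 3, nat_lit 11, nat_lit 9, nat_lit 10, nat_lit 2, nat_lit 8, nat_lit 10, nat_lit 1, nat_lit 15, nat_lit 17, nat_lit 12, nat_lit 19, nat_lit 16] (nat_lit 33) (nat_lit 2) [nat_lit 4394, nat_lit 4587, nat_lit 4398] []))) (FT.leaf (Fct.mk true (nat_lit 33) (nat_lit 525) (nat_lit 33) [nat_lit 3, nat_lit 8, nat_lit 7, nat_lit 6, nat_lit 4, nat_lit 5, nat_lit 3, nat_lit 4, nat_lit 2, nat_lit 3, nat_lit 8, nat_lit 1, nat_lit 2, nat_lit 3, nat_lit 4, nat_lit 5, nat_lit 6, nat_lit 7, nat_lit 8, nat_lit 1, nat_lit 2, nat_lit 3, nat_lit 4, nat_lit 5, nat_lit 2, nat_lit 1, nat_lit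 4, nat_lit 3, nat_lit 2, nat_lit 0, nat_lit 1, nat_lit 9, nat_lit 4, nat_lit 3, nat_lit 2, nat_lit 8, nat_lit 3, nat_lit 10, nat_lit 2, nat_lit 8, nat_lit 10, nat_lit 1, nat_lit 15, nat_lit 14, nat_lit 17, nat_lit 12, nat_lit 19] (Rl.t1 (nat_lit 4588) (nat_lit 4400)))))) (FT.node (nat_lit 4591) (FT.leaf (Fct.mk false (nat_lit 4) (nat_lit 0) (nat_lit 4) [nat_lit 8, nat_lit 3, nat_lit 4, nat_lit 2, nat_lit 3, nat_lit 8, nat_lit 6, nat_lit 7, nat_lit 5, nat_lit 6, nat_lit 4, nat_lit 5, nat_lit 3, nat_lit 4, nat_lit 2, nat_lit 3, nat_lit 8, nat_lit 1, nat_lit 2, nat_lit 3, nat_lit 4, nat_lit 5, nat_lit 6, nat_lit 7, nat_lit 6, nat_lit 5, nat_lit 4, nat_lit 3, nat_lit 8, nat_lit 2, nat_lit 3, nat_lit 4, nat_lit 1, nat_lit 2, nat_lit 3, nat_lit 8, nat_lit 5, nat_lit 6, nat_lit 4, nat_lit 5, nat_lit 3, nat_lit 4, nat_lit 2, nat_lit 3, nat_lit 8, nat_lit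 1, nat_lit 2, nat_lit 3, nat_lit 4, nat_lit 5, nat_lit 1, nat_lit 9, nat_lit 4, nat_lit 3, nat_lit 2, nat_lit 8, nat_lit 3, nat_lit 10, nat_lit 2, nat_lit 8, nat_lit 10, nat_lit 1, nat_lit 14, nat_lit 16, nat_lit 8, nat_lit 18] (Rl.cmp (nat_lit 312) (nat_lit 2961)))) (FT.node (nat_lit 4592) (FT.leaf (Fct.mk false (nat_lit 4) (nat_lit 0) (nat_lit 4) [nat_lit 8, nat_lit 3, nat_lit 4, nat_lit 1, nat_lit 2, nat_lit 3, nat_lit 8, nat_lit 6, nat_lit 7, nat_lit 5, nat_lit 6, nat_lit 4, nat_lit 5, nat_lit 3, nat_lit 4, nat_lit 2, nat_lit 3, nat_lit 8, nat_lit 1, nat_lit 2, nat_lit 3, nat_lit 4, nat_lit 5, nat_lit 6, nat_lit 7, nat_lit 6, nat_lit 4, nat_lit 3, nat_lit 2, nat_lit 8, nat_lit 3, nat_lit 12, nat_lit 8, nat_lit 16, nat_lit 14, nat_lit 12, nat_lit 16] (Rl.cmp (nat_lit 312) (nat_lit 4590)))) (FT.leaf (Fct.mk false (nat_lit 33) (nat_lit 0)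 (nat_lit 33) [nat_lit 2, nat_lit 3, nat_lit 8, nat_lit 1, nat_lit 2, nat_lit 3, nat_lit 4, nat_lit 5, nat_lit 6, nat_lit 7, nat_lit 2, nat_lit 3, nat_lit 8, nat_lit 0, nat_lit 1, nat_lit 2, nat_lit 3, nat_lit 4, nat_lit 5, nat_lit 3, nat_lit 2, nat_lit 1, nat_lit 9, nat_lit 4, nat_lit 3, nat_lit 2, nat_lit 8, nat_lit 3, nat_lit 0, nat_lit 14, nat_lit 8, nat_lit 18] (Rl.cmp (nat_lit 4456) (nat_lit 4400))))))) (FT.node (nat_lit 4596) (FT.node (nat_lit 4594) (FT.leaf (Fct.mk false (nat_lit 33) (nat_lit 0) (nat_lit 33) [nat_lit 5, nat_lit 4, nat_lit 3, nat_lit 8, nat_lit 2, nat_lit 3, nat_lit 4, nat_lit 1, nat_lit 2, nat_lit 3, nat_lit 8, nat_lit 5, nat_lit 6, nat_lit 4, nat_lit 5, nat_lit 3, nat_lit 4, nat_lit 2, nat_lit 3, nat_lit 8, nat_lit 1, nat_lit 2, nat_lit 3, nat_lit 4, nat_lit 5, nat_lit 6, nat_lit 7, nat_lit 4, nat_lit 2, nat_lit 3,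 nat_lit 8, nat_lit 0, nat_lit 1, nat_lit 2, nat_lit 3, nat_lit 4, nat_lit 5, nat_lit 1, nat_lit 4, nat_lit 3, nat_lit 2, nat_lit 8, nat_lit 3, nat_lit 11, nat_lit 10, nat_lit 2, nat_lit 8, nat_lit 10, nat_lit 1, nat_lit 12, nat_lit 15, nat_lit 16, nat_lit 8, nat_lit 19, nat_lit 16] (Rl.cmp (nat_lit 4402) (nat_lit 4592)))) (FT.node (nat_lit 4595) (FT.leaf (Fct.mk false (nat_lit 33) (nat_lit 0) (nat_lit 33) [nat_lit 1, nat_lit 2, nat_lit 3, nat_lit 8, nat_lit 6, nat_lit 7, nat_lit 5, nat_lit 6, nat_lit 4, nat_lit 5, nat_lit 3, nat_lit 4, nat_lit 2, nat_lit 3, nat_lit 8, nat_lit 1, nat_lit 2, nat_lit 3, nat_lit 4, nat_lit 5, nat_lit 6, nat_lit 7, nat_lit 8, nat_lit 5, nat_lit 6, nat_lit 4, nat_lit 5, nat_lit 3, nat_lit 4, nat_lit 2, nat_lit 3, nat_lit 8, nat_lit 1, nat_lit 2, nat_lit 3, nat_lit 4, nat_lit 5, nat_lit 1, nat_lit 9, nat_lit 4, nat_lit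 3, nat_lit 2, nat_lit 8, nat_lit 3, nat_lit 11, nat_lit 8, nat_lit 12, nat_lit 15, nat_lit 13, nat_lit 19] (Rl.cmp (nat_lit 4456) (nat_lit 4593)))) (FT.leaf (Fct.mk false (nat_lit 33) (nat_lit 0) (nat_lit 33) [nat_lit 8, nat_lit 7, nat_lit 6, nat_lit 5, nat_lit 3, nat_lit 4, nat_lit 2, nat_lit 3, nat_lit 8, nat_lit 1, nat_lit 2, nat_lit 3, nat_lit 4, nat_lit 5, nat_lit 6, nat_lit 7, nat_lit 3, nat_lit 4, nat_lit 1, nat_lit 2, nat_lit 3, nat_lit 8, nat_lit 5, nat_lit 6, nat_lit 4, nat_lit 5, nat_lit 3, nat_lit 4, nat_lit 2, nat_lit 3, nat_lit 8, nat_lit 1, nat_lit 2, nat_lit 3, nat_lit 4, nat_lit 5, nat_lit 1, nat_lit 3, nat_lit 2, nat_lit 8, nat_lit 3, nat_lit 11, nat_lit 2, nat_lit 8, nat_lit 12, nat_lit 15, nat_lit 17, nat_lit 16] (Rl.cmp (nat_lit 4402) (nat_lit 4594)))))) (FT.node (nat_lit 4598) (FT.node (nat_lit 4597) (FT.leaf (Fct.mk false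 (nat_lit 33) (nat_lit 0) (nat_lit 33) [nat_lit 4, nat_lit 5, nat_lit 3, nat_lit 4, nat_lit 2, nat_lit 3, nat_lit 8, nat_lit 0, nat_lit 1, nat_lit 2, nat_lit 3, nat_lit 4, nat_lit 5, nat_lit 6, nat_lit 7, nat_lit 2, nat_lit 3, nat_lit 8, nat_lit 5, nat_lit 6, nat_lit 4, nat_lit 5, nat_lit 3, nat_lit 4, nat_lit 2, nat_lit 3, nat_lit 8, nat_lit 0, nat_lit 1, nat_lit 2, nat_lit 3, nat_lit 4, nat_lit 5, nat_lit 3, nat_lit 2, nat_lit 1, nat_lit 9, nat_lit 4, nat_lit 3, nat_lit 2, nat_lit 8, nat_lit 3, nat_lit 9, nat_lit 10, nat_lit 2, nat_lit 8, nat_lit 10, nat_lit 1, nat_lit 8, nat_lit 12, nat_lit 15, nat_lit 17, nat_lit 12, nat_lit 18] (Rl.cmp (nat_lit 4456) (nat_lit 4595)))) (FT.leaf (Fct.mk false (nat_lit 33) (nat_lit 0) (nat_lit 33) [nat_lit 5, nat_lit 2, nat_lit 3, nat_lit 4, nat_lit 1, nat_lit 2, nat_lit 3, nat_lit 8, nat_lit 0, nat_lit 1,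 nat_lit 2, nat_lit 3, nat_lit 4, nat_lit 5, nat_lit 6, nat_lit 7, nat_lit 8, nat_lit 4, nat_lit 5, nat_lit 3, nat_lit 4, nat_lit 2, nat_lit 3, nat_lit 8, nat_lit 1, nat_lit 2, nat_lit 3, nat_lit 4, nat_lit 5, nat_lit 3, nat_lit 8, nat_lit 4, nat_lit 3, nat_lit 2, nat_lit 0, nat_lit 1, nat_lit 9, nat_lit 4, nat_lit 3, nat_lit 2, nat_lit 8, nat_lit 3, nat_lit 11, nat_lit 8, nat_lit 10, nat_lit 8, nat_lit 12, nat_lit 15, nat_lit 12, nat_lit 19, nat_lit 16] (Rl.cmp (nat_lit 4402) (nat_lit 4596))))) (FT.node (nat_lit 4599) (FT.leaf (Fct.mk false (nat_lit 33) (nat_lit 0) (nat_lit 33) [nat_lit 5, nat_lit 4, nat_lit 3, nat_lit 8, nat_lit 2, nat_lit 3, nat_lit 4, nat_lit 5, nat_lit 6, nat_lit 7, nat_lit 4, nat_lit 1, nat_lit 2, nat_lit 3, nat_lit 8, nat_lit 5, nat_lit 6, nat_lit 4, nat_lit 5, nat_lit 3, nat_lit 4, nat_lit 2, nat_lit 3, nat_lit 8, nat_lit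 1, nat_lit 2, nat_lit 3, nat_lit 4, nat_lit 5, nat_lit 0, nat_lit 1, nat_lit 9, nat_lit 4, nat_lit 3, nat_lit 2, nat_lit 8, nat_lit 3, nat_lit 11, nat_lit 10, nat_lit 2, nat_lit 8, nat_lit 10, nat_lit 1, nat_lit 8, nat_lit 12, nat_lit 15, nat_lit 19] (Rl.cmp (nat_lit 4456) (nat_lit 4597)))) (FT.leaf (Fct.mk true (nat_lit 32) (nat_lit 7355) (nat_lit 33) [nat_lit 4, nat_lit 3, nat_lit 8, nat_lit 7, nat_lit 5, nat_lit 6, nat_lit 4, nat_lit 5, nat_lit 3, nat_lit 4, nat_lit 2, nat_lit 3, nat_lit 8, nat_lit 0, nat_lit 1, nat_lit 2, nat_lit 3, nat_lit 4, nat_lit 5, nat_lit 6, nat_lit 7, nat_lit 5, nat_lit 1, nat_lit 4, nat_lit 3, nat_lit 2, nat_lit 0, nat_lit 1, nat_lit 9, nat_lit 4, nat_lit 3, nat_lit 2, nat_lit 8, nat_lit 3, nat_lit 1, nat_lit 9, nat_lit 12, nat_lit 15, nat_lit 12, nat_lit 18, nat_lit 16] (Rl.rel (nat_lit 0) [nat_lit 6, nat_lit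 5, nat_lit 4, nat_lit 3, nat_lit 8, nat_lit 0, nat_lit 1, nat_lit 2, nat_lit 3, nat_lit 4, nat_lit 5, nat_lit 6, nat_lit 7, nat_lit 6, nat_lit 2, nat_lit 3, nat_lit 8, nat_lit 4, nat_lit 3, nat_lit 2, nat_lit 0, nat_lit 1, nat_lit 9, nat_lit 4, nat_lit 3, nat_lit 2, nat_lit 8, nat_lit 3, nat_lit 11, nat_lit 10, nat_lit 2, nat_lit 8, nat_lit 10, nat_lit 1, nat_lit 8, nat_lit 12, nat_lit 15, nat_lit 17, nat_lit 12, nat_lit 19, nat_lit 16] (nat_lit 33) (nat_lit 2) [nat_lit 4394, nat_lit 4591, nat_lit 2992] []))))))))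

/-- some facts -/
noncomputable def ftc92 : FT := FT.node (nat_lit 4625) (FT.node (nat_lit 4612) (FT.node (nat_lit 4606) (FT.node (nat_lit 4603) (FT.node (nat_lit 4601) (FT.leaf (Fct.mk true (nat_lit 32) (nat_lit 226) (nat_lit 33) [nat_lit 1, nat_lit 2, nat_lit 3, nat_lit 8, nat_lit 6, nat_lit 7, nat_lit 5, nat_lit 6, nat_lit 4, nat_lit 5, nat_lit 3, nat_lit 4, nat_lit 2, nat_lit 3, nat_lit 8, nat_lit 1, nat_lit 2, nat_lit 3, nat_lit 4, nat_lit 5, nat_lit 6, nat_lit 7, nat_lit 8, nat_lit 2, nat_lit 3, nat_lit 4, nat_lit 5, nat_lit 3, nat_lit 2, nat_lit 1, nat_lit 4, nat_lit 3, nat_lit 2, nat_lit 0, nat_lit 1, nat_lit 9, nat_lit 4, nat_lit 3, nat_lit 2, nat_lit 8, nat_lit 3, nat_lit 1, nat_lit 0, nat_lit 2, nat_lit 16, nat_lit 15, nat_lit 14, nat_lit 13, nat_lit 12, nat_lit 18, nat_lit 16] (Rl.t1 (nat_lit 4599) (nat_lit 4386)))) (FT.node (nat_lit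 4602) (FT.leaf (Fct.mk true (nat_lit 33) (nat_lit 68858) (nat_lit 32) [nat_lit 7, nat_lit 6, nat_lit 5, nat_lit 4, nat_lit 3, nat_lit 8, nat_lit 1, nat_lit 2, nat_lit 3, nat_lit 4, nat_lit 5, nat_lit 6, nat_lit 7, nat_lit 6, nat_lit 5, nat_lit 3, nat_lit 4, nat_lit 1, nat_lit 2, nat_lit 3, nat_lit 8, nat_lit 0, nat_lit 1, nat_lit 2, nat_lit 3, nat_lit 4, nat_lit 5, nat_lit 8, nat_lit 3, nat_lit 2, nat_lit 0, nat_lit 1, nat_lit 4, nat_lit 3, nat_lit 2, nat_lit 8, nat_lit 3, nat_lit 11, nat_lit 10, nat_lit 1, nat_lit 16, nat_lit 8, nat_lit 12, nat_lit 15, nat_lit 13, nat_lit 12, nat_lit 18, nat_lit 16] (Rl.inv (nat_lit 4600)))) (FT.leaf (Fct.mk true (nat_lit 33) (nat_lit 1378) (nat_lit 32) [nat_lit 8, nat_lit 5, nat_lit 3, nat_lit 4, nat_lit 1, nat_lit 2, nat_lit 3, nat_lit 8, nat_lit 6, nat_lit 7, nat_lit 5, nat_lit 6, nat_lit 4, nat_lit 5,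 nat_lit 3, nat_lit 4, nat_lit 2, nat_lit 3, nat_lit 8, nat_lit 1, nat_lit 2, nat_lit 3, nat_lit 4, nat_lit 5, nat_lit 6, nat_lit 7, nat_lit 8, nat_lit 6, nat_lit 5, nat_lit 3, nat_lit 4, nat_lit 1, nat_lit 2, nat_lit 3, nat_lit 8, nat_lit 0, nat_lit 1, nat_lit 2, nat_lit 3, nat_lit 4, nat_lit 5, nat_lit 2, nat_lit 0, nat_lit 1, nat_lit 4, nat_lit 3, nat_lit 2, nat_lit 8, nat_lit 3, nat_lit 1, nat_lit 9, nat_lit 14, nat_lit 16, nat_lit 8, nat_lit 18] (Rl.t1 (nat_lit 4601) (nat_lit 4598)))))) (FT.node (nat_lit 4604) (FT.leaf (Fct.mk false (nat_lit 4) (nat_lit 0) (nat_lit 4) [nat_lit 5, nat_lit 4, nat_lit 3, nat_lit 8, nat_lit 6, nat_lit 7, nat_lit 5, nat_lit 6, nat_lit 4, nat_lit 5, nat_lit 3, nat_lit 4, nat_lit 2, nat_lit 3, nat_lit 8, nat_lit 1, nat_lit 2, nat_lit 3, nat_lit 4, nat_lit 5, nat_lit 6, nat_lit 7, nat_lit 8, nat_lit 2, nat_lit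 3, nat_lit 4, nat_lit 1, nat_lit 2, nat_lit 3, nat_lit 8, nat_lit 5, nat_lit 6, nat_lit 4, nat_lit 5, nat_lit 3, nat_lit 4, nat_lit 2, nat_lit 3, nat_lit 8, nat_lit 1, nat_lit 2, nat_lit 3, nat_lit 4, nat_lit 5, nat_lit 1, nat_lit 2, nat_lit 8, nat_lit 3, nat_lit 16, nat_lit 14, nat_lit 12] (Rl.cmp (nat_lit 2284) (nat_lit 2986)))) (FT.node (nat_lit 4605) (FT.leaf (Fct.mk false (nat_lit 4) (nat_lit 0) (nat_lit 4) [nat_lit 2, nat_lit 3, nat_lit 4, nat_lit 1, nat_lit 2, nat_lit 3, nat_lit 8, nat_lit 6, nat_lit 7, nat_lit 5, nat_lit 6, nat_lit 4, nat_lit 5, nat_lit 3, nat_lit 4, nat_lit 2, nat_lit 3, nat_lit 8, nat_lit 1, nat_lit 2, nat_lit 3, nat_lit 4, nat_lit 5, nat_lit 6, nat_lit 7, nat_lit 6, nat_lit 2, nat_lit 1, nat_lit 9, nat_lit 4, nat_lit 3, nat_lit 2, nat_lit 8, nat_lit 3, nat_lit 10, nat_lit 1, nat_lit 14, nat_lit 16, nat_lit 8, nat_lit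 19, nat_lit 16] (Rl.cmp (nat_lit 243) (nat_lit 4603)))) (FT.leaf (Fct.mk false (nat_lit 33) (nat_lit 0) (nat_lit 33) [nat_lit 105] (Rl.rel (nat_lit 0) [nat_lit 6, nat_lit 5, nat_lit 4, nat_lit 3, nat_lit 8, nat_lit 0, nat_lit 1, nat_lit 2, nat_lit 3, nat_lit 4, nat_lit 5, nat_lit 6, nat_lit 7, nat_lit 6, nat_lit 4, nat_lit 3, nat_lit 2, nat_lit 0, nat_lit 1, nat_lit 9, nat_lit 4, nat_lit 3, nat_lit 2, nat_lit 8, nat_lit 3, nat_lit 11, nat_lit 9, nat_lit 10, nat_lit 2, nat_lit 8, nat_lit 10, nat_lit 1, nat_lit 16, nat_lit 8, nat_lit 12, nat_lit 15, nat_lit 17, nat_lit 12, nat_lit 19, nat_lit 16] (nat_lit 33) (nat_lit 3) [nat_lit 4394, nat_lit 4604, nat_lit 2992, nat_lit 4392, nat_lit 4442] [])))))) (FT.node (nat_lit 4609) (FT.node (nat_lit 4607) (FT.leaf (Fct.mk false (nat_lit 33) (nat_lit 0) (nat_lit 33) [nat_lit 3, nat_lit 8, nat_lit 5, nat_lit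 6, nat_lit 4, nat_lit 5, nat_lit 3, nat_lit 4, nat_lit 1, nat_lit 2, nat_lit 3, nat_lit 8, nat_lit 0, nat_lit 1, nat_lit 2, nat_lit 3, nat_lit 4, nat_lit 5, nat_lit 6, nat_lit 7, nat_lit 2, nat_lit 3, nat_lit 4, nat_lit 1, nat_lit 2, nat_lit 3, nat_lit 8, nat_lit 5, nat_lit 6, nat_lit 4, nat_lit 5, nat_lit 3, nat_lit 4, nat_lit 2, nat_lit 3, nat_lit 8, nat_lit 1, nat_lit 2, nat_lit 3, nat_lit 4, nat_lit 5, nat_lit 3, nat_lit 2, nat_lit 1, nat_lit 4, nat_lit 3, nat_lit 2, nat_lit 8, nat_lit 3, nat_lit 9, nat_lit 2, nat_lit 8, nat_lit 12, nat_lit 15, nat_lit 13] (Rl.cmp (nat_lit 4605) (nat_lit 4400)))) (FT.node (nat_lit 4608) (FT.leaf (Fct.mk false (nat_lit 33) (nat_lit 0) (nat_lit 33) [nat_lit 8, nat_lit 2, nat_lit 3, nat_lit 4, nat_lit 1, nat_lit 2, nat_lit 3, nat_lit 8, nat_lit 6, nat_lit 7, nat_lit 5, nat_lit 6, nat_lit 4, nat_lit 5, nat_lit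 3, nat_lit 4, nat_lit 2, nat_lit 3, nat_lit 8, nat_lit 1, nat_lit 2, nat_lit 3, nat_lit 4, nat_lit 5, nat_lit 6, nat_lit 7, nat_lit 5, nat_lit 4, nat_lit 2, nat_lit 3, nat_lit 8, nat_lit 0, nat_lit 1, nat_lit 2, nat_lit 3, nat_lit 4, nat_lit 5, nat_lit 3, nat_lit 2, nat_lit 0, nat_lit 1, nat_lit 4, nat_lit 3, nat_lit 2, nat_lit 8, nat_lit 3, nat_lit 10, nat_lit 8, nat_lit 12, nat_lit 15, nat_lit 12, nat_lit 18, nat_lit 16] (Rl.cmp (nat_lit 4456) (nat_lit 4606)))) (FT.leaf (Fct.mk false (nat_lit 33) (nat_lit 0) (nat_lit 33) [nat_lit 8, nat_lit 6, nat_lit 5, nat_lit 3, nat_lit 4, nat_lit 2, nat_lit 3, nat_lit 8, nat_lit 0, nat_lit 1, nat_lit 2, nat_lit 3, nat_lit 4, nat_lit 5, nat_lit 6, nat_lit 7, nat_lit 3, nat_lit 8, nat_lit 2, nat_lit 3, nat_lit 4, nat_lit 5, nat_lit 8, nat_lit 3, nat_lit 2, nat_lit 1, nat_lit 4, nat_lit 3, nat_lit 2, nat_lit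 8, nat_lit 3, nat_lit 8, nat_lit 10, nat_lit 1, nat_lit 15, nat_lit 14, nat_lit 13, nat_lit 18, nat_lit 16] (Rl.cmp (nat_lit 4456) (nat_lit 4607)))))) (FT.node (nat_lit 4610) (FT.leaf (Fct.mk false (nat_lit 33) (nat_lit 0) (nat_lit 33) [nat_lit 8, nat_lit 6, nat_lit 5, nat_lit 2, nat_lit 3, nat_lit 4, nat_lit 1, nat_lit 2, nat_lit 3, nat_lit 8, nat_lit 0, nat_lit 1, nat_lit 2, nat_lit 3, nat_lit 4, nat_lit 5, nat_lit 6, nat_lit 7, nat_lit 8, nat_lit 5, nat_lit 2, nat_lit 3, nat_lit 4, nat_lit 1, nat_lit 2, nat_lit 3, nat_lit 8, nat_lit 0, nat_lit 1, nat_lit 2, nat_lit 3, nat_lit 4, nat_lit 5, nat_lit 1, nat_lit 4, nat_lit 3, nat_lit 2, nat_lit 0, nat_lit 1, nat_lit 9, nat_lit 4, nat_lit 3, nat_lit 2, nat_lit 8, nat_lit 3, nat_lit 11, nat_lit 10, nat_lit 2, nat_lit 8, nat_lit 10, nat_lit 1, nat_lit 12, nat_lit 15, nat_lit 14, nat_lit 17, nat_lit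 19] (Rl.cmp (nat_lit 4456) (nat_lit 4608)))) (FT.node (nat_lit 4611) (FT.leaf (Fct.mk true (nat_lit 33) (nat_lit 72) (nat_lit 4) [nat_lit 8, nat_lit 6, nat_lit 5, nat_lit 2, nat_lit 3, nat_lit 4, nat_lit 1, nat_lit 2, nat_lit 3, nat_lit 8, nat_lit 0, nat_lit 1, nat_lit 2, nat_lit 3, nat_lit 4, nat_lit 5, nat_lit 6, nat_lit 7, nat_lit 8, nat_lit 5, nat_lit 2, nat_lit 3, nat_lit 4, nat_lit 1, nat_lit 2, nat_lit 3, nat_lit 8, nat_lit 0, nat_lit 1, nat_lit 2, nat_lit 3, nat_lit 4, nat_lit 5, nat_lit 1, nat_lit 4, nat_lit 3, nat_lit 2, nat_lit 0, nat_lit 1, nat_lit 9, nat_lit 4, nat_lit 3, nat_lit 2, nat_lit 8, nat_lit 3, nat_lit 11, nat_lit 10, nat_lit 2, nat_lit 8, nat_lit 10, nat_lit 1, nat_lit 12, nat_lit 15, nat_lit 14, nat_lit 17, nat_lit 19] (Rl.t1 (nat_lit 4394) (nat_lit 4609)))) (FT.leaf (Fct.mk false (nat_lit 33) (nat_lit 0) (nat_lit 33)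 [nat_lit 3, nat_lit 8, nat_lit 5, nat_lit 6, nat_lit 4, nat_lit 5, nat_lit 3, nat_lit 4, nat_lit 1, nat_lit 2, nat_lit 3, nat_lit 8, nat_lit 0, nat_lit 1, nat_lit 2, nat_lit 3, nat_lit 4, nat_lit 5, nat_lit 6, nat_lit 7, nat_lit 2, nat_lit 3, nat_lit 4, nat_lit 1, nat_lit 2, nat_lit 3, nat_lit 8, nat_lit 5, nat_lit 6, nat_lit 4, nat_lit 5, nat_lit 3, nat_lit 4, nat_lit 2, nat_lit 3, nat_lit 8, nat_lit 1, nat_lit 2, nat_lit 3, nat_lit 4, nat_lit 5, nat_lit 3, nat_lit 2, nat_lit 1, nat_lit 4, nat_lit 3, nat_lit 2, nat_lit 8, nat_lit 3, nat_lit 9, nat_lit 2, nat_lit 8, nat_lit 12, nat_lit 15, nat_lit 13] (Rl.cmp (nat_lit 4605) (nat_lit 4400)))))))) (FT.node (nat_lit 4618) (FT.node (nat_lit 4615) (FT.node (nat_lit 4613) (FT.leaf (Fct.mk false (nat_lit 33) (nat_lit 0) (nat_lit 33) [nat_lit 8, nat_lit 2, nat_lit 3, nat_lit 4, nat_lit 1, nat_lit 2,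 nat_lit 3, nat_lit 8, nat_lit 6, nat_lit 7, nat_lit 5, nat_lit 6, nat_lit 4, nat_lit 5, nat_lit 3, nat_lit 4, nat_lit 2, nat_lit 3, nat_lit 8, nat_lit 1, nat_lit 2, nat_lit 3, nat_lit 4, nat_lit 5, nat_lit 6, nat_lit 7, nat_lit 5, nat_lit 4, nat_lit 2, nat_lit 3, nat_lit 8, nat_lit 0, nat_lit 1, nat_lit 2, nat_lit 3, nat_lit 4, nat_lit 5, nat_lit 3, nat_lit 2, nat_lit 0, nat_lit 1, nat_lit 4, nat_lit 3, nat_lit 2, nat_lit 8, nat_lit 3, nat_lit 10, nat_lit 8, nat_lit 12, nat_lit 15, nat_lit 12, nat_lit 18, nat_lit 16] (Rl.cmp (nat_lit 4456) (nat_lit 4611)))) (FT.node (nat_lit 4614) (FT.leaf (Fct.mk false (nat_lit 33) (nat_lit 0) (nat_lit 33) [nat_lit 8, nat_lit 6, nat_lit 5, nat_lit 3, nat_lit 4, nat_lit 2, nat_lit 3, nat_lit 8, nat_lit 0, nat_lit 1, nat_lit 2, nat_lit 3, nat_lit 4, nat_lit 5, nat_lit 6, nat_lit 7, nat_lit 3, nat_lit 8, nat_lit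 2, nat_lit 3, nat_lit 4, nat_lit 5, nat_lit 8, nat_lit 3, nat_lit 2, nat_lit 1, nat_lit 4, nat_lit 3, nat_lit 2, nat_lit 8, nat_lit 3, nat_lit 8, nat_lit 10, nat_lit 1, nat_lit 15, nat_lit 14, nat_lit 13, nat_lit 18, nat_lit 16] (Rl.cmp (nat_lit 4456) (nat_lit 4612)))) (FT.leaf (Fct.mk false (nat_lit 33) (nat_lit 0) (nat_lit 33) [nat_lit 8, nat_lit 6, nat_lit 5, nat_lit 2, nat_lit 3, nat_lit 4, nat_lit 1, nat_lit 2, nat_lit 3, nat_lit 8, nat_lit 0, nat_lit 1, nat_lit 2, nat_lit 3, nat_lit 4, nat_lit 5, nat_lit 6, nat_lit 7, nat_lit 6, nat_lit 3, nat_lit 4, nat_lit 5, nat_lit 2, nat_lit 3, nat_lit 4, nat_lit 1, nat_lit 2, nat_lit 3, nat_lit 8, nat_lit 0, nat_lit 1, nat_lit 2, nat_lit 3, nat_lit 4, nat_lit 5, nat_lit 1, nat_lit 3, nat_lit 2, nat_lit 0, nat_lit 1, nat_lit 4, nat_lit 3, nat_lit 2, nat_lit 8, nat_lit 3, nat_lit 8, nat_lit 10, nat_lit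 8, nat_lit 12, nat_lit 15, nat_lit 12, nat_lit 18, nat_lit 16] (Rl.cmp (nat_lit 4400) (nat_lit 4613)))))) (FT.node (nat_lit 4616) (FT.leaf (Fct.mk false (nat_lit 33) (nat_lit 0) (nat_lit 33) [nat_lit 7, nat_lit 6, nat_lit 5, nat_lit 3, nat_lit 4, nat_lit 1, nat_lit 2, nat_lit 3, nat_lit 8, nat_lit 0, nat_lit 1, nat_lit 2, nat_lit 3, nat_lit 4, nat_lit 5, nat_lit 6, nat_lit 7, nat_lit 5, nat_lit 2, nat_lit 3, nat_lit 4, nat_lit 1, nat_lit 2, nat_lit 3, nat_lit 8, nat_lit 0, nat_lit 1, nat_lit 2, nat_lit 3, nat_lit 4, nat_lit 5, nat_lit 8, nat_lit 3, nat_lit 2, nat_lit 1, nat_lit 4, nat_lit 3, nat_lit 2, nat_lit 8, nat_lit 3, nat_lit 11, nat_lit 1, nat_lit 16, nat_lit 15, nat_lit 14, nat_lit 17, nat_lit 19, nat_lit 16] (Rl.cmp (nat_lit 4402) (nat_lit 4614)))) (FT.node (nat_lit 4617) (FT.leaf (Fct.mk true (nat_lit 33) (nat_lit 80) (nat_lit 4)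 [nat_lit 3, nat_lit 8, nat_lit 0, nat_lit 1, nat_lit 2, nat_lit 3, nat_lit 4, nat_lit 5, nat_lit 6, nat_lit 7, nat_lit 3, nat_lit 4, nat_lit 5, nat_lit 2, nat_lit 0, nat_lit 1, nat_lit 3, nat_lit 2, nat_lit 8, nat_lit 3, nat_lit 0, nat_lit 14, nat_lit 17, nat_lit 12, nat_lit 19] (Rl.t1 (nat_lit 4399) (nat_lit 4615)))) (FT.leaf (Fct.mk false (nat_lit 33) (nat_lit 0) (nat_lit 33) [nat_lit 4, nat_lit 5, nat_lit 6, nat_lit 7, nat_lit 5, nat_lit 4, nat_lit 1, nat_lit 2, nat_lit 3, nat_lit 8, nat_lit 0, nat_lit 1, nat_lit 2, nat_lit 3, nat_lit 4, nat_lit 5, nat_lit 0, nat_lit 1, nat_lit 3, nat_lit 2, nat_lit 8, nat_lit 3, nat_lit 11, nat_lit 10, nat_lit 1, nat_lit 8, nat_lit 12, nat_lit 15, nat_lit 12] (Rl.cmp (nat_lit 4402) (nat_lit 4605))))))) (FT.node (nat_lit 4621) (FT.node (nat_lit 4619) (FT.leaf (Fct.mk false (nat_lit 33) (nat_lit 0) (nat_lit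 33) [nat_lit 7, nat_lit 6, nat_lit 4, nat_lit 5, nat_lit 3, nat_lit 4, nat_lit 2, nat_lit 3, nat_lit 8, nat_lit 1, nat_lit 2, nat_lit 3, nat_lit 4, nat_lit 5, nat_lit 6, nat_lit 7, nat_lit 6, nat_lit 5, nat_lit 4, nat_lit 2, nat_lit 3, nat_lit 8, nat_lit 1, nat_lit 2, nat_lit 3, nat_lit 4, nat_lit 5, nat_lit 8, nat_lit 3, nat_lit 2, nat_lit 1, nat_lit 9, nat_lit 4, nat_lit 3, nat_lit 2, nat_lit 8, nat_lit 3, nat_lit 11, nat_lit 8, nat_lit 12, nat_lit 15, nat_lit 17, nat_lit 12] (Rl.cmp (nat_lit 4456) (nat_lit 4617)))) (FT.node (nat_lit 4620) (FT.leaf (Fct.mk false (nat_lit 33) (nat_lit 0) (nat_lit 33) [nat_lit 8, nat_lit 3, nat_lit 4, nat_lit 2, nat_lit 3, nat_lit 8, nat_lit 7, nat_lit 5, nat_lit 6, nat_lit 4, nat_lit 5, nat_lit 3, nat_lit 4, nat_lit 2, nat_lit 3, nat_lit 8, nat_lit 0, nat_lit 1, nat_lit 2, nat_lit 3, nat_lit 4, nat_lit 5,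 nat_lit 6, nat_lit 7, nat_lit 4, nat_lit 2, nat_lit 3, nat_lit 8, nat_lit 5, nat_lit 6, nat_lit 4, nat_lit 5, nat_lit 3, nat_lit 4, nat_lit 2, nat_lit 3, nat_lit 8, nat_lit 1, nat_lit 2, nat_lit 3, nat_lit 4, nat_lit 5, nat_lit 1, nat_lit 9, nat_lit 4, nat_lit 3, nat_lit 2, nat_lit 8, nat_lit 3, nat_lit 8, nat_lit 10, nat_lit 16, nat_lit 15, nat_lit 14, nat_lit 17, nat_lit 19, nat_lit 16] (Rl.cmp (nat_lit 4456) (nat_lit 4618)))) (FT.leaf (Fct.mk false (nat_lit 33) (nat_lit 0) (nat_lit 33) [nat_lit 3, nat_lit 4, nat_lit 2, nat_lit 3, nat_lit 8, nat_lit 1, nat_lit 2, nat_lit 3, nat_lit 4, nat_lit 5, nat_lit 6, nat_lit 7, nat_lit 5, nat_lit 1, nat_lit 2, nat_lit 0, nat_lit 1, nat_lit 3, nat_lit 2, nat_lit 8, nat_lit 3, nat_lit 9, nat_lit 10, nat_lit 2, nat_lit 8, nat_lit 10, nat_lit 1, nat_lit 17, nat_lit 19] (Rl.cmp (nat_lit 4605) (nat_lit 4619))))))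 (FT.node (nat_lit 4623) (FT.node (nat_lit 4622) (FT.leaf (Fct.mk true (nat_lit 33) (nat_lit 47) (nat_lit 5) [nat_lit 8, nat_lit 4, nat_lit 5, nat_lit 3, nat_lit 4, nat_lit 1, nat_lit 2, nat_lit 3, nat_lit 8, nat_lit 6, nat_lit 7, nat_lit 5, nat_lit 6, nat_lit 4, nat_lit 5, nat_lit 3, nat_lit 4, nat_lit 2, nat_lit 3, nat_lit 8, nat_lit 1, nat_lit 2, nat_lit 3, nat_lit 4, nat_lit 5, nat_lit 6, nat_lit 7, nat_lit 6, nat_lit 1, nat_lit 2, nat_lit 0, nat_lit 1, nat_lit 4, nat_lit 3, nat_lit 2, nat_lit 8, nat_lit 3, nat_lit 8, nat_lit 10, nat_lit 1, nat_lit 16, nat_lit 8, nat_lit 12, nat_lit 15, nat_lit 8] (Rl.t1 (nat_lit 4426) (nat_lit 4620)))) (FT.leaf (Fct.mk false (nat_lit 33) (nat_lit 0) (nat_lit 33) [nat_lit 4, nat_lit 2, nat_lit 3, nat_lit 8, nat_lit 1, nat_lit 2, nat_lit 3, nat_lit 4, nat_lit 5, nat_lit 6, nat_lit 7, nat_lit 2, nat_lit 3,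 nat_lit 8, nat_lit 0, nat_lit 1, nat_lit 2, nat_lit 3, nat_lit 4, nat_lit 5, nat_lit 3, nat_lit 2, nat_lit 1, nat_lit 9, nat_lit 4, nat_lit 3, nat_lit 2, nat_lit 8, nat_lit 3, nat_lit 14, nat_lit 8, nat_lit 18] (Rl.cmp (nat_lit 4456) (nat_lit 4456))))) (FT.node (nat_lit 4624) (FT.leaf (Fct.mk false (nat_lit 33) (nat_lit 0) (nat_lit 33) [nat_lit 8, nat_lit 7, nat_lit 6, nat_lit 5, nat_lit 2, nat_lit 3, nat_lit 4, nat_lit 1, nat_lit 2, nat_lit 3, nat_lit 8, nat_lit 0, nat_lit 1, nat_lit 2, nat_lit 3, nat_lit 4, nat_lit 5, nat_lit 6, nat_lit 7, nat_lit 2, nat_lit 3, nat_lit 8, nat_lit 6, nat_lit 4, nat_lit 5, nat_lit 3, nat_lit 4, nat_lit 2, nat_lit 3, nat_lit 8, nat_lit 1, nat_lit 2, nat_lit 3, nat_lit 4, nat_lit 5, nat_lit 1, nat_lit 2, nat_lit 0, nat_lit 1, nat_lit 3, nat_lit 2, nat_lit 8, nat_lit 3, nat_lit 10, nat_lit 9, nat_lit 2, nat_lit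 15, nat_lit 13, nat_lit 19] (Rl.cmp (nat_lit 4605) (nat_lit 4622)))) (FT.leaf (Fct.mk false (nat_lit 33) (nat_lit 0) (nat_lit 33) [nat_lit 3, nat_lit 8, nat_lit 1, nat_lit 2, nat_lit 3, nat_lit 4, nat_lit 5, nat_lit 6, nat_lit 7, nat_lit 4, nat_lit 2, nat_lit 3, nat_lit 8, nat_lit 5, nat_lit 6, nat_lit 4, nat_lit 5, nat_lit 3, nat_lit 4, nat_lit 2, nat_lit 3, nat_lit 8, nat_lit 1, nat_lit 2, nat_lit 3, nat_lit 4, nat_lit 5, nat_lit 8, nat_lit 4, nat_lit 3, nat_lit 2, nat_lit 0, nat_lit 1, nat_lit 9, nat_lit 4, nat_lit 3, nat_lit 2, nat_lit 8, nat_lit 3, nat_lit 10, nat_lit 0, nat_lit 12, nat_lit 15, nat_lit 14, nat_lit 12, nat_lit 19] (Rl.cmp (nat_lit 4456) (nat_lit 4623))))))))) (FT.node (nat_lit 4637) (FT.node (nat_lit 4631) (FT.node (nat_lit 4628) (FT.node (nat_lit 4626) (FT.leaf (Fct.mk true (nat_lit 33) (nat_lit 286) (nat_lit 33) [nat_lit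 6, nat_lit 5, nat_lit 4, nat_lit 2, nat_lit 3, nat_lit 8, nat_lit 0, nat_lit 1, nat_lit 2, nat_lit 3, nat_lit 4, nat_lit 5, nat_lit 6, nat_lit 7, nat_lit 8, nat_lit 0, nat_lit 1, nat_lit 2, nat_lit 3, nat_lit 4, nat_lit 5, nat_lit 1, nat_lit 2, nat_lit 0, nat_lit 1, nat_lit 9, nat_lit 4, nat_lit 3, nat_lit 2, nat_lit 8, nat_lit 3, nat_lit 11, nat_lit 8, nat_lit 10, nat_lit 1, nat_lit 15, nat_lit 14] (Rl.t1 (nat_lit 4434) (nat_lit 4624)))) (FT.node (nat_lit 4627) (FT.leaf (Fct.mk false (nat_lit 33) (nat_lit 0) (nat_lit 33) [nat_lit 2, nat_lit 3, nat_lit 8, nat_lit 1, nat_lit 2, nat_lit 3, nat_lit 4, nat_lit 5, nat_lit 6, nat_lit 7, nat_lit 2, nat_lit 3, nat_lit 8, nat_lit 0, nat_lit 1, nat_lit 2, nat_lit 3, nat_lit 4, nat_lit 5, nat_lit 3, nat_lit 2, nat_lit 1, nat_lit 9, nat_lit 4, nat_lit 3, nat_lit 2, nat_lit 8, nat_lit 3, nat_lit 0, nat_lit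 14, nat_lit 8, nat_lit 18] (Rl.cmp (nat_lit 4456) (nat_lit 4400)))) (FT.leaf (Fct.mk false (nat_lit 33) (nat_lit 0) (nat_lit 33) [nat_lit 104] (Rl.cmp (nat_lit 4400) (nat_lit 4626)))))) (FT.node (nat_lit 4629) (FT.leaf (Fct.mk false (nat_lit 33) (nat_lit 0) (nat_lit 33) [nat_lit 6, nat_lit 5, nat_lit 4, nat_lit 3, nat_lit 8, nat_lit 1, nat_lit 2, nat_lit 3, nat_lit 4, nat_lit 5, nat_lit 6, nat_lit 7, nat_lit 3, nat_lit 4, nat_lit 1, nat_lit 2, nat_lit 3, nat_lit 8, nat_lit 5, nat_lit 6, nat_lit 4, nat_lit 5, nat_lit 3, nat_lit 4, nat_lit 2, nat_lit 3, nat_lit 8, nat_lit 1, nat_lit 2, nat_lit 3, nat_lit 4, nat_lit 5, nat_lit 2, nat_lit 0, nat_lit 1, nat_lit 4, nat_lit 3, nat_lit 2, nat_lit 8, nat_lit 3, nat_lit 11, nat_lit 10, nat_lit 2, nat_lit 8, nat_lit 10, nat_lit 1, nat_lit 8, nat_lit 16, nat_lit 15, nat_lit 14, nat_lit 17, nat_lit 12,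 nat_lit 16] (Rl.cmp (nat_lit 4605) (nat_lit 4627)))) (FT.node (nat_lit 4630) (FT.leaf (Fct.mk false (nat_lit 33) (nat_lit 0) (nat_lit 33) [nat_lit 3, nat_lit 8, nat_lit 0, nat_lit 1, nat_lit 2, nat_lit 3, nat_lit 4, nat_lit 5, nat_lit 6, nat_lit 7, nat_lit 8, nat_lit 3, nat_lit 4, nat_lit 2, nat_lit 3, nat_lit 8, nat_lit 1, nat_lit 2, nat_lit 3, nat_lit 4, nat_lit 5, nat_lit 1, nat_lit 4, nat_lit 3, nat_lit 2, nat_lit 8, nat_lit 3, nat_lit 9, nat_lit 10, nat_lit 2, nat_lit 8, nat_lit 10, nat_lit 1, nat_lit 12, nat_lit 15, nat_lit 13, nat_lit 12, nat_lit 18, nat_lit 16] (Rl.cmp (nat_lit 4605) (nat_lit 4628)))) (FT.leaf (Fct.mk false (nat_lit 33) (nat_lit 0) (nat_lit 33) [nat_lit 4, nat_lit 3, nat_lit 8, nat_lit 7, nat_lit 5, nat_lit 6, nat_lit 4, nat_lit 5, nat_lit 3, nat_lit 4, nat_lit 1, nat_lit 2, nat_lit 3, nat_lit 8, nat_lit 0, nat_lit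 1, nat_lit 2, nat_lit 3, nat_lit 4, nat_lit 5, nat_lit 6, nat_lit 7, nat_lit 3, nat_lit 4, nat_lit 2, nat_lit 3, nat_lit 8, nat_lit 0, nat_lit 1, nat_lit 2, nat_lit 3, nat_lit 4, nat_lit 5, nat_lit 9, nat_lit 4, nat_lit 3, nat_lit 2, nat_lit 8, nat_lit 3, nat_lit 8, nat_lit 10, nat_lit 1, nat_lit 12, nat_lit 15, nat_lit 13, nat_lit 12, nat_lit 19] (Rl.cmp (nat_lit 4456) (nat_lit 4629))))))) (FT.node (nat_lit 4634) (FT.node (nat_lit 4632) (FT.leaf (Fct.mk false (nat_lit 33) (nat_lit 0) (nat_lit 33) [nat_lit 4, nat_lit 3, nat_lit 8, nat_lit 2, nat_lit 3, nat_lit 4, nat_lit 5, nat_lit 6, nat_lit 7, nat_lit 5, nat_lit 6, nat_lit 4, nat_lit 5, nat_lit 3, nat_lit 4, nat_lit 2, nat_lit 3, nat_lit 8, nat_lit 1, nat_lit 2, nat_lit 3, nat_lit 4, nat_lit 5, nat_lit 8, nat_lit 3, nat_lit 11, nat_lit 2, nat_lit 10, nat_lit 1, nat_lit 12, nat_lit 15, nat_lit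 14, nat_lit 19] (Rl.cmp (nat_lit 4605) (nat_lit 4630)))) (FT.node (nat_lit 4633) (FT.leaf (Fct.mk false (nat_lit 33) (nat_lit 0) (nat_lit 33) [nat_lit 4, nat_lit 3, nat_lit 8, nat_lit 2, nat_lit 3, nat_lit 4, nat_lit 1, nat_lit 2, nat_lit 3, nat_lit 8, nat_lit 0, nat_lit 1, nat_lit 2, nat_lit 3, nat_lit 4, nat_lit 5, nat_lit 6, nat_lit 7, nat_lit 6, nat_lit 4, nat_lit 5, nat_lit 2, nat_lit 3, nat_lit 4, nat_lit 1, nat_lit 2, nat_lit 3, nat_lit 8, nat_lit 0, nat_lit 1, nat_lit 2, nat_lit 3, nat_lit 4, nat_lit 5, nat_lit 8, nat_lit 3, nat_lit 2, nat_lit 1, nat_lit 9, nat_lit 4, nat_lit 3, nat_lit 2, nat_lit 8, nat_lit 3, nat_lit 2, nat_lit 14, nat_lit 13, nat_lit 19] (Rl.cmp (nat_lit 4605) (nat_lit 4402)))) (FT.leaf (Fct.mk false (nat_lit 33) (nat_lit 0) (nat_lit 33) [nat_lit 8, nat_lit 6, nat_lit 5, nat_lit 2, nat_lit 3, nat_lit 4, nat_lit 1,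 nat_lit 2, nat_lit 3, nat_lit 8, nat_lit 0, nat_lit 1, nat_lit 2, nat_lit 3, nat_lit 4, nat_lit 5, nat_lit 6, nat_lit 7, nat_lit 8, nat_lit 3, nat_lit 4, nat_lit 1, nat_lit 2, nat_lit 3, nat_lit 8, nat_lit 5, nat_lit 6, nat_lit 4, nat_lit 5, nat_lit 3, nat_lit 4, nat_lit 2, nat_lit 3, nat_lit 8, nat_lit 1, nat_lit 2, nat_lit 3, nat_lit 4, nat_lit 5, nat_lit 2, nat_lit 0, nat_lit 1, nat_lit 9, nat_lit 4, nat_lit 3, nat_lit 2, nat_lit 8, nat_lit 3, nat_lit 11, nat_lit 9, nat_lit 10, nat_lit 2, nat_lit 8, nat_lit 10, nat_lit 1, nat_lit 17, nat_lit 12, nat_lit 19, nat_lit 16] (Rl.cmp (nat_lit 4402) (nat_lit 4632)))))) (FT.node (nat_lit 4635) (FT.leaf (Fct.mk true (nat_lit 33) (nat_lit 25) (nat_lit 33) [nat_lit 8, nat_lit 5, nat_lit 3, nat_lit 4, nat_lit 2, nat_lit 3, nat_lit 8, nat_lit 1, nat_lit 2, nat_lit 3, nat_lit 4, nat_lit 5, nat_lit 6, nat_lit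 7, nat_lit 2, nat_lit 3, nat_lit 8, nat_lit 1, nat_lit 2, nat_lit 3, nat_lit 4, nat_lit 5, nat_lit 1, nat_lit 3, nat_lit 2, nat_lit 0, nat_lit 1, nat_lit 9, nat_lit 4, nat_lit 3, nat_lit 2, nat_lit 8, nat_lit 3, nat_lit 2, nat_lit 10, nat_lit 1, nat_lit 12, nat_lit 15, nat_lit 14, nat_lit 17, nat_lit 19, nat_lit 16] (Rl.t1 (nat_lit 4438) (nat_lit 4633)))) (FT.node (nat_lit 4636) (FT.leaf (Fct.mk false (nat_lit 33) (nat_lit 0) (nat_lit 33) [nat_lit 4, nat_lit 2, nat_lit 3, nat_lit 8, nat_lit 1, nat_lit 2, nat_lit 3, nat_lit 4, nat_lit 5, nat_lit 6, nat_lit 7, nat_lit 5, nat_lit 10, nat_lit 0, nat_lit 16, nat_lit 14, nat_lit 12, nat_lit 18] (Rl.cmp (nat_lit 4400) (nat_lit 4456)))) (FT.leaf (Fct.mk false (nat_lit 33) (nat_lit 0) (nat_lit 33) [nat_lit 8, nat_lit 7, nat_lit 6, nat_lit 5, nat_lit 2, nat_lit 3, nat_lit 4, nat_lit 1, nat_lit 2, nat_lit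 3, nat_lit 8, nat_lit 0, nat_lit 1, nat_lit 2, nat_lit 3, nat_lit 4, nat_lit 5, nat_lit 6, nat_lit 7, nat_lit 6, nat_lit 5, nat_lit 3, nat_lit 4, nat_lit 1, nat_lit 2, nat_lit 3, nat_lit 8, nat_lit 0, nat_lit 1, nat_lit 2, nat_lit 3, nat_lit 4, nat_lit 5, nat_lit 1, nat_lit 2, nat_lit 3, nat_lit 11, nat_lit 10, nat_lit 8, nat_lit 12, nat_lit 15, nat_lit 19, nat_lit 16] (Rl.cmp (nat_lit 4605) (nat_lit 4635)))))))) (FT.node (nat_lit 4643) (FT.node (nat_lit 4640) (FT.node (nat_lit 4638) (FT.leaf (Fct.mk false (nat_lit 33) (nat_lit 0) (nat_lit 33) [nat_lit 3, nat_lit 8, nat_lit 1, nat_lit 2, nat_lit 3, nat_lit 4, nat_lit 5, nat_lit 6, nat_lit 7, nat_lit 8, nat_lit 5, nat_lit 2, nat_lit 3, nat_lit 4, nat_lit 1, nat_lit 2, nat_lit 3, nat_lit 8, nat_lit 0, nat_lit 1, nat_lit 2, nat_lit 3, nat_lit 4, nat_lit 5, nat_lit 8, nat_lit 3, nat_lit 2, nat_lit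 1, nat_lit 9, nat_lit 4, nat_lit 3, nat_lit 2, nat_lit 8, nat_lit 3, nat_lit 11, nat_lit 2, nat_lit 14, nat_lit 17, nat_lit 12, nat_lit 19] (Rl.cmp (nat_lit 4456) (nat_lit 4636)))) (FT.node (nat_lit 4639) (FT.leaf (Fct.mk true (nat_lit 33) (nat_lit 73) (nat_lit 32) [nat_lit 8, nat_lit 6, nat_lit 4, nat_lit 5, nat_lit 3, nat_lit 4, nat_lit 2, nat_lit 3, nat_lit 8, nat_lit 1, nat_lit 2, nat_lit 3, nat_lit 4, nat_lit 5, nat_lit 6, nat_lit 7, nat_lit 4, nat_lit 3, nat_lit 8, nat_lit 5, nat_lit 6, nat_lit 4, nat_lit 5, nat_lit 3, nat_lit 4, nat_lit 2, nat_lit 3, nat_lit 8, nat_lit 1, nat_lit 2, nat_lit 3, nat_lit 4, nat_lit 5, nat_lit 8, nat_lit 3, nat_lit 2, nat_lit 0, nat_lit 1, nat_lit 4, nat_lit 3, nat_lit 2, nat_lit 8, nat_lit 3, nat_lit 1, nat_lit 0, nat_lit 2, nat_lit 16, nat_lit 8, nat_lit 12, nat_lit 15, nat_lit 13, nat_lit 12, nat_lit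 19, nat_lit 16] (Rl.t1 (nat_lit 4444) (nat_lit 4637)))) (FT.leaf (Fct.mk false (nat_lit 33) (nat_lit 0) (nat_lit 33) [nat_lit 4, nat_lit 5, nat_lit 6, nat_lit 7, nat_lit 5, nat_lit 4, nat_lit 1, nat_lit 2, nat_lit 3, nat_lit 8, nat_lit 0, nat_lit 1, nat_lit 2, nat_lit 3, nat_lit 4, nat_lit 5, nat_lit 0, nat_lit 1, nat_lit 3, nat_lit 2, nat_lit 8, nat_lit 3, nat_lit 11, nat_lit 10, nat_lit 1, nat_lit 8, nat_lit 12, nat_lit 15, nat_lit 12] (Rl.cmp (nat_lit 4402) (nat_lit 4605)))))) (FT.node (nat_lit 4641) (FT.leaf (Fct.mk false (nat_lit 33) (nat_lit 0) (nat_lit 33) [nat_lit 7, nat_lit 6, nat_lit 4, nat_lit 5, nat_lit 3, nat_lit 4, nat_lit 2, nat_lit 3, nat_lit 8, nat_lit 1, nat_lit 2, nat_lit 3, nat_lit 4, nat_lit 5, nat_lit 6, nat_lit 7, nat_lit 6, nat_lit 5, nat_lit 4, nat_lit 2, nat_lit 3, nat_lit 8, nat_lit 1, nat_lit 2, nat_lit 3, nat_lit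 4, nat_lit 5, nat_lit 8, nat_lit 3, nat_lit 2, nat_lit 1, nat_lit 9, nat_lit 4, nat_lit 3, nat_lit 2, nat_lit 8, nat_lit 3, nat_lit 11, nat_lit 8, nat_lit 12, nat_lit 15, nat_lit 17, nat_lit 12] (Rl.cmp (nat_lit 4456) (nat_lit 4639)))) (FT.node (nat_lit 4642) (FT.leaf (Fct.mk false (nat_lit 33) (nat_lit 0) (nat_lit 33) [nat_lit 8, nat_lit 3, nat_lit 4, nat_lit 2, nat_lit 3, nat_lit 8, nat_lit 7, nat_lit 5, nat_lit 6, nat_lit 4, nat_lit 5, nat_lit 3, nat_lit 4, nat_lit 2, nat_lit 3, nat_lit 8, nat_lit 0, nat_lit 1, nat_lit 2, nat_lit 3, nat_lit 4, nat_lit 5, nat_lit 6, nat_lit 7, nat_lit 4, nat_lit 2, nat_lit 3, nat_lit 8, nat_lit 5, nat_lit 6, nat_lit 4, nat_lit 5, nat_lit 3, nat_lit 4, nat_lit 2, nat_lit 3, nat_lit 8, nat_lit 1, nat_lit 2, nat_lit 3, nat_lit 4, nat_lit 5, nat_lit 1, nat_lit 9, nat_lit 4, nat_lit 3, nat_lit 2, nat_lit 8, nat_lit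 3, nat_lit 8, nat_lit 10, nat_lit 16, nat_lit 15, nat_lit 14, nat_lit 17, nat_lit 19, nat_lit 16] (Rl.cmp (nat_lit 4456) (nat_lit 4640)))) (FT.leaf (Fct.mk false (nat_lit 33) (nat_lit 0) (nat_lit 33) [nat_lit 3, nat_lit 4, nat_lit 2, nat_lit 3, nat_lit 8, nat_lit 1, nat_lit 2, nat_lit 3, nat_lit 4, nat_lit 5, nat_lit 6, nat_lit 7, nat_lit 5, nat_lit 1, nat_lit 2, nat_lit 0, nat_lit 1, nat_lit 3, nat_lit 2, nat_lit 8, nat_lit 3, nat_lit 9, nat_lit 10, nat_lit 2, nat_lit 8, nat_lit 10, nat_lit 1, nat_lit 17, nat_lit 19] (Rl.cmp (nat_lit 4605) (nat_lit 4641))))))) (FT.node (nat_lit 4646) (FT.node (nat_lit 4644) (FT.leaf (Fct.mk false (nat_lit 33) (nat_lit 0) (nat_lit 33) [nat_lit 8, nat_lit 7, nat_lit 5, nat_lit 6, nat_lit 4, nat_lit 5, nat_lit 3, nat_lit 4, nat_lit 2, nat_lit 3, nat_lit 8, nat_lit 1, nat_lit 2, nat_lit 3, nat_lit 4, nat_lit 5,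 nat_lit 6, nat_lit 7, nat_lit 8, nat_lit 1, nat_lit 2, nat_lit 3, nat_lit 4, nat_lit 5, nat_lit 4, nat_lit 3, nat_lit 2, nat_lit 1, nat_lit 8, nat_lit 3, nat_lit 2, nat_lit 0, nat_lit 1, nat_lit 4, nat_lit 3, nat_lit 2, nat_lit 8, nat_lit 3, nat_lit 8, nat_lit 10, nat_lit 0, nat_lit 13, nat_lit 16] (Rl.cmp (nat_lit 4400) (nat_lit 4642)))) (FT.node (nat_lit 4645) (FT.leaf (Fct.mk true (nat_lit 33) (nat_lit 21) (nat_lit 32) [nat_lit 8, nat_lit 6, nat_lit 4, nat_lit 5, nat_lit 3, nat_lit 4, nat_lit 2, nat_lit 3, nat_lit 8, nat_lit 1, nat_lit 2, nat_lit 3, nat_lit 4, nat_lit 5, nat_lit 6, nat_lit 7, nat_lit 8, nat_lit 6, nat_lit 5, nat_lit 3, nat_lit 4, nat_lit 2, nat_lit 3, nat_lit 8, nat_lit 0, nat_lit 1, nat_lit 2, nat_lit 3, nat_lit 4, nat_lit 5, nat_lit 0, nat_lit 1, nat_lit 2, nat_lit 3, nat_lit 2, nat_lit 10, nat_lit 1, nat_lit 12, nat_lit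 15, nat_lit 12, nat_lit 16] (Rl.t1 (nat_lit 4452) (nat_lit 4643)))) (FT.leaf (Fct.mk false (nat_lit 33) (nat_lit 0) (nat_lit 33) [nat_lit 3, nat_lit 8, nat_lit 5, nat_lit 6, nat_lit 4, nat_lit 5, nat_lit 3, nat_lit 4, nat_lit 1, nat_lit 2, nat_lit 3, nat_lit 8, nat_lit 0, nat_lit 1, nat_lit 2, nat_lit 3, nat_lit 4, nat_lit 5, nat_lit 6, nat_lit 7, nat_lit 2, nat_lit 3, nat_lit 4, nat_lit 1, nat_lit 2, nat_lit 3, nat_lit 8, nat_lit 5, nat_lit 6, nat_lit 4, nat_lit 5, nat_lit 3, nat_lit 4, nat_lit 2, nat_lit 3, nat_lit 8, nat_lit 1, nat_lit 2, nat_lit 3, nat_lit 4, nat_lit 5, nat_lit 3, nat_lit 2, nat_lit 1, nat_lit 4, nat_lit 3, nat_lit 2, nat_lit 8, nat_lit 3, nat_lit 9, nat_lit 2, nat_lit 8, nat_lit 12, nat_lit 15, nat_lit 13] (Rl.cmp (nat_lit 4605) (nat_lit 4400)))))) (FT.node (nat_lit 4648) (FT.node (nat_lit 4647) (FT.leaf (Fct.mk false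 (nat_lit 33) (nat_lit 0) (nat_lit 33) [nat_lit 7, nat_lit 6, nat_lit 4, nat_lit 5, nat_lit 3, nat_lit 4, nat_lit 1, nat_lit 2, nat_lit 3, nat_lit 8, nat_lit 0, nat_lit 1, nat_lit 2, nat_lit 3, nat_lit 4, nat_lit 5, nat_lit 6, nat_lit 7, nat_lit 4, nat_lit 1, nat_lit 2, nat_lit 3, nat_lit 8, nat_lit 5, nat_lit 6, nat_lit 4, nat_lit 5, nat_lit 3, nat_lit 4, nat_lit 2, nat_lit 3, nat_lit 8, nat_lit 1, nat_lit 2, nat_lit 3, nat_lit 4, nat_lit 5, nat_lit 9, nat_lit 4, nat_lit 3, nat_lit 2, nat_lit 8, nat_lit 3, nat_lit 9, nat_lit 2, nat_lit 15, nat_lit 14, nat_lit 13, nat_lit 12, nat_lit 19] (Rl.cmp (nat_lit 4402) (nat_lit 4645)))) (FT.leaf (Fct.mk false (nat_lit 33) (nat_lit 0) (nat_lit 33) [nat_lit 3, nat_lit 8, nat_lit 2, nat_lit 3, nat_lit 4, nat_lit 1, nat_lit 2, nat_lit 3, nat_lit 8, nat_lit 0, nat_lit 1, nat_lit 2, nat_lit 3, nat_lit 4, nat_lit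 5, nat_lit 6, nat_lit 7, nat_lit 4, nat_lit 5, nat_lit 3, nat_lit 4, nat_lit 2, nat_lit 3, nat_lit 8, nat_lit 1, nat_lit 2, nat_lit 3, nat_lit 4, nat_lit 5, nat_lit 3, nat_lit 0, nat_lit 15, nat_lit 14, nat_lit 12, nat_lit 19, nat_lit 16] (Rl.cmp (nat_lit 4456) (nat_lit 4646))))) (FT.node (nat_lit 4649) (FT.leaf (Fct.mk false (nat_lit 33) (nat_lit 0) (nat_lit 33) [nat_lit 5, nat_lit 4, nat_lit 3, nat_lit 8, nat_lit 6, nat_lit 7, nat_lit 5, nat_lit 6, nat_lit 4, nat_lit 5, nat_lit 3, nat_lit 4, nat_lit 2, nat_lit 3, nat_lit 8, nat_lit 1, nat_lit 2, nat_lit 3, nat_lit 4, nat_lit 5, nat_lit 6, nat_lit 7, nat_lit 8, nat_lit 4, nat_lit 5, nat_lit 3, nat_lit 4, nat_lit 2, nat_lit 3, nat_lit 8, nat_lit 0, nat_lit 1, nat_lit 2, nat_lit 3, nat_lit 4, nat_lit 5, nat_lit 1, nat_lit 8, nat_lit 3, nat_lit 2, nat_lit 0, nat_lit 1, nat_lit 4, nat_lit 3, nat_lit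 2, nat_lit 8, nat_lit 3, nat_lit 10, nat_lit 0, nat_lit 16, nat_lit 8, nat_lit 12, nat_lit 15, nat_lit 13, nat_lit 12, nat_lit 18, nat_lit 16] (Rl.cmp (nat_lit 4605) (nat_lit 4647)))) (FT.leaf (Fct.mk false (nat_lit 33) (nat_lit 0) (nat_lit 33) [nat_lit 2, nat_lit 3, nat_lit 4, nat_lit 1, nat_lit 2, nat_lit 3, nat_lit 8, nat_lit 6, nat_lit 7, nat_lit 5, nat_lit 6, nat_lit 4, nat_lit 5, nat_lit 3, nat_lit 4, nat_lit 2, nat_lit 3, nat_lit 8, nat_lit 1, nat_lit 2, nat_lit 3, nat_lit 4, nat_lit 5, nat_lit 6, nat_lit 7, nat_lit 8, nat_lit 6, nat_lit 5, nat_lit 2, nat_lit 3, nat_lit 4, nat_lit 1, nat_lit 2, nat_lit 3, nat_lit 8, nat_lit 0, nat_lit 1, nat_lit 2, nat_lit 3, nat_lit 4, nat_lit 5, nat_lit 0, nat_lit 1, nat_lit 2, nat_lit 3, nat_lit 8, nat_lit 10, nat_lit 0, nat_lit 15, nat_lit 19] (Rl.cmp (nat_lit 4400) (nat_lit 4648)))))))))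

/-- some facts -/
noncomputable def ftc93 : FT := FT.node (nat_lit 4675) (FT.node (nat_lit 4662) (FT.node (nat_lit 4656) (FT.node (nat_lit 4653) (FT.node (nat_lit 4651) (FT.leaf (Fct.mk false (nat_lit 33) (nat_lit 0) (nat_lit 33) [nat_lit 4, nat_lit 3, nat_lit 8, nat_lit 2, nat_lit 3, nat_lit 4, nat_lit 1, nat_lit 2, nat_lit 3, nat_lit 8, nat_lit 0, nat_lit 1, nat_lit 2, nat_lit 3, nat_lit 4, nat_lit 5, nat_lit 6, nat_lit 7, nat_lit 8, nat_lit 3, nat_lit 4, nat_lit 5, nat_lit 2, nat_lit 1, nat_lit 3, nat_lit 2, nat_lit 0, nat_lit 1, nat_lit 9, nat_lit 4, nat_lit 3, nat_lit 2, nat_lit 8, nat_lit 3, nat_lit 10, nat_lit 9, nat_lit 2, nat_lit 16, nat_lit 12, nat_lit 15, nat_lit 14, nat_lit 13, nat_lit 12, nat_lit 18] (Rl.cmp (nat_lit 4605) (nat_lit 4649)))) (FT.node (nat_lit 4652) (FT.leaf (Fct.mk true (nat_lit 33) (nat_lit 265) (nat_lit 32) [nat_lit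 6, nat_lit 5, nat_lit 3, nat_lit 4, nat_lit 2, nat_lit 3, nat_lit 8, nat_lit 0, nat_lit 1, nat_lit 2, nat_lit 3, nat_lit 4, nat_lit 5, nat_lit 6, nat_lit 7, nat_lit 3, nat_lit 4, nat_lit 1, nat_lit 2, nat_lit 3, nat_lit 8, nat_lit 0, nat_lit 1, nat_lit 2, nat_lit 3, nat_lit 4, nat_lit 5, nat_lit 1, nat_lit 2, nat_lit 0, nat_lit 1, nat_lit 4, nat_lit 3, nat_lit 2, nat_lit 8, nat_lit 3, nat_lit 2, nat_lit 14, nat_lit 18] (Rl.t1 (nat_lit 4457) (nat_lit 4650)))) (FT.leaf (Fct.mk false (nat_lit 33) (nat_lit 0) (nat_lit 33) [nat_lit 3, nat_lit 8, nat_lit 5, nat_lit 6, nat_lit 4, nat_lit 5, nat_lit 3, nat_lit 4, nat_lit 1, nat_lit 2, nat_lit 3, nat_lit 8, nat_lit 0, nat_lit 1, nat_lit 2, nat_lit 3, nat_lit 4, nat_lit 5, nat_lit 6, nat_lit 7, nat_lit 2, nat_lit 3, nat_lit 4, nat_lit 1, nat_lit 2, nat_lit 3, nat_lit 8, nat_lit 5, nat_lit 6, nat_lit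 4, nat_lit 5, nat_lit 3, nat_lit 4, nat_lit 2, nat_lit 3, nat_lit 8, nat_lit 1, nat_lit 2, nat_lit 3, nat_lit 4, nat_lit 5, nat_lit 3, nat_lit 2, nat_lit 1, nat_lit 4, nat_lit 3, nat_lit 2, nat_lit 8, nat_lit 3, nat_lit 9, nat_lit 2, nat_lit 8, nat_lit 12, nat_lit 15, nat_lit 13] (Rl.cmp (nat_lit 4605) (nat_lit 4400)))))) (FT.node (nat_lit 4654) (FT.leaf (Fct.mk false (nat_lit 33) (nat_lit 0) (nat_lit 33) [nat_lit 7, nat_lit 6, nat_lit 4, nat_lit 5, nat_lit 3, nat_lit 4, nat_lit 1, nat_lit 2, nat_lit 3, nat_lit 8, nat_lit 0, nat_lit 1, nat_lit 2, nat_lit 3, nat_lit 4, nat_lit 5, nat_lit 6, nat_lit 7, nat_lit 4, nat_lit 1, nat_lit 2, nat_lit 3, nat_lit 8, nat_lit 5, nat_lit 6, nat_lit 4, nat_lit 5, nat_lit 3, nat_lit 4, nat_lit 2, nat_lit 3, nat_lit 8, nat_lit 1, nat_lit 2, nat_lit 3, nat_lit 4, nat_lit 5, nat_lit 9, nat_lit 4, nat_lit 3, nat_lit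 2, nat_lit 8, nat_lit 3, nat_lit 9, nat_lit 2, nat_lit 15, nat_lit 14, nat_lit 13, nat_lit 12, nat_lit 19] (Rl.cmp (nat_lit 4402) (nat_lit 4652)))) (FT.node (nat_lit 4655) (FT.leaf (Fct.mk false (nat_lit 33) (nat_lit 0) (nat_lit 33) [nat_lit 3, nat_lit 8, nat_lit 2, nat_lit 3, nat_lit 4, nat_lit 1, nat_lit 2, nat_lit 3, nat_lit 8, nat_lit 0, nat_lit 1, nat_lit 2, nat_lit 3, nat_lit 4, nat_lit 5, nat_lit 6, nat_lit 7, nat_lit 4, nat_lit 5, nat_lit 3, nat_lit 4, nat_lit 2, nat_lit 3, nat_lit 8, nat_lit 1, nat_lit 2, nat_lit 3, nat_lit 4, nat_lit 5, nat_lit 3, nat_lit 0, nat_lit 15, nat_lit 14, nat_lit 12, nat_lit 19, nat_lit 16] (Rl.cmp (nat_lit 4456) (nat_lit 4653)))) (FT.leaf (Fct.mk false (nat_lit 33) (nat_lit 0) (nat_lit 33) [nat_lit 3, nat_lit 8, nat_lit 5, nat_lit 6, nat_lit 4, nat_lit 5, nat_lit 3, nat_lit 4, nat_lit 1, nat_lit 2, nat_lit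 3, nat_lit 8, nat_lit 0, nat_lit 1, nat_lit 2, nat_lit 3, nat_lit 4, nat_lit 5, nat_lit 6, nat_lit 7, nat_lit 4, nat_lit 5, nat_lit 3, nat_lit 4, nat_lit 2, nat_lit 3, nat_lit 8, nat_lit 1, nat_lit 2, nat_lit 3, nat_lit 4, nat_lit 5, nat_lit 3, nat_lit 2, nat_lit 1, nat_lit 4, nat_lit 3, nat_lit 2, nat_lit 8, nat_lit 3, nat_lit 10, nat_lit 9, nat_lit 2, nat_lit 16, nat_lit 15, nat_lit 14, nat_lit 13] (Rl.cmp (nat_lit 4402) (nat_lit 4654))))))) (FT.node (nat_lit 4659) (FT.node (nat_lit 4657) (FT.leaf (Fct.mk false (nat_lit 33) (nat_lit 0) (nat_lit 33) [nat_lit 8, nat_lit 2, nat_lit 3, nat_lit 4, nat_lit 1, nat_lit 2, nat_lit 3, nat_lit 8, nat_lit 6, nat_lit 7, nat_lit 5, nat_lit 6, nat_lit 4, nat_lit 5, nat_lit 3, nat_lit 4, nat_lit 2, nat_lit 3, nat_lit 8, nat_lit 1, nat_lit 2, nat_lit 3, nat_lit 4, nat_lit 5, nat_lit 6, nat_lit 7, nat_lit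 2, nat_lit 3, nat_lit 4, nat_lit 5, nat_lit 1, nat_lit 4, nat_lit 3, nat_lit 2, nat_lit 8, nat_lit 3, nat_lit 0, nat_lit 8, nat_lit 12, nat_lit 15, nat_lit 14, nat_lit 12, nat_lit 16] (Rl.cmp (nat_lit 4456) (nat_lit 4655)))) (FT.node (nat_lit 4658) (FT.leaf (Fct.mk false (nat_lit 33) (nat_lit 0) (nat_lit 33) [nat_lit 6, nat_lit 5, nat_lit 4, nat_lit 3, nat_lit 8, nat_lit 2, nat_lit 3, nat_lit 4, nat_lit 5, nat_lit 6, nat_lit 7, nat_lit 5, nat_lit 2, nat_lit 0, nat_lit 1, nat_lit 3, nat_lit 2, nat_lit 8, nat_lit 3, nat_lit 11, nat_lit 2, nat_lit 8, nat_lit 10, nat_lit 1, nat_lit 17, nat_lit 12, nat_lit 18] (Rl.cmp (nat_lit 4605) (nat_lit 4656)))) (FT.leaf (Fct.mk true (nat_lit 33) (nat_lit 29) (nat_lit 32) [nat_lit 8, nat_lit 2, nat_lit 3, nat_lit 4, nat_lit 1, nat_lit 2, nat_lit 3, nat_lit 8, nat_lit 5, nat_lit 6, nat_lit 4, nat_lit 5, nat_lit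 3, nat_lit 4, nat_lit 2, nat_lit 3, nat_lit 8, nat_lit 1, nat_lit 2, nat_lit 3, nat_lit 4, nat_lit 5, nat_lit 6, nat_lit 7, nat_lit 8, nat_lit 6, nat_lit 5, nat_lit 3, nat_lit 4, nat_lit 2, nat_lit 3, nat_lit 8, nat_lit 0, nat_lit 1, nat_lit 2, nat_lit 3, nat_lit 4, nat_lit 5, nat_lit 1, nat_lit 9, nat_lit 4, nat_lit 3, nat_lit 2, nat_lit 8, nat_lit 3, nat_lit 11, nat_lit 2, nat_lit 10, nat_lit 1, nat_lit 15, nat_lit 13] (Rl.t1 (nat_lit 4459) (nat_lit 4657)))))) (FT.node (nat_lit 4660) (FT.leaf (Fct.mk false (nat_lit 33) (nat_lit 0) (nat_lit 33) [nat_lit 4, nat_lit 2, nat_lit 3, nat_lit 8, nat_lit 1, nat_lit 2, nat_lit 3, nat_lit 4, nat_lit 5, nat_lit 6, nat_lit 7, nat_lit 2, nat_lit 3, nat_lit 8, nat_lit 0, nat_lit 1, nat_lit 2, nat_lit 3, nat_lit 4, nat_lit 5, nat_lit 3, nat_lit 2, nat_lit 1, nat_lit 9, nat_lit 4, nat_lit 3, nat_lit 2, nat_lit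 8, nat_lit 3, nat_lit 14, nat_lit 8, nat_lit 18] (Rl.cmp (nat_lit 4456) (nat_lit 4456)))) (FT.node (nat_lit 4661) (FT.leaf (Fct.mk false (nat_lit 33) (nat_lit 0) (nat_lit 33) [nat_lit 8, nat_lit 3, nat_lit 4, nat_lit 1, nat_lit 2, nat_lit 3, nat_lit 8, nat_lit 5, nat_lit 6, nat_lit 4, nat_lit 5, nat_lit 3, nat_lit 4, nat_lit 2, nat_lit 3, nat_lit 8, nat_lit 1, nat_lit 2, nat_lit 3, nat_lit 4, nat_lit 5, nat_lit 6, nat_lit 7, nat_lit 3, nat_lit 8, nat_lit 0, nat_lit 1, nat_lit 2, nat_lit 3, nat_lit 4, nat_lit 5, nat_lit 4, nat_lit 3, nat_lit 2, nat_lit 8, nat_lit 3, nat_lit 0, nat_lit 8, nat_lit 16, nat_lit 14, nat_lit 18, nat_lit 16] (Rl.cmp (nat_lit 4402) (nat_lit 4659)))) (FT.leaf (Fct.mk false (nat_lit 33) (nat_lit 0) (nat_lit 33) [nat_lit 4, nat_lit 3, nat_lit 8, nat_lit 7, nat_lit 5, nat_lit 6, nat_lit 4, nat_lit 5, nat_lit 3, nat_lit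 4, nat_lit 2, nat_lit 3, nat_lit 8, nat_lit 1, nat_lit 2, nat_lit 3, nat_lit 4, nat_lit 5, nat_lit 6, nat_lit 7, nat_lit 1, nat_lit 2, nat_lit 3, nat_lit 4, nat_lit 5, nat_lit 2, nat_lit 1, nat_lit 8, nat_lit 3, nat_lit 2, nat_lit 0, nat_lit 1, nat_lit 9, nat_lit 4, nat_lit 3, nat_lit 2, nat_lit 8, nat_lit 3, nat_lit 9, nat_lit 10, nat_lit 2, nat_lit 8, nat_lit 10, nat_lit 1, nat_lit 12, nat_lit 8, nat_lit 16, nat_lit 14, nat_lit 8, nat_lit 18, nat_lit 16] (Rl.cmp (nat_lit 4605) (nat_lit 4660)))))))) (FT.node (nat_lit 4668) (FT.node (nat_lit 4665) (FT.node (nat_lit 4663) (FT.leaf (Fct.mk false (nat_lit 33) (nat_lit 0) (nat_lit 33) [nat_lit 5, nat_lit 6, nat_lit 4, nat_lit 5, nat_lit 3, nat_lit 4, nat_lit 2, nat_lit 3, nat_lit 8, nat_lit 1, nat_lit 2, nat_lit 3, nat_lit 4, nat_lit 5, nat_lit 6, nat_lit 7, nat_lit 4, nat_lit 5, nat_lit 4, nat_lit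 3, nat_lit 2, nat_lit 0, nat_lit 1, nat_lit 9, nat_lit 4, nat_lit 3, nat_lit 2, nat_lit 8, nat_lit 3, nat_lit 10, nat_lit 2, nat_lit 8, nat_lit 10, nat_lit 1, nat_lit 16, nat_lit 12, nat_lit 15, nat_lit 14, nat_lit 17, nat_lit 18, nat_lit 16] (Rl.cmp (nat_lit 4402) (nat_lit 4661)))) (FT.node (nat_lit 4664) (FT.leaf (Fct.mk true (nat_lit 33) (nat_lit 52) (nat_lit 5) [nat_lit 8, nat_lit 5, nat_lit 3, nat_lit 4, nat_lit 1, nat_lit 2, nat_lit 3, nat_lit 8, nat_lit 0, nat_lit 1, nat_lit 2, nat_lit 3, nat_lit 4, nat_lit 5, nat_lit 6, nat_lit 7, nat_lit 1, nat_lit 3, nat_lit 2, nat_lit 0, nat_lit 1, nat_lit 4, nat_lit 3, nat_lit 2, nat_lit 8, nat_lit 3, nat_lit 10, nat_lit 8, nat_lit 12, nat_lit 15, nat_lit 14, nat_lit 16, nat_lit 8, nat_lit 16] (Rl.t1 (nat_lit 4462) (nat_lit 4662)))) (FT.leaf (Fct.mk false (nat_lit 33) (nat_lit 0) (nat_lit 33) [nat_lit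 3, nat_lit 4, nat_lit 5, nat_lit 2, nat_lit 3, nat_lit 4, nat_lit 1, nat_lit 2, nat_lit 3, nat_lit 8, nat_lit 0, nat_lit 1, nat_lit 2, nat_lit 3, nat_lit 4, nat_lit 5, nat_lit 6, nat_lit 7, nat_lit 5, nat_lit 4, nat_lit 2, nat_lit 3, nat_lit 8, nat_lit 1, nat_lit 2, nat_lit 3, nat_lit 4, nat_lit 5, nat_lit 1, nat_lit 8, nat_lit 3, nat_lit 2, nat_lit 0, nat_lit 1, nat_lit 4, nat_lit 3, nat_lit 2, nat_lit 8, nat_lit 3, nat_lit 11, nat_lit 10, nat_lit 16, nat_lit 12, nat_lit 15, nat_lit 14, nat_lit 12, nat_lit 19] (Rl.cmp (nat_lit 4605) (nat_lit 4605)))))) (FT.node (nat_lit 4666) (FT.leaf (Fct.mk false (nat_lit 33) (nat_lit 0) (nat_lit 33) [nat_lit 3, nat_lit 8, nat_lit 5, nat_lit 2, nat_lit 3, nat_lit 4, nat_lit 1, nat_lit 2, nat_lit 3, nat_lit 8, nat_lit 0, nat_lit 1, nat_lit 2, nat_lit 3, nat_lit 4, nat_lit 5, nat_lit 6, nat_lit 7, nat_lit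 6, nat_lit 5, nat_lit 4, nat_lit 3, nat_lit 8, nat_lit 2, nat_lit 3, nat_lit 4, nat_lit 5, nat_lit 2, nat_lit 1, nat_lit 8, nat_lit 3, nat_lit 2, nat_lit 0, nat_lit 1, nat_lit 4, nat_lit 3, nat_lit 2, nat_lit 8, nat_lit 3, nat_lit 1, nat_lit 0, nat_lit 2] (Rl.cmp (nat_lit 4605) (nat_lit 4664)))) (FT.node (nat_lit 4667) (FT.leaf (Fct.mk false (nat_lit 33) (nat_lit 0) (nat_lit 33) [nat_lit 7, nat_lit 6, nat_lit 3, nat_lit 4, nat_lit 5, nat_lit 2, nat_lit 3, nat_lit 4, nat_lit 1, nat_lit 2, nat_lit 3, nat_lit 8, nat_lit 0, nat_lit 1, nat_lit 2, nat_lit 3, nat_lit 4, nat_lit 5, nat_lit 6, nat_lit 7, nat_lit 5, nat_lit 4, nat_lit 2, nat_lit 3, nat_lit 8, nat_lit 0, nat_lit 1, nat_lit 2, nat_lit 3, nat_lit 4, nat_lit 5, nat_lit 8, nat_lit 3, nat_lit 2, nat_lit 0, nat_lit 1, nat_lit 4, nat_lit 3, nat_lit 2, nat_lit 8, nat_lit 3, nat_lit 1, nat_lit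 0, nat_lit 2, nat_lit 12, nat_lit 15, nat_lit 18] (Rl.cmp (nat_lit 4456) (nat_lit 4665)))) (FT.leaf (Fct.mk false (nat_lit 33) (nat_lit 0) (nat_lit 33) [nat_lit 3, nat_lit 8, nat_lit 5, nat_lit 2, nat_lit 3, nat_lit 4, nat_lit 1, nat_lit 2, nat_lit 3, nat_lit 8, nat_lit 0, nat_lit 1, nat_lit 2, nat_lit 3, nat_lit 4, nat_lit 5, nat_lit 6, nat_lit 7, nat_lit 1, nat_lit 2, nat_lit 3, nat_lit 4, nat_lit 5, nat_lit 2, nat_lit 1, nat_lit 9, nat_lit 4, nat_lit 3, nat_lit 2, nat_lit 8, nat_lit 3, nat_lit 10, nat_lit 0, nat_lit 14, nat_lit 12] (Rl.cmp (nat_lit 4456) (nat_lit 4666))))))) (FT.node (nat_lit 4671) (FT.node (nat_lit 4669) (FT.leaf (Fct.mk true (nat_lit 33) (nat_lit 87) (nat_lit 32) [nat_lit 8, nat_lit 3, nat_lit 4, nat_lit 2, nat_lit 3, nat_lit 8, nat_lit 6, nat_lit 7, nat_lit 5, nat_lit 6, nat_lit 4, nat_lit 5, nat_lit 3, nat_lit 4, nat_lit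 2, nat_lit 3, nat_lit 8, nat_lit 0, nat_lit 1, nat_lit 2, nat_lit 3, nat_lit 4, nat_lit 5, nat_lit 6, nat_lit 7, nat_lit 5, nat_lit 6, nat_lit 4, nat_lit 5, nat_lit 2, nat_lit 3, nat_lit 4, nat_lit 1, nat_lit 2, nat_lit 3, nat_lit 8, nat_lit 0, nat_lit 1, nat_lit 2, nat_lit 3, nat_lit 4, nat_lit 5, nat_lit 3, nat_lit 2, nat_lit 1, nat_lit 8, nat_lit 3, nat_lit 2, nat_lit 0, nat_lit 1, nat_lit 9, nat_lit 4, nat_lit 3, nat_lit 2, nat_lit 8, nat_lit 3, nat_lit 1, nat_lit 12, nat_lit 15, nat_lit 18] (Rl.t1 (nat_lit 4471) (nat_lit 4667)))) (FT.node (nat_lit 4670) (FT.leaf (Fct.mk false (nat_lit 33) (nat_lit 0) (nat_lit 33) [nat_lit 4, nat_lit 2, nat_lit 3, nat_lit 8, nat_lit 1, nat_lit 2, nat_lit 3, nat_lit 4, nat_lit 5, nat_lit 6, nat_lit 7, nat_lit 5, nat_lit 10, nat_lit 0, nat_lit 16, nat_lit 14, nat_lit 12, nat_lit 18] (Rl.cmp (nat_lit 4400)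 (nat_lit 4456)))) (FT.leaf (Fct.mk false (nat_lit 33) (nat_lit 0) (nat_lit 33) [nat_lit 8, nat_lit 7, nat_lit 6, nat_lit 5, nat_lit 2, nat_lit 3, nat_lit 4, nat_lit 1, nat_lit 2, nat_lit 3, nat_lit 8, nat_lit 0, nat_lit 1, nat_lit 2, nat_lit 3, nat_lit 4, nat_lit 5, nat_lit 6, nat_lit 7, nat_lit 6, nat_lit 5, nat_lit 3, nat_lit 4, nat_lit 1, nat_lit 2, nat_lit 3, nat_lit 8, nat_lit 0, nat_lit 1, nat_lit 2, nat_lit 3, nat_lit 4, nat_lit 5, nat_lit 1, nat_lit 2, nat_lit 3, nat_lit 11, nat_lit 10, nat_lit 8, nat_lit 12, nat_lit 15, nat_lit 19, nat_lit 16] (Rl.cmp (nat_lit 4605) (nat_lit 4669)))))) (FT.node (nat_lit 4673) (FT.node (nat_lit 4672) (FT.leaf (Fct.mk false (nat_lit 33) (nat_lit 0) (nat_lit 33) [nat_lit 3, nat_lit 8, nat_lit 1, nat_lit 2, nat_lit 3, nat_lit 4, nat_lit 5, nat_lit 6, nat_lit 7, nat_lit 8, nat_lit 5, nat_lit 2, nat_lit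 3, nat_lit 4, nat_lit 1, nat_lit 2, nat_lit 3, nat_lit 8, nat_lit 0, nat_lit 1, nat_lit 2, nat_lit 3, nat_lit 4, nat_lit 5, nat_lit 8, nat_lit 3, nat_lit 2, nat_lit 1, nat_lit 9, nat_lit 4, nat_lit 3, nat_lit 2, nat_lit 8, nat_lit 3, nat_lit 11, nat_lit 2, nat_lit 14, nat_lit 17, nat_lit 12, nat_lit 19] (Rl.cmp (nat_lit 4456) (nat_lit 4670)))) (FT.leaf (Fct.mk false (nat_lit 33) (nat_lit 0) (nat_lit 33) [nat_lit 8, nat_lit 7, nat_lit 6, nat_lit 5, nat_lit 3, nat_lit 4, nat_lit 2, nat_lit 3, nat_lit 8, nat_lit 1, nat_lit 2, nat_lit 3, nat_lit 4, nat_lit 5, nat_lit 6, nat_lit 7, nat_lit 8, nat_lit 6, nat_lit 5, nat_lit 3, nat_lit 4, nat_lit 1, nat_lit 2, nat_lit 3, nat_lit 8, nat_lit 0, nat_lit 1, nat_lit 2, nat_lit 3, nat_lit 4, nat_lit 5, nat_lit 1, nat_lit 2, nat_lit 3, nat_lit 11, nat_lit 2, nat_lit 8, nat_lit 12, nat_lit 15, nat_lit 14,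 nat_lit 8, nat_lit 19, nat_lit 16] (Rl.cmp (nat_lit 4400) (nat_lit 4671))))) (FT.node (nat_lit 4674) (FT.leaf (Fct.mk false (nat_lit 33) (nat_lit 0) (nat_lit 33) [nat_lit 3, nat_lit 8, nat_lit 6, nat_lit 7, nat_lit 5, nat_lit 6, nat_lit 4, nat_lit 5, nat_lit 3, nat_lit 4, nat_lit 2, nat_lit 3, nat_lit 8, nat_lit 1, nat_lit 2, nat_lit 3, nat_lit 4, nat_lit 5, nat_lit 6, nat_lit 7, nat_lit 3, nat_lit 4, nat_lit 1, nat_lit 2, nat_lit 3, nat_lit 8, nat_lit 0, nat_lit 1, nat_lit 2, nat_lit 3, nat_lit 4, nat_lit 5, nat_lit 1, nat_lit 0, nat_lit 2, nat_lit 8, nat_lit 16, nat_lit 14] (Rl.cmp (nat_lit 4402) (nat_lit 4672)))) (FT.leaf (Fct.mk false (nat_lit 33) (nat_lit 0) (nat_lit 33) [nat_lit 2, nat_lit 3, nat_lit 8, nat_lit 4, nat_lit 5, nat_lit 3, nat_lit 4, nat_lit 2, nat_lit 3, nat_lit 8, nat_lit 1, nat_lit 2, nat_lit 3, nat_lit 4, nat_lit 5, nat_lit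 6, nat_lit 7, nat_lit 2, nat_lit 3, nat_lit 8, nat_lit 0, nat_lit 1, nat_lit 2, nat_lit 3, nat_lit 4, nat_lit 5, nat_lit 1, nat_lit 3, nat_lit 2, nat_lit 0, nat_lit 1, nat_lit 9, nat_lit 4, nat_lit 3, nat_lit 2, nat_lit 8, nat_lit 3, nat_lit 9, nat_lit 2, nat_lit 12, nat_lit 15, nat_lit 14, nat_lit 13, nat_lit 12, nat_lit 18] (Rl.cmp (nat_lit 4605) (nat_lit 4673))))))))) (FT.node (nat_lit 4687) (FT.node (nat_lit 4681) (FT.node (nat_lit 4678) (FT.node (nat_lit 4676) (FT.leaf (Fct.mk true (nat_lit 33) (nat_lit 126) (nat_lit 33) [nat_lit 7, nat_lit 6, nat_lit 5, nat_lit 3, nat_lit 4, nat_lit 1, nat_lit 2, nat_lit 3, nat_lit 8, nat_lit 0, nat_lit 1, nat_lit 2, nat_lit 3, nat_lit 4, nat_lit 5, nat_lit 6, nat_lit 7, nat_lit 4, nat_lit 3, nat_lit 8, nat_lit 2, nat_lit 3, nat_lit 4, nat_lit 5, nat_lit 2, nat_lit 1, nat_lit 9, nat_lit 4, nat_lit 3,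 nat_lit 2, nat_lit 8, nat_lit 3, nat_lit 10, nat_lit 9, nat_lit 2, nat_lit 16, nat_lit 15, nat_lit 14, nat_lit 16] (Rl.t1 (nat_lit 4483) (nat_lit 4674)))) (FT.node (nat_lit 4677) (FT.leaf (Fct.mk false (nat_lit 33) (nat_lit 0) (nat_lit 33) [nat_lit 3, nat_lit 8, nat_lit 5, nat_lit 6, nat_lit 4, nat_lit 5, nat_lit 3, nat_lit 4, nat_lit 1, nat_lit 2, nat_lit 3, nat_lit 8, nat_lit 0, nat_lit 1, nat_lit 2, nat_lit 3, nat_lit 4, nat_lit 5, nat_lit 6, nat_lit 7, nat_lit 2, nat_lit 3, nat_lit 4, nat_lit 1, nat_lit 2, nat_lit 3, nat_lit 8, nat_lit 5, nat_lit 6, nat_lit 4, nat_lit 5, nat_lit 3, nat_lit 4, nat_lit 2, nat_lit 3, nat_lit 8, nat_lit 1, nat_lit 2, nat_lit 3, nat_lit 4, nat_lit 5, nat_lit 3, nat_lit 2, nat_lit 1, nat_lit 4, nat_lit 3, nat_lit 2, nat_lit 8, nat_lit 3, nat_lit 9, nat_lit 2, nat_lit 8, nat_lit 12, nat_lit 15, nat_lit 13] (Rl.cmp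 (nat_lit 4605) (nat_lit 4400)))) (FT.leaf (Fct.mk false (nat_lit 33) (nat_lit 0) (nat_lit 33) [nat_lit 5, nat_lit 3, nat_lit 4, nat_lit 2, nat_lit 3, nat_lit 8, nat_lit 6, nat_lit 7, nat_lit 5, nat_lit 6, nat_lit 4, nat_lit 5, nat_lit 3, nat_lit 4, nat_lit 2, nat_lit 3, nat_lit 8, nat_lit 1, nat_lit 2, nat_lit 3, nat_lit 4, nat_lit 5, nat_lit 6, nat_lit 7, nat_lit 2, nat_lit 3, nat_lit 8, nat_lit 5, nat_lit 6, nat_lit 4, nat_lit 5, nat_lit 3, nat_lit 4, nat_lit 2, nat_lit 3, nat_lit 8, nat_lit 1, nat_lit 2, nat_lit 3, nat_lit 4, nat_lit 5, nat_lit 1, nat_lit 2, nat_lit 0, nat_lit 1, nat_lit 9, nat_lit 4, nat_lit 3, nat_lit 2, nat_lit 8, nat_lit 3, nat_lit 11, nat_lit 1, nat_lit 17, nat_lit 12, nat_lit 18] (Rl.cmp (nat_lit 4605) (nat_lit 4676)))))) (FT.node (nat_lit 4679) (FT.leaf (Fct.mk false (nat_lit 33) (nat_lit 0) (nat_lit 33) [nat_lit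 7, nat_lit 6, nat_lit 3, nat_lit 4, nat_lit 5, nat_lit 2, nat_lit 3, nat_lit 4, nat_lit 1, nat_lit 2, nat_lit 3, nat_lit 8, nat_lit 0, nat_lit 1, nat_lit 2, nat_lit 3, nat_lit 4, nat_lit 5, nat_lit 6, nat_lit 7, nat_lit 4, nat_lit 5, nat_lit 2, nat_lit 3, nat_lit 4, nat_lit 1, nat_lit 2, nat_lit 3, nat_lit 8, nat_lit 0, nat_lit 1, nat_lit 2, nat_lit 3, nat_lit 4, nat_lit 5, nat_lit 2, nat_lit 8, nat_lit 3, nat_lit 1, nat_lit 0, nat_lit 2, nat_lit 8, nat_lit 12, nat_lit 15, nat_lit 8] (Rl.cmp (nat_lit 4605) (nat_lit 4677)))) (FT.node (nat_lit 4680) (FT.leaf (Fct.mk false (nat_lit 33) (nat_lit 0) (nat_lit 33) [nat_lit 3, nat_lit 8, nat_lit 5, nat_lit 2, nat_lit 3, nat_lit 4, nat_lit 1, nat_lit 2, nat_lit 3, nat_lit 8, nat_lit 0, nat_lit 1, nat_lit 2, nat_lit 3, nat_lit 4, nat_lit 5, nat_lit 6, nat_lit 7, nat_lit 8, nat_lit 3, nat_lit 4, nat_lit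 2, nat_lit 3, nat_lit 8, nat_lit 0, nat_lit 1, nat_lit 2, nat_lit 3, nat_lit 4, nat_lit 5, nat_lit 0, nat_lit 1, nat_lit 9, nat_lit 4, nat_lit 3, nat_lit 2, nat_lit 8, nat_lit 3, nat_lit 10, nat_lit 0, nat_lit 14, nat_lit 8] (Rl.cmp (nat_lit 4456) (nat_lit 4678)))) (FT.leaf (Fct.mk true (nat_lit 33) (nat_lit 14) (nat_lit 32) [nat_lit 3, nat_lit 8, nat_lit 4, nat_lit 5, nat_lit 3, nat_lit 4, nat_lit 2, nat_lit 3, nat_lit 8, nat_lit 1, nat_lit 2, nat_lit 3, nat_lit 4, nat_lit 5, nat_lit 6, nat_lit 7, nat_lit 6, nat_lit 1, nat_lit 3, nat_lit 2, nat_lit 8, nat_lit 3, nat_lit 10, nat_lit 0, nat_lit 15, nat_lit 12] (Rl.t1 (nat_lit 4491) (nat_lit 4679))))))) (FT.node (nat_lit 4684) (FT.node (nat_lit 4682) (FT.leaf (Fct.mk false (nat_lit 33) (nat_lit 0) (nat_lit 33) [nat_lit 3, nat_lit 8, nat_lit 5, nat_lit 6, nat_lit 4, nat_lit 5, nat_lit 3, nat_lit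 4, nat_lit 1, nat_lit 2, nat_lit 3, nat_lit 8, nat_lit 0, nat_lit 1, nat_lit 2, nat_lit 3, nat_lit 4, nat_lit 5, nat_lit 6, nat_lit 7, nat_lit 2, nat_lit 3, nat_lit 4, nat_lit 1, nat_lit 2, nat_lit 3, nat_lit 8, nat_lit 5, nat_lit 6, nat_lit 4, nat_lit 5, nat_lit 3, nat_lit 4, nat_lit 2, nat_lit 3, nat_lit 8, nat_lit 1, nat_lit 2, nat_lit 3, nat_lit 4, nat_lit 5, nat_lit 3, nat_lit 2, nat_lit 1, nat_lit 4, nat_lit 3, nat_lit 2, nat_lit 8, nat_lit 3, nat_lit 9, nat_lit 2, nat_lit 8, nat_lit 12, nat_lit 15, nat_lit 13] (Rl.cmp (nat_lit 4605) (nat_lit 4400)))) (FT.node (nat_lit 4683) (FT.leaf (Fct.mk false (nat_lit 33) (nat_lit 0) (nat_lit 33) [nat_lit 2, nat_lit 3, nat_lit 8, nat_lit 5, nat_lit 6, nat_lit 4, nat_lit 5, nat_lit 3, nat_lit 4, nat_lit 2, nat_lit 3, nat_lit 8, nat_lit 0, nat_lit 1, nat_lit 2, nat_lit 3, nat_lit 4, nat_lit 5, nat_lit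 6, nat_lit 7, nat_lit 8, nat_lit 3, nat_lit 4, nat_lit 1, nat_lit 2, nat_lit 3, nat_lit 8, nat_lit 0, nat_lit 1, nat_lit 2, nat_lit 3, nat_lit 4, nat_lit 5, nat_lit 3, nat_lit 2, nat_lit 1, nat_lit 9, nat_lit 4, nat_lit 3, nat_lit 2, nat_lit 8, nat_lit 3, nat_lit 11, nat_lit 10, nat_lit 2, nat_lit 8, nat_lit 10, nat_lit 1, nat_lit 12, nat_lit 15, nat_lit 19] (Rl.cmp (nat_lit 4400) (nat_lit 4681)))) (FT.leaf (Fct.mk false (nat_lit 33) (nat_lit 0) (nat_lit 33) [nat_lit 3, nat_lit 8, nat_lit 5, nat_lit 6, nat_lit 4, nat_lit 5, nat_lit 3, nat_lit 4, nat_lit 1, nat_lit 2, nat_lit 3, nat_lit 8, nat_lit 0, nat_lit 1, nat_lit 2, nat_lit 3, nat_lit 4, nat_lit 5, nat_lit 6, nat_lit 7, nat_lit 3, nat_lit 8, nat_lit 2, nat_lit 3, nat_lit 4, nat_lit 5, nat_lit 2, nat_lit 0, nat_lit 1, nat_lit 4, nat_lit 3, nat_lit 2, nat_lit 8, nat_lit 3, nat_lit 0, nat_lit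 15, nat_lit 17] (Rl.cmp (nat_lit 4456) (nat_lit 4682)))))) (FT.node (nat_lit 4685) (FT.leaf (Fct.mk false (nat_lit 33) (nat_lit 0) (nat_lit 33) [nat_lit 5, nat_lit 3, nat_lit 4, nat_lit 2, nat_lit 3, nat_lit 8, nat_lit 6, nat_lit 7, nat_lit 5, nat_lit 6, nat_lit 4, nat_lit 5, nat_lit 3, nat_lit 4, nat_lit 2, nat_lit 3, nat_lit 8, nat_lit 1, nat_lit 2, nat_lit 3, nat_lit 4, nat_lit 5, nat_lit 6, nat_lit 7, nat_lit 3, nat_lit 8, nat_lit 4, nat_lit 5, nat_lit 3, nat_lit 4, nat_lit 1, nat_lit 2, nat_lit 3, nat_lit 8, nat_lit 0, nat_lit 1, nat_lit 2, nat_lit 3, nat_lit 4, nat_lit 5, nat_lit 3, nat_lit 2, nat_lit 8, nat_lit 3, nat_lit 0, nat_lit 16, nat_lit 8, nat_lit 12, nat_lit 15, nat_lit 17, nat_lit 12] (Rl.cmp (nat_lit 4605) (nat_lit 4683)))) (FT.node (nat_lit 4686) (FT.leaf (Fct.mk false (nat_lit 33) (nat_lit 0) (nat_lit 33) [nat_lit 7, nat_lit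 6, nat_lit 3, nat_lit 4, nat_lit 5, nat_lit 2, nat_lit 3, nat_lit 4, nat_lit 1, nat_lit 2, nat_lit 3, nat_lit 8, nat_lit 0, nat_lit 1, nat_lit 2, nat_lit 3, nat_lit 4, nat_lit 5, nat_lit 6, nat_lit 7, nat_lit 8, nat_lit 4, nat_lit 5, nat_lit 3, nat_lit 4, nat_lit 2, nat_lit 3, nat_lit 8, nat_lit 1, nat_lit 2, nat_lit 3, nat_lit 4, nat_lit 5, nat_lit 3, nat_lit 1, nat_lit 0, nat_lit 2, nat_lit 8, nat_lit 12, nat_lit 15, nat_lit 14, nat_lit 8, nat_lit 18] (Rl.cmp (nat_lit 4605) (nat_lit 4684)))) (FT.leaf (Fct.mk true (nat_lit 33) (nat_lit 187) (nat_lit 5) [nat_lit 8, nat_lit 7, nat_lit 6, nat_lit 5, nat_lit 3, nat_lit 4, nat_lit 1, nat_lit 2, nat_lit 3, nat_lit 8, nat_lit 0, nat_lit 1, nat_lit 2, nat_lit 3, nat_lit 4, nat_lit 5, nat_lit 6, nat_lit 7, nat_lit 3, nat_lit 8, nat_lit 4, nat_lit 5, nat_lit 3, nat_lit 4, nat_lit 1, nat_lit 2, nat_lit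 3, nat_lit 8, nat_lit 0, nat_lit 1, nat_lit 2, nat_lit 3, nat_lit 4, nat_lit 5, nat_lit 1, nat_lit 8, nat_lit 3, nat_lit 2, nat_lit 0, nat_lit 1, nat_lit 4, nat_lit 3, nat_lit 2, nat_lit 8, nat_lit 3, nat_lit 8, nat_lit 10, nat_lit 0, nat_lit 14, nat_lit 13, nat_lit 12, nat_lit 18, nat_lit 16] (Rl.t1 (nat_lit 4504) (nat_lit 4685)))))))) (FT.node (nat_lit 4693) (FT.node (nat_lit 4690) (FT.node (nat_lit 4688) (FT.leaf (Fct.mk false (nat_lit 33) (nat_lit 0) (nat_lit 33) [nat_lit 3, nat_lit 8, nat_lit 5, nat_lit 6, nat_lit 4, nat_lit 5, nat_lit 3, nat_lit 4, nat_lit 1, nat_lit 2, nat_lit 3, nat_lit 8, nat_lit 0, nat_lit 1, nat_lit 2, nat_lit 3, nat_lit 4, nat_lit 5, nat_lit 6, nat_lit 7, nat_lit 2, nat_lit 3, nat_lit 4, nat_lit 1, nat_lit 2, nat_lit 3, nat_lit 8, nat_lit 5, nat_lit 6, nat_lit 4, nat_lit 5, nat_lit 3, nat_lit 4, nat_lit 2, nat_lit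 3, nat_lit 8, nat_lit 1, nat_lit 2, nat_lit 3, nat_lit 4, nat_lit 5, nat_lit 3, nat_lit 2, nat_lit 1, nat_lit 4, nat_lit 3, nat_lit 2, nat_lit 8, nat_lit 3, nat_lit 9, nat_lit 2, nat_lit 8, nat_lit 12, nat_lit 15, nat_lit 13] (Rl.cmp (nat_lit 4605) (nat_lit 4400)))) (FT.node (nat_lit 4689) (FT.leaf (Fct.mk false (nat_lit 33) (nat_lit 0) (nat_lit 33) [nat_lit 2, nat_lit 3, nat_lit 8, nat_lit 5, nat_lit 6, nat_lit 4, nat_lit 5, nat_lit 3, nat_lit 4, nat_lit 2, nat_lit 3, nat_lit 8, nat_lit 0, nat_lit 1, nat_lit 2, nat_lit 3, nat_lit 4, nat_lit 5, nat_lit 6, nat_lit 7, nat_lit 8, nat_lit 3, nat_lit 4, nat_lit 1, nat_lit 2, nat_lit 3, nat_lit 8, nat_lit 0, nat_lit 1, nat_lit 2, nat_lit 3, nat_lit 4, nat_lit 5, nat_lit 3, nat_lit 2, nat_lit 1, nat_lit 9, nat_lit 4, nat_lit 3, nat_lit 2, nat_lit 8, nat_lit 3, nat_lit 11, nat_lit 10, nat_lit 2, nat_lit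 8, nat_lit 10, nat_lit 1, nat_lit 12, nat_lit 15, nat_lit 19] (Rl.cmp (nat_lit 4400) (nat_lit 4687)))) (FT.leaf (Fct.mk false (nat_lit 33) (nat_lit 0) (nat_lit 33) [nat_lit 3, nat_lit 8, nat_lit 5, nat_lit 6, nat_lit 4, nat_lit 5, nat_lit 3, nat_lit 4, nat_lit 1, nat_lit 2, nat_lit 3, nat_lit 8, nat_lit 0, nat_lit 1, nat_lit 2, nat_lit 3, nat_lit 4, nat_lit 5, nat_lit 6, nat_lit 7, nat_lit 3, nat_lit 8, nat_lit 2, nat_lit 3, nat_lit 4, nat_lit 5, nat_lit 2, nat_lit 0, nat_lit 1, nat_lit 4, nat_lit 3, nat_lit 2, nat_lit 8, nat_lit 3, nat_lit 0, nat_lit 15, nat_lit 17] (Rl.cmp (nat_lit 4456) (nat_lit 4688)))))) (FT.node (nat_lit 4691) (FT.leaf (Fct.mk false (nat_lit 33) (nat_lit 0) (nat_lit 33) [nat_lit 8, nat_lit 2, nat_lit 3, nat_lit 4, nat_lit 1, nat_lit 2, nat_lit 3, nat_lit 8, nat_lit 6, nat_lit 7, nat_lit 5, nat_lit 6, nat_lit 4, nat_lit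 5, nat_lit 3, nat_lit 4, nat_lit 2, nat_lit 3, nat_lit 8, nat_lit 1, nat_lit 2, nat_lit 3, nat_lit 4, nat_lit 5, nat_lit 6, nat_lit 7, nat_lit 3, nat_lit 8, nat_lit 5, nat_lit 6, nat_lit 4, nat_lit 5, nat_lit 3, nat_lit 4, nat_lit 2, nat_lit 3, nat_lit 8, nat_lit 0, nat_lit 1, nat_lit 2, nat_lit 3, nat_lit 4, nat_lit 5, nat_lit 1, nat_lit 4, nat_lit 3, nat_lit 2, nat_lit 0, nat_lit 1, nat_lit 9, nat_lit 4, nat_lit 3, nat_lit 2, nat_lit 8, nat_lit 3, nat_lit 8, nat_lit 12, nat_lit 15, nat_lit 12, nat_lit 18, nat_lit 16] (Rl.cmp (nat_lit 4456) (nat_lit 4689)))) (FT.node (nat_lit 4692) (FT.leaf (Fct.mk false (nat_lit 33) (nat_lit 0) (nat_lit 33) [nat_lit 8, nat_lit 6, nat_lit 5, nat_lit 3, nat_lit 4, nat_lit 2, nat_lit 3, nat_lit 8, nat_lit 0, nat_lit 1, nat_lit 2, nat_lit 3, nat_lit 4, nat_lit 5, nat_lit 6, nat_lit 7, nat_lit 3, nat_lit 8, nat_lit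 6, nat_lit 4, nat_lit 5, nat_lit 3, nat_lit 4, nat_lit 1, nat_lit 2, nat_lit 3, nat_lit 8, nat_lit 0, nat_lit 1, nat_lit 2, nat_lit 3, nat_lit 4, nat_lit 5, nat_lit 4, nat_lit 3, nat_lit 2, nat_lit 0, nat_lit 1, nat_lit 9, nat_lit 4, nat_lit 3, nat_lit 2, nat_lit 8, nat_lit 3, nat_lit 11, nat_lit 10, nat_lit 2, nat_lit 8, nat_lit 10, nat_lit 1, nat_lit 15, nat_lit 14, nat_lit 13, nat_lit 12, nat_lit 18, nat_lit 16] (Rl.cmp (nat_lit 4456) (nat_lit 4690)))) (FT.leaf (Fct.mk true (nat_lit 33) (nat_lit 70) (nat_lit 33) [nat_lit 8, nat_lit 5, nat_lit 6, nat_lit 4, nat_lit 5, nat_lit 3, nat_lit 4, nat_lit 1, nat_lit 2, nat_lit 3, nat_lit 8, nat_lit 0, nat_lit 1, nat_lit 2, nat_lit 3, nat_lit 4, nat_lit 5, nat_lit 6, nat_lit 7, nat_lit 2, nat_lit 3, nat_lit 4, nat_lit 1, nat_lit 2, nat_lit 3, nat_lit 8, nat_lit 0, nat_lit 1, nat_lit 2, nat_lit 3,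 nat_lit 4, nat_lit 5, nat_lit 2, nat_lit 0, nat_lit 1, nat_lit 3, nat_lit 2, nat_lit 8, nat_lit 3, nat_lit 11, nat_lit 9, nat_lit 10, nat_lit 2, nat_lit 8, nat_lit 10, nat_lit 1, nat_lit 16, nat_lit 8, nat_lit 12, nat_lit 15, nat_lit 18, nat_lit 16] (Rl.t1 (nat_lit 4507) (nat_lit 4691))))))) (FT.node (nat_lit 4696) (FT.node (nat_lit 4694) (FT.leaf (Fct.mk false (nat_lit 33) (nat_lit 0) (nat_lit 33) [nat_lit 3, nat_lit 8, nat_lit 5, nat_lit 6, nat_lit 4, nat_lit 5, nat_lit 3, nat_lit 4, nat_lit 1, nat_lit 2, nat_lit 3, nat_lit 8, nat_lit 0, nat_lit 1, nat_lit 2, nat_lit 3, nat_lit 4, nat_lit 5, nat_lit 6, nat_lit 7, nat_lit 2, nat_lit 3, nat_lit 4, nat_lit 1, nat_lit 2, nat_lit 3, nat_lit 8, nat_lit 5, nat_lit 6, nat_lit 4, nat_lit 5, nat_lit 3, nat_lit 4, nat_lit 2, nat_lit 3, nat_lit 8, nat_lit 1, nat_lit 2, nat_lit 3, nat_lit 4, nat_lit 5,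 nat_lit 3, nat_lit 2, nat_lit 1, nat_lit 4, nat_lit 3, nat_lit 2, nat_lit 8, nat_lit 3, nat_lit 9, nat_lit 2, nat_lit 8, nat_lit 12, nat_lit 15, nat_lit 13] (Rl.cmp (nat_lit 4605) (nat_lit 4400)))) (FT.node (nat_lit 4695) (FT.leaf (Fct.mk false (nat_lit 33) (nat_lit 0) (nat_lit 33) [nat_lit 7, nat_lit 6, nat_lit 4, nat_lit 5, nat_lit 3, nat_lit 4, nat_lit 1, nat_lit 2, nat_lit 3, nat_lit 8, nat_lit 0, nat_lit 1, nat_lit 2, nat_lit 3, nat_lit 4, nat_lit 5, nat_lit 6, nat_lit 7, nat_lit 4, nat_lit 1, nat_lit 2, nat_lit 3, nat_lit 8, nat_lit 5, nat_lit 6, nat_lit 4, nat_lit 5, nat_lit 3, nat_lit 4, nat_lit 2, nat_lit 3, nat_lit 8, nat_lit 1, nat_lit 2, nat_lit 3, nat_lit 4, nat_lit 5, nat_lit 9, nat_lit 4, nat_lit 3, nat_lit 2, nat_lit 8, nat_lit 3, nat_lit 9, nat_lit 2, nat_lit 15, nat_lit 14, nat_lit 13, nat_lit 12, nat_lit 19] (Rl.cmp (nat_lit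 4402) (nat_lit 4693)))) (FT.leaf (Fct.mk false (nat_lit 33) (nat_lit 0) (nat_lit 33) [nat_lit 3, nat_lit 8, nat_lit 2, nat_lit 3, nat_lit 4, nat_lit 1, nat_lit 2, nat_lit 3, nat_lit 8, nat_lit 0, nat_lit 1, nat_lit 2, nat_lit 3, nat_lit 4, nat_lit 5, nat_lit 6, nat_lit 7, nat_lit 4, nat_lit 5, nat_lit 3, nat_lit 4, nat_lit 2, nat_lit 3, nat_lit 8, nat_lit 1, nat_lit 2, nat_lit 3, nat_lit 4, nat_lit 5, nat_lit 3, nat_lit 0, nat_lit 15, nat_lit 14, nat_lit 12, nat_lit 19, nat_lit 16] (Rl.cmp (nat_lit 4456) (nat_lit 4694)))))) (FT.node (nat_lit 4698) (FT.node (nat_lit 4697) (FT.leaf (Fct.mk false (nat_lit 33) (nat_lit 0) (nat_lit 33) [nat_lit 8, nat_lit 3, nat_lit 4, nat_lit 2, nat_lit 3, nat_lit 8, nat_lit 0, nat_lit 1, nat_lit 2, nat_lit 3, nat_lit 4, nat_lit 5, nat_lit 6, nat_lit 7, nat_lit 8, nat_lit 5, nat_lit 2, nat_lit 3, nat_lit 4, nat_lit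 1, nat_lit 2, nat_lit 3, nat_lit 8, nat_lit 0, nat_lit 1, nat_lit 2, nat_lit 3, nat_lit 4, nat_lit 5, nat_lit 3, nat_lit 2, nat_lit 1, nat_lit 4, nat_lit 3, nat_lit 2, nat_lit 0, nat_lit 1, nat_lit 9, nat_lit 4, nat_lit 3, nat_lit 2, nat_lit 8, nat_lit 3, nat_lit 11, nat_lit 8, nat_lit 10, nat_lit 15, nat_lit 13] (Rl.cmp (nat_lit 4456) (nat_lit 4695)))) (FT.leaf (Fct.mk true (nat_lit 33) (nat_lit 102) (nat_lit 33) [nat_lit 8, nat_lit 3, nat_lit 4, nat_lit 2, nat_lit 3, nat_lit 8, nat_lit 5, nat_lit 6, nat_lit 4, nat_lit 5, nat_lit 3, nat_lit 4, nat_lit 2, nat_lit 3, nat_lit 8, nat_lit 1, nat_lit 2, nat_lit 3, nat_lit 4, nat_lit 5, nat_lit 6, nat_lit 7, nat_lit 5, nat_lit 2, nat_lit 3, nat_lit 4, nat_lit 1, nat_lit 2, nat_lit 3, nat_lit 8, nat_lit 0, nat_lit 1, nat_lit 2, nat_lit 3, nat_lit 4, nat_lit 5, nat_lit 1, nat_lit 2, nat_lit 3, nat_lit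 8, nat_lit 4, nat_lit 3, nat_lit 2, nat_lit 1, nat_lit 9, nat_lit 4, nat_lit 3, nat_lit 2, nat_lit 8, nat_lit 3, nat_lit 11, nat_lit 2, nat_lit 8, nat_lit 10, nat_lit 1, nat_lit 16, nat_lit 12, nat_lit 15, nat_lit 14, nat_lit 18, nat_lit 16] (Rl.t1 (nat_lit 4515) (nat_lit 4696))))) (FT.node (nat_lit 4699) (FT.leaf (Fct.mk true (nat_lit 33) (nat_lit 6729) (nat_lit 33) [nat_lit 8, nat_lit 6, nat_lit 5, nat_lit 2, nat_lit 3, nat_lit 4, nat_lit 1, nat_lit 2, nat_lit 3, nat_lit 8, nat_lit 0, nat_lit 1, nat_lit 2, nat_lit 3, nat_lit 4, nat_lit 5, nat_lit 6, nat_lit 7, nat_lit 6, nat_lit 5, nat_lit 4, nat_lit 2, nat_lit 3, nat_lit 8, nat_lit 0, nat_lit 1, nat_lit 2, nat_lit 3, nat_lit 4, nat_lit 5, nat_lit 2, nat_lit 0, nat_lit 1, nat_lit 9, nat_lit 4, nat_lit 3, nat_lit 2, nat_lit 8, nat_lit 3, nat_lit 11, nat_lit 8, nat_lit 10, nat_lit 16, nat_lit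 12, nat_lit 15, nat_lit 14, nat_lit 8, nat_lit 18] (Rl.inv (nat_lit 4697)))) (FT.leaf (Fct.mk false (nat_lit 33) (nat_lit 0) (nat_lit 33) [nat_lit 5, nat_lit 6, nat_lit 4, nat_lit 5, nat_lit 3, nat_lit 4, nat_lit 2, nat_lit 3, nat_lit 8, nat_lit 1, nat_lit 2, nat_lit 3, nat_lit 4, nat_lit 5, nat_lit 6, nat_lit 7, nat_lit 9, nat_lit 4, nat_lit 3, nat_lit 2, nat_lit 8, nat_lit 3, nat_lit 11, nat_lit 1, nat_lit 12, nat_lit 15, nat_lit 14, nat_lit 13, nat_lit 12] (Rl.cmp (nat_lit 4402) (nat_lit 4456)))))))))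

/-- some facts -/
noncomputable def ftc94 : FT := FT.node (nat_lit 4725) (FT.node (nat_lit 4712) (FT.node (nat_lit 4706) (FT.node (nat_lit 4703) (FT.node (nat_lit 4701) (FT.leaf (Fct.mk false (nat_lit 33) (nat_lit 0) (nat_lit 33) [nat_lit 1, nat_lit 2, nat_lit 3, nat_lit 8, nat_lit 7, nat_lit 5, nat_lit 6, nat_lit 4, nat_lit 5, nat_lit 3, nat_lit 4, nat_lit 2, nat_lit 3, nat_lit 8, nat_lit 1, nat_lit 2, nat_lit 3, nat_lit 4, nat_lit 5, nat_lit 6, nat_lit 7, nat_lit 8, nat_lit 3, nat_lit 4, nat_lit 2, nat_lit 3, nat_lit 8, nat_lit 1, nat_lit 2, nat_lit 3, nat_lit 4, nat_lit 5, nat_lit 2, nat_lit 1, nat_lit 3, nat_lit 2, nat_lit 0, nat_lit 1, nat_lit 4, nat_lit 3, nat_lit 2, nat_lit 8, nat_lit 3, nat_lit 8, nat_lit 10, nat_lit 1, nat_lit 14, nat_lit 13] (Rl.cmp (nat_lit 4605) (nat_lit 4699)))) (FT.node (nat_lit 4702) (FT.leaf (Fct.mk false (nat_lit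 33) (nat_lit 0) (nat_lit 33) [nat_lit 8, nat_lit 6, nat_lit 7, nat_lit 5, nat_lit 6, nat_lit 4, nat_lit 5, nat_lit 3, nat_lit 4, nat_lit 2, nat_lit 3, nat_lit 8, nat_lit 1, nat_lit 2, nat_lit 3, nat_lit 4, nat_lit 5, nat_lit 6, nat_lit 7, nat_lit 5, nat_lit 4, nat_lit 2, nat_lit 3, nat_lit 8, nat_lit 1, nat_lit 2, nat_lit 3, nat_lit 4, nat_lit 5, nat_lit 1, nat_lit 8, nat_lit 4, nat_lit 3, nat_lit 2, nat_lit 0, nat_lit 1, nat_lit 9, nat_lit 4, nat_lit 3, nat_lit 2, nat_lit 8, nat_lit 3, nat_lit 11, nat_lit 9, nat_lit 10, nat_lit 2, nat_lit 8, nat_lit 10, nat_lit 1, nat_lit 15, nat_lit 14, nat_lit 13] (Rl.cmp (nat_lit 4402) (nat_lit 4700)))) (FT.leaf (Fct.mk false (nat_lit 33) (nat_lit 0) (nat_lit 33) [nat_lit 5, nat_lit 4, nat_lit 3, nat_lit 8, nat_lit 6, nat_lit 7, nat_lit 5, nat_lit 6, nat_lit 4, nat_lit 5, nat_lit 3, nat_lit 4, nat_lit 1,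 nat_lit 2, nat_lit 3, nat_lit 8, nat_lit 0, nat_lit 1, nat_lit 2, nat_lit 3, nat_lit 4, nat_lit 5, nat_lit 6, nat_lit 7, nat_lit 2, nat_lit 3, nat_lit 8, nat_lit 6, nat_lit 4, nat_lit 5, nat_lit 3, nat_lit 4, nat_lit 2, nat_lit 3, nat_lit 8, nat_lit 0, nat_lit 1, nat_lit 2, nat_lit 3, nat_lit 4, nat_lit 5, nat_lit 3, nat_lit 2, nat_lit 1, nat_lit 4, nat_lit 3, nat_lit 2, nat_lit 0, nat_lit 1, nat_lit 9, nat_lit 4, nat_lit 3, nat_lit 2, nat_lit 8, nat_lit 3, nat_lit 0, nat_lit 2, nat_lit 8, nat_lit 12, nat_lit 15, nat_lit 14, nat_lit 16, nat_lit 8, nat_lit 18, nat_lit 16] (Rl.cmp (nat_lit 4456) (nat_lit 4701)))))) (FT.node (nat_lit 4704) (FT.leaf (Fct.mk false (nat_lit 33) (nat_lit 0) (nat_lit 33) [nat_lit 7, nat_lit 6, nat_lit 5, nat_lit 3, nat_lit 4, nat_lit 1, nat_lit 2, nat_lit 3, nat_lit 8, nat_lit 0, nat_lit 1, nat_lit 2, nat_lit 3, nat_lit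 4, nat_lit 5, nat_lit 6, nat_lit 7, nat_lit 3, nat_lit 2, nat_lit 0, nat_lit 1, nat_lit 4, nat_lit 3, nat_lit 2, nat_lit 8, nat_lit 3, nat_lit 11, nat_lit 8, nat_lit 10, nat_lit 1, nat_lit 8, nat_lit 12, nat_lit 15, nat_lit 17, nat_lit 12, nat_lit 16] (Rl.cmp (nat_lit 4605) (nat_lit 4702)))) (FT.node (nat_lit 4705) (FT.leaf (Fct.mk true (nat_lit 33) (nat_lit 15) (nat_lit 33) [nat_lit 0, nat_lit 1, nat_lit 2, nat_lit 3, nat_lit 4, nat_lit 5, nat_lit 6, nat_lit 7, nat_lit 3, nat_lit 8, nat_lit 2, nat_lit 3, nat_lit 4, nat_lit 5, nat_lit 2, nat_lit 0, nat_lit 1, nat_lit 3, nat_lit 2, nat_lit 8, nat_lit 3, nat_lit 0, nat_lit 15, nat_lit 14, nat_lit 13, nat_lit 18] (Rl.t1 (nat_lit 4698) (nat_lit 4703)))) (FT.leaf (Fct.mk false (nat_lit 33) (nat_lit 0) (nat_lit 33) [nat_lit 3, nat_lit 8, nat_lit 5, nat_lit 6, nat_lit 4, nat_lit 5, nat_lit 3, nat_lit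 4, nat_lit 1, nat_lit 2, nat_lit 3, nat_lit 8, nat_lit 0, nat_lit 1, nat_lit 2, nat_lit 3, nat_lit 4, nat_lit 5, nat_lit 6, nat_lit 7, nat_lit 2, nat_lit 3, nat_lit 4, nat_lit 1, nat_lit 2, nat_lit 3, nat_lit 8, nat_lit 5, nat_lit 6, nat_lit 4, nat_lit 5, nat_lit 3, nat_lit 4, nat_lit 2, nat_lit 3, nat_lit 8, nat_lit 1, nat_lit 2, nat_lit 3, nat_lit 4, nat_lit 5, nat_lit 3, nat_lit 2, nat_lit 1, nat_lit 4, nat_lit 3, nat_lit 2, nat_lit 8, nat_lit 3, nat_lit 9, nat_lit 2, nat_lit 8, nat_lit 12, nat_lit 15, nat_lit 13] (Rl.cmp (nat_lit 4605) (nat_lit 4400))))))) (FT.node (nat_lit 4709) (FT.node (nat_lit 4707) (FT.leaf (Fct.mk false (nat_lit 33) (nat_lit 0) (nat_lit 33) [nat_lit 8, nat_lit 2, nat_lit 3, nat_lit 4, nat_lit 1, nat_lit 2, nat_lit 3, nat_lit 8, nat_lit 6, nat_lit 7, nat_lit 5, nat_lit 6, nat_lit 4, nat_lit 5, nat_lit 3, nat_lit 4,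 nat_lit 2, nat_lit 3, nat_lit 8, nat_lit 1, nat_lit 2, nat_lit 3, nat_lit 4, nat_lit 5, nat_lit 6, nat_lit 7, nat_lit 5, nat_lit 4, nat_lit 2, nat_lit 3, nat_lit 8, nat_lit 0, nat_lit 1, nat_lit 2, nat_lit 3, nat_lit 4, nat_lit 5, nat_lit 3, nat_lit 2, nat_lit 0, nat_lit 1, nat_lit 4, nat_lit 3, nat_lit 2, nat_lit 8, nat_lit 3, nat_lit 10, nat_lit 8, nat_lit 12, nat_lit 15, nat_lit 12, nat_lit 18, nat_lit 16] (Rl.cmp (nat_lit 4456) (nat_lit 4705)))) (FT.node (nat_lit 4708) (FT.leaf (Fct.mk false (nat_lit 33) (nat_lit 0) (nat_lit 33) [nat_lit 8, nat_lit 6, nat_lit 5, nat_lit 3, nat_lit 4, nat_lit 2, nat_lit 3, nat_lit 8, nat_lit 0, nat_lit 1, nat_lit 2, nat_lit 3, nat_lit 4, nat_lit 5, nat_lit 6, nat_lit 7, nat_lit 3, nat_lit 8, nat_lit 2, nat_lit 3, nat_lit 4, nat_lit 5, nat_lit 8, nat_lit 3, nat_lit 2, nat_lit 1, nat_lit 4, nat_lit 3, nat_lit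 2, nat_lit 8, nat_lit 3, nat_lit 8, nat_lit 10, nat_lit 1, nat_lit 15, nat_lit 14, nat_lit 13, nat_lit 18, nat_lit 16] (Rl.cmp (nat_lit 4456) (nat_lit 4706)))) (FT.leaf (Fct.mk false (nat_lit 33) (nat_lit 0) (nat_lit 33) [nat_lit 8, nat_lit 6, nat_lit 5, nat_lit 2, nat_lit 3, nat_lit 4, nat_lit 1, nat_lit 2, nat_lit 3, nat_lit 8, nat_lit 0, nat_lit 1, nat_lit 2, nat_lit 3, nat_lit 4, nat_lit 5, nat_lit 6, nat_lit 7, nat_lit 6, nat_lit 3, nat_lit 4, nat_lit 5, nat_lit 2, nat_lit 3, nat_lit 4, nat_lit 1, nat_lit 2, nat_lit 3, nat_lit 8, nat_lit 0, nat_lit 1, nat_lit 2, nat_lit 3, nat_lit 4, nat_lit 5, nat_lit 1, nat_lit 3, nat_lit 2, nat_lit 0, nat_lit 1, nat_lit 4, nat_lit 3, nat_lit 2, nat_lit 8, nat_lit 3, nat_lit 8, nat_lit 10, nat_lit 8, nat_lit 12, nat_lit 15, nat_lit 12, nat_lit 18, nat_lit 16] (Rl.cmp (nat_lit 4400) (nat_lit 4707))))))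 (FT.node (nat_lit 4710) (FT.leaf (Fct.mk true (nat_lit 33) (nat_lit 41) (nat_lit 5) [nat_lit 3, nat_lit 8, nat_lit 4, nat_lit 5, nat_lit 3, nat_lit 4, nat_lit 1, nat_lit 2, nat_lit 3, nat_lit 8, nat_lit 0, nat_lit 1, nat_lit 2, nat_lit 3, nat_lit 4, nat_lit 5, nat_lit 6, nat_lit 7, nat_lit 6, nat_lit 1, nat_lit 8, nat_lit 3, nat_lit 2, nat_lit 0, nat_lit 1, nat_lit 4, nat_lit 3, nat_lit 2, nat_lit 8, nat_lit 3, nat_lit 8, nat_lit 10, nat_lit 0, nat_lit 15, nat_lit 14, nat_lit 8] (Rl.t1 (nat_lit 4524) (nat_lit 4708)))) (FT.node (nat_lit 4711) (FT.leaf (Fct.mk false (nat_lit 33) (nat_lit 0) (nat_lit 33) [nat_lit 3, nat_lit 8, nat_lit 4, nat_lit 5, nat_lit 3, nat_lit 4, nat_lit 1, nat_lit 2, nat_lit 3, nat_lit 8, nat_lit 0, nat_lit 1, nat_lit 2, nat_lit 3, nat_lit 4, nat_lit 5, nat_lit 6, nat_lit 7, nat_lit 5, nat_lit 3, nat_lit 4, nat_lit 1,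 nat_lit 2, nat_lit 3, nat_lit 8, nat_lit 0, nat_lit 1, nat_lit 2, nat_lit 3, nat_lit 4, nat_lit 5, nat_lit 2, nat_lit 1, nat_lit 9, nat_lit 4, nat_lit 3, nat_lit 2, nat_lit 8, nat_lit 3, nat_lit 11, nat_lit 16, nat_lit 8, nat_lit 12, nat_lit 15, nat_lit 8, nat_lit 16] (Rl.cmp (nat_lit 4456) (nat_lit 4605)))) (FT.leaf (Fct.mk false (nat_lit 33) (nat_lit 0) (nat_lit 33) [nat_lit 5, nat_lit 4, nat_lit 3, nat_lit 8, nat_lit 2, nat_lit 3, nat_lit 4, nat_lit 1, nat_lit 2, nat_lit 3, nat_lit 8, nat_lit 7, nat_lit 5, nat_lit 6, nat_lit 4, nat_lit 5, nat_lit 3, nat_lit 4, nat_lit 2, nat_lit 3, nat_lit 8, nat_lit 1, nat_lit 2, nat_lit 3, nat_lit 4, nat_lit 5, nat_lit 6, nat_lit 7, nat_lit 8, nat_lit 6, nat_lit 4, nat_lit 5, nat_lit 3, nat_lit 4, nat_lit 2, nat_lit 3, nat_lit 8, nat_lit 0, nat_lit 1, nat_lit 2, nat_lit 3, nat_lit 4, nat_lit 5, nat_lit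 2, nat_lit 3, nat_lit 8, nat_lit 4, nat_lit 3, nat_lit 2, nat_lit 0, nat_lit 1, nat_lit 9, nat_lit 4, nat_lit 3, nat_lit 2, nat_lit 8, nat_lit 3, nat_lit 0, nat_lit 13, nat_lit 12, nat_lit 18, nat_lit 16] (Rl.cmp (nat_lit 4456) (nat_lit 4710)))))))) (FT.node (nat_lit 4718) (FT.node (nat_lit 4715) (FT.node (nat_lit 4713) (FT.leaf (Fct.mk false (nat_lit 33) (nat_lit 0) (nat_lit 33) [nat_lit 2, nat_lit 3, nat_lit 8, nat_lit 4, nat_lit 5, nat_lit 3, nat_lit 4, nat_lit 2, nat_lit 3, nat_lit 8, nat_lit 1, nat_lit 2, nat_lit 3, nat_lit 4, nat_lit 5, nat_lit 6, nat_lit 7, nat_lit 8, nat_lit 5, nat_lit 2, nat_lit 3, nat_lit 4, nat_lit 1, nat_lit 2, nat_lit 3, nat_lit 8, nat_lit 0, nat_lit 1, nat_lit 2, nat_lit 3, nat_lit 4, nat_lit 5, nat_lit 3, nat_lit 2, nat_lit 0, nat_lit 1, nat_lit 9, nat_lit 4, nat_lit 3, nat_lit 2, nat_lit 8, nat_lit 3, nat_lit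 11, nat_lit 1, nat_lit 16, nat_lit 14, nat_lit 17, nat_lit 12, nat_lit 19] (Rl.cmp (nat_lit 4456) (nat_lit 4711)))) (FT.node (nat_lit 4714) (FT.leaf (Fct.mk false (nat_lit 33) (nat_lit 0) (nat_lit 33) [nat_lit 8, nat_lit 5, nat_lit 3, nat_lit 4, nat_lit 2, nat_lit 3, nat_lit 8, nat_lit 1, nat_lit 2, nat_lit 3, nat_lit 4, nat_lit 5, nat_lit 6, nat_lit 7, nat_lit 5, nat_lit 2, nat_lit 3, nat_lit 4, nat_lit 1, nat_lit 2, nat_lit 3, nat_lit 8, nat_lit 0, nat_lit 1, nat_lit 2, nat_lit 3, nat_lit 4, nat_lit 5, nat_lit 1, nat_lit 3, nat_lit 2, nat_lit 8, nat_lit 3, nat_lit 11, nat_lit 10, nat_lit 14, nat_lit 8, nat_lit 18] (Rl.cmp (nat_lit 4402) (nat_lit 4712)))) (FT.leaf (Fct.mk true (nat_lit 33) (nat_lit 244) (nat_lit 33) [nat_lit 8, nat_lit 3, nat_lit 4, nat_lit 2, nat_lit 3, nat_lit 8, nat_lit 5, nat_lit 6, nat_lit 4, nat_lit 5, nat_lit 3, nat_lit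 4, nat_lit 2, nat_lit 3, nat_lit 8, nat_lit 1, nat_lit 2, nat_lit 3, nat_lit 4, nat_lit 5, nat_lit 6, nat_lit 7, nat_lit 3, nat_lit 8, nat_lit 4, nat_lit 5, nat_lit 3, nat_lit 4, nat_lit 2, nat_lit 3, nat_lit 8, nat_lit 0, nat_lit 1, nat_lit 2, nat_lit 3, nat_lit 4, nat_lit 5, nat_lit 0, nat_lit 1, nat_lit 3, nat_lit 2, nat_lit 8, nat_lit 3, nat_lit 11, nat_lit 9, nat_lit 10, nat_lit 2, nat_lit 8, nat_lit 10, nat_lit 1, nat_lit 8, nat_lit 12, nat_lit 15, nat_lit 12] (Rl.t1 (nat_lit 4535) (nat_lit 4713)))))) (FT.node (nat_lit 4716) (FT.leaf (Fct.mk true (nat_lit 33) (nat_lit 7228) (nat_lit 33) [nat_lit 6, nat_lit 5, nat_lit 4, nat_lit 2, nat_lit 3, nat_lit 8, nat_lit 0, nat_lit 1, nat_lit 2, nat_lit 3, nat_lit 4, nat_lit 5, nat_lit 6, nat_lit 7, nat_lit 8, nat_lit 6, nat_lit 4, nat_lit 5, nat_lit 3, nat_lit 4, nat_lit 1, nat_lit 2, nat_lit 3,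 nat_lit 8, nat_lit 0, nat_lit 1, nat_lit 2, nat_lit 3, nat_lit 4, nat_lit 5, nat_lit 3, nat_lit 2, nat_lit 0, nat_lit 1, nat_lit 4, nat_lit 3, nat_lit 2, nat_lit 8, nat_lit 3, nat_lit 10, nat_lit 9, nat_lit 2, nat_lit 16, nat_lit 8, nat_lit 12, nat_lit 15, nat_lit 12, nat_lit 19] (Rl.inv (nat_lit 4714)))) (FT.node (nat_lit 4717) (FT.leaf (Fct.mk false (nat_lit 33) (nat_lit 0) (nat_lit 33) [nat_lit 5, nat_lit 6, nat_lit 4, nat_lit 5, nat_lit 3, nat_lit 4, nat_lit 2, nat_lit 3, nat_lit 8, nat_lit 1, nat_lit 2, nat_lit 3, nat_lit 4, nat_lit 5, nat_lit 6, nat_lit 7, nat_lit 9, nat_lit 4, nat_lit 3, nat_lit 2, nat_lit 8, nat_lit 3, nat_lit 11, nat_lit 1, nat_lit 12, nat_lit 15, nat_lit 14, nat_lit 13, nat_lit 12] (Rl.cmp (nat_lit 4402) (nat_lit 4456)))) (FT.leaf (Fct.mk false (nat_lit 33) (nat_lit 0) (nat_lit 33) [nat_lit 1, nat_lit 2, nat_lit 3,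 nat_lit 8, nat_lit 7, nat_lit 5, nat_lit 6, nat_lit 4, nat_lit 5, nat_lit 3, nat_lit 4, nat_lit 2, nat_lit 3, nat_lit 8, nat_lit 1, nat_lit 2, nat_lit 3, nat_lit 4, nat_lit 5, nat_lit 6, nat_lit 7, nat_lit 8, nat_lit 3, nat_lit 4, nat_lit 2, nat_lit 3, nat_lit 8, nat_lit 1, nat_lit 2, nat_lit 3, nat_lit 4, nat_lit 5, nat_lit 2, nat_lit 1, nat_lit 3, nat_lit 2, nat_lit 0, nat_lit 1, nat_lit 4, nat_lit 3, nat_lit 2, nat_lit 8, nat_lit 3, nat_lit 8, nat_lit 10, nat_lit 1, nat_lit 14, nat_lit 13] (Rl.cmp (nat_lit 4605) (nat_lit 4716))))))) (FT.node (nat_lit 4721) (FT.node (nat_lit 4719) (FT.leaf (Fct.mk false (nat_lit 33) (nat_lit 0) (nat_lit 33) [nat_lit 8, nat_lit 6, nat_lit 7, nat_lit 5, nat_lit 6, nat_lit 4, nat_lit 5, nat_lit 3, nat_lit 4, nat_lit 2, nat_lit 3, nat_lit 8, nat_lit 1, nat_lit 2, nat_lit 3, nat_lit 4, nat_lit 5, nat_lit 6, nat_lit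 7, nat_lit 5, nat_lit 4, nat_lit 2, nat_lit 3, nat_lit 8, nat_lit 1, nat_lit 2, nat_lit 3, nat_lit 4, nat_lit 5, nat_lit 1, nat_lit 8, nat_lit 4, nat_lit 3, nat_lit 2, nat_lit 0, nat_lit 1, nat_lit 9, nat_lit 4, nat_lit 3, nat_lit 2, nat_lit 8, nat_lit 3, nat_lit 11, nat_lit 9, nat_lit 10, nat_lit 2, nat_lit 8, nat_lit 10, nat_lit 1, nat_lit 15, nat_lit 14, nat_lit 13] (Rl.cmp (nat_lit 4402) (nat_lit 4717)))) (FT.node (nat_lit 4720) (FT.leaf (Fct.mk false (nat_lit 33) (nat_lit 0) (nat_lit 33) [nat_lit 5, nat_lit 4, nat_lit 3, nat_lit 8, nat_lit 6, nat_lit 7, nat_lit 5, nat_lit 6, nat_lit 4, nat_lit 5, nat_lit 3, nat_lit 4, nat_lit 1, nat_lit 2, nat_lit 3, nat_lit 8, nat_lit 0, nat_lit 1, nat_lit 2, nat_lit 3, nat_lit 4, nat_lit 5, nat_lit 6, nat_lit 7, nat_lit 2, nat_lit 3, nat_lit 8, nat_lit 6, nat_lit 4, nat_lit 5, nat_lit 3, nat_lit 4, nat_lit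 2, nat_lit 3, nat_lit 8, nat_lit 0, nat_lit 1, nat_lit 2, nat_lit 3, nat_lit 4, nat_lit 5, nat_lit 3, nat_lit 2, nat_lit 1, nat_lit 4, nat_lit 3, nat_lit 2, nat_lit 0, nat_lit 1, nat_lit 9, nat_lit 4, nat_lit 3, nat_lit 2, nat_lit 8, nat_lit 3, nat_lit 0, nat_lit 2, nat_lit 8, nat_lit 12, nat_lit 15, nat_lit 14, nat_lit 16, nat_lit 8, nat_lit 18, nat_lit 16] (Rl.cmp (nat_lit 4456) (nat_lit 4718)))) (FT.leaf (Fct.mk false (nat_lit 33) (nat_lit 0) (nat_lit 33) [nat_lit 7, nat_lit 6, nat_lit 5, nat_lit 3, nat_lit 4, nat_lit 1, nat_lit 2, nat_lit 3, nat_lit 8, nat_lit 0, nat_lit 1, nat_lit 2, nat_lit 3, nat_lit 4, nat_lit 5, nat_lit 6, nat_lit 7, nat_lit 3, nat_lit 2, nat_lit 0, nat_lit 1, nat_lit 4, nat_lit 3, nat_lit 2, nat_lit 8, nat_lit 3, nat_lit 11, nat_lit 8, nat_lit 10, nat_lit 1, nat_lit 8, nat_lit 12, nat_lit 15, nat_lit 17, nat_lit 12,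 nat_lit 16] (Rl.cmp (nat_lit 4605) (nat_lit 4719)))))) (FT.node (nat_lit 4723) (FT.node (nat_lit 4722) (FT.leaf (Fct.mk true (nat_lit 33) (nat_lit 24) (nat_lit 33) [nat_lit 1, nat_lit 2, nat_lit 3, nat_lit 8, nat_lit 0, nat_lit 1, nat_lit 2, nat_lit 3, nat_lit 4, nat_lit 5, nat_lit 6, nat_lit 7, nat_lit 8, nat_lit 2, nat_lit 3, nat_lit 4, nat_lit 5, nat_lit 2, nat_lit 8, nat_lit 3, nat_lit 1, nat_lit 0, nat_lit 2, nat_lit 15, nat_lit 14, nat_lit 17, nat_lit 18, nat_lit 16] (Rl.t1 (nat_lit 4715) (nat_lit 4720)))) (FT.leaf (Fct.mk false (nat_lit 33) (nat_lit 0) (nat_lit 33) [nat_lit 3, nat_lit 8, nat_lit 5, nat_lit 6, nat_lit 4, nat_lit 5, nat_lit 3, nat_lit 4, nat_lit 1, nat_lit 2, nat_lit 3, nat_lit 8, nat_lit 0, nat_lit 1, nat_lit 2, nat_lit 3, nat_lit 4, nat_lit 5, nat_lit 6, nat_lit 7, nat_lit 2, nat_lit 3, nat_lit 4, nat_lit 1, nat_lit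 2, nat_lit 3, nat_lit 8, nat_lit 5, nat_lit 6, nat_lit 4, nat_lit 5, nat_lit 3, nat_lit 4, nat_lit 2, nat_lit 3, nat_lit 8, nat_lit 1, nat_lit 2, nat_lit 3, nat_lit 4, nat_lit 5, nat_lit 3, nat_lit 2, nat_lit 1, nat_lit 4, nat_lit 3, nat_lit 2, nat_lit 8, nat_lit 3, nat_lit 9, nat_lit 2, nat_lit 8, nat_lit 12, nat_lit 15, nat_lit 13] (Rl.cmp (nat_lit 4605) (nat_lit 4400))))) (FT.node (nat_lit 4724) (FT.leaf (Fct.mk false (nat_lit 33) (nat_lit 0) (nat_lit 33) [nat_lit 8, nat_lit 2, nat_lit 3, nat_lit 4, nat_lit 1, nat_lit 2, nat_lit 3, nat_lit 8, nat_lit 6, nat_lit 7, nat_lit 5, nat_lit 6, nat_lit 4, nat_lit 5, nat_lit 3, nat_lit 4, nat_lit 2, nat_lit 3, nat_lit 8, nat_lit 1, nat_lit 2, nat_lit 3, nat_lit 4, nat_lit 5, nat_lit 6, nat_lit 7, nat_lit 5, nat_lit 4, nat_lit 2, nat_lit 3, nat_lit 8, nat_lit 0, nat_lit 1, nat_lit 2, nat_lit 3, nat_lit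 4, nat_lit 5, nat_lit 3, nat_lit 2, nat_lit 0, nat_lit 1, nat_lit 4, nat_lit 3, nat_lit 2, nat_lit 8, nat_lit 3, nat_lit 10, nat_lit 8, nat_lit 12, nat_lit 15, nat_lit 12, nat_lit 18, nat_lit 16] (Rl.cmp (nat_lit 4456) (nat_lit 4722)))) (FT.leaf (Fct.mk false (nat_lit 33) (nat_lit 0) (nat_lit 33) [nat_lit 8, nat_lit 6, nat_lit 5, nat_lit 3, nat_lit 4, nat_lit 2, nat_lit 3, nat_lit 8, nat_lit 0, nat_lit 1, nat_lit 2, nat_lit 3, nat_lit 4, nat_lit 5, nat_lit 6, nat_lit 7, nat_lit 3, nat_lit 8, nat_lit 2, nat_lit 3, nat_lit 4, nat_lit 5, nat_lit 8, nat_lit 3, nat_lit 2, nat_lit 1, nat_lit 4, nat_lit 3, nat_lit 2, nat_lit 8, nat_lit 3, nat_lit 8, nat_lit 10, nat_lit 1, nat_lit 15, nat_lit 14, nat_lit 13, nat_lit 18, nat_lit 16] (Rl.cmp (nat_lit 4456) (nat_lit 4723))))))))) (FT.node (nat_lit 4737) (FT.node (nat_lit 4731) (FT.node (nat_lit 4728)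 (FT.node (nat_lit 4726) (FT.leaf (Fct.mk false (nat_lit 33) (nat_lit 0) (nat_lit 33) [nat_lit 6, nat_lit 5, nat_lit 4, nat_lit 3, nat_lit 8, nat_lit 2, nat_lit 3, nat_lit 4, nat_lit 1, nat_lit 2, nat_lit 3, nat_lit 8, nat_lit 5, nat_lit 6, nat_lit 4, nat_lit 5, nat_lit 3, nat_lit 4, nat_lit 2, nat_lit 3, nat_lit 8, nat_lit 1, nat_lit 2, nat_lit 3, nat_lit 4, nat_lit 5, nat_lit 6, nat_lit 7, nat_lit 6, nat_lit 5, nat_lit 4, nat_lit 3, nat_lit 8, nat_lit 0, nat_lit 1, nat_lit 2, nat_lit 3, nat_lit 4, nat_lit 5, nat_lit 4, nat_lit 3, nat_lit 2, nat_lit 0, nat_lit 1, nat_lit 9, nat_lit 4, nat_lit 3, nat_lit 2, nat_lit 8, nat_lit 3, nat_lit 11, nat_lit 10, nat_lit 2, nat_lit 8, nat_lit 10, nat_lit 1, nat_lit 16, nat_lit 8, nat_lit 12, nat_lit 15, nat_lit 8, nat_lit 19] (Rl.cmp (nat_lit 4605) (nat_lit 4724)))) (FT.node (nat_lit 4727) (FT.leaf (Fct.mk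 false (nat_lit 33) (nat_lit 0) (nat_lit 33) [nat_lit 8, nat_lit 4, nat_lit 5, nat_lit 3, nat_lit 4, nat_lit 1, nat_lit 2, nat_lit 3, nat_lit 8, nat_lit 0, nat_lit 1, nat_lit 2, nat_lit 3, nat_lit 4, nat_lit 5, nat_lit 1, nat_lit 2, nat_lit 0, nat_lit 1, nat_lit 4, nat_lit 3, nat_lit 2, nat_lit 8, nat_lit 3, nat_lit 8, nat_lit 10, nat_lit 0, nat_lit 8] (Rl.cmp (nat_lit 4400) (nat_lit 4725)))) (FT.leaf (Fct.mk true (nat_lit 33) (nat_lit 32) (nat_lit 33) [nat_lit 5, nat_lit 4, nat_lit 2, nat_lit 3, nat_lit 8, nat_lit 6, nat_lit 7, nat_lit 5, nat_lit 6, nat_lit 4, nat_lit 5, nat_lit 3, nat_lit 4, nat_lit 2, nat_lit 3, nat_lit 8, nat_lit 0, nat_lit 1, nat_lit 2, nat_lit 3, nat_lit 4, nat_lit 5, nat_lit 6, nat_lit 7, nat_lit 6, nat_lit 4, nat_lit 3, nat_lit 2, nat_lit 0, nat_lit 1, nat_lit 9, nat_lit 4, nat_lit 3, nat_lit 2, nat_lit 8, nat_lit 3,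 nat_lit 10, nat_lit 12, nat_lit 15, nat_lit 12, nat_lit 18] (Rl.t1 (nat_lit 4545) (nat_lit 4726)))))) (FT.node (nat_lit 4729) (FT.leaf (Fct.mk true (nat_lit 33) (nat_lit 12841) (nat_lit 33) [nat_lit 8, nat_lit 7, nat_lit 6, nat_lit 5, nat_lit 3, nat_lit 4, nat_lit 1, nat_lit 2, nat_lit 3, nat_lit 8, nat_lit 0, nat_lit 1, nat_lit 2, nat_lit 3, nat_lit 4, nat_lit 5, nat_lit 6, nat_lit 7, nat_lit 1, nat_lit 2, nat_lit 3, nat_lit 4, nat_lit 5, nat_lit 2, nat_lit 0, nat_lit 1, nat_lit 3, nat_lit 2, nat_lit 8, nat_lit 3, nat_lit 11, nat_lit 10, nat_lit 12, nat_lit 15, nat_lit 17, nat_lit 18, nat_lit 16] (Rl.inv (nat_lit 4727)))) (FT.node (nat_lit 4730) (FT.leaf (Fct.mk false (nat_lit 33) (nat_lit 0) (nat_lit 33) [nat_lit 4, nat_lit 2, nat_lit 3, nat_lit 8, nat_lit 1, nat_lit 2, nat_lit 3, nat_lit 4, nat_lit 5, nat_lit 6, nat_lit 7, nat_lit 5, nat_lit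 10, nat_lit 0, nat_lit 16, nat_lit 14, nat_lit 12, nat_lit 18] (Rl.cmp (nat_lit 4400) (nat_lit 4456)))) (FT.leaf (Fct.mk false (nat_lit 33) (nat_lit 0) (nat_lit 33) [nat_lit 8, nat_lit 7, nat_lit 6, nat_lit 5, nat_lit 2, nat_lit 3, nat_lit 4, nat_lit 1, nat_lit 2, nat_lit 3, nat_lit 8, nat_lit 0, nat_lit 1, nat_lit 2, nat_lit 3, nat_lit 4, nat_lit 5, nat_lit 6, nat_lit 7, nat_lit 6, nat_lit 5, nat_lit 3, nat_lit 4, nat_lit 1, nat_lit 2, nat_lit 3, nat_lit 8, nat_lit 0, nat_lit 1, nat_lit 2, nat_lit 3, nat_lit 4, nat_lit 5, nat_lit 1, nat_lit 2, nat_lit 3, nat_lit 11, nat_lit 10, nat_lit 8, nat_lit 12, nat_lit 15, nat_lit 19, nat_lit 16] (Rl.cmp (nat_lit 4605) (nat_lit 4729))))))) (FT.node (nat_lit 4734) (FT.node (nat_lit 4732) (FT.leaf (Fct.mk false (nat_lit 33) (nat_lit 0) (nat_lit 33) [nat_lit 3, nat_lit 8, nat_lit 1, nat_lit 2, nat_lit 3,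 nat_lit 4, nat_lit 5, nat_lit 6, nat_lit 7, nat_lit 8, nat_lit 5, nat_lit 2, nat_lit 3, nat_lit 4, nat_lit 1, nat_lit 2, nat_lit 3, nat_lit 8, nat_lit 0, nat_lit 1, nat_lit 2, nat_lit 3, nat_lit 4, nat_lit 5, nat_lit 8, nat_lit 3, nat_lit 2, nat_lit 1, nat_lit 9, nat_lit 4, nat_lit 3, nat_lit 2, nat_lit 8, nat_lit 3, nat_lit 11, nat_lit 2, nat_lit 14, nat_lit 17, nat_lit 12, nat_lit 19] (Rl.cmp (nat_lit 4456) (nat_lit 4730)))) (FT.node (nat_lit 4733) (FT.leaf (Fct.mk true (nat_lit 33) (nat_lit 533) (nat_lit 33) [nat_lit 5, nat_lit 4, nat_lit 3, nat_lit 8, nat_lit 2, nat_lit 3, nat_lit 4, nat_lit 5, nat_lit 6, nat_lit 7, nat_lit 3, nat_lit 8, nat_lit 5, nat_lit 2, nat_lit 3, nat_lit 4, nat_lit 1, nat_lit 2, nat_lit 3, nat_lit 8, nat_lit 0, nat_lit 1, nat_lit 2, nat_lit 3, nat_lit 4, nat_lit 5, nat_lit 2, nat_lit 0, nat_lit 1, nat_lit 9, nat_lit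 4, nat_lit 3, nat_lit 2, nat_lit 8, nat_lit 3, nat_lit 11, nat_lit 2, nat_lit 12, nat_lit 15, nat_lit 17, nat_lit 12, nat_lit 19] (Rl.t1 (nat_lit 4728) (nat_lit 4731)))) (FT.leaf (Fct.mk false (nat_lit 33) (nat_lit 0) (nat_lit 33) [nat_lit 3, nat_lit 8, nat_lit 5, nat_lit 6, nat_lit 4, nat_lit 5, nat_lit 3, nat_lit 4, nat_lit 1, nat_lit 2, nat_lit 3, nat_lit 8, nat_lit 0, nat_lit 1, nat_lit 2, nat_lit 3, nat_lit 4, nat_lit 5, nat_lit 6, nat_lit 7, nat_lit 2, nat_lit 3, nat_lit 4, nat_lit 1, nat_lit 2, nat_lit 3, nat_lit 8, nat_lit 5, nat_lit 6, nat_lit 4, nat_lit 5, nat_lit 3, nat_lit 4, nat_lit 2, nat_lit 3, nat_lit 8, nat_lit 1, nat_lit 2, nat_lit 3, nat_lit 4, nat_lit 5, nat_lit 3, nat_lit 2, nat_lit 1, nat_lit 4, nat_lit 3, nat_lit 2, nat_lit 8, nat_lit 3, nat_lit 9, nat_lit 2, nat_lit 8, nat_lit 12, nat_lit 15, nat_lit 13] (Rl.cmp (nat_lit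 4605) (nat_lit 4400)))))) (FT.node (nat_lit 4735) (FT.leaf (Fct.mk false (nat_lit 33) (nat_lit 0) (nat_lit 33) [nat_lit 8, nat_lit 2, nat_lit 3, nat_lit 4, nat_lit 1, nat_lit 2, nat_lit 3, nat_lit 8, nat_lit 6, nat_lit 7, nat_lit 5, nat_lit 6, nat_lit 4, nat_lit 5, nat_lit 3, nat_lit 4, nat_lit 2, nat_lit 3, nat_lit 8, nat_lit 1, nat_lit 2, nat_lit 3, nat_lit 4, nat_lit 5, nat_lit 6, nat_lit 7, nat_lit 5, nat_lit 4, nat_lit 2, nat_lit 3, nat_lit 8, nat_lit 0, nat_lit 1, nat_lit 2, nat_lit 3, nat_lit 4, nat_lit 5, nat_lit 3, nat_lit 2, nat_lit 0, nat_lit 1, nat_lit 4, nat_lit 3, nat_lit 2, nat_lit 8, nat_lit 3, nat_lit 10, nat_lit 8, nat_lit 12, nat_lit 15, nat_lit 12, nat_lit 18, nat_lit 16] (Rl.cmp (nat_lit 4456) (nat_lit 4733)))) (FT.node (nat_lit 4736) (FT.leaf (Fct.mk false (nat_lit 33) (nat_lit 0) (nat_lit 33) [nat_lit 8, nat_lit 6, nat_lit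 5, nat_lit 3, nat_lit 4, nat_lit 2, nat_lit 3, nat_lit 8, nat_lit 0, nat_lit 1, nat_lit 2, nat_lit 3, nat_lit 4, nat_lit 5, nat_lit 6, nat_lit 7, nat_lit 3, nat_lit 8, nat_lit 2, nat_lit 3, nat_lit 4, nat_lit 5, nat_lit 8, nat_lit 3, nat_lit 2, nat_lit 1, nat_lit 4, nat_lit 3, nat_lit 2, nat_lit 8, nat_lit 3, nat_lit 8, nat_lit 10, nat_lit 1, nat_lit 15, nat_lit 14, nat_lit 13, nat_lit 18, nat_lit 16] (Rl.cmp (nat_lit 4456) (nat_lit 4734)))) (FT.leaf (Fct.mk false (nat_lit 33) (nat_lit 0) (nat_lit 33) [nat_lit 6, nat_lit 5, nat_lit 4, nat_lit 3, nat_lit 8, nat_lit 2, nat_lit 3, nat_lit 4, nat_lit 1, nat_lit 2, nat_lit 3, nat_lit 8, nat_lit 5, nat_lit 6, nat_lit 4, nat_lit 5, nat_lit 3, nat_lit 4, nat_lit 2, nat_lit 3, nat_lit 8, nat_lit 1, nat_lit 2, nat_lit 3, nat_lit 4, nat_lit 5, nat_lit 6, nat_lit 7, nat_lit 6, nat_lit 5, nat_lit 4, nat_lit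 3, nat_lit 8, nat_lit 0, nat_lit 1, nat_lit 2, nat_lit 3, nat_lit 4, nat_lit 5, nat_lit 4, nat_lit 3, nat_lit 2, nat_lit 0, nat_lit 1, nat_lit 9, nat_lit 4, nat_lit 3, nat_lit 2, nat_lit 8, nat_lit 3, nat_lit 11, nat_lit 10, nat_lit 2, nat_lit 8, nat_lit 10, nat_lit 1, nat_lit 16, nat_lit 8, nat_lit 12, nat_lit 15, nat_lit 8, nat_lit 19] (Rl.cmp (nat_lit 4605) (nat_lit 4735)))))))) (FT.node (nat_lit 4743) (FT.node (nat_lit 4740) (FT.node (nat_lit 4738) (FT.leaf (Fct.mk false (nat_lit 33) (nat_lit 0) (nat_lit 33) [nat_lit 8, nat_lit 4, nat_lit 5, nat_lit 3, nat_lit 4, nat_lit 1, nat_lit 2, nat_lit 3, nat_lit 8, nat_lit 0, nat_lit 1, nat_lit 2, nat_lit 3, nat_lit 4, nat_lit 5, nat_lit 1, nat_lit 2, nat_lit 0, nat_lit 1, nat_lit 4, nat_lit 3, nat_lit 2, nat_lit 8, nat_lit 3, nat_lit 8, nat_lit 10, nat_lit 0, nat_lit 8] (Rl.cmp (nat_lit 4400) (nat_lit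 4736)))) (FT.node (nat_lit 4739) (FT.leaf (Fct.mk true (nat_lit 33) (nat_lit 3) (nat_lit 32) [nat_lit 2, nat_lit 3, nat_lit 8, nat_lit 6, nat_lit 7, nat_lit 5, nat_lit 6, nat_lit 4, nat_lit 5, nat_lit 3, nat_lit 4, nat_lit 2, nat_lit 3, nat_lit 8, nat_lit 1, nat_lit 2, nat_lit 3, nat_lit 4, nat_lit 5, nat_lit 6, nat_lit 7, nat_lit 5, nat_lit 2, nat_lit 3, nat_lit 4, nat_lit 1, nat_lit 2, nat_lit 3, nat_lit 8, nat_lit 0, nat_lit 1, nat_lit 2, nat_lit 3, nat_lit 4, nat_lit 5, nat_lit 3, nat_lit 2, nat_lit 0, nat_lit 1, nat_lit 9, nat_lit 4, nat_lit 3, nat_lit 2, nat_lit 8, nat_lit 3, nat_lit 11, nat_lit 10, nat_lit 1, nat_lit 12, nat_lit 15, nat_lit 13, nat_lit 12, nat_lit 18, nat_lit 16] (Rl.t1 (nat_lit 4557) (nat_lit 4737)))) (FT.leaf (Fct.mk false (nat_lit 33) (nat_lit 0) (nat_lit 33) [nat_lit 4, nat_lit 2, nat_lit 3, nat_lit 8, nat_lit 1,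 nat_lit 2, nat_lit 3, nat_lit 4, nat_lit 5, nat_lit 6, nat_lit 7, nat_lit 2, nat_lit 3, nat_lit 8, nat_lit 0, nat_lit 1, nat_lit 2, nat_lit 3, nat_lit 4, nat_lit 5, nat_lit 3, nat_lit 2, nat_lit 1, nat_lit 9, nat_lit 4, nat_lit 3, nat_lit 2, nat_lit 8, nat_lit 3, nat_lit 14, nat_lit 8, nat_lit 18] (Rl.cmp (nat_lit 4456) (nat_lit 4456)))))) (FT.node (nat_lit 4741) (FT.leaf (Fct.mk false (nat_lit 33) (nat_lit 0) (nat_lit 33) [nat_lit 8, nat_lit 7, nat_lit 6, nat_lit 5, nat_lit 2, nat_lit 3, nat_lit 4, nat_lit 1, nat_lit 2, nat_lit 3, nat_lit 8, nat_lit 0, nat_lit 1, nat_lit 2, nat_lit 3, nat_lit 4, nat_lit 5, nat_lit 6, nat_lit 7, nat_lit 2, nat_lit 3, nat_lit 8, nat_lit 6, nat_lit 4, nat_lit 5, nat_lit 3, nat_lit 4, nat_lit 2, nat_lit 3, nat_lit 8, nat_lit 1, nat_lit 2, nat_lit 3, nat_lit 4, nat_lit 5, nat_lit 1, nat_lit 2, nat_lit 0, nat_lit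 1, nat_lit 3, nat_lit 2, nat_lit 8, nat_lit 3, nat_lit 10, nat_lit 9, nat_lit 2, nat_lit 15, nat_lit 13, nat_lit 19] (Rl.cmp (nat_lit 4605) (nat_lit 4739)))) (FT.node (nat_lit 4742) (FT.leaf (Fct.mk false (nat_lit 33) (nat_lit 0) (nat_lit 33) [nat_lit 3, nat_lit 8, nat_lit 1, nat_lit 2, nat_lit 3, nat_lit 4, nat_lit 5, nat_lit 6, nat_lit 7, nat_lit 4, nat_lit 2, nat_lit 3, nat_lit 8, nat_lit 5, nat_lit 6, nat_lit 4, nat_lit 5, nat_lit 3, nat_lit 4, nat_lit 2, nat_lit 3, nat_lit 8, nat_lit 1, nat_lit 2, nat_lit 3, nat_lit 4, nat_lit 5, nat_lit 8, nat_lit 4, nat_lit 3, nat_lit 2, nat_lit 0, nat_lit 1, nat_lit 9, nat_lit 4, nat_lit 3, nat_lit 2, nat_lit 8, nat_lit 3, nat_lit 10, nat_lit 0, nat_lit 12, nat_lit 15, nat_lit 14, nat_lit 12, nat_lit 19] (Rl.cmp (nat_lit 4456) (nat_lit 4740)))) (FT.leaf (Fct.mk false (nat_lit 33) (nat_lit 0) (nat_lit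 33) [nat_lit 8, nat_lit 7, nat_lit 6, nat_lit 5, nat_lit 3, nat_lit 4, nat_lit 2, nat_lit 3, nat_lit 8, nat_lit 1, nat_lit 2, nat_lit 3, nat_lit 4, nat_lit 5, nat_lit 6, nat_lit 7, nat_lit 2, nat_lit 3, nat_lit 8, nat_lit 6, nat_lit 4, nat_lit 5, nat_lit 3, nat_lit 4, nat_lit 2, nat_lit 3, nat_lit 8, nat_lit 1, nat_lit 2, nat_lit 3, nat_lit 4, nat_lit 5, nat_lit 1, nat_lit 3, nat_lit 2, nat_lit 0, nat_lit 1, nat_lit 4, nat_lit 3, nat_lit 2, nat_lit 8, nat_lit 3, nat_lit 11, nat_lit 2, nat_lit 10, nat_lit 1, nat_lit 15, nat_lit 14, nat_lit 12, nat_lit 19] (Rl.cmp (nat_lit 4400) (nat_lit 4741))))))) (FT.node (nat_lit 4746) (FT.node (nat_lit 4744) (FT.leaf (Fct.mk true (nat_lit 33) (nat_lit 222) (nat_lit 33) [nat_lit 5, nat_lit 4, nat_lit 3, nat_lit 8, nat_lit 2, nat_lit 3, nat_lit 4, nat_lit 1, nat_lit 2, nat_lit 3, nat_lit 8, nat_lit 7, nat_lit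 5, nat_lit 6, nat_lit 4, nat_lit 5, nat_lit 3, nat_lit 4, nat_lit 2, nat_lit 3, nat_lit 8, nat_lit 1, nat_lit 2, nat_lit 3, nat_lit 4, nat_lit 5, nat_lit 6, nat_lit 7, nat_lit 8, nat_lit 2, nat_lit 3, nat_lit 4, nat_lit 5, nat_lit 2, nat_lit 0, nat_lit 1, nat_lit 9, nat_lit 4, nat_lit 3, nat_lit 2, nat_lit 8, nat_lit 3, nat_lit 1, nat_lit 9, nat_lit 16, nat_lit 15, nat_lit 14, nat_lit 18] (Rl.t1 (nat_lit 4559) (nat_lit 4742)))) (FT.node (nat_lit 4745) (FT.leaf (Fct.mk true (nat_lit 33) (nat_lit 7527) (nat_lit 33) [nat_lit 7, nat_lit 6, nat_lit 5, nat_lit 3, nat_lit 4, nat_lit 1, nat_lit 2, nat_lit 3, nat_lit 8, nat_lit 0, nat_lit 1, nat_lit 2, nat_lit 3, nat_lit 4, nat_lit 5, nat_lit 6, nat_lit 7, nat_lit 8, nat_lit 5, nat_lit 6, nat_lit 4, nat_lit 5, nat_lit 2, nat_lit 3, nat_lit 4, nat_lit 1, nat_lit 2, nat_lit 3, nat_lit 8, nat_lit 0, nat_lit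 1, nat_lit 2, nat_lit 3, nat_lit 4, nat_lit 5, nat_lit 3, nat_lit 2, nat_lit 0, nat_lit 1, nat_lit 4, nat_lit 3, nat_lit 2, nat_lit 8, nat_lit 3, nat_lit 1, nat_lit 9, nat_lit 16, nat_lit 14, nat_lit 13, nat_lit 19] (Rl.inv (nat_lit 4743)))) (FT.leaf (Fct.mk false (nat_lit 33) (nat_lit 0) (nat_lit 33) [nat_lit 3, nat_lit 8, nat_lit 5, nat_lit 6, nat_lit 4, nat_lit 5, nat_lit 3, nat_lit 4, nat_lit 1, nat_lit 2, nat_lit 3, nat_lit 8, nat_lit 0, nat_lit 1, nat_lit 2, nat_lit 3, nat_lit 4, nat_lit 5, nat_lit 6, nat_lit 7, nat_lit 2, nat_lit 3, nat_lit 4, nat_lit 1, nat_lit 2, nat_lit 3, nat_lit 8, nat_lit 5, nat_lit 6, nat_lit 4, nat_lit 5, nat_lit 3, nat_lit 4, nat_lit 2, nat_lit 3, nat_lit 8, nat_lit 1, nat_lit 2, nat_lit 3, nat_lit 4, nat_lit 5, nat_lit 3, nat_lit 2, nat_lit 1, nat_lit 4, nat_lit 3, nat_lit 2, nat_lit 8, nat_lit 3, nat_lit 9,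 nat_lit 2, nat_lit 8, nat_lit 12, nat_lit 15, nat_lit 13] (Rl.cmp (nat_lit 4605) (nat_lit 4400)))))) (FT.node (nat_lit 4748) (FT.node (nat_lit 4747) (FT.leaf (Fct.mk false (nat_lit 33) (nat_lit 0) (nat_lit 33) [nat_lit 7, nat_lit 6, nat_lit 4, nat_lit 5, nat_lit 3, nat_lit 4, nat_lit 1, nat_lit 2, nat_lit 3, nat_lit 8, nat_lit 0, nat_lit 1, nat_lit 2, nat_lit 3, nat_lit 4, nat_lit 5, nat_lit 6, nat_lit 7, nat_lit 4, nat_lit 1, nat_lit 2, nat_lit 3, nat_lit 8, nat_lit 5, nat_lit 6, nat_lit 4, nat_lit 5, nat_lit 3, nat_lit 4, nat_lit 2, nat_lit 3, nat_lit 8, nat_lit 1, nat_lit 2, nat_lit 3, nat_lit 4, nat_lit 5, nat_lit 9, nat_lit 4, nat_lit 3, nat_lit 2, nat_lit 8, nat_lit 3, nat_lit 9, nat_lit 2, nat_lit 15, nat_lit 14, nat_lit 13, nat_lit 12, nat_lit 19] (Rl.cmp (nat_lit 4402) (nat_lit 4745)))) (FT.leaf (Fct.mk false (nat_lit 33) (nat_lit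 0) (nat_lit 33) [nat_lit 3, nat_lit 8, nat_lit 2, nat_lit 3, nat_lit 4, nat_lit 1, nat_lit 2, nat_lit 3, nat_lit 8, nat_lit 0, nat_lit 1, nat_lit 2, nat_lit 3, nat_lit 4, nat_lit 5, nat_lit 6, nat_lit 7, nat_lit 4, nat_lit 5, nat_lit 3, nat_lit 4, nat_lit 2, nat_lit 3, nat_lit 8, nat_lit 1, nat_lit 2, nat_lit 3, nat_lit 4, nat_lit 5, nat_lit 3, nat_lit 0, nat_lit 15, nat_lit 14, nat_lit 12, nat_lit 19, nat_lit 16] (Rl.cmp (nat_lit 4456) (nat_lit 4746))))) (FT.node (nat_lit 4749) (FT.leaf (Fct.mk false (nat_lit 33) (nat_lit 0) (nat_lit 33) [nat_lit 3, nat_lit 8, nat_lit 5, nat_lit 6, nat_lit 4, nat_lit 5, nat_lit 3, nat_lit 4, nat_lit 1, nat_lit 2, nat_lit 3, nat_lit 8, nat_lit 0, nat_lit 1, nat_lit 2, nat_lit 3, nat_lit 4, nat_lit 5, nat_lit 6, nat_lit 7, nat_lit 4, nat_lit 5, nat_lit 3, nat_lit 4, nat_lit 2, nat_lit 3, nat_lit 8, nat_lit 1,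 nat_lit 2, nat_lit 3, nat_lit 4, nat_lit 5, nat_lit 3, nat_lit 2, nat_lit 1, nat_lit 4, nat_lit 3, nat_lit 2, nat_lit 8, nat_lit 3, nat_lit 10, nat_lit 9, nat_lit 2, nat_lit 16, nat_lit 15, nat_lit 14, nat_lit 13] (Rl.cmp (nat_lit 4402) (nat_lit 4747)))) (FT.leaf (Fct.mk false (nat_lit 33) (nat_lit 0) (nat_lit 33) [nat_lit 8, nat_lit 2, nat_lit 3, nat_lit 4, nat_lit 1, nat_lit 2, nat_lit 3, nat_lit 8, nat_lit 6, nat_lit 7, nat_lit 5, nat_lit 6, nat_lit 4, nat_lit 5, nat_lit 3, nat_lit 4, nat_lit 2, nat_lit 3, nat_lit 8, nat_lit 1, nat_lit 2, nat_lit 3, nat_lit 4, nat_lit 5, nat_lit 6, nat_lit 7, nat_lit 2, nat_lit 3, nat_lit 4, nat_lit 5, nat_lit 1, nat_lit 4, nat_lit 3, nat_lit 2, nat_lit 8, nat_lit 3, nat_lit 0, nat_lit 8, nat_lit 12, nat_lit 15, nat_lit 14, nat_lit 12, nat_lit 16] (Rl.cmp (nat_lit 4456) (nat_lit 4748)))))))))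

/-- some facts -/
noncomputable def ftc95 : FT := FT.node (nat_lit 4775) (FT.node (nat_lit 4762) (FT.node (nat_lit 4756) (FT.node (nat_lit 4753) (FT.node (nat_lit 4751) (FT.leaf (Fct.mk false (nat_lit 33) (nat_lit 0) (nat_lit 33) [nat_lit 6, nat_lit 5, nat_lit 4, nat_lit 3, nat_lit 8, nat_lit 2, nat_lit 3, nat_lit 4, nat_lit 5, nat_lit 6, nat_lit 7, nat_lit 5, nat_lit 2, nat_lit 0, nat_lit 1, nat_lit 3, nat_lit 2, nat_lit 8, nat_lit 3, nat_lit 11, nat_lit 2, nat_lit 8, nat_lit 10, nat_lit 1, nat_lit 17, nat_lit 12, nat_lit 18] (Rl.cmp (nat_lit 4605) (nat_lit 4749)))) (FT.node (nat_lit 4752) (FT.leaf (Fct.mk true (nat_lit 33) (nat_lit 1) (nat_lit 33) [nat_lit 8, nat_lit 1, nat_lit 2, nat_lit 3, nat_lit 4, nat_lit 5, nat_lit 6, nat_lit 7, nat_lit 3, nat_lit 8, nat_lit 0, nat_lit 1, nat_lit 2, nat_lit 3, nat_lit 4, nat_lit 5, nat_lit 8, nat_lit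 3, nat_lit 1, nat_lit 0, nat_lit 2, nat_lit 14, nat_lit 13, nat_lit 18] (Rl.t1 (nat_lit 4744) (nat_lit 4750)))) (FT.leaf (Fct.mk false (nat_lit 33) (nat_lit 0) (nat_lit 33) [nat_lit 4, nat_lit 3, nat_lit 8, nat_lit 2, nat_lit 3, nat_lit 4, nat_lit 1, nat_lit 2, nat_lit 3, nat_lit 8, nat_lit 0, nat_lit 1, nat_lit 2, nat_lit 3, nat_lit 4, nat_lit 5, nat_lit 6, nat_lit 7, nat_lit 6, nat_lit 4, nat_lit 5, nat_lit 2, nat_lit 3, nat_lit 4, nat_lit 1, nat_lit 2, nat_lit 3, nat_lit 8, nat_lit 0, nat_lit 1, nat_lit 2, nat_lit 3, nat_lit 4, nat_lit 5, nat_lit 8, nat_lit 3, nat_lit 2, nat_lit 1, nat_lit 9, nat_lit 4, nat_lit 3, nat_lit 2, nat_lit 8, nat_lit 3, nat_lit 2, nat_lit 14, nat_lit 13, nat_lit 19] (Rl.cmp (nat_lit 4605) (nat_lit 4402)))))) (FT.node (nat_lit 4754) (FT.leaf (Fct.mk false (nat_lit 33) (nat_lit 0) (nat_lit 33) [nat_lit 7, nat_lit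 6, nat_lit 5, nat_lit 3, nat_lit 4, nat_lit 1, nat_lit 2, nat_lit 3, nat_lit 8, nat_lit 0, nat_lit 1, nat_lit 2, nat_lit 3, nat_lit 4, nat_lit 5, nat_lit 6, nat_lit 7, nat_lit 8, nat_lit 3, nat_lit 4, nat_lit 2, nat_lit 3, nat_lit 8, nat_lit 1, nat_lit 2, nat_lit 3, nat_lit 4, nat_lit 5, nat_lit 8, nat_lit 3, nat_lit 2, nat_lit 0, nat_lit 1, nat_lit 9, nat_lit 4, nat_lit 3, nat_lit 2, nat_lit 8, nat_lit 3, nat_lit 0, nat_lit 2, nat_lit 16, nat_lit 14, nat_lit 17, nat_lit 12] (Rl.cmp (nat_lit 4456) (nat_lit 4752)))) (FT.node (nat_lit 4755) (FT.leaf (Fct.mk false (nat_lit 33) (nat_lit 0) (nat_lit 33) [nat_lit 4, nat_lit 3, nat_lit 8, nat_lit 2, nat_lit 3, nat_lit 4, nat_lit 1, nat_lit 2, nat_lit 3, nat_lit 8, nat_lit 0, nat_lit 1, nat_lit 2, nat_lit 3, nat_lit 4, nat_lit 5, nat_lit 6, nat_lit 7, nat_lit 8, nat_lit 2, nat_lit 3, nat_lit 4, nat_lit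 1, nat_lit 2, nat_lit 3, nat_lit 8, nat_lit 0, nat_lit 1, nat_lit 2, nat_lit 3, nat_lit 4, nat_lit 5, nat_lit 8, nat_lit 4, nat_lit 3, nat_lit 2, nat_lit 1, nat_lit 9, nat_lit 4, nat_lit 3, nat_lit 2, nat_lit 8, nat_lit 3, nat_lit 2, nat_lit 17, nat_lit 12] (Rl.cmp (nat_lit 4400) (nat_lit 4753)))) (FT.leaf (Fct.mk false (nat_lit 33) (nat_lit 0) (nat_lit 33) [nat_lit 8, nat_lit 6, nat_lit 5, nat_lit 2, nat_lit 3, nat_lit 4, nat_lit 1, nat_lit 2, nat_lit 3, nat_lit 8, nat_lit 0, nat_lit 1, nat_lit 2, nat_lit 3, nat_lit 4, nat_lit 5, nat_lit 6, nat_lit 7, nat_lit 1, nat_lit 2, nat_lit 3, nat_lit 4, nat_lit 5, nat_lit 2, nat_lit 1, nat_lit 9, nat_lit 4, nat_lit 3, nat_lit 2, nat_lit 8, nat_lit 3, nat_lit 10, nat_lit 0, nat_lit 12, nat_lit 15, nat_lit 14, nat_lit 16] (Rl.cmp (nat_lit 4402) (nat_lit 4754))))))) (FT.node (nat_lit 4759) (FT.node (nat_lit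 4757) (FT.leaf (Fct.mk true (nat_lit 33) (nat_lit 43) (nat_lit 5) [nat_lit 4, nat_lit 2, nat_lit 3, nat_lit 8, nat_lit 0, nat_lit 1, nat_lit 2, nat_lit 3, nat_lit 4, nat_lit 5, nat_lit 6, nat_lit 7, nat_lit 4, nat_lit 5, nat_lit 2, nat_lit 3, nat_lit 4, nat_lit 1, nat_lit 2, nat_lit 3, nat_lit 8, nat_lit 0, nat_lit 1, nat_lit 2, nat_lit 3, nat_lit 4, nat_lit 5, nat_lit 0, nat_lit 1, nat_lit 2, nat_lit 3, nat_lit 9, nat_lit 2, nat_lit 12, nat_lit 15, nat_lit 17, nat_lit 18] (Rl.t1 (nat_lit 4562) (nat_lit 4755)))) (FT.node (nat_lit 4758) (FT.leaf (Fct.mk false (nat_lit 33) (nat_lit 0) (nat_lit 33) [nat_lit 4, nat_lit 3, nat_lit 8, nat_lit 2, nat_lit 3, nat_lit 4, nat_lit 1, nat_lit 2, nat_lit 3, nat_lit 8, nat_lit 0, nat_lit 1, nat_lit 2, nat_lit 3, nat_lit 4, nat_lit 5, nat_lit 6, nat_lit 7, nat_lit 6, nat_lit 4, nat_lit 5, nat_lit 2, nat_lit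 3, nat_lit 4, nat_lit 1, nat_lit 2, nat_lit 3, nat_lit 8, nat_lit 0, nat_lit 1, nat_lit 2, nat_lit 3, nat_lit 4, nat_lit 5, nat_lit 8, nat_lit 3, nat_lit 2, nat_lit 1, nat_lit 9, nat_lit 4, nat_lit 3, nat_lit 2, nat_lit 8, nat_lit 3, nat_lit 2, nat_lit 14, nat_lit 13, nat_lit 19] (Rl.cmp (nat_lit 4605) (nat_lit 4402)))) (FT.leaf (Fct.mk false (nat_lit 33) (nat_lit 0) (nat_lit 33) [nat_lit 7, nat_lit 6, nat_lit 5, nat_lit 3, nat_lit 4, nat_lit 1, nat_lit 2, nat_lit 3, nat_lit 8, nat_lit 0, nat_lit 1, nat_lit 2, nat_lit 3, nat_lit 4, nat_lit 5, nat_lit 6, nat_lit 7, nat_lit 8, nat_lit 3, nat_lit 4, nat_lit 2, nat_lit 3, nat_lit 8, nat_lit 1, nat_lit 2, nat_lit 3, nat_lit 4, nat_lit 5, nat_lit 8, nat_lit 3, nat_lit 2, nat_lit 0, nat_lit 1, nat_lit 9, nat_lit 4, nat_lit 3, nat_lit 2, nat_lit 8, nat_lit 3, nat_lit 0, nat_lit 2, nat_lit 16, nat_lit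 14, nat_lit 17, nat_lit 12] (Rl.cmp (nat_lit 4456) (nat_lit 4757)))))) (FT.node (nat_lit 4760) (FT.leaf (Fct.mk false (nat_lit 33) (nat_lit 0) (nat_lit 33) [nat_lit 8, nat_lit 6, nat_lit 5, nat_lit 3, nat_lit 4, nat_lit 2, nat_lit 3, nat_lit 8, nat_lit 0, nat_lit 1, nat_lit 2, nat_lit 3, nat_lit 4, nat_lit 5, nat_lit 6, nat_lit 7, nat_lit 3, nat_lit 8, nat_lit 4, nat_lit 5, nat_lit 3, nat_lit 4, nat_lit 2, nat_lit 3, nat_lit 8, nat_lit 1, nat_lit 2, nat_lit 3, nat_lit 4, nat_lit 5, nat_lit 4, nat_lit 3, nat_lit 2, nat_lit 1, nat_lit 9, nat_lit 4, nat_lit 3, nat_lit 2, nat_lit 8, nat_lit 3, nat_lit 2, nat_lit 8, nat_lit 10, nat_lit 1, nat_lit 8, nat_lit 12, nat_lit 15, nat_lit 17, nat_lit 18] (Rl.cmp (nat_lit 4402) (nat_lit 4758)))) (FT.node (nat_lit 4761) (FT.leaf (Fct.mk false (nat_lit 33) (nat_lit 0) (nat_lit 33) [nat_lit 6, nat_lit 5, nat_lit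 4, nat_lit 3, nat_lit 8, nat_lit 2, nat_lit 3, nat_lit 4, nat_lit 1, nat_lit 2, nat_lit 3, nat_lit 8, nat_lit 5, nat_lit 6, nat_lit 4, nat_lit 5, nat_lit 3, nat_lit 4, nat_lit 2, nat_lit 3, nat_lit 8, nat_lit 1, nat_lit 2, nat_lit 3, nat_lit 4, nat_lit 5, nat_lit 6, nat_lit 7, nat_lit 6, nat_lit 5, nat_lit 4, nat_lit 2, nat_lit 3, nat_lit 8, nat_lit 0, nat_lit 1, nat_lit 2, nat_lit 3, nat_lit 4, nat_lit 5, nat_lit 2, nat_lit 1, nat_lit 3, nat_lit 2, nat_lit 8, nat_lit 3, nat_lit 10, nat_lit 15, nat_lit 13, nat_lit 12, nat_lit 19, nat_lit 16] (Rl.cmp (nat_lit 4605) (nat_lit 4759)))) (FT.leaf (Fct.mk false (nat_lit 33) (nat_lit 0) (nat_lit 33) [nat_lit 8, nat_lit 5, nat_lit 3, nat_lit 4, nat_lit 1, nat_lit 2, nat_lit 3, nat_lit 8, nat_lit 0, nat_lit 1, nat_lit 2, nat_lit 3, nat_lit 4, nat_lit 5, nat_lit 1, nat_lit 2, nat_lit 8, nat_lit 3, nat_lit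 15, nat_lit 8] (Rl.cmp (nat_lit 4400) (nat_lit 4760)))))))) (FT.node (nat_lit 4768) (FT.node (nat_lit 4765) (FT.node (nat_lit 4763) (FT.leaf (Fct.mk true (nat_lit 33) (nat_lit 69) (nat_lit 32) [nat_lit 3, nat_lit 8, nat_lit 4, nat_lit 5, nat_lit 3, nat_lit 4, nat_lit 1, nat_lit 2, nat_lit 3, nat_lit 8, nat_lit 0, nat_lit 1, nat_lit 2, nat_lit 3, nat_lit 4, nat_lit 5, nat_lit 6, nat_lit 7, nat_lit 8, nat_lit 3, nat_lit 4, nat_lit 1, nat_lit 2, nat_lit 3, nat_lit 8, nat_lit 0, nat_lit 1, nat_lit 2, nat_lit 3, nat_lit 4, nat_lit 5, nat_lit 0, nat_lit 1, nat_lit 9, nat_lit 4, nat_lit 3, nat_lit 2, nat_lit 8, nat_lit 3, nat_lit 0, nat_lit 12, nat_lit 8, nat_lit 16, nat_lit 14, nat_lit 12, nat_lit 18] (Rl.t1 (nat_lit 4574) (nat_lit 4761)))) (FT.node (nat_lit 4764) (FT.leaf (Fct.mk false (nat_lit 33) (nat_lit 0) (nat_lit 33) [nat_lit 3, nat_lit 8,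 nat_lit 5, nat_lit 6, nat_lit 4, nat_lit 5, nat_lit 3, nat_lit 4, nat_lit 1, nat_lit 2, nat_lit 3, nat_lit 8, nat_lit 0, nat_lit 1, nat_lit 2, nat_lit 3, nat_lit 4, nat_lit 5, nat_lit 6, nat_lit 7, nat_lit 2, nat_lit 3, nat_lit 4, nat_lit 1, nat_lit 2, nat_lit 3, nat_lit 8, nat_lit 5, nat_lit 6, nat_lit 4, nat_lit 5, nat_lit 3, nat_lit 4, nat_lit 2, nat_lit 3, nat_lit 8, nat_lit 1, nat_lit 2, nat_lit 3, nat_lit 4, nat_lit 5, nat_lit 3, nat_lit 2, nat_lit 1, nat_lit 4, nat_lit 3, nat_lit 2, nat_lit 8, nat_lit 3, nat_lit 9, nat_lit 2, nat_lit 8, nat_lit 12, nat_lit 15, nat_lit 13] (Rl.cmp (nat_lit 4605) (nat_lit 4400)))) (FT.leaf (Fct.mk false (nat_lit 33) (nat_lit 0) (nat_lit 33) [nat_lit 8, nat_lit 2, nat_lit 3, nat_lit 4, nat_lit 1, nat_lit 2, nat_lit 3, nat_lit 8, nat_lit 6, nat_lit 7, nat_lit 5, nat_lit 6, nat_lit 4, nat_lit 5, nat_lit 3,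 nat_lit 4, nat_lit 2, nat_lit 3, nat_lit 8, nat_lit 1, nat_lit 2, nat_lit 3, nat_lit 4, nat_lit 5, nat_lit 6, nat_lit 7, nat_lit 5, nat_lit 4, nat_lit 2, nat_lit 3, nat_lit 8, nat_lit 0, nat_lit 1, nat_lit 2, nat_lit 3, nat_lit 4, nat_lit 5, nat_lit 3, nat_lit 2, nat_lit 0, nat_lit 1, nat_lit 4, nat_lit 3, nat_lit 2, nat_lit 8, nat_lit 3, nat_lit 10, nat_lit 8, nat_lit 12, nat_lit 15, nat_lit 12, nat_lit 18, nat_lit 16] (Rl.cmp (nat_lit 4456) (nat_lit 4763)))))) (FT.node (nat_lit 4766) (FT.leaf (Fct.mk false (nat_lit 33) (nat_lit 0) (nat_lit 33) [nat_lit 8, nat_lit 6, nat_lit 5, nat_lit 3, nat_lit 4, nat_lit 2, nat_lit 3, nat_lit 8, nat_lit 0, nat_lit 1, nat_lit 2, nat_lit 3, nat_lit 4, nat_lit 5, nat_lit 6, nat_lit 7, nat_lit 3, nat_lit 8, nat_lit 2, nat_lit 3, nat_lit 4, nat_lit 5, nat_lit 8, nat_lit 3, nat_lit 2, nat_lit 1, nat_lit 4, nat_lit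 3, nat_lit 2, nat_lit 8, nat_lit 3, nat_lit 8, nat_lit 10, nat_lit 1, nat_lit 15, nat_lit 14, nat_lit 13, nat_lit 18, nat_lit 16] (Rl.cmp (nat_lit 4456) (nat_lit 4764)))) (FT.node (nat_lit 4767) (FT.leaf (Fct.mk false (nat_lit 33) (nat_lit 0) (nat_lit 33) [nat_lit 6, nat_lit 5, nat_lit 4, nat_lit 3, nat_lit 8, nat_lit 2, nat_lit 3, nat_lit 4, nat_lit 1, nat_lit 2, nat_lit 3, nat_lit 8, nat_lit 5, nat_lit 6, nat_lit 4, nat_lit 5, nat_lit 3, nat_lit 4, nat_lit 2, nat_lit 3, nat_lit 8, nat_lit 1, nat_lit 2, nat_lit 3, nat_lit 4, nat_lit 5, nat_lit 6, nat_lit 7, nat_lit 6, nat_lit 5, nat_lit 4, nat_lit 3, nat_lit 8, nat_lit 0, nat_lit 1, nat_lit 2, nat_lit 3, nat_lit 4, nat_lit 5, nat_lit 4, nat_lit 3, nat_lit 2, nat_lit 0, nat_lit 1, nat_lit 9, nat_lit 4, nat_lit 3, nat_lit 2, nat_lit 8, nat_lit 3, nat_lit 11, nat_lit 10, nat_lit 2, nat_lit 8,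 nat_lit 10, nat_lit 1, nat_lit 16, nat_lit 8, nat_lit 12, nat_lit 15, nat_lit 8, nat_lit 19] (Rl.cmp (nat_lit 4605) (nat_lit 4765)))) (FT.leaf (Fct.mk false (nat_lit 33) (nat_lit 0) (nat_lit 33) [nat_lit 8, nat_lit 4, nat_lit 5, nat_lit 3, nat_lit 4, nat_lit 1, nat_lit 2, nat_lit 3, nat_lit 8, nat_lit 0, nat_lit 1, nat_lit 2, nat_lit 3, nat_lit 4, nat_lit 5, nat_lit 1, nat_lit 2, nat_lit 0, nat_lit 1, nat_lit 4, nat_lit 3, nat_lit 2, nat_lit 8, nat_lit 3, nat_lit 8, nat_lit 10, nat_lit 0, nat_lit 8] (Rl.cmp (nat_lit 4400) (nat_lit 4766))))))) (FT.node (nat_lit 4771) (FT.node (nat_lit 4769) (FT.leaf (Fct.mk true (nat_lit 33) (nat_lit 137) (nat_lit 32) [nat_lit 4, nat_lit 3, nat_lit 8, nat_lit 2, nat_lit 3, nat_lit 4, nat_lit 1, nat_lit 2, nat_lit 3, nat_lit 8, nat_lit 0, nat_lit 1, nat_lit 2, nat_lit 3, nat_lit 4, nat_lit 5, nat_lit 6, nat_lit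 7, nat_lit 4, nat_lit 3, nat_lit 8, nat_lit 0, nat_lit 1, nat_lit 2, nat_lit 3, nat_lit 4, nat_lit 5, nat_lit 9, nat_lit 4, nat_lit 3, nat_lit 2, nat_lit 8, nat_lit 3, nat_lit 1, nat_lit 16, nat_lit 12, nat_lit 15, nat_lit 14, nat_lit 17, nat_lit 12, nat_lit 19, nat_lit 16] (Rl.t1 (nat_lit 4582) (nat_lit 4767)))) (FT.node (nat_lit 4770) (FT.leaf (Fct.mk false (nat_lit 33) (nat_lit 0) (nat_lit 33) [nat_lit 3, nat_lit 8, nat_lit 5, nat_lit 6, nat_lit 4, nat_lit 5, nat_lit 3, nat_lit 4, nat_lit 1, nat_lit 2, nat_lit 3, nat_lit 8, nat_lit 0, nat_lit 1, nat_lit 2, nat_lit 3, nat_lit 4, nat_lit 5, nat_lit 6, nat_lit 7, nat_lit 2, nat_lit 3, nat_lit 4, nat_lit 1, nat_lit 2, nat_lit 3, nat_lit 8, nat_lit 5, nat_lit 6, nat_lit 4, nat_lit 5, nat_lit 3, nat_lit 4, nat_lit 2, nat_lit 3, nat_lit 8, nat_lit 1, nat_lit 2, nat_lit 3, nat_lit 4, nat_lit 5,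 nat_lit 3, nat_lit 2, nat_lit 1, nat_lit 4, nat_lit 3, nat_lit 2, nat_lit 8, nat_lit 3, nat_lit 9, nat_lit 2, nat_lit 8, nat_lit 12, nat_lit 15, nat_lit 13] (Rl.cmp (nat_lit 4605) (nat_lit 4400)))) (FT.leaf (Fct.mk false (nat_lit 33) (nat_lit 0) (nat_lit 33) [nat_lit 7, nat_lit 6, nat_lit 4, nat_lit 5, nat_lit 3, nat_lit 4, nat_lit 1, nat_lit 2, nat_lit 3, nat_lit 8, nat_lit 0, nat_lit 1, nat_lit 2, nat_lit 3, nat_lit 4, nat_lit 5, nat_lit 6, nat_lit 7, nat_lit 4, nat_lit 1, nat_lit 2, nat_lit 3, nat_lit 8, nat_lit 5, nat_lit 6, nat_lit 4, nat_lit 5, nat_lit 3, nat_lit 4, nat_lit 2, nat_lit 3, nat_lit 8, nat_lit 1, nat_lit 2, nat_lit 3, nat_lit 4, nat_lit 5, nat_lit 9, nat_lit 4, nat_lit 3, nat_lit 2, nat_lit 8, nat_lit 3, nat_lit 9, nat_lit 2, nat_lit 15, nat_lit 14, nat_lit 13, nat_lit 12, nat_lit 19] (Rl.cmp (nat_lit 4402) (nat_lit 4769))))))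 (FT.node (nat_lit 4773) (FT.node (nat_lit 4772) (FT.leaf (Fct.mk false (nat_lit 33) (nat_lit 0) (nat_lit 33) [nat_lit 3, nat_lit 8, nat_lit 2, nat_lit 3, nat_lit 4, nat_lit 1, nat_lit 2, nat_lit 3, nat_lit 8, nat_lit 0, nat_lit 1, nat_lit 2, nat_lit 3, nat_lit 4, nat_lit 5, nat_lit 6, nat_lit 7, nat_lit 4, nat_lit 5, nat_lit 3, nat_lit 4, nat_lit 2, nat_lit 3, nat_lit 8, nat_lit 1, nat_lit 2, nat_lit 3, nat_lit 4, nat_lit 5, nat_lit 3, nat_lit 0, nat_lit 15, nat_lit 14, nat_lit 12, nat_lit 19, nat_lit 16] (Rl.cmp (nat_lit 4456) (nat_lit 4770)))) (FT.leaf (Fct.mk false (nat_lit 33) (nat_lit 0) (nat_lit 33) [nat_lit 3, nat_lit 8, nat_lit 5, nat_lit 6, nat_lit 4, nat_lit 5, nat_lit 3, nat_lit 4, nat_lit 1, nat_lit 2, nat_lit 3, nat_lit 8, nat_lit 0, nat_lit 1, nat_lit 2, nat_lit 3, nat_lit 4, nat_lit 5, nat_lit 6, nat_lit 7, nat_lit 4, nat_lit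 5, nat_lit 3, nat_lit 4, nat_lit 2, nat_lit 3, nat_lit 8, nat_lit 1, nat_lit 2, nat_lit 3, nat_lit 4, nat_lit 5, nat_lit 3, nat_lit 2, nat_lit 1, nat_lit 4, nat_lit 3, nat_lit 2, nat_lit 8, nat_lit 3, nat_lit 10, nat_lit 9, nat_lit 2, nat_lit 16, nat_lit 15, nat_lit 14, nat_lit 13] (Rl.cmp (nat_lit 4402) (nat_lit 4771))))) (FT.node (nat_lit 4774) (FT.leaf (Fct.mk false (nat_lit 33) (nat_lit 0) (nat_lit 33) [nat_lit 8, nat_lit 2, nat_lit 3, nat_lit 4, nat_lit 1, nat_lit 2, nat_lit 3, nat_lit 8, nat_lit 6, nat_lit 7, nat_lit 5, nat_lit 6, nat_lit 4, nat_lit 5, nat_lit 3, nat_lit 4, nat_lit 2, nat_lit 3, nat_lit 8, nat_lit 1, nat_lit 2, nat_lit 3, nat_lit 4, nat_lit 5, nat_lit 6, nat_lit 7, nat_lit 2, nat_lit 3, nat_lit 4, nat_lit 5, nat_lit 1, nat_lit 4, nat_lit 3, nat_lit 2, nat_lit 8, nat_lit 3, nat_lit 0, nat_lit 8, nat_lit 12, nat_lit 15,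 nat_lit 14, nat_lit 12, nat_lit 16] (Rl.cmp (nat_lit 4456) (nat_lit 4772)))) (FT.leaf (Fct.mk false (nat_lit 33) (nat_lit 0) (nat_lit 33) [nat_lit 6, nat_lit 5, nat_lit 4, nat_lit 3, nat_lit 8, nat_lit 2, nat_lit 3, nat_lit 4, nat_lit 5, nat_lit 6, nat_lit 7, nat_lit 5, nat_lit 2, nat_lit 0, nat_lit 1, nat_lit 3, nat_lit 2, nat_lit 8, nat_lit 3, nat_lit 11, nat_lit 2, nat_lit 8, nat_lit 10, nat_lit 1, nat_lit 17, nat_lit 12, nat_lit 18] (Rl.cmp (nat_lit 4605) (nat_lit 4773))))))))) (FT.node (nat_lit 4787) (FT.node (nat_lit 4781) (FT.node (nat_lit 4778) (FT.node (nat_lit 4776) (FT.leaf (Fct.mk true (nat_lit 33) (nat_lit 13) (nat_lit 32) [nat_lit 8, nat_lit 6, nat_lit 7, nat_lit 5, nat_lit 6, nat_lit 4, nat_lit 5, nat_lit 3, nat_lit 4, nat_lit 2, nat_lit 3, nat_lit 8, nat_lit 1, nat_lit 2, nat_lit 3, nat_lit 4, nat_lit 5, nat_lit 6, nat_lit 7,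 nat_lit 5, nat_lit 3, nat_lit 4, nat_lit 2, nat_lit 3, nat_lit 8, nat_lit 1, nat_lit 2, nat_lit 3, nat_lit 4, nat_lit 5, nat_lit 3, nat_lit 2, nat_lit 8, nat_lit 3, nat_lit 10, nat_lit 0, nat_lit 16, nat_lit 15, nat_lit 14] (Rl.t1 (nat_lit 4585) (nat_lit 4774)))) (FT.node (nat_lit 4777) (FT.leaf (Fct.mk false (nat_lit 33) (nat_lit 0) (nat_lit 33) [nat_lit 102] (Rl.cmp (nat_lit 4402) (nat_lit 4400)))) (FT.leaf (Fct.mk false (nat_lit 33) (nat_lit 0) (nat_lit 33) [nat_lit 3, nat_lit 8, nat_lit 2, nat_lit 3, nat_lit 4, nat_lit 1, nat_lit 2, nat_lit 3, nat_lit 8, nat_lit 7, nat_lit 5, nat_lit 6, nat_lit 4, nat_lit 5, nat_lit 3, nat_lit 4, nat_lit 2, nat_lit 3, nat_lit 8, nat_lit 1, nat_lit 2, nat_lit 3, nat_lit 4, nat_lit 5, nat_lit 6, nat_lit 7, nat_lit 4, nat_lit 2, nat_lit 3, nat_lit 8, nat_lit 1, nat_lit 2, nat_lit 3, nat_lit 4, nat_lit 5, nat_lit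 3, nat_lit 2, nat_lit 0, nat_lit 1, nat_lit 4, nat_lit 3, nat_lit 2, nat_lit 8, nat_lit 3, nat_lit 2, nat_lit 17, nat_lit 19, nat_lit 16] (Rl.cmp (nat_lit 4605) (nat_lit 4776)))))) (FT.node (nat_lit 4779) (FT.leaf (Fct.mk false (nat_lit 33) (nat_lit 0) (nat_lit 33) [nat_lit 2, nat_lit 3, nat_lit 8, nat_lit 4, nat_lit 5, nat_lit 3, nat_lit 4, nat_lit 2, nat_lit 3, nat_lit 8, nat_lit 1, nat_lit 2, nat_lit 3, nat_lit 4, nat_lit 5, nat_lit 6, nat_lit 7, nat_lit 8, nat_lit 3, nat_lit 4, nat_lit 1, nat_lit 2, nat_lit 3, nat_lit 8, nat_lit 5, nat_lit 6, nat_lit 4, nat_lit 5, nat_lit 3, nat_lit 4, nat_lit 2, nat_lit 3, nat_lit 8, nat_lit 1, nat_lit 2, nat_lit 3, nat_lit 4, nat_lit 5, nat_lit 2, nat_lit 0, nat_lit 1, nat_lit 3, nat_lit 2, nat_lit 8, nat_lit 3, nat_lit 2, nat_lit 10, nat_lit 1, nat_lit 16, nat_lit 12, nat_lit 15, nat_lit 14, nat_lit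 16, nat_lit 8, nat_lit 16] (Rl.cmp (nat_lit 4402) (nat_lit 4777)))) (FT.node (nat_lit 4780) (FT.leaf (Fct.mk false (nat_lit 33) (nat_lit 0) (nat_lit 33) [nat_lit 7, nat_lit 5, nat_lit 6, nat_lit 4, nat_lit 5, nat_lit 2, nat_lit 3, nat_lit 4, nat_lit 1, nat_lit 2, nat_lit 3, nat_lit 8, nat_lit 0, nat_lit 1, nat_lit 2, nat_lit 3, nat_lit 4, nat_lit 5, nat_lit 6, nat_lit 7, nat_lit 3, nat_lit 8, nat_lit 5, nat_lit 6, nat_lit 4, nat_lit 5, nat_lit 3, nat_lit 4, nat_lit 2, nat_lit 3, nat_lit 8, nat_lit 0, nat_lit 1, nat_lit 2, nat_lit 3, nat_lit 4, nat_lit 5, nat_lit 3, nat_lit 2, nat_lit 1, nat_lit 4, nat_lit 3, nat_lit 2, nat_lit 0, nat_lit 1, nat_lit 9, nat_lit 4, nat_lit 3, nat_lit 2, nat_lit 8, nat_lit 3, nat_lit 11, nat_lit 2, nat_lit 10, nat_lit 1, nat_lit 15, nat_lit 14, nat_lit 12] (Rl.cmp (nat_lit 4456) (nat_lit 4778)))) (FT.leaf (Fct.mk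 false (nat_lit 33) (nat_lit 0) (nat_lit 33) [nat_lit 141] (Rl.cmp (nat_lit 4605) (nat_lit 4779))))))) (FT.node (nat_lit 4784) (FT.node (nat_lit 4782) (FT.leaf (Fct.mk false (nat_lit 33) (nat_lit 0) (nat_lit 33) [nat_lit 4, nat_lit 3, nat_lit 8, nat_lit 2, nat_lit 3, nat_lit 4, nat_lit 1, nat_lit 2, nat_lit 3, nat_lit 8, nat_lit 0, nat_lit 1, nat_lit 2, nat_lit 3, nat_lit 4, nat_lit 5, nat_lit 6, nat_lit 7, nat_lit 8, nat_lit 6, nat_lit 5, nat_lit 2, nat_lit 3, nat_lit 4, nat_lit 1, nat_lit 2, nat_lit 3, nat_lit 8, nat_lit 0, nat_lit 1, nat_lit 2, nat_lit 3, nat_lit 4, nat_lit 5, nat_lit 2, nat_lit 1, nat_lit 3, nat_lit 2, nat_lit 0, nat_lit 1, nat_lit 4, nat_lit 3, nat_lit 2, nat_lit 8, nat_lit 3, nat_lit 11, nat_lit 10, nat_lit 15, nat_lit 13, nat_lit 19, nat_lit 16] (Rl.cmp (nat_lit 4456) (nat_lit 4780)))) (FT.node (nat_lit 4783) (FT.leaf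 (Fct.mk true (nat_lit 33) (nat_lit 123) (nat_lit 33) [nat_lit 7, nat_lit 6, nat_lit 3, nat_lit 4, nat_lit 5, nat_lit 2, nat_lit 3, nat_lit 4, nat_lit 1, nat_lit 2, nat_lit 3, nat_lit 8, nat_lit 0, nat_lit 1, nat_lit 2, nat_lit 3, nat_lit 4, nat_lit 5, nat_lit 6, nat_lit 7, nat_lit 2, nat_lit 0, nat_lit 1, nat_lit 4, nat_lit 3, nat_lit 2, nat_lit 8, nat_lit 3, nat_lit 1, nat_lit 16, nat_lit 15, nat_lit 14, nat_lit 19, nat_lit 16] (Rl.t1 (nat_lit 4589) (nat_lit 4781)))) (FT.leaf (Fct.mk true (nat_lit 33) (nat_lit 7625) (nat_lit 33) [nat_lit 7, nat_lit 6, nat_lit 5, nat_lit 3, nat_lit 4, nat_lit 1, nat_lit 2, nat_lit 3, nat_lit 8, nat_lit 0, nat_lit 1, nat_lit 2, nat_lit 3, nat_lit 4, nat_lit 5, nat_lit 6, nat_lit 7, nat_lit 3, nat_lit 2, nat_lit 1, nat_lit 9, nat_lit 4, nat_lit 3, nat_lit 2, nat_lit 8, nat_lit 3, nat_lit 9, nat_lit 12, nat_lit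 8, nat_lit 16, nat_lit 14, nat_lit 13, nat_lit 12, nat_lit 19] (Rl.inv (nat_lit 4782)))))) (FT.node (nat_lit 4785) (FT.leaf (Fct.mk false (nat_lit 33) (nat_lit 0) (nat_lit 33) [nat_lit 3, nat_lit 8, nat_lit 5, nat_lit 6, nat_lit 4, nat_lit 5, nat_lit 3, nat_lit 4, nat_lit 1, nat_lit 2, nat_lit 3, nat_lit 8, nat_lit 0, nat_lit 1, nat_lit 2, nat_lit 3, nat_lit 4, nat_lit 5, nat_lit 6, nat_lit 7, nat_lit 2, nat_lit 3, nat_lit 4, nat_lit 1, nat_lit 2, nat_lit 3, nat_lit 8, nat_lit 5, nat_lit 6, nat_lit 4, nat_lit 5, nat_lit 3, nat_lit 4, nat_lit 2, nat_lit 3, nat_lit 8, nat_lit 1, nat_lit 2, nat_lit 3, nat_lit 4, nat_lit 5, nat_lit 3, nat_lit 2, nat_lit 1, nat_lit 4, nat_lit 3, nat_lit 2, nat_lit 8, nat_lit 3, nat_lit 9, nat_lit 2, nat_lit 8, nat_lit 12, nat_lit 15, nat_lit 13] (Rl.cmp (nat_lit 4605) (nat_lit 4400)))) (FT.node (nat_lit 4786) (FT.leaf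 (Fct.mk false (nat_lit 33) (nat_lit 0) (nat_lit 33) [nat_lit 2, nat_lit 3, nat_lit 8, nat_lit 5, nat_lit 6, nat_lit 4, nat_lit 5, nat_lit 3, nat_lit 4, nat_lit 2, nat_lit 3, nat_lit 8, nat_lit 0, nat_lit 1, nat_lit 2, nat_lit 3, nat_lit 4, nat_lit 5, nat_lit 6, nat_lit 7, nat_lit 8, nat_lit 3, nat_lit 4, nat_lit 1, nat_lit 2, nat_lit 3, nat_lit 8, nat_lit 0, nat_lit 1, nat_lit 2, nat_lit 3, nat_lit 4, nat_lit 5, nat_lit 3, nat_lit 2, nat_lit 1, nat_lit 9, nat_lit 4, nat_lit 3, nat_lit 2, nat_lit 8, nat_lit 3, nat_lit 11, nat_lit 10, nat_lit 2, nat_lit 8, nat_lit 10, nat_lit 1, nat_lit 12, nat_lit 15, nat_lit 19] (Rl.cmp (nat_lit 4400) (nat_lit 4784)))) (FT.leaf (Fct.mk false (nat_lit 33) (nat_lit 0) (nat_lit 33) [nat_lit 3, nat_lit 8, nat_lit 5, nat_lit 6, nat_lit 4, nat_lit 5, nat_lit 3, nat_lit 4, nat_lit 1, nat_lit 2, nat_lit 3, nat_lit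 8, nat_lit 0, nat_lit 1, nat_lit 2, nat_lit 3, nat_lit 4, nat_lit 5, nat_lit 6, nat_lit 7, nat_lit 3, nat_lit 8, nat_lit 2, nat_lit 3, nat_lit 4, nat_lit 5, nat_lit 2, nat_lit 0, nat_lit 1, nat_lit 4, nat_lit 3, nat_lit 2, nat_lit 8, nat_lit 3, nat_lit 0, nat_lit 15, nat_lit 17] (Rl.cmp (nat_lit 4456) (nat_lit 4785)))))))) (FT.node (nat_lit 4793) (FT.node (nat_lit 4790) (FT.node (nat_lit 4788) (FT.leaf (Fct.mk false (nat_lit 33) (nat_lit 0) (nat_lit 33) [nat_lit 8, nat_lit 2, nat_lit 3, nat_lit 4, nat_lit 1, nat_lit 2, nat_lit 3, nat_lit 8, nat_lit 6, nat_lit 7, nat_lit 5, nat_lit 6, nat_lit 4, nat_lit 5, nat_lit 3, nat_lit 4, nat_lit 2, nat_lit 3, nat_lit 8, nat_lit 1, nat_lit 2, nat_lit 3, nat_lit 4, nat_lit 5, nat_lit 6, nat_lit 7, nat_lit 3, nat_lit 8, nat_lit 5, nat_lit 6, nat_lit 4, nat_lit 5, nat_lit 3, nat_lit 4, nat_lit 2, nat_lit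 3, nat_lit 8, nat_lit 0, nat_lit 1, nat_lit 2, nat_lit 3, nat_lit 4, nat_lit 5, nat_lit 1, nat_lit 4, nat_lit 3, nat_lit 2, nat_lit 0, nat_lit 1, nat_lit 9, nat_lit 4, nat_lit 3, nat_lit 2, nat_lit 8, nat_lit 3, nat_lit 8, nat_lit 12, nat_lit 15, nat_lit 12, nat_lit 18, nat_lit 16] (Rl.cmp (nat_lit 4456) (nat_lit 4786)))) (FT.node (nat_lit 4789) (FT.leaf (Fct.mk false (nat_lit 33) (nat_lit 0) (nat_lit 33) [nat_lit 6, nat_lit 5, nat_lit 4, nat_lit 3, nat_lit 8, nat_lit 2, nat_lit 3, nat_lit 4, nat_lit 5, nat_lit 6, nat_lit 7, nat_lit 3, nat_lit 8, nat_lit 4, nat_lit 5, nat_lit 3, nat_lit 4, nat_lit 2, nat_lit 3, nat_lit 8, nat_lit 1, nat_lit 2, nat_lit 3, nat_lit 4, nat_lit 5, nat_lit 11, nat_lit 2, nat_lit 10, nat_lit 1, nat_lit 15, nat_lit 14, nat_lit 16, nat_lit 8, nat_lit 18] (Rl.cmp (nat_lit 4605) (nat_lit 4787)))) (FT.leaf (Fct.mk true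 (nat_lit 33) (nat_lit 518) (nat_lit 33) [nat_lit 5, nat_lit 2, nat_lit 3, nat_lit 4, nat_lit 1, nat_lit 2, nat_lit 3, nat_lit 8, nat_lit 0, nat_lit 1, nat_lit 2, nat_lit 3, nat_lit 4, nat_lit 5, nat_lit 6, nat_lit 7, nat_lit 8, nat_lit 3, nat_lit 4, nat_lit 2, nat_lit 3, nat_lit 8, nat_lit 0, nat_lit 1, nat_lit 2, nat_lit 3, nat_lit 4, nat_lit 5, nat_lit 4, nat_lit 11, nat_lit 9, nat_lit 10, nat_lit 2, nat_lit 8, nat_lit 10, nat_lit 1, nat_lit 16, nat_lit 15, nat_lit 14, nat_lit 18, nat_lit 16] (Rl.t1 (nat_lit 4783) (nat_lit 4788)))))) (FT.node (nat_lit 4791) (FT.leaf (Fct.mk false (nat_lit 33) (nat_lit 0) (nat_lit 33) [nat_lit 6, nat_lit 4, nat_lit 5, nat_lit 2, nat_lit 3, nat_lit 4, nat_lit 1, nat_lit 2, nat_lit 3, nat_lit 8, nat_lit 0, nat_lit 1, nat_lit 2, nat_lit 3, nat_lit 4, nat_lit 5, nat_lit 6, nat_lit 7, nat_lit 6, nat_lit 5, nat_lit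 4, nat_lit 3, nat_lit 8, nat_lit 2, nat_lit 3, nat_lit 4, nat_lit 1, nat_lit 2, nat_lit 3, nat_lit 8, nat_lit 5, nat_lit 6, nat_lit 4, nat_lit 5, nat_lit 3, nat_lit 4, nat_lit 2, nat_lit 3, nat_lit 8, nat_lit 1, nat_lit 2, nat_lit 3, nat_lit 4, nat_lit 5, nat_lit 4, nat_lit 3, nat_lit 2, nat_lit 0, nat_lit 1, nat_lit 9, nat_lit 4, nat_lit 3, nat_lit 2, nat_lit 8, nat_lit 3, nat_lit 10, nat_lit 2, nat_lit 8, nat_lit 10, nat_lit 1, nat_lit 16, nat_lit 15, nat_lit 14, nat_lit 16, nat_lit 8, nat_lit 18] (Rl.cmp (nat_lit 4456) (nat_lit 4402)))) (FT.node (nat_lit 4792) (FT.leaf (Fct.mk false (nat_lit 33) (nat_lit 0) (nat_lit 33) [nat_lit 6, nat_lit 4, nat_lit 5, nat_lit 2, nat_lit 3, nat_lit 4, nat_lit 1, nat_lit 2, nat_lit 3, nat_lit 8, nat_lit 0, nat_lit 1, nat_lit 2, nat_lit 3, nat_lit 4, nat_lit 5, nat_lit 6, nat_lit 7, nat_lit 6, nat_lit 5,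 nat_lit 4, nat_lit 3, nat_lit 8, nat_lit 2, nat_lit 3, nat_lit 4, nat_lit 1, nat_lit 2, nat_lit 3, nat_lit 8, nat_lit 5, nat_lit 6, nat_lit 4, nat_lit 5, nat_lit 3, nat_lit 4, nat_lit 2, nat_lit 3, nat_lit 8, nat_lit 1, nat_lit 2, nat_lit 3, nat_lit 4, nat_lit 5, nat_lit 4, nat_lit 3, nat_lit 2, nat_lit 0, nat_lit 1, nat_lit 9, nat_lit 4, nat_lit 3, nat_lit 2, nat_lit 8, nat_lit 3, nat_lit 10, nat_lit 2, nat_lit 8, nat_lit 10, nat_lit 1, nat_lit 16, nat_lit 15, nat_lit 14, nat_lit 16, nat_lit 8, nat_lit 18] (Rl.cmp (nat_lit 4456) (nat_lit 4402)))) (FT.leaf (Fct.mk false (nat_lit 33) (nat_lit 0) (nat_lit 33) [nat_lit 6, nat_lit 5, nat_lit 2, nat_lit 3, nat_lit 4, nat_lit 1, nat_lit 2, nat_lit 3, nat_lit 8, nat_lit 0, nat_lit 1, nat_lit 2, nat_lit 3, nat_lit 4, nat_lit 5, nat_lit 6, nat_lit 7, nat_lit 6, nat_lit 5, nat_lit 4, nat_lit 3, nat_lit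 8, nat_lit 2, nat_lit 3, nat_lit 4, nat_lit 5, nat_lit 9, nat_lit 16, nat_lit 14, nat_lit 16] (Rl.cmp (nat_lit 4400) (nat_lit 4791))))))) (FT.node (nat_lit 4796) (FT.node (nat_lit 4794) (FT.leaf (Fct.mk false (nat_lit 33) (nat_lit 0) (nat_lit 33) [nat_lit 2, nat_lit 3, nat_lit 4, nat_lit 5, nat_lit 6, nat_lit 7, nat_lit 6, nat_lit 5, nat_lit 3, nat_lit 4, nat_lit 1, nat_lit 2, nat_lit 3, nat_lit 8, nat_lit 0, nat_lit 1, nat_lit 2, nat_lit 3, nat_lit 4, nat_lit 5, nat_lit 3, nat_lit 8, nat_lit 4, nat_lit 3, nat_lit 2, nat_lit 0, nat_lit 1, nat_lit 9, nat_lit 4, nat_lit 3, nat_lit 2, nat_lit 8, nat_lit 3, nat_lit 9, nat_lit 16, nat_lit 14, nat_lit 13, nat_lit 18, nat_lit 16] (Rl.cmp (nat_lit 4605) (nat_lit 4792)))) (FT.node (nat_lit 4795) (FT.leaf (Fct.mk true (nat_lit 33) (nat_lit 44) (nat_lit 32) [nat_lit 2, nat_lit 3, nat_lit 8, nat_lit 6,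 nat_lit 4, nat_lit 5, nat_lit 3, nat_lit 4, nat_lit 2, nat_lit 3, nat_lit 8, nat_lit 1, nat_lit 2, nat_lit 3, nat_lit 4, nat_lit 5, nat_lit 6, nat_lit 7, nat_lit 4, nat_lit 3, nat_lit 8, nat_lit 2, nat_lit 3, nat_lit 4, nat_lit 1, nat_lit 2, nat_lit 3, nat_lit 8, nat_lit 0, nat_lit 1, nat_lit 2, nat_lit 3, nat_lit 4, nat_lit 5, nat_lit 1, nat_lit 2, nat_lit 8, nat_lit 3, nat_lit 0, nat_lit 12, nat_lit 8, nat_lit 16, nat_lit 14, nat_lit 12, nat_lit 18, nat_lit 16] (Rl.t1 (nat_lit 4602) (nat_lit 4793)))) (FT.leaf (Fct.mk false (nat_lit 33) (nat_lit 0) (nat_lit 33) [nat_lit 2, nat_lit 3, nat_lit 8, nat_lit 1, nat_lit 2, nat_lit 3, nat_lit 4, nat_lit 5, nat_lit 6, nat_lit 7, nat_lit 2, nat_lit 3, nat_lit 8, nat_lit 0, nat_lit 1, nat_lit 2, nat_lit 3, nat_lit 4, nat_lit 5, nat_lit 3, nat_lit 2, nat_lit 1, nat_lit 9, nat_lit 4, nat_lit 3, nat_lit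 2, nat_lit 8, nat_lit 3, nat_lit 0, nat_lit 14, nat_lit 8, nat_lit 18] (Rl.cmp (nat_lit 4456) (nat_lit 4400)))))) (FT.node (nat_lit 4798) (FT.node (nat_lit 4797) (FT.leaf (Fct.mk false (nat_lit 33) (nat_lit 0) (nat_lit 33) [nat_lit 102] (Rl.cmp (nat_lit 4402) (nat_lit 4400)))) (FT.leaf (Fct.mk false (nat_lit 33) (nat_lit 0) (nat_lit 33) [nat_lit 102] (Rl.cmp (nat_lit 4402) (nat_lit 4400))))) (FT.node (nat_lit 4799) (FT.leaf (Fct.mk false (nat_lit 33) (nat_lit 0) (nat_lit 33) [nat_lit 3, nat_lit 8, nat_lit 4, nat_lit 5, nat_lit 3, nat_lit 4, nat_lit 1, nat_lit 2, nat_lit 3, nat_lit 8, nat_lit 0, nat_lit 1, nat_lit 2, nat_lit 3, nat_lit 4, nat_lit 5, nat_lit 6, nat_lit 7, nat_lit 5, nat_lit 3, nat_lit 4, nat_lit 1, nat_lit 2, nat_lit 3, nat_lit 8, nat_lit 0, nat_lit 1, nat_lit 2, nat_lit 3, nat_lit 4, nat_lit 5, nat_lit 2, nat_lit 1, nat_lit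 9, nat_lit 4, nat_lit 3, nat_lit 2, nat_lit 8, nat_lit 3, nat_lit 11, nat_lit 16, nat_lit 8, nat_lit 12, nat_lit 15, nat_lit 8, nat_lit 16] (Rl.cmp (nat_lit 4456) (nat_lit 4605)))) (FT.leaf (Fct.mk false (nat_lit 4) (nat_lit 0) (nat_lit 4) [nat_lit 2, nat_lit 3, nat_lit 8, nat_lit 4, nat_lit 5, nat_lit 3, nat_lit 4, nat_lit 2, nat_lit 3, nat_lit 8, nat_lit 6, nat_lit 7, nat_lit 5, nat_lit 6, nat_lit 4, nat_lit 5, nat_lit 3, nat_lit 4, nat_lit 2, nat_lit 3, nat_lit 8, nat_lit 1, nat_lit 2, nat_lit 3, nat_lit 4, nat_lit 5, nat_lit 6, nat_lit 7, nat_lit 6, nat_lit 1, nat_lit 9, nat_lit 4, nat_lit 3, nat_lit 2, nat_lit 8, nat_lit 3, nat_lit 9, nat_lit 12, nat_lit 8, nat_lit 16, nat_lit 14, nat_lit 12, nat_lit 18, nat_lit 16] (Rl.cmp (nat_lit 263) (nat_lit 4371)))))))))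

/-- some facts -/
noncomputable def ftc96 : FT := FT.node (nat_lit 4825) (FT.node (nat_lit 4812) (FT.node (nat_lit 4806) (FT.node (nat_lit 4803) (FT.node (nat_lit 4801) (FT.leaf (Fct.mk false (nat_lit 4) (nat_lit 0) (nat_lit 4) [nat_lit 5, nat_lit 4, nat_lit 3, nat_lit 8, nat_lit 6, nat_lit 7, nat_lit 5, nat_lit 6, nat_lit 4, nat_lit 5, nat_lit 3, nat_lit 4, nat_lit 2, nat_lit 3, nat_lit 8, nat_lit 1, nat_lit 2, nat_lit 3, nat_lit 4, nat_lit 5, nat_lit 6, nat_lit 7, nat_lit 8, nat_lit 2, nat_lit 3, nat_lit 4, nat_lit 1, nat_lit 2, nat_lit 3, nat_lit 8, nat_lit 5, nat_lit 6, nat_lit 4, nat_lit 5, nat_lit 3, nat_lit 4, nat_lit 2, nat_lit 3, nat_lit 8, nat_lit 1, nat_lit 2, nat_lit 3, nat_lit 4, nat_lit 5, nat_lit 1, nat_lit 2, nat_lit 3, nat_lit 1, nat_lit 9, nat_lit 16, nat_lit 14, nat_lit 12] (Rl.cmp (nat_lit 2284) (nat_lit 4799)))) (FT.node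 (nat_lit 4802) (FT.leaf (Fct.mk false (nat_lit 4) (nat_lit 0) (nat_lit 4) [nat_lit 111] (Rl.cmp (nat_lit 243) (nat_lit 4800)))) (FT.leaf (Fct.mk false (nat_lit 33) (nat_lit 0) (nat_lit 33) [nat_lit 5, nat_lit 6, nat_lit 4, nat_lit 5, nat_lit 3, nat_lit 4, nat_lit 2, nat_lit 3, nat_lit 8, nat_lit 1, nat_lit 2, nat_lit 3, nat_lit 4, nat_lit 5, nat_lit 6, nat_lit 7, nat_lit 9, nat_lit 4, nat_lit 3, nat_lit 2, nat_lit 8, nat_lit 3, nat_lit 11, nat_lit 1, nat_lit 12, nat_lit 15, nat_lit 14, nat_lit 13, nat_lit 12] (Rl.cmp (nat_lit 4402) (nat_lit 4456)))))) (FT.node (nat_lit 4804) (FT.leaf (Fct.mk false (nat_lit 33) (nat_lit 0) (nat_lit 33) [nat_lit 1, nat_lit 2, nat_lit 3, nat_lit 8, nat_lit 7, nat_lit 5, nat_lit 6, nat_lit 4, nat_lit 5, nat_lit 3, nat_lit 4, nat_lit 2, nat_lit 3, nat_lit 8, nat_lit 1, nat_lit 2, nat_lit 3, nat_lit 4, nat_lit 5,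 nat_lit 6, nat_lit 7, nat_lit 8, nat_lit 3, nat_lit 4, nat_lit 2, nat_lit 3, nat_lit 8, nat_lit 1, nat_lit 2, nat_lit 3, nat_lit 4, nat_lit 5, nat_lit 2, nat_lit 1, nat_lit 3, nat_lit 2, nat_lit 0, nat_lit 1, nat_lit 4, nat_lit 3, nat_lit 2, nat_lit 8, nat_lit 3, nat_lit 8, nat_lit 10, nat_lit 1, nat_lit 14, nat_lit 13] (Rl.cmp (nat_lit 4605) (nat_lit 4802)))) (FT.node (nat_lit 4805) (FT.leaf (Fct.mk false (nat_lit 33) (nat_lit 0) (nat_lit 33) [nat_lit 8, nat_lit 6, nat_lit 7, nat_lit 5, nat_lit 6, nat_lit 4, nat_lit 5, nat_lit 3, nat_lit 4, nat_lit 2, nat_lit 3, nat_lit 8, nat_lit 1, nat_lit 2, nat_lit 3, nat_lit 4, nat_lit 5, nat_lit 6, nat_lit 7, nat_lit 5, nat_lit 4, nat_lit 2, nat_lit 3, nat_lit 8, nat_lit 1, nat_lit 2, nat_lit 3, nat_lit 4, nat_lit 5, nat_lit 1, nat_lit 8, nat_lit 4, nat_lit 3, nat_lit 2, nat_lit 0, nat_lit 1, nat_lit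 9, nat_lit 4, nat_lit 3, nat_lit 2, nat_lit 8, nat_lit 3, nat_lit 11, nat_lit 9, nat_lit 10, nat_lit 2, nat_lit 8, nat_lit 10, nat_lit 1, nat_lit 15, nat_lit 14, nat_lit 13] (Rl.cmp (nat_lit 4402) (nat_lit 4803)))) (FT.leaf (Fct.mk false (nat_lit 33) (nat_lit 0) (nat_lit 33) [nat_lit 5, nat_lit 4, nat_lit 3, nat_lit 8, nat_lit 6, nat_lit 7, nat_lit 5, nat_lit 6, nat_lit 4, nat_lit 5, nat_lit 3, nat_lit 4, nat_lit 1, nat_lit 2, nat_lit 3, nat_lit 8, nat_lit 0, nat_lit 1, nat_lit 2, nat_lit 3, nat_lit 4, nat_lit 5, nat_lit 6, nat_lit 7, nat_lit 2, nat_lit 3, nat_lit 8, nat_lit 6, nat_lit 4, nat_lit 5, nat_lit 3, nat_lit 4, nat_lit 2, nat_lit 3, nat_lit 8, nat_lit 0, nat_lit 1, nat_lit 2, nat_lit 3, nat_lit 4, nat_lit 5, nat_lit 3, nat_lit 2, nat_lit 1, nat_lit 4, nat_lit 3, nat_lit 2, nat_lit 0, nat_lit 1, nat_lit 9, nat_lit 4, nat_lit 3, nat_lit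 2, nat_lit 8, nat_lit 3, nat_lit 0, nat_lit 2, nat_lit 8, nat_lit 12, nat_lit 15, nat_lit 14, nat_lit 16, nat_lit 8, nat_lit 18, nat_lit 16] (Rl.cmp (nat_lit 4456) (nat_lit 4804))))))) (FT.node (nat_lit 4809) (FT.node (nat_lit 4807) (FT.leaf (Fct.mk false (nat_lit 33) (nat_lit 0) (nat_lit 33) [nat_lit 7, nat_lit 6, nat_lit 5, nat_lit 3, nat_lit 4, nat_lit 1, nat_lit 2, nat_lit 3, nat_lit 8, nat_lit 0, nat_lit 1, nat_lit 2, nat_lit 3, nat_lit 4, nat_lit 5, nat_lit 6, nat_lit 7, nat_lit 3, nat_lit 2, nat_lit 0, nat_lit 1, nat_lit 4, nat_lit 3, nat_lit 2, nat_lit 8, nat_lit 3, nat_lit 11, nat_lit 8, nat_lit 10, nat_lit 1, nat_lit 8, nat_lit 12, nat_lit 15, nat_lit 17, nat_lit 12, nat_lit 16] (Rl.cmp (nat_lit 4605) (nat_lit 4805)))) (FT.node (nat_lit 4808) (FT.leaf (Fct.mk false (nat_lit 33) (nat_lit 0) (nat_lit 33) [nat_lit 4, nat_lit 2, nat_lit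 3, nat_lit 8, nat_lit 1, nat_lit 2, nat_lit 3, nat_lit 4, nat_lit 5, nat_lit 6, nat_lit 7, nat_lit 2, nat_lit 3, nat_lit 8, nat_lit 0, nat_lit 1, nat_lit 2, nat_lit 3, nat_lit 4, nat_lit 5, nat_lit 3, nat_lit 2, nat_lit 1, nat_lit 9, nat_lit 4, nat_lit 3, nat_lit 2, nat_lit 8, nat_lit 3, nat_lit 14, nat_lit 8, nat_lit 18] (Rl.cmp (nat_lit 4456) (nat_lit 4456)))) (FT.leaf (Fct.mk false (nat_lit 33) (nat_lit 0) (nat_lit 33) [nat_lit 8, nat_lit 7, nat_lit 6, nat_lit 5, nat_lit 2, nat_lit 3, nat_lit 4, nat_lit 1, nat_lit 2, nat_lit 3, nat_lit 8, nat_lit 0, nat_lit 1, nat_lit 2, nat_lit 3, nat_lit 4, nat_lit 5, nat_lit 6, nat_lit 7, nat_lit 2, nat_lit 3, nat_lit 8, nat_lit 6, nat_lit 4, nat_lit 5, nat_lit 3, nat_lit 4, nat_lit 2, nat_lit 3, nat_lit 8, nat_lit 1, nat_lit 2, nat_lit 3, nat_lit 4, nat_lit 5, nat_lit 1, nat_lit 2, nat_lit 0, nat_lit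 1, nat_lit 3, nat_lit 2, nat_lit 8, nat_lit 3, nat_lit 10, nat_lit 9, nat_lit 2, nat_lit 15, nat_lit 13, nat_lit 19] (Rl.cmp (nat_lit 4605) (nat_lit 4807)))))) (FT.node (nat_lit 4810) (FT.leaf (Fct.mk false (nat_lit 33) (nat_lit 0) (nat_lit 33) [nat_lit 3, nat_lit 8, nat_lit 1, nat_lit 2, nat_lit 3, nat_lit 4, nat_lit 5, nat_lit 6, nat_lit 7, nat_lit 4, nat_lit 2, nat_lit 3, nat_lit 8, nat_lit 5, nat_lit 6, nat_lit 4, nat_lit 5, nat_lit 3, nat_lit 4, nat_lit 2, nat_lit 3, nat_lit 8, nat_lit 1, nat_lit 2, nat_lit 3, nat_lit 4, nat_lit 5, nat_lit 8, nat_lit 4, nat_lit 3, nat_lit 2, nat_lit 0, nat_lit 1, nat_lit 9, nat_lit 4, nat_lit 3, nat_lit 2, nat_lit 8, nat_lit 3, nat_lit 10, nat_lit 0, nat_lit 12, nat_lit 15, nat_lit 14, nat_lit 12, nat_lit 19] (Rl.cmp (nat_lit 4456) (nat_lit 4808)))) (FT.node (nat_lit 4811) (FT.leaf (Fct.mk false (nat_lit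 33) (nat_lit 0) (nat_lit 33) [nat_lit 1, nat_lit 2, nat_lit 3, nat_lit 8, nat_lit 6, nat_lit 7, nat_lit 5, nat_lit 6, nat_lit 4, nat_lit 5, nat_lit 3, nat_lit 4, nat_lit 2, nat_lit 3, nat_lit 8, nat_lit 1, nat_lit 2, nat_lit 3, nat_lit 4, nat_lit 5, nat_lit 6, nat_lit 7, nat_lit 4, nat_lit 3, nat_lit 8, nat_lit 2, nat_lit 3, nat_lit 4, nat_lit 5, nat_lit 0, nat_lit 1, nat_lit 9, nat_lit 4, nat_lit 3, nat_lit 2, nat_lit 8, nat_lit 3, nat_lit 9, nat_lit 15, nat_lit 14, nat_lit 13, nat_lit 12, nat_lit 19] (Rl.cmp (nat_lit 4402) (nat_lit 4809)))) (FT.leaf (Fct.mk false (nat_lit 33) (nat_lit 0) (nat_lit 33) [nat_lit 8, nat_lit 6, nat_lit 5, nat_lit 3, nat_lit 4, nat_lit 2, nat_lit 3, nat_lit 8, nat_lit 0, nat_lit 1, nat_lit 2, nat_lit 3, nat_lit 4, nat_lit 5, nat_lit 6, nat_lit 7, nat_lit 5, nat_lit 4, nat_lit 2, nat_lit 3, nat_lit 8, nat_lit 1,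 nat_lit 2, nat_lit 3, nat_lit 4, nat_lit 5, nat_lit 1, nat_lit 8, nat_lit 3, nat_lit 2, nat_lit 0, nat_lit 1, nat_lit 4, nat_lit 3, nat_lit 2, nat_lit 8, nat_lit 3, nat_lit 2, nat_lit 8, nat_lit 16, nat_lit 14, nat_lit 12, nat_lit 19] (Rl.cmp (nat_lit 4605) (nat_lit 4810)))))))) (FT.node (nat_lit 4818) (FT.node (nat_lit 4815) (FT.node (nat_lit 4813) (FT.leaf (Fct.mk true (nat_lit 33) (nat_lit 1532) (nat_lit 33) [nat_lit 8, nat_lit 3, nat_lit 4, nat_lit 1, nat_lit 2, nat_lit 3, nat_lit 8, nat_lit 6, nat_lit 7, nat_lit 5, nat_lit 6, nat_lit 4, nat_lit 5, nat_lit 3, nat_lit 4, nat_lit 2, nat_lit 3, nat_lit 8, nat_lit 1, nat_lit 2, nat_lit 3, nat_lit 4, nat_lit 5, nat_lit 6, nat_lit 7, nat_lit 6, nat_lit 1, nat_lit 4, nat_lit 3, nat_lit 2, nat_lit 8, nat_lit 3, nat_lit 9, nat_lit 2, nat_lit 8, nat_lit 16, nat_lit 14, nat_lit 12, nat_lit 16] (Rl.rel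 (nat_lit 0) [nat_lit 6, nat_lit 5, nat_lit 4, nat_lit 3, nat_lit 8, nat_lit 0, nat_lit 1, nat_lit 2, nat_lit 3, nat_lit 4, nat_lit 5, nat_lit 6, nat_lit 7, nat_lit 6, nat_lit 4, nat_lit 3, nat_lit 2, nat_lit 0, nat_lit 1, nat_lit 9, nat_lit 4, nat_lit 3, nat_lit 2, nat_lit 8, nat_lit 3, nat_lit 11, nat_lit 9, nat_lit 10, nat_lit 2, nat_lit 8, nat_lit 10, nat_lit 1, nat_lit 12, nat_lit 15, nat_lit 17, nat_lit 12, nat_lit 18] (nat_lit 33) (nat_lit 2) [nat_lit 4609, nat_lit 4610, nat_lit 4801, nat_lit 4393] []))) (FT.node (nat_lit 4814) (FT.leaf (Fct.mk true (nat_lit 33) (nat_lit 6) (nat_lit 33) [nat_lit 6, nat_lit 5, nat_lit 4, nat_lit 3, nat_lit 8, nat_lit 0, nat_lit 1, nat_lit 2, nat_lit 3, nat_lit 4, nat_lit 5, nat_lit 6, nat_lit 7, nat_lit 2, nat_lit 3, nat_lit 8, nat_lit 4, nat_lit 3, nat_lit 2, nat_lit 0, nat_lit 1, nat_lit 9, nat_lit 4,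 nat_lit 3, nat_lit 2, nat_lit 8, nat_lit 3, nat_lit 11, nat_lit 2, nat_lit 8, nat_lit 10, nat_lit 1, nat_lit 16, nat_lit 15, nat_lit 14, nat_lit 17, nat_lit 12] (Rl.t1 (nat_lit 4812) (nat_lit 4806)))) (FT.leaf (Fct.mk true (nat_lit 33) (nat_lit 13332) (nat_lit 33) [nat_lit 8, nat_lit 6, nat_lit 5, nat_lit 3, nat_lit 4, nat_lit 2, nat_lit 3, nat_lit 8, nat_lit 0, nat_lit 1, nat_lit 2, nat_lit 3, nat_lit 4, nat_lit 5, nat_lit 6, nat_lit 7, nat_lit 1, nat_lit 2, nat_lit 0, nat_lit 1, nat_lit 4, nat_lit 3, nat_lit 2, nat_lit 8, nat_lit 3, nat_lit 9, nat_lit 2, nat_lit 8, nat_lit 12, nat_lit 15, nat_lit 13, nat_lit 12, nat_lit 19, nat_lit 16] (Rl.inv (nat_lit 4813)))))) (FT.node (nat_lit 4816) (FT.leaf (Fct.mk true (nat_lit 33) (nat_lit 36) (nat_lit 33) [nat_lit 5, nat_lit 4, nat_lit 2, nat_lit 3, nat_lit 8, nat_lit 0, nat_lit 1, nat_lit 2, nat_lit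 3, nat_lit 4, nat_lit 5, nat_lit 3, nat_lit 2, nat_lit 0, nat_lit 1, nat_lit 4, nat_lit 3, nat_lit 2, nat_lit 8, nat_lit 3, nat_lit 1, nat_lit 0, nat_lit 2, nat_lit 12, nat_lit 15, nat_lit 14, nat_lit 8, nat_lit 18] (Rl.t1 (nat_lit 4814) (nat_lit 4811)))) (FT.node (nat_lit 4817) (FT.leaf (Fct.mk false (nat_lit 4) (nat_lit 0) (nat_lit 4) [nat_lit 5, nat_lit 6, nat_lit 4, nat_lit 5, nat_lit 3, nat_lit 4, nat_lit 2, nat_lit 3, nat_lit 8, nat_lit 1, nat_lit 2, nat_lit 3, nat_lit 4, nat_lit 5, nat_lit 1, nat_lit 9, nat_lit 4, nat_lit 3, nat_lit 2, nat_lit 8, nat_lit 3, nat_lit 9, nat_lit 2, nat_lit 12, nat_lit 8, nat_lit 16, nat_lit 14, nat_lit 18, nat_lit 16] (Rl.cmp (nat_lit 312) (nat_lit 1995)))) (FT.leaf (Fct.mk false (nat_lit 4) (nat_lit 0) (nat_lit 4) [nat_lit 5, nat_lit 4, nat_lit 3, nat_lit 8, nat_lit 6, nat_lit 7, nat_lit 5, nat_lit 6,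 nat_lit 4, nat_lit 5, nat_lit 3, nat_lit 4, nat_lit 2, nat_lit 3, nat_lit 8, nat_lit 1, nat_lit 2, nat_lit 3, nat_lit 4, nat_lit 5, nat_lit 6, nat_lit 7, nat_lit 6, nat_lit 3, nat_lit 2, nat_lit 8, nat_lit 3, nat_lit 2, nat_lit 8, nat_lit 16, nat_lit 14, nat_lit 12, nat_lit 16] (Rl.cmp (nat_lit 2372) (nat_lit 4816))))))) (FT.node (nat_lit 4821) (FT.node (nat_lit 4819) (FT.leaf (Fct.mk false (nat_lit 33) (nat_lit 0) (nat_lit 33) [nat_lit 4, nat_lit 3, nat_lit 8, nat_lit 2, nat_lit 3, nat_lit 4, nat_lit 1, nat_lit 2, nat_lit 3, nat_lit 8, nat_lit 0, nat_lit 1, nat_lit 2, nat_lit 3, nat_lit 4, nat_lit 5, nat_lit 6, nat_lit 7, nat_lit 6, nat_lit 4, nat_lit 5, nat_lit 2, nat_lit 3, nat_lit 4, nat_lit 1, nat_lit 2, nat_lit 3, nat_lit 8, nat_lit 0, nat_lit 1, nat_lit 2, nat_lit 3, nat_lit 4, nat_lit 5, nat_lit 8, nat_lit 3, nat_lit 2, nat_lit 1, nat_lit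 9, nat_lit 4, nat_lit 3, nat_lit 2, nat_lit 8, nat_lit 3, nat_lit 2, nat_lit 14, nat_lit 13, nat_lit 19] (Rl.cmp (nat_lit 4605) (nat_lit 4402)))) (FT.node (nat_lit 4820) (FT.leaf (Fct.mk false (nat_lit 33) (nat_lit 0) (nat_lit 33) [nat_lit 7, nat_lit 6, nat_lit 5, nat_lit 3, nat_lit 4, nat_lit 1, nat_lit 2, nat_lit 3, nat_lit 8, nat_lit 0, nat_lit 1, nat_lit 2, nat_lit 3, nat_lit 4, nat_lit 5, nat_lit 6, nat_lit 7, nat_lit 8, nat_lit 3, nat_lit 4, nat_lit 2, nat_lit 3, nat_lit 8, nat_lit 1, nat_lit 2, nat_lit 3, nat_lit 4, nat_lit 5, nat_lit 8, nat_lit 3, nat_lit 2, nat_lit 0, nat_lit 1, nat_lit 9, nat_lit 4, nat_lit 3, nat_lit 2, nat_lit 8, nat_lit 3, nat_lit 0, nat_lit 2, nat_lit 16, nat_lit 14, nat_lit 17, nat_lit 12] (Rl.cmp (nat_lit 4456) (nat_lit 4818)))) (FT.leaf (Fct.mk false (nat_lit 33) (nat_lit 0) (nat_lit 33) [nat_lit 8, nat_lit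 6, nat_lit 5, nat_lit 3, nat_lit 4, nat_lit 2, nat_lit 3, nat_lit 8, nat_lit 0, nat_lit 1, nat_lit 2, nat_lit 3, nat_lit 4, nat_lit 5, nat_lit 6, nat_lit 7, nat_lit 3, nat_lit 8, nat_lit 4, nat_lit 5, nat_lit 3, nat_lit 4, nat_lit 2, nat_lit 3, nat_lit 8, nat_lit 1, nat_lit 2, nat_lit 3, nat_lit 4, nat_lit 5, nat_lit 4, nat_lit 3, nat_lit 2, nat_lit 1, nat_lit 9, nat_lit 4, nat_lit 3, nat_lit 2, nat_lit 8, nat_lit 3, nat_lit 2, nat_lit 8, nat_lit 10, nat_lit 1, nat_lit 8, nat_lit 12, nat_lit 15, nat_lit 17, nat_lit 18] (Rl.cmp (nat_lit 4402) (nat_lit 4819)))))) (FT.node (nat_lit 4823) (FT.node (nat_lit 4822) (FT.leaf (Fct.mk false (nat_lit 33) (nat_lit 0) (nat_lit 33) [nat_lit 8, nat_lit 6, nat_lit 5, nat_lit 2, nat_lit 3, nat_lit 4, nat_lit 1, nat_lit 2, nat_lit 3, nat_lit 8, nat_lit 0, nat_lit 1, nat_lit 2, nat_lit 3, nat_lit 4, nat_lit 5,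 nat_lit 6, nat_lit 7, nat_lit 4, nat_lit 5, nat_lit 3, nat_lit 4, nat_lit 2, nat_lit 3, nat_lit 8, nat_lit 1, nat_lit 2, nat_lit 3, nat_lit 4, nat_lit 5, nat_lit 2, nat_lit 1, nat_lit 4, nat_lit 3, nat_lit 2, nat_lit 8, nat_lit 3, nat_lit 0, nat_lit 8, nat_lit 12, nat_lit 15, nat_lit 14, nat_lit 17, nat_lit 12, nat_lit 16] (Rl.cmp (nat_lit 4456) (nat_lit 4820)))) (FT.leaf (Fct.mk false (nat_lit 33) (nat_lit 0) (nat_lit 33) [nat_lit 6, nat_lit 5, nat_lit 2, nat_lit 3, nat_lit 4, nat_lit 1, nat_lit 2, nat_lit 3, nat_lit 8, nat_lit 0, nat_lit 1, nat_lit 2, nat_lit 3, nat_lit 4, nat_lit 5, nat_lit 6, nat_lit 7, nat_lit 6, nat_lit 5, nat_lit 3, nat_lit 4, nat_lit 1, nat_lit 2, nat_lit 3, nat_lit 8, nat_lit 0, nat_lit 1, nat_lit 2, nat_lit 3, nat_lit 4, nat_lit 5, nat_lit 3, nat_lit 8, nat_lit 4, nat_lit 3, nat_lit 2, nat_lit 1, nat_lit 9, nat_lit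 4, nat_lit 3, nat_lit 2, nat_lit 8, nat_lit 3, nat_lit 2, nat_lit 10, nat_lit 1, nat_lit 16, nat_lit 14, nat_lit 16, nat_lit 8, nat_lit 19] (Rl.cmp (nat_lit 4605) (nat_lit 4821))))) (FT.node (nat_lit 4824) (FT.leaf (Fct.mk false (nat_lit 33) (nat_lit 0) (nat_lit 33) [nat_lit 5, nat_lit 4, nat_lit 3, nat_lit 8, nat_lit 6, nat_lit 7, nat_lit 5, nat_lit 6, nat_lit 4, nat_lit 5, nat_lit 3, nat_lit 4, nat_lit 2, nat_lit 3, nat_lit 8, nat_lit 1, nat_lit 2, nat_lit 3, nat_lit 4, nat_lit 5, nat_lit 6, nat_lit 7, nat_lit 3, nat_lit 8, nat_lit 5, nat_lit 6, nat_lit 4, nat_lit 5, nat_lit 3, nat_lit 4, nat_lit 2, nat_lit 3, nat_lit 8, nat_lit 0, nat_lit 1, nat_lit 2, nat_lit 3, nat_lit 4, nat_lit 5, nat_lit 2, nat_lit 3, nat_lit 8, nat_lit 4, nat_lit 3, nat_lit 2, nat_lit 1, nat_lit 9, nat_lit 4, nat_lit 3, nat_lit 2, nat_lit 8, nat_lit 3, nat_lit 2, nat_lit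 10, nat_lit 1, nat_lit 15, nat_lit 14, nat_lit 18] (Rl.cmp (nat_lit 4456) (nat_lit 4822)))) (FT.leaf (Fct.mk true (nat_lit 32) (nat_lit 4171) (nat_lit 33) [nat_lit 4, nat_lit 3, nat_lit 8, nat_lit 7, nat_lit 5, nat_lit 6, nat_lit 4, nat_lit 5, nat_lit 3, nat_lit 4, nat_lit 2, nat_lit 3, nat_lit 8, nat_lit 0, nat_lit 1, nat_lit 2, nat_lit 3, nat_lit 4, nat_lit 5, nat_lit 6, nat_lit 7, nat_lit 8, nat_lit 5, nat_lit 2, nat_lit 3, nat_lit 4, nat_lit 1, nat_lit 2, nat_lit 3, nat_lit 8, nat_lit 0, nat_lit 1, nat_lit 2, nat_lit 3, nat_lit 4, nat_lit 5, nat_lit 0, nat_lit 1, nat_lit 9, nat_lit 4, nat_lit 3, nat_lit 2, nat_lit 8, nat_lit 3, nat_lit 11, nat_lit 1, nat_lit 15, nat_lit 14, nat_lit 17, nat_lit 12, nat_lit 19] (Rl.rel (nat_lit 0) [nat_lit 6, nat_lit 5, nat_lit 4, nat_lit 3, nat_lit 8, nat_lit 0, nat_lit 1, nat_lit 2, nat_lit 3, nat_lit 4,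 nat_lit 5, nat_lit 6, nat_lit 7, nat_lit 2, nat_lit 3, nat_lit 4, nat_lit 5, nat_lit 3, nat_lit 2, nat_lit 0, nat_lit 1, nat_lit 4, nat_lit 3, nat_lit 2, nat_lit 8, nat_lit 3, nat_lit 11, nat_lit 10, nat_lit 2, nat_lit 8, nat_lit 10, nat_lit 1, nat_lit 12, nat_lit 15, nat_lit 17, nat_lit 12, nat_lit 19, nat_lit 16] (nat_lit 33) (nat_lit 2) [nat_lit 4609, nat_lit 4610, nat_lit 4817, nat_lit 2992] [])))))))) (FT.node (nat_lit 4837) (FT.node (nat_lit 4831) (FT.node (nat_lit 4828) (FT.node (nat_lit 4826) (FT.leaf (Fct.mk true (nat_lit 32) (nat_lit 110) (nat_lit 33) [nat_lit 5, nat_lit 4, nat_lit 3, nat_lit 8, nat_lit 2, nat_lit 3, nat_lit 4, nat_lit 1, nat_lit 2, nat_lit 3, nat_lit 8, nat_lit 5, nat_lit 6, nat_lit 4, nat_lit 5, nat_lit 3, nat_lit 4, nat_lit 2, nat_lit 3, nat_lit 8, nat_lit 1, nat_lit 2, nat_lit 3, nat_lit 4, nat_lit 5, nat_lit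 6, nat_lit 7, nat_lit 6, nat_lit 5, nat_lit 4, nat_lit 2, nat_lit 3, nat_lit 8, nat_lit 0, nat_lit 1, nat_lit 2, nat_lit 3, nat_lit 4, nat_lit 5, nat_lit 3, nat_lit 2, nat_lit 1, nat_lit 8, nat_lit 3, nat_lit 2, nat_lit 0, nat_lit 1, nat_lit 9, nat_lit 4, nat_lit 3, nat_lit 2, nat_lit 8, nat_lit 3, nat_lit 8, nat_lit 12, nat_lit 15, nat_lit 13, nat_lit 12, nat_lit 16] (Rl.t1 (nat_lit 4824) (nat_lit 4197)))) (FT.node (nat_lit 4827) (FT.leaf (Fct.mk true (nat_lit 33) (nat_lit 21965) (nat_lit 32) [nat_lit 4, nat_lit 2, nat_lit 3, nat_lit 8, nat_lit 5, nat_lit 6, nat_lit 4, nat_lit 5, nat_lit 3, nat_lit 4, nat_lit 2, nat_lit 3, nat_lit 8, nat_lit 0, nat_lit 1, nat_lit 2, nat_lit 3, nat_lit 4, nat_lit 5, nat_lit 6, nat_lit 7, nat_lit 6, nat_lit 5, nat_lit 4, nat_lit 3, nat_lit 8, nat_lit 2, nat_lit 3, nat_lit 4, nat_lit 1, nat_lit 2, nat_lit 3,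 nat_lit 8, nat_lit 5, nat_lit 6, nat_lit 4, nat_lit 5, nat_lit 3, nat_lit 4, nat_lit 2, nat_lit 3, nat_lit 8, nat_lit 1, nat_lit 2, nat_lit 3, nat_lit 4, nat_lit 5, nat_lit 1, nat_lit 9, nat_lit 4, nat_lit 3, nat_lit 2, nat_lit 8, nat_lit 3, nat_lit 9, nat_lit 15, nat_lit 13, nat_lit 12, nat_lit 18] (Rl.inv (nat_lit 4825)))) (FT.leaf (Fct.mk true (nat_lit 33) (nat_lit 50) (nat_lit 32) [nat_lit 8, nat_lit 5, nat_lit 2, nat_lit 3, nat_lit 4, nat_lit 1, nat_lit 2, nat_lit 3, nat_lit 8, nat_lit 0, nat_lit 1, nat_lit 2, nat_lit 3, nat_lit 4, nat_lit 5, nat_lit 6, nat_lit 7, nat_lit 5, nat_lit 4, nat_lit 3, nat_lit 8, nat_lit 1, nat_lit 2, nat_lit 3, nat_lit 4, nat_lit 5, nat_lit 3, nat_lit 8, nat_lit 4, nat_lit 3, nat_lit 2, nat_lit 0, nat_lit 1, nat_lit 9, nat_lit 4, nat_lit 3, nat_lit 2, nat_lit 8, nat_lit 3, nat_lit 10, nat_lit 2, nat_lit 8,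 nat_lit 10, nat_lit 1, nat_lit 16, nat_lit 8] (Rl.t1 (nat_lit 4826) (nat_lit 4823)))))) (FT.node (nat_lit 4829) (FT.leaf (Fct.mk false (nat_lit 4) (nat_lit 0) (nat_lit 4) [nat_lit 5, nat_lit 4, nat_lit 3, nat_lit 8, nat_lit 6, nat_lit 7, nat_lit 5, nat_lit 6, nat_lit 4, nat_lit 5, nat_lit 3, nat_lit 4, nat_lit 2, nat_lit 3, nat_lit 8, nat_lit 1, nat_lit 2, nat_lit 3, nat_lit 4, nat_lit 5, nat_lit 6, nat_lit 7, nat_lit 4, nat_lit 3, nat_lit 8, nat_lit 2, nat_lit 3, nat_lit 4, nat_lit 5, nat_lit 3, nat_lit 9, nat_lit 2, nat_lit 16, nat_lit 14, nat_lit 8, nat_lit 18, nat_lit 16] (Rl.cmp (nat_lit 241) (nat_lit 2372)))) (FT.node (nat_lit 4830) (FT.leaf (Fct.mk false (nat_lit 33) (nat_lit 0) (nat_lit 33) [nat_lit 4, nat_lit 2, nat_lit 3, nat_lit 8, nat_lit 1, nat_lit 2, nat_lit 3, nat_lit 4, nat_lit 5, nat_lit 6, nat_lit 7, nat_lit 5, nat_lit 10,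 nat_lit 0, nat_lit 16, nat_lit 14, nat_lit 12, nat_lit 18] (Rl.cmp (nat_lit 4400) (nat_lit 4456)))) (FT.leaf (Fct.mk false (nat_lit 33) (nat_lit 0) (nat_lit 33) [nat_lit 8, nat_lit 3, nat_lit 4, nat_lit 1, nat_lit 2, nat_lit 3, nat_lit 8, nat_lit 5, nat_lit 6, nat_lit 4, nat_lit 5, nat_lit 3, nat_lit 4, nat_lit 2, nat_lit 3, nat_lit 8, nat_lit 1, nat_lit 2, nat_lit 3, nat_lit 4, nat_lit 5, nat_lit 6, nat_lit 7, nat_lit 3, nat_lit 8, nat_lit 2, nat_lit 3, nat_lit 4, nat_lit 1, nat_lit 2, nat_lit 3, nat_lit 8, nat_lit 5, nat_lit 6, nat_lit 4, nat_lit 5, nat_lit 3, nat_lit 4, nat_lit 2, nat_lit 3, nat_lit 8, nat_lit 1, nat_lit 2, nat_lit 3, nat_lit 4, nat_lit 5, nat_lit 1, nat_lit 2, nat_lit 3, nat_lit 8, nat_lit 4, nat_lit 3, nat_lit 2, nat_lit 1, nat_lit 9, nat_lit 4, nat_lit 3, nat_lit 2, nat_lit 8, nat_lit 3, nat_lit 11, nat_lit 10, nat_lit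 15, nat_lit 14, nat_lit 8, nat_lit 18, nat_lit 16] (Rl.cmp (nat_lit 4402) (nat_lit 4829))))))) (FT.node (nat_lit 4834) (FT.node (nat_lit 4832) (FT.leaf (Fct.mk false (nat_lit 33) (nat_lit 0) (nat_lit 33) [nat_lit 4, nat_lit 3, nat_lit 8, nat_lit 7, nat_lit 5, nat_lit 6, nat_lit 4, nat_lit 5, nat_lit 3, nat_lit 4, nat_lit 2, nat_lit 3, nat_lit 8, nat_lit 1, nat_lit 2, nat_lit 3, nat_lit 4, nat_lit 5, nat_lit 6, nat_lit 7, nat_lit 0, nat_lit 1, nat_lit 2, nat_lit 3, nat_lit 4, nat_lit 5, nat_lit 1, nat_lit 3, nat_lit 8, nat_lit 4, nat_lit 3, nat_lit 2, nat_lit 0, nat_lit 1, nat_lit 9, nat_lit 4, nat_lit 3, nat_lit 2, nat_lit 8, nat_lit 3, nat_lit 11, nat_lit 9, nat_lit 10, nat_lit 2, nat_lit 8, nat_lit 10, nat_lit 1, nat_lit 12, nat_lit 8, nat_lit 16, nat_lit 14, nat_lit 8, nat_lit 16] (Rl.cmp (nat_lit 4605) (nat_lit 4830)))) (FT.node (nat_lit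 4833) (FT.leaf (Fct.mk false (nat_lit 33) (nat_lit 0) (nat_lit 33) [nat_lit 4, nat_lit 2, nat_lit 3, nat_lit 8, nat_lit 1, nat_lit 2, nat_lit 3, nat_lit 4, nat_lit 5, nat_lit 6, nat_lit 7, nat_lit 2, nat_lit 3, nat_lit 4, nat_lit 1, nat_lit 2, nat_lit 3, nat_lit 8, nat_lit 0, nat_lit 1, nat_lit 2, nat_lit 3, nat_lit 4, nat_lit 5, nat_lit 2, nat_lit 3, nat_lit 8, nat_lit 4, nat_lit 3, nat_lit 2, nat_lit 0, nat_lit 1, nat_lit 9, nat_lit 4, nat_lit 3, nat_lit 2, nat_lit 8, nat_lit 3, nat_lit 9, nat_lit 12, nat_lit 8, nat_lit 16, nat_lit 14, nat_lit 17, nat_lit 12, nat_lit 16] (Rl.cmp (nat_lit 4400) (nat_lit 4831)))) (FT.leaf (Fct.mk false (nat_lit 33) (nat_lit 0) (nat_lit 33) [nat_lit 6, nat_lit 5, nat_lit 4, nat_lit 3, nat_lit 8, nat_lit 2, nat_lit 3, nat_lit 4, nat_lit 1, nat_lit 2, nat_lit 3, nat_lit 8, nat_lit 5, nat_lit 6, nat_lit 4, nat_lit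 5, nat_lit 3, nat_lit 4, nat_lit 2, nat_lit 3, nat_lit 8, nat_lit 1, nat_lit 2, nat_lit 3, nat_lit 4, nat_lit 5, nat_lit 6, nat_lit 7, nat_lit 2, nat_lit 3, nat_lit 8, nat_lit 5, nat_lit 6, nat_lit 4, nat_lit 5, nat_lit 3, nat_lit 4, nat_lit 2, nat_lit 3, nat_lit 8, nat_lit 0, nat_lit 1, nat_lit 2, nat_lit 3, nat_lit 4, nat_lit 5, nat_lit 4, nat_lit 3, nat_lit 2, nat_lit 1, nat_lit 8, nat_lit 3, nat_lit 2, nat_lit 0, nat_lit 1, nat_lit 4, nat_lit 3, nat_lit 2, nat_lit 8, nat_lit 3, nat_lit 8, nat_lit 10, nat_lit 1, nat_lit 8, nat_lit 12, nat_lit 15, nat_lit 14, nat_lit 13, nat_lit 12, nat_lit 19, nat_lit 16] (Rl.cmp (nat_lit 4456) (nat_lit 4832)))))) (FT.node (nat_lit 4835) (FT.leaf (Fct.mk false (nat_lit 32) (nat_lit 0) (nat_lit 32) [nat_lit 3, nat_lit 8, nat_lit 5, nat_lit 2, nat_lit 3, nat_lit 4, nat_lit 1, nat_lit 2, nat_lit 3, nat_lit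 8, nat_lit 6, nat_lit 7, nat_lit 5, nat_lit 6, nat_lit 4, nat_lit 5, nat_lit 3, nat_lit 4, nat_lit 2, nat_lit 3, nat_lit 8, nat_lit 1, nat_lit 2, nat_lit 3, nat_lit 4, nat_lit 5, nat_lit 6, nat_lit 7, nat_lit 8, nat_lit 6, nat_lit 5, nat_lit 3, nat_lit 4, nat_lit 2, nat_lit 3, nat_lit 8, nat_lit 1, nat_lit 2, nat_lit 3, nat_lit 4, nat_lit 5, nat_lit 1, nat_lit 3, nat_lit 2, nat_lit 0, nat_lit 1, nat_lit 4, nat_lit 3, nat_lit 2, nat_lit 8, nat_lit 3, nat_lit 11, nat_lit 8, nat_lit 10, nat_lit 1, nat_lit 16, nat_lit 15, nat_lit 14, nat_lit 8] (Rl.cmp (nat_lit 3456) (nat_lit 3047)))) (FT.node (nat_lit 4836) (FT.leaf (Fct.mk false (nat_lit 32) (nat_lit 0) (nat_lit 32) [nat_lit 3, nat_lit 8, nat_lit 5, nat_lit 2, nat_lit 3, nat_lit 4, nat_lit 1, nat_lit 2, nat_lit 3, nat_lit 8, nat_lit 6, nat_lit 7, nat_lit 5, nat_lit 6, nat_lit 4, nat_lit 5, nat_lit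 3, nat_lit 4, nat_lit 2, nat_lit 3, nat_lit 8, nat_lit 1, nat_lit 2, nat_lit 3, nat_lit 4, nat_lit 5, nat_lit 6, nat_lit 7, nat_lit 8, nat_lit 3, nat_lit 4, nat_lit 2, nat_lit 3, nat_lit 8, nat_lit 1, nat_lit 2, nat_lit 3, nat_lit 4, nat_lit 5, nat_lit 0, nat_lit 1, nat_lit 2, nat_lit 8, nat_lit 3, nat_lit 0, nat_lit 17, nat_lit 12, nat_lit 16] (Rl.cmp (nat_lit 3004) (nat_lit 4834)))) (FT.leaf (Fct.mk false (nat_lit 32) (nat_lit 0) (nat_lit 32) [nat_lit 3, nat_lit 4, nat_lit 2, nat_lit 3, nat_lit 8, nat_lit 0, nat_lit 1, nat_lit 2, nat_lit 3, nat_lit 4, nat_lit 5, nat_lit 3, nat_lit 8, nat_lit 4, nat_lit 3, nat_lit 2, nat_lit 0, nat_lit 1, nat_lit 9, nat_lit 4, nat_lit 3, nat_lit 2, nat_lit 8, nat_lit 3, nat_lit 11, nat_lit 10, nat_lit 15, nat_lit 13, nat_lit 12, nat_lit 19] (Rl.cmp (nat_lit 3456) (nat_lit 4835)))))))) (FT.node (nat_lit 4843)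 (FT.node (nat_lit 4840) (FT.node (nat_lit 4838) (FT.leaf (Fct.mk false (nat_lit 32) (nat_lit 0) (nat_lit 32) [nat_lit 3, nat_lit 8, nat_lit 5, nat_lit 2, nat_lit 3, nat_lit 4, nat_lit 1, nat_lit 2, nat_lit 3, nat_lit 8, nat_lit 6, nat_lit 7, nat_lit 5, nat_lit 6, nat_lit 4, nat_lit 5, nat_lit 3, nat_lit 4, nat_lit 2, nat_lit 3, nat_lit 8, nat_lit 1, nat_lit 2, nat_lit 3, nat_lit 4, nat_lit 5, nat_lit 6, nat_lit 7, nat_lit 8, nat_lit 5, nat_lit 6, nat_lit 4, nat_lit 5, nat_lit 3, nat_lit 4, nat_lit 2, nat_lit 3, nat_lit 8, nat_lit 0, nat_lit 1, nat_lit 2, nat_lit 3, nat_lit 4, nat_lit 5, nat_lit 3, nat_lit 8, nat_lit 4, nat_lit 3, nat_lit 2, nat_lit 1, nat_lit 9, nat_lit 4, nat_lit 3, nat_lit 2, nat_lit 8, nat_lit 3, nat_lit 11, nat_lit 10, nat_lit 1, nat_lit 15, nat_lit 17, nat_lit 19, nat_lit 16] (Rl.cmp (nat_lit 3456) (nat_lit 4836)))) (FT.node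 (nat_lit 4839) (FT.leaf (Fct.mk false (nat_lit 32) (nat_lit 0) (nat_lit 32) [nat_lit 3, nat_lit 8, nat_lit 5, nat_lit 2, nat_lit 3, nat_lit 4, nat_lit 1, nat_lit 2, nat_lit 3, nat_lit 8, nat_lit 6, nat_lit 7, nat_lit 5, nat_lit 6, nat_lit 4, nat_lit 5, nat_lit 3, nat_lit 4, nat_lit 2, nat_lit 3, nat_lit 8, nat_lit 1, nat_lit 2, nat_lit 3, nat_lit 4, nat_lit 5, nat_lit 6, nat_lit 7, nat_lit 3, nat_lit 8, nat_lit 4, nat_lit 5, nat_lit 3, nat_lit 4, nat_lit 2, nat_lit 3, nat_lit 8, nat_lit 0, nat_lit 1, nat_lit 2, nat_lit 3, nat_lit 4, nat_lit 5, nat_lit 9, nat_lit 4, nat_lit 0, nat_lit 16, nat_lit 12, nat_lit 15, nat_lit 14, nat_lit 13, nat_lit 12, nat_lit 16] (Rl.cmp (nat_lit 3047) (nat_lit 4837)))) (FT.leaf (Fct.mk false (nat_lit 32) (nat_lit 0) (nat_lit 32) [nat_lit 3, nat_lit 8, nat_lit 5, nat_lit 2, nat_lit 3, nat_lit 4, nat_lit 1, nat_lit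 2, nat_lit 3, nat_lit 8, nat_lit 6, nat_lit 7, nat_lit 5, nat_lit 6, nat_lit 4, nat_lit 5, nat_lit 3, nat_lit 4, nat_lit 2, nat_lit 3, nat_lit 8, nat_lit 1, nat_lit 2, nat_lit 3, nat_lit 4, nat_lit 5, nat_lit 6, nat_lit 7, nat_lit 8, nat_lit 5, nat_lit 3, nat_lit 4, nat_lit 2, nat_lit 3, nat_lit 8, nat_lit 1, nat_lit 2, nat_lit 3, nat_lit 4, nat_lit 5, nat_lit 8, nat_lit 3, nat_lit 2, nat_lit 1, nat_lit 9, nat_lit 4, nat_lit 3, nat_lit 2, nat_lit 8, nat_lit 3, nat_lit 11, nat_lit 10, nat_lit 2, nat_lit 8, nat_lit 10, nat_lit 1, nat_lit 17, nat_lit 19] (Rl.cmp (nat_lit 3004) (nat_lit 4838)))))) (FT.node (nat_lit 4841) (FT.leaf (Fct.mk false (nat_lit 33) (nat_lit 0) (nat_lit 33) [nat_lit 2, nat_lit 3, nat_lit 8, nat_lit 1, nat_lit 2, nat_lit 3, nat_lit 4, nat_lit 5, nat_lit 6, nat_lit 7, nat_lit 2, nat_lit 3, nat_lit 8, nat_lit 0, nat_lit 1,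 nat_lit 2, nat_lit 3, nat_lit 4, nat_lit 5, nat_lit 3, nat_lit 2, nat_lit 1, nat_lit 9, nat_lit 4, nat_lit 3, nat_lit 2, nat_lit 8, nat_lit 3, nat_lit 0, nat_lit 14, nat_lit 8, nat_lit 18] (Rl.cmp (nat_lit 4456) (nat_lit 4400)))) (FT.node (nat_lit 4842) (FT.leaf (Fct.mk false (nat_lit 33) (nat_lit 0) (nat_lit 33) [nat_lit 3, nat_lit 8, nat_lit 7, nat_lit 5, nat_lit 6, nat_lit 4, nat_lit 5, nat_lit 3, nat_lit 4, nat_lit 2, nat_lit 3, nat_lit 8, nat_lit 1, nat_lit 2, nat_lit 3, nat_lit 4, nat_lit 5, nat_lit 6, nat_lit 7, nat_lit 8, nat_lit 4, nat_lit 5, nat_lit 3, nat_lit 4, nat_lit 2, nat_lit 3, nat_lit 8, nat_lit 1, nat_lit 2, nat_lit 3, nat_lit 4, nat_lit 5, nat_lit 2, nat_lit 1, nat_lit 4, nat_lit 3, nat_lit 2, nat_lit 8, nat_lit 3, nat_lit 0, nat_lit 2, nat_lit 8, nat_lit 12, nat_lit 15, nat_lit 14, nat_lit 8] (Rl.cmp (nat_lit 4456) (nat_lit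 4840)))) (FT.leaf (Fct.mk false (nat_lit 33) (nat_lit 0) (nat_lit 33) [nat_lit 6, nat_lit 5, nat_lit 4, nat_lit 3, nat_lit 8, nat_lit 1, nat_lit 2, nat_lit 3, nat_lit 4, nat_lit 5, nat_lit 6, nat_lit 7, nat_lit 3, nat_lit 8, nat_lit 5, nat_lit 2, nat_lit 3, nat_lit 4, nat_lit 1, nat_lit 2, nat_lit 3, nat_lit 8, nat_lit 0, nat_lit 1, nat_lit 2, nat_lit 3, nat_lit 4, nat_lit 5, nat_lit 11, nat_lit 2, nat_lit 8, nat_lit 10, nat_lit 1, nat_lit 8, nat_lit 12, nat_lit 15, nat_lit 13, nat_lit 12] (Rl.cmp (nat_lit 4605) (nat_lit 4841))))))) (FT.node (nat_lit 4846) (FT.node (nat_lit 4844) (FT.leaf (Fct.mk false (nat_lit 33) (nat_lit 0) (nat_lit 33) [nat_lit 2, nat_lit 3, nat_lit 8, nat_lit 1, nat_lit 2, nat_lit 3, nat_lit 4, nat_lit 5, nat_lit 6, nat_lit 7, nat_lit 0, nat_lit 1, nat_lit 2, nat_lit 3, nat_lit 4, nat_lit 5, nat_lit 2, nat_lit 1, nat_lit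 8, nat_lit 4, nat_lit 3, nat_lit 2, nat_lit 0, nat_lit 1, nat_lit 9, nat_lit 4, nat_lit 3, nat_lit 2, nat_lit 8, nat_lit 3, nat_lit 9, nat_lit 12, nat_lit 8, nat_lit 16, nat_lit 14, nat_lit 13, nat_lit 19, nat_lit 16] (Rl.cmp (nat_lit 4402) (nat_lit 4842)))) (FT.node (nat_lit 4845) (FT.leaf (Fct.mk false (nat_lit 33) (nat_lit 0) (nat_lit 33) [nat_lit 3, nat_lit 8, nat_lit 7, nat_lit 5, nat_lit 6, nat_lit 4, nat_lit 5, nat_lit 3, nat_lit 4, nat_lit 2, nat_lit 3, nat_lit 8, nat_lit 1, nat_lit 2, nat_lit 3, nat_lit 4, nat_lit 5, nat_lit 6, nat_lit 7, nat_lit 8, nat_lit 2, nat_lit 3, nat_lit 4, nat_lit 5, nat_lit 8, nat_lit 4, nat_lit 3, nat_lit 2, nat_lit 0, nat_lit 1, nat_lit 9, nat_lit 4, nat_lit 3, nat_lit 2, nat_lit 8, nat_lit 3, nat_lit 1, nat_lit 0, nat_lit 2, nat_lit 16, nat_lit 8, nat_lit 12, nat_lit 15, nat_lit 17, nat_lit 12, nat_lit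 19, nat_lit 16] (Rl.cmp (nat_lit 4456) (nat_lit 4843)))) (FT.leaf (Fct.mk false (nat_lit 33) (nat_lit 0) (nat_lit 33) [nat_lit 5, nat_lit 3, nat_lit 4, nat_lit 1, nat_lit 2, nat_lit 3, nat_lit 8, nat_lit 0, nat_lit 1, nat_lit 2, nat_lit 3, nat_lit 4, nat_lit 5, nat_lit 2, nat_lit 3, nat_lit 8, nat_lit 4, nat_lit 3, nat_lit 2, nat_lit 0, nat_lit 1, nat_lit 9, nat_lit 4, nat_lit 3, nat_lit 2, nat_lit 8, nat_lit 3, nat_lit 11, nat_lit 2, nat_lit 8, nat_lit 10, nat_lit 1, nat_lit 12, nat_lit 8, nat_lit 16, nat_lit 14, nat_lit 16, nat_lit 8, nat_lit 19] (Rl.cmp (nat_lit 4456) (nat_lit 4844)))))) (FT.node (nat_lit 4848) (FT.node (nat_lit 4847) (FT.leaf (Fct.mk true (nat_lit 32) (nat_lit 73091) (nat_lit 33) [nat_lit 2, nat_lit 3, nat_lit 8, nat_lit 1, nat_lit 2, nat_lit 3, nat_lit 4, nat_lit 5, nat_lit 6, nat_lit 7, nat_lit 3, nat_lit 8, nat_lit 1,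 nat_lit 2, nat_lit 3, nat_lit 4, nat_lit 5, nat_lit 2, nat_lit 1, nat_lit 8, nat_lit 3, nat_lit 2, nat_lit 0, nat_lit 1, nat_lit 4, nat_lit 3, nat_lit 2, nat_lit 8, nat_lit 3, nat_lit 9, nat_lit 2, nat_lit 15, nat_lit 14, nat_lit 17, nat_lit 12] (Rl.rel (nat_lit 0) [nat_lit 3, nat_lit 4, nat_lit 5, nat_lit 2, nat_lit 8, nat_lit 3, nat_lit 2, nat_lit 15, nat_lit 14, nat_lit 19] (nat_lit 33) (nat_lit 2) [nat_lit 4827, nat_lit 4839, nat_lit 3929] []))) (FT.leaf (Fct.mk true (nat_lit 32) (nat_lit 232) (nat_lit 33) [nat_lit 6, nat_lit 4, nat_lit 5, nat_lit 2, nat_lit 3, nat_lit 4, nat_lit 1, nat_lit 2, nat_lit 3, nat_lit 8, nat_lit 0, nat_lit 1, nat_lit 2, nat_lit 3, nat_lit 4, nat_lit 5, nat_lit 6, nat_lit 7, nat_lit 6, nat_lit 4, nat_lit 5, nat_lit 2, nat_lit 3, nat_lit 4, nat_lit 1, nat_lit 2, nat_lit 3, nat_lit 8, nat_lit 0, nat_lit 1, nat_lit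 2, nat_lit 3, nat_lit 4, nat_lit 5, nat_lit 1, nat_lit 8, nat_lit 4, nat_lit 3, nat_lit 2, nat_lit 0, nat_lit 1, nat_lit 9, nat_lit 4, nat_lit 3, nat_lit 2, nat_lit 8, nat_lit 3, nat_lit 9, nat_lit 15, nat_lit 14, nat_lit 13] (Rl.t1 (nat_lit 4846) (nat_lit 4189))))) (FT.node (nat_lit 4849) (FT.leaf (Fct.mk true (nat_lit 33) (nat_lit 1353) (nat_lit 32) [nat_lit 3, nat_lit 8, nat_lit 5, nat_lit 2, nat_lit 3, nat_lit 4, nat_lit 1, nat_lit 2, nat_lit 3, nat_lit 8, nat_lit 0, nat_lit 1, nat_lit 2, nat_lit 3, nat_lit 4, nat_lit 5, nat_lit 6, nat_lit 7, nat_lit 3, nat_lit 8, nat_lit 2, nat_lit 3, nat_lit 4, nat_lit 5, nat_lit 8, nat_lit 3, nat_lit 2, nat_lit 1, nat_lit 4, nat_lit 3, nat_lit 2, nat_lit 8, nat_lit 3, nat_lit 11, nat_lit 2, nat_lit 10, nat_lit 1, nat_lit 8, nat_lit 12, nat_lit 15, nat_lit 16, nat_lit 8, nat_lit 16] (Rl.inv (nat_lit 4847))))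 (FT.leaf (Fct.mk true (nat_lit 33) (nat_lit 292) (nat_lit 32) [nat_lit 8, nat_lit 0, nat_lit 1, nat_lit 2, nat_lit 3, nat_lit 4, nat_lit 5, nat_lit 6, nat_lit 7, nat_lit 5, nat_lit 4, nat_lit 3, nat_lit 8, nat_lit 1, nat_lit 2, nat_lit 3, nat_lit 4, nat_lit 5, nat_lit 1, nat_lit 3, nat_lit 2, nat_lit 0, nat_lit 1, nat_lit 4, nat_lit 3, nat_lit 2, nat_lit 8, nat_lit 3, nat_lit 11, nat_lit 1, nat_lit 16, nat_lit 8, nat_lit 16] (Rl.t1 (nat_lit 4848) (nat_lit 4845)))))))))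

/-- some facts -/
noncomputable def ftc97 : FT := FT.node (nat_lit 4875) (FT.node (nat_lit 4862) (FT.node (nat_lit 4856) (FT.node (nat_lit 4853) (FT.node (nat_lit 4851) (FT.leaf (Fct.mk false (nat_lit 33) (nat_lit 0) (nat_lit 33) [nat_lit 6, nat_lit 4, nat_lit 5, nat_lit 2, nat_lit 3, nat_lit 4, nat_lit 1, nat_lit 2, nat_lit 3, nat_lit 8, nat_lit 0, nat_lit 1, nat_lit 2, nat_lit 3, nat_lit 4, nat_lit 5, nat_lit 6, nat_lit 7, nat_lit 6, nat_lit 5, nat_lit 4, nat_lit 3, nat_lit 8, nat_lit 2, nat_lit 3, nat_lit 4, nat_lit 1, nat_lit 2, nat_lit 3, nat_lit 8, nat_lit 5, nat_lit 6, nat_lit 4, nat_lit 5, nat_lit 3, nat_lit 4, nat_lit 2, nat_lit 3, nat_lit 8, nat_lit 1, nat_lit 2, nat_lit 3, nat_lit 4, nat_lit 5, nat_lit 4, nat_lit 3, nat_lit 2, nat_lit 0, nat_lit 1, nat_lit 9, nat_lit 4, nat_lit 3, nat_lit 2, nat_lit 8, nat_lit 3, nat_lit 10, nat_lit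 2, nat_lit 8, nat_lit 10, nat_lit 1, nat_lit 16, nat_lit 15, nat_lit 14, nat_lit 16, nat_lit 8, nat_lit 18] (Rl.cmp (nat_lit 4456) (nat_lit 4402)))) (FT.node (nat_lit 4852) (FT.leaf (Fct.mk false (nat_lit 33) (nat_lit 0) (nat_lit 33) [nat_lit 4, nat_lit 3, nat_lit 8, nat_lit 2, nat_lit 3, nat_lit 4, nat_lit 1, nat_lit 2, nat_lit 3, nat_lit 8, nat_lit 0, nat_lit 1, nat_lit 2, nat_lit 3, nat_lit 4, nat_lit 5, nat_lit 6, nat_lit 7, nat_lit 6, nat_lit 4, nat_lit 5, nat_lit 2, nat_lit 3, nat_lit 4, nat_lit 1, nat_lit 2, nat_lit 3, nat_lit 8, nat_lit 0, nat_lit 1, nat_lit 2, nat_lit 3, nat_lit 4, nat_lit 5, nat_lit 8, nat_lit 3, nat_lit 2, nat_lit 1, nat_lit 9, nat_lit 4, nat_lit 3, nat_lit 2, nat_lit 8, nat_lit 3, nat_lit 2, nat_lit 14, nat_lit 13, nat_lit 19] (Rl.cmp (nat_lit 4605) (nat_lit 4402)))) (FT.leaf (Fct.mk false (nat_lit 32) (nat_lit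 0) (nat_lit 32) [nat_lit 3, nat_lit 8, nat_lit 5, nat_lit 2, nat_lit 3, nat_lit 4, nat_lit 1, nat_lit 2, nat_lit 3, nat_lit 8, nat_lit 6, nat_lit 7, nat_lit 5, nat_lit 6, nat_lit 4, nat_lit 5, nat_lit 3, nat_lit 4, nat_lit 2, nat_lit 3, nat_lit 8, nat_lit 1, nat_lit 2, nat_lit 3, nat_lit 4, nat_lit 5, nat_lit 6, nat_lit 7, nat_lit 4, nat_lit 2, nat_lit 3, nat_lit 8, nat_lit 0, nat_lit 1, nat_lit 2, nat_lit 3, nat_lit 4, nat_lit 5, nat_lit 3, nat_lit 2, nat_lit 0, nat_lit 1, nat_lit 4, nat_lit 3, nat_lit 2, nat_lit 8, nat_lit 3, nat_lit 11, nat_lit 8, nat_lit 10] (Rl.cmp (nat_lit 3004) (nat_lit 4340)))))) (FT.node (nat_lit 4854) (FT.leaf (Fct.mk false (nat_lit 32) (nat_lit 0) (nat_lit 32) [nat_lit 3, nat_lit 8, nat_lit 5, nat_lit 2, nat_lit 3, nat_lit 4, nat_lit 1, nat_lit 2, nat_lit 3, nat_lit 8, nat_lit 6, nat_lit 7, nat_lit 5, nat_lit 6,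 nat_lit 4, nat_lit 5, nat_lit 3, nat_lit 4, nat_lit 2, nat_lit 3, nat_lit 8, nat_lit 1, nat_lit 2, nat_lit 3, nat_lit 4, nat_lit 5, nat_lit 6, nat_lit 7, nat_lit 6, nat_lit 5, nat_lit 4, nat_lit 2, nat_lit 3, nat_lit 8, nat_lit 0, nat_lit 1, nat_lit 2, nat_lit 3, nat_lit 4, nat_lit 5, nat_lit 2, nat_lit 1, nat_lit 3, nat_lit 2, nat_lit 0, nat_lit 1, nat_lit 4, nat_lit 3, nat_lit 2, nat_lit 8, nat_lit 3, nat_lit 2, nat_lit 8, nat_lit 10, nat_lit 1, nat_lit 16, nat_lit 8, nat_lit 12, nat_lit 15, nat_lit 8, nat_lit 19] (Rl.cmp (nat_lit 3010) (nat_lit 4852)))) (FT.node (nat_lit 4855) (FT.leaf (Fct.mk true (nat_lit 32) (nat_lit 43573) (nat_lit 33) [nat_lit 5, nat_lit 6, nat_lit 4, nat_lit 5, nat_lit 3, nat_lit 4, nat_lit 2, nat_lit 3, nat_lit 8, nat_lit 1, nat_lit 2, nat_lit 3, nat_lit 4, nat_lit 5, nat_lit 6, nat_lit 7, nat_lit 3, nat_lit 8, nat_lit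 6, nat_lit 4, nat_lit 5, nat_lit 3, nat_lit 4, nat_lit 2, nat_lit 3, nat_lit 8, nat_lit 0, nat_lit 1, nat_lit 2, nat_lit 3, nat_lit 4, nat_lit 5, nat_lit 3, nat_lit 2, nat_lit 1, nat_lit 9, nat_lit 4, nat_lit 3, nat_lit 2, nat_lit 8, nat_lit 3, nat_lit 11, nat_lit 10, nat_lit 2, nat_lit 8, nat_lit 10, nat_lit 1, nat_lit 16, nat_lit 8, nat_lit 18] (Rl.rel (nat_lit 0) [nat_lit 3, nat_lit 4, nat_lit 5, nat_lit 2, nat_lit 8, nat_lit 3, nat_lit 9, nat_lit 2, nat_lit 16, nat_lit 15, nat_lit 14, nat_lit 19] (nat_lit 33) (nat_lit 2) [nat_lit 4827, nat_lit 4853, nat_lit 3793] []))) (FT.leaf (Fct.mk true (nat_lit 32) (nat_lit 225) (nat_lit 33) [nat_lit 7, nat_lit 6, nat_lit 5, nat_lit 3, nat_lit 4, nat_lit 2, nat_lit 3, nat_lit 8, nat_lit 1, nat_lit 2, nat_lit 3, nat_lit 4, nat_lit 5, nat_lit 6, nat_lit 7, nat_lit 8, nat_lit 6, nat_lit 5, nat_lit 2,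 nat_lit 3, nat_lit 4, nat_lit 1, nat_lit 2, nat_lit 3, nat_lit 8, nat_lit 0, nat_lit 1, nat_lit 2, nat_lit 3, nat_lit 4, nat_lit 5, nat_lit 1, nat_lit 4, nat_lit 3, nat_lit 2, nat_lit 0, nat_lit 1, nat_lit 9, nat_lit 4, nat_lit 3, nat_lit 2, nat_lit 8, nat_lit 3, nat_lit 11, nat_lit 2, nat_lit 8, nat_lit 10, nat_lit 1, nat_lit 12, nat_lit 15, nat_lit 14, nat_lit 8, nat_lit 18] (Rl.t1 (nat_lit 4854) (nat_lit 4269))))))) (FT.node (nat_lit 4859) (FT.node (nat_lit 4857) (FT.leaf (Fct.mk true (nat_lit 33) (nat_lit 89) (nat_lit 32) [nat_lit 3, nat_lit 8, nat_lit 6, nat_lit 7, nat_lit 5, nat_lit 6, nat_lit 4, nat_lit 5, nat_lit 3, nat_lit 4, nat_lit 2, nat_lit 3, nat_lit 8, nat_lit 0, nat_lit 1, nat_lit 2, nat_lit 3, nat_lit 4, nat_lit 5, nat_lit 6, nat_lit 7, nat_lit 4, nat_lit 5, nat_lit 2, nat_lit 3, nat_lit 4, nat_lit 1, nat_lit 2, nat_lit 3,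 nat_lit 8, nat_lit 0, nat_lit 1, nat_lit 2, nat_lit 3, nat_lit 4, nat_lit 5, nat_lit 2, nat_lit 8, nat_lit 3, nat_lit 11, nat_lit 9, nat_lit 10, nat_lit 2, nat_lit 8, nat_lit 10, nat_lit 1, nat_lit 12, nat_lit 8, nat_lit 16, nat_lit 14, nat_lit 17, nat_lit 18] (Rl.inv (nat_lit 4855)))) (FT.node (nat_lit 4858) (FT.leaf (Fct.mk false (nat_lit 33) (nat_lit 0) (nat_lit 33) [nat_lit 4, nat_lit 2, nat_lit 3, nat_lit 8, nat_lit 1, nat_lit 2, nat_lit 3, nat_lit 4, nat_lit 5, nat_lit 6, nat_lit 7, nat_lit 2, nat_lit 3, nat_lit 8, nat_lit 0, nat_lit 1, nat_lit 2, nat_lit 3, nat_lit 4, nat_lit 5, nat_lit 3, nat_lit 2, nat_lit 1, nat_lit 9, nat_lit 4, nat_lit 3, nat_lit 2, nat_lit 8, nat_lit 3, nat_lit 14, nat_lit 8, nat_lit 18] (Rl.cmp (nat_lit 4456) (nat_lit 4456)))) (FT.leaf (Fct.mk false (nat_lit 33) (nat_lit 0) (nat_lit 33) [nat_lit 8, nat_lit 7,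 nat_lit 6, nat_lit 5, nat_lit 2, nat_lit 3, nat_lit 4, nat_lit 1, nat_lit 2, nat_lit 3, nat_lit 8, nat_lit 0, nat_lit 1, nat_lit 2, nat_lit 3, nat_lit 4, nat_lit 5, nat_lit 6, nat_lit 7, nat_lit 2, nat_lit 3, nat_lit 8, nat_lit 6, nat_lit 4, nat_lit 5, nat_lit 3, nat_lit 4, nat_lit 2, nat_lit 3, nat_lit 8, nat_lit 1, nat_lit 2, nat_lit 3, nat_lit 4, nat_lit 5, nat_lit 1, nat_lit 2, nat_lit 0, nat_lit 1, nat_lit 3, nat_lit 2, nat_lit 8, nat_lit 3, nat_lit 10, nat_lit 9, nat_lit 2, nat_lit 15, nat_lit 13, nat_lit 19] (Rl.cmp (nat_lit 4605) (nat_lit 4857)))))) (FT.node (nat_lit 4860) (FT.leaf (Fct.mk false (nat_lit 33) (nat_lit 0) (nat_lit 33) [nat_lit 8, nat_lit 7, nat_lit 6, nat_lit 4, nat_lit 5, nat_lit 3, nat_lit 4, nat_lit 2, nat_lit 3, nat_lit 8, nat_lit 0, nat_lit 1, nat_lit 2, nat_lit 3, nat_lit 4, nat_lit 5, nat_lit 6, nat_lit 7, nat_lit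 3, nat_lit 8, nat_lit 5, nat_lit 6, nat_lit 4, nat_lit 5, nat_lit 3, nat_lit 4, nat_lit 1, nat_lit 2, nat_lit 3, nat_lit 8, nat_lit 0, nat_lit 1, nat_lit 2, nat_lit 3, nat_lit 4, nat_lit 5, nat_lit 2, nat_lit 1, nat_lit 9, nat_lit 4, nat_lit 3, nat_lit 2, nat_lit 8, nat_lit 3, nat_lit 15, nat_lit 17, nat_lit 19] (Rl.cmp (nat_lit 4402) (nat_lit 4858)))) (FT.node (nat_lit 4861) (FT.leaf (Fct.mk false (nat_lit 33) (nat_lit 0) (nat_lit 33) [nat_lit 5, nat_lit 2, nat_lit 3, nat_lit 4, nat_lit 1, nat_lit 2, nat_lit 3, nat_lit 8, nat_lit 0, nat_lit 1, nat_lit 2, nat_lit 3, nat_lit 4, nat_lit 5, nat_lit 6, nat_lit 7, nat_lit 4, nat_lit 5, nat_lit 3, nat_lit 4, nat_lit 2, nat_lit 3, nat_lit 8, nat_lit 0, nat_lit 1, nat_lit 2, nat_lit 3, nat_lit 4, nat_lit 5, nat_lit 3, nat_lit 2, nat_lit 0, nat_lit 1, nat_lit 9, nat_lit 4, nat_lit 3, nat_lit 2, nat_lit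 8, nat_lit 3, nat_lit 11, nat_lit 8, nat_lit 10, nat_lit 14, nat_lit 13, nat_lit 12] (Rl.cmp (nat_lit 4456) (nat_lit 4859)))) (FT.leaf (Fct.mk false (nat_lit 33) (nat_lit 0) (nat_lit 33) [nat_lit 4, nat_lit 2, nat_lit 3, nat_lit 8, nat_lit 1, nat_lit 2, nat_lit 3, nat_lit 4, nat_lit 5, nat_lit 6, nat_lit 7, nat_lit 5, nat_lit 10, nat_lit 0, nat_lit 16, nat_lit 14, nat_lit 12, nat_lit 18] (Rl.cmp (nat_lit 4400) (nat_lit 4456)))))))) (FT.node (nat_lit 4868) (FT.node (nat_lit 4865) (FT.node (nat_lit 4863) (FT.leaf (Fct.mk false (nat_lit 33) (nat_lit 0) (nat_lit 33) [nat_lit 8, nat_lit 7, nat_lit 6, nat_lit 5, nat_lit 2, nat_lit 3, nat_lit 4, nat_lit 1, nat_lit 2, nat_lit 3, nat_lit 8, nat_lit 0, nat_lit 1, nat_lit 2, nat_lit 3, nat_lit 4, nat_lit 5, nat_lit 6, nat_lit 7, nat_lit 6, nat_lit 5, nat_lit 3, nat_lit 4, nat_lit 1, nat_lit 2, nat_lit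 3, nat_lit 8, nat_lit 0, nat_lit 1, nat_lit 2, nat_lit 3, nat_lit 4, nat_lit 5, nat_lit 1, nat_lit 2, nat_lit 3, nat_lit 11, nat_lit 10, nat_lit 8, nat_lit 12, nat_lit 15, nat_lit 19, nat_lit 16] (Rl.cmp (nat_lit 4605) (nat_lit 4861)))) (FT.node (nat_lit 4864) (FT.leaf (Fct.mk false (nat_lit 33) (nat_lit 0) (nat_lit 33) [nat_lit 4, nat_lit 5, nat_lit 3, nat_lit 4, nat_lit 2, nat_lit 3, nat_lit 8, nat_lit 0, nat_lit 1, nat_lit 2, nat_lit 3, nat_lit 4, nat_lit 5, nat_lit 6, nat_lit 7, nat_lit 5, nat_lit 4, nat_lit 3, nat_lit 8, nat_lit 2, nat_lit 3, nat_lit 4, nat_lit 5, nat_lit 0, nat_lit 1, nat_lit 9, nat_lit 4, nat_lit 3, nat_lit 2, nat_lit 8, nat_lit 3, nat_lit 8, nat_lit 10, nat_lit 1, nat_lit 15, nat_lit 14, nat_lit 17, nat_lit 12] (Rl.cmp (nat_lit 4400) (nat_lit 4862)))) (FT.leaf (Fct.mk false (nat_lit 33) (nat_lit 0) (nat_lit 33) [nat_lit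 2, nat_lit 3, nat_lit 8, nat_lit 1, nat_lit 2, nat_lit 3, nat_lit 4, nat_lit 5, nat_lit 6, nat_lit 7, nat_lit 2, nat_lit 3, nat_lit 8, nat_lit 0, nat_lit 1, nat_lit 2, nat_lit 3, nat_lit 4, nat_lit 5, nat_lit 3, nat_lit 2, nat_lit 1, nat_lit 9, nat_lit 4, nat_lit 3, nat_lit 2, nat_lit 8, nat_lit 3, nat_lit 0, nat_lit 14, nat_lit 8, nat_lit 18] (Rl.cmp (nat_lit 4456) (nat_lit 4400)))))) (FT.node (nat_lit 4866) (FT.leaf (Fct.mk false (nat_lit 33) (nat_lit 0) (nat_lit 33) [nat_lit 5, nat_lit 4, nat_lit 2, nat_lit 3, nat_lit 8, nat_lit 6, nat_lit 7, nat_lit 5, nat_lit 6, nat_lit 4, nat_lit 5, nat_lit 3, nat_lit 4, nat_lit 2, nat_lit 3, nat_lit 8, nat_lit 1, nat_lit 2, nat_lit 3, nat_lit 4, nat_lit 5, nat_lit 6, nat_lit 7, nat_lit 3, nat_lit 8, nat_lit 6, nat_lit 4, nat_lit 5, nat_lit 3, nat_lit 4, nat_lit 2, nat_lit 3, nat_lit 8, nat_lit 1, nat_lit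 2, nat_lit 3, nat_lit 4, nat_lit 5, nat_lit 2, nat_lit 3, nat_lit 8, nat_lit 4, nat_lit 3, nat_lit 2, nat_lit 1, nat_lit 9, nat_lit 4, nat_lit 3, nat_lit 2, nat_lit 8, nat_lit 3, nat_lit 11, nat_lit 12, nat_lit 16] (Rl.cmp (nat_lit 4605) (nat_lit 4864)))) (FT.node (nat_lit 4867) (FT.leaf (Fct.mk false (nat_lit 33) (nat_lit 0) (nat_lit 33) [nat_lit 8, nat_lit 6, nat_lit 7, nat_lit 5, nat_lit 6, nat_lit 4, nat_lit 5, nat_lit 2, nat_lit 3, nat_lit 4, nat_lit 1, nat_lit 2, nat_lit 3, nat_lit 8, nat_lit 0, nat_lit 1, nat_lit 2, nat_lit 3, nat_lit 4, nat_lit 5, nat_lit 6, nat_lit 7, nat_lit 3, nat_lit 8, nat_lit 6, nat_lit 4, nat_lit 5, nat_lit 3, nat_lit 4, nat_lit 2, nat_lit 3, nat_lit 8, nat_lit 1, nat_lit 2, nat_lit 3, nat_lit 4, nat_lit 5, nat_lit 1, nat_lit 8, nat_lit 3, nat_lit 2, nat_lit 0, nat_lit 1, nat_lit 9, nat_lit 4, nat_lit 3, nat_lit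 2, nat_lit 8, nat_lit 3, nat_lit 10, nat_lit 9, nat_lit 2, nat_lit 8, nat_lit 12, nat_lit 15, nat_lit 14, nat_lit 12, nat_lit 19, nat_lit 16] (Rl.cmp (nat_lit 4456) (nat_lit 4865)))) (FT.leaf (Fct.mk false (nat_lit 33) (nat_lit 0) (nat_lit 33) [nat_lit 5, nat_lit 4, nat_lit 3, nat_lit 8, nat_lit 6, nat_lit 7, nat_lit 5, nat_lit 6, nat_lit 4, nat_lit 5, nat_lit 3, nat_lit 4, nat_lit 1, nat_lit 2, nat_lit 3, nat_lit 8, nat_lit 0, nat_lit 1, nat_lit 2, nat_lit 3, nat_lit 4, nat_lit 5, nat_lit 6, nat_lit 7, nat_lit 3, nat_lit 8, nat_lit 6, nat_lit 4, nat_lit 5, nat_lit 3, nat_lit 4, nat_lit 2, nat_lit 3, nat_lit 8, nat_lit 1, nat_lit 2, nat_lit 3, nat_lit 4, nat_lit 5, nat_lit 0, nat_lit 1, nat_lit 9, nat_lit 4, nat_lit 3, nat_lit 2, nat_lit 8, nat_lit 3, nat_lit 8, nat_lit 10, nat_lit 0, nat_lit 18, nat_lit 16] (Rl.cmp (nat_lit 4400) (nat_lit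 4866))))))) (FT.node (nat_lit 4871) (FT.node (nat_lit 4869) (FT.leaf (Fct.mk false (nat_lit 33) (nat_lit 0) (nat_lit 33) [nat_lit 7, nat_lit 6, nat_lit 5, nat_lit 3, nat_lit 4, nat_lit 1, nat_lit 2, nat_lit 3, nat_lit 8, nat_lit 0, nat_lit 1, nat_lit 2, nat_lit 3, nat_lit 4, nat_lit 5, nat_lit 6, nat_lit 7, nat_lit 2, nat_lit 3, nat_lit 4, nat_lit 1, nat_lit 2, nat_lit 3, nat_lit 8, nat_lit 5, nat_lit 6, nat_lit 4, nat_lit 5, nat_lit 3, nat_lit 4, nat_lit 2, nat_lit 3, nat_lit 8, nat_lit 1, nat_lit 2, nat_lit 3, nat_lit 4, nat_lit 5, nat_lit 3, nat_lit 11, nat_lit 10, nat_lit 8, nat_lit 12, nat_lit 15, nat_lit 16, nat_lit 8, nat_lit 18] (Rl.cmp (nat_lit 4605) (nat_lit 4867)))) (FT.node (nat_lit 4870) (FT.leaf (Fct.mk false (nat_lit 33) (nat_lit 0) (nat_lit 33) [nat_lit 8, nat_lit 6, nat_lit 5, nat_lit 3, nat_lit 4, nat_lit 2, nat_lit 3, nat_lit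 8, nat_lit 0, nat_lit 1, nat_lit 2, nat_lit 3, nat_lit 4, nat_lit 5, nat_lit 6, nat_lit 7, nat_lit 8, nat_lit 5, nat_lit 6, nat_lit 4, nat_lit 5, nat_lit 3, nat_lit 4, nat_lit 2, nat_lit 3, nat_lit 8, nat_lit 1, nat_lit 2, nat_lit 3, nat_lit 4, nat_lit 5, nat_lit 1, nat_lit 2, nat_lit 0, nat_lit 1, nat_lit 4, nat_lit 3, nat_lit 2, nat_lit 8, nat_lit 3, nat_lit 11, nat_lit 2, nat_lit 16, nat_lit 8, nat_lit 12, nat_lit 15, nat_lit 13, nat_lit 12, nat_lit 18, nat_lit 16] (Rl.cmp (nat_lit 4402) (nat_lit 4868)))) (FT.leaf (Fct.mk false (nat_lit 33) (nat_lit 0) (nat_lit 33) [nat_lit 8, nat_lit 6, nat_lit 5, nat_lit 2, nat_lit 3, nat_lit 4, nat_lit 1, nat_lit 2, nat_lit 3, nat_lit 8, nat_lit 0, nat_lit 1, nat_lit 2, nat_lit 3, nat_lit 4, nat_lit 5, nat_lit 6, nat_lit 7, nat_lit 8, nat_lit 3, nat_lit 4, nat_lit 2, nat_lit 3, nat_lit 8, nat_lit 1, nat_lit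 2, nat_lit 3, nat_lit 4, nat_lit 5, nat_lit 2, nat_lit 0, nat_lit 1, nat_lit 3, nat_lit 2, nat_lit 8, nat_lit 3, nat_lit 9, nat_lit 16, nat_lit 15, nat_lit 14, nat_lit 16, nat_lit 8, nat_lit 19] (Rl.cmp (nat_lit 4456) (nat_lit 4869)))))) (FT.node (nat_lit 4873) (FT.node (nat_lit 4872) (FT.leaf (Fct.mk true (nat_lit 33) (nat_lit 14991) (nat_lit 33) [nat_lit 3, nat_lit 8, nat_lit 2, nat_lit 3, nat_lit 4, nat_lit 1, nat_lit 2, nat_lit 3, nat_lit 8, nat_lit 0, nat_lit 1, nat_lit 2, nat_lit 3, nat_lit 4, nat_lit 5, nat_lit 6, nat_lit 7, nat_lit 4, nat_lit 1, nat_lit 2, nat_lit 3, nat_lit 8, nat_lit 0, nat_lit 1, nat_lit 2, nat_lit 3, nat_lit 4, nat_lit 5, nat_lit 2, nat_lit 0, nat_lit 1, nat_lit 4, nat_lit 3, nat_lit 2, nat_lit 8, nat_lit 3, nat_lit 8, nat_lit 10, nat_lit 8, nat_lit 16, nat_lit 14, nat_lit 17, nat_lit 18, nat_lit 16] (Rl.rel (nat_lit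 0) [nat_lit 3, nat_lit 8, nat_lit 2, nat_lit 3, nat_lit 4, nat_lit 5, nat_lit 1, nat_lit 2, nat_lit 3, nat_lit 10, nat_lit 1, nat_lit 12, nat_lit 15, nat_lit 14, nat_lit 19] (nat_lit 33) (nat_lit 2) [nat_lit 4827, nat_lit 4855] []))) (FT.leaf (Fct.mk true (nat_lit 33) (nat_lit 115) (nat_lit 33) [nat_lit 8, nat_lit 0, nat_lit 1, nat_lit 2, nat_lit 3, nat_lit 4, nat_lit 5, nat_lit 6, nat_lit 7, nat_lit 8, nat_lit 6, nat_lit 5, nat_lit 3, nat_lit 4, nat_lit 1, nat_lit 2, nat_lit 3, nat_lit 8, nat_lit 0, nat_lit 1, nat_lit 2, nat_lit 3, nat_lit 4, nat_lit 5, nat_lit 1, nat_lit 2, nat_lit 0, nat_lit 1, nat_lit 9, nat_lit 4, nat_lit 3, nat_lit 2, nat_lit 8, nat_lit 3, nat_lit 11, nat_lit 10, nat_lit 2, nat_lit 8, nat_lit 10, nat_lit 1, nat_lit 8, nat_lit 16, nat_lit 14, nat_lit 16, nat_lit 8, nat_lit 18] (Rl.t1 (nat_lit 4871) (nat_lit 4863))))) (FT.node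 (nat_lit 4874) (FT.leaf (Fct.mk true (nat_lit 33) (nat_lit 2442) (nat_lit 33) [nat_lit 8, nat_lit 5, nat_lit 6, nat_lit 4, nat_lit 5, nat_lit 2, nat_lit 3, nat_lit 4, nat_lit 1, nat_lit 2, nat_lit 3, nat_lit 8, nat_lit 0, nat_lit 1, nat_lit 2, nat_lit 3, nat_lit 4, nat_lit 5, nat_lit 6, nat_lit 7, nat_lit 5, nat_lit 3, nat_lit 4, nat_lit 2, nat_lit 3, nat_lit 8, nat_lit 0, nat_lit 1, nat_lit 2, nat_lit 3, nat_lit 4, nat_lit 5, nat_lit 3, nat_lit 2, nat_lit 0, nat_lit 1, nat_lit 4, nat_lit 3, nat_lit 2, nat_lit 8, nat_lit 3, nat_lit 8, nat_lit 10, nat_lit 9, nat_lit 2, nat_lit 16, nat_lit 12, nat_lit 15, nat_lit 14, nat_lit 13, nat_lit 12, nat_lit 18, nat_lit 16] (Rl.inv (nat_lit 4872)))) (FT.leaf (Fct.mk true (nat_lit 33) (nat_lit 321) (nat_lit 33) [nat_lit 5, nat_lit 6, nat_lit 4, nat_lit 5, nat_lit 3, nat_lit 4, nat_lit 2, nat_lit 3, nat_lit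 8, nat_lit 1, nat_lit 2, nat_lit 3, nat_lit 4, nat_lit 5, nat_lit 6, nat_lit 7, nat_lit 2, nat_lit 3, nat_lit 8, nat_lit 1, nat_lit 2, nat_lit 3, nat_lit 4, nat_lit 5, nat_lit 3, nat_lit 11, nat_lit 10, nat_lit 1, nat_lit 16, nat_lit 15, nat_lit 14, nat_lit 17, nat_lit 12, nat_lit 19, nat_lit 16] (Rl.t1 (nat_lit 4873) (nat_lit 4870))))))))) (FT.node (nat_lit 4887) (FT.node (nat_lit 4881) (FT.node (nat_lit 4878) (FT.node (nat_lit 4876) (FT.leaf (Fct.mk false (nat_lit 32) (nat_lit 0) (nat_lit 32) [nat_lit 3, nat_lit 8, nat_lit 5, nat_lit 2, nat_lit 3, nat_lit 4, nat_lit 1, nat_lit 2, nat_lit 3, nat_lit 8, nat_lit 6, nat_lit 7, nat_lit 5, nat_lit 6, nat_lit 4, nat_lit 5, nat_lit 3, nat_lit 4, nat_lit 2, nat_lit 3, nat_lit 8, nat_lit 1, nat_lit 2, nat_lit 3, nat_lit 4, nat_lit 5, nat_lit 6, nat_lit 7, nat_lit 6, nat_lit 5, nat_lit 3, nat_lit 4,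 nat_lit 2, nat_lit 3, nat_lit 8, nat_lit 1, nat_lit 2, nat_lit 3, nat_lit 4, nat_lit 5, nat_lit 0, nat_lit 1, nat_lit 4, nat_lit 3, nat_lit 2, nat_lit 8, nat_lit 3, nat_lit 0, nat_lit 8, nat_lit 12, nat_lit 15, nat_lit 17, nat_lit 12, nat_lit 18] (Rl.cmp (nat_lit 3010) (nat_lit 4184)))) (FT.node (nat_lit 4877) (FT.leaf (Fct.mk false (nat_lit 32) (nat_lit 0) (nat_lit 32) [nat_lit 3, nat_lit 8, nat_lit 5, nat_lit 2, nat_lit 3, nat_lit 4, nat_lit 1, nat_lit 2, nat_lit 3, nat_lit 8, nat_lit 6, nat_lit 7, nat_lit 5, nat_lit 6, nat_lit 4, nat_lit 5, nat_lit 3, nat_lit 4, nat_lit 2, nat_lit 3, nat_lit 8, nat_lit 1, nat_lit 2, nat_lit 3, nat_lit 4, nat_lit 5, nat_lit 6, nat_lit 7, nat_lit 3, nat_lit 4, nat_lit 2, nat_lit 3, nat_lit 8, nat_lit 5, nat_lit 6, nat_lit 4, nat_lit 5, nat_lit 3, nat_lit 4, nat_lit 2, nat_lit 3, nat_lit 8, nat_lit 0, nat_lit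 1, nat_lit 2, nat_lit 3, nat_lit 4, nat_lit 5, nat_lit 3, nat_lit 2, nat_lit 1, nat_lit 4, nat_lit 3, nat_lit 2, nat_lit 0, nat_lit 1, nat_lit 9, nat_lit 4, nat_lit 3, nat_lit 2, nat_lit 8, nat_lit 3, nat_lit 11, nat_lit 8, nat_lit 10, nat_lit 1, nat_lit 15, nat_lit 8] (Rl.cmp (nat_lit 3004) (nat_lit 4875)))) (FT.leaf (Fct.mk false (nat_lit 32) (nat_lit 0) (nat_lit 32) [nat_lit 3, nat_lit 8, nat_lit 5, nat_lit 2, nat_lit 3, nat_lit 4, nat_lit 1, nat_lit 2, nat_lit 3, nat_lit 8, nat_lit 6, nat_lit 7, nat_lit 5, nat_lit 6, nat_lit 4, nat_lit 5, nat_lit 3, nat_lit 4, nat_lit 2, nat_lit 3, nat_lit 8, nat_lit 1, nat_lit 2, nat_lit 3, nat_lit 4, nat_lit 5, nat_lit 6, nat_lit 7, nat_lit 2, nat_lit 3, nat_lit 8, nat_lit 4, nat_lit 5, nat_lit 3, nat_lit 4, nat_lit 2, nat_lit 3, nat_lit 8, nat_lit 1, nat_lit 2, nat_lit 3, nat_lit 4, nat_lit 5, nat_lit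 1, nat_lit 3, nat_lit 2, nat_lit 0, nat_lit 1, nat_lit 9, nat_lit 4, nat_lit 3, nat_lit 2, nat_lit 8, nat_lit 3, nat_lit 10, nat_lit 0, nat_lit 16, nat_lit 8, nat_lit 12, nat_lit 15, nat_lit 17, nat_lit 12, nat_lit 18, nat_lit 16] (Rl.cmp (nat_lit 3004) (nat_lit 4876)))))) (FT.node (nat_lit 4879) (FT.leaf (Fct.mk false (nat_lit 33) (nat_lit 0) (nat_lit 33) [nat_lit 6, nat_lit 5, nat_lit 2, nat_lit 3, nat_lit 4, nat_lit 1, nat_lit 2, nat_lit 3, nat_lit 8, nat_lit 0, nat_lit 1, nat_lit 2, nat_lit 3, nat_lit 4, nat_lit 5, nat_lit 6, nat_lit 7, nat_lit 6, nat_lit 5, nat_lit 4, nat_lit 3, nat_lit 8, nat_lit 2, nat_lit 3, nat_lit 4, nat_lit 5, nat_lit 9, nat_lit 16, nat_lit 14, nat_lit 16] (Rl.cmp (nat_lit 4400) (nat_lit 4790)))) (FT.node (nat_lit 4880) (FT.leaf (Fct.mk false (nat_lit 33) (nat_lit 0) (nat_lit 33) [nat_lit 2, nat_lit 3, nat_lit 4,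 nat_lit 5, nat_lit 6, nat_lit 7, nat_lit 6, nat_lit 5, nat_lit 3, nat_lit 4, nat_lit 1, nat_lit 2, nat_lit 3, nat_lit 8, nat_lit 0, nat_lit 1, nat_lit 2, nat_lit 3, nat_lit 4, nat_lit 5, nat_lit 3, nat_lit 8, nat_lit 4, nat_lit 3, nat_lit 2, nat_lit 0, nat_lit 1, nat_lit 9, nat_lit 4, nat_lit 3, nat_lit 2, nat_lit 8, nat_lit 3, nat_lit 9, nat_lit 16, nat_lit 14, nat_lit 13, nat_lit 18, nat_lit 16] (Rl.cmp (nat_lit 4605) (nat_lit 4878)))) (FT.leaf (Fct.mk false (nat_lit 33) (nat_lit 0) (nat_lit 33) [nat_lit 7, nat_lit 5, nat_lit 6, nat_lit 4, nat_lit 5, nat_lit 3, nat_lit 4, nat_lit 2, nat_lit 3, nat_lit 8, nat_lit 1, nat_lit 2, nat_lit 3, nat_lit 4, nat_lit 5, nat_lit 6, nat_lit 7, nat_lit 3, nat_lit 8, nat_lit 1, nat_lit 2, nat_lit 3, nat_lit 4, nat_lit 5, nat_lit 1, nat_lit 8, nat_lit 4, nat_lit 3, nat_lit 2, nat_lit 0, nat_lit 1, nat_lit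 9, nat_lit 4, nat_lit 3, nat_lit 2, nat_lit 8, nat_lit 3, nat_lit 0, nat_lit 16, nat_lit 14, nat_lit 13, nat_lit 18, nat_lit 16] (Rl.cmp (nat_lit 4456) (nat_lit 4879))))))) (FT.node (nat_lit 4884) (FT.node (nat_lit 4882) (FT.leaf (Fct.mk false (nat_lit 33) (nat_lit 0) (nat_lit 33) [nat_lit 3, nat_lit 4, nat_lit 5, nat_lit 2, nat_lit 3, nat_lit 4, nat_lit 1, nat_lit 2, nat_lit 3, nat_lit 8, nat_lit 0, nat_lit 1, nat_lit 2, nat_lit 3, nat_lit 4, nat_lit 5, nat_lit 6, nat_lit 7, nat_lit 6, nat_lit 3, nat_lit 4, nat_lit 5, nat_lit 2, nat_lit 3, nat_lit 4, nat_lit 1, nat_lit 2, nat_lit 3, nat_lit 8, nat_lit 0, nat_lit 1, nat_lit 2, nat_lit 3, nat_lit 4, nat_lit 5, nat_lit 1, nat_lit 2, nat_lit 0, nat_lit 1, nat_lit 3, nat_lit 2, nat_lit 8, nat_lit 3, nat_lit 9, nat_lit 16, nat_lit 8, nat_lit 12, nat_lit 15, nat_lit 8, nat_lit 16] (Rl.cmp (nat_lit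 4605) (nat_lit 4880)))) (FT.node (nat_lit 4883) (FT.leaf (Fct.mk false (nat_lit 33) (nat_lit 0) (nat_lit 33) [nat_lit 4, nat_lit 1, nat_lit 2, nat_lit 3, nat_lit 8, nat_lit 0, nat_lit 1, nat_lit 2, nat_lit 3, nat_lit 4, nat_lit 5, nat_lit 6, nat_lit 7, nat_lit 5, nat_lit 8, nat_lit 3, nat_lit 2, nat_lit 0, nat_lit 1, nat_lit 9, nat_lit 4, nat_lit 3, nat_lit 2, nat_lit 8, nat_lit 3, nat_lit 11, nat_lit 16, nat_lit 12, nat_lit 15, nat_lit 14, nat_lit 17, nat_lit 12, nat_lit 18] (Rl.cmp (nat_lit 4456) (nat_lit 4881)))) (FT.leaf (Fct.mk false (nat_lit 33) (nat_lit 0) (nat_lit 33) [nat_lit 3, nat_lit 4, nat_lit 5, nat_lit 2, nat_lit 3, nat_lit 4, nat_lit 1, nat_lit 2, nat_lit 3, nat_lit 8, nat_lit 0, nat_lit 1, nat_lit 2, nat_lit 3, nat_lit 4, nat_lit 5, nat_lit 6, nat_lit 7, nat_lit 5, nat_lit 4, nat_lit 2, nat_lit 3, nat_lit 8, nat_lit 1, nat_lit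 2, nat_lit 3, nat_lit 4, nat_lit 5, nat_lit 1, nat_lit 8, nat_lit 3, nat_lit 2, nat_lit 0, nat_lit 1, nat_lit 4, nat_lit 3, nat_lit 2, nat_lit 8, nat_lit 3, nat_lit 11, nat_lit 10, nat_lit 16, nat_lit 12, nat_lit 15, nat_lit 14, nat_lit 12, nat_lit 19] (Rl.cmp (nat_lit 4605) (nat_lit 4605)))))) (FT.node (nat_lit 4885) (FT.leaf (Fct.mk false (nat_lit 33) (nat_lit 0) (nat_lit 33) [nat_lit 3, nat_lit 8, nat_lit 7, nat_lit 5, nat_lit 6, nat_lit 4, nat_lit 5, nat_lit 3, nat_lit 4, nat_lit 2, nat_lit 3, nat_lit 8, nat_lit 0, nat_lit 1, nat_lit 2, nat_lit 3, nat_lit 4, nat_lit 5, nat_lit 6, nat_lit 7, nat_lit 5, nat_lit 4, nat_lit 3, nat_lit 8, nat_lit 0, nat_lit 1, nat_lit 2, nat_lit 3, nat_lit 4, nat_lit 5, nat_lit 8, nat_lit 3, nat_lit 2, nat_lit 0, nat_lit 1, nat_lit 4, nat_lit 3, nat_lit 2, nat_lit 8, nat_lit 3, nat_lit 8, nat_lit 10, nat_lit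 0, nat_lit 12, nat_lit 15, nat_lit 17, nat_lit 12, nat_lit 19, nat_lit 16] (Rl.cmp (nat_lit 4402) (nat_lit 4883)))) (FT.node (nat_lit 4886) (FT.leaf (Fct.mk false (nat_lit 33) (nat_lit 0) (nat_lit 33) [nat_lit 3, nat_lit 8, nat_lit 2, nat_lit 3, nat_lit 4, nat_lit 5, nat_lit 6, nat_lit 7, nat_lit 8, nat_lit 3, nat_lit 4, nat_lit 1, nat_lit 2, nat_lit 3, nat_lit 8, nat_lit 0, nat_lit 1, nat_lit 2, nat_lit 3, nat_lit 4, nat_lit 5, nat_lit 0, nat_lit 1, nat_lit 2, nat_lit 3, nat_lit 8, nat_lit 10, nat_lit 1, nat_lit 17, nat_lit 18] (Rl.cmp (nat_lit 4456) (nat_lit 4884)))) (FT.leaf (Fct.mk true (nat_lit 32) (nat_lit 3545) (nat_lit 33) [nat_lit 7, nat_lit 6, nat_lit 5, nat_lit 3, nat_lit 4, nat_lit 1, nat_lit 2, nat_lit 3, nat_lit 8, nat_lit 0, nat_lit 1, nat_lit 2, nat_lit 3, nat_lit 4, nat_lit 5, nat_lit 1, nat_lit 2, nat_lit 3, nat_lit 0, nat_lit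 12, nat_lit 15, nat_lit 14, nat_lit 12, nat_lit 18] (Rl.rel (nat_lit 0) [nat_lit 3, nat_lit 8, nat_lit 2, nat_lit 3, nat_lit 4, nat_lit 5, nat_lit 3, nat_lit 2, nat_lit 8, nat_lit 3, nat_lit 8, nat_lit 10, nat_lit 15, nat_lit 14, nat_lit 19] (nat_lit 33) (nat_lit 1) [nat_lit 4827] [nat_lit 4882, nat_lit 4789]))))))) (FT.node (nat_lit 4893) (FT.node (nat_lit 4890) (FT.node (nat_lit 4888) (FT.leaf (Fct.mk true (nat_lit 32) (nat_lit 1716) (nat_lit 33) [nat_lit 7, nat_lit 6, nat_lit 4, nat_lit 5, nat_lit 3, nat_lit 4, nat_lit 2, nat_lit 3, nat_lit 8, nat_lit 1, nat_lit 2, nat_lit 3, nat_lit 4, nat_lit 5, nat_lit 6, nat_lit 7, nat_lit 4, nat_lit 3, nat_lit 8, nat_lit 5, nat_lit 6, nat_lit 4, nat_lit 5, nat_lit 3, nat_lit 4, nat_lit 1, nat_lit 2, nat_lit 3, nat_lit 8, nat_lit 0, nat_lit 1, nat_lit 2, nat_lit 3, nat_lit 4, nat_lit 5, nat_lit 3, nat_lit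 2, nat_lit 1, nat_lit 4, nat_lit 3, nat_lit 2, nat_lit 8, nat_lit 3, nat_lit 11, nat_lit 8, nat_lit 10, nat_lit 18] (Rl.t1 (nat_lit 4886) (nat_lit 4877)))) (FT.node (nat_lit 4889) (FT.leaf (Fct.mk true (nat_lit 33) (nat_lit 12674) (nat_lit 32) [nat_lit 8, nat_lit 3, nat_lit 4, nat_lit 2, nat_lit 3, nat_lit 8, nat_lit 6, nat_lit 7, nat_lit 5, nat_lit 6, nat_lit 4, nat_lit 5, nat_lit 3, nat_lit 4, nat_lit 2, nat_lit 3, nat_lit 8, nat_lit 1, nat_lit 2, nat_lit 3, nat_lit 4, nat_lit 5, nat_lit 6, nat_lit 7, nat_lit 8, nat_lit 6, nat_lit 4, nat_lit 5, nat_lit 3, nat_lit 4, nat_lit 1, nat_lit 2, nat_lit 3, nat_lit 8, nat_lit 0, nat_lit 1, nat_lit 2, nat_lit 3, nat_lit 4, nat_lit 5, nat_lit 2, nat_lit 1, nat_lit 9, nat_lit 4, nat_lit 3, nat_lit 2, nat_lit 8, nat_lit 3, nat_lit 11, nat_lit 1, nat_lit 8, nat_lit 12, nat_lit 15, nat_lit 13, nat_lit 12]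 (Rl.inv (nat_lit 4887)))) (FT.leaf (Fct.mk true (nat_lit 33) (nat_lit 118) (nat_lit 32) [nat_lit 2, nat_lit 3, nat_lit 8, nat_lit 5, nat_lit 6, nat_lit 4, nat_lit 5, nat_lit 3, nat_lit 4, nat_lit 2, nat_lit 3, nat_lit 8, nat_lit 0, nat_lit 1, nat_lit 2, nat_lit 3, nat_lit 4, nat_lit 5, nat_lit 6, nat_lit 7, nat_lit 4, nat_lit 3, nat_lit 8, nat_lit 2, nat_lit 3, nat_lit 4, nat_lit 1, nat_lit 2, nat_lit 3, nat_lit 8, nat_lit 0, nat_lit 1, nat_lit 2, nat_lit 3, nat_lit 4, nat_lit 5, nat_lit 11, nat_lit 10, nat_lit 15, nat_lit 13, nat_lit 12, nat_lit 16] (Rl.t1 (nat_lit 4888) (nat_lit 4885)))))) (FT.node (nat_lit 4891) (FT.leaf (Fct.mk false (nat_lit 33) (nat_lit 0) (nat_lit 33) [nat_lit 6, nat_lit 4, nat_lit 5, nat_lit 2, nat_lit 3, nat_lit 4, nat_lit 1, nat_lit 2, nat_lit 3, nat_lit 8, nat_lit 0, nat_lit 1, nat_lit 2, nat_lit 3, nat_lit 4, nat_lit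 5, nat_lit 6, nat_lit 7, nat_lit 6, nat_lit 5, nat_lit 4, nat_lit 3, nat_lit 8, nat_lit 2, nat_lit 3, nat_lit 4, nat_lit 1, nat_lit 2, nat_lit 3, nat_lit 8, nat_lit 5, nat_lit 6, nat_lit 4, nat_lit 5, nat_lit 3, nat_lit 4, nat_lit 2, nat_lit 3, nat_lit 8, nat_lit 1, nat_lit 2, nat_lit 3, nat_lit 4, nat_lit 5, nat_lit 4, nat_lit 3, nat_lit 2, nat_lit 0, nat_lit 1, nat_lit 9, nat_lit 4, nat_lit 3, nat_lit 2, nat_lit 8, nat_lit 3, nat_lit 10, nat_lit 2, nat_lit 8, nat_lit 10, nat_lit 1, nat_lit 16, nat_lit 15, nat_lit 14, nat_lit 16, nat_lit 8, nat_lit 18] (Rl.cmp (nat_lit 4456) (nat_lit 4402)))) (FT.node (nat_lit 4892) (FT.leaf (Fct.mk false (nat_lit 33) (nat_lit 0) (nat_lit 33) [nat_lit 2, nat_lit 3, nat_lit 8, nat_lit 5, nat_lit 6, nat_lit 4, nat_lit 5, nat_lit 3, nat_lit 4, nat_lit 2, nat_lit 3, nat_lit 8, nat_lit 0, nat_lit 1, nat_lit 2,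 nat_lit 3, nat_lit 4, nat_lit 5, nat_lit 6, nat_lit 7, nat_lit 4, nat_lit 5, nat_lit 3, nat_lit 4, nat_lit 1, nat_lit 2, nat_lit 3, nat_lit 8, nat_lit 0, nat_lit 1, nat_lit 2, nat_lit 3, nat_lit 4, nat_lit 5, nat_lit 1, nat_lit 3, nat_lit 2, nat_lit 8, nat_lit 3, nat_lit 10, nat_lit 0, nat_lit 13, nat_lit 12] (Rl.cmp (nat_lit 4605) (nat_lit 4890)))) (FT.leaf (Fct.mk false (nat_lit 33) (nat_lit 0) (nat_lit 33) [nat_lit 3, nat_lit 8, nat_lit 5, nat_lit 6, nat_lit 4, nat_lit 5, nat_lit 3, nat_lit 4, nat_lit 1, nat_lit 2, nat_lit 3, nat_lit 8, nat_lit 0, nat_lit 1, nat_lit 2, nat_lit 3, nat_lit 4, nat_lit 5, nat_lit 6, nat_lit 7, nat_lit 1, nat_lit 2, nat_lit 3, nat_lit 8, nat_lit 6, nat_lit 4, nat_lit 5, nat_lit 3, nat_lit 4, nat_lit 2, nat_lit 3, nat_lit 8, nat_lit 1, nat_lit 2, nat_lit 3, nat_lit 4, nat_lit 5, nat_lit 1, nat_lit 2, nat_lit 3,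 nat_lit 8, nat_lit 4, nat_lit 3, nat_lit 2, nat_lit 1, nat_lit 9, nat_lit 4, nat_lit 3, nat_lit 2, nat_lit 8, nat_lit 3, nat_lit 11, nat_lit 2, nat_lit 8, nat_lit 12, nat_lit 15, nat_lit 14, nat_lit 8, nat_lit 18] (Rl.cmp (nat_lit 4456) (nat_lit 4891))))))) (FT.node (nat_lit 4896) (FT.node (nat_lit 4894) (FT.leaf (Fct.mk false (nat_lit 33) (nat_lit 0) (nat_lit 33) [nat_lit 2, nat_lit 3, nat_lit 8, nat_lit 5, nat_lit 6, nat_lit 4, nat_lit 5, nat_lit 3, nat_lit 4, nat_lit 2, nat_lit 3, nat_lit 8, nat_lit 0, nat_lit 1, nat_lit 2, nat_lit 3, nat_lit 4, nat_lit 5, nat_lit 6, nat_lit 7, nat_lit 8, nat_lit 4, nat_lit 5, nat_lit 3, nat_lit 4, nat_lit 1, nat_lit 2, nat_lit 3, nat_lit 8, nat_lit 0, nat_lit 1, nat_lit 2, nat_lit 3, nat_lit 4, nat_lit 5, nat_lit 3, nat_lit 2, nat_lit 1, nat_lit 8, nat_lit 3, nat_lit 2, nat_lit 0, nat_lit 1, nat_lit 9,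 nat_lit 4, nat_lit 3, nat_lit 2, nat_lit 8, nat_lit 3, nat_lit 1, nat_lit 8, nat_lit 12, nat_lit 15, nat_lit 14, nat_lit 13] (Rl.cmp (nat_lit 4400) (nat_lit 4892)))) (FT.node (nat_lit 4895) (FT.leaf (Fct.mk false (nat_lit 33) (nat_lit 0) (nat_lit 33) [nat_lit 3, nat_lit 8, nat_lit 7, nat_lit 6, nat_lit 4, nat_lit 5, nat_lit 3, nat_lit 4, nat_lit 2, nat_lit 3, nat_lit 8, nat_lit 0, nat_lit 1, nat_lit 2, nat_lit 3, nat_lit 4, nat_lit 5, nat_lit 6, nat_lit 7, nat_lit 1, nat_lit 2, nat_lit 3, nat_lit 8, nat_lit 5, nat_lit 6, nat_lit 4, nat_lit 5, nat_lit 3, nat_lit 4, nat_lit 2, nat_lit 3, nat_lit 8, nat_lit 1, nat_lit 2, nat_lit 3, nat_lit 4, nat_lit 5, nat_lit 2, nat_lit 1, nat_lit 4, nat_lit 3, nat_lit 2, nat_lit 0, nat_lit 1, nat_lit 9, nat_lit 4, nat_lit 3, nat_lit 2, nat_lit 8, nat_lit 3, nat_lit 2, nat_lit 8, nat_lit 10, nat_lit 1, nat_lit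 8, nat_lit 16, nat_lit 15, nat_lit 14, nat_lit 17, nat_lit 18] (Rl.cmp (nat_lit 4605) (nat_lit 4893)))) (FT.leaf (Fct.mk false (nat_lit 33) (nat_lit 0) (nat_lit 33) [nat_lit 4, nat_lit 5, nat_lit 3, nat_lit 4, nat_lit 1, nat_lit 2, nat_lit 3, nat_lit 8, nat_lit 0, nat_lit 1, nat_lit 2, nat_lit 3, nat_lit 4, nat_lit 5, nat_lit 6, nat_lit 7, nat_lit 1, nat_lit 2, nat_lit 3, nat_lit 4, nat_lit 5, nat_lit 8, nat_lit 3, nat_lit 2, nat_lit 1, nat_lit 4, nat_lit 3, nat_lit 2, nat_lit 8, nat_lit 3, nat_lit 11, nat_lit 8, nat_lit 10, nat_lit 16, nat_lit 12, nat_lit 15, nat_lit 14, nat_lit 16, nat_lit 8, nat_lit 19, nat_lit 16] (Rl.cmp (nat_lit 4402) (nat_lit 4894)))))) (FT.node (nat_lit 4898) (FT.node (nat_lit 4897) (FT.leaf (Fct.mk false (nat_lit 33) (nat_lit 0) (nat_lit 33) [nat_lit 2, nat_lit 3, nat_lit 4, nat_lit 5, nat_lit 6, nat_lit 7, nat_lit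 5, nat_lit 3, nat_lit 4, nat_lit 2, nat_lit 3, nat_lit 8, nat_lit 0, nat_lit 1, nat_lit 2, nat_lit 3, nat_lit 4, nat_lit 5, nat_lit 4, nat_lit 3, nat_lit 2, nat_lit 0, nat_lit 1, nat_lit 9, nat_lit 4, nat_lit 3, nat_lit 2, nat_lit 8, nat_lit 3, nat_lit 9, nat_lit 10, nat_lit 2, nat_lit 8, nat_lit 10, nat_lit 1, nat_lit 16, nat_lit 15, nat_lit 14, nat_lit 17, nat_lit 12] (Rl.cmp (nat_lit 4400) (nat_lit 4605)))) (FT.leaf (Fct.mk false (nat_lit 33) (nat_lit 0) (nat_lit 33) [nat_lit 7, nat_lit 5, nat_lit 6, nat_lit 4, nat_lit 5, nat_lit 3, nat_lit 4, nat_lit 2, nat_lit 3, nat_lit 8, nat_lit 1, nat_lit 2, nat_lit 3, nat_lit 4, nat_lit 5, nat_lit 6, nat_lit 7, nat_lit 6, nat_lit 5, nat_lit 3, nat_lit 4, nat_lit 2, nat_lit 3, nat_lit 8, nat_lit 0, nat_lit 1, nat_lit 2, nat_lit 3, nat_lit 4, nat_lit 5, nat_lit 8, nat_lit 4, nat_lit 3, nat_lit 2, nat_lit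 0, nat_lit 1, nat_lit 9, nat_lit 4, nat_lit 3, nat_lit 2, nat_lit 8, nat_lit 3, nat_lit 0, nat_lit 2, nat_lit 15, nat_lit 13, nat_lit 12, nat_lit 19] (Rl.cmp (nat_lit 4456) (nat_lit 4896))))) (FT.node (nat_lit 4899) (FT.leaf (Fct.mk false (nat_lit 33) (nat_lit 0) (nat_lit 33) [nat_lit 4, nat_lit 5, nat_lit 6, nat_lit 7, nat_lit 8, nat_lit 5, nat_lit 6, nat_lit 4, nat_lit 5, nat_lit 3, nat_lit 4, nat_lit 1, nat_lit 2, nat_lit 3, nat_lit 8, nat_lit 0, nat_lit 1, nat_lit 2, nat_lit 3, nat_lit 4, nat_lit 5, nat_lit 3, nat_lit 8, nat_lit 4, nat_lit 3, nat_lit 2, nat_lit 0, nat_lit 1, nat_lit 9, nat_lit 4, nat_lit 3, nat_lit 2, nat_lit 8, nat_lit 3, nat_lit 9, nat_lit 8, nat_lit 12, nat_lit 15, nat_lit 17] (Rl.cmp (nat_lit 4402) (nat_lit 4897)))) (FT.leaf (Fct.mk false (nat_lit 33) (nat_lit 0) (nat_lit 33) [nat_lit 7, nat_lit 6, nat_lit 4, nat_lit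 5, nat_lit 3, nat_lit 4, nat_lit 2, nat_lit 3, nat_lit 8, nat_lit 1, nat_lit 2, nat_lit 3, nat_lit 4, nat_lit 5, nat_lit 6, nat_lit 7, nat_lit 8, nat_lit 6, nat_lit 4, nat_lit 5, nat_lit 2, nat_lit 3, nat_lit 4, nat_lit 1, nat_lit 2, nat_lit 3, nat_lit 8, nat_lit 0, nat_lit 1, nat_lit 2, nat_lit 3, nat_lit 4, nat_lit 5, nat_lit 2, nat_lit 1, nat_lit 4, nat_lit 3, nat_lit 2, nat_lit 0, nat_lit 1, nat_lit 9, nat_lit 4, nat_lit 3, nat_lit 2, nat_lit 8, nat_lit 3, nat_lit 8, nat_lit 12, nat_lit 15, nat_lit 17, nat_lit 12] (Rl.cmp (nat_lit 4456) (nat_lit 4898)))))))))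

/-- some facts -/
noncomputable def ftc98 : FT := FT.node (nat_lit 4925) (FT.node (nat_lit 4912) (FT.node (nat_lit 4906) (FT.node (nat_lit 4903) (FT.node (nat_lit 4901) (FT.leaf (Fct.mk false (nat_lit 33) (nat_lit 0) (nat_lit 33) [nat_lit 4, nat_lit 5, nat_lit 6, nat_lit 7, nat_lit 5, nat_lit 3, nat_lit 4, nat_lit 2, nat_lit 3, nat_lit 8, nat_lit 0, nat_lit 1, nat_lit 2, nat_lit 3, nat_lit 4, nat_lit 5, nat_lit 2, nat_lit 1, nat_lit 3, nat_lit 2, nat_lit 0, nat_lit 1, nat_lit 4, nat_lit 3, nat_lit 2, nat_lit 8, nat_lit 3, nat_lit 11, nat_lit 2, nat_lit 8, nat_lit 12, nat_lit 15, nat_lit 13, nat_lit 12, nat_lit 19, nat_lit 16] (Rl.cmp (nat_lit 4400) (nat_lit 4899)))) (FT.node (nat_lit 4902) (FT.leaf (Fct.mk true (nat_lit 33) (nat_lit 23093) (nat_lit 33) [nat_lit 8, nat_lit 7, nat_lit 6, nat_lit 4, nat_lit 5, nat_lit 3, nat_lit 4, nat_lit 2,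 nat_lit 3, nat_lit 8, nat_lit 1, nat_lit 2, nat_lit 3, nat_lit 4, nat_lit 5, nat_lit 6, nat_lit 7, nat_lit 8, nat_lit 0, nat_lit 1, nat_lit 2, nat_lit 3, nat_lit 4, nat_lit 5, nat_lit 3, nat_lit 8, nat_lit 4, nat_lit 3, nat_lit 2, nat_lit 1, nat_lit 9, nat_lit 4, nat_lit 3, nat_lit 2, nat_lit 8, nat_lit 3, nat_lit 11, nat_lit 1, nat_lit 8, nat_lit 12, nat_lit 15, nat_lit 14, nat_lit 8, nat_lit 19] (Rl.rel (nat_lit 0) [nat_lit 3, nat_lit 8, nat_lit 2, nat_lit 3, nat_lit 4, nat_lit 5, nat_lit 3, nat_lit 9, nat_lit 2, nat_lit 16, nat_lit 15, nat_lit 14, nat_lit 19] (nat_lit 33) (nat_lit 2) [nat_lit 4827, nat_lit 4306, nat_lit 4572] []))) (FT.leaf (Fct.mk true (nat_lit 33) (nat_lit 278) (nat_lit 33) [nat_lit 5, nat_lit 4, nat_lit 3, nat_lit 8, nat_lit 2, nat_lit 3, nat_lit 4, nat_lit 5, nat_lit 6, nat_lit 7, nat_lit 4, nat_lit 2, nat_lit 3, nat_lit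 8, nat_lit 5, nat_lit 6, nat_lit 4, nat_lit 5, nat_lit 3, nat_lit 4, nat_lit 2, nat_lit 3, nat_lit 8, nat_lit 1, nat_lit 2, nat_lit 3, nat_lit 4, nat_lit 5, nat_lit 1, nat_lit 8, nat_lit 3, nat_lit 2, nat_lit 0, nat_lit 1, nat_lit 4, nat_lit 3, nat_lit 2, nat_lit 8, nat_lit 3, nat_lit 0, nat_lit 2, nat_lit 14, nat_lit 18] (Rl.t1 (nat_lit 4901) (nat_lit 4895)))))) (FT.node (nat_lit 4904) (FT.leaf (Fct.mk true (nat_lit 33) (nat_lit 249) (nat_lit 33) [nat_lit 4, nat_lit 5, nat_lit 3, nat_lit 4, nat_lit 1, nat_lit 2, nat_lit 3, nat_lit 8, nat_lit 0, nat_lit 1, nat_lit 2, nat_lit 3, nat_lit 4, nat_lit 5, nat_lit 6, nat_lit 7, nat_lit 3, nat_lit 8, nat_lit 6, nat_lit 4, nat_lit 5, nat_lit 3, nat_lit 4, nat_lit 2, nat_lit 3, nat_lit 8, nat_lit 0, nat_lit 1, nat_lit 2, nat_lit 3, nat_lit 4, nat_lit 5, nat_lit 9, nat_lit 4, nat_lit 13, nat_lit 12, nat_lit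 16] (Rl.inv (nat_lit 4902)))) (FT.node (nat_lit 4905) (FT.leaf (Fct.mk true (nat_lit 33) (nat_lit 49) (nat_lit 33) [nat_lit 5, nat_lit 6, nat_lit 4, nat_lit 5, nat_lit 3, nat_lit 4, nat_lit 2, nat_lit 3, nat_lit 8, nat_lit 1, nat_lit 2, nat_lit 3, nat_lit 4, nat_lit 5, nat_lit 6, nat_lit 7, nat_lit 6, nat_lit 4, nat_lit 5, nat_lit 2, nat_lit 3, nat_lit 4, nat_lit 1, nat_lit 2, nat_lit 3, nat_lit 8, nat_lit 0, nat_lit 1, nat_lit 2, nat_lit 3, nat_lit 4, nat_lit 5, nat_lit 8, nat_lit 3, nat_lit 11, nat_lit 10, nat_lit 1, nat_lit 15, nat_lit 13, nat_lit 12, nat_lit 16] (Rl.t1 (nat_lit 4903) (nat_lit 4900)))) (FT.leaf (Fct.mk false (nat_lit 32) (nat_lit 0) (nat_lit 32) [nat_lit 8, nat_lit 3, nat_lit 4, nat_lit 1, nat_lit 2, nat_lit 3, nat_lit 8, nat_lit 5, nat_lit 6, nat_lit 4, nat_lit 5, nat_lit 3, nat_lit 4, nat_lit 2, nat_lit 3, nat_lit 8, nat_lit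 1, nat_lit 2, nat_lit 3, nat_lit 4, nat_lit 5, nat_lit 1, nat_lit 2, nat_lit 0, nat_lit 1, nat_lit 9, nat_lit 4, nat_lit 3, nat_lit 2, nat_lit 8, nat_lit 3, nat_lit 11, nat_lit 1, nat_lit 8, nat_lit 12, nat_lit 15, nat_lit 13, nat_lit 18] (Rl.cmp (nat_lit 3004) (nat_lit 4141))))))) (FT.node (nat_lit 4909) (FT.node (nat_lit 4907) (FT.leaf (Fct.mk false (nat_lit 32) (nat_lit 0) (nat_lit 32) [nat_lit 2, nat_lit 3, nat_lit 8, nat_lit 6, nat_lit 4, nat_lit 5, nat_lit 3, nat_lit 4, nat_lit 2, nat_lit 3, nat_lit 8, nat_lit 1, nat_lit 2, nat_lit 3, nat_lit 4, nat_lit 5, nat_lit 2, nat_lit 1, nat_lit 4, nat_lit 3, nat_lit 2, nat_lit 0, nat_lit 1, nat_lit 9, nat_lit 4, nat_lit 3, nat_lit 2, nat_lit 8, nat_lit 3, nat_lit 1, nat_lit 9, nat_lit 8, nat_lit 16, nat_lit 15, nat_lit 14, nat_lit 18] (Rl.cmp (nat_lit 3010) (nat_lit 4905)))) (FT.node (nat_lit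 4908) (FT.leaf (Fct.mk false (nat_lit 33) (nat_lit 0) (nat_lit 33) [nat_lit 3, nat_lit 4, nat_lit 5, nat_lit 2, nat_lit 3, nat_lit 4, nat_lit 1, nat_lit 2, nat_lit 3, nat_lit 8, nat_lit 0, nat_lit 1, nat_lit 2, nat_lit 3, nat_lit 4, nat_lit 5, nat_lit 6, nat_lit 7, nat_lit 5, nat_lit 4, nat_lit 2, nat_lit 3, nat_lit 8, nat_lit 1, nat_lit 2, nat_lit 3, nat_lit 4, nat_lit 5, nat_lit 1, nat_lit 8, nat_lit 3, nat_lit 2, nat_lit 0, nat_lit 1, nat_lit 4, nat_lit 3, nat_lit 2, nat_lit 8, nat_lit 3, nat_lit 11, nat_lit 10, nat_lit 16, nat_lit 12, nat_lit 15, nat_lit 14, nat_lit 12, nat_lit 19] (Rl.cmp (nat_lit 4605) (nat_lit 4605)))) (FT.leaf (Fct.mk false (nat_lit 33) (nat_lit 0) (nat_lit 33) [nat_lit 3, nat_lit 8, nat_lit 7, nat_lit 6, nat_lit 4, nat_lit 5, nat_lit 3, nat_lit 4, nat_lit 2, nat_lit 3, nat_lit 8, nat_lit 0, nat_lit 1, nat_lit 2, nat_lit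 3, nat_lit 4, nat_lit 5, nat_lit 6, nat_lit 7, nat_lit 8, nat_lit 3, nat_lit 4, nat_lit 1, nat_lit 2, nat_lit 3, nat_lit 8, nat_lit 5, nat_lit 6, nat_lit 4, nat_lit 5, nat_lit 3, nat_lit 4, nat_lit 2, nat_lit 3, nat_lit 8, nat_lit 1, nat_lit 2, nat_lit 3, nat_lit 4, nat_lit 5, nat_lit 4, nat_lit 3, nat_lit 2, nat_lit 8, nat_lit 3, nat_lit 8, nat_lit 10, nat_lit 0, nat_lit 12, nat_lit 15, nat_lit 19, nat_lit 16] (Rl.cmp (nat_lit 4400) (nat_lit 4907)))))) (FT.node (nat_lit 4910) (FT.leaf (Fct.mk false (nat_lit 33) (nat_lit 0) (nat_lit 33) [nat_lit 8, nat_lit 4, nat_lit 5, nat_lit 2, nat_lit 3, nat_lit 4, nat_lit 1, nat_lit 2, nat_lit 3, nat_lit 8, nat_lit 6, nat_lit 7, nat_lit 5, nat_lit 6, nat_lit 4, nat_lit 5, nat_lit 3, nat_lit 4, nat_lit 2, nat_lit 3, nat_lit 8, nat_lit 1, nat_lit 2, nat_lit 3, nat_lit 4, nat_lit 5, nat_lit 6, nat_lit 7,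 nat_lit 4, nat_lit 5, nat_lit 3, nat_lit 4, nat_lit 2, nat_lit 3, nat_lit 8, nat_lit 1, nat_lit 2, nat_lit 3, nat_lit 4, nat_lit 5, nat_lit 2, nat_lit 3, nat_lit 8, nat_lit 4, nat_lit 3, nat_lit 2, nat_lit 1, nat_lit 9, nat_lit 4, nat_lit 3, nat_lit 2, nat_lit 8, nat_lit 3, nat_lit 1, nat_lit 8, nat_lit 16] (Rl.cmp (nat_lit 4605) (nat_lit 4908)))) (FT.node (nat_lit 4911) (FT.leaf (Fct.mk false (nat_lit 33) (nat_lit 0) (nat_lit 33) [nat_lit 2, nat_lit 3, nat_lit 8, nat_lit 6, nat_lit 4, nat_lit 5, nat_lit 3, nat_lit 4, nat_lit 2, nat_lit 3, nat_lit 8, nat_lit 0, nat_lit 1, nat_lit 2, nat_lit 3, nat_lit 4, nat_lit 5, nat_lit 6, nat_lit 7, nat_lit 3, nat_lit 4, nat_lit 2, nat_lit 3, nat_lit 8, nat_lit 0, nat_lit 1, nat_lit 2, nat_lit 3, nat_lit 4, nat_lit 5, nat_lit 2, nat_lit 1, nat_lit 3, nat_lit 2, nat_lit 0, nat_lit 1, nat_lit 4, nat_lit 3,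 nat_lit 2, nat_lit 8, nat_lit 3, nat_lit 10, nat_lit 12, nat_lit 15, nat_lit 14, nat_lit 12, nat_lit 19, nat_lit 16] (Rl.cmp (nat_lit 4456) (nat_lit 4909)))) (FT.leaf (Fct.mk true (nat_lit 5) (nat_lit 54629) (nat_lit 33) [nat_lit 8, nat_lit 3, nat_lit 4, nat_lit 1, nat_lit 2, nat_lit 3, nat_lit 8, nat_lit 0, nat_lit 1, nat_lit 2, nat_lit 3, nat_lit 4, nat_lit 5, nat_lit 6, nat_lit 7, nat_lit 4, nat_lit 2, nat_lit 3, nat_lit 8, nat_lit 5, nat_lit 6, nat_lit 4, nat_lit 5, nat_lit 3, nat_lit 4, nat_lit 2, nat_lit 3, nat_lit 8, nat_lit 1, nat_lit 2, nat_lit 3, nat_lit 4, nat_lit 5, nat_lit 2, nat_lit 1, nat_lit 4, nat_lit 3, nat_lit 2, nat_lit 8, nat_lit 3, nat_lit 0, nat_lit 2, nat_lit 15, nat_lit 12, nat_lit 16] (Rl.rel (nat_lit 0) [nat_lit 3, nat_lit 8, nat_lit 2, nat_lit 3, nat_lit 4, nat_lit 5, nat_lit 2, nat_lit 1, nat_lit 3, nat_lit 2, nat_lit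 8, nat_lit 3, nat_lit 0, nat_lit 15, nat_lit 14, nat_lit 19] (nat_lit 33) (nat_lit 2) [nat_lit 4827, nat_lit 4906, nat_lit 3988] []))))))) (FT.node (nat_lit 4918) (FT.node (nat_lit 4915) (FT.node (nat_lit 4913) (FT.leaf (Fct.mk true (nat_lit 5) (nat_lit 551) (nat_lit 33) [nat_lit 6, nat_lit 5, nat_lit 4, nat_lit 1, nat_lit 2, nat_lit 3, nat_lit 8, nat_lit 0, nat_lit 1, nat_lit 2, nat_lit 3, nat_lit 4, nat_lit 5, nat_lit 6, nat_lit 7, nat_lit 4, nat_lit 2, nat_lit 3, nat_lit 8, nat_lit 0, nat_lit 1, nat_lit 2, nat_lit 3, nat_lit 4, nat_lit 5, nat_lit 8, nat_lit 4, nat_lit 3, nat_lit 2, nat_lit 1, nat_lit 9, nat_lit 4, nat_lit 3, nat_lit 2, nat_lit 8, nat_lit 3, nat_lit 11, nat_lit 8, nat_lit 10, nat_lit 14, nat_lit 13, nat_lit 19] (Rl.t1 (nat_lit 4911) (nat_lit 4156)))) (FT.node (nat_lit 4914) (FT.leaf (Fct.mk true (nat_lit 33) (nat_lit 1370)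 (nat_lit 5) [nat_lit 3, nat_lit 8, nat_lit 6, nat_lit 4, nat_lit 5, nat_lit 3, nat_lit 4, nat_lit 2, nat_lit 3, nat_lit 8, nat_lit 0, nat_lit 1, nat_lit 2, nat_lit 3, nat_lit 4, nat_lit 5, nat_lit 6, nat_lit 7, nat_lit 3, nat_lit 4, nat_lit 2, nat_lit 3, nat_lit 8, nat_lit 1, nat_lit 2, nat_lit 3, nat_lit 4, nat_lit 5, nat_lit 8, nat_lit 3, nat_lit 11, nat_lit 10, nat_lit 15, nat_lit 19] (Rl.inv (nat_lit 4912)))) (FT.leaf (Fct.mk true (nat_lit 33) (nat_lit 74) (nat_lit 5) [nat_lit 3, nat_lit 8, nat_lit 6, nat_lit 5, nat_lit 2, nat_lit 3, nat_lit 4, nat_lit 1, nat_lit 2, nat_lit 3, nat_lit 8, nat_lit 0, nat_lit 1, nat_lit 2, nat_lit 3, nat_lit 4, nat_lit 5, nat_lit 6, nat_lit 7, nat_lit 6, nat_lit 3, nat_lit 2, nat_lit 1, nat_lit 8, nat_lit 3, nat_lit 2, nat_lit 0, nat_lit 1, nat_lit 9, nat_lit 4, nat_lit 3, nat_lit 2, nat_lit 8, nat_lit 3,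 nat_lit 0, nat_lit 2, nat_lit 17, nat_lit 19] (Rl.t1 (nat_lit 4913) (nat_lit 4910)))))) (FT.node (nat_lit 4916) (FT.leaf (Fct.mk false (nat_lit 32) (nat_lit 0) (nat_lit 32) [nat_lit 2, nat_lit 3, nat_lit 8, nat_lit 6, nat_lit 4, nat_lit 5, nat_lit 3, nat_lit 4, nat_lit 2, nat_lit 3, nat_lit 8, nat_lit 1, nat_lit 2, nat_lit 3, nat_lit 4, nat_lit 5, nat_lit 3, nat_lit 8, nat_lit 4, nat_lit 3, nat_lit 2, nat_lit 1, nat_lit 9, nat_lit 4, nat_lit 3, nat_lit 2, nat_lit 8, nat_lit 3, nat_lit 0, nat_lit 2, nat_lit 15, nat_lit 14, nat_lit 13, nat_lit 18, nat_lit 16] (Rl.cmp (nat_lit 3010) (nat_lit 4071)))) (FT.node (nat_lit 4917) (FT.leaf (Fct.mk false (nat_lit 32) (nat_lit 0) (nat_lit 32) [nat_lit 6, nat_lit 1, nat_lit 4, nat_lit 3, nat_lit 2, nat_lit 8, nat_lit 3, nat_lit 11, nat_lit 8, nat_lit 10, nat_lit 1, nat_lit 14, nat_lit 13, nat_lit 18, nat_lit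 16] (Rl.cmp (nat_lit 3004) (nat_lit 4915)))) (FT.leaf (Fct.mk false (nat_lit 33) (nat_lit 0) (nat_lit 33) [nat_lit 6, nat_lit 4, nat_lit 5, nat_lit 2, nat_lit 3, nat_lit 4, nat_lit 1, nat_lit 2, nat_lit 3, nat_lit 8, nat_lit 0, nat_lit 1, nat_lit 2, nat_lit 3, nat_lit 4, nat_lit 5, nat_lit 6, nat_lit 7, nat_lit 6, nat_lit 5, nat_lit 4, nat_lit 3, nat_lit 8, nat_lit 2, nat_lit 3, nat_lit 4, nat_lit 1, nat_lit 2, nat_lit 3, nat_lit 8, nat_lit 5, nat_lit 6, nat_lit 4, nat_lit 5, nat_lit 3, nat_lit 4, nat_lit 2, nat_lit 3, nat_lit 8, nat_lit 1, nat_lit 2, nat_lit 3, nat_lit 4, nat_lit 5, nat_lit 4, nat_lit 3, nat_lit 2, nat_lit 0, nat_lit 1, nat_lit 9, nat_lit 4, nat_lit 3, nat_lit 2, nat_lit 8, nat_lit 3, nat_lit 10, nat_lit 2, nat_lit 8, nat_lit 10, nat_lit 1, nat_lit 16, nat_lit 15, nat_lit 14, nat_lit 16, nat_lit 8, nat_lit 18] (Rl.cmp (nat_lit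 4456) (nat_lit 4402))))))) (FT.node (nat_lit 4921) (FT.node (nat_lit 4919) (FT.leaf (Fct.mk false (nat_lit 33) (nat_lit 0) (nat_lit 33) [nat_lit 5, nat_lit 4, nat_lit 3, nat_lit 8, nat_lit 6, nat_lit 7, nat_lit 5, nat_lit 6, nat_lit 4, nat_lit 5, nat_lit 3, nat_lit 4, nat_lit 1, nat_lit 2, nat_lit 3, nat_lit 8, nat_lit 0, nat_lit 1, nat_lit 2, nat_lit 3, nat_lit 4, nat_lit 5, nat_lit 6, nat_lit 7, nat_lit 2, nat_lit 3, nat_lit 8, nat_lit 1, nat_lit 2, nat_lit 3, nat_lit 4, nat_lit 5, nat_lit 4, nat_lit 9, nat_lit 15, nat_lit 14, nat_lit 8, nat_lit 16] (Rl.cmp (nat_lit 4402) (nat_lit 4917)))) (FT.node (nat_lit 4920) (FT.leaf (Fct.mk false (nat_lit 33) (nat_lit 0) (nat_lit 33) [nat_lit 3, nat_lit 4, nat_lit 5, nat_lit 2, nat_lit 3, nat_lit 4, nat_lit 1, nat_lit 2, nat_lit 3, nat_lit 8, nat_lit 6, nat_lit 7, nat_lit 5, nat_lit 6, nat_lit 4, nat_lit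 5, nat_lit 3, nat_lit 4, nat_lit 2, nat_lit 3, nat_lit 8, nat_lit 1, nat_lit 2, nat_lit 3, nat_lit 4, nat_lit 5, nat_lit 6, nat_lit 7, nat_lit 8, nat_lit 4, nat_lit 5, nat_lit 3, nat_lit 4, nat_lit 1, nat_lit 2, nat_lit 3, nat_lit 8, nat_lit 0, nat_lit 1, nat_lit 2, nat_lit 3, nat_lit 4, nat_lit 5, nat_lit 3, nat_lit 11, nat_lit 8, nat_lit 10, nat_lit 1, nat_lit 12, nat_lit 15, nat_lit 17, nat_lit 12, nat_lit 19, nat_lit 16] (Rl.cmp (nat_lit 4456) (nat_lit 4918)))) (FT.leaf (Fct.mk false (nat_lit 33) (nat_lit 0) (nat_lit 33) [nat_lit 4, nat_lit 3, nat_lit 8, nat_lit 7, nat_lit 5, nat_lit 6, nat_lit 4, nat_lit 5, nat_lit 3, nat_lit 4, nat_lit 1, nat_lit 2, nat_lit 3, nat_lit 8, nat_lit 0, nat_lit 1, nat_lit 2, nat_lit 3, nat_lit 4, nat_lit 5, nat_lit 6, nat_lit 7, nat_lit 2, nat_lit 3, nat_lit 4, nat_lit 5, nat_lit 3, nat_lit 8, nat_lit 4, nat_lit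 3, nat_lit 2, nat_lit 1, nat_lit 9, nat_lit 4, nat_lit 3, nat_lit 2, nat_lit 8, nat_lit 3, nat_lit 11, nat_lit 9, nat_lit 10, nat_lit 2, nat_lit 8, nat_lit 10, nat_lit 1, nat_lit 8, nat_lit 12, nat_lit 15, nat_lit 16, nat_lit 8, nat_lit 18] (Rl.cmp (nat_lit 4605) (nat_lit 4919)))))) (FT.node (nat_lit 4923) (FT.node (nat_lit 4922) (FT.leaf (Fct.mk false (nat_lit 33) (nat_lit 0) (nat_lit 33) [nat_lit 4, nat_lit 3, nat_lit 8, nat_lit 2, nat_lit 3, nat_lit 4, nat_lit 5, nat_lit 6, nat_lit 7, nat_lit 8, nat_lit 4, nat_lit 5, nat_lit 3, nat_lit 4, nat_lit 2, nat_lit 3, nat_lit 8, nat_lit 0, nat_lit 1, nat_lit 2, nat_lit 3, nat_lit 4, nat_lit 5, nat_lit 2, nat_lit 1, nat_lit 3, nat_lit 2, nat_lit 0, nat_lit 1, nat_lit 4, nat_lit 3, nat_lit 2, nat_lit 8, nat_lit 3, nat_lit 16, nat_lit 14, nat_lit 17, nat_lit 12, nat_lit 18, nat_lit 16] (Rl.cmp (nat_lit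 4605) (nat_lit 4920)))) (FT.leaf (Fct.mk true (nat_lit 32) (nat_lit 114802) (nat_lit 33) [nat_lit 6, nat_lit 4, nat_lit 5, nat_lit 3, nat_lit 4, nat_lit 2, nat_lit 3, nat_lit 8, nat_lit 1, nat_lit 2, nat_lit 3, nat_lit 4, nat_lit 5, nat_lit 6, nat_lit 7, nat_lit 5, nat_lit 4, nat_lit 1, nat_lit 2, nat_lit 3, nat_lit 8, nat_lit 0, nat_lit 1, nat_lit 2, nat_lit 3, nat_lit 4, nat_lit 5, nat_lit 3, nat_lit 2, nat_lit 1, nat_lit 8, nat_lit 3, nat_lit 2, nat_lit 0, nat_lit 1, nat_lit 9, nat_lit 4, nat_lit 3, nat_lit 2, nat_lit 8, nat_lit 3, nat_lit 11, nat_lit 2, nat_lit 16, nat_lit 12, nat_lit 15, nat_lit 14, nat_lit 17, nat_lit 19] (Rl.rel (nat_lit 0) [nat_lit 8, nat_lit 3, nat_lit 4, nat_lit 2, nat_lit 3, nat_lit 8, nat_lit 1, nat_lit 2, nat_lit 3, nat_lit 4, nat_lit 5, nat_lit 2, nat_lit 3, nat_lit 0, nat_lit 15, nat_lit 14, nat_lit 19] (nat_lit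 33) (nat_lit 2) [nat_lit 4827, nat_lit 4916, nat_lit 4045] [])))) (FT.node (nat_lit 4924) (FT.leaf (Fct.mk true (nat_lit 32) (nat_lit 1681) (nat_lit 33) [nat_lit 5, nat_lit 6, nat_lit 3, nat_lit 4, nat_lit 5, nat_lit 2, nat_lit 3, nat_lit 4, nat_lit 1, nat_lit 2, nat_lit 3, nat_lit 8, nat_lit 0, nat_lit 1, nat_lit 2, nat_lit 3, nat_lit 4, nat_lit 5, nat_lit 6, nat_lit 7, nat_lit 4, nat_lit 3, nat_lit 8, nat_lit 1, nat_lit 2, nat_lit 3, nat_lit 4, nat_lit 5, nat_lit 3, nat_lit 2, nat_lit 1, nat_lit 8, nat_lit 3, nat_lit 2, nat_lit 0, nat_lit 1, nat_lit 9, nat_lit 4, nat_lit 3, nat_lit 2, nat_lit 8, nat_lit 3, nat_lit 0, nat_lit 2, nat_lit 15, nat_lit 14, nat_lit 19] (Rl.t1 (nat_lit 4922) (nat_lit 4068)))) (FT.leaf (Fct.mk true (nat_lit 33) (nat_lit 5298) (nat_lit 32) [nat_lit 1, nat_lit 2, nat_lit 3, nat_lit 8, nat_lit 0, nat_lit 1, nat_lit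 2, nat_lit 3, nat_lit 4, nat_lit 5, nat_lit 6, nat_lit 7, nat_lit 6, nat_lit 5, nat_lit 4, nat_lit 1, nat_lit 2, nat_lit 3, nat_lit 8, nat_lit 0, nat_lit 1, nat_lit 2, nat_lit 3, nat_lit 4, nat_lit 5, nat_lit 4, nat_lit 3, nat_lit 2, nat_lit 1, nat_lit 9, nat_lit 4, nat_lit 3, nat_lit 2, nat_lit 8, nat_lit 3, nat_lit 10, nat_lit 2, nat_lit 8, nat_lit 10, nat_lit 1, nat_lit 8, nat_lit 12, nat_lit 15, nat_lit 19] (Rl.inv (nat_lit 4923))))))))) (FT.node (nat_lit 4937) (FT.node (nat_lit 4931) (FT.node (nat_lit 4928) (FT.node (nat_lit 4926) (FT.leaf (Fct.mk true (nat_lit 33) (nat_lit 96) (nat_lit 32) [nat_lit 5, nat_lit 3, nat_lit 4, nat_lit 2, nat_lit 3, nat_lit 8, nat_lit 0, nat_lit 1, nat_lit 2, nat_lit 3, nat_lit 4, nat_lit 5, nat_lit 6, nat_lit 7, nat_lit 5, nat_lit 2, nat_lit 3, nat_lit 4, nat_lit 1, nat_lit 2, nat_lit 3, nat_lit 8, nat_lit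 0, nat_lit 1, nat_lit 2, nat_lit 3, nat_lit 4, nat_lit 5, nat_lit 4, nat_lit 11, nat_lit 8, nat_lit 10, nat_lit 1, nat_lit 12, nat_lit 15, nat_lit 14, nat_lit 17, nat_lit 19, nat_lit 16] (Rl.t1 (nat_lit 4924) (nat_lit 4921)))) (FT.node (nat_lit 4927) (FT.leaf (Fct.mk false (nat_lit 32) (nat_lit 0) (nat_lit 32) [nat_lit 3, nat_lit 8, nat_lit 5, nat_lit 2, nat_lit 3, nat_lit 4, nat_lit 1, nat_lit 2, nat_lit 3, nat_lit 8, nat_lit 6, nat_lit 7, nat_lit 5, nat_lit 6, nat_lit 4, nat_lit 5, nat_lit 3, nat_lit 4, nat_lit 2, nat_lit 3, nat_lit 8, nat_lit 1, nat_lit 2, nat_lit 3, nat_lit 4, nat_lit 5, nat_lit 6, nat_lit 7, nat_lit 8, nat_lit 6, nat_lit 5, nat_lit 3, nat_lit 4, nat_lit 2, nat_lit 3, nat_lit 8, nat_lit 1, nat_lit 2, nat_lit 3, nat_lit 4, nat_lit 5, nat_lit 8, nat_lit 3, nat_lit 2, nat_lit 1, nat_lit 9, nat_lit 4, nat_lit 3, nat_lit 2,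 nat_lit 8, nat_lit 3, nat_lit 11, nat_lit 10, nat_lit 2, nat_lit 8, nat_lit 10, nat_lit 1, nat_lit 13] (Rl.cmp (nat_lit 3004) (nat_lit 4106)))) (FT.leaf (Fct.mk false (nat_lit 33) (nat_lit 0) (nat_lit 33) [nat_lit 5, nat_lit 6, nat_lit 4, nat_lit 5, nat_lit 3, nat_lit 4, nat_lit 2, nat_lit 3, nat_lit 8, nat_lit 1, nat_lit 2, nat_lit 3, nat_lit 4, nat_lit 5, nat_lit 6, nat_lit 7, nat_lit 9, nat_lit 4, nat_lit 3, nat_lit 2, nat_lit 8, nat_lit 3, nat_lit 11, nat_lit 1, nat_lit 12, nat_lit 15, nat_lit 14, nat_lit 13, nat_lit 12] (Rl.cmp (nat_lit 4402) (nat_lit 4456)))))) (FT.node (nat_lit 4929) (FT.leaf (Fct.mk false (nat_lit 33) (nat_lit 0) (nat_lit 33) [nat_lit 1, nat_lit 2, nat_lit 3, nat_lit 8, nat_lit 7, nat_lit 5, nat_lit 6, nat_lit 4, nat_lit 5, nat_lit 3, nat_lit 4, nat_lit 2, nat_lit 3, nat_lit 8, nat_lit 1, nat_lit 2, nat_lit 3, nat_lit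 4, nat_lit 5, nat_lit 6, nat_lit 7, nat_lit 8, nat_lit 3, nat_lit 4, nat_lit 2, nat_lit 3, nat_lit 8, nat_lit 1, nat_lit 2, nat_lit 3, nat_lit 4, nat_lit 5, nat_lit 2, nat_lit 1, nat_lit 3, nat_lit 2, nat_lit 0, nat_lit 1, nat_lit 4, nat_lit 3, nat_lit 2, nat_lit 8, nat_lit 3, nat_lit 8, nat_lit 10, nat_lit 1, nat_lit 14, nat_lit 13] (Rl.cmp (nat_lit 4605) (nat_lit 4927)))) (FT.node (nat_lit 4930) (FT.leaf (Fct.mk false (nat_lit 33) (nat_lit 0) (nat_lit 33) [nat_lit 4, nat_lit 5, nat_lit 3, nat_lit 4, nat_lit 2, nat_lit 3, nat_lit 8, nat_lit 0, nat_lit 1, nat_lit 2, nat_lit 3, nat_lit 4, nat_lit 5, nat_lit 6, nat_lit 7, nat_lit 4, nat_lit 5, nat_lit 3, nat_lit 4, nat_lit 1, nat_lit 2, nat_lit 3, nat_lit 8, nat_lit 0, nat_lit 1, nat_lit 2, nat_lit 3, nat_lit 4, nat_lit 5, nat_lit 2, nat_lit 1, nat_lit 3, nat_lit 2, nat_lit 0, nat_lit 1, nat_lit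 4, nat_lit 3, nat_lit 2, nat_lit 8, nat_lit 3, nat_lit 10, nat_lit 1, nat_lit 15, nat_lit 8, nat_lit 19, nat_lit 16] (Rl.cmp (nat_lit 4605) (nat_lit 4928)))) (FT.leaf (Fct.mk false (nat_lit 33) (nat_lit 0) (nat_lit 33) [nat_lit 5, nat_lit 2, nat_lit 3, nat_lit 4, nat_lit 1, nat_lit 2, nat_lit 3, nat_lit 8, nat_lit 0, nat_lit 1, nat_lit 2, nat_lit 3, nat_lit 4, nat_lit 5, nat_lit 6, nat_lit 7, nat_lit 3, nat_lit 4, nat_lit 2, nat_lit 3, nat_lit 8, nat_lit 1, nat_lit 2, nat_lit 3, nat_lit 4, nat_lit 5, nat_lit 3, nat_lit 2, nat_lit 1, nat_lit 4, nat_lit 3, nat_lit 2, nat_lit 0, nat_lit 1, nat_lit 9, nat_lit 4, nat_lit 3, nat_lit 2, nat_lit 8, nat_lit 3, nat_lit 9, nat_lit 10, nat_lit 2, nat_lit 8, nat_lit 10, nat_lit 1, nat_lit 15, nat_lit 14, nat_lit 16, nat_lit 8] (Rl.cmp (nat_lit 4402) (nat_lit 4929))))))) (FT.node (nat_lit 4934) (FT.node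 (nat_lit 4932) (FT.leaf (Fct.mk true (nat_lit 32) (nat_lit 1571) (nat_lit 33) [nat_lit 2, nat_lit 3, nat_lit 4, nat_lit 5, nat_lit 6, nat_lit 7, nat_lit 8, nat_lit 2, nat_lit 3, nat_lit 4, nat_lit 1, nat_lit 2, nat_lit 3, nat_lit 8, nat_lit 5, nat_lit 6, nat_lit 4, nat_lit 5, nat_lit 3, nat_lit 4, nat_lit 2, nat_lit 3, nat_lit 8, nat_lit 1, nat_lit 2, nat_lit 3, nat_lit 4, nat_lit 5, nat_lit 1, nat_lit 3, nat_lit 2, nat_lit 0, nat_lit 1, nat_lit 4, nat_lit 3, nat_lit 2, nat_lit 8, nat_lit 3, nat_lit 0, nat_lit 15, nat_lit 14, nat_lit 19] (Rl.rel (nat_lit 0) [nat_lit 3, nat_lit 8, nat_lit 2, nat_lit 3, nat_lit 4, nat_lit 5, nat_lit 2, nat_lit 1, nat_lit 3, nat_lit 2, nat_lit 8, nat_lit 3, nat_lit 10, nat_lit 0, nat_lit 15, nat_lit 14, nat_lit 19] (nat_lit 33) (nat_lit 2) [nat_lit 4827, nat_lit 4926, nat_lit 3852] []))) (FT.node (nat_lit 4933)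 (FT.leaf (Fct.mk true (nat_lit 32) (nat_lit 269) (nat_lit 33) [nat_lit 2, nat_lit 3, nat_lit 4, nat_lit 5, nat_lit 6, nat_lit 7, nat_lit 4, nat_lit 1, nat_lit 2, nat_lit 3, nat_lit 8, nat_lit 5, nat_lit 6, nat_lit 4, nat_lit 5, nat_lit 3, nat_lit 4, nat_lit 2, nat_lit 3, nat_lit 8, nat_lit 1, nat_lit 2, nat_lit 3, nat_lit 4, nat_lit 5, nat_lit 2, nat_lit 1, nat_lit 8, nat_lit 3, nat_lit 2, nat_lit 0, nat_lit 1, nat_lit 4, nat_lit 3, nat_lit 2, nat_lit 8, nat_lit 3, nat_lit 0, nat_lit 14, nat_lit 19] (Rl.t1 (nat_lit 4931) (nat_lit 4125)))) (FT.leaf (Fct.mk true (nat_lit 33) (nat_lit 673) (nat_lit 32) [nat_lit 3, nat_lit 8, nat_lit 5, nat_lit 2, nat_lit 3, nat_lit 4, nat_lit 1, nat_lit 2, nat_lit 3, nat_lit 8, nat_lit 0, nat_lit 1, nat_lit 2, nat_lit 3, nat_lit 4, nat_lit 5, nat_lit 6, nat_lit 7, nat_lit 2, nat_lit 3, nat_lit 8, nat_lit 1, nat_lit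 2, nat_lit 3, nat_lit 4, nat_lit 5, nat_lit 3, nat_lit 2, nat_lit 1, nat_lit 8, nat_lit 3, nat_lit 2, nat_lit 0, nat_lit 1, nat_lit 4, nat_lit 3, nat_lit 2, nat_lit 8, nat_lit 3, nat_lit 11, nat_lit 10, nat_lit 1, nat_lit 15, nat_lit 14, nat_lit 13, nat_lit 12, nat_lit 18] (Rl.inv (nat_lit 4932)))))) (FT.node (nat_lit 4935) (FT.leaf (Fct.mk true (nat_lit 33) (nat_lit 2) (nat_lit 32) [nat_lit 3, nat_lit 8, nat_lit 4, nat_lit 5, nat_lit 3, nat_lit 4, nat_lit 1, nat_lit 2, nat_lit 3, nat_lit 8, nat_lit 0, nat_lit 1, nat_lit 2, nat_lit 3, nat_lit 4, nat_lit 5, nat_lit 6, nat_lit 7, nat_lit 6, nat_lit 1, nat_lit 3, nat_lit 2, nat_lit 8, nat_lit 3, nat_lit 10, nat_lit 0, nat_lit 14, nat_lit 12] (Rl.t1 (nat_lit 4933) (nat_lit 4930)))) (FT.node (nat_lit 4936) (FT.leaf (Fct.mk false (nat_lit 33) (nat_lit 0) (nat_lit 33) [nat_lit 102] (Rl.cmp (nat_lit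 4402) (nat_lit 4400)))) (FT.leaf (Fct.mk false (nat_lit 33) (nat_lit 0) (nat_lit 33) [nat_lit 3, nat_lit 8, nat_lit 2, nat_lit 3, nat_lit 4, nat_lit 1, nat_lit 2, nat_lit 3, nat_lit 8, nat_lit 7, nat_lit 5, nat_lit 6, nat_lit 4, nat_lit 5, nat_lit 3, nat_lit 4, nat_lit 2, nat_lit 3, nat_lit 8, nat_lit 1, nat_lit 2, nat_lit 3, nat_lit 4, nat_lit 5, nat_lit 6, nat_lit 7, nat_lit 4, nat_lit 2, nat_lit 3, nat_lit 8, nat_lit 1, nat_lit 2, nat_lit 3, nat_lit 4, nat_lit 5, nat_lit 3, nat_lit 2, nat_lit 0, nat_lit 1, nat_lit 4, nat_lit 3, nat_lit 2, nat_lit 8, nat_lit 3, nat_lit 2, nat_lit 17, nat_lit 19, nat_lit 16] (Rl.cmp (nat_lit 4605) (nat_lit 4935)))))))) (FT.node (nat_lit 4943) (FT.node (nat_lit 4940) (FT.node (nat_lit 4938) (FT.leaf (Fct.mk false (nat_lit 33) (nat_lit 0) (nat_lit 33) [nat_lit 8, nat_lit 5, nat_lit 3, nat_lit 4, nat_lit 2, nat_lit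 3, nat_lit 8, nat_lit 1, nat_lit 2, nat_lit 3, nat_lit 4, nat_lit 5, nat_lit 6, nat_lit 7, nat_lit 2, nat_lit 3, nat_lit 8, nat_lit 1, nat_lit 2, nat_lit 3, nat_lit 4, nat_lit 5, nat_lit 1, nat_lit 3, nat_lit 2, nat_lit 0, nat_lit 1, nat_lit 9, nat_lit 4, nat_lit 3, nat_lit 2, nat_lit 8, nat_lit 3, nat_lit 2, nat_lit 10, nat_lit 1, nat_lit 12, nat_lit 15, nat_lit 14, nat_lit 17, nat_lit 19, nat_lit 16] (Rl.cmp (nat_lit 4400) (nat_lit 4936)))) (FT.node (nat_lit 4939) (FT.leaf (Fct.mk false (nat_lit 33) (nat_lit 0) (nat_lit 33) [nat_lit 0, nat_lit 1, nat_lit 2, nat_lit 3, nat_lit 4, nat_lit 5, nat_lit 6, nat_lit 7, nat_lit 2, nat_lit 3, nat_lit 8, nat_lit 0, nat_lit 1, nat_lit 2, nat_lit 3, nat_lit 4, nat_lit 5, nat_lit 1, nat_lit 2, nat_lit 0, nat_lit 1, nat_lit 9, nat_lit 4, nat_lit 3, nat_lit 2, nat_lit 8, nat_lit 3, nat_lit 10, nat_lit 14,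 nat_lit 13, nat_lit 16] (Rl.cmp (nat_lit 4456) (nat_lit 4937)))) (FT.leaf (Fct.mk false (nat_lit 33) (nat_lit 0) (nat_lit 33) [nat_lit 8, nat_lit 3, nat_lit 4, nat_lit 2, nat_lit 3, nat_lit 8, nat_lit 7, nat_lit 5, nat_lit 6, nat_lit 4, nat_lit 5, nat_lit 3, nat_lit 4, nat_lit 2, nat_lit 3, nat_lit 8, nat_lit 0, nat_lit 1, nat_lit 2, nat_lit 3, nat_lit 4, nat_lit 5, nat_lit 6, nat_lit 7, nat_lit 4, nat_lit 5, nat_lit 3, nat_lit 4, nat_lit 2, nat_lit 3, nat_lit 8, nat_lit 1, nat_lit 2, nat_lit 3, nat_lit 4, nat_lit 5, nat_lit 1, nat_lit 2, nat_lit 0, nat_lit 1, nat_lit 3, nat_lit 2, nat_lit 8, nat_lit 3, nat_lit 10, nat_lit 1, nat_lit 12, nat_lit 15, nat_lit 17, nat_lit 19] (Rl.cmp (nat_lit 4400) (nat_lit 4938)))))) (FT.node (nat_lit 4941) (FT.leaf (Fct.mk false (nat_lit 33) (nat_lit 0) (nat_lit 33) [nat_lit 8, nat_lit 5, nat_lit 6, nat_lit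 4, nat_lit 5, nat_lit 2, nat_lit 3, nat_lit 4, nat_lit 1, nat_lit 2, nat_lit 3, nat_lit 8, nat_lit 0, nat_lit 1, nat_lit 2, nat_lit 3, nat_lit 4, nat_lit 5, nat_lit 6, nat_lit 7, nat_lit 4, nat_lit 1, nat_lit 2, nat_lit 3, nat_lit 8, nat_lit 0, nat_lit 1, nat_lit 2, nat_lit 3, nat_lit 4, nat_lit 5, nat_lit 3, nat_lit 2, nat_lit 0, nat_lit 1, nat_lit 9, nat_lit 4, nat_lit 3, nat_lit 2, nat_lit 8, nat_lit 3, nat_lit 0, nat_lit 16, nat_lit 12, nat_lit 15, nat_lit 14, nat_lit 16, nat_lit 8, nat_lit 19] (Rl.cmp (nat_lit 4402) (nat_lit 4939)))) (FT.node (nat_lit 4942) (FT.leaf (Fct.mk false (nat_lit 32) (nat_lit 0) (nat_lit 32) [nat_lit 3, nat_lit 8, nat_lit 5, nat_lit 2, nat_lit 3, nat_lit 4, nat_lit 1, nat_lit 2, nat_lit 3, nat_lit 8, nat_lit 6, nat_lit 7, nat_lit 5, nat_lit 6, nat_lit 4, nat_lit 5, nat_lit 3, nat_lit 4, nat_lit 2, nat_lit 3, nat_lit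 8, nat_lit 1, nat_lit 2, nat_lit 3, nat_lit 4, nat_lit 5, nat_lit 6, nat_lit 7, nat_lit 8, nat_lit 6, nat_lit 5, nat_lit 3, nat_lit 4, nat_lit 2, nat_lit 3, nat_lit 8, nat_lit 1, nat_lit 2, nat_lit 3, nat_lit 4, nat_lit 5, nat_lit 3, nat_lit 10, nat_lit 2, nat_lit 8, nat_lit 10, nat_lit 1, nat_lit 16, nat_lit 14, nat_lit 8, nat_lit 19, nat_lit 16] (Rl.cmp (nat_lit 3004) (nat_lit 4265)))) (FT.leaf (Fct.mk false (nat_lit 32) (nat_lit 0) (nat_lit 32) [nat_lit 3, nat_lit 8, nat_lit 5, nat_lit 2, nat_lit 3, nat_lit 4, nat_lit 1, nat_lit 2, nat_lit 3, nat_lit 8, nat_lit 6, nat_lit 7, nat_lit 5, nat_lit 6, nat_lit 4, nat_lit 5, nat_lit 3, nat_lit 4, nat_lit 2, nat_lit 3, nat_lit 8, nat_lit 1, nat_lit 2, nat_lit 3, nat_lit 4, nat_lit 5, nat_lit 6, nat_lit 7, nat_lit 8, nat_lit 5, nat_lit 3, nat_lit 4, nat_lit 2, nat_lit 3, nat_lit 8, nat_lit 1, nat_lit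 2, nat_lit 3, nat_lit 4, nat_lit 5, nat_lit 8, nat_lit 3, nat_lit 2, nat_lit 1, nat_lit 9, nat_lit 4, nat_lit 3, nat_lit 2, nat_lit 8, nat_lit 3, nat_lit 8, nat_lit 10, nat_lit 9, nat_lit 2, nat_lit 8, nat_lit 16, nat_lit 14] (Rl.cmp (nat_lit 3010) (nat_lit 4941))))))) (FT.node (nat_lit 4946) (FT.node (nat_lit 4944) (FT.leaf (Fct.mk false (nat_lit 33) (nat_lit 0) (nat_lit 33) [nat_lit 3, nat_lit 8, nat_lit 2, nat_lit 3, nat_lit 4, nat_lit 1, nat_lit 2, nat_lit 3, nat_lit 8, nat_lit 7, nat_lit 5, nat_lit 6, nat_lit 4, nat_lit 5, nat_lit 3, nat_lit 4, nat_lit 2, nat_lit 3, nat_lit 8, nat_lit 1, nat_lit 2, nat_lit 3, nat_lit 4, nat_lit 5, nat_lit 6, nat_lit 7, nat_lit 4, nat_lit 2, nat_lit 3, nat_lit 8, nat_lit 1, nat_lit 2, nat_lit 3, nat_lit 4, nat_lit 5, nat_lit 3, nat_lit 2, nat_lit 0, nat_lit 1, nat_lit 4, nat_lit 3, nat_lit 2, nat_lit 8,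 nat_lit 3, nat_lit 2, nat_lit 17, nat_lit 19, nat_lit 16] (Rl.cmp (nat_lit 4605) (nat_lit 4797)))) (FT.node (nat_lit 4945) (FT.leaf (Fct.mk false (nat_lit 33) (nat_lit 0) (nat_lit 33) [nat_lit 8, nat_lit 5, nat_lit 3, nat_lit 4, nat_lit 2, nat_lit 3, nat_lit 8, nat_lit 1, nat_lit 2, nat_lit 3, nat_lit 4, nat_lit 5, nat_lit 6, nat_lit 7, nat_lit 3, nat_lit 8, nat_lit 2, nat_lit 3, nat_lit 4, nat_lit 1, nat_lit 2, nat_lit 3, nat_lit 8, nat_lit 0, nat_lit 1, nat_lit 2, nat_lit 3, nat_lit 4, nat_lit 5, nat_lit 2, nat_lit 1, nat_lit 3, nat_lit 2, nat_lit 8, nat_lit 3, nat_lit 8, nat_lit 10, nat_lit 1, nat_lit 12, nat_lit 15, nat_lit 17, nat_lit 18] (Rl.cmp (nat_lit 4456) (nat_lit 4943)))) (FT.leaf (Fct.mk false (nat_lit 33) (nat_lit 0) (nat_lit 33) [nat_lit 5, nat_lit 4, nat_lit 3, nat_lit 8, nat_lit 2, nat_lit 3, nat_lit 4, nat_lit 1, nat_lit 2,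 nat_lit 3, nat_lit 8, nat_lit 7, nat_lit 5, nat_lit 6, nat_lit 4, nat_lit 5, nat_lit 3, nat_lit 4, nat_lit 2, nat_lit 3, nat_lit 8, nat_lit 1, nat_lit 2, nat_lit 3, nat_lit 4, nat_lit 5, nat_lit 6, nat_lit 7, nat_lit 8, nat_lit 4, nat_lit 5, nat_lit 3, nat_lit 4, nat_lit 1, nat_lit 2, nat_lit 3, nat_lit 8, nat_lit 0, nat_lit 1, nat_lit 2, nat_lit 3, nat_lit 4, nat_lit 5, nat_lit 1, nat_lit 2, nat_lit 8, nat_lit 3, nat_lit 11, nat_lit 10, nat_lit 2, nat_lit 8, nat_lit 10, nat_lit 1, nat_lit 15, nat_lit 14, nat_lit 13, nat_lit 19, nat_lit 16] (Rl.cmp (nat_lit 4402) (nat_lit 4944)))))) (FT.node (nat_lit 4948) (FT.node (nat_lit 4947) (FT.leaf (Fct.mk false (nat_lit 33) (nat_lit 0) (nat_lit 33) [nat_lit 4, nat_lit 3, nat_lit 8, nat_lit 0, nat_lit 1, nat_lit 2, nat_lit 3, nat_lit 4, nat_lit 5, nat_lit 1, nat_lit 2, nat_lit 3, nat_lit 8, nat_lit 10,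 nat_lit 0, nat_lit 8, nat_lit 12, nat_lit 15, nat_lit 12, nat_lit 18] (Rl.cmp (nat_lit 4605) (nat_lit 4945)))) (FT.leaf (Fct.mk false (nat_lit 33) (nat_lit 0) (nat_lit 33) [nat_lit 4, nat_lit 2, nat_lit 3, nat_lit 8, nat_lit 1, nat_lit 2, nat_lit 3, nat_lit 4, nat_lit 5, nat_lit 6, nat_lit 7, nat_lit 5, nat_lit 10, nat_lit 0, nat_lit 16, nat_lit 14, nat_lit 12, nat_lit 18] (Rl.cmp (nat_lit 4400) (nat_lit 4456))))) (FT.node (nat_lit 4949) (FT.leaf (Fct.mk false (nat_lit 33) (nat_lit 0) (nat_lit 33) [nat_lit 8, nat_lit 7, nat_lit 6, nat_lit 5, nat_lit 2, nat_lit 3, nat_lit 4, nat_lit 1, nat_lit 2, nat_lit 3, nat_lit 8, nat_lit 0, nat_lit 1, nat_lit 2, nat_lit 3, nat_lit 4, nat_lit 5, nat_lit 6, nat_lit 7, nat_lit 6, nat_lit 5, nat_lit 3, nat_lit 4, nat_lit 1, nat_lit 2, nat_lit 3, nat_lit 8, nat_lit 0, nat_lit 1, nat_lit 2, nat_lit 3, nat_lit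 4, nat_lit 5, nat_lit 1, nat_lit 2, nat_lit 3, nat_lit 11, nat_lit 10, nat_lit 8, nat_lit 12, nat_lit 15, nat_lit 19, nat_lit 16] (Rl.cmp (nat_lit 4605) (nat_lit 4947)))) (FT.leaf (Fct.mk false (nat_lit 33) (nat_lit 0) (nat_lit 33) [nat_lit 3, nat_lit 8, nat_lit 1, nat_lit 2, nat_lit 3, nat_lit 4, nat_lit 5, nat_lit 6, nat_lit 7, nat_lit 8, nat_lit 5, nat_lit 2, nat_lit 3, nat_lit 4, nat_lit 1, nat_lit 2, nat_lit 3, nat_lit 8, nat_lit 0, nat_lit 1, nat_lit 2, nat_lit 3, nat_lit 4, nat_lit 5, nat_lit 8, nat_lit 3, nat_lit 2, nat_lit 1, nat_lit 9, nat_lit 4, nat_lit 3, nat_lit 2, nat_lit 8, nat_lit 3, nat_lit 11, nat_lit 2, nat_lit 14, nat_lit 17, nat_lit 12, nat_lit 19] (Rl.cmp (nat_lit 4456) (nat_lit 4948)))))))))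

/-- some facts -/
noncomputable def ftc99 : FT := FT.node (nat_lit 4975) (FT.node (nat_lit 4962) (FT.node (nat_lit 4956) (FT.node (nat_lit 4953) (FT.node (nat_lit 4951) (FT.leaf (Fct.mk false (nat_lit 33) (nat_lit 0) (nat_lit 33) [nat_lit 8, nat_lit 7, nat_lit 6, nat_lit 5, nat_lit 3, nat_lit 4, nat_lit 2, nat_lit 3, nat_lit 8, nat_lit 1, nat_lit 2, nat_lit 3, nat_lit 4, nat_lit 5, nat_lit 6, nat_lit 7, nat_lit 8, nat_lit 6, nat_lit 5, nat_lit 3, nat_lit 4, nat_lit 1, nat_lit 2, nat_lit 3, nat_lit 8, nat_lit 0, nat_lit 1, nat_lit 2, nat_lit 3, nat_lit 4, nat_lit 5, nat_lit 1, nat_lit 2, nat_lit 3, nat_lit 11, nat_lit 2, nat_lit 8, nat_lit 12, nat_lit 15, nat_lit 14, nat_lit 8, nat_lit 19, nat_lit 16] (Rl.cmp (nat_lit 4400) (nat_lit 4949)))) (FT.node (nat_lit 4952) (FT.leaf (Fct.mk false (nat_lit 33) (nat_lit 0) (nat_lit 33) [nat_lit 3, nat_lit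 8, nat_lit 6, nat_lit 7, nat_lit 5, nat_lit 6, nat_lit 4, nat_lit 5, nat_lit 3, nat_lit 4, nat_lit 2, nat_lit 3, nat_lit 8, nat_lit 1, nat_lit 2, nat_lit 3, nat_lit 4, nat_lit 5, nat_lit 6, nat_lit 7, nat_lit 3, nat_lit 4, nat_lit 1, nat_lit 2, nat_lit 3, nat_lit 8, nat_lit 0, nat_lit 1, nat_lit 2, nat_lit 3, nat_lit 4, nat_lit 5, nat_lit 1, nat_lit 0, nat_lit 2, nat_lit 8, nat_lit 16, nat_lit 14] (Rl.cmp (nat_lit 4402) (nat_lit 4950)))) (FT.leaf (Fct.mk true (nat_lit 32) (nat_lit 107090) (nat_lit 33) [nat_lit 3, nat_lit 8, nat_lit 7, nat_lit 5, nat_lit 6, nat_lit 4, nat_lit 5, nat_lit 3, nat_lit 4, nat_lit 1, nat_lit 2, nat_lit 3, nat_lit 8, nat_lit 0, nat_lit 1, nat_lit 2, nat_lit 3, nat_lit 4, nat_lit 5, nat_lit 6, nat_lit 7, nat_lit 1, nat_lit 2, nat_lit 3, nat_lit 4, nat_lit 5, nat_lit 2, nat_lit 1, nat_lit 3, nat_lit 2, nat_lit 8, nat_lit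 3, nat_lit 11, nat_lit 2, nat_lit 8, nat_lit 10, nat_lit 1, nat_lit 17, nat_lit 12, nat_lit 16] (Rl.rel (nat_lit 0) [nat_lit 3, nat_lit 8, nat_lit 2, nat_lit 3, nat_lit 4, nat_lit 5, nat_lit 2, nat_lit 1, nat_lit 3, nat_lit 2, nat_lit 8, nat_lit 3, nat_lit 2, nat_lit 12, nat_lit 15, nat_lit 14, nat_lit 19] (nat_lit 33) (nat_lit 1) [nat_lit 4827] [nat_lit 4946, nat_lit 4714]))))) (FT.node (nat_lit 4954) (FT.leaf (Fct.mk true (nat_lit 32) (nat_lit 1002) (nat_lit 33) [nat_lit 5, nat_lit 6, nat_lit 4, nat_lit 5, nat_lit 3, nat_lit 4, nat_lit 2, nat_lit 3, nat_lit 8, nat_lit 0, nat_lit 1, nat_lit 2, nat_lit 3, nat_lit 4, nat_lit 5, nat_lit 6, nat_lit 7, nat_lit 8, nat_lit 6, nat_lit 5, nat_lit 2, nat_lit 3, nat_lit 4, nat_lit 1, nat_lit 2, nat_lit 3, nat_lit 8, nat_lit 0, nat_lit 1, nat_lit 2, nat_lit 3, nat_lit 4, nat_lit 5, nat_lit 8, nat_lit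 3, nat_lit 11, nat_lit 9, nat_lit 10, nat_lit 2, nat_lit 8, nat_lit 10, nat_lit 1, nat_lit 8, nat_lit 16, nat_lit 14, nat_lit 13, nat_lit 16] (Rl.t1 (nat_lit 4952) (nat_lit 4942)))) (FT.node (nat_lit 4955) (FT.leaf (Fct.mk true (nat_lit 33) (nat_lit 7241) (nat_lit 32) [nat_lit 5, nat_lit 6, nat_lit 4, nat_lit 5, nat_lit 3, nat_lit 4, nat_lit 2, nat_lit 3, nat_lit 8, nat_lit 0, nat_lit 1, nat_lit 2, nat_lit 3, nat_lit 4, nat_lit 5, nat_lit 6, nat_lit 7, nat_lit 8, nat_lit 6, nat_lit 4, nat_lit 5, nat_lit 3, nat_lit 4, nat_lit 2, nat_lit 3, nat_lit 8, nat_lit 0, nat_lit 1, nat_lit 2, nat_lit 3, nat_lit 4, nat_lit 5, nat_lit 10, nat_lit 1, nat_lit 15, nat_lit 14, nat_lit 17, nat_lit 19, nat_lit 16] (Rl.inv (nat_lit 4953)))) (FT.leaf (Fct.mk true (nat_lit 33) (nat_lit 37) (nat_lit 32) [nat_lit 3, nat_lit 8, nat_lit 5, nat_lit 6, nat_lit 4, nat_lit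 5, nat_lit 3, nat_lit 4, nat_lit 2, nat_lit 3, nat_lit 8, nat_lit 1, nat_lit 2, nat_lit 3, nat_lit 4, nat_lit 5, nat_lit 6, nat_lit 7, nat_lit 6, nat_lit 8, nat_lit 3, nat_lit 8, nat_lit 10, nat_lit 0, nat_lit 17, nat_lit 12, nat_lit 19] (Rl.t1 (nat_lit 4954) (nat_lit 4951))))))) (FT.node (nat_lit 4959) (FT.node (nat_lit 4957) (FT.leaf (Fct.mk false (nat_lit 32) (nat_lit 0) (nat_lit 32) [nat_lit 3, nat_lit 8, nat_lit 5, nat_lit 2, nat_lit 3, nat_lit 4, nat_lit 1, nat_lit 2, nat_lit 3, nat_lit 8, nat_lit 6, nat_lit 7, nat_lit 5, nat_lit 6, nat_lit 4, nat_lit 5, nat_lit 3, nat_lit 4, nat_lit 2, nat_lit 3, nat_lit 8, nat_lit 1, nat_lit 2, nat_lit 3, nat_lit 4, nat_lit 5, nat_lit 6, nat_lit 7, nat_lit 4, nat_lit 2, nat_lit 3, nat_lit 8, nat_lit 0, nat_lit 1, nat_lit 2, nat_lit 3, nat_lit 4, nat_lit 5, nat_lit 1, nat_lit 2, nat_lit 3, nat_lit 11,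 nat_lit 1, nat_lit 16, nat_lit 12, nat_lit 15, nat_lit 14, nat_lit 12] (Rl.cmp (nat_lit 3004) (nat_lit 4266)))) (FT.node (nat_lit 4958) (FT.leaf (Fct.mk false (nat_lit 32) (nat_lit 0) (nat_lit 32) [nat_lit 5, nat_lit 4, nat_lit 2, nat_lit 3, nat_lit 8, nat_lit 0, nat_lit 1, nat_lit 2, nat_lit 3, nat_lit 4, nat_lit 5, nat_lit 1, nat_lit 8, nat_lit 3, nat_lit 2, nat_lit 0, nat_lit 1, nat_lit 9, nat_lit 4, nat_lit 3, nat_lit 2, nat_lit 8, nat_lit 3, nat_lit 11, nat_lit 2, nat_lit 10, nat_lit 1, nat_lit 16, nat_lit 14, nat_lit 13, nat_lit 12, nat_lit 19] (Rl.cmp (nat_lit 3456) (nat_lit 4956)))) (FT.leaf (Fct.mk false (nat_lit 32) (nat_lit 0) (nat_lit 32) [nat_lit 5, nat_lit 4, nat_lit 3, nat_lit 8, nat_lit 2, nat_lit 3, nat_lit 4, nat_lit 5, nat_lit 0, nat_lit 1, nat_lit 3, nat_lit 2, nat_lit 8, nat_lit 3, nat_lit 8, nat_lit 10, nat_lit 14, nat_lit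 12, nat_lit 18] (Rl.cmp (nat_lit 3004) (nat_lit 4957)))))) (FT.node (nat_lit 4960) (FT.leaf (Fct.mk false (nat_lit 33) (nat_lit 0) (nat_lit 33) [nat_lit 6, nat_lit 4, nat_lit 5, nat_lit 2, nat_lit 3, nat_lit 4, nat_lit 1, nat_lit 2, nat_lit 3, nat_lit 8, nat_lit 0, nat_lit 1, nat_lit 2, nat_lit 3, nat_lit 4, nat_lit 5, nat_lit 6, nat_lit 7, nat_lit 6, nat_lit 5, nat_lit 4, nat_lit 3, nat_lit 8, nat_lit 2, nat_lit 3, nat_lit 4, nat_lit 1, nat_lit 2, nat_lit 3, nat_lit 8, nat_lit 5, nat_lit 6, nat_lit 4, nat_lit 5, nat_lit 3, nat_lit 4, nat_lit 2, nat_lit 3, nat_lit 8, nat_lit 1, nat_lit 2, nat_lit 3, nat_lit 4, nat_lit 5, nat_lit 4, nat_lit 3, nat_lit 2, nat_lit 0, nat_lit 1, nat_lit 9, nat_lit 4, nat_lit 3, nat_lit 2, nat_lit 8, nat_lit 3, nat_lit 10, nat_lit 2, nat_lit 8, nat_lit 10, nat_lit 1, nat_lit 16, nat_lit 15, nat_lit 14, nat_lit 16,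 nat_lit 8, nat_lit 18] (Rl.cmp (nat_lit 4456) (nat_lit 4402)))) (FT.node (nat_lit 4961) (FT.leaf (Fct.mk false (nat_lit 33) (nat_lit 0) (nat_lit 33) [nat_lit 6, nat_lit 5, nat_lit 2, nat_lit 3, nat_lit 4, nat_lit 1, nat_lit 2, nat_lit 3, nat_lit 8, nat_lit 0, nat_lit 1, nat_lit 2, nat_lit 3, nat_lit 4, nat_lit 5, nat_lit 6, nat_lit 7, nat_lit 6, nat_lit 5, nat_lit 4, nat_lit 3, nat_lit 8, nat_lit 2, nat_lit 3, nat_lit 4, nat_lit 5, nat_lit 9, nat_lit 16, nat_lit 14, nat_lit 16] (Rl.cmp (nat_lit 4400) (nat_lit 4959)))) (FT.leaf (Fct.mk true (nat_lit 33) (nat_lit 45568) (nat_lit 33) [nat_lit 6, nat_lit 5, nat_lit 4, nat_lit 2, nat_lit 3, nat_lit 8, nat_lit 0, nat_lit 1, nat_lit 2, nat_lit 3, nat_lit 4, nat_lit 5, nat_lit 6, nat_lit 7, nat_lit 6, nat_lit 4, nat_lit 5, nat_lit 2, nat_lit 3, nat_lit 4, nat_lit 1, nat_lit 2, nat_lit 3, nat_lit 8,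 nat_lit 0, nat_lit 1, nat_lit 2, nat_lit 3, nat_lit 4, nat_lit 5, nat_lit 1, nat_lit 2, nat_lit 0, nat_lit 1, nat_lit 3, nat_lit 2, nat_lit 8, nat_lit 3, nat_lit 11, nat_lit 2, nat_lit 8, nat_lit 10, nat_lit 1, nat_lit 16, nat_lit 14, nat_lit 16, nat_lit 8] (Rl.rel (nat_lit 0) [nat_lit 3, nat_lit 8, nat_lit 2, nat_lit 3, nat_lit 4, nat_lit 5, nat_lit 3, nat_lit 2, nat_lit 8, nat_lit 3, nat_lit 8, nat_lit 10, nat_lit 9, nat_lit 2, nat_lit 15, nat_lit 14, nat_lit 19] (nat_lit 33) (nat_lit 2) [nat_lit 4827, nat_lit 4958, nat_lit 4442] []))))))) (FT.node (nat_lit 4968) (FT.node (nat_lit 4965) (FT.node (nat_lit 4963) (FT.leaf (Fct.mk true (nat_lit 33) (nat_lit 392) (nat_lit 33) [nat_lit 5, nat_lit 4, nat_lit 2, nat_lit 3, nat_lit 8, nat_lit 1, nat_lit 2, nat_lit 3, nat_lit 4, nat_lit 5, nat_lit 6, nat_lit 7, nat_lit 5, nat_lit 3, nat_lit 4, nat_lit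 2, nat_lit 3, nat_lit 8, nat_lit 0, nat_lit 1, nat_lit 2, nat_lit 3, nat_lit 4, nat_lit 5, nat_lit 1, nat_lit 2, nat_lit 0, nat_lit 1, nat_lit 3, nat_lit 2, nat_lit 8, nat_lit 3, nat_lit 11, nat_lit 10, nat_lit 14, nat_lit 13, nat_lit 18, nat_lit 16] (Rl.t1 (nat_lit 4961) (nat_lit 4960)))) (FT.node (nat_lit 4964) (FT.leaf (Fct.mk false (nat_lit 32) (nat_lit 0) (nat_lit 32) [nat_lit 5, nat_lit 4, nat_lit 3, nat_lit 8, nat_lit 1, nat_lit 2, nat_lit 3, nat_lit 4, nat_lit 5, nat_lit 0, nat_lit 1, nat_lit 3, nat_lit 2, nat_lit 8, nat_lit 3, nat_lit 10, nat_lit 2, nat_lit 8, nat_lit 10, nat_lit 1, nat_lit 16, nat_lit 15, nat_lit 14, nat_lit 16, nat_lit 8] (Rl.cmp (nat_lit 3004) (nat_lit 4104)))) (FT.leaf (Fct.mk false (nat_lit 32) (nat_lit 0) (nat_lit 32) [nat_lit 8, nat_lit 3, nat_lit 4, nat_lit 2, nat_lit 3, nat_lit 8, nat_lit 1, nat_lit 2, nat_lit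 3, nat_lit 4, nat_lit 5, nat_lit 1, nat_lit 2, nat_lit 0, nat_lit 1, nat_lit 4, nat_lit 3, nat_lit 2, nat_lit 8, nat_lit 3, nat_lit 8, nat_lit 10, nat_lit 8, nat_lit 16, nat_lit 14, nat_lit 13, nat_lit 12, nat_lit 19] (Rl.cmp (nat_lit 3010) (nat_lit 4963)))))) (FT.node (nat_lit 4966) (FT.leaf (Fct.mk false (nat_lit 32) (nat_lit 0) (nat_lit 32) [nat_lit 3, nat_lit 8, nat_lit 6, nat_lit 4, nat_lit 5, nat_lit 3, nat_lit 4, nat_lit 2, nat_lit 3, nat_lit 8, nat_lit 0, nat_lit 1, nat_lit 2, nat_lit 3, nat_lit 4, nat_lit 5, nat_lit 1, nat_lit 3, nat_lit 2, nat_lit 0, nat_lit 1, nat_lit 9, nat_lit 4, nat_lit 3, nat_lit 2, nat_lit 8, nat_lit 3, nat_lit 10, nat_lit 2, nat_lit 8, nat_lit 10, nat_lit 1, nat_lit 15, nat_lit 14, nat_lit 16, nat_lit 8, nat_lit 18] (Rl.cmp (nat_lit 3047) (nat_lit 4964)))) (FT.node (nat_lit 4967) (FT.leaf (Fct.mk false (nat_lit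 32) (nat_lit 0) (nat_lit 32) [nat_lit 1, nat_lit 2, nat_lit 3, nat_lit 8, nat_lit 6, nat_lit 4, nat_lit 5, nat_lit 3, nat_lit 4, nat_lit 2, nat_lit 3, nat_lit 8, nat_lit 1, nat_lit 2, nat_lit 3, nat_lit 4, nat_lit 5, nat_lit 3, nat_lit 8, nat_lit 4, nat_lit 3, nat_lit 2, nat_lit 0, nat_lit 1, nat_lit 9, nat_lit 4, nat_lit 3, nat_lit 2, nat_lit 8, nat_lit 3, nat_lit 11, nat_lit 1, nat_lit 12, nat_lit 8, nat_lit 16, nat_lit 14, nat_lit 13, nat_lit 18] (Rl.cmp (nat_lit 3004) (nat_lit 4965)))) (FT.leaf (Fct.mk false (nat_lit 33) (nat_lit 0) (nat_lit 33) [nat_lit 6, nat_lit 4, nat_lit 5, nat_lit 2, nat_lit 3, nat_lit 4, nat_lit 1, nat_lit 2, nat_lit 3, nat_lit 8, nat_lit 0, nat_lit 1, nat_lit 2, nat_lit 3, nat_lit 4, nat_lit 5, nat_lit 6, nat_lit 7, nat_lit 6, nat_lit 5, nat_lit 4, nat_lit 3, nat_lit 8, nat_lit 2, nat_lit 3, nat_lit 4, nat_lit 1,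 nat_lit 2, nat_lit 3, nat_lit 8, nat_lit 5, nat_lit 6, nat_lit 4, nat_lit 5, nat_lit 3, nat_lit 4, nat_lit 2, nat_lit 3, nat_lit 8, nat_lit 1, nat_lit 2, nat_lit 3, nat_lit 4, nat_lit 5, nat_lit 4, nat_lit 3, nat_lit 2, nat_lit 0, nat_lit 1, nat_lit 9, nat_lit 4, nat_lit 3, nat_lit 2, nat_lit 8, nat_lit 3, nat_lit 10, nat_lit 2, nat_lit 8, nat_lit 10, nat_lit 1, nat_lit 16, nat_lit 15, nat_lit 14, nat_lit 16, nat_lit 8, nat_lit 18] (Rl.cmp (nat_lit 4456) (nat_lit 4402))))))) (FT.node (nat_lit 4971) (FT.node (nat_lit 4969) (FT.leaf (Fct.mk false (nat_lit 33) (nat_lit 0) (nat_lit 33) [nat_lit 2, nat_lit 3, nat_lit 8, nat_lit 5, nat_lit 6, nat_lit 4, nat_lit 5, nat_lit 3, nat_lit 4, nat_lit 2, nat_lit 3, nat_lit 8, nat_lit 0, nat_lit 1, nat_lit 2, nat_lit 3, nat_lit 4, nat_lit 5, nat_lit 6, nat_lit 7, nat_lit 4, nat_lit 5, nat_lit 3, nat_lit 4,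 nat_lit 1, nat_lit 2, nat_lit 3, nat_lit 8, nat_lit 0, nat_lit 1, nat_lit 2, nat_lit 3, nat_lit 4, nat_lit 5, nat_lit 1, nat_lit 3, nat_lit 2, nat_lit 8, nat_lit 3, nat_lit 10, nat_lit 0, nat_lit 13, nat_lit 12] (Rl.cmp (nat_lit 4605) (nat_lit 4967)))) (FT.node (nat_lit 4970) (FT.leaf (Fct.mk false (nat_lit 33) (nat_lit 0) (nat_lit 33) [nat_lit 3, nat_lit 8, nat_lit 5, nat_lit 6, nat_lit 4, nat_lit 5, nat_lit 3, nat_lit 4, nat_lit 1, nat_lit 2, nat_lit 3, nat_lit 8, nat_lit 0, nat_lit 1, nat_lit 2, nat_lit 3, nat_lit 4, nat_lit 5, nat_lit 6, nat_lit 7, nat_lit 4, nat_lit 5, nat_lit 6, nat_lit 3, nat_lit 4, nat_lit 5, nat_lit 2, nat_lit 3, nat_lit 4, nat_lit 1, nat_lit 2, nat_lit 3, nat_lit 8, nat_lit 0, nat_lit 1, nat_lit 2, nat_lit 3, nat_lit 4, nat_lit 5, nat_lit 0, nat_lit 1, nat_lit 4, nat_lit 3, nat_lit 2, nat_lit 8, nat_lit 3, nat_lit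 11, nat_lit 9, nat_lit 10, nat_lit 2, nat_lit 8, nat_lit 10, nat_lit 1, nat_lit 14, nat_lit 17, nat_lit 12, nat_lit 19] (Rl.cmp (nat_lit 4400) (nat_lit 4968)))) (FT.leaf (Fct.mk false (nat_lit 33) (nat_lit 0) (nat_lit 33) [nat_lit 8, nat_lit 2, nat_lit 3, nat_lit 4, nat_lit 1, nat_lit 2, nat_lit 3, nat_lit 8, nat_lit 6, nat_lit 7, nat_lit 5, nat_lit 6, nat_lit 4, nat_lit 5, nat_lit 3, nat_lit 4, nat_lit 2, nat_lit 3, nat_lit 8, nat_lit 1, nat_lit 2, nat_lit 3, nat_lit 4, nat_lit 5, nat_lit 6, nat_lit 7, nat_lit 1, nat_lit 2, nat_lit 3, nat_lit 4, nat_lit 5, nat_lit 8, nat_lit 3, nat_lit 2, nat_lit 8, nat_lit 10, nat_lit 1, nat_lit 16, nat_lit 12, nat_lit 15, nat_lit 14, nat_lit 13] (Rl.cmp (nat_lit 4456) (nat_lit 4969)))))) (FT.node (nat_lit 4973) (FT.node (nat_lit 4972) (FT.leaf (Fct.mk false (nat_lit 33) (nat_lit 0) (nat_lit 33) [nat_lit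 6, nat_lit 5, nat_lit 4, nat_lit 3, nat_lit 8, nat_lit 2, nat_lit 3, nat_lit 4, nat_lit 5, nat_lit 6, nat_lit 7, nat_lit 3, nat_lit 8, nat_lit 6, nat_lit 5, nat_lit 2, nat_lit 3, nat_lit 4, nat_lit 1, nat_lit 2, nat_lit 3, nat_lit 8, nat_lit 0, nat_lit 1, nat_lit 2, nat_lit 3, nat_lit 4, nat_lit 5, nat_lit 8, nat_lit 4, nat_lit 3, nat_lit 2, nat_lit 1, nat_lit 9, nat_lit 4, nat_lit 3, nat_lit 2, nat_lit 8, nat_lit 3, nat_lit 2, nat_lit 10, nat_lit 1, nat_lit 8, nat_lit 16, nat_lit 15, nat_lit 14, nat_lit 19] (Rl.cmp (nat_lit 4605) (nat_lit 4970)))) (FT.leaf (Fct.mk true (nat_lit 33) (nat_lit 11790) (nat_lit 33) [nat_lit 7, nat_lit 6, nat_lit 5, nat_lit 3, nat_lit 4, nat_lit 1, nat_lit 2, nat_lit 3, nat_lit 8, nat_lit 0, nat_lit 1, nat_lit 2, nat_lit 3, nat_lit 4, nat_lit 5, nat_lit 6, nat_lit 7, nat_lit 4, nat_lit 5, nat_lit 3, nat_lit 4, nat_lit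 2, nat_lit 3, nat_lit 8, nat_lit 1, nat_lit 2, nat_lit 3, nat_lit 4, nat_lit 5, nat_lit 1, nat_lit 2, nat_lit 0, nat_lit 1, nat_lit 4, nat_lit 3, nat_lit 2, nat_lit 8, nat_lit 3, nat_lit 11, nat_lit 9, nat_lit 10, nat_lit 2, nat_lit 8, nat_lit 10, nat_lit 1, nat_lit 14, nat_lit 16, nat_lit 8, nat_lit 18] (Rl.rel (nat_lit 0) [nat_lit 8, nat_lit 3, nat_lit 4, nat_lit 2, nat_lit 3, nat_lit 8, nat_lit 1, nat_lit 2, nat_lit 3, nat_lit 4, nat_lit 5, nat_lit 0, nat_lit 1, nat_lit 2, nat_lit 3, nat_lit 15, nat_lit 14, nat_lit 19] (nat_lit 33) (nat_lit 2) [nat_lit 4827, nat_lit 4966, nat_lit 4825] [])))) (FT.node (nat_lit 4974) (FT.leaf (Fct.mk true (nat_lit 33) (nat_lit 23) (nat_lit 33) [nat_lit 4, nat_lit 2, nat_lit 3, nat_lit 8, nat_lit 0, nat_lit 1, nat_lit 2, nat_lit 3, nat_lit 4, nat_lit 5, nat_lit 6, nat_lit 7, nat_lit 3, nat_lit 4, nat_lit 1,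 nat_lit 2, nat_lit 3, nat_lit 8, nat_lit 5, nat_lit 6, nat_lit 4, nat_lit 5, nat_lit 3, nat_lit 4, nat_lit 2, nat_lit 3, nat_lit 8, nat_lit 1, nat_lit 2, nat_lit 3, nat_lit 4, nat_lit 5, nat_lit 4, nat_lit 3, nat_lit 2, nat_lit 1, nat_lit 9, nat_lit 4, nat_lit 3, nat_lit 2, nat_lit 8, nat_lit 3, nat_lit 10, nat_lit 2, nat_lit 8, nat_lit 10, nat_lit 1, nat_lit 8, nat_lit 12, nat_lit 15, nat_lit 19, nat_lit 16] (Rl.t1 (nat_lit 4972) (nat_lit 4971)))) (FT.leaf (Fct.mk false (nat_lit 33) (nat_lit 0) (nat_lit 33) [nat_lit 2, nat_lit 3, nat_lit 8, nat_lit 1, nat_lit 2, nat_lit 3, nat_lit 4, nat_lit 5, nat_lit 6, nat_lit 7, nat_lit 2, nat_lit 3, nat_lit 8, nat_lit 0, nat_lit 1, nat_lit 2, nat_lit 3, nat_lit 4, nat_lit 5, nat_lit 3, nat_lit 2, nat_lit 1, nat_lit 9, nat_lit 4, nat_lit 3, nat_lit 2, nat_lit 8, nat_lit 3, nat_lit 0, nat_lit 14, nat_lit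 8, nat_lit 18] (Rl.cmp (nat_lit 4456) (nat_lit 4400))))))))) (FT.node (nat_lit 4987) (FT.node (nat_lit 4981) (FT.node (nat_lit 4978) (FT.node (nat_lit 4976) (FT.leaf (Fct.mk false (nat_lit 33) (nat_lit 0) (nat_lit 33) [nat_lit 3, nat_lit 8, nat_lit 7, nat_lit 5, nat_lit 6, nat_lit 4, nat_lit 5, nat_lit 3, nat_lit 4, nat_lit 2, nat_lit 3, nat_lit 8, nat_lit 1, nat_lit 2, nat_lit 3, nat_lit 4, nat_lit 5, nat_lit 6, nat_lit 7, nat_lit 8, nat_lit 4, nat_lit 5, nat_lit 3, nat_lit 4, nat_lit 2, nat_lit 3, nat_lit 8, nat_lit 1, nat_lit 2, nat_lit 3, nat_lit 4, nat_lit 5, nat_lit 2, nat_lit 1, nat_lit 4, nat_lit 3, nat_lit 2, nat_lit 8, nat_lit 3, nat_lit 0, nat_lit 2, nat_lit 8, nat_lit 12, nat_lit 15, nat_lit 14, nat_lit 8] (Rl.cmp (nat_lit 4456) (nat_lit 4974)))) (FT.node (nat_lit 4977) (FT.leaf (Fct.mk false (nat_lit 33) (nat_lit 0) (nat_lit 33)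 [nat_lit 2, nat_lit 3, nat_lit 8, nat_lit 1, nat_lit 2, nat_lit 3, nat_lit 4, nat_lit 5, nat_lit 6, nat_lit 7, nat_lit 2, nat_lit 3, nat_lit 8, nat_lit 1, nat_lit 2, nat_lit 3, nat_lit 4, nat_lit 5, nat_lit 3, nat_lit 2, nat_lit 8, nat_lit 3, nat_lit 10, nat_lit 0, nat_lit 16, nat_lit 15, nat_lit 14, nat_lit 18] (Rl.cmp (nat_lit 4400) (nat_lit 4975)))) (FT.leaf (Fct.mk false (nat_lit 33) (nat_lit 0) (nat_lit 33) [nat_lit 5, nat_lit 4, nat_lit 2, nat_lit 3, nat_lit 8, nat_lit 6, nat_lit 7, nat_lit 5, nat_lit 6, nat_lit 4, nat_lit 5, nat_lit 3, nat_lit 4, nat_lit 2, nat_lit 3, nat_lit 8, nat_lit 1, nat_lit 2, nat_lit 3, nat_lit 4, nat_lit 5, nat_lit 6, nat_lit 7, nat_lit 6, nat_lit 5, nat_lit 3, nat_lit 4, nat_lit 2, nat_lit 3, nat_lit 8, nat_lit 1, nat_lit 2, nat_lit 3, nat_lit 4, nat_lit 5, nat_lit 2, nat_lit 0, nat_lit 1, nat_lit 3, nat_lit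 2, nat_lit 8, nat_lit 3, nat_lit 2, nat_lit 8, nat_lit 10, nat_lit 1, nat_lit 15, nat_lit 14, nat_lit 12, nat_lit 19] (Rl.cmp (nat_lit 4605) (nat_lit 4976)))))) (FT.node (nat_lit 4979) (FT.leaf (Fct.mk false (nat_lit 33) (nat_lit 0) (nat_lit 33) [nat_lit 4, nat_lit 3, nat_lit 8, nat_lit 2, nat_lit 3, nat_lit 4, nat_lit 5, nat_lit 6, nat_lit 7, nat_lit 4, nat_lit 3, nat_lit 8, nat_lit 1, nat_lit 2, nat_lit 3, nat_lit 4, nat_lit 5, nat_lit 2, nat_lit 0, nat_lit 1, nat_lit 9, nat_lit 4, nat_lit 3, nat_lit 2, nat_lit 8, nat_lit 3, nat_lit 8, nat_lit 10, nat_lit 1, nat_lit 12, nat_lit 15, nat_lit 14, nat_lit 17, nat_lit 12, nat_lit 19, nat_lit 16] (Rl.cmp (nat_lit 4402) (nat_lit 4977)))) (FT.node (nat_lit 4980) (FT.leaf (Fct.mk false (nat_lit 33) (nat_lit 0) (nat_lit 33) [nat_lit 3, nat_lit 4, nat_lit 5, nat_lit 2, nat_lit 3, nat_lit 4, nat_lit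 1, nat_lit 2, nat_lit 3, nat_lit 8, nat_lit 6, nat_lit 7, nat_lit 5, nat_lit 6, nat_lit 4, nat_lit 5, nat_lit 3, nat_lit 4, nat_lit 2, nat_lit 3, nat_lit 8, nat_lit 1, nat_lit 2, nat_lit 3, nat_lit 4, nat_lit 5, nat_lit 6, nat_lit 7, nat_lit 8, nat_lit 6, nat_lit 4, nat_lit 5, nat_lit 2, nat_lit 3, nat_lit 4, nat_lit 1, nat_lit 2, nat_lit 3, nat_lit 8, nat_lit 0, nat_lit 1, nat_lit 2, nat_lit 3, nat_lit 4, nat_lit 5, nat_lit 1, nat_lit 2, nat_lit 0, nat_lit 1, nat_lit 9, nat_lit 4, nat_lit 3, nat_lit 2, nat_lit 8, nat_lit 3, nat_lit 14, nat_lit 17, nat_lit 12, nat_lit 18, nat_lit 16] (Rl.cmp (nat_lit 4605) (nat_lit 4978)))) (FT.leaf (Fct.mk true (nat_lit 33) (nat_lit 89086) (nat_lit 33) [nat_lit 8, nat_lit 6, nat_lit 5, nat_lit 3, nat_lit 4, nat_lit 2, nat_lit 3, nat_lit 8, nat_lit 0, nat_lit 1, nat_lit 2, nat_lit 3, nat_lit 4, nat_lit 5, nat_lit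 6, nat_lit 7, nat_lit 8, nat_lit 6, nat_lit 4, nat_lit 5, nat_lit 3, nat_lit 4, nat_lit 1, nat_lit 2, nat_lit 3, nat_lit 8, nat_lit 0, nat_lit 1, nat_lit 2, nat_lit 3, nat_lit 4, nat_lit 5, nat_lit 1, nat_lit 3, nat_lit 2, nat_lit 0, nat_lit 1, nat_lit 4, nat_lit 3, nat_lit 2, nat_lit 8, nat_lit 3, nat_lit 1, nat_lit 9, nat_lit 8, nat_lit 18, nat_lit 16] (Rl.rel (nat_lit 0) [nat_lit 8, nat_lit 3, nat_lit 4, nat_lit 2, nat_lit 3, nat_lit 8, nat_lit 1, nat_lit 2, nat_lit 3, nat_lit 4, nat_lit 5, nat_lit 2, nat_lit 3, nat_lit 10, nat_lit 0, nat_lit 15, nat_lit 14, nat_lit 19] (nat_lit 33) (nat_lit 2) [nat_lit 4827, nat_lit 4294, nat_lit 4555] [])))))) (FT.node (nat_lit 4984) (FT.node (nat_lit 4982) (FT.leaf (Fct.mk true (nat_lit 33) (nat_lit 59) (nat_lit 33) [nat_lit 0, nat_lit 1, nat_lit 2, nat_lit 3, nat_lit 4, nat_lit 5, nat_lit 6, nat_lit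 7, nat_lit 8, nat_lit 6, nat_lit 5, nat_lit 3, nat_lit 4, nat_lit 1, nat_lit 2, nat_lit 3, nat_lit 8, nat_lit 0, nat_lit 1, nat_lit 2, nat_lit 3, nat_lit 4, nat_lit 5, nat_lit 3, nat_lit 2, nat_lit 1, nat_lit 8, nat_lit 3, nat_lit 2, nat_lit 0, nat_lit 1, nat_lit 4, nat_lit 3, nat_lit 2, nat_lit 8, nat_lit 3, nat_lit 2, nat_lit 8, nat_lit 10, nat_lit 1, nat_lit 15, nat_lit 8, nat_lit 19, nat_lit 16] (Rl.t1 (nat_lit 4980) (nat_lit 4979)))) (FT.node (nat_lit 4983) (FT.leaf (Fct.mk false (nat_lit 32) (nat_lit 0) (nat_lit 32) [nat_lit 8, nat_lit 1, nat_lit 2, nat_lit 3, nat_lit 4, nat_lit 5, nat_lit 3, nat_lit 8, nat_lit 4, nat_lit 3, nat_lit 2, nat_lit 0, nat_lit 1, nat_lit 9, nat_lit 4, nat_lit 3, nat_lit 2, nat_lit 8, nat_lit 3, nat_lit 15, nat_lit 17, nat_lit 16] (Rl.cmp (nat_lit 3004) (nat_lit 4225)))) (FT.leaf (Fct.mk false (nat_lit 32) (nat_lit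 0) (nat_lit 32) [nat_lit 3, nat_lit 8, nat_lit 5, nat_lit 2, nat_lit 3, nat_lit 4, nat_lit 1, nat_lit 2, nat_lit 3, nat_lit 8, nat_lit 6, nat_lit 7, nat_lit 5, nat_lit 6, nat_lit 4, nat_lit 5, nat_lit 3, nat_lit 4, nat_lit 2, nat_lit 3, nat_lit 8, nat_lit 1, nat_lit 2, nat_lit 3, nat_lit 4, nat_lit 5, nat_lit 6, nat_lit 7, nat_lit 1, nat_lit 2, nat_lit 3, nat_lit 4, nat_lit 5, nat_lit 1, nat_lit 4, nat_lit 3, nat_lit 2, nat_lit 0, nat_lit 1, nat_lit 9, nat_lit 4, nat_lit 3, nat_lit 2, nat_lit 8, nat_lit 3, nat_lit 9, nat_lit 16, nat_lit 12, nat_lit 15, nat_lit 14, nat_lit 12, nat_lit 19] (Rl.cmp (nat_lit 3456) (nat_lit 4982)))))) (FT.node (nat_lit 4985) (FT.leaf (Fct.mk false (nat_lit 32) (nat_lit 0) (nat_lit 32) [nat_lit 8, nat_lit 3, nat_lit 4, nat_lit 2, nat_lit 3, nat_lit 8, nat_lit 5, nat_lit 6, nat_lit 4, nat_lit 5, nat_lit 3, nat_lit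 4, nat_lit 2, nat_lit 3, nat_lit 8, nat_lit 0, nat_lit 1, nat_lit 2, nat_lit 3, nat_lit 4, nat_lit 5, nat_lit 3, nat_lit 2, nat_lit 1, nat_lit 8, nat_lit 3, nat_lit 2, nat_lit 0, nat_lit 1, nat_lit 9, nat_lit 4, nat_lit 3, nat_lit 2, nat_lit 8, nat_lit 3, nat_lit 11, nat_lit 10, nat_lit 1, nat_lit 12, nat_lit 15, nat_lit 14, nat_lit 17, nat_lit 16] (Rl.cmp (nat_lit 3456) (nat_lit 4983)))) (FT.node (nat_lit 4986) (FT.leaf (Fct.mk false (nat_lit 32) (nat_lit 0) (nat_lit 32) [nat_lit 2, nat_lit 3, nat_lit 8, nat_lit 6, nat_lit 4, nat_lit 5, nat_lit 3, nat_lit 4, nat_lit 2, nat_lit 3, nat_lit 8, nat_lit 0, nat_lit 1, nat_lit 2, nat_lit 3, nat_lit 4, nat_lit 5, nat_lit 2, nat_lit 1, nat_lit 3, nat_lit 2, nat_lit 0, nat_lit 1, nat_lit 9, nat_lit 4, nat_lit 3, nat_lit 2, nat_lit 8, nat_lit 3, nat_lit 1, nat_lit 9, nat_lit 8, nat_lit 16, nat_lit 15,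 nat_lit 14, nat_lit 18] (Rl.cmp (nat_lit 3004) (nat_lit 4984)))) (FT.leaf (Fct.mk false (nat_lit 33) (nat_lit 0) (nat_lit 33) [nat_lit 3, nat_lit 8, nat_lit 2, nat_lit 3, nat_lit 4, nat_lit 1, nat_lit 2, nat_lit 3, nat_lit 8, nat_lit 7, nat_lit 5, nat_lit 6, nat_lit 4, nat_lit 5, nat_lit 3, nat_lit 4, nat_lit 2, nat_lit 3, nat_lit 8, nat_lit 1, nat_lit 2, nat_lit 3, nat_lit 4, nat_lit 5, nat_lit 6, nat_lit 7, nat_lit 4, nat_lit 2, nat_lit 3, nat_lit 8, nat_lit 1, nat_lit 2, nat_lit 3, nat_lit 4, nat_lit 5, nat_lit 3, nat_lit 2, nat_lit 0, nat_lit 1, nat_lit 4, nat_lit 3, nat_lit 2, nat_lit 8, nat_lit 3, nat_lit 2, nat_lit 17, nat_lit 19, nat_lit 16] (Rl.cmp (nat_lit 4605) (nat_lit 4796)))))))) (FT.node (nat_lit 4993) (FT.node (nat_lit 4990) (FT.node (nat_lit 4988) (FT.leaf (Fct.mk false (nat_lit 33) (nat_lit 0) (nat_lit 33) [nat_lit 8, nat_lit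 5, nat_lit 3, nat_lit 4, nat_lit 2, nat_lit 3, nat_lit 8, nat_lit 1, nat_lit 2, nat_lit 3, nat_lit 4, nat_lit 5, nat_lit 6, nat_lit 7, nat_lit 3, nat_lit 8, nat_lit 2, nat_lit 3, nat_lit 4, nat_lit 1, nat_lit 2, nat_lit 3, nat_lit 8, nat_lit 0, nat_lit 1, nat_lit 2, nat_lit 3, nat_lit 4, nat_lit 5, nat_lit 2, nat_lit 1, nat_lit 3, nat_lit 2, nat_lit 8, nat_lit 3, nat_lit 8, nat_lit 10, nat_lit 1, nat_lit 12, nat_lit 15, nat_lit 17, nat_lit 18] (Rl.cmp (nat_lit 4456) (nat_lit 4986)))) (FT.node (nat_lit 4989) (FT.leaf (Fct.mk false (nat_lit 33) (nat_lit 0) (nat_lit 33) [nat_lit 4, nat_lit 2, nat_lit 3, nat_lit 8, nat_lit 0, nat_lit 1, nat_lit 2, nat_lit 3, nat_lit 4, nat_lit 5, nat_lit 6, nat_lit 7, nat_lit 5, nat_lit 6, nat_lit 4, nat_lit 5, nat_lit 3, nat_lit 4, nat_lit 1, nat_lit 2, nat_lit 3, nat_lit 8, nat_lit 0, nat_lit 1, nat_lit 2, nat_lit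 3, nat_lit 4, nat_lit 5, nat_lit 8, nat_lit 3, nat_lit 2, nat_lit 0, nat_lit 1, nat_lit 9, nat_lit 4, nat_lit 3, nat_lit 2, nat_lit 8, nat_lit 3, nat_lit 1, nat_lit 0, nat_lit 2, nat_lit 16, nat_lit 15, nat_lit 14, nat_lit 12, nat_lit 18] (Rl.cmp (nat_lit 4605) (nat_lit 4987)))) (FT.leaf (Fct.mk false (nat_lit 33) (nat_lit 0) (nat_lit 33) [nat_lit 4, nat_lit 1, nat_lit 2, nat_lit 3, nat_lit 8, nat_lit 7, nat_lit 5, nat_lit 6, nat_lit 4, nat_lit 5, nat_lit 3, nat_lit 4, nat_lit 2, nat_lit 3, nat_lit 8, nat_lit 1, nat_lit 2, nat_lit 3, nat_lit 4, nat_lit 5, nat_lit 6, nat_lit 7, nat_lit 4, nat_lit 5, nat_lit 6, nat_lit 3, nat_lit 4, nat_lit 5, nat_lit 2, nat_lit 3, nat_lit 4, nat_lit 1, nat_lit 2, nat_lit 3, nat_lit 8, nat_lit 0, nat_lit 1, nat_lit 2, nat_lit 3, nat_lit 4, nat_lit 5, nat_lit 2, nat_lit 1, nat_lit 3, nat_lit 2, nat_lit 0, nat_lit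 1, nat_lit 9, nat_lit 4, nat_lit 3, nat_lit 2, nat_lit 8, nat_lit 3, nat_lit 9, nat_lit 10, nat_lit 2, nat_lit 8, nat_lit 10, nat_lit 1, nat_lit 8, nat_lit 12, nat_lit 15, nat_lit 12, nat_lit 18, nat_lit 16] (Rl.cmp (nat_lit 4456) (nat_lit 4988)))))) (FT.node (nat_lit 4991) (FT.leaf (Fct.mk false (nat_lit 33) (nat_lit 0) (nat_lit 33) [nat_lit 4, nat_lit 3, nat_lit 8, nat_lit 2, nat_lit 3, nat_lit 4, nat_lit 5, nat_lit 6, nat_lit 7, nat_lit 5, nat_lit 4, nat_lit 3, nat_lit 8, nat_lit 0, nat_lit 1, nat_lit 2, nat_lit 3, nat_lit 4, nat_lit 5, nat_lit 1, nat_lit 2, nat_lit 0, nat_lit 1, nat_lit 4, nat_lit 3, nat_lit 2, nat_lit 8, nat_lit 3, nat_lit 11, nat_lit 1, nat_lit 8, nat_lit 12, nat_lit 15, nat_lit 14, nat_lit 13, nat_lit 12, nat_lit 19, nat_lit 16] (Rl.cmp (nat_lit 4400) (nat_lit 4989)))) (FT.node (nat_lit 4992) (FT.leaf (Fct.mk false (nat_lit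 33) (nat_lit 0) (nat_lit 33) [nat_lit 6, nat_lit 4, nat_lit 5, nat_lit 2, nat_lit 3, nat_lit 4, nat_lit 1, nat_lit 2, nat_lit 3, nat_lit 8, nat_lit 0, nat_lit 1, nat_lit 2, nat_lit 3, nat_lit 4, nat_lit 5, nat_lit 6, nat_lit 7, nat_lit 6, nat_lit 5, nat_lit 4, nat_lit 3, nat_lit 8, nat_lit 2, nat_lit 3, nat_lit 4, nat_lit 1, nat_lit 2, nat_lit 3, nat_lit 8, nat_lit 5, nat_lit 6, nat_lit 4, nat_lit 5, nat_lit 3, nat_lit 4, nat_lit 2, nat_lit 3, nat_lit 8, nat_lit 1, nat_lit 2, nat_lit 3, nat_lit 4, nat_lit 5, nat_lit 4, nat_lit 3, nat_lit 2, nat_lit 0, nat_lit 1, nat_lit 9, nat_lit 4, nat_lit 3, nat_lit 2, nat_lit 8, nat_lit 3, nat_lit 10, nat_lit 2, nat_lit 8, nat_lit 10, nat_lit 1, nat_lit 16, nat_lit 15, nat_lit 14, nat_lit 16, nat_lit 8, nat_lit 18] (Rl.cmp (nat_lit 4456) (nat_lit 4402)))) (FT.leaf (Fct.mk false (nat_lit 33) (nat_lit 0)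 (nat_lit 33) [nat_lit 5, nat_lit 4, nat_lit 3, nat_lit 8, nat_lit 6, nat_lit 7, nat_lit 5, nat_lit 6, nat_lit 4, nat_lit 5, nat_lit 3, nat_lit 4, nat_lit 1, nat_lit 2, nat_lit 3, nat_lit 8, nat_lit 0, nat_lit 1, nat_lit 2, nat_lit 3, nat_lit 4, nat_lit 5, nat_lit 6, nat_lit 7, nat_lit 2, nat_lit 3, nat_lit 8, nat_lit 1, nat_lit 2, nat_lit 3, nat_lit 4, nat_lit 5, nat_lit 4, nat_lit 9, nat_lit 15, nat_lit 14, nat_lit 8, nat_lit 16] (Rl.cmp (nat_lit 4402) (nat_lit 4991))))))) (FT.node (nat_lit 4996) (FT.node (nat_lit 4994) (FT.leaf (Fct.mk false (nat_lit 33) (nat_lit 0) (nat_lit 33) [nat_lit 7, nat_lit 6, nat_lit 5, nat_lit 3, nat_lit 4, nat_lit 1, nat_lit 2, nat_lit 3, nat_lit 8, nat_lit 0, nat_lit 1, nat_lit 2, nat_lit 3, nat_lit 4, nat_lit 5, nat_lit 6, nat_lit 7, nat_lit 4, nat_lit 3, nat_lit 8, nat_lit 5, nat_lit 6, nat_lit 4, nat_lit 5,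 nat_lit 3, nat_lit 4, nat_lit 1, nat_lit 2, nat_lit 3, nat_lit 8, nat_lit 0, nat_lit 1, nat_lit 2, nat_lit 3, nat_lit 4, nat_lit 5, nat_lit 3, nat_lit 2, nat_lit 0, nat_lit 1, nat_lit 4, nat_lit 3, nat_lit 2, nat_lit 8, nat_lit 3, nat_lit 10, nat_lit 0, nat_lit 8, nat_lit 16, nat_lit 14, nat_lit 8, nat_lit 19, nat_lit 16] (Rl.cmp (nat_lit 4605) (nat_lit 4992)))) (FT.node (nat_lit 4995) (FT.leaf (Fct.mk false (nat_lit 33) (nat_lit 0) (nat_lit 33) [nat_lit 4, nat_lit 3, nat_lit 8, nat_lit 2, nat_lit 3, nat_lit 4, nat_lit 1, nat_lit 2, nat_lit 3, nat_lit 8, nat_lit 0, nat_lit 1, nat_lit 2, nat_lit 3, nat_lit 4, nat_lit 5, nat_lit 6, nat_lit 7, nat_lit 3, nat_lit 8, nat_lit 4, nat_lit 5, nat_lit 3, nat_lit 4, nat_lit 2, nat_lit 3, nat_lit 8, nat_lit 0, nat_lit 1, nat_lit 2, nat_lit 3, nat_lit 4, nat_lit 5, nat_lit 3, nat_lit 8, nat_lit 4, nat_lit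 3, nat_lit 2, nat_lit 1, nat_lit 9, nat_lit 4, nat_lit 3, nat_lit 2, nat_lit 8, nat_lit 3, nat_lit 11, nat_lit 10, nat_lit 1, nat_lit 16, nat_lit 14, nat_lit 17, nat_lit 12, nat_lit 18, nat_lit 16] (Rl.cmp (nat_lit 4400) (nat_lit 4993)))) (FT.leaf (Fct.mk false (nat_lit 33) (nat_lit 0) (nat_lit 33) [nat_lit 8, nat_lit 7, nat_lit 6, nat_lit 5, nat_lit 3, nat_lit 4, nat_lit 1, nat_lit 2, nat_lit 3, nat_lit 8, nat_lit 0, nat_lit 1, nat_lit 2, nat_lit 3, nat_lit 4, nat_lit 5, nat_lit 6, nat_lit 7, nat_lit 8, nat_lit 3, nat_lit 4, nat_lit 2, nat_lit 3, nat_lit 8, nat_lit 5, nat_lit 6, nat_lit 4, nat_lit 5, nat_lit 3, nat_lit 4, nat_lit 2, nat_lit 3, nat_lit 8, nat_lit 0, nat_lit 1, nat_lit 2, nat_lit 3, nat_lit 4, nat_lit 5, nat_lit 3, nat_lit 2, nat_lit 1, nat_lit 8, nat_lit 3, nat_lit 2, nat_lit 0, nat_lit 1, nat_lit 9, nat_lit 4, nat_lit 3, nat_lit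 2, nat_lit 8, nat_lit 3, nat_lit 11, nat_lit 8, nat_lit 12, nat_lit 15, nat_lit 16, nat_lit 8] (Rl.cmp (nat_lit 4605) (nat_lit 4994)))))) (FT.node (nat_lit 4998) (FT.node (nat_lit 4997) (FT.leaf (Fct.mk true (nat_lit 32) (nat_lit 108132) (nat_lit 33) [nat_lit 8, nat_lit 7, nat_lit 6, nat_lit 4, nat_lit 5, nat_lit 2, nat_lit 3, nat_lit 4, nat_lit 1, nat_lit 2, nat_lit 3, nat_lit 8, nat_lit 0, nat_lit 1, nat_lit 2, nat_lit 3, nat_lit 4, nat_lit 5, nat_lit 6, nat_lit 7, nat_lit 8, nat_lit 3, nat_lit 4, nat_lit 2, nat_lit 3, nat_lit 8, nat_lit 0, nat_lit 1, nat_lit 2, nat_lit 3, nat_lit 4, nat_lit 5, nat_lit 4, nat_lit 11, nat_lit 2, nat_lit 8, nat_lit 10, nat_lit 1, nat_lit 16, nat_lit 8, nat_lit 12, nat_lit 15, nat_lit 8, nat_lit 18, nat_lit 16] (Rl.rel (nat_lit 0) [nat_lit 3, nat_lit 8, nat_lit 2, nat_lit 3, nat_lit 4, nat_lit 5, nat_lit 2,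 nat_lit 1, nat_lit 3, nat_lit 2, nat_lit 8, nat_lit 3, nat_lit 0, nat_lit 2, nat_lit 12, nat_lit 15, nat_lit 14, nat_lit 19] (nat_lit 33) (nat_lit 1) [nat_lit 4827] [nat_lit 4990, nat_lit 4692]))) (FT.leaf (Fct.mk true (nat_lit 32) (nat_lit 533) (nat_lit 33) [nat_lit 7, nat_lit 6, nat_lit 4, nat_lit 5, nat_lit 3, nat_lit 4, nat_lit 2, nat_lit 3, nat_lit 8, nat_lit 0, nat_lit 1, nat_lit 2, nat_lit 3, nat_lit 4, nat_lit 5, nat_lit 6, nat_lit 7, nat_lit 6, nat_lit 4, nat_lit 5, nat_lit 3, nat_lit 4, nat_lit 2, nat_lit 3, nat_lit 8, nat_lit 0, nat_lit 1, nat_lit 2, nat_lit 3, nat_lit 4, nat_lit 5, nat_lit 1, nat_lit 3, nat_lit 2, nat_lit 0, nat_lit 1, nat_lit 4, nat_lit 3, nat_lit 2, nat_lit 8, nat_lit 3, nat_lit 11, nat_lit 10, nat_lit 1, nat_lit 8, nat_lit 16, nat_lit 15, nat_lit 14, nat_lit 8] (Rl.t1 (nat_lit 4996) (nat_lit 4985))))) (FT.node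 (nat_lit 4999) (FT.leaf (Fct.mk true (nat_lit 33) (nat_lit 117392) (nat_lit 32) [nat_lit 3, nat_lit 8, nat_lit 2, nat_lit 3, nat_lit 4, nat_lit 1, nat_lit 2, nat_lit 3, nat_lit 8, nat_lit 7, nat_lit 5, nat_lit 6, nat_lit 4, nat_lit 5, nat_lit 3, nat_lit 4, nat_lit 2, nat_lit 3, nat_lit 8, nat_lit 1, nat_lit 2, nat_lit 3, nat_lit 4, nat_lit 5, nat_lit 6, nat_lit 7, nat_lit 5, nat_lit 6, nat_lit 4, nat_lit 5, nat_lit 2, nat_lit 3, nat_lit 4, nat_lit 1, nat_lit 2, nat_lit 3, nat_lit 8, nat_lit 0, nat_lit 1, nat_lit 2, nat_lit 3, nat_lit 4, nat_lit 5, nat_lit 3, nat_lit 2, nat_lit 1, nat_lit 8, nat_lit 3, nat_lit 2, nat_lit 0, nat_lit 1, nat_lit 4, nat_lit 3, nat_lit 2, nat_lit 8, nat_lit 3, nat_lit 8, nat_lit 10, nat_lit 0, nat_lit 8, nat_lit 12, nat_lit 15, nat_lit 12, nat_lit 16] (Rl.inv (nat_lit 4997)))) (FT.leaf (Fct.mk true (nat_lit 33) (nat_lit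 16) (nat_lit 32) [nat_lit 4, nat_lit 3, nat_lit 8, nat_lit 5, nat_lit 6, nat_lit 4, nat_lit 5, nat_lit 3, nat_lit 4, nat_lit 2, nat_lit 3, nat_lit 8, nat_lit 0, nat_lit 1, nat_lit 2, nat_lit 3, nat_lit 4, nat_lit 5, nat_lit 6, nat_lit 7, nat_lit 6, nat_lit 5, nat_lit 4, nat_lit 3, nat_lit 8, nat_lit 2, nat_lit 3, nat_lit 4, nat_lit 5, nat_lit 4, nat_lit 11, nat_lit 8, nat_lit 10, nat_lit 13, nat_lit 16] (Rl.t1 (nat_lit 4998) (nat_lit 4995)))))))))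

/-- some facts -/
noncomputable def ftc100 : FT := FT.node (nat_lit 5025) (FT.node (nat_lit 5012) (FT.node (nat_lit 5006) (FT.node (nat_lit 5003) (FT.node (nat_lit 5001) (FT.leaf (Fct.mk false (nat_lit 33) (nat_lit 0) (nat_lit 33) [nat_lit 102] (Rl.cmp (nat_lit 4402) (nat_lit 4400)))) (FT.node (nat_lit 5002) (FT.leaf (Fct.mk false (nat_lit 33) (nat_lit 0) (nat_lit 33) [nat_lit 3, nat_lit 8, nat_lit 2, nat_lit 3, nat_lit 4, nat_lit 1, nat_lit 2, nat_lit 3, nat_lit 8, nat_lit 7, nat_lit 5, nat_lit 6, nat_lit 4, nat_lit 5, nat_lit 3, nat_lit 4, nat_lit 2, nat_lit 3, nat_lit 8, nat_lit 1, nat_lit 2, nat_lit 3, nat_lit 4, nat_lit 5, nat_lit 6, nat_lit 7, nat_lit 4, nat_lit 2, nat_lit 3, nat_lit 8, nat_lit 1, nat_lit 2, nat_lit 3, nat_lit 4, nat_lit 5, nat_lit 3, nat_lit 2, nat_lit 0, nat_lit 1, nat_lit 4, nat_lit 3, nat_lit 2, nat_lit 8, nat_lit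 3, nat_lit 2, nat_lit 17, nat_lit 19, nat_lit 16] (Rl.cmp (nat_lit 4605) (nat_lit 5000)))) (FT.leaf (Fct.mk false (nat_lit 33) (nat_lit 0) (nat_lit 33) [nat_lit 8, nat_lit 5, nat_lit 3, nat_lit 4, nat_lit 2, nat_lit 3, nat_lit 8, nat_lit 1, nat_lit 2, nat_lit 3, nat_lit 4, nat_lit 5, nat_lit 6, nat_lit 7, nat_lit 3, nat_lit 8, nat_lit 2, nat_lit 3, nat_lit 4, nat_lit 1, nat_lit 2, nat_lit 3, nat_lit 8, nat_lit 0, nat_lit 1, nat_lit 2, nat_lit 3, nat_lit 4, nat_lit 5, nat_lit 2, nat_lit 1, nat_lit 3, nat_lit 2, nat_lit 8, nat_lit 3, nat_lit 8, nat_lit 10, nat_lit 1, nat_lit 12, nat_lit 15, nat_lit 17, nat_lit 18] (Rl.cmp (nat_lit 4456) (nat_lit 5001)))))) (FT.node (nat_lit 5004) (FT.leaf (Fct.mk false (nat_lit 33) (nat_lit 0) (nat_lit 33) [nat_lit 4, nat_lit 2, nat_lit 3, nat_lit 8, nat_lit 0, nat_lit 1, nat_lit 2, nat_lit 3, nat_lit 4, nat_lit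 5, nat_lit 6, nat_lit 7, nat_lit 5, nat_lit 6, nat_lit 4, nat_lit 5, nat_lit 3, nat_lit 4, nat_lit 1, nat_lit 2, nat_lit 3, nat_lit 8, nat_lit 0, nat_lit 1, nat_lit 2, nat_lit 3, nat_lit 4, nat_lit 5, nat_lit 8, nat_lit 3, nat_lit 2, nat_lit 0, nat_lit 1, nat_lit 9, nat_lit 4, nat_lit 3, nat_lit 2, nat_lit 8, nat_lit 3, nat_lit 1, nat_lit 0, nat_lit 2, nat_lit 16, nat_lit 15, nat_lit 14, nat_lit 12, nat_lit 18] (Rl.cmp (nat_lit 4605) (nat_lit 5002)))) (FT.node (nat_lit 5005) (FT.leaf (Fct.mk false (nat_lit 33) (nat_lit 0) (nat_lit 33) [nat_lit 4, nat_lit 1, nat_lit 2, nat_lit 3, nat_lit 8, nat_lit 7, nat_lit 5, nat_lit 6, nat_lit 4, nat_lit 5, nat_lit 3, nat_lit 4, nat_lit 2, nat_lit 3, nat_lit 8, nat_lit 1, nat_lit 2, nat_lit 3, nat_lit 4, nat_lit 5, nat_lit 6, nat_lit 7, nat_lit 4, nat_lit 5, nat_lit 6, nat_lit 3, nat_lit 4, nat_lit 5, nat_lit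 2, nat_lit 3, nat_lit 4, nat_lit 1, nat_lit 2, nat_lit 3, nat_lit 8, nat_lit 0, nat_lit 1, nat_lit 2, nat_lit 3, nat_lit 4, nat_lit 5, nat_lit 2, nat_lit 1, nat_lit 3, nat_lit 2, nat_lit 0, nat_lit 1, nat_lit 9, nat_lit 4, nat_lit 3, nat_lit 2, nat_lit 8, nat_lit 3, nat_lit 9, nat_lit 10, nat_lit 2, nat_lit 8, nat_lit 10, nat_lit 1, nat_lit 8, nat_lit 12, nat_lit 15, nat_lit 12, nat_lit 18, nat_lit 16] (Rl.cmp (nat_lit 4456) (nat_lit 5003)))) (FT.leaf (Fct.mk false (nat_lit 33) (nat_lit 0) (nat_lit 33) [nat_lit 4, nat_lit 3, nat_lit 8, nat_lit 2, nat_lit 3, nat_lit 4, nat_lit 5, nat_lit 6, nat_lit 7, nat_lit 5, nat_lit 4, nat_lit 3, nat_lit 8, nat_lit 0, nat_lit 1, nat_lit 2, nat_lit 3, nat_lit 4, nat_lit 5, nat_lit 1, nat_lit 2, nat_lit 0, nat_lit 1, nat_lit 4, nat_lit 3, nat_lit 2, nat_lit 8, nat_lit 3, nat_lit 11, nat_lit 1, nat_lit 8, nat_lit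 12, nat_lit 15, nat_lit 14, nat_lit 13, nat_lit 12, nat_lit 19, nat_lit 16] (Rl.cmp (nat_lit 4400) (nat_lit 5004))))))) (FT.node (nat_lit 5009) (FT.node (nat_lit 5007) (FT.leaf (Fct.mk false (nat_lit 33) (nat_lit 0) (nat_lit 33) [nat_lit 4, nat_lit 2, nat_lit 3, nat_lit 8, nat_lit 1, nat_lit 2, nat_lit 3, nat_lit 4, nat_lit 5, nat_lit 6, nat_lit 7, nat_lit 5, nat_lit 10, nat_lit 0, nat_lit 16, nat_lit 14, nat_lit 12, nat_lit 18] (Rl.cmp (nat_lit 4400) (nat_lit 4456)))) (FT.node (nat_lit 5008) (FT.leaf (Fct.mk false (nat_lit 33) (nat_lit 0) (nat_lit 33) [nat_lit 8, nat_lit 3, nat_lit 4, nat_lit 1, nat_lit 2, nat_lit 3, nat_lit 8, nat_lit 5, nat_lit 6, nat_lit 4, nat_lit 5, nat_lit 3, nat_lit 4, nat_lit 2, nat_lit 3, nat_lit 8, nat_lit 1, nat_lit 2, nat_lit 3, nat_lit 4, nat_lit 5, nat_lit 6, nat_lit 7, nat_lit 3, nat_lit 8, nat_lit 2, nat_lit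 3, nat_lit 4, nat_lit 1, nat_lit 2, nat_lit 3, nat_lit 8, nat_lit 5, nat_lit 6, nat_lit 4, nat_lit 5, nat_lit 3, nat_lit 4, nat_lit 2, nat_lit 3, nat_lit 8, nat_lit 1, nat_lit 2, nat_lit 3, nat_lit 4, nat_lit 5, nat_lit 1, nat_lit 2, nat_lit 3, nat_lit 8, nat_lit 4, nat_lit 3, nat_lit 2, nat_lit 1, nat_lit 9, nat_lit 4, nat_lit 3, nat_lit 2, nat_lit 8, nat_lit 3, nat_lit 11, nat_lit 10, nat_lit 15, nat_lit 14, nat_lit 8, nat_lit 18, nat_lit 16] (Rl.cmp (nat_lit 4402) (nat_lit 5006)))) (FT.leaf (Fct.mk false (nat_lit 33) (nat_lit 0) (nat_lit 33) [nat_lit 4, nat_lit 3, nat_lit 8, nat_lit 7, nat_lit 5, nat_lit 6, nat_lit 4, nat_lit 5, nat_lit 3, nat_lit 4, nat_lit 2, nat_lit 3, nat_lit 8, nat_lit 1, nat_lit 2, nat_lit 3, nat_lit 4, nat_lit 5, nat_lit 6, nat_lit 7, nat_lit 0, nat_lit 1, nat_lit 2, nat_lit 3, nat_lit 4, nat_lit 5, nat_lit 1, nat_lit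 3, nat_lit 8, nat_lit 4, nat_lit 3, nat_lit 2, nat_lit 0, nat_lit 1, nat_lit 9, nat_lit 4, nat_lit 3, nat_lit 2, nat_lit 8, nat_lit 3, nat_lit 11, nat_lit 9, nat_lit 10, nat_lit 2, nat_lit 8, nat_lit 10, nat_lit 1, nat_lit 12, nat_lit 8, nat_lit 16, nat_lit 14, nat_lit 8, nat_lit 16] (Rl.cmp (nat_lit 4605) (nat_lit 5007)))))) (FT.node (nat_lit 5010) (FT.leaf (Fct.mk false (nat_lit 33) (nat_lit 0) (nat_lit 33) [nat_lit 5, nat_lit 2, nat_lit 3, nat_lit 4, nat_lit 1, nat_lit 2, nat_lit 3, nat_lit 8, nat_lit 0, nat_lit 1, nat_lit 2, nat_lit 3, nat_lit 4, nat_lit 5, nat_lit 6, nat_lit 7, nat_lit 8, nat_lit 4, nat_lit 5, nat_lit 3, nat_lit 4, nat_lit 2, nat_lit 3, nat_lit 8, nat_lit 1, nat_lit 2, nat_lit 3, nat_lit 4, nat_lit 5, nat_lit 3, nat_lit 8, nat_lit 4, nat_lit 3, nat_lit 2, nat_lit 0, nat_lit 1, nat_lit 9, nat_lit 4, nat_lit 3, nat_lit 2,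 nat_lit 8, nat_lit 3, nat_lit 11, nat_lit 8, nat_lit 10, nat_lit 8, nat_lit 12, nat_lit 15, nat_lit 12, nat_lit 19, nat_lit 16] (Rl.cmp (nat_lit 4605) (nat_lit 5008)))) (FT.node (nat_lit 5011) (FT.leaf (Fct.mk false (nat_lit 33) (nat_lit 0) (nat_lit 33) [nat_lit 5, nat_lit 4, nat_lit 3, nat_lit 8, nat_lit 2, nat_lit 3, nat_lit 4, nat_lit 5, nat_lit 6, nat_lit 7, nat_lit 4, nat_lit 1, nat_lit 2, nat_lit 3, nat_lit 8, nat_lit 5, nat_lit 6, nat_lit 4, nat_lit 5, nat_lit 3, nat_lit 4, nat_lit 2, nat_lit 3, nat_lit 8, nat_lit 1, nat_lit 2, nat_lit 3, nat_lit 4, nat_lit 5, nat_lit 0, nat_lit 1, nat_lit 9, nat_lit 4, nat_lit 3, nat_lit 2, nat_lit 8, nat_lit 3, nat_lit 11, nat_lit 10, nat_lit 2, nat_lit 8, nat_lit 10, nat_lit 1, nat_lit 8, nat_lit 12, nat_lit 15, nat_lit 19] (Rl.cmp (nat_lit 4456) (nat_lit 5009)))) (FT.leaf (Fct.mk true (nat_lit 32)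 (nat_lit 3045) (nat_lit 33) [nat_lit 5, nat_lit 4, nat_lit 3, nat_lit 8, nat_lit 2, nat_lit 3, nat_lit 4, nat_lit 1, nat_lit 2, nat_lit 3, nat_lit 8, nat_lit 5, nat_lit 6, nat_lit 4, nat_lit 5, nat_lit 3, nat_lit 4, nat_lit 2, nat_lit 3, nat_lit 8, nat_lit 1, nat_lit 2, nat_lit 3, nat_lit 4, nat_lit 5, nat_lit 3, nat_lit 2, nat_lit 8, nat_lit 3, nat_lit 11, nat_lit 10, nat_lit 16, nat_lit 14, nat_lit 12, nat_lit 18, nat_lit 16] (Rl.rel (nat_lit 0) [nat_lit 8, nat_lit 3, nat_lit 4, nat_lit 2, nat_lit 3, nat_lit 8, nat_lit 1, nat_lit 2, nat_lit 3, nat_lit 4, nat_lit 5, nat_lit 2, nat_lit 3, nat_lit 2, nat_lit 12, nat_lit 15, nat_lit 14, nat_lit 19] (nat_lit 33) (nat_lit 1) [nat_lit 4827] [nat_lit 5005, nat_lit 4904]))))))) (FT.node (nat_lit 5018) (FT.node (nat_lit 5015) (FT.node (nat_lit 5013) (FT.leaf (Fct.mk true (nat_lit 32) (nat_lit 2182)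 (nat_lit 33) [nat_lit 6, nat_lit 5, nat_lit 4, nat_lit 3, nat_lit 8, nat_lit 2, nat_lit 3, nat_lit 4, nat_lit 1, nat_lit 2, nat_lit 3, nat_lit 8, nat_lit 5, nat_lit 6, nat_lit 4, nat_lit 5, nat_lit 3, nat_lit 4, nat_lit 2, nat_lit 3, nat_lit 8, nat_lit 1, nat_lit 2, nat_lit 3, nat_lit 4, nat_lit 5, nat_lit 1, nat_lit 2, nat_lit 8, nat_lit 3, nat_lit 8, nat_lit 10, nat_lit 1, nat_lit 15, nat_lit 14, nat_lit 13, nat_lit 16] (Rl.t1 (nat_lit 5011) (nat_lit 4303)))) (FT.node (nat_lit 5014) (FT.leaf (Fct.mk true (nat_lit 33) (nat_lit 83436) (nat_lit 32) [nat_lit 3, nat_lit 4, nat_lit 2, nat_lit 3, nat_lit 8, nat_lit 5, nat_lit 6, nat_lit 4, nat_lit 5, nat_lit 3, nat_lit 4, nat_lit 2, nat_lit 3, nat_lit 8, nat_lit 0, nat_lit 1, nat_lit 2, nat_lit 3, nat_lit 4, nat_lit 5, nat_lit 0, nat_lit 1, nat_lit 4, nat_lit 3, nat_lit 2, nat_lit 8, nat_lit 3,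 nat_lit 1, nat_lit 12, nat_lit 15, nat_lit 14, nat_lit 13] (Rl.inv (nat_lit 5012)))) (FT.leaf (Fct.mk true (nat_lit 33) (nat_lit 798) (nat_lit 32) [nat_lit 6, nat_lit 5, nat_lit 4, nat_lit 3, nat_lit 8, nat_lit 2, nat_lit 3, nat_lit 4, nat_lit 1, nat_lit 2, nat_lit 3, nat_lit 8, nat_lit 5, nat_lit 6, nat_lit 4, nat_lit 5, nat_lit 3, nat_lit 4, nat_lit 2, nat_lit 3, nat_lit 8, nat_lit 1, nat_lit 2, nat_lit 3, nat_lit 4, nat_lit 5, nat_lit 6, nat_lit 7, nat_lit 2, nat_lit 3, nat_lit 8, nat_lit 1, nat_lit 2, nat_lit 3, nat_lit 4, nat_lit 5, nat_lit 8, nat_lit 3, nat_lit 2, nat_lit 1, nat_lit 9, nat_lit 4, nat_lit 3, nat_lit 2, nat_lit 8, nat_lit 3, nat_lit 8, nat_lit 10, nat_lit 8, nat_lit 16, nat_lit 15, nat_lit 14, nat_lit 19] (Rl.t1 (nat_lit 5013) (nat_lit 5010)))))) (FT.node (nat_lit 5016) (FT.leaf (Fct.mk false (nat_lit 33) (nat_lit 0) (nat_lit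 33) [nat_lit 5, nat_lit 6, nat_lit 4, nat_lit 5, nat_lit 3, nat_lit 4, nat_lit 2, nat_lit 3, nat_lit 8, nat_lit 1, nat_lit 2, nat_lit 3, nat_lit 4, nat_lit 5, nat_lit 6, nat_lit 7, nat_lit 9, nat_lit 4, nat_lit 3, nat_lit 2, nat_lit 8, nat_lit 3, nat_lit 11, nat_lit 1, nat_lit 12, nat_lit 15, nat_lit 14, nat_lit 13, nat_lit 12] (Rl.cmp (nat_lit 4402) (nat_lit 4456)))) (FT.node (nat_lit 5017) (FT.leaf (Fct.mk false (nat_lit 33) (nat_lit 0) (nat_lit 33) [nat_lit 1, nat_lit 2, nat_lit 3, nat_lit 8, nat_lit 7, nat_lit 5, nat_lit 6, nat_lit 4, nat_lit 5, nat_lit 3, nat_lit 4, nat_lit 2, nat_lit 3, nat_lit 8, nat_lit 1, nat_lit 2, nat_lit 3, nat_lit 4, nat_lit 5, nat_lit 6, nat_lit 7, nat_lit 8, nat_lit 3, nat_lit 4, nat_lit 2, nat_lit 3, nat_lit 8, nat_lit 1, nat_lit 2, nat_lit 3, nat_lit 4, nat_lit 5, nat_lit 2, nat_lit 1, nat_lit 3, nat_lit 2,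 nat_lit 0, nat_lit 1, nat_lit 4, nat_lit 3, nat_lit 2, nat_lit 8, nat_lit 3, nat_lit 8, nat_lit 10, nat_lit 1, nat_lit 14, nat_lit 13] (Rl.cmp (nat_lit 4605) (nat_lit 5015)))) (FT.leaf (Fct.mk false (nat_lit 33) (nat_lit 0) (nat_lit 33) [nat_lit 2, nat_lit 3, nat_lit 8, nat_lit 1, nat_lit 2, nat_lit 3, nat_lit 4, nat_lit 5, nat_lit 6, nat_lit 7, nat_lit 2, nat_lit 3, nat_lit 8, nat_lit 0, nat_lit 1, nat_lit 2, nat_lit 3, nat_lit 4, nat_lit 5, nat_lit 3, nat_lit 2, nat_lit 1, nat_lit 9, nat_lit 4, nat_lit 3, nat_lit 2, nat_lit 8, nat_lit 3, nat_lit 0, nat_lit 14, nat_lit 8, nat_lit 18] (Rl.cmp (nat_lit 4456) (nat_lit 4400))))))) (FT.node (nat_lit 5021) (FT.node (nat_lit 5019) (FT.leaf (Fct.mk false (nat_lit 33) (nat_lit 0) (nat_lit 33) [nat_lit 5, nat_lit 4, nat_lit 2, nat_lit 3, nat_lit 8, nat_lit 6, nat_lit 7, nat_lit 5, nat_lit 6, nat_lit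 4, nat_lit 5, nat_lit 3, nat_lit 4, nat_lit 2, nat_lit 3, nat_lit 8, nat_lit 1, nat_lit 2, nat_lit 3, nat_lit 4, nat_lit 5, nat_lit 6, nat_lit 7, nat_lit 3, nat_lit 8, nat_lit 6, nat_lit 4, nat_lit 5, nat_lit 3, nat_lit 4, nat_lit 2, nat_lit 3, nat_lit 8, nat_lit 1, nat_lit 2, nat_lit 3, nat_lit 4, nat_lit 5, nat_lit 2, nat_lit 3, nat_lit 8, nat_lit 4, nat_lit 3, nat_lit 2, nat_lit 1, nat_lit 9, nat_lit 4, nat_lit 3, nat_lit 2, nat_lit 8, nat_lit 3, nat_lit 11, nat_lit 12, nat_lit 16] (Rl.cmp (nat_lit 4605) (nat_lit 5017)))) (FT.node (nat_lit 5020) (FT.leaf (Fct.mk false (nat_lit 33) (nat_lit 0) (nat_lit 33) [nat_lit 8, nat_lit 6, nat_lit 7, nat_lit 5, nat_lit 6, nat_lit 4, nat_lit 5, nat_lit 2, nat_lit 3, nat_lit 4, nat_lit 1, nat_lit 2, nat_lit 3, nat_lit 8, nat_lit 0, nat_lit 1, nat_lit 2, nat_lit 3, nat_lit 4, nat_lit 5, nat_lit 6, nat_lit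 7, nat_lit 3, nat_lit 8, nat_lit 6, nat_lit 4, nat_lit 5, nat_lit 3, nat_lit 4, nat_lit 2, nat_lit 3, nat_lit 8, nat_lit 1, nat_lit 2, nat_lit 3, nat_lit 4, nat_lit 5, nat_lit 1, nat_lit 8, nat_lit 3, nat_lit 2, nat_lit 0, nat_lit 1, nat_lit 9, nat_lit 4, nat_lit 3, nat_lit 2, nat_lit 8, nat_lit 3, nat_lit 10, nat_lit 9, nat_lit 2, nat_lit 8, nat_lit 12, nat_lit 15, nat_lit 14, nat_lit 12, nat_lit 19, nat_lit 16] (Rl.cmp (nat_lit 4456) (nat_lit 5018)))) (FT.leaf (Fct.mk false (nat_lit 33) (nat_lit 0) (nat_lit 33) [nat_lit 3, nat_lit 4, nat_lit 1, nat_lit 2, nat_lit 3, nat_lit 8, nat_lit 6, nat_lit 7, nat_lit 5, nat_lit 6, nat_lit 4, nat_lit 5, nat_lit 3, nat_lit 4, nat_lit 2, nat_lit 3, nat_lit 8, nat_lit 1, nat_lit 2, nat_lit 3, nat_lit 4, nat_lit 5, nat_lit 6, nat_lit 7, nat_lit 4, nat_lit 3, nat_lit 8, nat_lit 2, nat_lit 3, nat_lit 4, nat_lit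 5, nat_lit 2, nat_lit 1, nat_lit 3, nat_lit 2, nat_lit 0, nat_lit 1, nat_lit 4, nat_lit 3, nat_lit 2, nat_lit 8, nat_lit 3, nat_lit 11, nat_lit 8, nat_lit 16, nat_lit 15, nat_lit 14, nat_lit 13, nat_lit 12, nat_lit 19] (Rl.cmp (nat_lit 4456) (nat_lit 5019)))))) (FT.node (nat_lit 5023) (FT.node (nat_lit 5022) (FT.leaf (Fct.mk false (nat_lit 33) (nat_lit 0) (nat_lit 33) [nat_lit 1, nat_lit 2, nat_lit 3, nat_lit 8, nat_lit 7, nat_lit 5, nat_lit 6, nat_lit 4, nat_lit 5, nat_lit 3, nat_lit 4, nat_lit 2, nat_lit 3, nat_lit 8, nat_lit 1, nat_lit 2, nat_lit 3, nat_lit 4, nat_lit 5, nat_lit 6, nat_lit 7, nat_lit 3, nat_lit 8, nat_lit 5, nat_lit 6, nat_lit 4, nat_lit 5, nat_lit 3, nat_lit 4, nat_lit 2, nat_lit 3, nat_lit 8, nat_lit 1, nat_lit 2, nat_lit 3, nat_lit 4, nat_lit 5, nat_lit 2, nat_lit 1, nat_lit 4, nat_lit 3, nat_lit 2, nat_lit 0, nat_lit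 1, nat_lit 9, nat_lit 4, nat_lit 3, nat_lit 2, nat_lit 8, nat_lit 3, nat_lit 8, nat_lit 16, nat_lit 15, nat_lit 14, nat_lit 16, nat_lit 8] (Rl.cmp (nat_lit 4402) (nat_lit 5020)))) (FT.leaf (Fct.mk false (nat_lit 33) (nat_lit 0) (nat_lit 33) [nat_lit 4, nat_lit 5, nat_lit 3, nat_lit 4, nat_lit 1, nat_lit 2, nat_lit 3, nat_lit 8, nat_lit 0, nat_lit 1, nat_lit 2, nat_lit 3, nat_lit 4, nat_lit 5, nat_lit 6, nat_lit 7, nat_lit 3, nat_lit 4, nat_lit 2, nat_lit 3, nat_lit 8, nat_lit 5, nat_lit 6, nat_lit 4, nat_lit 5, nat_lit 3, nat_lit 4, nat_lit 2, nat_lit 3, nat_lit 8, nat_lit 1, nat_lit 2, nat_lit 3, nat_lit 4, nat_lit 5, nat_lit 8, nat_lit 3, nat_lit 2, nat_lit 0, nat_lit 1, nat_lit 9, nat_lit 4, nat_lit 3, nat_lit 2, nat_lit 8, nat_lit 3, nat_lit 11, nat_lit 1, nat_lit 12, nat_lit 15, nat_lit 14, nat_lit 17, nat_lit 12] (Rl.cmp (nat_lit 4456)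 (nat_lit 5021))))) (FT.node (nat_lit 5024) (FT.leaf (Fct.mk false (nat_lit 33) (nat_lit 0) (nat_lit 33) [nat_lit 5, nat_lit 4, nat_lit 1, nat_lit 2, nat_lit 3, nat_lit 8, nat_lit 0, nat_lit 1, nat_lit 2, nat_lit 3, nat_lit 4, nat_lit 5, nat_lit 6, nat_lit 7, nat_lit 3, nat_lit 8, nat_lit 4, nat_lit 5, nat_lit 3, nat_lit 4, nat_lit 2, nat_lit 3, nat_lit 8, nat_lit 0, nat_lit 1, nat_lit 2, nat_lit 3, nat_lit 4, nat_lit 5, nat_lit 1, nat_lit 2, nat_lit 0, nat_lit 1, nat_lit 3, nat_lit 2, nat_lit 8, nat_lit 3, nat_lit 0, nat_lit 8, nat_lit 16, nat_lit 14, nat_lit 8] (Rl.cmp (nat_lit 4456) (nat_lit 5022)))) (FT.leaf (Fct.mk true (nat_lit 33) (nat_lit 5688) (nat_lit 33) [nat_lit 6, nat_lit 5, nat_lit 2, nat_lit 3, nat_lit 4, nat_lit 1, nat_lit 2, nat_lit 3, nat_lit 8, nat_lit 0, nat_lit 1, nat_lit 2, nat_lit 3, nat_lit 4, nat_lit 5, nat_lit 6, nat_lit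 7, nat_lit 1, nat_lit 2, nat_lit 3, nat_lit 4, nat_lit 5, nat_lit 9, nat_lit 4, nat_lit 11, nat_lit 8, nat_lit 10, nat_lit 1, nat_lit 15, nat_lit 14, nat_lit 13, nat_lit 18, nat_lit 16] (Rl.rel (nat_lit 0) [nat_lit 3, nat_lit 8, nat_lit 2, nat_lit 3, nat_lit 4, nat_lit 5, nat_lit 3, nat_lit 2, nat_lit 8, nat_lit 3, nat_lit 16, nat_lit 12, nat_lit 15, nat_lit 14, nat_lit 17, nat_lit 19] (nat_lit 33) (nat_lit 2) [nat_lit 4827, nat_lit 4236, nat_lit 4429] [])))))))) (FT.node (nat_lit 5037) (FT.node (nat_lit 5031) (FT.node (nat_lit 5028) (FT.node (nat_lit 5026) (FT.leaf (Fct.mk true (nat_lit 33) (nat_lit 82) (nat_lit 33) [nat_lit 8, nat_lit 3, nat_lit 4, nat_lit 2, nat_lit 3, nat_lit 8, nat_lit 0, nat_lit 1, nat_lit 2, nat_lit 3, nat_lit 4, nat_lit 5, nat_lit 6, nat_lit 7, nat_lit 4, nat_lit 5, nat_lit 6, nat_lit 3, nat_lit 4, nat_lit 5, nat_lit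 2, nat_lit 3, nat_lit 4, nat_lit 1, nat_lit 2, nat_lit 3, nat_lit 8, nat_lit 0, nat_lit 1, nat_lit 2, nat_lit 3, nat_lit 4, nat_lit 5, nat_lit 8, nat_lit 4, nat_lit 3, nat_lit 2, nat_lit 0, nat_lit 1, nat_lit 9, nat_lit 4, nat_lit 3, nat_lit 2, nat_lit 8, nat_lit 3, nat_lit 2, nat_lit 10, nat_lit 1, nat_lit 12, nat_lit 15, nat_lit 17, nat_lit 19, nat_lit 16] (Rl.t1 (nat_lit 5024) (nat_lit 5016)))) (FT.node (nat_lit 5027) (FT.leaf (Fct.mk true (nat_lit 33) (nat_lit 15364) (nat_lit 33) [nat_lit 2, nat_lit 3, nat_lit 4, nat_lit 1, nat_lit 2, nat_lit 3, nat_lit 8, nat_lit 5, nat_lit 6, nat_lit 4, nat_lit 5, nat_lit 3, nat_lit 4, nat_lit 2, nat_lit 3, nat_lit 8, nat_lit 1, nat_lit 2, nat_lit 3, nat_lit 4, nat_lit 5, nat_lit 6, nat_lit 7, nat_lit 8, nat_lit 5, nat_lit 3, nat_lit 4, nat_lit 2, nat_lit 3, nat_lit 8, nat_lit 1, nat_lit 2, nat_lit 3,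 nat_lit 4, nat_lit 5, nat_lit 1, nat_lit 8, nat_lit 4, nat_lit 3, nat_lit 2, nat_lit 0, nat_lit 1, nat_lit 9, nat_lit 4, nat_lit 3, nat_lit 2, nat_lit 8, nat_lit 3, nat_lit 10, nat_lit 16, nat_lit 8, nat_lit 12, nat_lit 15, nat_lit 19, nat_lit 16] (Rl.inv (nat_lit 5025)))) (FT.leaf (Fct.mk true (nat_lit 33) (nat_lit 40) (nat_lit 33) [nat_lit 7, nat_lit 4, nat_lit 3, nat_lit 2, nat_lit 8, nat_lit 3, nat_lit 2, nat_lit 8, nat_lit 10, nat_lit 1, nat_lit 8, nat_lit 12, nat_lit 15, nat_lit 18] (Rl.t1 (nat_lit 5026) (nat_lit 5023)))))) (FT.node (nat_lit 5029) (FT.leaf (Fct.mk false (nat_lit 33) (nat_lit 0) (nat_lit 33) [nat_lit 6, nat_lit 4, nat_lit 5, nat_lit 2, nat_lit 3, nat_lit 4, nat_lit 1, nat_lit 2, nat_lit 3, nat_lit 8, nat_lit 0, nat_lit 1, nat_lit 2, nat_lit 3, nat_lit 4, nat_lit 5, nat_lit 6, nat_lit 7, nat_lit 6, nat_lit 5, nat_lit 4,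 nat_lit 3, nat_lit 8, nat_lit 2, nat_lit 3, nat_lit 4, nat_lit 1, nat_lit 2, nat_lit 3, nat_lit 8, nat_lit 5, nat_lit 6, nat_lit 4, nat_lit 5, nat_lit 3, nat_lit 4, nat_lit 2, nat_lit 3, nat_lit 8, nat_lit 1, nat_lit 2, nat_lit 3, nat_lit 4, nat_lit 5, nat_lit 4, nat_lit 3, nat_lit 2, nat_lit 0, nat_lit 1, nat_lit 9, nat_lit 4, nat_lit 3, nat_lit 2, nat_lit 8, nat_lit 3, nat_lit 10, nat_lit 2, nat_lit 8, nat_lit 10, nat_lit 1, nat_lit 16, nat_lit 15, nat_lit 14, nat_lit 16, nat_lit 8, nat_lit 18] (Rl.cmp (nat_lit 4456) (nat_lit 4402)))) (FT.node (nat_lit 5030) (FT.leaf (Fct.mk false (nat_lit 33) (nat_lit 0) (nat_lit 33) [nat_lit 2, nat_lit 3, nat_lit 8, nat_lit 5, nat_lit 6, nat_lit 4, nat_lit 5, nat_lit 3, nat_lit 4, nat_lit 2, nat_lit 3, nat_lit 8, nat_lit 0, nat_lit 1, nat_lit 2, nat_lit 3, nat_lit 4, nat_lit 5, nat_lit 6, nat_lit 7, nat_lit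 4, nat_lit 5, nat_lit 3, nat_lit 4, nat_lit 1, nat_lit 2, nat_lit 3, nat_lit 8, nat_lit 0, nat_lit 1, nat_lit 2, nat_lit 3, nat_lit 4, nat_lit 5, nat_lit 1, nat_lit 3, nat_lit 2, nat_lit 8, nat_lit 3, nat_lit 10, nat_lit 0, nat_lit 13, nat_lit 12] (Rl.cmp (nat_lit 4605) (nat_lit 5028)))) (FT.leaf (Fct.mk false (nat_lit 33) (nat_lit 0) (nat_lit 33) [nat_lit 3, nat_lit 8, nat_lit 5, nat_lit 6, nat_lit 4, nat_lit 5, nat_lit 3, nat_lit 4, nat_lit 1, nat_lit 2, nat_lit 3, nat_lit 8, nat_lit 0, nat_lit 1, nat_lit 2, nat_lit 3, nat_lit 4, nat_lit 5, nat_lit 6, nat_lit 7, nat_lit 4, nat_lit 5, nat_lit 6, nat_lit 3, nat_lit 4, nat_lit 5, nat_lit 2, nat_lit 3, nat_lit 4, nat_lit 1, nat_lit 2, nat_lit 3, nat_lit 8, nat_lit 0, nat_lit 1, nat_lit 2, nat_lit 3, nat_lit 4, nat_lit 5, nat_lit 0, nat_lit 1, nat_lit 4, nat_lit 3, nat_lit 2, nat_lit 8, nat_lit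 3, nat_lit 11, nat_lit 9, nat_lit 10, nat_lit 2, nat_lit 8, nat_lit 10, nat_lit 1, nat_lit 14, nat_lit 17, nat_lit 12, nat_lit 19] (Rl.cmp (nat_lit 4400) (nat_lit 5029))))))) (FT.node (nat_lit 5034) (FT.node (nat_lit 5032) (FT.leaf (Fct.mk false (nat_lit 33) (nat_lit 0) (nat_lit 33) [nat_lit 8, nat_lit 2, nat_lit 3, nat_lit 4, nat_lit 1, nat_lit 2, nat_lit 3, nat_lit 8, nat_lit 6, nat_lit 7, nat_lit 5, nat_lit 6, nat_lit 4, nat_lit 5, nat_lit 3, nat_lit 4, nat_lit 2, nat_lit 3, nat_lit 8, nat_lit 1, nat_lit 2, nat_lit 3, nat_lit 4, nat_lit 5, nat_lit 6, nat_lit 7, nat_lit 1, nat_lit 2, nat_lit 3, nat_lit 4, nat_lit 5, nat_lit 8, nat_lit 3, nat_lit 2, nat_lit 8, nat_lit 10, nat_lit 1, nat_lit 16, nat_lit 12, nat_lit 15, nat_lit 14, nat_lit 13] (Rl.cmp (nat_lit 4456) (nat_lit 5030)))) (FT.node (nat_lit 5033) (FT.leaf (Fct.mk false (nat_lit 33)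 (nat_lit 0) (nat_lit 33) [nat_lit 6, nat_lit 5, nat_lit 4, nat_lit 3, nat_lit 8, nat_lit 2, nat_lit 3, nat_lit 4, nat_lit 5, nat_lit 6, nat_lit 7, nat_lit 3, nat_lit 8, nat_lit 6, nat_lit 5, nat_lit 2, nat_lit 3, nat_lit 4, nat_lit 1, nat_lit 2, nat_lit 3, nat_lit 8, nat_lit 0, nat_lit 1, nat_lit 2, nat_lit 3, nat_lit 4, nat_lit 5, nat_lit 8, nat_lit 4, nat_lit 3, nat_lit 2, nat_lit 1, nat_lit 9, nat_lit 4, nat_lit 3, nat_lit 2, nat_lit 8, nat_lit 3, nat_lit 2, nat_lit 10, nat_lit 1, nat_lit 8, nat_lit 16, nat_lit 15, nat_lit 14, nat_lit 19] (Rl.cmp (nat_lit 4605) (nat_lit 5031)))) (FT.leaf (Fct.mk true (nat_lit 32) (nat_lit 7634) (nat_lit 33) [nat_lit 3, nat_lit 4, nat_lit 5, nat_lit 6, nat_lit 7, nat_lit 4, nat_lit 3, nat_lit 8, nat_lit 2, nat_lit 3, nat_lit 4, nat_lit 1, nat_lit 2, nat_lit 3, nat_lit 8, nat_lit 0, nat_lit 1, nat_lit 2, nat_lit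 3, nat_lit 4, nat_lit 5, nat_lit 8, nat_lit 3, nat_lit 2, nat_lit 0, nat_lit 1, nat_lit 4, nat_lit 3, nat_lit 2, nat_lit 8, nat_lit 3, nat_lit 2, nat_lit 15, nat_lit 14, nat_lit 16, nat_lit 8, nat_lit 16] (Rl.rel (nat_lit 0) [nat_lit 8, nat_lit 3, nat_lit 4, nat_lit 5, nat_lit 6, nat_lit 7, nat_lit 8, nat_lit 2, nat_lit 3, nat_lit 4, nat_lit 5, nat_lit 2, nat_lit 8, nat_lit 3, nat_lit 2, nat_lit 15, nat_lit 14, nat_lit 19] (nat_lit 33) (nat_lit 2) [nat_lit 4827, nat_lit 4247, nat_lit 3957] []))))) (FT.node (nat_lit 5035) (FT.leaf (Fct.mk true (nat_lit 32) (nat_lit 4935) (nat_lit 33) [nat_lit 1, nat_lit 2, nat_lit 3, nat_lit 4, nat_lit 5, nat_lit 6, nat_lit 7, nat_lit 8, nat_lit 3, nat_lit 4, nat_lit 5, nat_lit 3, nat_lit 2, nat_lit 16, nat_lit 8, nat_lit 18, nat_lit 16] (Rl.t1 (nat_lit 5033) (nat_lit 4175)))) (FT.node (nat_lit 5036) (FT.leaf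 (Fct.mk true (nat_lit 33) (nat_lit 112197) (nat_lit 32) [nat_lit 8, nat_lit 3, nat_lit 4, nat_lit 5, nat_lit 6, nat_lit 7, nat_lit 4, nat_lit 5, nat_lit 2, nat_lit 3, nat_lit 2, nat_lit 10, nat_lit 1, nat_lit 8, nat_lit 16, nat_lit 14, nat_lit 16] (Rl.inv (nat_lit 5034)))) (FT.leaf (Fct.mk true (nat_lit 33) (nat_lit 886) (nat_lit 32) [nat_lit 5, nat_lit 3, nat_lit 4, nat_lit 2, nat_lit 3, nat_lit 8, nat_lit 0, nat_lit 1, nat_lit 2, nat_lit 3, nat_lit 4, nat_lit 5, nat_lit 6, nat_lit 7, nat_lit 3, nat_lit 8, nat_lit 2, nat_lit 3, nat_lit 4, nat_lit 5, nat_lit 0, nat_lit 1, nat_lit 4, nat_lit 3, nat_lit 2, nat_lit 8, nat_lit 3, nat_lit 0, nat_lit 12, nat_lit 15] (Rl.t1 (nat_lit 5035) (nat_lit 5032)))))))) (FT.node (nat_lit 5043) (FT.node (nat_lit 5040) (FT.node (nat_lit 5038) (FT.leaf (Fct.mk false (nat_lit 33) (nat_lit 0) (nat_lit 33) [nat_lit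 3, nat_lit 8, nat_lit 5, nat_lit 6, nat_lit 4, nat_lit 5, nat_lit 3, nat_lit 4, nat_lit 1, nat_lit 2, nat_lit 3, nat_lit 8, nat_lit 0, nat_lit 1, nat_lit 2, nat_lit 3, nat_lit 4, nat_lit 5, nat_lit 6, nat_lit 7, nat_lit 2, nat_lit 3, nat_lit 4, nat_lit 1, nat_lit 2, nat_lit 3, nat_lit 8, nat_lit 5, nat_lit 6, nat_lit 4, nat_lit 5, nat_lit 3, nat_lit 4, nat_lit 2, nat_lit 3, nat_lit 8, nat_lit 1, nat_lit 2, nat_lit 3, nat_lit 4, nat_lit 5, nat_lit 3, nat_lit 2, nat_lit 1, nat_lit 4, nat_lit 3, nat_lit 2, nat_lit 8, nat_lit 3, nat_lit 9, nat_lit 2, nat_lit 8, nat_lit 12, nat_lit 15, nat_lit 13] (Rl.cmp (nat_lit 4605) (nat_lit 4400)))) (FT.node (nat_lit 5039) (FT.leaf (Fct.mk false (nat_lit 33) (nat_lit 0) (nat_lit 33) [nat_lit 2, nat_lit 3, nat_lit 8, nat_lit 5, nat_lit 6, nat_lit 4, nat_lit 5, nat_lit 3, nat_lit 4, nat_lit 2, nat_lit 3, nat_lit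 8, nat_lit 0, nat_lit 1, nat_lit 2, nat_lit 3, nat_lit 4, nat_lit 5, nat_lit 6, nat_lit 7, nat_lit 8, nat_lit 3, nat_lit 4, nat_lit 1, nat_lit 2, nat_lit 3, nat_lit 8, nat_lit 0, nat_lit 1, nat_lit 2, nat_lit 3, nat_lit 4, nat_lit 5, nat_lit 3, nat_lit 2, nat_lit 1, nat_lit 9, nat_lit 4, nat_lit 3, nat_lit 2, nat_lit 8, nat_lit 3, nat_lit 11, nat_lit 10, nat_lit 2, nat_lit 8, nat_lit 10, nat_lit 1, nat_lit 12, nat_lit 15, nat_lit 19] (Rl.cmp (nat_lit 4400) (nat_lit 5037)))) (FT.leaf (Fct.mk false (nat_lit 33) (nat_lit 0) (nat_lit 33) [nat_lit 3, nat_lit 8, nat_lit 5, nat_lit 6, nat_lit 4, nat_lit 5, nat_lit 3, nat_lit 4, nat_lit 1, nat_lit 2, nat_lit 3, nat_lit 8, nat_lit 0, nat_lit 1, nat_lit 2, nat_lit 3, nat_lit 4, nat_lit 5, nat_lit 6, nat_lit 7, nat_lit 3, nat_lit 8, nat_lit 2, nat_lit 3, nat_lit 4, nat_lit 5, nat_lit 2, nat_lit 0, nat_lit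 1, nat_lit 4, nat_lit 3, nat_lit 2, nat_lit 8, nat_lit 3, nat_lit 0, nat_lit 15, nat_lit 17] (Rl.cmp (nat_lit 4456) (nat_lit 5038)))))) (FT.node (nat_lit 5041) (FT.leaf (Fct.mk false (nat_lit 33) (nat_lit 0) (nat_lit 33) [nat_lit 102] (Rl.cmp (nat_lit 4402) (nat_lit 4400)))) (FT.node (nat_lit 5042) (FT.leaf (Fct.mk false (nat_lit 33) (nat_lit 0) (nat_lit 33) [nat_lit 3, nat_lit 8, nat_lit 2, nat_lit 3, nat_lit 4, nat_lit 1, nat_lit 2, nat_lit 3, nat_lit 8, nat_lit 7, nat_lit 5, nat_lit 6, nat_lit 4, nat_lit 5, nat_lit 3, nat_lit 4, nat_lit 2, nat_lit 3, nat_lit 8, nat_lit 1, nat_lit 2, nat_lit 3, nat_lit 4, nat_lit 5, nat_lit 6, nat_lit 7, nat_lit 4, nat_lit 2, nat_lit 3, nat_lit 8, nat_lit 1, nat_lit 2, nat_lit 3, nat_lit 4, nat_lit 5, nat_lit 3, nat_lit 2, nat_lit 0, nat_lit 1, nat_lit 4, nat_lit 3, nat_lit 2, nat_lit 8, nat_lit 3, nat_lit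 2, nat_lit 17, nat_lit 19, nat_lit 16] (Rl.cmp (nat_lit 4605) (nat_lit 5040)))) (FT.leaf (Fct.mk false (nat_lit 33) (nat_lit 0) (nat_lit 33) [nat_lit 8, nat_lit 5, nat_lit 3, nat_lit 4, nat_lit 2, nat_lit 3, nat_lit 8, nat_lit 1, nat_lit 2, nat_lit 3, nat_lit 4, nat_lit 5, nat_lit 6, nat_lit 7, nat_lit 3, nat_lit 8, nat_lit 2, nat_lit 3, nat_lit 4, nat_lit 1, nat_lit 2, nat_lit 3, nat_lit 8, nat_lit 0, nat_lit 1, nat_lit 2, nat_lit 3, nat_lit 4, nat_lit 5, nat_lit 2, nat_lit 1, nat_lit 3, nat_lit 2, nat_lit 8, nat_lit 3, nat_lit 8, nat_lit 10, nat_lit 1, nat_lit 12, nat_lit 15, nat_lit 17, nat_lit 18] (Rl.cmp (nat_lit 4456) (nat_lit 5041))))))) (FT.node (nat_lit 5046) (FT.node (nat_lit 5044) (FT.leaf (Fct.mk false (nat_lit 33) (nat_lit 0) (nat_lit 33) [nat_lit 4, nat_lit 2, nat_lit 3, nat_lit 8, nat_lit 0, nat_lit 1, nat_lit 2, nat_lit 3, nat_lit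 4, nat_lit 5, nat_lit 6, nat_lit 7, nat_lit 5, nat_lit 6, nat_lit 4, nat_lit 5, nat_lit 3, nat_lit 4, nat_lit 1, nat_lit 2, nat_lit 3, nat_lit 8, nat_lit 0, nat_lit 1, nat_lit 2, nat_lit 3, nat_lit 4, nat_lit 5, nat_lit 8, nat_lit 3, nat_lit 2, nat_lit 0, nat_lit 1, nat_lit 9, nat_lit 4, nat_lit 3, nat_lit 2, nat_lit 8, nat_lit 3, nat_lit 1, nat_lit 0, nat_lit 2, nat_lit 16, nat_lit 15, nat_lit 14, nat_lit 12, nat_lit 18] (Rl.cmp (nat_lit 4605) (nat_lit 5042)))) (FT.node (nat_lit 5045) (FT.leaf (Fct.mk false (nat_lit 33) (nat_lit 0) (nat_lit 33) [nat_lit 4, nat_lit 1, nat_lit 2, nat_lit 3, nat_lit 8, nat_lit 7, nat_lit 5, nat_lit 6, nat_lit 4, nat_lit 5, nat_lit 3, nat_lit 4, nat_lit 2, nat_lit 3, nat_lit 8, nat_lit 1, nat_lit 2, nat_lit 3, nat_lit 4, nat_lit 5, nat_lit 6, nat_lit 7, nat_lit 4, nat_lit 5, nat_lit 6, nat_lit 3, nat_lit 4, nat_lit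 5, nat_lit 2, nat_lit 3, nat_lit 4, nat_lit 1, nat_lit 2, nat_lit 3, nat_lit 8, nat_lit 0, nat_lit 1, nat_lit 2, nat_lit 3, nat_lit 4, nat_lit 5, nat_lit 2, nat_lit 1, nat_lit 3, nat_lit 2, nat_lit 0, nat_lit 1, nat_lit 9, nat_lit 4, nat_lit 3, nat_lit 2, nat_lit 8, nat_lit 3, nat_lit 9, nat_lit 10, nat_lit 2, nat_lit 8, nat_lit 10, nat_lit 1, nat_lit 8, nat_lit 12, nat_lit 15, nat_lit 12, nat_lit 18, nat_lit 16] (Rl.cmp (nat_lit 4456) (nat_lit 5043)))) (FT.leaf (Fct.mk false (nat_lit 33) (nat_lit 0) (nat_lit 33) [nat_lit 4, nat_lit 3, nat_lit 8, nat_lit 2, nat_lit 3, nat_lit 4, nat_lit 5, nat_lit 6, nat_lit 7, nat_lit 5, nat_lit 4, nat_lit 3, nat_lit 8, nat_lit 0, nat_lit 1, nat_lit 2, nat_lit 3, nat_lit 4, nat_lit 5, nat_lit 1, nat_lit 2, nat_lit 0, nat_lit 1, nat_lit 4, nat_lit 3, nat_lit 2, nat_lit 8, nat_lit 3, nat_lit 11, nat_lit 1, nat_lit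 8, nat_lit 12, nat_lit 15, nat_lit 14, nat_lit 13, nat_lit 12, nat_lit 19, nat_lit 16] (Rl.cmp (nat_lit 4400) (nat_lit 5044)))))) (FT.node (nat_lit 5048) (FT.node (nat_lit 5047) (FT.leaf (Fct.mk true (nat_lit 5) (nat_lit 24622) (nat_lit 33) [nat_lit 8, nat_lit 7, nat_lit 5, nat_lit 6, nat_lit 4, nat_lit 5, nat_lit 3, nat_lit 4, nat_lit 2, nat_lit 3, nat_lit 8, nat_lit 0, nat_lit 1, nat_lit 2, nat_lit 3, nat_lit 4, nat_lit 5, nat_lit 6, nat_lit 7, nat_lit 4, nat_lit 2, nat_lit 3, nat_lit 8, nat_lit 0, nat_lit 1, nat_lit 2, nat_lit 3, nat_lit 4, nat_lit 5, nat_lit 8, nat_lit 3, nat_lit 2, nat_lit 0, nat_lit 1, nat_lit 4, nat_lit 3, nat_lit 2, nat_lit 8, nat_lit 3, nat_lit 1, nat_lit 8, nat_lit 12, nat_lit 15, nat_lit 19] (Rl.rel (nat_lit 0) [nat_lit 8, nat_lit 3, nat_lit 4, nat_lit 2, nat_lit 3, nat_lit 8, nat_lit 1, nat_lit 2, nat_lit 3, nat_lit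 4, nat_lit 5, nat_lit 2, nat_lit 3, nat_lit 0, nat_lit 2, nat_lit 12, nat_lit 15, nat_lit 14, nat_lit 19] (nat_lit 33) (nat_lit 2) [nat_lit 4827, nat_lit 4244, nat_lit 3814] []))) (FT.leaf (Fct.mk true (nat_lit 5) (nat_lit 1919) (nat_lit 33) [nat_lit 5, nat_lit 4, nat_lit 2, nat_lit 3, nat_lit 8, nat_lit 0, nat_lit 1, nat_lit 2, nat_lit 3, nat_lit 4, nat_lit 5, nat_lit 6, nat_lit 7, nat_lit 8, nat_lit 6, nat_lit 4, nat_lit 5, nat_lit 3, nat_lit 4, nat_lit 2, nat_lit 3, nat_lit 8, nat_lit 0, nat_lit 1, nat_lit 2, nat_lit 3, nat_lit 4, nat_lit 5, nat_lit 4, nat_lit 1, nat_lit 12, nat_lit 15, nat_lit 12, nat_lit 19, nat_lit 16] (Rl.t1 (nat_lit 5046) (nat_lit 2802))))) (FT.node (nat_lit 5049) (FT.leaf (Fct.mk true (nat_lit 33) (nat_lit 5210) (nat_lit 5) [nat_lit 3, nat_lit 8, nat_lit 5, nat_lit 2, nat_lit 3, nat_lit 4, nat_lit 1, nat_lit 2, nat_lit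 3, nat_lit 8, nat_lit 0, nat_lit 1, nat_lit 2, nat_lit 3, nat_lit 4, nat_lit 5, nat_lit 6, nat_lit 7, nat_lit 6, nat_lit 5, nat_lit 4, nat_lit 2, nat_lit 3, nat_lit 8, nat_lit 1, nat_lit 2, nat_lit 3, nat_lit 4, nat_lit 5, nat_lit 1, nat_lit 2, nat_lit 0, nat_lit 1, nat_lit 3, nat_lit 2, nat_lit 8, nat_lit 3, nat_lit 1, nat_lit 9, nat_lit 12, nat_lit 15, nat_lit 13, nat_lit 12, nat_lit 18, nat_lit 16] (Rl.inv (nat_lit 5047)))) (FT.leaf (Fct.mk true (nat_lit 33) (nat_lit 0) (nat_lit 5) [nat_lit 2, nat_lit 3, nat_lit 8, nat_lit 4, nat_lit 5, nat_lit 3, nat_lit 4, nat_lit 2, nat_lit 3, nat_lit 8, nat_lit 1, nat_lit 2, nat_lit 3, nat_lit 4, nat_lit 5, nat_lit 6, nat_lit 7, nat_lit 8, nat_lit 3, nat_lit 4, nat_lit 2, nat_lit 3, nat_lit 8, nat_lit 0, nat_lit 1, nat_lit 2, nat_lit 3, nat_lit 4, nat_lit 5, nat_lit 3, nat_lit 1, nat_lit 0, nat_lit 2,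 nat_lit 15, nat_lit 14, nat_lit 12] (Rl.t1 (nat_lit 5048) (nat_lit 5045)))))))))

/-- some facts -/
noncomputable def ftc101 : FT := FT.node (nat_lit 5075) (FT.node (nat_lit 5062) (FT.node (nat_lit 5056) (FT.node (nat_lit 5053) (FT.node (nat_lit 5051) (FT.leaf (Fct.mk false (nat_lit 32) (nat_lit 0) (nat_lit 32) [nat_lit 2, nat_lit 3, nat_lit 8, nat_lit 6, nat_lit 4, nat_lit 5, nat_lit 3, nat_lit 4, nat_lit 2, nat_lit 3, nat_lit 8, nat_lit 1, nat_lit 2, nat_lit 3, nat_lit 4, nat_lit 5, nat_lit 2, nat_lit 1, nat_lit 8, nat_lit 3, nat_lit 2, nat_lit 0, nat_lit 1, nat_lit 9, nat_lit 4, nat_lit 3, nat_lit 2, nat_lit 8, nat_lit 3, nat_lit 11, nat_lit 16, nat_lit 14, nat_lit 8, nat_lit 19, nat_lit 16] (Rl.cmp (nat_lit 3010) (nat_lit 4363)))) (FT.node (nat_lit 5052) (FT.leaf (Fct.mk false (nat_lit 33) (nat_lit 0) (nat_lit 33) [nat_lit 4, nat_lit 3,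 nat_lit 8, nat_lit 2, nat_lit 3, nat_lit 4, nat_lit 1, nat_lit 2, nat_lit 3, nat_lit 8, nat_lit 0, nat_lit 1, nat_lit 2, nat_lit 3, nat_lit 4, nat_lit 5, nat_lit 6, nat_lit 7, nat_lit 6, nat_lit 4, nat_lit 5, nat_lit 2, nat_lit 3, nat_lit 4, nat_lit 1, nat_lit 2, nat_lit 3, nat_lit 8, nat_lit 0, nat_lit 1, nat_lit 2, nat_lit 3, nat_lit 4, nat_lit 5, nat_lit 8, nat_lit 3, nat_lit 2, nat_lit 1, nat_lit 9, nat_lit 4, nat_lit 3, nat_lit 2, nat_lit 8, nat_lit 3, nat_lit 2, nat_lit 14, nat_lit 13, nat_lit 19] (Rl.cmp (nat_lit 4605) (nat_lit 4402)))) (FT.leaf (Fct.mk false (nat_lit 33) (nat_lit 0) (nat_lit 33) [nat_lit 7, nat_lit 6, nat_lit 5, nat_lit 3, nat_lit 4, nat_lit 1, nat_lit 2, nat_lit 3, nat_lit 8, nat_lit 0, nat_lit 1, nat_lit 2, nat_lit 3, nat_lit 4, nat_lit 5, nat_lit 6, nat_lit 7, nat_lit 8, nat_lit 3, nat_lit 4, nat_lit 2, nat_lit 3,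 nat_lit 8, nat_lit 1, nat_lit 2, nat_lit 3, nat_lit 4, nat_lit 5, nat_lit 8, nat_lit 3, nat_lit 2, nat_lit 0, nat_lit 1, nat_lit 9, nat_lit 4, nat_lit 3, nat_lit 2, nat_lit 8, nat_lit 3, nat_lit 0, nat_lit 2, nat_lit 16, nat_lit 14, nat_lit 17, nat_lit 12] (Rl.cmp (nat_lit 4456) (nat_lit 5051)))))) (FT.node (nat_lit 5054) (FT.leaf (Fct.mk false (nat_lit 33) (nat_lit 0) (nat_lit 33) [nat_lit 4, nat_lit 3, nat_lit 8, nat_lit 2, nat_lit 3, nat_lit 4, nat_lit 1, nat_lit 2, nat_lit 3, nat_lit 8, nat_lit 0, nat_lit 1, nat_lit 2, nat_lit 3, nat_lit 4, nat_lit 5, nat_lit 6, nat_lit 7, nat_lit 8, nat_lit 2, nat_lit 3, nat_lit 4, nat_lit 1, nat_lit 2, nat_lit 3, nat_lit 8, nat_lit 0, nat_lit 1, nat_lit 2, nat_lit 3, nat_lit 4, nat_lit 5, nat_lit 8, nat_lit 4, nat_lit 3, nat_lit 2, nat_lit 1, nat_lit 9, nat_lit 4, nat_lit 3, nat_lit 2, nat_lit 8, nat_lit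 3, nat_lit 2, nat_lit 17, nat_lit 12] (Rl.cmp (nat_lit 4400) (nat_lit 5052)))) (FT.node (nat_lit 5055) (FT.leaf (Fct.mk false (nat_lit 33) (nat_lit 0) (nat_lit 33) [nat_lit 8, nat_lit 6, nat_lit 5, nat_lit 2, nat_lit 3, nat_lit 4, nat_lit 1, nat_lit 2, nat_lit 3, nat_lit 8, nat_lit 0, nat_lit 1, nat_lit 2, nat_lit 3, nat_lit 4, nat_lit 5, nat_lit 6, nat_lit 7, nat_lit 1, nat_lit 2, nat_lit 3, nat_lit 4, nat_lit 5, nat_lit 2, nat_lit 1, nat_lit 9, nat_lit 4, nat_lit 3, nat_lit 2, nat_lit 8, nat_lit 3, nat_lit 10, nat_lit 0, nat_lit 12, nat_lit 15, nat_lit 14, nat_lit 16] (Rl.cmp (nat_lit 4402) (nat_lit 5053)))) (FT.leaf (Fct.mk false (nat_lit 33) (nat_lit 0) (nat_lit 33) [nat_lit 6, nat_lit 5, nat_lit 2, nat_lit 3, nat_lit 4, nat_lit 1, nat_lit 2, nat_lit 3, nat_lit 8, nat_lit 0, nat_lit 1, nat_lit 2, nat_lit 3, nat_lit 4, nat_lit 5, nat_lit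 6, nat_lit 7, nat_lit 5, nat_lit 0, nat_lit 1, nat_lit 4, nat_lit 3, nat_lit 2, nat_lit 8, nat_lit 3, nat_lit 1, nat_lit 9, nat_lit 8, nat_lit 16, nat_lit 15, nat_lit 14, nat_lit 16, nat_lit 8, nat_lit 18, nat_lit 16] (Rl.cmp (nat_lit 4605) (nat_lit 5054))))))) (FT.node (nat_lit 5059) (FT.node (nat_lit 5057) (FT.leaf (Fct.mk false (nat_lit 33) (nat_lit 0) (nat_lit 33) [nat_lit 4, nat_lit 5, nat_lit 6, nat_lit 7, nat_lit 5, nat_lit 4, nat_lit 1, nat_lit 2, nat_lit 3, nat_lit 8, nat_lit 0, nat_lit 1, nat_lit 2, nat_lit 3, nat_lit 4, nat_lit 5, nat_lit 0, nat_lit 1, nat_lit 3, nat_lit 2, nat_lit 8, nat_lit 3, nat_lit 11, nat_lit 10, nat_lit 1, nat_lit 8, nat_lit 12, nat_lit 15, nat_lit 12] (Rl.cmp (nat_lit 4402) (nat_lit 4605)))) (FT.node (nat_lit 5058) (FT.leaf (Fct.mk false (nat_lit 33) (nat_lit 0) (nat_lit 33) [nat_lit 7, nat_lit 6, nat_lit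 4, nat_lit 5, nat_lit 3, nat_lit 4, nat_lit 2, nat_lit 3, nat_lit 8, nat_lit 1, nat_lit 2, nat_lit 3, nat_lit 4, nat_lit 5, nat_lit 6, nat_lit 7, nat_lit 6, nat_lit 5, nat_lit 4, nat_lit 2, nat_lit 3, nat_lit 8, nat_lit 1, nat_lit 2, nat_lit 3, nat_lit 4, nat_lit 5, nat_lit 8, nat_lit 3, nat_lit 2, nat_lit 1, nat_lit 9, nat_lit 4, nat_lit 3, nat_lit 2, nat_lit 8, nat_lit 3, nat_lit 11, nat_lit 8, nat_lit 12, nat_lit 15, nat_lit 17, nat_lit 12] (Rl.cmp (nat_lit 4456) (nat_lit 5056)))) (FT.leaf (Fct.mk false (nat_lit 33) (nat_lit 0) (nat_lit 33) [nat_lit 8, nat_lit 3, nat_lit 4, nat_lit 2, nat_lit 3, nat_lit 8, nat_lit 7, nat_lit 5, nat_lit 6, nat_lit 4, nat_lit 5, nat_lit 3, nat_lit 4, nat_lit 2, nat_lit 3, nat_lit 8, nat_lit 0, nat_lit 1, nat_lit 2, nat_lit 3, nat_lit 4, nat_lit 5, nat_lit 6, nat_lit 7, nat_lit 4, nat_lit 2, nat_lit 3, nat_lit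 8, nat_lit 5, nat_lit 6, nat_lit 4, nat_lit 5, nat_lit 3, nat_lit 4, nat_lit 2, nat_lit 3, nat_lit 8, nat_lit 1, nat_lit 2, nat_lit 3, nat_lit 4, nat_lit 5, nat_lit 1, nat_lit 9, nat_lit 4, nat_lit 3, nat_lit 2, nat_lit 8, nat_lit 3, nat_lit 8, nat_lit 10, nat_lit 16, nat_lit 15, nat_lit 14, nat_lit 17, nat_lit 19, nat_lit 16] (Rl.cmp (nat_lit 4456) (nat_lit 5057)))))) (FT.node (nat_lit 5060) (FT.leaf (Fct.mk false (nat_lit 33) (nat_lit 0) (nat_lit 33) [nat_lit 0, nat_lit 1, nat_lit 2, nat_lit 3, nat_lit 4, nat_lit 5, nat_lit 6, nat_lit 7, nat_lit 3, nat_lit 8, nat_lit 5, nat_lit 6, nat_lit 4, nat_lit 5, nat_lit 3, nat_lit 4, nat_lit 1, nat_lit 2, nat_lit 3, nat_lit 8, nat_lit 0, nat_lit 1, nat_lit 2, nat_lit 3, nat_lit 4, nat_lit 5, nat_lit 2, nat_lit 1, nat_lit 9, nat_lit 4, nat_lit 3, nat_lit 2, nat_lit 8, nat_lit 3, nat_lit 11, nat_lit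 2, nat_lit 12, nat_lit 15, nat_lit 17, nat_lit 12, nat_lit 18] (Rl.cmp (nat_lit 4400) (nat_lit 5058)))) (FT.node (nat_lit 5061) (FT.leaf (Fct.mk false (nat_lit 33) (nat_lit 0) (nat_lit 33) [nat_lit 2, nat_lit 3, nat_lit 8, nat_lit 6, nat_lit 4, nat_lit 5, nat_lit 3, nat_lit 4, nat_lit 2, nat_lit 3, nat_lit 8, nat_lit 0, nat_lit 1, nat_lit 2, nat_lit 3, nat_lit 4, nat_lit 5, nat_lit 6, nat_lit 7, nat_lit 8, nat_lit 5, nat_lit 2, nat_lit 3, nat_lit 4, nat_lit 1, nat_lit 2, nat_lit 3, nat_lit 8, nat_lit 0, nat_lit 1, nat_lit 2, nat_lit 3, nat_lit 4, nat_lit 5, nat_lit 9, nat_lit 4, nat_lit 9, nat_lit 16, nat_lit 14, nat_lit 16, nat_lit 8, nat_lit 18, nat_lit 16] (Rl.cmp (nat_lit 4402) (nat_lit 5059)))) (FT.leaf (Fct.mk true (nat_lit 33) (nat_lit 99041) (nat_lit 33) [nat_lit 8, nat_lit 7, nat_lit 6, nat_lit 5, nat_lit 3, nat_lit 4, nat_lit 2, nat_lit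 3, nat_lit 8, nat_lit 1, nat_lit 2, nat_lit 3, nat_lit 4, nat_lit 5, nat_lit 6, nat_lit 7, nat_lit 8, nat_lit 5, nat_lit 6, nat_lit 4, nat_lit 5, nat_lit 3, nat_lit 4, nat_lit 1, nat_lit 2, nat_lit 3, nat_lit 8, nat_lit 0, nat_lit 1, nat_lit 2, nat_lit 3, nat_lit 4, nat_lit 5, nat_lit 1, nat_lit 3, nat_lit 2, nat_lit 0, nat_lit 1, nat_lit 4, nat_lit 3, nat_lit 2, nat_lit 8, nat_lit 3, nat_lit 9, nat_lit 16, nat_lit 12, nat_lit 15, nat_lit 14, nat_lit 18, nat_lit 16] (Rl.rel (nat_lit 0) [nat_lit 3, nat_lit 8, nat_lit 2, nat_lit 3, nat_lit 4, nat_lit 5, nat_lit 2, nat_lit 1, nat_lit 3, nat_lit 2, nat_lit 8, nat_lit 3, nat_lit 11, nat_lit 10, nat_lit 15, nat_lit 14, nat_lit 13, nat_lit 19] (nat_lit 33) (nat_lit 2) [nat_lit 4827, nat_lit 5050, nat_lit 4442] []))))))) (FT.node (nat_lit 5068) (FT.node (nat_lit 5065) (FT.node (nat_lit 5063) (FT.leaf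 (Fct.mk true (nat_lit 33) (nat_lit 81) (nat_lit 33) [nat_lit 3, nat_lit 4, nat_lit 2, nat_lit 3, nat_lit 8, nat_lit 1, nat_lit 2, nat_lit 3, nat_lit 4, nat_lit 5, nat_lit 6, nat_lit 7, nat_lit 8, nat_lit 0, nat_lit 1, nat_lit 2, nat_lit 3, nat_lit 4, nat_lit 5, nat_lit 4, nat_lit 3, nat_lit 2, nat_lit 8, nat_lit 3, nat_lit 11, nat_lit 10, nat_lit 1, nat_lit 15, nat_lit 14, nat_lit 13, nat_lit 19] (Rl.t1 (nat_lit 5061) (nat_lit 5055)))) (FT.node (nat_lit 5064) (FT.leaf (Fct.mk true (nat_lit 33) (nat_lit 1360) (nat_lit 33) [nat_lit 6, nat_lit 5, nat_lit 4, nat_lit 3, nat_lit 8, nat_lit 2, nat_lit 3, nat_lit 4, nat_lit 5, nat_lit 6, nat_lit 7, nat_lit 4, nat_lit 3, nat_lit 8, nat_lit 0, nat_lit 1, nat_lit 2, nat_lit 3, nat_lit 4, nat_lit 5, nat_lit 1, nat_lit 2, nat_lit 3, nat_lit 8, nat_lit 4, nat_lit 3, nat_lit 2, nat_lit 1, nat_lit 9, nat_lit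 4, nat_lit 3, nat_lit 2, nat_lit 8, nat_lit 3, nat_lit 2, nat_lit 8, nat_lit 10, nat_lit 1, nat_lit 15, nat_lit 14, nat_lit 12, nat_lit 16] (Rl.inv (nat_lit 5062)))) (FT.leaf (Fct.mk true (nat_lit 33) (nat_lit 12) (nat_lit 33) [nat_lit 5, nat_lit 4, nat_lit 3, nat_lit 8, nat_lit 2, nat_lit 3, nat_lit 4, nat_lit 5, nat_lit 6, nat_lit 7, nat_lit 5, nat_lit 1, nat_lit 3, nat_lit 2, nat_lit 0, nat_lit 1, nat_lit 4, nat_lit 3, nat_lit 2, nat_lit 8, nat_lit 3, nat_lit 14, nat_lit 12] (Rl.t1 (nat_lit 5063) (nat_lit 5060)))))) (FT.node (nat_lit 5066) (FT.leaf (Fct.mk false (nat_lit 33) (nat_lit 0) (nat_lit 33) [nat_lit 6, nat_lit 4, nat_lit 5, nat_lit 2, nat_lit 3, nat_lit 4, nat_lit 1, nat_lit 2, nat_lit 3, nat_lit 8, nat_lit 0, nat_lit 1, nat_lit 2, nat_lit 3, nat_lit 4, nat_lit 5, nat_lit 6, nat_lit 7, nat_lit 6, nat_lit 5, nat_lit 4, nat_lit 3,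 nat_lit 8, nat_lit 2, nat_lit 3, nat_lit 4, nat_lit 1, nat_lit 2, nat_lit 3, nat_lit 8, nat_lit 5, nat_lit 6, nat_lit 4, nat_lit 5, nat_lit 3, nat_lit 4, nat_lit 2, nat_lit 3, nat_lit 8, nat_lit 1, nat_lit 2, nat_lit 3, nat_lit 4, nat_lit 5, nat_lit 4, nat_lit 3, nat_lit 2, nat_lit 0, nat_lit 1, nat_lit 9, nat_lit 4, nat_lit 3, nat_lit 2, nat_lit 8, nat_lit 3, nat_lit 10, nat_lit 2, nat_lit 8, nat_lit 10, nat_lit 1, nat_lit 16, nat_lit 15, nat_lit 14, nat_lit 16, nat_lit 8, nat_lit 18] (Rl.cmp (nat_lit 4456) (nat_lit 4402)))) (FT.node (nat_lit 5067) (FT.leaf (Fct.mk false (nat_lit 33) (nat_lit 0) (nat_lit 33) [nat_lit 5, nat_lit 4, nat_lit 3, nat_lit 8, nat_lit 6, nat_lit 7, nat_lit 5, nat_lit 6, nat_lit 4, nat_lit 5, nat_lit 3, nat_lit 4, nat_lit 1, nat_lit 2, nat_lit 3, nat_lit 8, nat_lit 0, nat_lit 1, nat_lit 2, nat_lit 3, nat_lit 4, nat_lit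 5, nat_lit 6, nat_lit 7, nat_lit 2, nat_lit 3, nat_lit 8, nat_lit 1, nat_lit 2, nat_lit 3, nat_lit 4, nat_lit 5, nat_lit 4, nat_lit 9, nat_lit 15, nat_lit 14, nat_lit 8, nat_lit 16] (Rl.cmp (nat_lit 4402) (nat_lit 5065)))) (FT.leaf (Fct.mk false (nat_lit 33) (nat_lit 0) (nat_lit 33) [nat_lit 3, nat_lit 4, nat_lit 5, nat_lit 2, nat_lit 3, nat_lit 4, nat_lit 1, nat_lit 2, nat_lit 3, nat_lit 8, nat_lit 6, nat_lit 7, nat_lit 5, nat_lit 6, nat_lit 4, nat_lit 5, nat_lit 3, nat_lit 4, nat_lit 2, nat_lit 3, nat_lit 8, nat_lit 1, nat_lit 2, nat_lit 3, nat_lit 4, nat_lit 5, nat_lit 6, nat_lit 7, nat_lit 8, nat_lit 4, nat_lit 5, nat_lit 3, nat_lit 4, nat_lit 1, nat_lit 2, nat_lit 3, nat_lit 8, nat_lit 0, nat_lit 1, nat_lit 2, nat_lit 3, nat_lit 4, nat_lit 5, nat_lit 3, nat_lit 11, nat_lit 8, nat_lit 10, nat_lit 1, nat_lit 12, nat_lit 15, nat_lit 17, nat_lit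 12, nat_lit 19, nat_lit 16] (Rl.cmp (nat_lit 4456) (nat_lit 5066))))))) (FT.node (nat_lit 5071) (FT.node (nat_lit 5069) (FT.leaf (Fct.mk false (nat_lit 33) (nat_lit 0) (nat_lit 33) [nat_lit 5, nat_lit 4, nat_lit 2, nat_lit 3, nat_lit 8, nat_lit 6, nat_lit 7, nat_lit 5, nat_lit 6, nat_lit 4, nat_lit 5, nat_lit 3, nat_lit 4, nat_lit 2, nat_lit 3, nat_lit 8, nat_lit 1, nat_lit 2, nat_lit 3, nat_lit 4, nat_lit 5, nat_lit 6, nat_lit 7, nat_lit 5, nat_lit 4, nat_lit 3, nat_lit 8, nat_lit 2, nat_lit 3, nat_lit 4, nat_lit 5, nat_lit 4, nat_lit 3, nat_lit 2, nat_lit 0, nat_lit 1, nat_lit 9, nat_lit 4, nat_lit 3, nat_lit 2, nat_lit 8, nat_lit 3, nat_lit 11, nat_lit 2, nat_lit 8, nat_lit 10, nat_lit 1, nat_lit 12, nat_lit 15, nat_lit 14, nat_lit 13, nat_lit 19, nat_lit 16] (Rl.cmp (nat_lit 4456) (nat_lit 5067)))) (FT.node (nat_lit 5070) (FT.leaf (Fct.mk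 true (nat_lit 5) (nat_lit 22683) (nat_lit 33) [nat_lit 2, nat_lit 3, nat_lit 8, nat_lit 6, nat_lit 4, nat_lit 5, nat_lit 3, nat_lit 4, nat_lit 2, nat_lit 3, nat_lit 8, nat_lit 1, nat_lit 2, nat_lit 3, nat_lit 4, nat_lit 5, nat_lit 6, nat_lit 7, nat_lit 3, nat_lit 8, nat_lit 6, nat_lit 4, nat_lit 5, nat_lit 3, nat_lit 4, nat_lit 1, nat_lit 2, nat_lit 3, nat_lit 8, nat_lit 0, nat_lit 1, nat_lit 2, nat_lit 3, nat_lit 4, nat_lit 5, nat_lit 1, nat_lit 8, nat_lit 3, nat_lit 2, nat_lit 0, nat_lit 1, nat_lit 4, nat_lit 3, nat_lit 2, nat_lit 8, nat_lit 3, nat_lit 11, nat_lit 15, nat_lit 17, nat_lit 18] (Rl.rel (nat_lit 0) [nat_lit 8, nat_lit 3, nat_lit 4, nat_lit 2, nat_lit 3, nat_lit 8, nat_lit 1, nat_lit 2, nat_lit 3, nat_lit 4, nat_lit 5, nat_lit 2, nat_lit 3, nat_lit 10, nat_lit 9, nat_lit 2, nat_lit 15, nat_lit 14, nat_lit 19] (nat_lit 33) (nat_lit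 2) [nat_lit 4827, nat_lit 3779, nat_lit 3782] []))) (FT.leaf (Fct.mk true (nat_lit 5) (nat_lit 1314) (nat_lit 33) [nat_lit 4, nat_lit 3, nat_lit 8, nat_lit 2, nat_lit 3, nat_lit 4, nat_lit 5, nat_lit 6, nat_lit 7, nat_lit 3, nat_lit 8, nat_lit 5, nat_lit 2, nat_lit 3, nat_lit 4, nat_lit 1, nat_lit 2, nat_lit 3, nat_lit 8, nat_lit 0, nat_lit 1, nat_lit 2, nat_lit 3, nat_lit 4, nat_lit 5, nat_lit 8, nat_lit 3, nat_lit 15, nat_lit 16, nat_lit 8, nat_lit 19] (Rl.t1 (nat_lit 5069) (nat_lit 3774)))))) (FT.node (nat_lit 5073) (FT.node (nat_lit 5072) (FT.leaf (Fct.mk true (nat_lit 33) (nat_lit 2871) (nat_lit 5) [nat_lit 8, nat_lit 3, nat_lit 4, nat_lit 5, nat_lit 6, nat_lit 7, nat_lit 5, nat_lit 4, nat_lit 3, nat_lit 8, nat_lit 2, nat_lit 3, nat_lit 4, nat_lit 5, nat_lit 4, nat_lit 3, nat_lit 2, nat_lit 1, nat_lit 8, nat_lit 3, nat_lit 2, nat_lit 0,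 nat_lit 1, nat_lit 4, nat_lit 3, nat_lit 2, nat_lit 8, nat_lit 3, nat_lit 2, nat_lit 15, nat_lit 14, nat_lit 12, nat_lit 19] (Rl.inv (nat_lit 5070)))) (FT.leaf (Fct.mk true (nat_lit 33) (nat_lit 396) (nat_lit 5) [nat_lit 4, nat_lit 2, nat_lit 3, nat_lit 8, nat_lit 7, nat_lit 5, nat_lit 6, nat_lit 4, nat_lit 5, nat_lit 3, nat_lit 4, nat_lit 2, nat_lit 3, nat_lit 8, nat_lit 0, nat_lit 1, nat_lit 2, nat_lit 3, nat_lit 4, nat_lit 5, nat_lit 6, nat_lit 7, nat_lit 4, nat_lit 5, nat_lit 6, nat_lit 3, nat_lit 4, nat_lit 5, nat_lit 2, nat_lit 3, nat_lit 4, nat_lit 1, nat_lit 2, nat_lit 3, nat_lit 8, nat_lit 0, nat_lit 1, nat_lit 2, nat_lit 3, nat_lit 4, nat_lit 5, nat_lit 2, nat_lit 0, nat_lit 1, nat_lit 9, nat_lit 4, nat_lit 3, nat_lit 2, nat_lit 8, nat_lit 3, nat_lit 8, nat_lit 10, nat_lit 1, nat_lit 8, nat_lit 16, nat_lit 15, nat_lit 14, nat_lit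 17] (Rl.t1 (nat_lit 5071) (nat_lit 5068))))) (FT.node (nat_lit 5074) (FT.leaf (Fct.mk false (nat_lit 33) (nat_lit 0) (nat_lit 33) [nat_lit 4, nat_lit 3, nat_lit 8, nat_lit 2, nat_lit 3, nat_lit 4, nat_lit 1, nat_lit 2, nat_lit 3, nat_lit 8, nat_lit 0, nat_lit 1, nat_lit 2, nat_lit 3, nat_lit 4, nat_lit 5, nat_lit 6, nat_lit 7, nat_lit 6, nat_lit 4, nat_lit 5, nat_lit 2, nat_lit 3, nat_lit 4, nat_lit 1, nat_lit 2, nat_lit 3, nat_lit 8, nat_lit 0, nat_lit 1, nat_lit 2, nat_lit 3, nat_lit 4, nat_lit 5, nat_lit 8, nat_lit 3, nat_lit 2, nat_lit 1, nat_lit 9, nat_lit 4, nat_lit 3, nat_lit 2, nat_lit 8, nat_lit 3, nat_lit 2, nat_lit 14, nat_lit 13, nat_lit 19] (Rl.cmp (nat_lit 4605) (nat_lit 4402)))) (FT.leaf (Fct.mk false (nat_lit 33) (nat_lit 0) (nat_lit 33) [nat_lit 7, nat_lit 6, nat_lit 5, nat_lit 3, nat_lit 4, nat_lit 1, nat_lit 2, nat_lit 3,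 nat_lit 8, nat_lit 0, nat_lit 1, nat_lit 2, nat_lit 3, nat_lit 4, nat_lit 5, nat_lit 6, nat_lit 7, nat_lit 5, nat_lit 4, nat_lit 3, nat_lit 8, nat_lit 2, nat_lit 3, nat_lit 4, nat_lit 5, nat_lit 2, nat_lit 1, nat_lit 9, nat_lit 4, nat_lit 3, nat_lit 2, nat_lit 8, nat_lit 3, nat_lit 9, nat_lit 2, nat_lit 12, nat_lit 15, nat_lit 18, nat_lit 16] (Rl.cmp (nat_lit 4400) (nat_lit 5073))))))))) (FT.node (nat_lit 5087) (FT.node (nat_lit 5081) (FT.node (nat_lit 5078) (FT.node (nat_lit 5076) (FT.leaf (Fct.mk false (nat_lit 33) (nat_lit 0) (nat_lit 33) [nat_lit 7, nat_lit 6, nat_lit 5, nat_lit 4, nat_lit 3, nat_lit 8, nat_lit 0, nat_lit 1, nat_lit 2, nat_lit 3, nat_lit 4, nat_lit 5, nat_lit 6, nat_lit 7, nat_lit 4, nat_lit 5, nat_lit 3, nat_lit 4, nat_lit 2, nat_lit 3, nat_lit 8, nat_lit 1, nat_lit 2, nat_lit 3, nat_lit 4, nat_lit 5, nat_lit 2, nat_lit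 0, nat_lit 1, nat_lit 9, nat_lit 4, nat_lit 3, nat_lit 2, nat_lit 8, nat_lit 3, nat_lit 8, nat_lit 10, nat_lit 9, nat_lit 2, nat_lit 15, nat_lit 19] (Rl.cmp (nat_lit 4456) (nat_lit 5074)))) (FT.node (nat_lit 5077) (FT.leaf (Fct.mk false (nat_lit 33) (nat_lit 0) (nat_lit 33) [nat_lit 7, nat_lit 6, nat_lit 4, nat_lit 5, nat_lit 3, nat_lit 4, nat_lit 1, nat_lit 2, nat_lit 3, nat_lit 8, nat_lit 0, nat_lit 1, nat_lit 2, nat_lit 3, nat_lit 4, nat_lit 5, nat_lit 6, nat_lit 7, nat_lit 8, nat_lit 3, nat_lit 4, nat_lit 2, nat_lit 3, nat_lit 8, nat_lit 1, nat_lit 2, nat_lit 3, nat_lit 4, nat_lit 5, nat_lit 8, nat_lit 3, nat_lit 2, nat_lit 0, nat_lit 1, nat_lit 9, nat_lit 4, nat_lit 3, nat_lit 2, nat_lit 8, nat_lit 3, nat_lit 11, nat_lit 8, nat_lit 10, nat_lit 16, nat_lit 8, nat_lit 12, nat_lit 15, nat_lit 16, nat_lit 8, nat_lit 19] (Rl.cmp (nat_lit 4456)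 (nat_lit 5075)))) (FT.leaf (Fct.mk false (nat_lit 33) (nat_lit 0) (nat_lit 33) [nat_lit 3, nat_lit 8, nat_lit 2, nat_lit 3, nat_lit 4, nat_lit 1, nat_lit 2, nat_lit 3, nat_lit 8, nat_lit 0, nat_lit 1, nat_lit 2, nat_lit 3, nat_lit 4, nat_lit 5, nat_lit 6, nat_lit 7, nat_lit 6, nat_lit 5, nat_lit 4, nat_lit 2, nat_lit 3, nat_lit 8, nat_lit 1, nat_lit 2, nat_lit 3, nat_lit 4, nat_lit 5, nat_lit 2, nat_lit 0, nat_lit 1, nat_lit 9, nat_lit 4, nat_lit 3, nat_lit 2, nat_lit 8, nat_lit 3, nat_lit 9, nat_lit 2, nat_lit 14, nat_lit 13, nat_lit 19] (Rl.cmp (nat_lit 4456) (nat_lit 5076)))))) (FT.node (nat_lit 5079) (FT.leaf (Fct.mk true (nat_lit 33) (nat_lit 22548) (nat_lit 33) [nat_lit 6, nat_lit 5, nat_lit 4, nat_lit 3, nat_lit 8, nat_lit 2, nat_lit 3, nat_lit 4, nat_lit 5, nat_lit 6, nat_lit 7, nat_lit 3, nat_lit 4, nat_lit 1, nat_lit 2, nat_lit 3,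 nat_lit 8, nat_lit 5, nat_lit 6, nat_lit 4, nat_lit 5, nat_lit 3, nat_lit 4, nat_lit 2, nat_lit 3, nat_lit 8, nat_lit 1, nat_lit 2, nat_lit 3, nat_lit 4, nat_lit 5, nat_lit 3, nat_lit 2, nat_lit 1, nat_lit 9, nat_lit 4, nat_lit 3, nat_lit 2, nat_lit 8, nat_lit 3, nat_lit 11, nat_lit 10, nat_lit 15, nat_lit 17, nat_lit 12, nat_lit 19, nat_lit 16] (Rl.rel (nat_lit 0) [nat_lit 3, nat_lit 8, nat_lit 2, nat_lit 3, nat_lit 4, nat_lit 5, nat_lit 2, nat_lit 1, nat_lit 3, nat_lit 2, nat_lit 8, nat_lit 3, nat_lit 16, nat_lit 12, nat_lit 15, nat_lit 14, nat_lit 19] (nat_lit 33) (nat_lit 2) [nat_lit 4827, nat_lit 4241, nat_lit 4855] []))) (FT.node (nat_lit 5080) (FT.leaf (Fct.mk true (nat_lit 33) (nat_lit 30) (nat_lit 33) [nat_lit 0, nat_lit 1, nat_lit 2, nat_lit 3, nat_lit 4, nat_lit 5, nat_lit 6, nat_lit 7, nat_lit 2, nat_lit 3, nat_lit 4, nat_lit 5,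 nat_lit 3, nat_lit 8, nat_lit 4, nat_lit 3, nat_lit 2, nat_lit 0, nat_lit 1, nat_lit 9, nat_lit 4, nat_lit 3, nat_lit 2, nat_lit 8, nat_lit 3, nat_lit 10, nat_lit 9, nat_lit 2, nat_lit 12, nat_lit 15, nat_lit 14, nat_lit 17, nat_lit 19] (Rl.t1 (nat_lit 5078) (nat_lit 5077)))) (FT.leaf (Fct.mk false (nat_lit 33) (nat_lit 0) (nat_lit 33) [nat_lit 102] (Rl.cmp (nat_lit 4402) (nat_lit 4400))))))) (FT.node (nat_lit 5084) (FT.node (nat_lit 5082) (FT.leaf (Fct.mk false (nat_lit 33) (nat_lit 0) (nat_lit 33) [nat_lit 3, nat_lit 8, nat_lit 2, nat_lit 3, nat_lit 4, nat_lit 1, nat_lit 2, nat_lit 3, nat_lit 8, nat_lit 7, nat_lit 5, nat_lit 6, nat_lit 4, nat_lit 5, nat_lit 3, nat_lit 4, nat_lit 2, nat_lit 3, nat_lit 8, nat_lit 1, nat_lit 2, nat_lit 3, nat_lit 4, nat_lit 5, nat_lit 6, nat_lit 7, nat_lit 4, nat_lit 2, nat_lit 3, nat_lit 8, nat_lit 1, nat_lit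 2, nat_lit 3, nat_lit 4, nat_lit 5, nat_lit 3, nat_lit 2, nat_lit 0, nat_lit 1, nat_lit 4, nat_lit 3, nat_lit 2, nat_lit 8, nat_lit 3, nat_lit 2, nat_lit 17, nat_lit 19, nat_lit 16] (Rl.cmp (nat_lit 4605) (nat_lit 5080)))) (FT.node (nat_lit 5083) (FT.leaf (Fct.mk false (nat_lit 33) (nat_lit 0) (nat_lit 33) [nat_lit 8, nat_lit 5, nat_lit 3, nat_lit 4, nat_lit 2, nat_lit 3, nat_lit 8, nat_lit 1, nat_lit 2, nat_lit 3, nat_lit 4, nat_lit 5, nat_lit 6, nat_lit 7, nat_lit 2, nat_lit 3, nat_lit 8, nat_lit 1, nat_lit 2, nat_lit 3, nat_lit 4, nat_lit 5, nat_lit 1, nat_lit 3, nat_lit 2, nat_lit 0, nat_lit 1, nat_lit 9, nat_lit 4, nat_lit 3, nat_lit 2, nat_lit 8, nat_lit 3, nat_lit 2, nat_lit 10, nat_lit 1, nat_lit 12, nat_lit 15, nat_lit 14, nat_lit 17, nat_lit 19, nat_lit 16] (Rl.cmp (nat_lit 4400) (nat_lit 5081)))) (FT.leaf (Fct.mk false (nat_lit 33)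 (nat_lit 0) (nat_lit 33) [nat_lit 0, nat_lit 1, nat_lit 2, nat_lit 3, nat_lit 4, nat_lit 5, nat_lit 6, nat_lit 7, nat_lit 2, nat_lit 3, nat_lit 8, nat_lit 0, nat_lit 1, nat_lit 2, nat_lit 3, nat_lit 4, nat_lit 5, nat_lit 1, nat_lit 2, nat_lit 0, nat_lit 1, nat_lit 9, nat_lit 4, nat_lit 3, nat_lit 2, nat_lit 8, nat_lit 3, nat_lit 10, nat_lit 14, nat_lit 13, nat_lit 16] (Rl.cmp (nat_lit 4456) (nat_lit 5082)))))) (FT.node (nat_lit 5085) (FT.leaf (Fct.mk false (nat_lit 33) (nat_lit 0) (nat_lit 33) [nat_lit 8, nat_lit 3, nat_lit 4, nat_lit 2, nat_lit 3, nat_lit 8, nat_lit 7, nat_lit 5, nat_lit 6, nat_lit 4, nat_lit 5, nat_lit 3, nat_lit 4, nat_lit 2, nat_lit 3, nat_lit 8, nat_lit 0, nat_lit 1, nat_lit 2, nat_lit 3, nat_lit 4, nat_lit 5, nat_lit 6, nat_lit 7, nat_lit 4, nat_lit 5, nat_lit 3, nat_lit 4, nat_lit 2, nat_lit 3, nat_lit 8, nat_lit 1,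 nat_lit 2, nat_lit 3, nat_lit 4, nat_lit 5, nat_lit 1, nat_lit 2, nat_lit 0, nat_lit 1, nat_lit 3, nat_lit 2, nat_lit 8, nat_lit 3, nat_lit 10, nat_lit 1, nat_lit 12, nat_lit 15, nat_lit 17, nat_lit 19] (Rl.cmp (nat_lit 4400) (nat_lit 5083)))) (FT.node (nat_lit 5086) (FT.leaf (Fct.mk false (nat_lit 33) (nat_lit 0) (nat_lit 33) [nat_lit 8, nat_lit 5, nat_lit 6, nat_lit 4, nat_lit 5, nat_lit 2, nat_lit 3, nat_lit 4, nat_lit 1, nat_lit 2, nat_lit 3, nat_lit 8, nat_lit 0, nat_lit 1, nat_lit 2, nat_lit 3, nat_lit 4, nat_lit 5, nat_lit 6, nat_lit 7, nat_lit 4, nat_lit 1, nat_lit 2, nat_lit 3, nat_lit 8, nat_lit 0, nat_lit 1, nat_lit 2, nat_lit 3, nat_lit 4, nat_lit 5, nat_lit 3, nat_lit 2, nat_lit 0, nat_lit 1, nat_lit 9, nat_lit 4, nat_lit 3, nat_lit 2, nat_lit 8, nat_lit 3, nat_lit 0, nat_lit 16, nat_lit 12, nat_lit 15, nat_lit 14, nat_lit 16,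 nat_lit 8, nat_lit 19] (Rl.cmp (nat_lit 4402) (nat_lit 5084)))) (FT.leaf (Fct.mk false (nat_lit 33) (nat_lit 0) (nat_lit 33) [nat_lit 8, nat_lit 5, nat_lit 2, nat_lit 3, nat_lit 4, nat_lit 1, nat_lit 2, nat_lit 3, nat_lit 8, nat_lit 6, nat_lit 7, nat_lit 5, nat_lit 6, nat_lit 4, nat_lit 5, nat_lit 3, nat_lit 4, nat_lit 2, nat_lit 3, nat_lit 8, nat_lit 1, nat_lit 2, nat_lit 3, nat_lit 4, nat_lit 5, nat_lit 6, nat_lit 7, nat_lit 3, nat_lit 8, nat_lit 5, nat_lit 6, nat_lit 4, nat_lit 5, nat_lit 3, nat_lit 4, nat_lit 2, nat_lit 3, nat_lit 8, nat_lit 0, nat_lit 1, nat_lit 2, nat_lit 3, nat_lit 4, nat_lit 5, nat_lit 3, nat_lit 2, nat_lit 1, nat_lit 9, nat_lit 4, nat_lit 3, nat_lit 2, nat_lit 8, nat_lit 3, nat_lit 11, nat_lit 9, nat_lit 10, nat_lit 2, nat_lit 8, nat_lit 10, nat_lit 1, nat_lit 8, nat_lit 16, nat_lit 15, nat_lit 14, nat_lit 13, nat_lit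 12, nat_lit 19] (Rl.cmp (nat_lit 4456) (nat_lit 5085)))))))) (FT.node (nat_lit 5093) (FT.node (nat_lit 5090) (FT.node (nat_lit 5088) (FT.leaf (Fct.mk true (nat_lit 32) (nat_lit 56972) (nat_lit 33) [nat_lit 7, nat_lit 2, nat_lit 3, nat_lit 8, nat_lit 1, nat_lit 2, nat_lit 3, nat_lit 4, nat_lit 5, nat_lit 1, nat_lit 2, nat_lit 0, nat_lit 1, nat_lit 4, nat_lit 3, nat_lit 2, nat_lit 8, nat_lit 3, nat_lit 9, nat_lit 10, nat_lit 2, nat_lit 8, nat_lit 10, nat_lit 1, nat_lit 8, nat_lit 16, nat_lit 15, nat_lit 14, nat_lit 16, nat_lit 8, nat_lit 18] (Rl.rel (nat_lit 0) [nat_lit 8, nat_lit 3, nat_lit 4, nat_lit 5, nat_lit 6, nat_lit 7, nat_lit 8, nat_lit 2, nat_lit 3, nat_lit 4, nat_lit 5, nat_lit 2, nat_lit 8, nat_lit 3, nat_lit 10, nat_lit 12, nat_lit 15, nat_lit 14, nat_lit 19] (nat_lit 33) (nat_lit 2) [nat_lit 4827, nat_lit 4240, nat_lit 3723] [])))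 (FT.node (nat_lit 5089) (FT.leaf (Fct.mk true (nat_lit 32) (nat_lit 970) (nat_lit 33) [nat_lit 4, nat_lit 3, nat_lit 8, nat_lit 6, nat_lit 7, nat_lit 5, nat_lit 6, nat_lit 4, nat_lit 5, nat_lit 3, nat_lit 4, nat_lit 2, nat_lit 3, nat_lit 8, nat_lit 1, nat_lit 2, nat_lit 3, nat_lit 4, nat_lit 5, nat_lit 6, nat_lit 7, nat_lit 8, nat_lit 3, nat_lit 4, nat_lit 5, nat_lit 8, nat_lit 3, nat_lit 2, nat_lit 0, nat_lit 1, nat_lit 9, nat_lit 4, nat_lit 3, nat_lit 2, nat_lit 8, nat_lit 3, nat_lit 8, nat_lit 10, nat_lit 0, nat_lit 15, nat_lit 14, nat_lit 8, nat_lit 19] (Rl.t1 (nat_lit 5087) (nat_lit 4085)))) (FT.leaf (Fct.mk true (nat_lit 33) (nat_lit 67059) (nat_lit 32) [nat_lit 3, nat_lit 8, nat_lit 7, nat_lit 6, nat_lit 4, nat_lit 5, nat_lit 3, nat_lit 4, nat_lit 2, nat_lit 3, nat_lit 8, nat_lit 0, nat_lit 1, nat_lit 2, nat_lit 3, nat_lit 4, nat_lit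 5, nat_lit 6, nat_lit 7, nat_lit 2, nat_lit 3, nat_lit 4, nat_lit 1, nat_lit 2, nat_lit 3, nat_lit 8, nat_lit 0, nat_lit 1, nat_lit 2, nat_lit 3, nat_lit 4, nat_lit 5, nat_lit 10, nat_lit 2, nat_lit 8, nat_lit 10, nat_lit 1, nat_lit 12, nat_lit 15, nat_lit 14, nat_lit 13, nat_lit 19] (Rl.inv (nat_lit 5088)))))) (FT.node (nat_lit 5091) (FT.leaf (Fct.mk true (nat_lit 33) (nat_lit 251) (nat_lit 32) [nat_lit 6, nat_lit 5, nat_lit 3, nat_lit 4, nat_lit 1, nat_lit 2, nat_lit 3, nat_lit 8, nat_lit 0, nat_lit 1, nat_lit 2, nat_lit 3, nat_lit 4, nat_lit 5, nat_lit 6, nat_lit 7, nat_lit 8, nat_lit 5, nat_lit 2, nat_lit 3, nat_lit 4, nat_lit 1, nat_lit 2, nat_lit 3, nat_lit 8, nat_lit 0, nat_lit 1, nat_lit 2, nat_lit 3, nat_lit 4, nat_lit 5, nat_lit 4, nat_lit 3, nat_lit 2, nat_lit 8, nat_lit 3, nat_lit 9, nat_lit 8, nat_lit 16, nat_lit 15, nat_lit 14,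 nat_lit 17, nat_lit 19] (Rl.t1 (nat_lit 5089) (nat_lit 5086)))) (FT.node (nat_lit 5092) (FT.leaf (Fct.mk false (nat_lit 32) (nat_lit 0) (nat_lit 32) [nat_lit 3, nat_lit 8, nat_lit 5, nat_lit 2, nat_lit 3, nat_lit 4, nat_lit 1, nat_lit 2, nat_lit 3, nat_lit 8, nat_lit 6, nat_lit 7, nat_lit 5, nat_lit 6, nat_lit 4, nat_lit 5, nat_lit 3, nat_lit 4, nat_lit 2, nat_lit 3, nat_lit 8, nat_lit 1, nat_lit 2, nat_lit 3, nat_lit 4, nat_lit 5, nat_lit 6, nat_lit 7, nat_lit 8, nat_lit 6, nat_lit 5, nat_lit 3, nat_lit 4, nat_lit 2, nat_lit 3, nat_lit 8, nat_lit 1, nat_lit 2, nat_lit 3, nat_lit 4, nat_lit 5, nat_lit 2, nat_lit 0, nat_lit 1, nat_lit 9, nat_lit 4, nat_lit 3, nat_lit 2, nat_lit 8, nat_lit 3, nat_lit 9, nat_lit 10, nat_lit 2, nat_lit 8, nat_lit 10, nat_lit 1, nat_lit 15, nat_lit 14, nat_lit 17, nat_lit 18] (Rl.cmp (nat_lit 3456) (nat_lit 3708))))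 (FT.leaf (Fct.mk false (nat_lit 32) (nat_lit 0) (nat_lit 32) [nat_lit 3, nat_lit 8, nat_lit 5, nat_lit 2, nat_lit 3, nat_lit 4, nat_lit 1, nat_lit 2, nat_lit 3, nat_lit 8, nat_lit 6, nat_lit 7, nat_lit 5, nat_lit 6, nat_lit 4, nat_lit 5, nat_lit 3, nat_lit 4, nat_lit 2, nat_lit 3, nat_lit 8, nat_lit 1, nat_lit 2, nat_lit 3, nat_lit 4, nat_lit 5, nat_lit 6, nat_lit 7, nat_lit 8, nat_lit 3, nat_lit 4, nat_lit 2, nat_lit 3, nat_lit 8, nat_lit 1, nat_lit 2, nat_lit 3, nat_lit 4, nat_lit 5, nat_lit 3, nat_lit 2, nat_lit 1, nat_lit 4, nat_lit 3, nat_lit 2, nat_lit 0, nat_lit 1, nat_lit 9, nat_lit 4, nat_lit 3, nat_lit 2, nat_lit 8, nat_lit 3, nat_lit 10, nat_lit 12, nat_lit 15, nat_lit 14, nat_lit 8, nat_lit 19, nat_lit 16] (Rl.cmp (nat_lit 3004) (nat_lit 5091))))))) (FT.node (nat_lit 5096) (FT.node (nat_lit 5094) (FT.leaf (Fct.mk false (nat_lit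 32) (nat_lit 0) (nat_lit 32) [nat_lit 3, nat_lit 4, nat_lit 2, nat_lit 3, nat_lit 8, nat_lit 0, nat_lit 1, nat_lit 2, nat_lit 3, nat_lit 4, nat_lit 5, nat_lit 1, nat_lit 3, nat_lit 8, nat_lit 4, nat_lit 3, nat_lit 2, nat_lit 0, nat_lit 1, nat_lit 9, nat_lit 4, nat_lit 3, nat_lit 2, nat_lit 8, nat_lit 3, nat_lit 11, nat_lit 10, nat_lit 15, nat_lit 13, nat_lit 12, nat_lit 19] (Rl.cmp (nat_lit 3456) (nat_lit 5092)))) (FT.node (nat_lit 5095) (FT.leaf (Fct.mk false (nat_lit 32) (nat_lit 0) (nat_lit 32) [nat_lit 2, nat_lit 3, nat_lit 8, nat_lit 6, nat_lit 4, nat_lit 5, nat_lit 3, nat_lit 4, nat_lit 2, nat_lit 3, nat_lit 8, nat_lit 1, nat_lit 2, nat_lit 3, nat_lit 4, nat_lit 5, nat_lit 1, nat_lit 8, nat_lit 4, nat_lit 3, nat_lit 2, nat_lit 0, nat_lit 1, nat_lit 9, nat_lit 4, nat_lit 3, nat_lit 2, nat_lit 8, nat_lit 3, nat_lit 11, nat_lit 2, nat_lit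 10, nat_lit 1, nat_lit 16, nat_lit 14, nat_lit 16, nat_lit 8, nat_lit 19] (Rl.cmp (nat_lit 3047) (nat_lit 5093)))) (FT.leaf (Fct.mk false (nat_lit 33) (nat_lit 0) (nat_lit 33) [nat_lit 4, nat_lit 2, nat_lit 3, nat_lit 8, nat_lit 1, nat_lit 2, nat_lit 3, nat_lit 4, nat_lit 5, nat_lit 6, nat_lit 7, nat_lit 2, nat_lit 3, nat_lit 8, nat_lit 0, nat_lit 1, nat_lit 2, nat_lit 3, nat_lit 4, nat_lit 5, nat_lit 3, nat_lit 2, nat_lit 1, nat_lit 9, nat_lit 4, nat_lit 3, nat_lit 2, nat_lit 8, nat_lit 3, nat_lit 14, nat_lit 8, nat_lit 18] (Rl.cmp (nat_lit 4456) (nat_lit 4456)))))) (FT.node (nat_lit 5098) (FT.node (nat_lit 5097) (FT.leaf (Fct.mk false (nat_lit 33) (nat_lit 0) (nat_lit 33) [nat_lit 8, nat_lit 7, nat_lit 6, nat_lit 5, nat_lit 2, nat_lit 3, nat_lit 4, nat_lit 1, nat_lit 2, nat_lit 3, nat_lit 8, nat_lit 0, nat_lit 1, nat_lit 2, nat_lit 3, nat_lit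 4, nat_lit 5, nat_lit 6, nat_lit 7, nat_lit 2, nat_lit 3, nat_lit 8, nat_lit 6, nat_lit 4, nat_lit 5, nat_lit 3, nat_lit 4, nat_lit 2, nat_lit 3, nat_lit 8, nat_lit 1, nat_lit 2, nat_lit 3, nat_lit 4, nat_lit 5, nat_lit 1, nat_lit 2, nat_lit 0, nat_lit 1, nat_lit 3, nat_lit 2, nat_lit 8, nat_lit 3, nat_lit 10, nat_lit 9, nat_lit 2, nat_lit 15, nat_lit 13, nat_lit 19] (Rl.cmp (nat_lit 4605) (nat_lit 5095)))) (FT.leaf (Fct.mk false (nat_lit 33) (nat_lit 0) (nat_lit 33) [nat_lit 4, nat_lit 5, nat_lit 3, nat_lit 4, nat_lit 2, nat_lit 3, nat_lit 8, nat_lit 0, nat_lit 1, nat_lit 2, nat_lit 3, nat_lit 4, nat_lit 5, nat_lit 6, nat_lit 7, nat_lit 3, nat_lit 4, nat_lit 2, nat_lit 3, nat_lit 8, nat_lit 5, nat_lit 6, nat_lit 4, nat_lit 5, nat_lit 3, nat_lit 4, nat_lit 2, nat_lit 3, nat_lit 8, nat_lit 1, nat_lit 2, nat_lit 3, nat_lit 4, nat_lit 5, nat_lit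 8, nat_lit 4, nat_lit 3, nat_lit 2, nat_lit 0, nat_lit 1, nat_lit 9, nat_lit 4, nat_lit 3, nat_lit 2, nat_lit 8, nat_lit 3, nat_lit 11, nat_lit 8, nat_lit 10, nat_lit 14] (Rl.cmp (nat_lit 4400) (nat_lit 5096))))) (FT.node (nat_lit 5099) (FT.leaf (Fct.mk false (nat_lit 33) (nat_lit 0) (nat_lit 33) [nat_lit 5, nat_lit 2, nat_lit 3, nat_lit 4, nat_lit 1, nat_lit 2, nat_lit 3, nat_lit 8, nat_lit 0, nat_lit 1, nat_lit 2, nat_lit 3, nat_lit 4, nat_lit 5, nat_lit 6, nat_lit 7, nat_lit 8, nat_lit 5, nat_lit 3, nat_lit 4, nat_lit 1, nat_lit 2, nat_lit 3, nat_lit 8, nat_lit 0, nat_lit 1, nat_lit 2, nat_lit 3, nat_lit 4, nat_lit 5, nat_lit 2, nat_lit 0, nat_lit 1, nat_lit 3, nat_lit 2, nat_lit 8, nat_lit 3, nat_lit 10, nat_lit 9, nat_lit 2, nat_lit 12, nat_lit 15, nat_lit 14, nat_lit 17, nat_lit 16] (Rl.cmp (nat_lit 4402) (nat_lit 5097)))) (FT.leaf (Fct.mk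 true (nat_lit 32) (nat_lit 69414) (nat_lit 33) [nat_lit 4, nat_lit 3, nat_lit 8, nat_lit 5, nat_lit 6, nat_lit 4, nat_lit 5, nat_lit 3, nat_lit 4, nat_lit 2, nat_lit 3, nat_lit 8, nat_lit 0, nat_lit 1, nat_lit 2, nat_lit 3, nat_lit 4, nat_lit 5, nat_lit 6, nat_lit 7, nat_lit 1, nat_lit 2, nat_lit 3, nat_lit 4, nat_lit 5, nat_lit 2, nat_lit 1, nat_lit 3, nat_lit 2, nat_lit 0, nat_lit 1, nat_lit 9, nat_lit 4, nat_lit 3, nat_lit 2, nat_lit 8, nat_lit 3, nat_lit 1, nat_lit 15, nat_lit 12, nat_lit 16] (Rl.rel (nat_lit 0) [nat_lit 8, nat_lit 3, nat_lit 4, nat_lit 2, nat_lit 3, nat_lit 8, nat_lit 1, nat_lit 2, nat_lit 3, nat_lit 4, nat_lit 5, nat_lit 0, nat_lit 1, nat_lit 2, nat_lit 3, nat_lit 2, nat_lit 12, nat_lit 15, nat_lit 14, nat_lit 19] (nat_lit 33) (nat_lit 2) [nat_lit 4827, nat_lit 5094, nat_lit 3670] []))))))))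

/-- some facts -/
noncomputable def ftc102 : FT := FT.node (nat_lit 5125) (FT.node (nat_lit 5112) (FT.node (nat_lit 5106) (FT.node (nat_lit 5103) (FT.node (nat_lit 5101) (FT.leaf (Fct.mk true (nat_lit 32) (nat_lit 2249) (nat_lit 33) [nat_lit 5, nat_lit 6, nat_lit 7, nat_lit 4, nat_lit 5, nat_lit 2, nat_lit 3, nat_lit 4, nat_lit 1, nat_lit 2, nat_lit 3, nat_lit 8, nat_lit 0, nat_lit 1, nat_lit 2, nat_lit 3, nat_lit 4, nat_lit 5, nat_lit 0, nat_lit 1, nat_lit 9, nat_lit 4, nat_lit 3, nat_lit 2, nat_lit 8, nat_lit 3, nat_lit 11, nat_lit 8, nat_lit 10, nat_lit 1, nat_lit 14, nat_lit 12] (Rl.t1 (nat_lit 5099) (nat_lit 4314)))) (FT.node (nat_lit 5102) (FT.leaf (Fct.mk true (nat_lit 33) (nat_lit 8251) (nat_lit 32) [nat_lit 3, nat_lit 4, nat_lit 2, nat_lit 3, nat_lit 8, nat_lit 1, nat_lit 2, nat_lit 3, nat_lit 4, nat_lit 5, nat_lit 6, nat_lit 7, nat_lit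 4, nat_lit 5, nat_lit 3, nat_lit 4, nat_lit 2, nat_lit 3, nat_lit 8, nat_lit 1, nat_lit 2, nat_lit 3, nat_lit 4, nat_lit 5, nat_lit 2, nat_lit 1, nat_lit 8, nat_lit 3, nat_lit 2, nat_lit 0, nat_lit 1, nat_lit 4, nat_lit 3, nat_lit 2, nat_lit 8, nat_lit 3, nat_lit 1, nat_lit 9, nat_lit 15, nat_lit 8, nat_lit 16] (Rl.inv (nat_lit 5100)))) (FT.leaf (Fct.mk true (nat_lit 33) (nat_lit 182) (nat_lit 32) [nat_lit 8, nat_lit 5, nat_lit 3, nat_lit 4, nat_lit 2, nat_lit 3, nat_lit 8, nat_lit 6, nat_lit 7, nat_lit 5, nat_lit 6, nat_lit 4, nat_lit 5, nat_lit 3, nat_lit 4, nat_lit 2, nat_lit 3, nat_lit 8, nat_lit 0, nat_lit 1, nat_lit 2, nat_lit 3, nat_lit 4, nat_lit 5, nat_lit 6, nat_lit 7, nat_lit 6, nat_lit 4, nat_lit 5, nat_lit 2, nat_lit 3, nat_lit 4, nat_lit 1, nat_lit 2, nat_lit 3, nat_lit 8, nat_lit 0, nat_lit 1, nat_lit 2, nat_lit 3, nat_lit 4,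 nat_lit 5, nat_lit 3, nat_lit 2, nat_lit 1, nat_lit 4, nat_lit 3, nat_lit 2, nat_lit 8, nat_lit 3, nat_lit 9, nat_lit 10, nat_lit 2, nat_lit 8, nat_lit 10, nat_lit 1, nat_lit 14, nat_lit 19] (Rl.t1 (nat_lit 5101) (nat_lit 5098)))))) (FT.node (nat_lit 5104) (FT.leaf (Fct.mk false (nat_lit 32) (nat_lit 0) (nat_lit 32) [nat_lit 5, nat_lit 4, nat_lit 3, nat_lit 8, nat_lit 2, nat_lit 3, nat_lit 4, nat_lit 5, nat_lit 4, nat_lit 3, nat_lit 2, nat_lit 8, nat_lit 3, nat_lit 11, nat_lit 2, nat_lit 13, nat_lit 19] (Rl.cmp (nat_lit 3047) (nat_lit 3010)))) (FT.node (nat_lit 5105) (FT.leaf (Fct.mk false (nat_lit 32) (nat_lit 0) (nat_lit 32) [nat_lit 5, nat_lit 6, nat_lit 4, nat_lit 5, nat_lit 3, nat_lit 4, nat_lit 2, nat_lit 3, nat_lit 8, nat_lit 1, nat_lit 2, nat_lit 3, nat_lit 4, nat_lit 5, nat_lit 2, nat_lit 1, nat_lit 8, nat_lit 3, nat_lit 2, nat_lit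 0, nat_lit 1, nat_lit 9, nat_lit 4, nat_lit 3, nat_lit 2, nat_lit 8, nat_lit 3, nat_lit 12, nat_lit 15, nat_lit 14, nat_lit 17, nat_lit 16] (Rl.cmp (nat_lit 3004) (nat_lit 5103)))) (FT.leaf (Fct.mk false (nat_lit 32) (nat_lit 0) (nat_lit 32) [nat_lit 8, nat_lit 3, nat_lit 4, nat_lit 1, nat_lit 2, nat_lit 3, nat_lit 8, nat_lit 5, nat_lit 6, nat_lit 4, nat_lit 5, nat_lit 3, nat_lit 4, nat_lit 2, nat_lit 3, nat_lit 8, nat_lit 1, nat_lit 2, nat_lit 3, nat_lit 4, nat_lit 5, nat_lit 3, nat_lit 2, nat_lit 1, nat_lit 4, nat_lit 3, nat_lit 2, nat_lit 0, nat_lit 1, nat_lit 9, nat_lit 4, nat_lit 3, nat_lit 2, nat_lit 8, nat_lit 3, nat_lit 16, nat_lit 15, nat_lit 14, nat_lit 16, nat_lit 8, nat_lit 19, nat_lit 16] (Rl.cmp (nat_lit 3010) (nat_lit 5104))))))) (FT.node (nat_lit 5109) (FT.node (nat_lit 5107) (FT.leaf (Fct.mk false (nat_lit 32) (nat_lit 0) (nat_lit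 32) [nat_lit 2, nat_lit 3, nat_lit 8, nat_lit 6, nat_lit 4, nat_lit 5, nat_lit 3, nat_lit 4, nat_lit 2, nat_lit 3, nat_lit 8, nat_lit 1, nat_lit 2, nat_lit 3, nat_lit 4, nat_lit 5, nat_lit 2, nat_lit 1, nat_lit 8, nat_lit 3, nat_lit 2, nat_lit 0, nat_lit 1, nat_lit 9, nat_lit 4, nat_lit 3, nat_lit 2, nat_lit 8, nat_lit 3, nat_lit 11, nat_lit 16, nat_lit 14, nat_lit 8, nat_lit 19, nat_lit 16] (Rl.cmp (nat_lit 3010) (nat_lit 5105)))) (FT.node (nat_lit 5108) (FT.leaf (Fct.mk false (nat_lit 33) (nat_lit 0) (nat_lit 33) [nat_lit 4, nat_lit 2, nat_lit 3, nat_lit 8, nat_lit 1, nat_lit 2, nat_lit 3, nat_lit 4, nat_lit 5, nat_lit 6, nat_lit 7, nat_lit 5, nat_lit 10, nat_lit 0, nat_lit 16, nat_lit 14, nat_lit 12, nat_lit 18] (Rl.cmp (nat_lit 4400) (nat_lit 4456)))) (FT.leaf (Fct.mk false (nat_lit 33) (nat_lit 0) (nat_lit 33) [nat_lit 8, nat_lit 7, nat_lit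 6, nat_lit 5, nat_lit 2, nat_lit 3, nat_lit 4, nat_lit 1, nat_lit 2, nat_lit 3, nat_lit 8, nat_lit 0, nat_lit 1, nat_lit 2, nat_lit 3, nat_lit 4, nat_lit 5, nat_lit 6, nat_lit 7, nat_lit 6, nat_lit 5, nat_lit 3, nat_lit 4, nat_lit 1, nat_lit 2, nat_lit 3, nat_lit 8, nat_lit 0, nat_lit 1, nat_lit 2, nat_lit 3, nat_lit 4, nat_lit 5, nat_lit 1, nat_lit 2, nat_lit 3, nat_lit 11, nat_lit 10, nat_lit 8, nat_lit 12, nat_lit 15, nat_lit 19, nat_lit 16] (Rl.cmp (nat_lit 4605) (nat_lit 5107)))))) (FT.node (nat_lit 5110) (FT.leaf (Fct.mk false (nat_lit 33) (nat_lit 0) (nat_lit 33) [nat_lit 4, nat_lit 5, nat_lit 3, nat_lit 4, nat_lit 2, nat_lit 3, nat_lit 8, nat_lit 0, nat_lit 1, nat_lit 2, nat_lit 3, nat_lit 4, nat_lit 5, nat_lit 6, nat_lit 7, nat_lit 5, nat_lit 4, nat_lit 3, nat_lit 8, nat_lit 2, nat_lit 3, nat_lit 4, nat_lit 5, nat_lit 0, nat_lit 1,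 nat_lit 9, nat_lit 4, nat_lit 3, nat_lit 2, nat_lit 8, nat_lit 3, nat_lit 8, nat_lit 10, nat_lit 1, nat_lit 15, nat_lit 14, nat_lit 17, nat_lit 12] (Rl.cmp (nat_lit 4400) (nat_lit 5108)))) (FT.node (nat_lit 5111) (FT.leaf (Fct.mk false (nat_lit 33) (nat_lit 0) (nat_lit 33) [nat_lit 5, nat_lit 2, nat_lit 3, nat_lit 4, nat_lit 1, nat_lit 2, nat_lit 3, nat_lit 8, nat_lit 0, nat_lit 1, nat_lit 2, nat_lit 3, nat_lit 4, nat_lit 5, nat_lit 6, nat_lit 7, nat_lit 5, nat_lit 4, nat_lit 3, nat_lit 8, nat_lit 1, nat_lit 2, nat_lit 3, nat_lit 4, nat_lit 5, nat_lit 1, nat_lit 2, nat_lit 3, nat_lit 10, nat_lit 9, nat_lit 2, nat_lit 12, nat_lit 15, nat_lit 14, nat_lit 17] (Rl.cmp (nat_lit 4402) (nat_lit 5109)))) (FT.leaf (Fct.mk true (nat_lit 32) (nat_lit 43494) (nat_lit 33) [nat_lit 2, nat_lit 3, nat_lit 8, nat_lit 1, nat_lit 2, nat_lit 3, nat_lit 4, nat_lit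 5, nat_lit 6, nat_lit 7, nat_lit 3, nat_lit 4, nat_lit 2, nat_lit 3, nat_lit 8, nat_lit 1, nat_lit 2, nat_lit 3, nat_lit 4, nat_lit 5, nat_lit 9, nat_lit 4, nat_lit 3, nat_lit 2, nat_lit 8, nat_lit 3, nat_lit 0, nat_lit 2, nat_lit 16, nat_lit 14, nat_lit 19] (Rl.rel (nat_lit 0) [nat_lit 8, nat_lit 3, nat_lit 4, nat_lit 2, nat_lit 3, nat_lit 8, nat_lit 1, nat_lit 2, nat_lit 3, nat_lit 4, nat_lit 5, nat_lit 2, nat_lit 3, nat_lit 11, nat_lit 10, nat_lit 15, nat_lit 14, nat_lit 13, nat_lit 19] (nat_lit 33) (nat_lit 2) [nat_lit 4827, nat_lit 5106, nat_lit 3852] []))))))) (FT.node (nat_lit 5118) (FT.node (nat_lit 5115) (FT.node (nat_lit 5113) (FT.leaf (Fct.mk true (nat_lit 32) (nat_lit 572) (nat_lit 33) [nat_lit 8, nat_lit 6, nat_lit 5, nat_lit 3, nat_lit 4, nat_lit 2, nat_lit 3, nat_lit 8, nat_lit 0, nat_lit 1, nat_lit 2, nat_lit 3, nat_lit 4, nat_lit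 5, nat_lit 6, nat_lit 7, nat_lit 3, nat_lit 8, nat_lit 5, nat_lit 6, nat_lit 4, nat_lit 5, nat_lit 3, nat_lit 4, nat_lit 1, nat_lit 2, nat_lit 3, nat_lit 8, nat_lit 0, nat_lit 1, nat_lit 2, nat_lit 3, nat_lit 4, nat_lit 5, nat_lit 2, nat_lit 0, nat_lit 1, nat_lit 3, nat_lit 2, nat_lit 8, nat_lit 3, nat_lit 2, nat_lit 8, nat_lit 10, nat_lit 1, nat_lit 17, nat_lit 18] (Rl.t1 (nat_lit 5111) (nat_lit 4202)))) (FT.node (nat_lit 5114) (FT.leaf (Fct.mk true (nat_lit 33) (nat_lit 5191) (nat_lit 32) [nat_lit 3, nat_lit 8, nat_lit 4, nat_lit 5, nat_lit 3, nat_lit 4, nat_lit 2, nat_lit 3, nat_lit 8, nat_lit 1, nat_lit 2, nat_lit 3, nat_lit 4, nat_lit 5, nat_lit 6, nat_lit 7, nat_lit 3, nat_lit 4, nat_lit 2, nat_lit 3, nat_lit 8, nat_lit 0, nat_lit 1, nat_lit 2, nat_lit 3, nat_lit 4, nat_lit 5, nat_lit 3, nat_lit 2, nat_lit 1, nat_lit 9, nat_lit 4, nat_lit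 3, nat_lit 2, nat_lit 8, nat_lit 3, nat_lit 2, nat_lit 8, nat_lit 10, nat_lit 1, nat_lit 15, nat_lit 17, nat_lit 12, nat_lit 19] (Rl.inv (nat_lit 5112)))) (FT.leaf (Fct.mk true (nat_lit 33) (nat_lit 68) (nat_lit 32) [nat_lit 3, nat_lit 4, nat_lit 2, nat_lit 3, nat_lit 8, nat_lit 5, nat_lit 6, nat_lit 4, nat_lit 5, nat_lit 3, nat_lit 4, nat_lit 2, nat_lit 3, nat_lit 8, nat_lit 1, nat_lit 2, nat_lit 3, nat_lit 4, nat_lit 5, nat_lit 6, nat_lit 7, nat_lit 3, nat_lit 4, nat_lit 2, nat_lit 3, nat_lit 8, nat_lit 0, nat_lit 1, nat_lit 2, nat_lit 3, nat_lit 4, nat_lit 5, nat_lit 4, nat_lit 3, nat_lit 2, nat_lit 1, nat_lit 8, nat_lit 3, nat_lit 2, nat_lit 0, nat_lit 1, nat_lit 4, nat_lit 3, nat_lit 2, nat_lit 8, nat_lit 3, nat_lit 11, nat_lit 10, nat_lit 2, nat_lit 8, nat_lit 10, nat_lit 1, nat_lit 15, nat_lit 16, nat_lit 8, nat_lit 18] (Rl.t1 (nat_lit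 5113) (nat_lit 5110)))))) (FT.node (nat_lit 5116) (FT.leaf (Fct.mk false (nat_lit 32) (nat_lit 0) (nat_lit 32) [nat_lit 8, nat_lit 2, nat_lit 3, nat_lit 4, nat_lit 5, nat_lit 1, nat_lit 2, nat_lit 0, nat_lit 1, nat_lit 9, nat_lit 4, nat_lit 3, nat_lit 2, nat_lit 8, nat_lit 3, nat_lit 11, nat_lit 8, nat_lit 10, nat_lit 8, nat_lit 16, nat_lit 14, nat_lit 13, nat_lit 12, nat_lit 16] (Rl.cmp (nat_lit 3010) (nat_lit 4166)))) (FT.node (nat_lit 5117) (FT.leaf (Fct.mk false (nat_lit 32) (nat_lit 0) (nat_lit 32) [nat_lit 2, nat_lit 3, nat_lit 4, nat_lit 5, nat_lit 2, nat_lit 1, nat_lit 4, nat_lit 3, nat_lit 2, nat_lit 0, nat_lit 1, nat_lit 9, nat_lit 4, nat_lit 3, nat_lit 2, nat_lit 8, nat_lit 3, nat_lit 1, nat_lit 0, nat_lit 2, nat_lit 15, nat_lit 13, nat_lit 19] (Rl.cmp (nat_lit 3004) (nat_lit 5115)))) (FT.leaf (Fct.mk false (nat_lit 33) (nat_lit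 0) (nat_lit 33) [nat_lit 4, nat_lit 2, nat_lit 3, nat_lit 8, nat_lit 1, nat_lit 2, nat_lit 3, nat_lit 4, nat_lit 5, nat_lit 6, nat_lit 7, nat_lit 2, nat_lit 3, nat_lit 8, nat_lit 0, nat_lit 1, nat_lit 2, nat_lit 3, nat_lit 4, nat_lit 5, nat_lit 3, nat_lit 2, nat_lit 1, nat_lit 9, nat_lit 4, nat_lit 3, nat_lit 2, nat_lit 8, nat_lit 3, nat_lit 14, nat_lit 8, nat_lit 18] (Rl.cmp (nat_lit 4456) (nat_lit 4456))))))) (FT.node (nat_lit 5121) (FT.node (nat_lit 5119) (FT.leaf (Fct.mk false (nat_lit 33) (nat_lit 0) (nat_lit 33) [nat_lit 4, nat_lit 3, nat_lit 8, nat_lit 7, nat_lit 5, nat_lit 6, nat_lit 4, nat_lit 5, nat_lit 3, nat_lit 4, nat_lit 2, nat_lit 3, nat_lit 8, nat_lit 1, nat_lit 2, nat_lit 3, nat_lit 4, nat_lit 5, nat_lit 6, nat_lit 7, nat_lit 3, nat_lit 4, nat_lit 2, nat_lit 3, nat_lit 8, nat_lit 0, nat_lit 1, nat_lit 2, nat_lit 3, nat_lit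 4, nat_lit 5, nat_lit 1, nat_lit 2, nat_lit 0, nat_lit 1, nat_lit 3, nat_lit 2, nat_lit 8, nat_lit 3, nat_lit 0, nat_lit 12, nat_lit 15, nat_lit 12] (Rl.cmp (nat_lit 4400) (nat_lit 5117)))) (FT.node (nat_lit 5120) (FT.leaf (Fct.mk false (nat_lit 33) (nat_lit 0) (nat_lit 33) [nat_lit 5, nat_lit 2, nat_lit 3, nat_lit 4, nat_lit 1, nat_lit 2, nat_lit 3, nat_lit 8, nat_lit 0, nat_lit 1, nat_lit 2, nat_lit 3, nat_lit 4, nat_lit 5, nat_lit 6, nat_lit 7, nat_lit 2, nat_lit 3, nat_lit 8, nat_lit 6, nat_lit 4, nat_lit 5, nat_lit 3, nat_lit 4, nat_lit 2, nat_lit 3, nat_lit 8, nat_lit 0, nat_lit 1, nat_lit 2, nat_lit 3, nat_lit 4, nat_lit 5, nat_lit 3, nat_lit 8, nat_lit 4, nat_lit 3, nat_lit 2, nat_lit 1, nat_lit 9, nat_lit 4, nat_lit 3, nat_lit 2, nat_lit 8, nat_lit 3, nat_lit 10, nat_lit 2, nat_lit 8, nat_lit 10, nat_lit 1, nat_lit 12, nat_lit 15,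 nat_lit 16, nat_lit 8] (Rl.cmp (nat_lit 4605) (nat_lit 5118)))) (FT.leaf (Fct.mk false (nat_lit 33) (nat_lit 0) (nat_lit 33) [nat_lit 5, nat_lit 4, nat_lit 3, nat_lit 8, nat_lit 2, nat_lit 3, nat_lit 4, nat_lit 5, nat_lit 6, nat_lit 7, nat_lit 6, nat_lit 5, nat_lit 2, nat_lit 3, nat_lit 4, nat_lit 1, nat_lit 2, nat_lit 3, nat_lit 8, nat_lit 0, nat_lit 1, nat_lit 2, nat_lit 3, nat_lit 4, nat_lit 5, nat_lit 1, nat_lit 8, nat_lit 4, nat_lit 3, nat_lit 2, nat_lit 0, nat_lit 1, nat_lit 9, nat_lit 4, nat_lit 3, nat_lit 2, nat_lit 8, nat_lit 3, nat_lit 10, nat_lit 1, nat_lit 8, nat_lit 12, nat_lit 15, nat_lit 14, nat_lit 16, nat_lit 8] (Rl.cmp (nat_lit 4456) (nat_lit 5119)))))) (FT.node (nat_lit 5123) (FT.node (nat_lit 5122) (FT.leaf (Fct.mk false (nat_lit 33) (nat_lit 0) (nat_lit 33) [nat_lit 6, nat_lit 4, nat_lit 5, nat_lit 3, nat_lit 4, nat_lit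 2, nat_lit 3, nat_lit 8, nat_lit 1, nat_lit 2, nat_lit 3, nat_lit 4, nat_lit 5, nat_lit 6, nat_lit 7, nat_lit 2, nat_lit 3, nat_lit 8, nat_lit 6, nat_lit 4, nat_lit 5, nat_lit 3, nat_lit 4, nat_lit 2, nat_lit 3, nat_lit 8, nat_lit 0, nat_lit 1, nat_lit 2, nat_lit 3, nat_lit 4, nat_lit 5, nat_lit 2, nat_lit 3, nat_lit 8, nat_lit 4, nat_lit 3, nat_lit 2, nat_lit 1, nat_lit 9, nat_lit 4, nat_lit 3, nat_lit 2, nat_lit 8, nat_lit 3, nat_lit 2, nat_lit 15, nat_lit 14, nat_lit 12, nat_lit 19] (Rl.cmp (nat_lit 4402) (nat_lit 5120)))) (FT.leaf (Fct.mk false (nat_lit 33) (nat_lit 0) (nat_lit 33) [nat_lit 4, nat_lit 2, nat_lit 3, nat_lit 8, nat_lit 1, nat_lit 2, nat_lit 3, nat_lit 4, nat_lit 5, nat_lit 6, nat_lit 7, nat_lit 5, nat_lit 10, nat_lit 0, nat_lit 16, nat_lit 14, nat_lit 12, nat_lit 18] (Rl.cmp (nat_lit 4400) (nat_lit 4456))))) (FT.node (nat_lit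 5124) (FT.leaf (Fct.mk false (nat_lit 33) (nat_lit 0) (nat_lit 33) [nat_lit 8, nat_lit 7, nat_lit 6, nat_lit 5, nat_lit 2, nat_lit 3, nat_lit 4, nat_lit 1, nat_lit 2, nat_lit 3, nat_lit 8, nat_lit 0, nat_lit 1, nat_lit 2, nat_lit 3, nat_lit 4, nat_lit 5, nat_lit 6, nat_lit 7, nat_lit 6, nat_lit 5, nat_lit 3, nat_lit 4, nat_lit 1, nat_lit 2, nat_lit 3, nat_lit 8, nat_lit 0, nat_lit 1, nat_lit 2, nat_lit 3, nat_lit 4, nat_lit 5, nat_lit 1, nat_lit 2, nat_lit 3, nat_lit 11, nat_lit 10, nat_lit 8, nat_lit 12, nat_lit 15, nat_lit 19, nat_lit 16] (Rl.cmp (nat_lit 4605) (nat_lit 5122)))) (FT.leaf (Fct.mk false (nat_lit 33) (nat_lit 0) (nat_lit 33) [nat_lit 4, nat_lit 5, nat_lit 3, nat_lit 4, nat_lit 2, nat_lit 3, nat_lit 8, nat_lit 0, nat_lit 1, nat_lit 2, nat_lit 3, nat_lit 4, nat_lit 5, nat_lit 6, nat_lit 7, nat_lit 5, nat_lit 4, nat_lit 3, nat_lit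 8, nat_lit 2, nat_lit 3, nat_lit 4, nat_lit 5, nat_lit 0, nat_lit 1, nat_lit 9, nat_lit 4, nat_lit 3, nat_lit 2, nat_lit 8, nat_lit 3, nat_lit 8, nat_lit 10, nat_lit 1, nat_lit 15, nat_lit 14, nat_lit 17, nat_lit 12] (Rl.cmp (nat_lit 4400) (nat_lit 5123))))))))) (FT.node (nat_lit 5137) (FT.node (nat_lit 5131) (FT.node (nat_lit 5128) (FT.node (nat_lit 5126) (FT.leaf (Fct.mk false (nat_lit 33) (nat_lit 0) (nat_lit 33) [nat_lit 5, nat_lit 2, nat_lit 3, nat_lit 4, nat_lit 1, nat_lit 2, nat_lit 3, nat_lit 8, nat_lit 0, nat_lit 1, nat_lit 2, nat_lit 3, nat_lit 4, nat_lit 5, nat_lit 6, nat_lit 7, nat_lit 5, nat_lit 4, nat_lit 3, nat_lit 8, nat_lit 1, nat_lit 2, nat_lit 3, nat_lit 4, nat_lit 5, nat_lit 1, nat_lit 2, nat_lit 3, nat_lit 10, nat_lit 9, nat_lit 2, nat_lit 12, nat_lit 15, nat_lit 14, nat_lit 17] (Rl.cmp (nat_lit 4402) (nat_lit 5124))))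 (FT.node (nat_lit 5127) (FT.leaf (Fct.mk false (nat_lit 33) (nat_lit 0) (nat_lit 33) [nat_lit 5, nat_lit 4, nat_lit 3, nat_lit 8, nat_lit 2, nat_lit 3, nat_lit 4, nat_lit 5, nat_lit 6, nat_lit 7, nat_lit 4, nat_lit 3, nat_lit 8, nat_lit 5, nat_lit 6, nat_lit 4, nat_lit 5, nat_lit 3, nat_lit 4, nat_lit 2, nat_lit 3, nat_lit 8, nat_lit 1, nat_lit 2, nat_lit 3, nat_lit 4, nat_lit 5, nat_lit 2, nat_lit 1, nat_lit 3, nat_lit 2, nat_lit 8, nat_lit 3, nat_lit 1, nat_lit 15, nat_lit 14, nat_lit 13, nat_lit 19, nat_lit 16] (Rl.cmp (nat_lit 4456) (nat_lit 5125)))) (FT.leaf (Fct.mk false (nat_lit 33) (nat_lit 0) (nat_lit 33) [nat_lit 6, nat_lit 4, nat_lit 5, nat_lit 3, nat_lit 4, nat_lit 2, nat_lit 3, nat_lit 8, nat_lit 1, nat_lit 2, nat_lit 3, nat_lit 4, nat_lit 5, nat_lit 6, nat_lit 7, nat_lit 5, nat_lit 4, nat_lit 3, nat_lit 8, nat_lit 2, nat_lit 3,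 nat_lit 4, nat_lit 5, nat_lit 9, nat_lit 4, nat_lit 2, nat_lit 10, nat_lit 1, nat_lit 15, nat_lit 14, nat_lit 17] (Rl.cmp (nat_lit 4402) (nat_lit 5126)))))) (FT.node (nat_lit 5129) (FT.leaf (Fct.mk true (nat_lit 32) (nat_lit 23728) (nat_lit 33) [nat_lit 7, nat_lit 8, nat_lit 4, nat_lit 5, nat_lit 3, nat_lit 4, nat_lit 2, nat_lit 3, nat_lit 8, nat_lit 0, nat_lit 1, nat_lit 2, nat_lit 3, nat_lit 4, nat_lit 5, nat_lit 2, nat_lit 0, nat_lit 1, nat_lit 3, nat_lit 2, nat_lit 8, nat_lit 3, nat_lit 9, nat_lit 8, nat_lit 16, nat_lit 14, nat_lit 16, nat_lit 8, nat_lit 19] (Rl.rel (nat_lit 0) [nat_lit 8, nat_lit 3, nat_lit 4, nat_lit 5, nat_lit 6, nat_lit 7, nat_lit 2, nat_lit 3, nat_lit 8, nat_lit 1, nat_lit 2, nat_lit 3, nat_lit 4, nat_lit 5, nat_lit 2, nat_lit 3, nat_lit 0, nat_lit 15, nat_lit 14, nat_lit 19] (nat_lit 33) (nat_lit 1) [nat_lit 4827]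 [nat_lit 5121, nat_lit 5025]))) (FT.node (nat_lit 5130) (FT.leaf (Fct.mk true (nat_lit 32) (nat_lit 519) (nat_lit 33) [nat_lit 3, nat_lit 8, nat_lit 6, nat_lit 4, nat_lit 5, nat_lit 3, nat_lit 4, nat_lit 2, nat_lit 3, nat_lit 8, nat_lit 1, nat_lit 2, nat_lit 3, nat_lit 4, nat_lit 5, nat_lit 6, nat_lit 7, nat_lit 4, nat_lit 5, nat_lit 2, nat_lit 3, nat_lit 4, nat_lit 1, nat_lit 2, nat_lit 3, nat_lit 8, nat_lit 0, nat_lit 1, nat_lit 2, nat_lit 3, nat_lit 4, nat_lit 5, nat_lit 2, nat_lit 1, nat_lit 4, nat_lit 3, nat_lit 2, nat_lit 8, nat_lit 3, nat_lit 9, nat_lit 8, nat_lit 16, nat_lit 15, nat_lit 14, nat_lit 8, nat_lit 18, nat_lit 16] (Rl.t1 (nat_lit 5128) (nat_lit 5116)))) (FT.leaf (Fct.mk true (nat_lit 33) (nat_lit 15050) (nat_lit 32) [nat_lit 6, nat_lit 5, nat_lit 4, nat_lit 3, nat_lit 8, nat_lit 2, nat_lit 3, nat_lit 4, nat_lit 5, nat_lit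 6, nat_lit 7, nat_lit 8, nat_lit 5, nat_lit 3, nat_lit 4, nat_lit 2, nat_lit 3, nat_lit 8, nat_lit 0, nat_lit 1, nat_lit 2, nat_lit 3, nat_lit 4, nat_lit 5, nat_lit 2, nat_lit 1, nat_lit 9, nat_lit 4, nat_lit 3, nat_lit 2, nat_lit 8, nat_lit 3, nat_lit 11, nat_lit 2, nat_lit 8, nat_lit 10, nat_lit 1, nat_lit 16, nat_lit 14, nat_lit 8, nat_lit 18, nat_lit 16] (Rl.inv (nat_lit 5129))))))) (FT.node (nat_lit 5134) (FT.node (nat_lit 5132) (FT.leaf (Fct.mk true (nat_lit 33) (nat_lit 125) (nat_lit 32) [nat_lit 4, nat_lit 5, nat_lit 3, nat_lit 4, nat_lit 1, nat_lit 2, nat_lit 3, nat_lit 8, nat_lit 0, nat_lit 1, nat_lit 2, nat_lit 3, nat_lit 4, nat_lit 5, nat_lit 6, nat_lit 7, nat_lit 1, nat_lit 2, nat_lit 3, nat_lit 8, nat_lit 0, nat_lit 1, nat_lit 2, nat_lit 3, nat_lit 4, nat_lit 5, nat_lit 1, nat_lit 3, nat_lit 2, nat_lit 8, nat_lit 3, nat_lit 10,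 nat_lit 1, nat_lit 8, nat_lit 16, nat_lit 14, nat_lit 8, nat_lit 19] (Rl.t1 (nat_lit 5130) (nat_lit 5127)))) (FT.node (nat_lit 5133) (FT.leaf (Fct.mk false (nat_lit 32) (nat_lit 0) (nat_lit 32) [nat_lit 2, nat_lit 3, nat_lit 8, nat_lit 6, nat_lit 4, nat_lit 5, nat_lit 3, nat_lit 4, nat_lit 2, nat_lit 3, nat_lit 8, nat_lit 1, nat_lit 2, nat_lit 3, nat_lit 4, nat_lit 5, nat_lit 2, nat_lit 1, nat_lit 8, nat_lit 3, nat_lit 2, nat_lit 0, nat_lit 1, nat_lit 9, nat_lit 4, nat_lit 3, nat_lit 2, nat_lit 8, nat_lit 3, nat_lit 10, nat_lit 1, nat_lit 16, nat_lit 14, nat_lit 13, nat_lit 12, nat_lit 19] (Rl.cmp (nat_lit 3004) (nat_lit 4292)))) (FT.leaf (Fct.mk false (nat_lit 33) (nat_lit 0) (nat_lit 33) [nat_lit 6, nat_lit 4, nat_lit 5, nat_lit 2, nat_lit 3, nat_lit 4, nat_lit 1, nat_lit 2, nat_lit 3, nat_lit 8, nat_lit 0, nat_lit 1, nat_lit 2, nat_lit 3,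 nat_lit 4, nat_lit 5, nat_lit 6, nat_lit 7, nat_lit 6, nat_lit 5, nat_lit 4, nat_lit 3, nat_lit 8, nat_lit 2, nat_lit 3, nat_lit 4, nat_lit 1, nat_lit 2, nat_lit 3, nat_lit 8, nat_lit 5, nat_lit 6, nat_lit 4, nat_lit 5, nat_lit 3, nat_lit 4, nat_lit 2, nat_lit 3, nat_lit 8, nat_lit 1, nat_lit 2, nat_lit 3, nat_lit 4, nat_lit 5, nat_lit 4, nat_lit 3, nat_lit 2, nat_lit 0, nat_lit 1, nat_lit 9, nat_lit 4, nat_lit 3, nat_lit 2, nat_lit 8, nat_lit 3, nat_lit 10, nat_lit 2, nat_lit 8, nat_lit 10, nat_lit 1, nat_lit 16, nat_lit 15, nat_lit 14, nat_lit 16, nat_lit 8, nat_lit 18] (Rl.cmp (nat_lit 4456) (nat_lit 4402)))))) (FT.node (nat_lit 5135) (FT.leaf (Fct.mk false (nat_lit 33) (nat_lit 0) (nat_lit 33) [nat_lit 3, nat_lit 8, nat_lit 2, nat_lit 3, nat_lit 4, nat_lit 1, nat_lit 2, nat_lit 3, nat_lit 8, nat_lit 5, nat_lit 6, nat_lit 4, nat_lit 5, nat_lit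 3, nat_lit 4, nat_lit 2, nat_lit 3, nat_lit 8, nat_lit 1, nat_lit 2, nat_lit 3, nat_lit 4, nat_lit 5, nat_lit 6, nat_lit 7, nat_lit 3, nat_lit 8, nat_lit 2, nat_lit 3, nat_lit 4, nat_lit 5, nat_lit 3, nat_lit 2, nat_lit 1, nat_lit 8, nat_lit 3, nat_lit 2, nat_lit 0, nat_lit 1, nat_lit 4, nat_lit 3, nat_lit 2, nat_lit 8, nat_lit 3, nat_lit 8, nat_lit 10, nat_lit 0, nat_lit 16, nat_lit 14, nat_lit 13, nat_lit 12, nat_lit 18] (Rl.cmp (nat_lit 4456) (nat_lit 5133)))) (FT.node (nat_lit 5136) (FT.leaf (Fct.mk false (nat_lit 33) (nat_lit 0) (nat_lit 33) [nat_lit 5, nat_lit 4, nat_lit 3, nat_lit 8, nat_lit 2, nat_lit 3, nat_lit 4, nat_lit 5, nat_lit 6, nat_lit 7, nat_lit 2, nat_lit 3, nat_lit 8, nat_lit 6, nat_lit 4, nat_lit 5, nat_lit 3, nat_lit 4, nat_lit 2, nat_lit 3, nat_lit 8, nat_lit 1, nat_lit 2, nat_lit 3, nat_lit 4, nat_lit 5, nat_lit 1, nat_lit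 8, nat_lit 3, nat_lit 2, nat_lit 0, nat_lit 1, nat_lit 9, nat_lit 4, nat_lit 3, nat_lit 2, nat_lit 8, nat_lit 3, nat_lit 8, nat_lit 10, nat_lit 1, nat_lit 8, nat_lit 12, nat_lit 15, nat_lit 14, nat_lit 16, nat_lit 8, nat_lit 18] (Rl.cmp (nat_lit 4402) (nat_lit 5134)))) (FT.leaf (Fct.mk false (nat_lit 33) (nat_lit 0) (nat_lit 33) [nat_lit 2, nat_lit 3, nat_lit 4, nat_lit 1, nat_lit 2, nat_lit 3, nat_lit 8, nat_lit 0, nat_lit 1, nat_lit 2, nat_lit 3, nat_lit 4, nat_lit 5, nat_lit 6, nat_lit 7, nat_lit 5, nat_lit 4, nat_lit 1, nat_lit 2, nat_lit 3, nat_lit 8, nat_lit 0, nat_lit 1, nat_lit 2, nat_lit 3, nat_lit 4, nat_lit 5, nat_lit 2, nat_lit 3, nat_lit 8, nat_lit 4, nat_lit 3, nat_lit 2, nat_lit 0, nat_lit 1, nat_lit 9, nat_lit 4, nat_lit 3, nat_lit 2, nat_lit 8, nat_lit 3, nat_lit 2, nat_lit 10, nat_lit 1, nat_lit 13, nat_lit 12, nat_lit 19,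 nat_lit 16] (Rl.cmp (nat_lit 4605) (nat_lit 5135)))))))) (FT.node (nat_lit 5143) (FT.node (nat_lit 5140) (FT.node (nat_lit 5138) (FT.leaf (Fct.mk false (nat_lit 33) (nat_lit 0) (nat_lit 33) [nat_lit 8, nat_lit 7, nat_lit 5, nat_lit 6, nat_lit 4, nat_lit 5, nat_lit 3, nat_lit 4, nat_lit 2, nat_lit 3, nat_lit 8, nat_lit 1, nat_lit 2, nat_lit 3, nat_lit 4, nat_lit 5, nat_lit 6, nat_lit 7, nat_lit 8, nat_lit 6, nat_lit 4, nat_lit 5, nat_lit 3, nat_lit 4, nat_lit 1, nat_lit 2, nat_lit 3, nat_lit 8, nat_lit 0, nat_lit 1, nat_lit 2, nat_lit 3, nat_lit 4, nat_lit 5, nat_lit 8, nat_lit 4, nat_lit 3, nat_lit 2, nat_lit 0, nat_lit 1, nat_lit 9, nat_lit 4, nat_lit 3, nat_lit 2, nat_lit 8, nat_lit 3, nat_lit 11, nat_lit 8, nat_lit 10, nat_lit 1, nat_lit 8, nat_lit 16, nat_lit 15, nat_lit 14, nat_lit 19] (Rl.cmp (nat_lit 4456) (nat_lit 5136)))) (FT.node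 (nat_lit 5139) (FT.leaf (Fct.mk false (nat_lit 33) (nat_lit 0) (nat_lit 33) [nat_lit 5, nat_lit 2, nat_lit 3, nat_lit 4, nat_lit 1, nat_lit 2, nat_lit 3, nat_lit 8, nat_lit 0, nat_lit 1, nat_lit 2, nat_lit 3, nat_lit 4, nat_lit 5, nat_lit 6, nat_lit 7, nat_lit 8, nat_lit 6, nat_lit 4, nat_lit 5, nat_lit 3, nat_lit 4, nat_lit 1, nat_lit 2, nat_lit 3, nat_lit 8, nat_lit 0, nat_lit 1, nat_lit 2, nat_lit 3, nat_lit 4, nat_lit 5, nat_lit 2, nat_lit 1, nat_lit 9, nat_lit 4, nat_lit 3, nat_lit 2, nat_lit 8, nat_lit 3, nat_lit 1, nat_lit 0, nat_lit 2, nat_lit 16, nat_lit 15, nat_lit 14, nat_lit 18, nat_lit 16] (Rl.cmp (nat_lit 4605) (nat_lit 4456)))) (FT.leaf (Fct.mk true (nat_lit 33) (nat_lit 24686) (nat_lit 33) [nat_lit 6, nat_lit 5, nat_lit 4, nat_lit 2, nat_lit 3, nat_lit 8, nat_lit 0, nat_lit 1, nat_lit 2, nat_lit 3, nat_lit 4, nat_lit 5, nat_lit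 6, nat_lit 7, nat_lit 4, nat_lit 1, nat_lit 2, nat_lit 3, nat_lit 8, nat_lit 0, nat_lit 1, nat_lit 2, nat_lit 3, nat_lit 4, nat_lit 5, nat_lit 0, nat_lit 1, nat_lit 2, nat_lit 3, nat_lit 11, nat_lit 2, nat_lit 10, nat_lit 1, nat_lit 15, nat_lit 17, nat_lit 12, nat_lit 16] (Rl.rel (nat_lit 0) [nat_lit 3, nat_lit 8, nat_lit 2, nat_lit 3, nat_lit 4, nat_lit 5, nat_lit 2, nat_lit 1, nat_lit 3, nat_lit 2, nat_lit 8, nat_lit 3, nat_lit 0, nat_lit 16, nat_lit 12, nat_lit 15, nat_lit 14, nat_lit 19] (nat_lit 33) (nat_lit 2) [nat_lit 4827, nat_lit 5132, nat_lit 4572] []))))) (FT.node (nat_lit 5141) (FT.leaf (Fct.mk true (nat_lit 33) (nat_lit 441) (nat_lit 33) [nat_lit 5, nat_lit 6, nat_lit 4, nat_lit 5, nat_lit 3, nat_lit 4, nat_lit 1, nat_lit 2, nat_lit 3, nat_lit 8, nat_lit 0, nat_lit 1, nat_lit 2, nat_lit 3, nat_lit 4, nat_lit 5, nat_lit 6, nat_lit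 7, nat_lit 5, nat_lit 6, nat_lit 4, nat_lit 5, nat_lit 3, nat_lit 4, nat_lit 2, nat_lit 3, nat_lit 8, nat_lit 0, nat_lit 1, nat_lit 2, nat_lit 3, nat_lit 4, nat_lit 5, nat_lit 1, nat_lit 3, nat_lit 2, nat_lit 0, nat_lit 1, nat_lit 4, nat_lit 3, nat_lit 2, nat_lit 8, nat_lit 3, nat_lit 0, nat_lit 2, nat_lit 16, nat_lit 12, nat_lit 15, nat_lit 14, nat_lit 17, nat_lit 12] (Rl.t1 (nat_lit 5139) (nat_lit 5137)))) (FT.node (nat_lit 5142) (FT.leaf (Fct.mk true (nat_lit 33) (nat_lit 9939) (nat_lit 33) [nat_lit 4, nat_lit 1, nat_lit 2, nat_lit 3, nat_lit 8, nat_lit 5, nat_lit 6, nat_lit 4, nat_lit 5, nat_lit 3, nat_lit 4, nat_lit 2, nat_lit 3, nat_lit 8, nat_lit 1, nat_lit 2, nat_lit 3, nat_lit 4, nat_lit 5, nat_lit 6, nat_lit 7, nat_lit 5, nat_lit 6, nat_lit 3, nat_lit 4, nat_lit 5, nat_lit 2, nat_lit 3, nat_lit 4, nat_lit 1, nat_lit 2, nat_lit 3,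 nat_lit 8, nat_lit 0, nat_lit 1, nat_lit 2, nat_lit 3, nat_lit 4, nat_lit 5, nat_lit 9, nat_lit 4, nat_lit 11, nat_lit 8, nat_lit 10, nat_lit 15, nat_lit 14, nat_lit 8, nat_lit 19, nat_lit 16] (Rl.inv (nat_lit 5140)))) (FT.leaf (Fct.mk true (nat_lit 33) (nat_lit 783) (nat_lit 33) [nat_lit 2, nat_lit 3, nat_lit 4, nat_lit 1, nat_lit 2, nat_lit 3, nat_lit 8, nat_lit 0, nat_lit 1, nat_lit 2, nat_lit 3, nat_lit 4, nat_lit 5, nat_lit 6, nat_lit 7, nat_lit 2, nat_lit 3, nat_lit 8, nat_lit 4, nat_lit 5, nat_lit 3, nat_lit 4, nat_lit 2, nat_lit 3, nat_lit 8, nat_lit 0, nat_lit 1, nat_lit 2, nat_lit 3, nat_lit 4, nat_lit 5, nat_lit 2, nat_lit 8, nat_lit 3, nat_lit 16, nat_lit 12, nat_lit 15, nat_lit 14, nat_lit 13, nat_lit 18] (Rl.t1 (nat_lit 5141) (nat_lit 5138))))))) (FT.node (nat_lit 5146) (FT.node (nat_lit 5144) (FT.leaf (Fct.mk false (nat_lit 32)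 (nat_lit 0) (nat_lit 32) [nat_lit 2, nat_lit 3, nat_lit 8, nat_lit 6, nat_lit 4, nat_lit 5, nat_lit 3, nat_lit 4, nat_lit 2, nat_lit 3, nat_lit 8, nat_lit 1, nat_lit 2, nat_lit 3, nat_lit 4, nat_lit 5, nat_lit 2, nat_lit 1, nat_lit 8, nat_lit 3, nat_lit 2, nat_lit 0, nat_lit 1, nat_lit 9, nat_lit 4, nat_lit 3, nat_lit 2, nat_lit 8, nat_lit 3, nat_lit 10, nat_lit 1, nat_lit 16, nat_lit 14, nat_lit 13, nat_lit 12, nat_lit 19] (Rl.cmp (nat_lit 3004) (nat_lit 4127)))) (FT.node (nat_lit 5145) (FT.leaf (Fct.mk false (nat_lit 33) (nat_lit 0) (nat_lit 33) [nat_lit 2, nat_lit 3, nat_lit 8, nat_lit 1, nat_lit 2, nat_lit 3, nat_lit 4, nat_lit 5, nat_lit 6, nat_lit 7, nat_lit 2, nat_lit 3, nat_lit 8, nat_lit 0, nat_lit 1, nat_lit 2, nat_lit 3, nat_lit 4, nat_lit 5, nat_lit 3, nat_lit 2, nat_lit 1, nat_lit 9, nat_lit 4, nat_lit 3, nat_lit 2, nat_lit 8,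 nat_lit 3, nat_lit 0, nat_lit 14, nat_lit 8, nat_lit 18] (Rl.cmp (nat_lit 4456) (nat_lit 4400)))) (FT.leaf (Fct.mk false (nat_lit 33) (nat_lit 0) (nat_lit 33) [nat_lit 5, nat_lit 4, nat_lit 2, nat_lit 3, nat_lit 8, nat_lit 6, nat_lit 7, nat_lit 5, nat_lit 6, nat_lit 4, nat_lit 5, nat_lit 3, nat_lit 4, nat_lit 2, nat_lit 3, nat_lit 8, nat_lit 1, nat_lit 2, nat_lit 3, nat_lit 4, nat_lit 5, nat_lit 6, nat_lit 7, nat_lit 3, nat_lit 8, nat_lit 6, nat_lit 4, nat_lit 5, nat_lit 3, nat_lit 4, nat_lit 2, nat_lit 3, nat_lit 8, nat_lit 1, nat_lit 2, nat_lit 3, nat_lit 4, nat_lit 5, nat_lit 2, nat_lit 3, nat_lit 8, nat_lit 4, nat_lit 3, nat_lit 2, nat_lit 1, nat_lit 9, nat_lit 4, nat_lit 3, nat_lit 2, nat_lit 8, nat_lit 3, nat_lit 11, nat_lit 12, nat_lit 16] (Rl.cmp (nat_lit 4605) (nat_lit 5144)))))) (FT.node (nat_lit 5148) (FT.node (nat_lit 5147) (FT.leaf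 (Fct.mk false (nat_lit 33) (nat_lit 0) (nat_lit 33) [nat_lit 3, nat_lit 4, nat_lit 5, nat_lit 2, nat_lit 3, nat_lit 4, nat_lit 1, nat_lit 2, nat_lit 3, nat_lit 8, nat_lit 6, nat_lit 7, nat_lit 5, nat_lit 6, nat_lit 4, nat_lit 5, nat_lit 3, nat_lit 4, nat_lit 2, nat_lit 3, nat_lit 8, nat_lit 1, nat_lit 2, nat_lit 3, nat_lit 4, nat_lit 5, nat_lit 6, nat_lit 7, nat_lit 8, nat_lit 6, nat_lit 4, nat_lit 5, nat_lit 3, nat_lit 4, nat_lit 2, nat_lit 3, nat_lit 8, nat_lit 1, nat_lit 2, nat_lit 3, nat_lit 4, nat_lit 5, nat_lit 3, nat_lit 2, nat_lit 1, nat_lit 9, nat_lit 4, nat_lit 3, nat_lit 2, nat_lit 8, nat_lit 3, nat_lit 8, nat_lit 10, nat_lit 0, nat_lit 12, nat_lit 15, nat_lit 13, nat_lit 12, nat_lit 18] (Rl.cmp (nat_lit 4400) (nat_lit 5145)))) (FT.leaf (Fct.mk false (nat_lit 33) (nat_lit 0) (nat_lit 33) [nat_lit 5, nat_lit 4, nat_lit 2, nat_lit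 3, nat_lit 8, nat_lit 6, nat_lit 7, nat_lit 5, nat_lit 6, nat_lit 4, nat_lit 5, nat_lit 3, nat_lit 4, nat_lit 2, nat_lit 3, nat_lit 8, nat_lit 1, nat_lit 2, nat_lit 3, nat_lit 4, nat_lit 5, nat_lit 6, nat_lit 7, nat_lit 8, nat_lit 3, nat_lit 4, nat_lit 1, nat_lit 2, nat_lit 3, nat_lit 8, nat_lit 5, nat_lit 6, nat_lit 4, nat_lit 5, nat_lit 3, nat_lit 4, nat_lit 2, nat_lit 3, nat_lit 8, nat_lit 1, nat_lit 2, nat_lit 3, nat_lit 4, nat_lit 5, nat_lit 2, nat_lit 1, nat_lit 3, nat_lit 2, nat_lit 0, nat_lit 1, nat_lit 9, nat_lit 4, nat_lit 3, nat_lit 2, nat_lit 8, nat_lit 3, nat_lit 9, nat_lit 2, nat_lit 8, nat_lit 16, nat_lit 14, nat_lit 16] (Rl.cmp (nat_lit 4456) (nat_lit 5146))))) (FT.node (nat_lit 5149) (FT.leaf (Fct.mk false (nat_lit 33) (nat_lit 0) (nat_lit 33) [nat_lit 4, nat_lit 3, nat_lit 8, nat_lit 2, nat_lit 3, nat_lit 4, nat_lit 5, nat_lit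 6, nat_lit 7, nat_lit 4, nat_lit 2, nat_lit 3, nat_lit 8, nat_lit 5, nat_lit 6, nat_lit 4, nat_lit 5, nat_lit 3, nat_lit 4, nat_lit 2, nat_lit 3, nat_lit 8, nat_lit 1, nat_lit 2, nat_lit 3, nat_lit 4, nat_lit 5, nat_lit 8, nat_lit 4, nat_lit 3, nat_lit 2, nat_lit 0, nat_lit 1, nat_lit 9, nat_lit 4, nat_lit 3, nat_lit 2, nat_lit 8, nat_lit 3, nat_lit 2, nat_lit 8, nat_lit 12, nat_lit 15, nat_lit 17, nat_lit 19] (Rl.cmp (nat_lit 4402) (nat_lit 5147)))) (FT.leaf (Fct.mk true (nat_lit 32) (nat_lit 7635) (nat_lit 33) [nat_lit 3, nat_lit 4, nat_lit 5, nat_lit 6, nat_lit 7, nat_lit 4, nat_lit 3, nat_lit 8, nat_lit 2, nat_lit 3, nat_lit 4, nat_lit 1, nat_lit 2, nat_lit 3, nat_lit 8, nat_lit 0, nat_lit 1, nat_lit 2, nat_lit 3, nat_lit 4, nat_lit 5, nat_lit 4, nat_lit 0, nat_lit 12, nat_lit 15, nat_lit 14, nat_lit 17, nat_lit 18] (Rl.rel (nat_lit 0)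 [nat_lit 8, nat_lit 3, nat_lit 4, nat_lit 5, nat_lit 6, nat_lit 7, nat_lit 8, nat_lit 2, nat_lit 3, nat_lit 4, nat_lit 5, nat_lit 1, nat_lit 2, nat_lit 8, nat_lit 3, nat_lit 0, nat_lit 2, nat_lit 15, nat_lit 14, nat_lit 19] (nat_lit 33) (nat_lit 2) [nat_lit 4827, nat_lit 5143, nat_lit 3957] []))))))))

/-- some facts -/
noncomputable def ftc103 : FT := FT.node (nat_lit 5175) (FT.node (nat_lit 5162) (FT.node (nat_lit 5156) (FT.node (nat_lit 5153) (FT.node (nat_lit 5151) (FT.leaf (Fct.mk true (nat_lit 32) (nat_lit 1831) (nat_lit 33) [nat_lit 3, nat_lit 4, nat_lit 2, nat_lit 3, nat_lit 8, nat_lit 1, nat_lit 2, nat_lit 3, nat_lit 4, nat_lit 5, nat_lit 6, nat_lit 7, nat_lit 0, nat_lit 1, nat_lit 2, nat_lit 3, nat_lit 4, nat_lit 5, nat_lit 4, nat_lit 3, nat_lit 2, nat_lit 1, nat_lit 8, nat_lit 3, nat_lit 2, nat_lit 0, nat_lit 1, nat_lit 4, nat_lit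 3, nat_lit 2, nat_lit 8, nat_lit 3, nat_lit 1, nat_lit 15, nat_lit 17] (Rl.t1 (nat_lit 5149) (nat_lit 4160)))) (FT.node (nat_lit 5152) (FT.leaf (Fct.mk true (nat_lit 33) (nat_lit 76160) (nat_lit 32) [nat_lit 4, nat_lit 1, nat_lit 2, nat_lit 3, nat_lit 8, nat_lit 0, nat_lit 1, nat_lit 2, nat_lit 3, nat_lit 4, nat_lit 5, nat_lit 6, nat_lit 7, nat_lit 5, nat_lit 3, nat_lit 4, nat_lit 2, nat_lit 3, nat_lit 8, nat_lit 1, nat_lit 2, nat_lit 3, nat_lit 4, nat_lit 5, nat_lit 1, nat_lit 8, nat_lit 4, nat_lit 3, nat_lit 2, nat_lit 0, nat_lit 1, nat_lit 9, nat_lit 4, nat_lit 3, nat_lit 2, nat_lit 8, nat_lit 3, nat_lit 1, nat_lit 0, nat_lit 2, nat_lit 14, nat_lit 13, nat_lit 12, nat_lit 19] (Rl.inv (nat_lit 5150)))) (FT.leaf (Fct.mk true (nat_lit 33) (nat_lit 230) (nat_lit 32) [nat_lit 5, nat_lit 4, nat_lit 2, nat_lit 3, nat_lit 8, nat_lit 6, nat_lit 7,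 nat_lit 5, nat_lit 6, nat_lit 4, nat_lit 5, nat_lit 3, nat_lit 4, nat_lit 2, nat_lit 3, nat_lit 8, nat_lit 0, nat_lit 1, nat_lit 2, nat_lit 3, nat_lit 4, nat_lit 5, nat_lit 6, nat_lit 7, nat_lit 6, nat_lit 5, nat_lit 3, nat_lit 4, nat_lit 1, nat_lit 2, nat_lit 3, nat_lit 8, nat_lit 0, nat_lit 1, nat_lit 2, nat_lit 3, nat_lit 4, nat_lit 5, nat_lit 3, nat_lit 2, nat_lit 1, nat_lit 9, nat_lit 4, nat_lit 3, nat_lit 2, nat_lit 8, nat_lit 3, nat_lit 2, nat_lit 8, nat_lit 10, nat_lit 1, nat_lit 16, nat_lit 15, nat_lit 14, nat_lit 17] (Rl.t1 (nat_lit 5151) (nat_lit 5148)))))) (FT.node (nat_lit 5154) (FT.leaf (Fct.mk false (nat_lit 33) (nat_lit 0) (nat_lit 33) [nat_lit 6, nat_lit 4, nat_lit 5, nat_lit 2, nat_lit 3, nat_lit 4, nat_lit 1, nat_lit 2, nat_lit 3, nat_lit 8, nat_lit 0, nat_lit 1, nat_lit 2, nat_lit 3, nat_lit 4, nat_lit 5, nat_lit 6, nat_lit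 7, nat_lit 6, nat_lit 5, nat_lit 4, nat_lit 3, nat_lit 8, nat_lit 2, nat_lit 3, nat_lit 4, nat_lit 1, nat_lit 2, nat_lit 3, nat_lit 8, nat_lit 5, nat_lit 6, nat_lit 4, nat_lit 5, nat_lit 3, nat_lit 4, nat_lit 2, nat_lit 3, nat_lit 8, nat_lit 1, nat_lit 2, nat_lit 3, nat_lit 4, nat_lit 5, nat_lit 4, nat_lit 3, nat_lit 2, nat_lit 0, nat_lit 1, nat_lit 9, nat_lit 4, nat_lit 3, nat_lit 2, nat_lit 8, nat_lit 3, nat_lit 10, nat_lit 2, nat_lit 8, nat_lit 10, nat_lit 1, nat_lit 16, nat_lit 15, nat_lit 14, nat_lit 16, nat_lit 8, nat_lit 18] (Rl.cmp (nat_lit 4456) (nat_lit 4402)))) (FT.node (nat_lit 5155) (FT.leaf (Fct.mk false (nat_lit 33) (nat_lit 0) (nat_lit 33) [nat_lit 2, nat_lit 3, nat_lit 8, nat_lit 5, nat_lit 6, nat_lit 4, nat_lit 5, nat_lit 3, nat_lit 4, nat_lit 2, nat_lit 3, nat_lit 8, nat_lit 0, nat_lit 1, nat_lit 2, nat_lit 3, nat_lit 4,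 nat_lit 5, nat_lit 6, nat_lit 7, nat_lit 4, nat_lit 5, nat_lit 3, nat_lit 4, nat_lit 1, nat_lit 2, nat_lit 3, nat_lit 8, nat_lit 0, nat_lit 1, nat_lit 2, nat_lit 3, nat_lit 4, nat_lit 5, nat_lit 1, nat_lit 3, nat_lit 2, nat_lit 8, nat_lit 3, nat_lit 10, nat_lit 0, nat_lit 13, nat_lit 12] (Rl.cmp (nat_lit 4605) (nat_lit 5153)))) (FT.leaf (Fct.mk false (nat_lit 33) (nat_lit 0) (nat_lit 33) [nat_lit 3, nat_lit 8, nat_lit 2, nat_lit 3, nat_lit 4, nat_lit 1, nat_lit 2, nat_lit 3, nat_lit 8, nat_lit 0, nat_lit 1, nat_lit 2, nat_lit 3, nat_lit 4, nat_lit 5, nat_lit 6, nat_lit 7, nat_lit 4, nat_lit 5, nat_lit 6, nat_lit 3, nat_lit 4, nat_lit 5, nat_lit 2, nat_lit 3, nat_lit 4, nat_lit 1, nat_lit 2, nat_lit 3, nat_lit 8, nat_lit 0, nat_lit 1, nat_lit 2, nat_lit 3, nat_lit 4, nat_lit 5, nat_lit 1, nat_lit 4, nat_lit 3, nat_lit 2, nat_lit 8, nat_lit 3,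 nat_lit 10, nat_lit 8, nat_lit 16, nat_lit 14, nat_lit 17, nat_lit 18, nat_lit 16] (Rl.cmp (nat_lit 4402) (nat_lit 5154))))))) (FT.node (nat_lit 5159) (FT.node (nat_lit 5157) (FT.leaf (Fct.mk false (nat_lit 33) (nat_lit 0) (nat_lit 33) [nat_lit 5, nat_lit 4, nat_lit 3, nat_lit 8, nat_lit 6, nat_lit 7, nat_lit 5, nat_lit 6, nat_lit 4, nat_lit 5, nat_lit 3, nat_lit 4, nat_lit 2, nat_lit 3, nat_lit 8, nat_lit 1, nat_lit 2, nat_lit 3, nat_lit 4, nat_lit 5, nat_lit 6, nat_lit 7, nat_lit 4, nat_lit 2, nat_lit 3, nat_lit 8, nat_lit 5, nat_lit 6, nat_lit 4, nat_lit 5, nat_lit 3, nat_lit 4, nat_lit 2, nat_lit 3, nat_lit 8, nat_lit 0, nat_lit 1, nat_lit 2, nat_lit 3, nat_lit 4, nat_lit 5, nat_lit 2, nat_lit 0, nat_lit 1, nat_lit 9, nat_lit 4, nat_lit 3, nat_lit 2, nat_lit 8, nat_lit 3, nat_lit 0, nat_lit 16, nat_lit 12, nat_lit 15, nat_lit 14, nat_lit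 8] (Rl.cmp (nat_lit 4605) (nat_lit 5155)))) (FT.node (nat_lit 5158) (FT.leaf (Fct.mk false (nat_lit 33) (nat_lit 0) (nat_lit 33) [nat_lit 8, nat_lit 5, nat_lit 2, nat_lit 3, nat_lit 4, nat_lit 1, nat_lit 2, nat_lit 3, nat_lit 8, nat_lit 0, nat_lit 1, nat_lit 2, nat_lit 3, nat_lit 4, nat_lit 5, nat_lit 2, nat_lit 1, nat_lit 9, nat_lit 4, nat_lit 3, nat_lit 2, nat_lit 8, nat_lit 3, nat_lit 11, nat_lit 2, nat_lit 10, nat_lit 1, nat_lit 12, nat_lit 8, nat_lit 16, nat_lit 14, nat_lit 12] (Rl.cmp (nat_lit 4402) (nat_lit 5156)))) (FT.leaf (Fct.mk true (nat_lit 32) (nat_lit 2181) (nat_lit 33) [nat_lit 7, nat_lit 0, nat_lit 1, nat_lit 2, nat_lit 3, nat_lit 4, nat_lit 5, nat_lit 4, nat_lit 3, nat_lit 2, nat_lit 8, nat_lit 3, nat_lit 9, nat_lit 10, nat_lit 2, nat_lit 8, nat_lit 10, nat_lit 1, nat_lit 12, nat_lit 8, nat_lit 16, nat_lit 14, nat_lit 19]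 (Rl.rel (nat_lit 0) [nat_lit 8, nat_lit 3, nat_lit 4, nat_lit 2, nat_lit 3, nat_lit 8, nat_lit 1, nat_lit 2, nat_lit 3, nat_lit 4, nat_lit 5, nat_lit 2, nat_lit 3, nat_lit 16, nat_lit 12, nat_lit 15, nat_lit 14, nat_lit 19] (nat_lit 33) (nat_lit 2) [nat_lit 4827, nat_lit 3737] []))))) (FT.node (nat_lit 5160) (FT.leaf (Fct.mk true (nat_lit 32) (nat_lit 2135) (nat_lit 33) [nat_lit 7, nat_lit 3, nat_lit 4, nat_lit 2, nat_lit 3, nat_lit 8, nat_lit 0, nat_lit 1, nat_lit 2, nat_lit 3, nat_lit 4, nat_lit 5, nat_lit 2, nat_lit 1, nat_lit 8, nat_lit 3, nat_lit 2, nat_lit 0, nat_lit 1, nat_lit 4, nat_lit 3, nat_lit 2, nat_lit 8, nat_lit 3, nat_lit 9, nat_lit 10, nat_lit 2, nat_lit 8, nat_lit 10, nat_lit 1, nat_lit 12, nat_lit 8, nat_lit 16, nat_lit 14, nat_lit 13, nat_lit 19] (Rl.t1 (nat_lit 5158) (nat_lit 3877)))) (FT.node (nat_lit 5161) (FT.leaf (Fct.mk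 true (nat_lit 33) (nat_lit 15034) (nat_lit 32) [nat_lit 4, nat_lit 3, nat_lit 8, nat_lit 1, nat_lit 2, nat_lit 3, nat_lit 4, nat_lit 5, nat_lit 6, nat_lit 7, nat_lit 8, nat_lit 5, nat_lit 3, nat_lit 4, nat_lit 2, nat_lit 3, nat_lit 8, nat_lit 1, nat_lit 2, nat_lit 3, nat_lit 4, nat_lit 5, nat_lit 2, nat_lit 0, nat_lit 1, nat_lit 4, nat_lit 3, nat_lit 2, nat_lit 8, nat_lit 3, nat_lit 10, nat_lit 0, nat_lit 8, nat_lit 12, nat_lit 15, nat_lit 12] (Rl.inv (nat_lit 5159)))) (FT.leaf (Fct.mk true (nat_lit 33) (nat_lit 94) (nat_lit 32) [nat_lit 3, nat_lit 4, nat_lit 2, nat_lit 3, nat_lit 8, nat_lit 0, nat_lit 1, nat_lit 2, nat_lit 3, nat_lit 4, nat_lit 5, nat_lit 6, nat_lit 7, nat_lit 3, nat_lit 2, nat_lit 1, nat_lit 8, nat_lit 3, nat_lit 2, nat_lit 0, nat_lit 1, nat_lit 4, nat_lit 3, nat_lit 2, nat_lit 8, nat_lit 3, nat_lit 2, nat_lit 8, nat_lit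 10, nat_lit 1, nat_lit 15, nat_lit 14, nat_lit 8] (Rl.t1 (nat_lit 5160) (nat_lit 5157)))))))) (FT.node (nat_lit 5168) (FT.node (nat_lit 5165) (FT.node (nat_lit 5163) (FT.leaf (Fct.mk false (nat_lit 33) (nat_lit 0) (nat_lit 33) [nat_lit 2, nat_lit 3, nat_lit 4, nat_lit 5, nat_lit 6, nat_lit 7, nat_lit 5, nat_lit 3, nat_lit 4, nat_lit 2, nat_lit 3, nat_lit 8, nat_lit 0, nat_lit 1, nat_lit 2, nat_lit 3, nat_lit 4, nat_lit 5, nat_lit 4, nat_lit 3, nat_lit 2, nat_lit 0, nat_lit 1, nat_lit 9, nat_lit 4, nat_lit 3, nat_lit 2, nat_lit 8, nat_lit 3, nat_lit 9, nat_lit 10, nat_lit 2, nat_lit 8, nat_lit 10, nat_lit 1, nat_lit 16, nat_lit 15, nat_lit 14, nat_lit 17, nat_lit 12] (Rl.cmp (nat_lit 4400) (nat_lit 4605)))) (FT.node (nat_lit 5164) (FT.leaf (Fct.mk false (nat_lit 33) (nat_lit 0) (nat_lit 33) [nat_lit 7, nat_lit 5, nat_lit 6, nat_lit 4, nat_lit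 5, nat_lit 3, nat_lit 4, nat_lit 2, nat_lit 3, nat_lit 8, nat_lit 1, nat_lit 2, nat_lit 3, nat_lit 4, nat_lit 5, nat_lit 6, nat_lit 7, nat_lit 6, nat_lit 5, nat_lit 3, nat_lit 4, nat_lit 2, nat_lit 3, nat_lit 8, nat_lit 0, nat_lit 1, nat_lit 2, nat_lit 3, nat_lit 4, nat_lit 5, nat_lit 8, nat_lit 4, nat_lit 3, nat_lit 2, nat_lit 0, nat_lit 1, nat_lit 9, nat_lit 4, nat_lit 3, nat_lit 2, nat_lit 8, nat_lit 3, nat_lit 0, nat_lit 2, nat_lit 15, nat_lit 13, nat_lit 12, nat_lit 19] (Rl.cmp (nat_lit 4456) (nat_lit 5162)))) (FT.leaf (Fct.mk false (nat_lit 33) (nat_lit 0) (nat_lit 33) [nat_lit 3, nat_lit 4, nat_lit 5, nat_lit 2, nat_lit 3, nat_lit 4, nat_lit 1, nat_lit 2, nat_lit 3, nat_lit 8, nat_lit 0, nat_lit 1, nat_lit 2, nat_lit 3, nat_lit 4, nat_lit 5, nat_lit 6, nat_lit 7, nat_lit 4, nat_lit 3, nat_lit 8, nat_lit 0, nat_lit 1, nat_lit 2, nat_lit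 3, nat_lit 4, nat_lit 5, nat_lit 3, nat_lit 2, nat_lit 1, nat_lit 8, nat_lit 3, nat_lit 2, nat_lit 0, nat_lit 1, nat_lit 9, nat_lit 4, nat_lit 3, nat_lit 2, nat_lit 8, nat_lit 3, nat_lit 11, nat_lit 10, nat_lit 14, nat_lit 13, nat_lit 18] (Rl.cmp (nat_lit 4605) (nat_lit 5163)))))) (FT.node (nat_lit 5166) (FT.leaf (Fct.mk false (nat_lit 33) (nat_lit 0) (nat_lit 33) [nat_lit 3, nat_lit 8, nat_lit 7, nat_lit 6, nat_lit 4, nat_lit 5, nat_lit 3, nat_lit 4, nat_lit 2, nat_lit 3, nat_lit 8, nat_lit 0, nat_lit 1, nat_lit 2, nat_lit 3, nat_lit 4, nat_lit 5, nat_lit 6, nat_lit 7, nat_lit 4, nat_lit 3, nat_lit 8, nat_lit 1, nat_lit 2, nat_lit 3, nat_lit 4, nat_lit 5, nat_lit 2, nat_lit 3, nat_lit 11, nat_lit 2, nat_lit 8, nat_lit 10, nat_lit 1, nat_lit 17, nat_lit 18, nat_lit 16] (Rl.cmp (nat_lit 4400) (nat_lit 5164)))) (FT.node (nat_lit 5167) (FT.leaf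 (Fct.mk false (nat_lit 33) (nat_lit 0) (nat_lit 33) [nat_lit 8, nat_lit 7, nat_lit 6, nat_lit 5, nat_lit 3, nat_lit 4, nat_lit 2, nat_lit 3, nat_lit 8, nat_lit 1, nat_lit 2, nat_lit 3, nat_lit 4, nat_lit 5, nat_lit 6, nat_lit 7, nat_lit 2, nat_lit 3, nat_lit 8, nat_lit 4, nat_lit 5, nat_lit 3, nat_lit 4, nat_lit 2, nat_lit 3, nat_lit 8, nat_lit 0, nat_lit 1, nat_lit 2, nat_lit 3, nat_lit 4, nat_lit 5, nat_lit 2, nat_lit 1, nat_lit 3, nat_lit 2, nat_lit 8, nat_lit 3, nat_lit 8, nat_lit 10, nat_lit 9, nat_lit 2, nat_lit 15, nat_lit 14, nat_lit 19, nat_lit 16] (Rl.cmp (nat_lit 4456) (nat_lit 5165)))) (FT.leaf (Fct.mk false (nat_lit 33) (nat_lit 0) (nat_lit 33) [nat_lit 2, nat_lit 3, nat_lit 8, nat_lit 4, nat_lit 5, nat_lit 3, nat_lit 4, nat_lit 2, nat_lit 3, nat_lit 8, nat_lit 6, nat_lit 7, nat_lit 5, nat_lit 6, nat_lit 4, nat_lit 5, nat_lit 3,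 nat_lit 4, nat_lit 2, nat_lit 3, nat_lit 8, nat_lit 1, nat_lit 2, nat_lit 3, nat_lit 4, nat_lit 5, nat_lit 6, nat_lit 7, nat_lit 8, nat_lit 6, nat_lit 4, nat_lit 5, nat_lit 3, nat_lit 4, nat_lit 1, nat_lit 2, nat_lit 3, nat_lit 8, nat_lit 0, nat_lit 1, nat_lit 2, nat_lit 3, nat_lit 4, nat_lit 5, nat_lit 4, nat_lit 2, nat_lit 12, nat_lit 15, nat_lit 14] (Rl.cmp (nat_lit 4605) (nat_lit 5166))))))) (FT.node (nat_lit 5171) (FT.node (nat_lit 5169) (FT.leaf (Fct.mk false (nat_lit 33) (nat_lit 0) (nat_lit 33) [nat_lit 3, nat_lit 8, nat_lit 5, nat_lit 6, nat_lit 4, nat_lit 5, nat_lit 3, nat_lit 4, nat_lit 1, nat_lit 2, nat_lit 3, nat_lit 8, nat_lit 0, nat_lit 1, nat_lit 2, nat_lit 3, nat_lit 4, nat_lit 5, nat_lit 6, nat_lit 7, nat_lit 2, nat_lit 3, nat_lit 4, nat_lit 1, nat_lit 2, nat_lit 3, nat_lit 8, nat_lit 5, nat_lit 6, nat_lit 4, nat_lit 5, nat_lit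 3, nat_lit 4, nat_lit 2, nat_lit 3, nat_lit 8, nat_lit 1, nat_lit 2, nat_lit 3, nat_lit 4, nat_lit 5, nat_lit 3, nat_lit 2, nat_lit 1, nat_lit 4, nat_lit 3, nat_lit 2, nat_lit 8, nat_lit 3, nat_lit 9, nat_lit 2, nat_lit 8, nat_lit 12, nat_lit 15, nat_lit 13] (Rl.cmp (nat_lit 4605) (nat_lit 4400)))) (FT.node (nat_lit 5170) (FT.leaf (Fct.mk false (nat_lit 33) (nat_lit 0) (nat_lit 33) [nat_lit 7, nat_lit 6, nat_lit 4, nat_lit 5, nat_lit 3, nat_lit 4, nat_lit 1, nat_lit 2, nat_lit 3, nat_lit 8, nat_lit 0, nat_lit 1, nat_lit 2, nat_lit 3, nat_lit 4, nat_lit 5, nat_lit 6, nat_lit 7, nat_lit 4, nat_lit 1, nat_lit 2, nat_lit 3, nat_lit 8, nat_lit 5, nat_lit 6, nat_lit 4, nat_lit 5, nat_lit 3, nat_lit 4, nat_lit 2, nat_lit 3, nat_lit 8, nat_lit 1, nat_lit 2, nat_lit 3, nat_lit 4, nat_lit 5, nat_lit 9, nat_lit 4, nat_lit 3, nat_lit 2, nat_lit 8, nat_lit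 3, nat_lit 9, nat_lit 2, nat_lit 15, nat_lit 14, nat_lit 13, nat_lit 12, nat_lit 19] (Rl.cmp (nat_lit 4402) (nat_lit 5168)))) (FT.leaf (Fct.mk false (nat_lit 33) (nat_lit 0) (nat_lit 33) [nat_lit 3, nat_lit 8, nat_lit 2, nat_lit 3, nat_lit 4, nat_lit 1, nat_lit 2, nat_lit 3, nat_lit 8, nat_lit 0, nat_lit 1, nat_lit 2, nat_lit 3, nat_lit 4, nat_lit 5, nat_lit 6, nat_lit 7, nat_lit 4, nat_lit 5, nat_lit 3, nat_lit 4, nat_lit 2, nat_lit 3, nat_lit 8, nat_lit 1, nat_lit 2, nat_lit 3, nat_lit 4, nat_lit 5, nat_lit 3, nat_lit 0, nat_lit 15, nat_lit 14, nat_lit 12, nat_lit 19, nat_lit 16] (Rl.cmp (nat_lit 4456) (nat_lit 5169)))))) (FT.node (nat_lit 5173) (FT.node (nat_lit 5172) (FT.leaf (Fct.mk false (nat_lit 33) (nat_lit 0) (nat_lit 33) [nat_lit 3, nat_lit 8, nat_lit 5, nat_lit 6, nat_lit 4, nat_lit 5, nat_lit 3, nat_lit 4, nat_lit 1, nat_lit 2,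 nat_lit 3, nat_lit 8, nat_lit 0, nat_lit 1, nat_lit 2, nat_lit 3, nat_lit 4, nat_lit 5, nat_lit 6, nat_lit 7, nat_lit 4, nat_lit 5, nat_lit 3, nat_lit 4, nat_lit 2, nat_lit 3, nat_lit 8, nat_lit 1, nat_lit 2, nat_lit 3, nat_lit 4, nat_lit 5, nat_lit 3, nat_lit 2, nat_lit 1, nat_lit 4, nat_lit 3, nat_lit 2, nat_lit 8, nat_lit 3, nat_lit 10, nat_lit 9, nat_lit 2, nat_lit 16, nat_lit 15, nat_lit 14, nat_lit 13] (Rl.cmp (nat_lit 4402) (nat_lit 5170)))) (FT.leaf (Fct.mk false (nat_lit 33) (nat_lit 0) (nat_lit 33) [nat_lit 8, nat_lit 2, nat_lit 3, nat_lit 4, nat_lit 1, nat_lit 2, nat_lit 3, nat_lit 8, nat_lit 6, nat_lit 7, nat_lit 5, nat_lit 6, nat_lit 4, nat_lit 5, nat_lit 3, nat_lit 4, nat_lit 2, nat_lit 3, nat_lit 8, nat_lit 1, nat_lit 2, nat_lit 3, nat_lit 4, nat_lit 5, nat_lit 6, nat_lit 7, nat_lit 2, nat_lit 3, nat_lit 4, nat_lit 5, nat_lit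 1, nat_lit 4, nat_lit 3, nat_lit 2, nat_lit 8, nat_lit 3, nat_lit 0, nat_lit 8, nat_lit 12, nat_lit 15, nat_lit 14, nat_lit 12, nat_lit 16] (Rl.cmp (nat_lit 4456) (nat_lit 5171))))) (FT.node (nat_lit 5174) (FT.leaf (Fct.mk false (nat_lit 33) (nat_lit 0) (nat_lit 33) [nat_lit 6, nat_lit 5, nat_lit 4, nat_lit 3, nat_lit 8, nat_lit 2, nat_lit 3, nat_lit 4, nat_lit 5, nat_lit 6, nat_lit 7, nat_lit 5, nat_lit 2, nat_lit 0, nat_lit 1, nat_lit 3, nat_lit 2, nat_lit 8, nat_lit 3, nat_lit 11, nat_lit 2, nat_lit 8, nat_lit 10, nat_lit 1, nat_lit 17, nat_lit 12, nat_lit 18] (Rl.cmp (nat_lit 4605) (nat_lit 5172)))) (FT.leaf (Fct.mk true (nat_lit 32) (nat_lit 9205) (nat_lit 33) [nat_lit 5, nat_lit 6, nat_lit 7, nat_lit 6, nat_lit 5, nat_lit 3, nat_lit 4, nat_lit 1, nat_lit 2, nat_lit 3, nat_lit 8, nat_lit 0, nat_lit 1, nat_lit 2, nat_lit 3, nat_lit 4, nat_lit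 5, nat_lit 2, nat_lit 1, nat_lit 3, nat_lit 2, nat_lit 0, nat_lit 1, nat_lit 9, nat_lit 4, nat_lit 3, nat_lit 2, nat_lit 8, nat_lit 3, nat_lit 11, nat_lit 2, nat_lit 10, nat_lit 1, nat_lit 16, nat_lit 14, nat_lit 17, nat_lit 12, nat_lit 18] (Rl.rel (nat_lit 0) [nat_lit 8, nat_lit 3, nat_lit 4, nat_lit 5, nat_lit 6, nat_lit 7, nat_lit 2, nat_lit 3, nat_lit 8, nat_lit 1, nat_lit 2, nat_lit 3, nat_lit 4, nat_lit 5, nat_lit 2, nat_lit 3, nat_lit 2, nat_lit 15, nat_lit 14, nat_lit 19] (nat_lit 33) (nat_lit 1) [nat_lit 4827] [nat_lit 5167, nat_lit 4743])))))))) (FT.node (nat_lit 5187) (FT.node (nat_lit 5181) (FT.node (nat_lit 5178) (FT.node (nat_lit 5176) (FT.leaf (Fct.mk true (nat_lit 32) (nat_lit 2187) (nat_lit 33) [nat_lit 8, nat_lit 4, nat_lit 5, nat_lit 3, nat_lit 4, nat_lit 2, nat_lit 3, nat_lit 8, nat_lit 1, nat_lit 2, nat_lit 3, nat_lit 4,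 nat_lit 5, nat_lit 6, nat_lit 7, nat_lit 6, nat_lit 3, nat_lit 4, nat_lit 5, nat_lit 2, nat_lit 3, nat_lit 4, nat_lit 1, nat_lit 2, nat_lit 3, nat_lit 8, nat_lit 0, nat_lit 1, nat_lit 2, nat_lit 3, nat_lit 4, nat_lit 5, nat_lit 2, nat_lit 1, nat_lit 8, nat_lit 3, nat_lit 2, nat_lit 0, nat_lit 1, nat_lit 9, nat_lit 4, nat_lit 3, nat_lit 2, nat_lit 8, nat_lit 3, nat_lit 8, nat_lit 10, nat_lit 1, nat_lit 16, nat_lit 14, nat_lit 17, nat_lit 12, nat_lit 18] (Rl.t1 (nat_lit 5174) (nat_lit 4349)))) (FT.node (nat_lit 5177) (FT.leaf (Fct.mk true (nat_lit 33) (nat_lit 8686) (nat_lit 32) [nat_lit 4, nat_lit 2, nat_lit 3, nat_lit 8, nat_lit 5, nat_lit 6, nat_lit 4, nat_lit 5, nat_lit 3, nat_lit 4, nat_lit 2, nat_lit 3, nat_lit 8, nat_lit 1, nat_lit 2, nat_lit 3, nat_lit 4, nat_lit 5, nat_lit 6, nat_lit 7, nat_lit 4, nat_lit 3, nat_lit 8, nat_lit 5, nat_lit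 6, nat_lit 4, nat_lit 5, nat_lit 3, nat_lit 4, nat_lit 2, nat_lit 3, nat_lit 8, nat_lit 0, nat_lit 1, nat_lit 2, nat_lit 3, nat_lit 4, nat_lit 5, nat_lit 8, nat_lit 3, nat_lit 10, nat_lit 1, nat_lit 8, nat_lit 16, nat_lit 14, nat_lit 16, nat_lit 8, nat_lit 18] (Rl.inv (nat_lit 5175)))) (FT.leaf (Fct.mk true (nat_lit 33) (nat_lit 48) (nat_lit 32) [nat_lit 8, nat_lit 4, nat_lit 5, nat_lit 2, nat_lit 3, nat_lit 4, nat_lit 1, nat_lit 2, nat_lit 3, nat_lit 8, nat_lit 0, nat_lit 1, nat_lit 2, nat_lit 3, nat_lit 4, nat_lit 5, nat_lit 6, nat_lit 7, nat_lit 8, nat_lit 1, nat_lit 2, nat_lit 3, nat_lit 4, nat_lit 5, nat_lit 4, nat_lit 3, nat_lit 2, nat_lit 0, nat_lit 1, nat_lit 9, nat_lit 4, nat_lit 3, nat_lit 2, nat_lit 8, nat_lit 3, nat_lit 10, nat_lit 0, nat_lit 15, nat_lit 14, nat_lit 8] (Rl.t1 (nat_lit 5176) (nat_lit 5173)))))) (FT.node (nat_lit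 5179) (FT.leaf (Fct.mk false (nat_lit 33) (nat_lit 0) (nat_lit 33) [nat_lit 6, nat_lit 4, nat_lit 5, nat_lit 2, nat_lit 3, nat_lit 4, nat_lit 1, nat_lit 2, nat_lit 3, nat_lit 8, nat_lit 0, nat_lit 1, nat_lit 2, nat_lit 3, nat_lit 4, nat_lit 5, nat_lit 6, nat_lit 7, nat_lit 6, nat_lit 5, nat_lit 4, nat_lit 3, nat_lit 8, nat_lit 2, nat_lit 3, nat_lit 4, nat_lit 1, nat_lit 2, nat_lit 3, nat_lit 8, nat_lit 5, nat_lit 6, nat_lit 4, nat_lit 5, nat_lit 3, nat_lit 4, nat_lit 2, nat_lit 3, nat_lit 8, nat_lit 1, nat_lit 2, nat_lit 3, nat_lit 4, nat_lit 5, nat_lit 4, nat_lit 3, nat_lit 2, nat_lit 0, nat_lit 1, nat_lit 9, nat_lit 4, nat_lit 3, nat_lit 2, nat_lit 8, nat_lit 3, nat_lit 10, nat_lit 2, nat_lit 8, nat_lit 10, nat_lit 1, nat_lit 16, nat_lit 15, nat_lit 14, nat_lit 16, nat_lit 8, nat_lit 18] (Rl.cmp (nat_lit 4456) (nat_lit 4402)))) (FT.node (nat_lit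 5180) (FT.leaf (Fct.mk false (nat_lit 33) (nat_lit 0) (nat_lit 33) [nat_lit 2, nat_lit 3, nat_lit 8, nat_lit 5, nat_lit 6, nat_lit 4, nat_lit 5, nat_lit 3, nat_lit 4, nat_lit 2, nat_lit 3, nat_lit 8, nat_lit 0, nat_lit 1, nat_lit 2, nat_lit 3, nat_lit 4, nat_lit 5, nat_lit 6, nat_lit 7, nat_lit 4, nat_lit 5, nat_lit 3, nat_lit 4, nat_lit 1, nat_lit 2, nat_lit 3, nat_lit 8, nat_lit 0, nat_lit 1, nat_lit 2, nat_lit 3, nat_lit 4, nat_lit 5, nat_lit 1, nat_lit 3, nat_lit 2, nat_lit 8, nat_lit 3, nat_lit 10, nat_lit 0, nat_lit 13, nat_lit 12] (Rl.cmp (nat_lit 4605) (nat_lit 5178)))) (FT.leaf (Fct.mk false (nat_lit 33) (nat_lit 0) (nat_lit 33) [nat_lit 3, nat_lit 8, nat_lit 5, nat_lit 6, nat_lit 4, nat_lit 5, nat_lit 3, nat_lit 4, nat_lit 1, nat_lit 2, nat_lit 3, nat_lit 8, nat_lit 0, nat_lit 1, nat_lit 2, nat_lit 3, nat_lit 4, nat_lit 5, nat_lit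 6, nat_lit 7, nat_lit 1, nat_lit 2, nat_lit 3, nat_lit 8, nat_lit 6, nat_lit 4, nat_lit 5, nat_lit 3, nat_lit 4, nat_lit 2, nat_lit 3, nat_lit 8, nat_lit 1, nat_lit 2, nat_lit 3, nat_lit 4, nat_lit 5, nat_lit 1, nat_lit 2, nat_lit 3, nat_lit 8, nat_lit 4, nat_lit 3, nat_lit 2, nat_lit 1, nat_lit 9, nat_lit 4, nat_lit 3, nat_lit 2, nat_lit 8, nat_lit 3, nat_lit 11, nat_lit 2, nat_lit 8, nat_lit 12, nat_lit 15, nat_lit 14, nat_lit 8, nat_lit 18] (Rl.cmp (nat_lit 4456) (nat_lit 5179))))))) (FT.node (nat_lit 5184) (FT.node (nat_lit 5182) (FT.leaf (Fct.mk false (nat_lit 33) (nat_lit 0) (nat_lit 33) [nat_lit 7, nat_lit 6, nat_lit 4, nat_lit 5, nat_lit 3, nat_lit 4, nat_lit 1, nat_lit 2, nat_lit 3, nat_lit 8, nat_lit 0, nat_lit 1, nat_lit 2, nat_lit 3, nat_lit 4, nat_lit 5, nat_lit 6, nat_lit 7, nat_lit 8, nat_lit 3, nat_lit 4, nat_lit 1, nat_lit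 2, nat_lit 3, nat_lit 8, nat_lit 0, nat_lit 1, nat_lit 2, nat_lit 3, nat_lit 4, nat_lit 5, nat_lit 2, nat_lit 1, nat_lit 8, nat_lit 3, nat_lit 2, nat_lit 0, nat_lit 1, nat_lit 4, nat_lit 3, nat_lit 2, nat_lit 8, nat_lit 3, nat_lit 11, nat_lit 10, nat_lit 8, nat_lit 12, nat_lit 15, nat_lit 14, nat_lit 17, nat_lit 18, nat_lit 16] (Rl.cmp (nat_lit 4402) (nat_lit 5180)))) (FT.node (nat_lit 5183) (FT.leaf (Fct.mk false (nat_lit 33) (nat_lit 0) (nat_lit 33) [nat_lit 3, nat_lit 8, nat_lit 2, nat_lit 3, nat_lit 4, nat_lit 1, nat_lit 2, nat_lit 3, nat_lit 8, nat_lit 0, nat_lit 1, nat_lit 2, nat_lit 3, nat_lit 4, nat_lit 5, nat_lit 6, nat_lit 7, nat_lit 6, nat_lit 5, nat_lit 4, nat_lit 1, nat_lit 2, nat_lit 3, nat_lit 8, nat_lit 0, nat_lit 1, nat_lit 2, nat_lit 3, nat_lit 4, nat_lit 5, nat_lit 3, nat_lit 2, nat_lit 1, nat_lit 4, nat_lit 3, nat_lit 2,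 nat_lit 8, nat_lit 3, nat_lit 11, nat_lit 2, nat_lit 10, nat_lit 1, nat_lit 12, nat_lit 15, nat_lit 13, nat_lit 19, nat_lit 16] (Rl.cmp (nat_lit 4456) (nat_lit 5181)))) (FT.leaf (Fct.mk true (nat_lit 32) (nat_lit 14042) (nat_lit 33) [nat_lit 8, nat_lit 7, nat_lit 6, nat_lit 4, nat_lit 5, nat_lit 2, nat_lit 3, nat_lit 4, nat_lit 1, nat_lit 2, nat_lit 3, nat_lit 8, nat_lit 0, nat_lit 1, nat_lit 2, nat_lit 3, nat_lit 4, nat_lit 5, nat_lit 6, nat_lit 7, nat_lit 8, nat_lit 5, nat_lit 3, nat_lit 4, nat_lit 1, nat_lit 2, nat_lit 3, nat_lit 8, nat_lit 0, nat_lit 1, nat_lit 2, nat_lit 3, nat_lit 4, nat_lit 5, nat_lit 2, nat_lit 3, nat_lit 8, nat_lit 4, nat_lit 3, nat_lit 2, nat_lit 1, nat_lit 9, nat_lit 4, nat_lit 3, nat_lit 2, nat_lit 8, nat_lit 3, nat_lit 8, nat_lit 10, nat_lit 15, nat_lit 14, nat_lit 8] (Rl.rel (nat_lit 0) [nat_lit 8, nat_lit 3,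 nat_lit 4, nat_lit 5, nat_lit 6, nat_lit 7, nat_lit 8, nat_lit 2, nat_lit 3, nat_lit 4, nat_lit 5, nat_lit 2, nat_lit 8, nat_lit 3, nat_lit 9, nat_lit 2, nat_lit 16, nat_lit 15, nat_lit 14, nat_lit 19] (nat_lit 33) (nat_lit 2) [nat_lit 4827, nat_lit 4179, nat_lit 3582] []))))) (FT.node (nat_lit 5185) (FT.leaf (Fct.mk true (nat_lit 32) (nat_lit 3088) (nat_lit 33) [nat_lit 5, nat_lit 6, nat_lit 4, nat_lit 5, nat_lit 3, nat_lit 4, nat_lit 2, nat_lit 3, nat_lit 8, nat_lit 0, nat_lit 1, nat_lit 2, nat_lit 3, nat_lit 4, nat_lit 5, nat_lit 6, nat_lit 7, nat_lit 4, nat_lit 2, nat_lit 3, nat_lit 8, nat_lit 1, nat_lit 2, nat_lit 3, nat_lit 4, nat_lit 5, nat_lit 1, nat_lit 2, nat_lit 3, nat_lit 0, nat_lit 8, nat_lit 16, nat_lit 14, nat_lit 16, nat_lit 8, nat_lit 18, nat_lit 16] (Rl.t1 (nat_lit 5183) (nat_lit 4334)))) (FT.node (nat_lit 5186) (FT.leaf (Fct.mk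 true (nat_lit 33) (nat_lit 37439) (nat_lit 32) [nat_lit 6, nat_lit 5, nat_lit 4, nat_lit 3, nat_lit 8, nat_lit 1, nat_lit 2, nat_lit 3, nat_lit 4, nat_lit 5, nat_lit 6, nat_lit 7, nat_lit 3, nat_lit 4, nat_lit 2, nat_lit 3, nat_lit 8, nat_lit 5, nat_lit 6, nat_lit 4, nat_lit 5, nat_lit 3, nat_lit 4, nat_lit 2, nat_lit 3, nat_lit 8, nat_lit 0, nat_lit 1, nat_lit 2, nat_lit 3, nat_lit 4, nat_lit 5, nat_lit 4, nat_lit 3, nat_lit 2, nat_lit 8, nat_lit 3, nat_lit 2, nat_lit 8, nat_lit 10, nat_lit 1, nat_lit 8, nat_lit 16, nat_lit 15, nat_lit 14, nat_lit 13, nat_lit 12, nat_lit 18, nat_lit 16] (Rl.inv (nat_lit 5184)))) (FT.leaf (Fct.mk true (nat_lit 33) (nat_lit 150) (nat_lit 32) [nat_lit 4, nat_lit 1, nat_lit 2, nat_lit 3, nat_lit 8, nat_lit 5, nat_lit 6, nat_lit 4, nat_lit 5, nat_lit 3, nat_lit 4, nat_lit 2, nat_lit 3, nat_lit 8, nat_lit 1, nat_lit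 2, nat_lit 3, nat_lit 4, nat_lit 5, nat_lit 6, nat_lit 7, nat_lit 6, nat_lit 5, nat_lit 3, nat_lit 4, nat_lit 2, nat_lit 3, nat_lit 8, nat_lit 0, nat_lit 1, nat_lit 2, nat_lit 3, nat_lit 4, nat_lit 5, nat_lit 3, nat_lit 2, nat_lit 1, nat_lit 8, nat_lit 3, nat_lit 2, nat_lit 0, nat_lit 1, nat_lit 9, nat_lit 4, nat_lit 3, nat_lit 2, nat_lit 8, nat_lit 3, nat_lit 10, nat_lit 8, nat_lit 12, nat_lit 15, nat_lit 17, nat_lit 19, nat_lit 16] (Rl.t1 (nat_lit 5185) (nat_lit 5182)))))))) (FT.node (nat_lit 5193) (FT.node (nat_lit 5190) (FT.node (nat_lit 5188) (FT.leaf (Fct.mk false (nat_lit 33) (nat_lit 0) (nat_lit 33) [nat_lit 8, nat_lit 7, nat_lit 6, nat_lit 5, nat_lit 3, nat_lit 4, nat_lit 1, nat_lit 2, nat_lit 3, nat_lit 8, nat_lit 0, nat_lit 1, nat_lit 2, nat_lit 3, nat_lit 4, nat_lit 5, nat_lit 6, nat_lit 7, nat_lit 3, nat_lit 4, nat_lit 1, nat_lit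 2, nat_lit 3, nat_lit 8, nat_lit 5, nat_lit 6, nat_lit 4, nat_lit 5, nat_lit 3, nat_lit 4, nat_lit 2, nat_lit 3, nat_lit 8, nat_lit 1, nat_lit 2, nat_lit 3, nat_lit 4, nat_lit 5, nat_lit 2, nat_lit 1, nat_lit 4, nat_lit 3, nat_lit 2, nat_lit 8, nat_lit 3, nat_lit 2, nat_lit 8, nat_lit 10, nat_lit 1, nat_lit 8, nat_lit 12, nat_lit 15, nat_lit 14, nat_lit 13, nat_lit 19, nat_lit 16] (Rl.cmp (nat_lit 4605) (nat_lit 4851)))) (FT.node (nat_lit 5189) (FT.leaf (Fct.mk false (nat_lit 33) (nat_lit 0) (nat_lit 33) [nat_lit 3, nat_lit 8, nat_lit 7, nat_lit 6, nat_lit 4, nat_lit 5, nat_lit 3, nat_lit 4, nat_lit 1, nat_lit 2, nat_lit 3, nat_lit 8, nat_lit 0, nat_lit 1, nat_lit 2, nat_lit 3, nat_lit 4, nat_lit 5, nat_lit 6, nat_lit 7, nat_lit 3, nat_lit 8, nat_lit 6, nat_lit 4, nat_lit 5, nat_lit 3, nat_lit 4, nat_lit 2, nat_lit 3, nat_lit 8, nat_lit 1,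 nat_lit 2, nat_lit 3, nat_lit 4, nat_lit 5, nat_lit 8, nat_lit 3, nat_lit 2, nat_lit 0, nat_lit 1, nat_lit 4, nat_lit 3, nat_lit 2, nat_lit 8, nat_lit 3, nat_lit 0, nat_lit 12, nat_lit 18, nat_lit 16] (Rl.cmp (nat_lit 4456) (nat_lit 5187)))) (FT.leaf (Fct.mk false (nat_lit 33) (nat_lit 0) (nat_lit 33) [nat_lit 3, nat_lit 8, nat_lit 7, nat_lit 6, nat_lit 4, nat_lit 5, nat_lit 3, nat_lit 4, nat_lit 2, nat_lit 3, nat_lit 8, nat_lit 1, nat_lit 2, nat_lit 3, nat_lit 4, nat_lit 5, nat_lit 6, nat_lit 7, nat_lit 8, nat_lit 3, nat_lit 4, nat_lit 1, nat_lit 2, nat_lit 3, nat_lit 8, nat_lit 5, nat_lit 6, nat_lit 4, nat_lit 5, nat_lit 3, nat_lit 4, nat_lit 2, nat_lit 3, nat_lit 8, nat_lit 1, nat_lit 2, nat_lit 3, nat_lit 4, nat_lit 5, nat_lit 3, nat_lit 8, nat_lit 4, nat_lit 3, nat_lit 2, nat_lit 0, nat_lit 1, nat_lit 9, nat_lit 4, nat_lit 3, nat_lit 2,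 nat_lit 8, nat_lit 3, nat_lit 11, nat_lit 10, nat_lit 2, nat_lit 8, nat_lit 10, nat_lit 1, nat_lit 14, nat_lit 13, nat_lit 12, nat_lit 19] (Rl.cmp (nat_lit 4605) (nat_lit 5188)))))) (FT.node (nat_lit 5191) (FT.leaf (Fct.mk false (nat_lit 33) (nat_lit 0) (nat_lit 33) [nat_lit 6, nat_lit 4, nat_lit 5, nat_lit 2, nat_lit 3, nat_lit 4, nat_lit 1, nat_lit 2, nat_lit 3, nat_lit 8, nat_lit 0, nat_lit 1, nat_lit 2, nat_lit 3, nat_lit 4, nat_lit 5, nat_lit 6, nat_lit 7, nat_lit 6, nat_lit 5, nat_lit 4, nat_lit 3, nat_lit 8, nat_lit 2, nat_lit 3, nat_lit 4, nat_lit 1, nat_lit 2, nat_lit 3, nat_lit 8, nat_lit 5, nat_lit 6, nat_lit 4, nat_lit 5, nat_lit 3, nat_lit 4, nat_lit 2, nat_lit 3, nat_lit 8, nat_lit 1, nat_lit 2, nat_lit 3, nat_lit 4, nat_lit 5, nat_lit 4, nat_lit 3, nat_lit 2, nat_lit 0, nat_lit 1, nat_lit 9, nat_lit 4, nat_lit 3, nat_lit 2, nat_lit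 8, nat_lit 3, nat_lit 10, nat_lit 2, nat_lit 8, nat_lit 10, nat_lit 1, nat_lit 16, nat_lit 15, nat_lit 14, nat_lit 16, nat_lit 8, nat_lit 18] (Rl.cmp (nat_lit 4456) (nat_lit 4402)))) (FT.node (nat_lit 5192) (FT.leaf (Fct.mk false (nat_lit 33) (nat_lit 0) (nat_lit 33) [nat_lit 5, nat_lit 4, nat_lit 3, nat_lit 8, nat_lit 6, nat_lit 7, nat_lit 5, nat_lit 6, nat_lit 4, nat_lit 5, nat_lit 3, nat_lit 4, nat_lit 1, nat_lit 2, nat_lit 3, nat_lit 8, nat_lit 0, nat_lit 1, nat_lit 2, nat_lit 3, nat_lit 4, nat_lit 5, nat_lit 6, nat_lit 7, nat_lit 2, nat_lit 3, nat_lit 8, nat_lit 1, nat_lit 2, nat_lit 3, nat_lit 4, nat_lit 5, nat_lit 4, nat_lit 9, nat_lit 15, nat_lit 14, nat_lit 8, nat_lit 16] (Rl.cmp (nat_lit 4402) (nat_lit 5190)))) (FT.leaf (Fct.mk false (nat_lit 33) (nat_lit 0) (nat_lit 33) [nat_lit 3, nat_lit 4, nat_lit 5, nat_lit 2, nat_lit 3, nat_lit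 4, nat_lit 1, nat_lit 2, nat_lit 3, nat_lit 8, nat_lit 6, nat_lit 7, nat_lit 5, nat_lit 6, nat_lit 4, nat_lit 5, nat_lit 3, nat_lit 4, nat_lit 2, nat_lit 3, nat_lit 8, nat_lit 1, nat_lit 2, nat_lit 3, nat_lit 4, nat_lit 5, nat_lit 6, nat_lit 7, nat_lit 8, nat_lit 4, nat_lit 5, nat_lit 3, nat_lit 4, nat_lit 1, nat_lit 2, nat_lit 3, nat_lit 8, nat_lit 0, nat_lit 1, nat_lit 2, nat_lit 3, nat_lit 4, nat_lit 5, nat_lit 3, nat_lit 11, nat_lit 8, nat_lit 10, nat_lit 1, nat_lit 12, nat_lit 15, nat_lit 17, nat_lit 12, nat_lit 19, nat_lit 16] (Rl.cmp (nat_lit 4456) (nat_lit 5191))))))) (FT.node (nat_lit 5196) (FT.node (nat_lit 5194) (FT.leaf (Fct.mk false (nat_lit 33) (nat_lit 0) (nat_lit 33) [nat_lit 5, nat_lit 4, nat_lit 2, nat_lit 3, nat_lit 8, nat_lit 6, nat_lit 7, nat_lit 5, nat_lit 6, nat_lit 4, nat_lit 5, nat_lit 3, nat_lit 4, nat_lit 2, nat_lit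 3, nat_lit 8, nat_lit 1, nat_lit 2, nat_lit 3, nat_lit 4, nat_lit 5, nat_lit 6, nat_lit 7, nat_lit 8, nat_lit 6, nat_lit 4, nat_lit 5, nat_lit 3, nat_lit 4, nat_lit 1, nat_lit 2, nat_lit 3, nat_lit 8, nat_lit 0, nat_lit 1, nat_lit 2, nat_lit 3, nat_lit 4, nat_lit 5, nat_lit 9, nat_lit 4, nat_lit 11, nat_lit 10, nat_lit 2, nat_lit 8, nat_lit 10, nat_lit 1, nat_lit 15, nat_lit 17, nat_lit 12, nat_lit 18, nat_lit 16] (Rl.cmp (nat_lit 4400) (nat_lit 5192)))) (FT.node (nat_lit 5195) (FT.leaf (Fct.mk false (nat_lit 33) (nat_lit 0) (nat_lit 33) [nat_lit 4, nat_lit 3, nat_lit 8, nat_lit 2, nat_lit 3, nat_lit 4, nat_lit 5, nat_lit 6, nat_lit 7, nat_lit 8, nat_lit 3, nat_lit 4, nat_lit 1, nat_lit 2, nat_lit 3, nat_lit 8, nat_lit 0, nat_lit 1, nat_lit 2, nat_lit 3, nat_lit 4, nat_lit 5, nat_lit 2, nat_lit 8, nat_lit 10, nat_lit 1, nat_lit 15, nat_lit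 17, nat_lit 12, nat_lit 18] (Rl.cmp (nat_lit 4402) (nat_lit 5193)))) (FT.leaf (Fct.mk true (nat_lit 33) (nat_lit 117116) (nat_lit 33) [nat_lit 3, nat_lit 8, nat_lit 6, nat_lit 5, nat_lit 2, nat_lit 3, nat_lit 4, nat_lit 1, nat_lit 2, nat_lit 3, nat_lit 8, nat_lit 0, nat_lit 1, nat_lit 2, nat_lit 3, nat_lit 4, nat_lit 5, nat_lit 1, nat_lit 2, nat_lit 0, nat_lit 1, nat_lit 4, nat_lit 3, nat_lit 2, nat_lit 8, nat_lit 3, nat_lit 10, nat_lit 0, nat_lit 8, nat_lit 12, nat_lit 15, nat_lit 14, nat_lit 8, nat_lit 19] (Rl.rel (nat_lit 0) [nat_lit 8, nat_lit 3, nat_lit 4, nat_lit 2, nat_lit 3, nat_lit 8, nat_lit 1, nat_lit 2, nat_lit 3, nat_lit 4, nat_lit 5, nat_lit 2, nat_lit 3, nat_lit 0, nat_lit 16, nat_lit 12, nat_lit 15, nat_lit 14, nat_lit 19] (nat_lit 33) (nat_lit 2) [nat_lit 4827, nat_lit 4212, nat_lit 4584] []))))) (FT.node (nat_lit 5198) (FT.node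 (nat_lit 5197) (FT.leaf (Fct.mk true (nat_lit 33) (nat_lit 109) (nat_lit 33) [nat_lit 7, nat_lit 6, nat_lit 5, nat_lit 4, nat_lit 3, nat_lit 8, nat_lit 0, nat_lit 1, nat_lit 2, nat_lit 3, nat_lit 4, nat_lit 5, nat_lit 6, nat_lit 7, nat_lit 4, nat_lit 3, nat_lit 8, nat_lit 5, nat_lit 6, nat_lit 4, nat_lit 5, nat_lit 3, nat_lit 4, nat_lit 1, nat_lit 2, nat_lit 3, nat_lit 8, nat_lit 0, nat_lit 1, nat_lit 2, nat_lit 3, nat_lit 4, nat_lit 5, nat_lit 2, nat_lit 0, nat_lit 1, nat_lit 3, nat_lit 2, nat_lit 8, nat_lit 3, nat_lit 1, nat_lit 0, nat_lit 2, nat_lit 16, nat_lit 8, nat_lit 12, nat_lit 15, nat_lit 17, nat_lit 18, nat_lit 16] (Rl.t1 (nat_lit 5195) (nat_lit 5189)))) (FT.leaf (Fct.mk true (nat_lit 33) (nat_lit 9836) (nat_lit 33) [nat_lit 8, nat_lit 6, nat_lit 7, nat_lit 5, nat_lit 6, nat_lit 4, nat_lit 5, nat_lit 2, nat_lit 3, nat_lit 4, nat_lit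 1, nat_lit 2, nat_lit 3, nat_lit 8, nat_lit 0, nat_lit 1, nat_lit 2, nat_lit 3, nat_lit 4, nat_lit 5, nat_lit 6, nat_lit 7, nat_lit 5, nat_lit 6, nat_lit 3, nat_lit 4, nat_lit 5, nat_lit 2, nat_lit 3, nat_lit 4, nat_lit 1, nat_lit 2, nat_lit 3, nat_lit 8, nat_lit 0, nat_lit 1, nat_lit 2, nat_lit 3, nat_lit 4, nat_lit 5, nat_lit 4, nat_lit 3, nat_lit 2, nat_lit 8, nat_lit 3, nat_lit 2, nat_lit 10, nat_lit 1, nat_lit 8, nat_lit 16, nat_lit 14, nat_lit 19] (Rl.inv (nat_lit 5196))))) (FT.node (nat_lit 5199) (FT.leaf (Fct.mk true (nat_lit 33) (nat_lit 64) (nat_lit 33) [nat_lit 5, nat_lit 4, nat_lit 3, nat_lit 8, nat_lit 2, nat_lit 3, nat_lit 4, nat_lit 1, nat_lit 2, nat_lit 3, nat_lit 8, nat_lit 5, nat_lit 6, nat_lit 4, nat_lit 5, nat_lit 3, nat_lit 4, nat_lit 2, nat_lit 3, nat_lit 8, nat_lit 1, nat_lit 2, nat_lit 3, nat_lit 4, nat_lit 5, nat_lit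 6, nat_lit 7, nat_lit 5, nat_lit 4, nat_lit 3, nat_lit 8, nat_lit 2, nat_lit 3, nat_lit 4, nat_lit 1, nat_lit 2, nat_lit 3, nat_lit 8, nat_lit 5, nat_lit 6, nat_lit 4, nat_lit 5, nat_lit 3, nat_lit 4, nat_lit 2, nat_lit 3, nat_lit 8, nat_lit 1, nat_lit 2, nat_lit 3, nat_lit 4, nat_lit 5, nat_lit 2, nat_lit 8, nat_lit 3, nat_lit 11, nat_lit 2, nat_lit 8, nat_lit 10, nat_lit 1, nat_lit 16, nat_lit 15, nat_lit 14, nat_lit 12, nat_lit 16] (Rl.t1 (nat_lit 5197) (nat_lit 5194)))) (FT.leaf (Fct.mk false (nat_lit 32) (nat_lit 0) (nat_lit 32) [nat_lit 6, nat_lit 5, nat_lit 4, nat_lit 3, nat_lit 8, nat_lit 2, nat_lit 3, nat_lit 4, nat_lit 1, nat_lit 2, nat_lit 3, nat_lit 8, nat_lit 5, nat_lit 6, nat_lit 4, nat_lit 5, nat_lit 3, nat_lit 4, nat_lit 2, nat_lit 3, nat_lit 8, nat_lit 1, nat_lit 2, nat_lit 3, nat_lit 4, nat_lit 5, nat_lit 1, nat_lit 8, nat_lit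 3, nat_lit 2, nat_lit 0, nat_lit 1, nat_lit 4, nat_lit 3, nat_lit 2, nat_lit 8, nat_lit 3, nat_lit 11, nat_lit 2, nat_lit 10, nat_lit 1, nat_lit 8, nat_lit 12, nat_lit 15, nat_lit 14, nat_lit 17] (Rl.cmp (nat_lit 3010) (nat_lit 4062)))))))))

/-- some facts -/
noncomputable def ftc104 : FT := FT.node (nat_lit 5225) (FT.node (nat_lit 5212) (FT.node (nat_lit 5206) (FT.node (nat_lit 5203) (FT.node (nat_lit 5201) (FT.leaf (Fct.mk false (nat_lit 32) (nat_lit 0) (nat_lit 32) [nat_lit 8, nat_lit 1, nat_lit 2, nat_lit 3, nat_lit 4, nat_lit 5, nat_lit 2, nat_lit 1, nat_lit 9, nat_lit 4, nat_lit 3, nat_lit 2, nat_lit 8, nat_lit 3, nat_lit 11, nat_lit 8, nat_lit 10, nat_lit 8, nat_lit 12, nat_lit 15, nat_lit 14, nat_lit 17, nat_lit 18, nat_lit 16] (Rl.cmp (nat_lit 3004) (nat_lit 5199)))) (FT.node (nat_lit 5202) (FT.leaf (Fct.mk false (nat_lit 32) (nat_lit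 0) (nat_lit 32) [nat_lit 2, nat_lit 3, nat_lit 8, nat_lit 6, nat_lit 4, nat_lit 5, nat_lit 3, nat_lit 4, nat_lit 2, nat_lit 3, nat_lit 8, nat_lit 1, nat_lit 2, nat_lit 3, nat_lit 4, nat_lit 5, nat_lit 2, nat_lit 1, nat_lit 8, nat_lit 3, nat_lit 2, nat_lit 0, nat_lit 1, nat_lit 9, nat_lit 4, nat_lit 3, nat_lit 2, nat_lit 8, nat_lit 3, nat_lit 10, nat_lit 1, nat_lit 16, nat_lit 14, nat_lit 13, nat_lit 12, nat_lit 19] (Rl.cmp (nat_lit 3004) (nat_lit 5200)))) (FT.leaf (Fct.mk false (nat_lit 33) (nat_lit 0) (nat_lit 33) [nat_lit 6, nat_lit 4, nat_lit 5, nat_lit 2, nat_lit 3, nat_lit 4, nat_lit 1, nat_lit 2, nat_lit 3, nat_lit 8, nat_lit 0, nat_lit 1, nat_lit 2, nat_lit 3, nat_lit 4, nat_lit 5, nat_lit 6, nat_lit 7, nat_lit 6, nat_lit 5, nat_lit 4, nat_lit 3, nat_lit 8, nat_lit 2, nat_lit 3, nat_lit 4, nat_lit 1, nat_lit 2, nat_lit 3, nat_lit 8,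 nat_lit 5, nat_lit 6, nat_lit 4, nat_lit 5, nat_lit 3, nat_lit 4, nat_lit 2, nat_lit 3, nat_lit 8, nat_lit 1, nat_lit 2, nat_lit 3, nat_lit 4, nat_lit 5, nat_lit 4, nat_lit 3, nat_lit 2, nat_lit 0, nat_lit 1, nat_lit 9, nat_lit 4, nat_lit 3, nat_lit 2, nat_lit 8, nat_lit 3, nat_lit 10, nat_lit 2, nat_lit 8, nat_lit 10, nat_lit 1, nat_lit 16, nat_lit 15, nat_lit 14, nat_lit 16, nat_lit 8, nat_lit 18] (Rl.cmp (nat_lit 4456) (nat_lit 4402)))))) (FT.node (nat_lit 5204) (FT.leaf (Fct.mk false (nat_lit 33) (nat_lit 0) (nat_lit 33) [nat_lit 3, nat_lit 8, nat_lit 2, nat_lit 3, nat_lit 4, nat_lit 1, nat_lit 2, nat_lit 3, nat_lit 8, nat_lit 5, nat_lit 6, nat_lit 4, nat_lit 5, nat_lit 3, nat_lit 4, nat_lit 2, nat_lit 3, nat_lit 8, nat_lit 1, nat_lit 2, nat_lit 3, nat_lit 4, nat_lit 5, nat_lit 6, nat_lit 7, nat_lit 3, nat_lit 8, nat_lit 2, nat_lit 3, nat_lit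 4, nat_lit 5, nat_lit 3, nat_lit 2, nat_lit 1, nat_lit 8, nat_lit 3, nat_lit 2, nat_lit 0, nat_lit 1, nat_lit 4, nat_lit 3, nat_lit 2, nat_lit 8, nat_lit 3, nat_lit 8, nat_lit 10, nat_lit 0, nat_lit 16, nat_lit 14, nat_lit 13, nat_lit 12, nat_lit 18] (Rl.cmp (nat_lit 4456) (nat_lit 5202)))) (FT.node (nat_lit 5205) (FT.leaf (Fct.mk false (nat_lit 33) (nat_lit 0) (nat_lit 33) [nat_lit 2, nat_lit 3, nat_lit 4, nat_lit 1, nat_lit 2, nat_lit 3, nat_lit 8, nat_lit 6, nat_lit 7, nat_lit 5, nat_lit 6, nat_lit 4, nat_lit 5, nat_lit 3, nat_lit 4, nat_lit 2, nat_lit 3, nat_lit 8, nat_lit 1, nat_lit 2, nat_lit 3, nat_lit 4, nat_lit 5, nat_lit 6, nat_lit 7, nat_lit 8, nat_lit 2, nat_lit 3, nat_lit 4, nat_lit 1, nat_lit 2, nat_lit 3, nat_lit 8, nat_lit 5, nat_lit 6, nat_lit 4, nat_lit 5, nat_lit 3, nat_lit 4, nat_lit 2, nat_lit 3, nat_lit 8, nat_lit 1, nat_lit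 2, nat_lit 3, nat_lit 4, nat_lit 5, nat_lit 4, nat_lit 3, nat_lit 2, nat_lit 8, nat_lit 3, nat_lit 2, nat_lit 10, nat_lit 1, nat_lit 16, nat_lit 8, nat_lit 18] (Rl.cmp (nat_lit 4456) (nat_lit 5203)))) (FT.leaf (Fct.mk false (nat_lit 33) (nat_lit 0) (nat_lit 33) [nat_lit 4, nat_lit 3, nat_lit 8, nat_lit 2, nat_lit 3, nat_lit 4, nat_lit 1, nat_lit 2, nat_lit 3, nat_lit 8, nat_lit 0, nat_lit 1, nat_lit 2, nat_lit 3, nat_lit 4, nat_lit 5, nat_lit 6, nat_lit 7, nat_lit 2, nat_lit 3, nat_lit 8, nat_lit 4, nat_lit 5, nat_lit 3, nat_lit 4, nat_lit 2, nat_lit 3, nat_lit 8, nat_lit 1, nat_lit 2, nat_lit 3, nat_lit 4, nat_lit 5, nat_lit 9, nat_lit 4, nat_lit 15, nat_lit 14, nat_lit 12, nat_lit 19, nat_lit 16] (Rl.cmp (nat_lit 4605) (nat_lit 5204))))))) (FT.node (nat_lit 5209) (FT.node (nat_lit 5207) (FT.leaf (Fct.mk false (nat_lit 33) (nat_lit 0) (nat_lit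 33) [nat_lit 3, nat_lit 4, nat_lit 5, nat_lit 2, nat_lit 3, nat_lit 4, nat_lit 1, nat_lit 2, nat_lit 3, nat_lit 8, nat_lit 0, nat_lit 1, nat_lit 2, nat_lit 3, nat_lit 4, nat_lit 5, nat_lit 6, nat_lit 7, nat_lit 5, nat_lit 4, nat_lit 2, nat_lit 3, nat_lit 8, nat_lit 1, nat_lit 2, nat_lit 3, nat_lit 4, nat_lit 5, nat_lit 1, nat_lit 8, nat_lit 3, nat_lit 2, nat_lit 0, nat_lit 1, nat_lit 4, nat_lit 3, nat_lit 2, nat_lit 8, nat_lit 3, nat_lit 11, nat_lit 10, nat_lit 16, nat_lit 12, nat_lit 15, nat_lit 14, nat_lit 12, nat_lit 19] (Rl.cmp (nat_lit 4605) (nat_lit 4605)))) (FT.node (nat_lit 5208) (FT.leaf (Fct.mk false (nat_lit 33) (nat_lit 0) (nat_lit 33) [nat_lit 4, nat_lit 1, nat_lit 2, nat_lit 3, nat_lit 8, nat_lit 0, nat_lit 1, nat_lit 2, nat_lit 3, nat_lit 4, nat_lit 5, nat_lit 6, nat_lit 7, nat_lit 8, nat_lit 5, nat_lit 3, nat_lit 4, nat_lit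 1, nat_lit 2, nat_lit 3, nat_lit 8, nat_lit 0, nat_lit 1, nat_lit 2, nat_lit 3, nat_lit 4, nat_lit 5, nat_lit 10, nat_lit 12, nat_lit 8, nat_lit 16, nat_lit 14, nat_lit 13, nat_lit 19, nat_lit 16] (Rl.cmp (nat_lit 4456) (nat_lit 5206)))) (FT.leaf (Fct.mk false (nat_lit 33) (nat_lit 0) (nat_lit 33) [nat_lit 4, nat_lit 1, nat_lit 2, nat_lit 3, nat_lit 8, nat_lit 7, nat_lit 5, nat_lit 6, nat_lit 4, nat_lit 5, nat_lit 3, nat_lit 4, nat_lit 2, nat_lit 3, nat_lit 8, nat_lit 1, nat_lit 2, nat_lit 3, nat_lit 4, nat_lit 5, nat_lit 6, nat_lit 7, nat_lit 5, nat_lit 6, nat_lit 4, nat_lit 5, nat_lit 3, nat_lit 4, nat_lit 1, nat_lit 2, nat_lit 3, nat_lit 8, nat_lit 0, nat_lit 1, nat_lit 2, nat_lit 3, nat_lit 4, nat_lit 5, nat_lit 4, nat_lit 3, nat_lit 2, nat_lit 0, nat_lit 1, nat_lit 9, nat_lit 4, nat_lit 3, nat_lit 2, nat_lit 8, nat_lit 3, nat_lit 11, nat_lit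 2, nat_lit 8, nat_lit 10, nat_lit 1, nat_lit 16, nat_lit 15, nat_lit 14, nat_lit 8, nat_lit 19] (Rl.cmp (nat_lit 4605) (nat_lit 5207)))))) (FT.node (nat_lit 5210) (FT.leaf (Fct.mk false (nat_lit 33) (nat_lit 0) (nat_lit 33) [nat_lit 8, nat_lit 7, nat_lit 5, nat_lit 6, nat_lit 4, nat_lit 5, nat_lit 3, nat_lit 4, nat_lit 2, nat_lit 3, nat_lit 8, nat_lit 0, nat_lit 1, nat_lit 2, nat_lit 3, nat_lit 4, nat_lit 5, nat_lit 6, nat_lit 7, nat_lit 4, nat_lit 2, nat_lit 3, nat_lit 8, nat_lit 5, nat_lit 6, nat_lit 4, nat_lit 5, nat_lit 3, nat_lit 4, nat_lit 2, nat_lit 3, nat_lit 8, nat_lit 0, nat_lit 1, nat_lit 2, nat_lit 3, nat_lit 4, nat_lit 5, nat_lit 0, nat_lit 1, nat_lit 2, nat_lit 8, nat_lit 3, nat_lit 8, nat_lit 12, nat_lit 15, nat_lit 14, nat_lit 16, nat_lit 8, nat_lit 18] (Rl.cmp (nat_lit 4456) (nat_lit 5208)))) (FT.node (nat_lit 5211) (FT.leaf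 (Fct.mk false (nat_lit 33) (nat_lit 0) (nat_lit 33) [nat_lit 5, nat_lit 4, nat_lit 1, nat_lit 2, nat_lit 3, nat_lit 8, nat_lit 0, nat_lit 1, nat_lit 2, nat_lit 3, nat_lit 4, nat_lit 5, nat_lit 6, nat_lit 7, nat_lit 3, nat_lit 4, nat_lit 2, nat_lit 3, nat_lit 8, nat_lit 5, nat_lit 6, nat_lit 4, nat_lit 5, nat_lit 3, nat_lit 4, nat_lit 2, nat_lit 3, nat_lit 8, nat_lit 1, nat_lit 2, nat_lit 3, nat_lit 4, nat_lit 5, nat_lit 1, nat_lit 4, nat_lit 3, nat_lit 2, nat_lit 0, nat_lit 1, nat_lit 9, nat_lit 4, nat_lit 3, nat_lit 2, nat_lit 8, nat_lit 3, nat_lit 11, nat_lit 9, nat_lit 10, nat_lit 2, nat_lit 8, nat_lit 10, nat_lit 1, nat_lit 16, nat_lit 15, nat_lit 14, nat_lit 8, nat_lit 19] (Rl.cmp (nat_lit 4400) (nat_lit 5209)))) (FT.leaf (Fct.mk true (nat_lit 33) (nat_lit 22995) (nat_lit 33) [nat_lit 2, nat_lit 3, nat_lit 4, nat_lit 1, nat_lit 2, nat_lit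 3, nat_lit 8, nat_lit 6, nat_lit 7, nat_lit 5, nat_lit 6, nat_lit 4, nat_lit 5, nat_lit 3, nat_lit 4, nat_lit 2, nat_lit 3, nat_lit 8, nat_lit 1, nat_lit 2, nat_lit 3, nat_lit 4, nat_lit 5, nat_lit 6, nat_lit 7, nat_lit 6, nat_lit 5, nat_lit 4, nat_lit 2, nat_lit 3, nat_lit 8, nat_lit 1, nat_lit 2, nat_lit 3, nat_lit 4, nat_lit 5, nat_lit 8, nat_lit 4, nat_lit 3, nat_lit 2, nat_lit 0, nat_lit 1, nat_lit 9, nat_lit 4, nat_lit 3, nat_lit 2, nat_lit 8, nat_lit 3, nat_lit 10, nat_lit 9, nat_lit 2, nat_lit 8, nat_lit 16, nat_lit 14, nat_lit 17, nat_lit 12, nat_lit 18, nat_lit 16] (Rl.rel (nat_lit 0) [nat_lit 8, nat_lit 3, nat_lit 4, nat_lit 5, nat_lit 6, nat_lit 7, nat_lit 2, nat_lit 3, nat_lit 8, nat_lit 1, nat_lit 2, nat_lit 3, nat_lit 4, nat_lit 5, nat_lit 2, nat_lit 3, nat_lit 0, nat_lit 2, nat_lit 15, nat_lit 14, nat_lit 19] (nat_lit 33) (nat_lit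 2) [nat_lit 4827, nat_lit 5201, nat_lit 4580] []))))))) (FT.node (nat_lit 5218) (FT.node (nat_lit 5215) (FT.node (nat_lit 5213) (FT.leaf (Fct.mk true (nat_lit 33) (nat_lit 209) (nat_lit 33) [nat_lit 2, nat_lit 3, nat_lit 8, nat_lit 4, nat_lit 5, nat_lit 3, nat_lit 4, nat_lit 2, nat_lit 3, nat_lit 8, nat_lit 1, nat_lit 2, nat_lit 3, nat_lit 4, nat_lit 5, nat_lit 6, nat_lit 7, nat_lit 4, nat_lit 3, nat_lit 8, nat_lit 1, nat_lit 2, nat_lit 3, nat_lit 4, nat_lit 5, nat_lit 1, nat_lit 4, nat_lit 3, nat_lit 2, nat_lit 8, nat_lit 3, nat_lit 11, nat_lit 2, nat_lit 15, nat_lit 17, nat_lit 12, nat_lit 18] (Rl.t1 (nat_lit 5211) (nat_lit 5205)))) (FT.node (nat_lit 5214) (FT.leaf (Fct.mk true (nat_lit 33) (nat_lit 74847) (nat_lit 33) [nat_lit 6, nat_lit 5, nat_lit 4, nat_lit 3, nat_lit 8, nat_lit 2, nat_lit 3, nat_lit 4, nat_lit 5, nat_lit 6, nat_lit 7,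 nat_lit 3, nat_lit 4, nat_lit 2, nat_lit 3, nat_lit 8, nat_lit 5, nat_lit 6, nat_lit 4, nat_lit 5, nat_lit 3, nat_lit 4, nat_lit 2, nat_lit 3, nat_lit 8, nat_lit 0, nat_lit 1, nat_lit 2, nat_lit 3, nat_lit 4, nat_lit 5, nat_lit 0, nat_lit 1, nat_lit 3, nat_lit 2, nat_lit 8, nat_lit 3, nat_lit 11, nat_lit 2, nat_lit 8, nat_lit 10, nat_lit 1, nat_lit 8, nat_lit 12, nat_lit 15, nat_lit 14, nat_lit 12, nat_lit 16] (Rl.inv (nat_lit 5212)))) (FT.leaf (Fct.mk true (nat_lit 33) (nat_lit 92) (nat_lit 33) [nat_lit 4, nat_lit 5, nat_lit 6, nat_lit 7, nat_lit 5, nat_lit 4, nat_lit 3, nat_lit 8, nat_lit 0, nat_lit 1, nat_lit 2, nat_lit 3, nat_lit 4, nat_lit 5, nat_lit 2, nat_lit 1, nat_lit 3, nat_lit 2, nat_lit 0, nat_lit 1, nat_lit 9, nat_lit 4, nat_lit 3, nat_lit 2, nat_lit 8, nat_lit 3, nat_lit 11, nat_lit 1, nat_lit 16, nat_lit 8, nat_lit 12, nat_lit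 15, nat_lit 13, nat_lit 12, nat_lit 18, nat_lit 16] (Rl.t1 (nat_lit 5213) (nat_lit 5210)))))) (FT.node (nat_lit 5216) (FT.leaf (Fct.mk false (nat_lit 32) (nat_lit 0) (nat_lit 32) [nat_lit 3, nat_lit 8, nat_lit 5, nat_lit 2, nat_lit 3, nat_lit 4, nat_lit 1, nat_lit 2, nat_lit 3, nat_lit 8, nat_lit 6, nat_lit 7, nat_lit 5, nat_lit 6, nat_lit 4, nat_lit 5, nat_lit 3, nat_lit 4, nat_lit 2, nat_lit 3, nat_lit 8, nat_lit 1, nat_lit 2, nat_lit 3, nat_lit 4, nat_lit 5, nat_lit 6, nat_lit 7, nat_lit 5, nat_lit 4, nat_lit 3, nat_lit 8, nat_lit 0, nat_lit 1, nat_lit 2, nat_lit 3, nat_lit 4, nat_lit 5, nat_lit 2, nat_lit 1, nat_lit 3, nat_lit 2, nat_lit 0, nat_lit 1, nat_lit 4, nat_lit 3, nat_lit 2, nat_lit 8, nat_lit 3, nat_lit 9, nat_lit 10, nat_lit 2, nat_lit 8, nat_lit 10, nat_lit 1, nat_lit 8, nat_lit 12, nat_lit 15, nat_lit 19] (Rl.cmp (nat_lit 3456)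 (nat_lit 4308)))) (FT.node (nat_lit 5217) (FT.leaf (Fct.mk false (nat_lit 32) (nat_lit 0) (nat_lit 32) [nat_lit 3, nat_lit 8, nat_lit 5, nat_lit 2, nat_lit 3, nat_lit 4, nat_lit 1, nat_lit 2, nat_lit 3, nat_lit 8, nat_lit 6, nat_lit 7, nat_lit 5, nat_lit 6, nat_lit 4, nat_lit 5, nat_lit 3, nat_lit 4, nat_lit 2, nat_lit 3, nat_lit 8, nat_lit 1, nat_lit 2, nat_lit 3, nat_lit 4, nat_lit 5, nat_lit 6, nat_lit 7, nat_lit 8, nat_lit 6, nat_lit 5, nat_lit 3, nat_lit 4, nat_lit 2, nat_lit 3, nat_lit 8, nat_lit 1, nat_lit 2, nat_lit 3, nat_lit 4, nat_lit 5, nat_lit 3, nat_lit 8, nat_lit 4, nat_lit 3, nat_lit 2, nat_lit 1, nat_lit 9, nat_lit 4, nat_lit 3, nat_lit 2, nat_lit 8, nat_lit 3, nat_lit 9, nat_lit 14, nat_lit 16, nat_lit 8] (Rl.cmp (nat_lit 3004) (nat_lit 5215)))) (FT.leaf (Fct.mk false (nat_lit 32) (nat_lit 0) (nat_lit 32) [nat_lit 1, nat_lit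 2, nat_lit 3, nat_lit 8, nat_lit 4, nat_lit 5, nat_lit 3, nat_lit 4, nat_lit 2, nat_lit 3, nat_lit 8, nat_lit 1, nat_lit 2, nat_lit 3, nat_lit 4, nat_lit 5, nat_lit 2, nat_lit 1, nat_lit 3, nat_lit 2, nat_lit 0, nat_lit 1, nat_lit 4, nat_lit 3, nat_lit 2, nat_lit 8, nat_lit 3, nat_lit 8, nat_lit 10, nat_lit 1, nat_lit 8, nat_lit 12, nat_lit 15, nat_lit 14, nat_lit 8, nat_lit 18] (Rl.cmp (nat_lit 3456) (nat_lit 5216))))))) (FT.node (nat_lit 5221) (FT.node (nat_lit 5219) (FT.leaf (Fct.mk false (nat_lit 33) (nat_lit 0) (nat_lit 33) [nat_lit 3, nat_lit 4, nat_lit 5, nat_lit 2, nat_lit 3, nat_lit 4, nat_lit 1, nat_lit 2, nat_lit 3, nat_lit 8, nat_lit 0, nat_lit 1, nat_lit 2, nat_lit 3, nat_lit 4, nat_lit 5, nat_lit 6, nat_lit 7, nat_lit 5, nat_lit 4, nat_lit 2, nat_lit 3, nat_lit 8, nat_lit 1, nat_lit 2, nat_lit 3, nat_lit 4, nat_lit 5, nat_lit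 1, nat_lit 8, nat_lit 3, nat_lit 2, nat_lit 0, nat_lit 1, nat_lit 4, nat_lit 3, nat_lit 2, nat_lit 8, nat_lit 3, nat_lit 11, nat_lit 10, nat_lit 16, nat_lit 12, nat_lit 15, nat_lit 14, nat_lit 12, nat_lit 19] (Rl.cmp (nat_lit 4605) (nat_lit 4605)))) (FT.node (nat_lit 5220) (FT.leaf (Fct.mk false (nat_lit 33) (nat_lit 0) (nat_lit 33) [nat_lit 4, nat_lit 1, nat_lit 2, nat_lit 3, nat_lit 8, nat_lit 0, nat_lit 1, nat_lit 2, nat_lit 3, nat_lit 4, nat_lit 5, nat_lit 6, nat_lit 7, nat_lit 8, nat_lit 5, nat_lit 3, nat_lit 4, nat_lit 1, nat_lit 2, nat_lit 3, nat_lit 8, nat_lit 0, nat_lit 1, nat_lit 2, nat_lit 3, nat_lit 4, nat_lit 5, nat_lit 10, nat_lit 12, nat_lit 8, nat_lit 16, nat_lit 14, nat_lit 13, nat_lit 19, nat_lit 16] (Rl.cmp (nat_lit 4456) (nat_lit 5218)))) (FT.leaf (Fct.mk false (nat_lit 33) (nat_lit 0) (nat_lit 33) [nat_lit 4, nat_lit 1,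 nat_lit 2, nat_lit 3, nat_lit 8, nat_lit 7, nat_lit 5, nat_lit 6, nat_lit 4, nat_lit 5, nat_lit 3, nat_lit 4, nat_lit 2, nat_lit 3, nat_lit 8, nat_lit 1, nat_lit 2, nat_lit 3, nat_lit 4, nat_lit 5, nat_lit 6, nat_lit 7, nat_lit 5, nat_lit 6, nat_lit 4, nat_lit 5, nat_lit 3, nat_lit 4, nat_lit 1, nat_lit 2, nat_lit 3, nat_lit 8, nat_lit 0, nat_lit 1, nat_lit 2, nat_lit 3, nat_lit 4, nat_lit 5, nat_lit 4, nat_lit 3, nat_lit 2, nat_lit 0, nat_lit 1, nat_lit 9, nat_lit 4, nat_lit 3, nat_lit 2, nat_lit 8, nat_lit 3, nat_lit 11, nat_lit 2, nat_lit 8, nat_lit 10, nat_lit 1, nat_lit 16, nat_lit 15, nat_lit 14, nat_lit 8, nat_lit 19] (Rl.cmp (nat_lit 4605) (nat_lit 5219)))))) (FT.node (nat_lit 5223) (FT.node (nat_lit 5222) (FT.leaf (Fct.mk false (nat_lit 33) (nat_lit 0) (nat_lit 33) [nat_lit 4, nat_lit 3, nat_lit 8, nat_lit 2, nat_lit 3, nat_lit 4,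 nat_lit 5, nat_lit 6, nat_lit 7, nat_lit 8, nat_lit 5, nat_lit 3, nat_lit 4, nat_lit 1, nat_lit 2, nat_lit 3, nat_lit 8, nat_lit 0, nat_lit 1, nat_lit 2, nat_lit 3, nat_lit 4, nat_lit 5, nat_lit 2, nat_lit 1, nat_lit 9, nat_lit 4, nat_lit 3, nat_lit 2, nat_lit 8, nat_lit 3, nat_lit 1, nat_lit 9, nat_lit 16, nat_lit 14, nat_lit 13, nat_lit 12, nat_lit 19, nat_lit 16] (Rl.cmp (nat_lit 4400) (nat_lit 5220)))) (FT.leaf (Fct.mk true (nat_lit 32) (nat_lit 54517) (nat_lit 33) [nat_lit 8, nat_lit 7, nat_lit 6, nat_lit 4, nat_lit 5, nat_lit 2, nat_lit 3, nat_lit 4, nat_lit 1, nat_lit 2, nat_lit 3, nat_lit 8, nat_lit 0, nat_lit 1, nat_lit 2, nat_lit 3, nat_lit 4, nat_lit 5, nat_lit 6, nat_lit 7, nat_lit 8, nat_lit 5, nat_lit 3, nat_lit 4, nat_lit 1, nat_lit 2, nat_lit 3, nat_lit 8, nat_lit 0, nat_lit 1, nat_lit 2, nat_lit 3, nat_lit 4, nat_lit 5, nat_lit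 1, nat_lit 2, nat_lit 8, nat_lit 3, nat_lit 15, nat_lit 14, nat_lit 8, nat_lit 19, nat_lit 16] (Rl.rel (nat_lit 0) [nat_lit 8, nat_lit 3, nat_lit 4, nat_lit 5, nat_lit 6, nat_lit 7, nat_lit 8, nat_lit 2, nat_lit 3, nat_lit 4, nat_lit 5, nat_lit 1, nat_lit 2, nat_lit 8, nat_lit 3, nat_lit 10, nat_lit 0, nat_lit 12, nat_lit 15, nat_lit 14, nat_lit 19] (nat_lit 33) (nat_lit 2) [nat_lit 4827, nat_lit 5217, nat_lit 3582] [])))) (FT.node (nat_lit 5224) (FT.leaf (Fct.mk true (nat_lit 32) (nat_lit 1908) (nat_lit 33) [nat_lit 7, nat_lit 6, nat_lit 5, nat_lit 3, nat_lit 4, nat_lit 2, nat_lit 3, nat_lit 8, nat_lit 0, nat_lit 1, nat_lit 2, nat_lit 3, nat_lit 4, nat_lit 5, nat_lit 6, nat_lit 7, nat_lit 3, nat_lit 8, nat_lit 5, nat_lit 6, nat_lit 4, nat_lit 5, nat_lit 3, nat_lit 4, nat_lit 1, nat_lit 2, nat_lit 3, nat_lit 8, nat_lit 0, nat_lit 1, nat_lit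 2, nat_lit 3, nat_lit 4, nat_lit 5, nat_lit 4, nat_lit 3, nat_lit 2, nat_lit 0, nat_lit 1, nat_lit 9, nat_lit 4, nat_lit 3, nat_lit 2, nat_lit 8, nat_lit 3, nat_lit 0, nat_lit 2, nat_lit 12, nat_lit 15, nat_lit 14, nat_lit 19] (Rl.t1 (nat_lit 5222) (nat_lit 4339)))) (FT.leaf (Fct.mk true (nat_lit 33) (nat_lit 99034) (nat_lit 32) [nat_lit 2, nat_lit 3, nat_lit 8, nat_lit 7, nat_lit 6, nat_lit 4, nat_lit 5, nat_lit 3, nat_lit 4, nat_lit 2, nat_lit 3, nat_lit 8, nat_lit 0, nat_lit 1, nat_lit 2, nat_lit 3, nat_lit 4, nat_lit 5, nat_lit 6, nat_lit 7, nat_lit 8, nat_lit 4, nat_lit 5, nat_lit 3, nat_lit 4, nat_lit 1, nat_lit 2, nat_lit 3, nat_lit 8, nat_lit 0, nat_lit 1, nat_lit 2, nat_lit 3, nat_lit 4, nat_lit 5, nat_lit 3, nat_lit 2, nat_lit 1, nat_lit 9, nat_lit 4, nat_lit 3, nat_lit 2, nat_lit 8, nat_lit 3, nat_lit 8, nat_lit 10, nat_lit 9, nat_lit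 2, nat_lit 14, nat_lit 17, nat_lit 12, nat_lit 19, nat_lit 16] (Rl.inv (nat_lit 5223))))))))) (FT.node (nat_lit 5237) (FT.node (nat_lit 5231) (FT.node (nat_lit 5228) (FT.node (nat_lit 5226) (FT.leaf (Fct.mk true (nat_lit 33) (nat_lit 5) (nat_lit 32) [nat_lit 8, nat_lit 3, nat_lit 4, nat_lit 1, nat_lit 2, nat_lit 3, nat_lit 8, nat_lit 5, nat_lit 6, nat_lit 4, nat_lit 5, nat_lit 3, nat_lit 4, nat_lit 2, nat_lit 3, nat_lit 8, nat_lit 1, nat_lit 2, nat_lit 3, nat_lit 4, nat_lit 5, nat_lit 6, nat_lit 7, nat_lit 8, nat_lit 4, nat_lit 5, nat_lit 2, nat_lit 3, nat_lit 4, nat_lit 1, nat_lit 2, nat_lit 3, nat_lit 8, nat_lit 0, nat_lit 1, nat_lit 2, nat_lit 3, nat_lit 4, nat_lit 5, nat_lit 0, nat_lit 1, nat_lit 3, nat_lit 2, nat_lit 8, nat_lit 3, nat_lit 11, nat_lit 2, nat_lit 8, nat_lit 16, nat_lit 14, nat_lit 13, nat_lit 12] (Rl.t1 (nat_lit 5224) (nat_lit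 5221)))) (FT.node (nat_lit 5227) (FT.leaf (Fct.mk false (nat_lit 33) (nat_lit 0) (nat_lit 33) [nat_lit 5, nat_lit 6, nat_lit 4, nat_lit 5, nat_lit 3, nat_lit 4, nat_lit 2, nat_lit 3, nat_lit 8, nat_lit 1, nat_lit 2, nat_lit 3, nat_lit 4, nat_lit 5, nat_lit 6, nat_lit 7, nat_lit 9, nat_lit 4, nat_lit 3, nat_lit 2, nat_lit 8, nat_lit 3, nat_lit 11, nat_lit 1, nat_lit 12, nat_lit 15, nat_lit 14, nat_lit 13, nat_lit 12] (Rl.cmp (nat_lit 4402) (nat_lit 4456)))) (FT.leaf (Fct.mk false (nat_lit 33) (nat_lit 0) (nat_lit 33) [nat_lit 1, nat_lit 2, nat_lit 3, nat_lit 8, nat_lit 7, nat_lit 5, nat_lit 6, nat_lit 4, nat_lit 5, nat_lit 3, nat_lit 4, nat_lit 2, nat_lit 3, nat_lit 8, nat_lit 1, nat_lit 2, nat_lit 3, nat_lit 4, nat_lit 5, nat_lit 6, nat_lit 7, nat_lit 8, nat_lit 3, nat_lit 4, nat_lit 2, nat_lit 3, nat_lit 8, nat_lit 1, nat_lit 2, nat_lit 3,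 nat_lit 4, nat_lit 5, nat_lit 2, nat_lit 1, nat_lit 3, nat_lit 2, nat_lit 0, nat_lit 1, nat_lit 4, nat_lit 3, nat_lit 2, nat_lit 8, nat_lit 3, nat_lit 8, nat_lit 10, nat_lit 1, nat_lit 14, nat_lit 13] (Rl.cmp (nat_lit 4605) (nat_lit 5226)))))) (FT.node (nat_lit 5229) (FT.leaf (Fct.mk false (nat_lit 33) (nat_lit 0) (nat_lit 33) [nat_lit 4, nat_lit 5, nat_lit 3, nat_lit 4, nat_lit 2, nat_lit 3, nat_lit 8, nat_lit 0, nat_lit 1, nat_lit 2, nat_lit 3, nat_lit 4, nat_lit 5, nat_lit 6, nat_lit 7, nat_lit 4, nat_lit 5, nat_lit 3, nat_lit 4, nat_lit 1, nat_lit 2, nat_lit 3, nat_lit 8, nat_lit 0, nat_lit 1, nat_lit 2, nat_lit 3, nat_lit 4, nat_lit 5, nat_lit 2, nat_lit 1, nat_lit 3, nat_lit 2, nat_lit 0, nat_lit 1, nat_lit 4, nat_lit 3, nat_lit 2, nat_lit 8, nat_lit 3, nat_lit 10, nat_lit 1, nat_lit 15, nat_lit 8, nat_lit 19, nat_lit 16] (Rl.cmp (nat_lit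 4605) (nat_lit 5227)))) (FT.node (nat_lit 5230) (FT.leaf (Fct.mk false (nat_lit 33) (nat_lit 0) (nat_lit 33) [nat_lit 5, nat_lit 2, nat_lit 3, nat_lit 4, nat_lit 1, nat_lit 2, nat_lit 3, nat_lit 8, nat_lit 0, nat_lit 1, nat_lit 2, nat_lit 3, nat_lit 4, nat_lit 5, nat_lit 6, nat_lit 7, nat_lit 3, nat_lit 4, nat_lit 2, nat_lit 3, nat_lit 8, nat_lit 1, nat_lit 2, nat_lit 3, nat_lit 4, nat_lit 5, nat_lit 3, nat_lit 2, nat_lit 1, nat_lit 4, nat_lit 3, nat_lit 2, nat_lit 0, nat_lit 1, nat_lit 9, nat_lit 4, nat_lit 3, nat_lit 2, nat_lit 8, nat_lit 3, nat_lit 9, nat_lit 10, nat_lit 2, nat_lit 8, nat_lit 10, nat_lit 1, nat_lit 15, nat_lit 14, nat_lit 16, nat_lit 8] (Rl.cmp (nat_lit 4402) (nat_lit 5228)))) (FT.leaf (Fct.mk false (nat_lit 33) (nat_lit 0) (nat_lit 33) [nat_lit 2, nat_lit 3, nat_lit 4, nat_lit 5, nat_lit 6, nat_lit 7, nat_lit 5, nat_lit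 3, nat_lit 4, nat_lit 2, nat_lit 3, nat_lit 8, nat_lit 0, nat_lit 1, nat_lit 2, nat_lit 3, nat_lit 4, nat_lit 5, nat_lit 4, nat_lit 3, nat_lit 2, nat_lit 0, nat_lit 1, nat_lit 9, nat_lit 4, nat_lit 3, nat_lit 2, nat_lit 8, nat_lit 3, nat_lit 9, nat_lit 10, nat_lit 2, nat_lit 8, nat_lit 10, nat_lit 1, nat_lit 16, nat_lit 15, nat_lit 14, nat_lit 17, nat_lit 12] (Rl.cmp (nat_lit 4400) (nat_lit 4605))))))) (FT.node (nat_lit 5234) (FT.node (nat_lit 5232) (FT.leaf (Fct.mk false (nat_lit 33) (nat_lit 0) (nat_lit 33) [nat_lit 7, nat_lit 5, nat_lit 6, nat_lit 4, nat_lit 5, nat_lit 3, nat_lit 4, nat_lit 2, nat_lit 3, nat_lit 8, nat_lit 1, nat_lit 2, nat_lit 3, nat_lit 4, nat_lit 5, nat_lit 6, nat_lit 7, nat_lit 6, nat_lit 5, nat_lit 3, nat_lit 4, nat_lit 2, nat_lit 3, nat_lit 8, nat_lit 0, nat_lit 1, nat_lit 2, nat_lit 3, nat_lit 4, nat_lit 5, nat_lit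 8, nat_lit 4, nat_lit 3, nat_lit 2, nat_lit 0, nat_lit 1, nat_lit 9, nat_lit 4, nat_lit 3, nat_lit 2, nat_lit 8, nat_lit 3, nat_lit 0, nat_lit 2, nat_lit 15, nat_lit 13, nat_lit 12, nat_lit 19] (Rl.cmp (nat_lit 4456) (nat_lit 5230)))) (FT.node (nat_lit 5233) (FT.leaf (Fct.mk false (nat_lit 33) (nat_lit 0) (nat_lit 33) [nat_lit 3, nat_lit 8, nat_lit 4, nat_lit 5, nat_lit 3, nat_lit 4, nat_lit 1, nat_lit 2, nat_lit 3, nat_lit 8, nat_lit 0, nat_lit 1, nat_lit 2, nat_lit 3, nat_lit 4, nat_lit 5, nat_lit 6, nat_lit 7, nat_lit 5, nat_lit 2, nat_lit 3, nat_lit 4, nat_lit 1, nat_lit 2, nat_lit 3, nat_lit 8, nat_lit 0, nat_lit 1, nat_lit 2, nat_lit 3, nat_lit 4, nat_lit 5, nat_lit 8, nat_lit 4, nat_lit 3, nat_lit 2, nat_lit 1, nat_lit 9, nat_lit 4, nat_lit 3, nat_lit 2, nat_lit 8, nat_lit 3, nat_lit 0, nat_lit 12, nat_lit 8, nat_lit 16, nat_lit 14,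 nat_lit 17, nat_lit 19, nat_lit 16] (Rl.cmp (nat_lit 4456) (nat_lit 5231)))) (FT.leaf (Fct.mk false (nat_lit 33) (nat_lit 0) (nat_lit 33) [nat_lit 7, nat_lit 5, nat_lit 6, nat_lit 4, nat_lit 5, nat_lit 2, nat_lit 3, nat_lit 4, nat_lit 1, nat_lit 2, nat_lit 3, nat_lit 8, nat_lit 0, nat_lit 1, nat_lit 2, nat_lit 3, nat_lit 4, nat_lit 5, nat_lit 6, nat_lit 7, nat_lit 5, nat_lit 6, nat_lit 4, nat_lit 5, nat_lit 2, nat_lit 3, nat_lit 4, nat_lit 1, nat_lit 2, nat_lit 3, nat_lit 8, nat_lit 0, nat_lit 1, nat_lit 2, nat_lit 3, nat_lit 4, nat_lit 5, nat_lit 8, nat_lit 3, nat_lit 2, nat_lit 1, nat_lit 9, nat_lit 4, nat_lit 3, nat_lit 2, nat_lit 8, nat_lit 3, nat_lit 1, nat_lit 0, nat_lit 2, nat_lit 12, nat_lit 15, nat_lit 13, nat_lit 12, nat_lit 18, nat_lit 16] (Rl.cmp (nat_lit 4400) (nat_lit 5232)))))) (FT.node (nat_lit 5235) (FT.leaf (Fct.mk true (nat_lit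 33) (nat_lit 34241) (nat_lit 33) [nat_lit 5, nat_lit 2, nat_lit 3, nat_lit 4, nat_lit 1, nat_lit 2, nat_lit 3, nat_lit 8, nat_lit 0, nat_lit 1, nat_lit 2, nat_lit 3, nat_lit 4, nat_lit 5, nat_lit 6, nat_lit 7, nat_lit 4, nat_lit 1, nat_lit 2, nat_lit 3, nat_lit 8, nat_lit 0, nat_lit 1, nat_lit 2, nat_lit 3, nat_lit 4, nat_lit 5, nat_lit 3, nat_lit 2, nat_lit 0, nat_lit 1, nat_lit 4, nat_lit 3, nat_lit 2, nat_lit 8, nat_lit 3, nat_lit 11, nat_lit 10, nat_lit 2, nat_lit 8, nat_lit 10, nat_lit 1, nat_lit 8, nat_lit 12, nat_lit 15, nat_lit 14, nat_lit 17, nat_lit 18] (Rl.rel (nat_lit 0) [nat_lit 8, nat_lit 3, nat_lit 4, nat_lit 5, nat_lit 6, nat_lit 7, nat_lit 2, nat_lit 3, nat_lit 8, nat_lit 1, nat_lit 2, nat_lit 3, nat_lit 4, nat_lit 5, nat_lit 2, nat_lit 3, nat_lit 10, nat_lit 12, nat_lit 15, nat_lit 14, nat_lit 19] (nat_lit 33) (nat_lit 2)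 [nat_lit 4827, nat_lit 4214, nat_lit 4932] []))) (FT.node (nat_lit 5236) (FT.leaf (Fct.mk true (nat_lit 33) (nat_lit 146) (nat_lit 33) [nat_lit 3, nat_lit 8, nat_lit 5, nat_lit 6, nat_lit 4, nat_lit 5, nat_lit 3, nat_lit 4, nat_lit 2, nat_lit 3, nat_lit 8, nat_lit 1, nat_lit 2, nat_lit 3, nat_lit 4, nat_lit 5, nat_lit 4, nat_lit 3, nat_lit 2, nat_lit 8, nat_lit 3, nat_lit 9, nat_lit 12, nat_lit 15, nat_lit 14, nat_lit 19] (Rl.t1 (nat_lit 5234) (nat_lit 5229)))) (FT.leaf (Fct.mk true (nat_lit 33) (nat_lit 102971) (nat_lit 33) [nat_lit 5, nat_lit 3, nat_lit 4, nat_lit 1, nat_lit 2, nat_lit 3, nat_lit 8, nat_lit 0, nat_lit 1, nat_lit 2, nat_lit 3, nat_lit 4, nat_lit 5, nat_lit 8, nat_lit 3, nat_lit 2, nat_lit 1, nat_lit 4, nat_lit 3, nat_lit 2, nat_lit 8, nat_lit 3, nat_lit 1, nat_lit 16, nat_lit 8, nat_lit 12, nat_lit 15, nat_lit 17, nat_lit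 12, nat_lit 16] (Rl.inv (nat_lit 5235)))))))) (FT.node (nat_lit 5243) (FT.node (nat_lit 5240) (FT.node (nat_lit 5238) (FT.leaf (Fct.mk true (nat_lit 33) (nat_lit 380) (nat_lit 33) [nat_lit 3, nat_lit 4, nat_lit 1, nat_lit 2, nat_lit 3, nat_lit 8, nat_lit 6, nat_lit 7, nat_lit 5, nat_lit 6, nat_lit 4, nat_lit 5, nat_lit 3, nat_lit 4, nat_lit 2, nat_lit 3, nat_lit 8, nat_lit 1, nat_lit 2, nat_lit 3, nat_lit 4, nat_lit 5, nat_lit 6, nat_lit 7, nat_lit 1, nat_lit 2, nat_lit 3, nat_lit 4, nat_lit 5, nat_lit 2, nat_lit 0, nat_lit 1, nat_lit 4, nat_lit 3, nat_lit 2, nat_lit 8, nat_lit 3, nat_lit 11, nat_lit 8, nat_lit 10, nat_lit 15, nat_lit 14, nat_lit 17, nat_lit 19, nat_lit 16] (Rl.t1 (nat_lit 5236) (nat_lit 5233)))) (FT.node (nat_lit 5239) (FT.leaf (Fct.mk false (nat_lit 33) (nat_lit 0) (nat_lit 33) [nat_lit 2, nat_lit 3, nat_lit 8, nat_lit 1,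 nat_lit 2, nat_lit 3, nat_lit 4, nat_lit 5, nat_lit 6, nat_lit 7, nat_lit 2, nat_lit 3, nat_lit 8, nat_lit 0, nat_lit 1, nat_lit 2, nat_lit 3, nat_lit 4, nat_lit 5, nat_lit 3, nat_lit 2, nat_lit 1, nat_lit 9, nat_lit 4, nat_lit 3, nat_lit 2, nat_lit 8, nat_lit 3, nat_lit 0, nat_lit 14, nat_lit 8, nat_lit 18] (Rl.cmp (nat_lit 4456) (nat_lit 4400)))) (FT.leaf (Fct.mk false (nat_lit 33) (nat_lit 0) (nat_lit 33) [nat_lit 3, nat_lit 8, nat_lit 7, nat_lit 5, nat_lit 6, nat_lit 4, nat_lit 5, nat_lit 3, nat_lit 4, nat_lit 2, nat_lit 3, nat_lit 8, nat_lit 1, nat_lit 2, nat_lit 3, nat_lit 4, nat_lit 5, nat_lit 6, nat_lit 7, nat_lit 8, nat_lit 4, nat_lit 5, nat_lit 3, nat_lit 4, nat_lit 2, nat_lit 3, nat_lit 8, nat_lit 1, nat_lit 2, nat_lit 3, nat_lit 4, nat_lit 5, nat_lit 2, nat_lit 1, nat_lit 4, nat_lit 3, nat_lit 2, nat_lit 8, nat_lit 3, nat_lit 0,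 nat_lit 2, nat_lit 8, nat_lit 12, nat_lit 15, nat_lit 14, nat_lit 8] (Rl.cmp (nat_lit 4456) (nat_lit 5238)))))) (FT.node (nat_lit 5241) (FT.leaf (Fct.mk false (nat_lit 33) (nat_lit 0) (nat_lit 33) [nat_lit 8, nat_lit 3, nat_lit 4, nat_lit 2, nat_lit 3, nat_lit 8, nat_lit 1, nat_lit 2, nat_lit 3, nat_lit 4, nat_lit 5, nat_lit 4, nat_lit 3, nat_lit 2, nat_lit 8, nat_lit 3, nat_lit 10, nat_lit 1, nat_lit 8, nat_lit 18] (Rl.cmp (nat_lit 4456) (nat_lit 5239)))) (FT.node (nat_lit 5242) (FT.leaf (Fct.mk false (nat_lit 33) (nat_lit 0) (nat_lit 33) [nat_lit 102] (Rl.cmp (nat_lit 4402) (nat_lit 4400)))) (FT.leaf (Fct.mk false (nat_lit 33) (nat_lit 0) (nat_lit 33) [nat_lit 3, nat_lit 8, nat_lit 2, nat_lit 3, nat_lit 4, nat_lit 1, nat_lit 2, nat_lit 3, nat_lit 8, nat_lit 7, nat_lit 5, nat_lit 6, nat_lit 4, nat_lit 5, nat_lit 3, nat_lit 4, nat_lit 2, nat_lit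 3, nat_lit 8, nat_lit 1, nat_lit 2, nat_lit 3, nat_lit 4, nat_lit 5, nat_lit 6, nat_lit 7, nat_lit 4, nat_lit 2, nat_lit 3, nat_lit 8, nat_lit 1, nat_lit 2, nat_lit 3, nat_lit 4, nat_lit 5, nat_lit 3, nat_lit 2, nat_lit 0, nat_lit 1, nat_lit 4, nat_lit 3, nat_lit 2, nat_lit 8, nat_lit 3, nat_lit 2, nat_lit 17, nat_lit 19, nat_lit 16] (Rl.cmp (nat_lit 4605) (nat_lit 5241))))))) (FT.node (nat_lit 5246) (FT.node (nat_lit 5244) (FT.leaf (Fct.mk false (nat_lit 33) (nat_lit 0) (nat_lit 33) [nat_lit 8, nat_lit 5, nat_lit 3, nat_lit 4, nat_lit 2, nat_lit 3, nat_lit 8, nat_lit 1, nat_lit 2, nat_lit 3, nat_lit 4, nat_lit 5, nat_lit 6, nat_lit 7, nat_lit 3, nat_lit 8, nat_lit 2, nat_lit 3, nat_lit 4, nat_lit 1, nat_lit 2, nat_lit 3, nat_lit 8, nat_lit 0, nat_lit 1, nat_lit 2, nat_lit 3, nat_lit 4, nat_lit 5, nat_lit 2, nat_lit 1, nat_lit 3, nat_lit 2,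 nat_lit 8, nat_lit 3, nat_lit 8, nat_lit 10, nat_lit 1, nat_lit 12, nat_lit 15, nat_lit 17, nat_lit 18] (Rl.cmp (nat_lit 4456) (nat_lit 5242)))) (FT.node (nat_lit 5245) (FT.leaf (Fct.mk false (nat_lit 33) (nat_lit 0) (nat_lit 33) [nat_lit 3, nat_lit 8, nat_lit 2, nat_lit 3, nat_lit 4, nat_lit 1, nat_lit 2, nat_lit 3, nat_lit 8, nat_lit 7, nat_lit 5, nat_lit 6, nat_lit 4, nat_lit 5, nat_lit 3, nat_lit 4, nat_lit 2, nat_lit 3, nat_lit 8, nat_lit 1, nat_lit 2, nat_lit 3, nat_lit 4, nat_lit 5, nat_lit 6, nat_lit 7, nat_lit 5, nat_lit 4, nat_lit 3, nat_lit 8, nat_lit 0, nat_lit 1, nat_lit 2, nat_lit 3, nat_lit 4, nat_lit 5, nat_lit 3, nat_lit 2, nat_lit 8, nat_lit 3, nat_lit 14, nat_lit 17, nat_lit 19] (Rl.cmp (nat_lit 4400) (nat_lit 5243)))) (FT.leaf (Fct.mk true (nat_lit 32) (nat_lit 2168) (nat_lit 33) [nat_lit 7, nat_lit 6, nat_lit 5, nat_lit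 3, nat_lit 4, nat_lit 2, nat_lit 3, nat_lit 8, nat_lit 1, nat_lit 2, nat_lit 3, nat_lit 4, nat_lit 5, nat_lit 6, nat_lit 7, nat_lit 3, nat_lit 8, nat_lit 4, nat_lit 5, nat_lit 3, nat_lit 4, nat_lit 2, nat_lit 3, nat_lit 8, nat_lit 1, nat_lit 2, nat_lit 3, nat_lit 4, nat_lit 5, nat_lit 2, nat_lit 1, nat_lit 3, nat_lit 2, nat_lit 8, nat_lit 3, nat_lit 10, nat_lit 1, nat_lit 12, nat_lit 8, nat_lit 16, nat_lit 14, nat_lit 19] (Rl.rel (nat_lit 0) [nat_lit 3, nat_lit 4, nat_lit 5, nat_lit 2, nat_lit 3, nat_lit 4, nat_lit 1, nat_lit 2, nat_lit 3, nat_lit 8, nat_lit 0, nat_lit 1, nat_lit 2, nat_lit 3, nat_lit 4, nat_lit 5, nat_lit 1, nat_lit 8, nat_lit 3, nat_lit 2, nat_lit 0, nat_lit 1, nat_lit 4, nat_lit 3, nat_lit 2, nat_lit 8, nat_lit 3, nat_lit 10, nat_lit 1, nat_lit 12, nat_lit 15, nat_lit 19, nat_lit 16] (nat_lit 33) (nat_lit 1) [nat_lit 4827]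 [nat_lit 5240, nat_lit 5025]))))) (FT.node (nat_lit 5248) (FT.node (nat_lit 5247) (FT.leaf (Fct.mk true (nat_lit 32) (nat_lit 275) (nat_lit 33) [nat_lit 3, nat_lit 8, nat_lit 7, nat_lit 5, nat_lit 6, nat_lit 4, nat_lit 5, nat_lit 3, nat_lit 4, nat_lit 2, nat_lit 3, nat_lit 8, nat_lit 1, nat_lit 2, nat_lit 3, nat_lit 4, nat_lit 5, nat_lit 6, nat_lit 7, nat_lit 8, nat_lit 3, nat_lit 4, nat_lit 2, nat_lit 3, nat_lit 8, nat_lit 0, nat_lit 1, nat_lit 2, nat_lit 3, nat_lit 4, nat_lit 5, nat_lit 1, nat_lit 2, nat_lit 8, nat_lit 3, nat_lit 8, nat_lit 10, nat_lit 16, nat_lit 15, nat_lit 14, nat_lit 17, nat_lit 12, nat_lit 19] (Rl.t1 (nat_lit 5245) (nat_lit 4299)))) (FT.leaf (Fct.mk true (nat_lit 33) (nat_lit 63207) (nat_lit 32) [nat_lit 3, nat_lit 8, nat_lit 7, nat_lit 5, nat_lit 6, nat_lit 4, nat_lit 5, nat_lit 3, nat_lit 4, nat_lit 2, nat_lit 3, nat_lit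 8, nat_lit 1, nat_lit 2, nat_lit 3, nat_lit 4, nat_lit 5, nat_lit 6, nat_lit 7, nat_lit 4, nat_lit 2, nat_lit 3, nat_lit 8, nat_lit 5, nat_lit 6, nat_lit 4, nat_lit 5, nat_lit 3, nat_lit 4, nat_lit 2, nat_lit 3, nat_lit 8, nat_lit 1, nat_lit 2, nat_lit 3, nat_lit 4, nat_lit 5, nat_lit 2, nat_lit 1, nat_lit 8, nat_lit 4, nat_lit 3, nat_lit 2, nat_lit 0, nat_lit 1, nat_lit 9, nat_lit 4, nat_lit 3, nat_lit 2, nat_lit 8, nat_lit 3, nat_lit 11, nat_lit 8, nat_lit 10, nat_lit 16, nat_lit 14, nat_lit 17, nat_lit 18] (Rl.inv (nat_lit 5246))))) (FT.node (nat_lit 5249) (FT.leaf (Fct.mk true (nat_lit 33) (nat_lit 112) (nat_lit 32) [nat_lit 4, nat_lit 3, nat_lit 8, nat_lit 2, nat_lit 3, nat_lit 4, nat_lit 1, nat_lit 2, nat_lit 3, nat_lit 8, nat_lit 0, nat_lit 1, nat_lit 2, nat_lit 3, nat_lit 4, nat_lit 5, nat_lit 6, nat_lit 7, nat_lit 6, nat_lit 5, nat_lit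 4, nat_lit 2, nat_lit 3, nat_lit 8, nat_lit 0, nat_lit 1, nat_lit 2, nat_lit 3, nat_lit 4, nat_lit 5, nat_lit 0, nat_lit 1, nat_lit 2, nat_lit 8, nat_lit 3, nat_lit 11, nat_lit 2, nat_lit 10, nat_lit 1, nat_lit 8, nat_lit 12, nat_lit 15, nat_lit 14, nat_lit 13, nat_lit 16] (Rl.t1 (nat_lit 5247) (nat_lit 5244)))) (FT.leaf (Fct.mk false (nat_lit 33) (nat_lit 0) (nat_lit 33) [nat_lit 6, nat_lit 4, nat_lit 5, nat_lit 2, nat_lit 3, nat_lit 4, nat_lit 1, nat_lit 2, nat_lit 3, nat_lit 8, nat_lit 0, nat_lit 1, nat_lit 2, nat_lit 3, nat_lit 4, nat_lit 5, nat_lit 6, nat_lit 7, nat_lit 6, nat_lit 5, nat_lit 4, nat_lit 3, nat_lit 8, nat_lit 2, nat_lit 3, nat_lit 4, nat_lit 1, nat_lit 2, nat_lit 3, nat_lit 8, nat_lit 5, nat_lit 6, nat_lit 4, nat_lit 5, nat_lit 3, nat_lit 4, nat_lit 2, nat_lit 3, nat_lit 8, nat_lit 1, nat_lit 2, nat_lit 3, nat_lit 4, nat_lit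 5, nat_lit 4, nat_lit 3, nat_lit 2, nat_lit 0, nat_lit 1, nat_lit 9, nat_lit 4, nat_lit 3, nat_lit 2, nat_lit 8, nat_lit 3, nat_lit 10, nat_lit 2, nat_lit 8, nat_lit 10, nat_lit 1, nat_lit 16, nat_lit 15, nat_lit 14, nat_lit 16, nat_lit 8, nat_lit 18] (Rl.cmp (nat_lit 4456) (nat_lit 4402)))))))))

/-- some facts -/
noncomputable def ftc105 : FT := FT.node (nat_lit 5275) (FT.node (nat_lit 5262) (FT.node (nat_lit 5256) (FT.node (nat_lit 5253) (FT.node (nat_lit 5251) (FT.leaf (Fct.mk false (nat_lit 33) (nat_lit 0) (nat_lit 33) [nat_lit 2, nat_lit 3, nat_lit 8, nat_lit 5, nat_lit 6, nat_lit 4, nat_lit 5, nat_lit 3, nat_lit 4, nat_lit 2, nat_lit 3, nat_lit 8, nat_lit 0, nat_lit 1, nat_lit 2, nat_lit 3, nat_lit 4, nat_lit 5, nat_lit 6, nat_lit 7, nat_lit 4, nat_lit 5, nat_lit 3, nat_lit 4, nat_lit 1, nat_lit 2, nat_lit 3, nat_lit 8, nat_lit 0, nat_lit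 1, nat_lit 2, nat_lit 3, nat_lit 4, nat_lit 5, nat_lit 1, nat_lit 3, nat_lit 2, nat_lit 8, nat_lit 3, nat_lit 10, nat_lit 0, nat_lit 13, nat_lit 12] (Rl.cmp (nat_lit 4605) (nat_lit 5249)))) (FT.node (nat_lit 5252) (FT.leaf (Fct.mk false (nat_lit 33) (nat_lit 0) (nat_lit 33) [nat_lit 3, nat_lit 8, nat_lit 2, nat_lit 3, nat_lit 4, nat_lit 1, nat_lit 2, nat_lit 3, nat_lit 8, nat_lit 0, nat_lit 1, nat_lit 2, nat_lit 3, nat_lit 4, nat_lit 5, nat_lit 6, nat_lit 7, nat_lit 4, nat_lit 5, nat_lit 6, nat_lit 3, nat_lit 4, nat_lit 5, nat_lit 2, nat_lit 3, nat_lit 4, nat_lit 1, nat_lit 2, nat_lit 3, nat_lit 8, nat_lit 0, nat_lit 1, nat_lit 2, nat_lit 3, nat_lit 4, nat_lit 5, nat_lit 1, nat_lit 4, nat_lit 3, nat_lit 2, nat_lit 8, nat_lit 3, nat_lit 10, nat_lit 8, nat_lit 16, nat_lit 14, nat_lit 17, nat_lit 18, nat_lit 16] (Rl.cmp (nat_lit 4402) (nat_lit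 5250)))) (FT.leaf (Fct.mk false (nat_lit 33) (nat_lit 0) (nat_lit 33) [nat_lit 5, nat_lit 4, nat_lit 3, nat_lit 8, nat_lit 6, nat_lit 7, nat_lit 5, nat_lit 6, nat_lit 4, nat_lit 5, nat_lit 3, nat_lit 4, nat_lit 2, nat_lit 3, nat_lit 8, nat_lit 1, nat_lit 2, nat_lit 3, nat_lit 4, nat_lit 5, nat_lit 6, nat_lit 7, nat_lit 4, nat_lit 2, nat_lit 3, nat_lit 8, nat_lit 5, nat_lit 6, nat_lit 4, nat_lit 5, nat_lit 3, nat_lit 4, nat_lit 2, nat_lit 3, nat_lit 8, nat_lit 0, nat_lit 1, nat_lit 2, nat_lit 3, nat_lit 4, nat_lit 5, nat_lit 2, nat_lit 0, nat_lit 1, nat_lit 9, nat_lit 4, nat_lit 3, nat_lit 2, nat_lit 8, nat_lit 3, nat_lit 0, nat_lit 16, nat_lit 12, nat_lit 15, nat_lit 14, nat_lit 8] (Rl.cmp (nat_lit 4605) (nat_lit 5251)))))) (FT.node (nat_lit 5254) (FT.leaf (Fct.mk false (nat_lit 33) (nat_lit 0) (nat_lit 33) [nat_lit 8, nat_lit 5, nat_lit 2,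 nat_lit 3, nat_lit 4, nat_lit 1, nat_lit 2, nat_lit 3, nat_lit 8, nat_lit 0, nat_lit 1, nat_lit 2, nat_lit 3, nat_lit 4, nat_lit 5, nat_lit 2, nat_lit 1, nat_lit 9, nat_lit 4, nat_lit 3, nat_lit 2, nat_lit 8, nat_lit 3, nat_lit 11, nat_lit 2, nat_lit 10, nat_lit 1, nat_lit 12, nat_lit 8, nat_lit 16, nat_lit 14, nat_lit 12] (Rl.cmp (nat_lit 4402) (nat_lit 5252)))) (FT.node (nat_lit 5255) (FT.leaf (Fct.mk false (nat_lit 33) (nat_lit 0) (nat_lit 33) [nat_lit 102] (Rl.cmp (nat_lit 4402) (nat_lit 4400)))) (FT.leaf (Fct.mk false (nat_lit 33) (nat_lit 0) (nat_lit 33) [nat_lit 3, nat_lit 8, nat_lit 2, nat_lit 3, nat_lit 4, nat_lit 1, nat_lit 2, nat_lit 3, nat_lit 8, nat_lit 7, nat_lit 5, nat_lit 6, nat_lit 4, nat_lit 5, nat_lit 3, nat_lit 4, nat_lit 2, nat_lit 3, nat_lit 8, nat_lit 1, nat_lit 2, nat_lit 3, nat_lit 4, nat_lit 5, nat_lit 6, nat_lit 7,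 nat_lit 4, nat_lit 2, nat_lit 3, nat_lit 8, nat_lit 1, nat_lit 2, nat_lit 3, nat_lit 4, nat_lit 5, nat_lit 3, nat_lit 2, nat_lit 0, nat_lit 1, nat_lit 4, nat_lit 3, nat_lit 2, nat_lit 8, nat_lit 3, nat_lit 2, nat_lit 17, nat_lit 19, nat_lit 16] (Rl.cmp (nat_lit 4605) (nat_lit 5254))))))) (FT.node (nat_lit 5259) (FT.node (nat_lit 5257) (FT.leaf (Fct.mk false (nat_lit 33) (nat_lit 0) (nat_lit 33) [nat_lit 8, nat_lit 5, nat_lit 3, nat_lit 4, nat_lit 2, nat_lit 3, nat_lit 8, nat_lit 1, nat_lit 2, nat_lit 3, nat_lit 4, nat_lit 5, nat_lit 6, nat_lit 7, nat_lit 3, nat_lit 8, nat_lit 2, nat_lit 3, nat_lit 4, nat_lit 1, nat_lit 2, nat_lit 3, nat_lit 8, nat_lit 0, nat_lit 1, nat_lit 2, nat_lit 3, nat_lit 4, nat_lit 5, nat_lit 2, nat_lit 1, nat_lit 3, nat_lit 2, nat_lit 8, nat_lit 3, nat_lit 8, nat_lit 10, nat_lit 1, nat_lit 12, nat_lit 15, nat_lit 17,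 nat_lit 18] (Rl.cmp (nat_lit 4456) (nat_lit 5255)))) (FT.node (nat_lit 5258) (FT.leaf (Fct.mk false (nat_lit 33) (nat_lit 0) (nat_lit 33) [nat_lit 4, nat_lit 2, nat_lit 3, nat_lit 8, nat_lit 0, nat_lit 1, nat_lit 2, nat_lit 3, nat_lit 4, nat_lit 5, nat_lit 6, nat_lit 7, nat_lit 5, nat_lit 6, nat_lit 4, nat_lit 5, nat_lit 3, nat_lit 4, nat_lit 1, nat_lit 2, nat_lit 3, nat_lit 8, nat_lit 0, nat_lit 1, nat_lit 2, nat_lit 3, nat_lit 4, nat_lit 5, nat_lit 8, nat_lit 3, nat_lit 2, nat_lit 0, nat_lit 1, nat_lit 9, nat_lit 4, nat_lit 3, nat_lit 2, nat_lit 8, nat_lit 3, nat_lit 1, nat_lit 0, nat_lit 2, nat_lit 16, nat_lit 15, nat_lit 14, nat_lit 12, nat_lit 18] (Rl.cmp (nat_lit 4605) (nat_lit 5256)))) (FT.leaf (Fct.mk false (nat_lit 33) (nat_lit 0) (nat_lit 33) [nat_lit 4, nat_lit 1, nat_lit 2, nat_lit 3, nat_lit 8, nat_lit 7, nat_lit 5, nat_lit 6,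 nat_lit 4, nat_lit 5, nat_lit 3, nat_lit 4, nat_lit 2, nat_lit 3, nat_lit 8, nat_lit 1, nat_lit 2, nat_lit 3, nat_lit 4, nat_lit 5, nat_lit 6, nat_lit 7, nat_lit 4, nat_lit 5, nat_lit 6, nat_lit 3, nat_lit 4, nat_lit 5, nat_lit 2, nat_lit 3, nat_lit 4, nat_lit 1, nat_lit 2, nat_lit 3, nat_lit 8, nat_lit 0, nat_lit 1, nat_lit 2, nat_lit 3, nat_lit 4, nat_lit 5, nat_lit 2, nat_lit 1, nat_lit 3, nat_lit 2, nat_lit 0, nat_lit 1, nat_lit 9, nat_lit 4, nat_lit 3, nat_lit 2, nat_lit 8, nat_lit 3, nat_lit 9, nat_lit 10, nat_lit 2, nat_lit 8, nat_lit 10, nat_lit 1, nat_lit 8, nat_lit 12, nat_lit 15, nat_lit 12, nat_lit 18, nat_lit 16] (Rl.cmp (nat_lit 4456) (nat_lit 5257)))))) (FT.node (nat_lit 5260) (FT.leaf (Fct.mk false (nat_lit 33) (nat_lit 0) (nat_lit 33) [nat_lit 4, nat_lit 3, nat_lit 8, nat_lit 2, nat_lit 3, nat_lit 4, nat_lit 5, nat_lit 6, nat_lit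 7, nat_lit 5, nat_lit 4, nat_lit 3, nat_lit 8, nat_lit 0, nat_lit 1, nat_lit 2, nat_lit 3, nat_lit 4, nat_lit 5, nat_lit 1, nat_lit 2, nat_lit 0, nat_lit 1, nat_lit 4, nat_lit 3, nat_lit 2, nat_lit 8, nat_lit 3, nat_lit 11, nat_lit 1, nat_lit 8, nat_lit 12, nat_lit 15, nat_lit 14, nat_lit 13, nat_lit 12, nat_lit 19, nat_lit 16] (Rl.cmp (nat_lit 4400) (nat_lit 5258)))) (FT.node (nat_lit 5261) (FT.leaf (Fct.mk true (nat_lit 32) (nat_lit 804) (nat_lit 33) [nat_lit 4, nat_lit 5, nat_lit 3, nat_lit 4, nat_lit 2, nat_lit 3, nat_lit 8, nat_lit 0, nat_lit 1, nat_lit 2, nat_lit 3, nat_lit 4, nat_lit 5, nat_lit 6, nat_lit 7, nat_lit 8, nat_lit 1, nat_lit 2, nat_lit 3, nat_lit 4, nat_lit 5, nat_lit 3, nat_lit 2, nat_lit 0, nat_lit 1, nat_lit 9, nat_lit 4, nat_lit 3, nat_lit 2, nat_lit 8, nat_lit 3, nat_lit 2, nat_lit 10, nat_lit 1, nat_lit 15, nat_lit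 14, nat_lit 19, nat_lit 16] (Rl.rel (nat_lit 0) [nat_lit 8, nat_lit 3, nat_lit 4, nat_lit 2, nat_lit 3, nat_lit 8, nat_lit 1, nat_lit 2, nat_lit 3, nat_lit 4, nat_lit 5, nat_lit 0, nat_lit 1, nat_lit 2, nat_lit 3, nat_lit 16, nat_lit 12, nat_lit 15, nat_lit 14, nat_lit 19] (nat_lit 33) (nat_lit 1) [nat_lit 4827] [nat_lit 5253, nat_lit 4981]))) (FT.leaf (Fct.mk true (nat_lit 33) (nat_lit 55264) (nat_lit 32) [nat_lit 8, nat_lit 3, nat_lit 4, nat_lit 2, nat_lit 3, nat_lit 8, nat_lit 1, nat_lit 2, nat_lit 3, nat_lit 4, nat_lit 5, nat_lit 6, nat_lit 7, nat_lit 8, nat_lit 6, nat_lit 4, nat_lit 5, nat_lit 3, nat_lit 4, nat_lit 2, nat_lit 3, nat_lit 8, nat_lit 0, nat_lit 1, nat_lit 2, nat_lit 3, nat_lit 4, nat_lit 5, nat_lit 2, nat_lit 1, nat_lit 3, nat_lit 2, nat_lit 0, nat_lit 1, nat_lit 4, nat_lit 3, nat_lit 2, nat_lit 8, nat_lit 3, nat_lit 11,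 nat_lit 2, nat_lit 10, nat_lit 1, nat_lit 16, nat_lit 14, nat_lit 8, nat_lit 19, nat_lit 16] (Rl.inv (nat_lit 5260)))))))) (FT.node (nat_lit 5268) (FT.node (nat_lit 5265) (FT.node (nat_lit 5263) (FT.leaf (Fct.mk true (nat_lit 33) (nat_lit 110) (nat_lit 32) [nat_lit 3, nat_lit 4, nat_lit 5, nat_lit 6, nat_lit 7, nat_lit 8, nat_lit 2, nat_lit 3, nat_lit 4, nat_lit 1, nat_lit 2, nat_lit 3, nat_lit 8, nat_lit 0, nat_lit 1, nat_lit 2, nat_lit 3, nat_lit 4, nat_lit 5, nat_lit 0, nat_lit 1, nat_lit 4, nat_lit 3, nat_lit 2, nat_lit 8, nat_lit 3, nat_lit 10, nat_lit 1, nat_lit 15, nat_lit 14, nat_lit 8] (Rl.t1 (nat_lit 5261) (nat_lit 5259)))) (FT.node (nat_lit 5264) (FT.leaf (Fct.mk false (nat_lit 33) (nat_lit 0) (nat_lit 33) [nat_lit 4, nat_lit 3, nat_lit 8, nat_lit 2, nat_lit 3, nat_lit 4, nat_lit 1, nat_lit 2, nat_lit 3, nat_lit 8, nat_lit 0, nat_lit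 1, nat_lit 2, nat_lit 3, nat_lit 4, nat_lit 5, nat_lit 6, nat_lit 7, nat_lit 6, nat_lit 4, nat_lit 5, nat_lit 2, nat_lit 3, nat_lit 4, nat_lit 1, nat_lit 2, nat_lit 3, nat_lit 8, nat_lit 0, nat_lit 1, nat_lit 2, nat_lit 3, nat_lit 4, nat_lit 5, nat_lit 8, nat_lit 3, nat_lit 2, nat_lit 1, nat_lit 9, nat_lit 4, nat_lit 3, nat_lit 2, nat_lit 8, nat_lit 3, nat_lit 2, nat_lit 14, nat_lit 13, nat_lit 19] (Rl.cmp (nat_lit 4605) (nat_lit 4402)))) (FT.leaf (Fct.mk false (nat_lit 33) (nat_lit 0) (nat_lit 33) [nat_lit 7, nat_lit 6, nat_lit 5, nat_lit 3, nat_lit 4, nat_lit 1, nat_lit 2, nat_lit 3, nat_lit 8, nat_lit 0, nat_lit 1, nat_lit 2, nat_lit 3, nat_lit 4, nat_lit 5, nat_lit 6, nat_lit 7, nat_lit 5, nat_lit 4, nat_lit 3, nat_lit 8, nat_lit 2, nat_lit 3, nat_lit 4, nat_lit 5, nat_lit 2, nat_lit 1, nat_lit 9, nat_lit 4, nat_lit 3, nat_lit 2, nat_lit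 8, nat_lit 3, nat_lit 9, nat_lit 2, nat_lit 12, nat_lit 15, nat_lit 18, nat_lit 16] (Rl.cmp (nat_lit 4400) (nat_lit 5263)))))) (FT.node (nat_lit 5266) (FT.leaf (Fct.mk false (nat_lit 33) (nat_lit 0) (nat_lit 33) [nat_lit 7, nat_lit 6, nat_lit 5, nat_lit 4, nat_lit 3, nat_lit 8, nat_lit 0, nat_lit 1, nat_lit 2, nat_lit 3, nat_lit 4, nat_lit 5, nat_lit 6, nat_lit 7, nat_lit 4, nat_lit 5, nat_lit 3, nat_lit 4, nat_lit 2, nat_lit 3, nat_lit 8, nat_lit 1, nat_lit 2, nat_lit 3, nat_lit 4, nat_lit 5, nat_lit 2, nat_lit 0, nat_lit 1, nat_lit 9, nat_lit 4, nat_lit 3, nat_lit 2, nat_lit 8, nat_lit 3, nat_lit 8, nat_lit 10, nat_lit 9, nat_lit 2, nat_lit 15, nat_lit 19] (Rl.cmp (nat_lit 4456) (nat_lit 5264)))) (FT.node (nat_lit 5267) (FT.leaf (Fct.mk false (nat_lit 33) (nat_lit 0) (nat_lit 33) [nat_lit 102] (Rl.cmp (nat_lit 4402) (nat_lit 4400)))) (FT.leaf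 (Fct.mk false (nat_lit 33) (nat_lit 0) (nat_lit 33) [nat_lit 3, nat_lit 8, nat_lit 2, nat_lit 3, nat_lit 4, nat_lit 1, nat_lit 2, nat_lit 3, nat_lit 8, nat_lit 7, nat_lit 5, nat_lit 6, nat_lit 4, nat_lit 5, nat_lit 3, nat_lit 4, nat_lit 2, nat_lit 3, nat_lit 8, nat_lit 1, nat_lit 2, nat_lit 3, nat_lit 4, nat_lit 5, nat_lit 6, nat_lit 7, nat_lit 4, nat_lit 2, nat_lit 3, nat_lit 8, nat_lit 1, nat_lit 2, nat_lit 3, nat_lit 4, nat_lit 5, nat_lit 3, nat_lit 2, nat_lit 0, nat_lit 1, nat_lit 4, nat_lit 3, nat_lit 2, nat_lit 8, nat_lit 3, nat_lit 2, nat_lit 17, nat_lit 19, nat_lit 16] (Rl.cmp (nat_lit 4605) (nat_lit 5266))))))) (FT.node (nat_lit 5271) (FT.node (nat_lit 5269) (FT.leaf (Fct.mk false (nat_lit 33) (nat_lit 0) (nat_lit 33) [nat_lit 8, nat_lit 5, nat_lit 3, nat_lit 4, nat_lit 2, nat_lit 3, nat_lit 8, nat_lit 1, nat_lit 2, nat_lit 3, nat_lit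 4, nat_lit 5, nat_lit 6, nat_lit 7, nat_lit 3, nat_lit 8, nat_lit 2, nat_lit 3, nat_lit 4, nat_lit 1, nat_lit 2, nat_lit 3, nat_lit 8, nat_lit 0, nat_lit 1, nat_lit 2, nat_lit 3, nat_lit 4, nat_lit 5, nat_lit 2, nat_lit 1, nat_lit 3, nat_lit 2, nat_lit 8, nat_lit 3, nat_lit 8, nat_lit 10, nat_lit 1, nat_lit 12, nat_lit 15, nat_lit 17, nat_lit 18] (Rl.cmp (nat_lit 4456) (nat_lit 5267)))) (FT.node (nat_lit 5270) (FT.leaf (Fct.mk false (nat_lit 33) (nat_lit 0) (nat_lit 33) [nat_lit 4, nat_lit 2, nat_lit 3, nat_lit 8, nat_lit 0, nat_lit 1, nat_lit 2, nat_lit 3, nat_lit 4, nat_lit 5, nat_lit 6, nat_lit 7, nat_lit 5, nat_lit 6, nat_lit 4, nat_lit 5, nat_lit 3, nat_lit 4, nat_lit 1, nat_lit 2, nat_lit 3, nat_lit 8, nat_lit 0, nat_lit 1, nat_lit 2, nat_lit 3, nat_lit 4, nat_lit 5, nat_lit 8, nat_lit 3, nat_lit 2, nat_lit 0, nat_lit 1, nat_lit 9, nat_lit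 4, nat_lit 3, nat_lit 2, nat_lit 8, nat_lit 3, nat_lit 1, nat_lit 0, nat_lit 2, nat_lit 16, nat_lit 15, nat_lit 14, nat_lit 12, nat_lit 18] (Rl.cmp (nat_lit 4605) (nat_lit 5268)))) (FT.leaf (Fct.mk false (nat_lit 33) (nat_lit 0) (nat_lit 33) [nat_lit 4, nat_lit 1, nat_lit 2, nat_lit 3, nat_lit 8, nat_lit 7, nat_lit 5, nat_lit 6, nat_lit 4, nat_lit 5, nat_lit 3, nat_lit 4, nat_lit 2, nat_lit 3, nat_lit 8, nat_lit 1, nat_lit 2, nat_lit 3, nat_lit 4, nat_lit 5, nat_lit 6, nat_lit 7, nat_lit 4, nat_lit 5, nat_lit 6, nat_lit 3, nat_lit 4, nat_lit 5, nat_lit 2, nat_lit 3, nat_lit 4, nat_lit 1, nat_lit 2, nat_lit 3, nat_lit 8, nat_lit 0, nat_lit 1, nat_lit 2, nat_lit 3, nat_lit 4, nat_lit 5, nat_lit 2, nat_lit 1, nat_lit 3, nat_lit 2, nat_lit 0, nat_lit 1, nat_lit 9, nat_lit 4, nat_lit 3, nat_lit 2, nat_lit 8, nat_lit 3, nat_lit 9, nat_lit 10, nat_lit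 2, nat_lit 8, nat_lit 10, nat_lit 1, nat_lit 8, nat_lit 12, nat_lit 15, nat_lit 12, nat_lit 18, nat_lit 16] (Rl.cmp (nat_lit 4456) (nat_lit 5269)))))) (FT.node (nat_lit 5273) (FT.node (nat_lit 5272) (FT.leaf (Fct.mk false (nat_lit 33) (nat_lit 0) (nat_lit 33) [nat_lit 4, nat_lit 3, nat_lit 8, nat_lit 2, nat_lit 3, nat_lit 4, nat_lit 5, nat_lit 6, nat_lit 7, nat_lit 5, nat_lit 4, nat_lit 3, nat_lit 8, nat_lit 0, nat_lit 1, nat_lit 2, nat_lit 3, nat_lit 4, nat_lit 5, nat_lit 1, nat_lit 2, nat_lit 0, nat_lit 1, nat_lit 4, nat_lit 3, nat_lit 2, nat_lit 8, nat_lit 3, nat_lit 11, nat_lit 1, nat_lit 8, nat_lit 12, nat_lit 15, nat_lit 14, nat_lit 13, nat_lit 12, nat_lit 19, nat_lit 16] (Rl.cmp (nat_lit 4400) (nat_lit 5270)))) (FT.leaf (Fct.mk true (nat_lit 33) (nat_lit 11741) (nat_lit 33) [nat_lit 7, nat_lit 6, nat_lit 5, nat_lit 4, nat_lit 3, nat_lit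 8, nat_lit 1, nat_lit 2, nat_lit 3, nat_lit 4, nat_lit 5, nat_lit 6, nat_lit 7, nat_lit 8, nat_lit 6, nat_lit 5, nat_lit 3, nat_lit 4, nat_lit 1, nat_lit 2, nat_lit 3, nat_lit 8, nat_lit 0, nat_lit 1, nat_lit 2, nat_lit 3, nat_lit 4, nat_lit 5, nat_lit 8, nat_lit 3, nat_lit 2, nat_lit 0, nat_lit 1, nat_lit 9, nat_lit 4, nat_lit 3, nat_lit 2, nat_lit 8, nat_lit 3, nat_lit 10, nat_lit 9, nat_lit 2, nat_lit 15, nat_lit 14, nat_lit 19] (Rl.rel (nat_lit 0) [nat_lit 8, nat_lit 3, nat_lit 4, nat_lit 5, nat_lit 6, nat_lit 7, nat_lit 2, nat_lit 3, nat_lit 8, nat_lit 1, nat_lit 2, nat_lit 3, nat_lit 4, nat_lit 5, nat_lit 2, nat_lit 3, nat_lit 10, nat_lit 0, nat_lit 12, nat_lit 15, nat_lit 14, nat_lit 19] (nat_lit 33) (nat_lit 2) [nat_lit 4827, nat_lit 4224, nat_lit 4405] [])))) (FT.node (nat_lit 5274) (FT.leaf (Fct.mk true (nat_lit 33) (nat_lit 216)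 (nat_lit 33) [nat_lit 5, nat_lit 3, nat_lit 4, nat_lit 1, nat_lit 2, nat_lit 3, nat_lit 8, nat_lit 0, nat_lit 1, nat_lit 2, nat_lit 3, nat_lit 4, nat_lit 5, nat_lit 6, nat_lit 7, nat_lit 3, nat_lit 8, nat_lit 2, nat_lit 3, nat_lit 4, nat_lit 1, nat_lit 2, nat_lit 3, nat_lit 8, nat_lit 5, nat_lit 6, nat_lit 4, nat_lit 5, nat_lit 3, nat_lit 4, nat_lit 2, nat_lit 3, nat_lit 8, nat_lit 1, nat_lit 2, nat_lit 3, nat_lit 4, nat_lit 5, nat_lit 1, nat_lit 4, nat_lit 3, nat_lit 2, nat_lit 8, nat_lit 3, nat_lit 11, nat_lit 2, nat_lit 10, nat_lit 1, nat_lit 15, nat_lit 14, nat_lit 13] (Rl.t1 (nat_lit 5272) (nat_lit 5265)))) (FT.leaf (Fct.mk true (nat_lit 33) (nat_lit 103359) (nat_lit 33) [nat_lit 5, nat_lit 2, nat_lit 3, nat_lit 4, nat_lit 1, nat_lit 2, nat_lit 3, nat_lit 8, nat_lit 0, nat_lit 1, nat_lit 2, nat_lit 3, nat_lit 4, nat_lit 5, nat_lit 6, nat_lit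 7, nat_lit 1, nat_lit 2, nat_lit 3, nat_lit 8, nat_lit 5, nat_lit 6, nat_lit 4, nat_lit 5, nat_lit 3, nat_lit 4, nat_lit 2, nat_lit 3, nat_lit 8, nat_lit 1, nat_lit 2, nat_lit 3, nat_lit 4, nat_lit 5, nat_lit 8, nat_lit 4, nat_lit 3, nat_lit 2, nat_lit 1, nat_lit 9, nat_lit 4, nat_lit 3, nat_lit 2, nat_lit 8, nat_lit 3, nat_lit 12, nat_lit 15, nat_lit 14] (Rl.inv (nat_lit 5273))))))))) (FT.node (nat_lit 5287) (FT.node (nat_lit 5281) (FT.node (nat_lit 5278) (FT.node (nat_lit 5276) (FT.leaf (Fct.mk true (nat_lit 33) (nat_lit 10) (nat_lit 33) [nat_lit 0, nat_lit 1, nat_lit 2, nat_lit 3, nat_lit 4, nat_lit 5, nat_lit 6, nat_lit 7, nat_lit 3, nat_lit 8, nat_lit 2, nat_lit 3, nat_lit 4, nat_lit 5, nat_lit 2, nat_lit 8, nat_lit 3, nat_lit 9, nat_lit 2, nat_lit 8, nat_lit 16, nat_lit 14, nat_lit 17, nat_lit 12, nat_lit 19] (Rl.t1 (nat_lit 5274) (nat_lit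 5271)))) (FT.node (nat_lit 5277) (FT.leaf (Fct.mk false (nat_lit 33) (nat_lit 0) (nat_lit 33) [nat_lit 3, nat_lit 8, nat_lit 5, nat_lit 6, nat_lit 4, nat_lit 5, nat_lit 3, nat_lit 4, nat_lit 1, nat_lit 2, nat_lit 3, nat_lit 8, nat_lit 0, nat_lit 1, nat_lit 2, nat_lit 3, nat_lit 4, nat_lit 5, nat_lit 6, nat_lit 7, nat_lit 2, nat_lit 3, nat_lit 4, nat_lit 1, nat_lit 2, nat_lit 3, nat_lit 8, nat_lit 5, nat_lit 6, nat_lit 4, nat_lit 5, nat_lit 3, nat_lit 4, nat_lit 2, nat_lit 3, nat_lit 8, nat_lit 1, nat_lit 2, nat_lit 3, nat_lit 4, nat_lit 5, nat_lit 3, nat_lit 2, nat_lit 1, nat_lit 4, nat_lit 3, nat_lit 2, nat_lit 8, nat_lit 3, nat_lit 9, nat_lit 2, nat_lit 8, nat_lit 12, nat_lit 15, nat_lit 13] (Rl.cmp (nat_lit 4605) (nat_lit 4400)))) (FT.leaf (Fct.mk false (nat_lit 33) (nat_lit 0) (nat_lit 33) [nat_lit 8, nat_lit 2, nat_lit 3, nat_lit 4, nat_lit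 1, nat_lit 2, nat_lit 3, nat_lit 8, nat_lit 6, nat_lit 7, nat_lit 5, nat_lit 6, nat_lit 4, nat_lit 5, nat_lit 3, nat_lit 4, nat_lit 2, nat_lit 3, nat_lit 8, nat_lit 1, nat_lit 2, nat_lit 3, nat_lit 4, nat_lit 5, nat_lit 6, nat_lit 7, nat_lit 5, nat_lit 4, nat_lit 2, nat_lit 3, nat_lit 8, nat_lit 0, nat_lit 1, nat_lit 2, nat_lit 3, nat_lit 4, nat_lit 5, nat_lit 3, nat_lit 2, nat_lit 0, nat_lit 1, nat_lit 4, nat_lit 3, nat_lit 2, nat_lit 8, nat_lit 3, nat_lit 10, nat_lit 8, nat_lit 12, nat_lit 15, nat_lit 12, nat_lit 18, nat_lit 16] (Rl.cmp (nat_lit 4456) (nat_lit 5276)))))) (FT.node (nat_lit 5279) (FT.leaf (Fct.mk false (nat_lit 33) (nat_lit 0) (nat_lit 33) [nat_lit 6, nat_lit 5, nat_lit 4, nat_lit 3, nat_lit 8, nat_lit 2, nat_lit 3, nat_lit 4, nat_lit 5, nat_lit 6, nat_lit 7, nat_lit 1, nat_lit 2, nat_lit 3, nat_lit 8, nat_lit 5, nat_lit 6,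 nat_lit 4, nat_lit 5, nat_lit 3, nat_lit 4, nat_lit 2, nat_lit 3, nat_lit 8, nat_lit 1, nat_lit 2, nat_lit 3, nat_lit 4, nat_lit 5, nat_lit 1, nat_lit 2, nat_lit 0, nat_lit 1, nat_lit 3, nat_lit 2, nat_lit 8, nat_lit 3, nat_lit 8, nat_lit 10, nat_lit 0, nat_lit 16, nat_lit 8, nat_lit 12, nat_lit 15, nat_lit 17, nat_lit 12, nat_lit 18] (Rl.cmp (nat_lit 4605) (nat_lit 5277)))) (FT.node (nat_lit 5280) (FT.leaf (Fct.mk false (nat_lit 33) (nat_lit 0) (nat_lit 33) [nat_lit 3, nat_lit 4, nat_lit 2, nat_lit 3, nat_lit 8, nat_lit 1, nat_lit 2, nat_lit 3, nat_lit 4, nat_lit 5, nat_lit 6, nat_lit 7, nat_lit 2, nat_lit 3, nat_lit 8, nat_lit 1, nat_lit 2, nat_lit 3, nat_lit 4, nat_lit 5, nat_lit 0, nat_lit 1, nat_lit 2, nat_lit 3, nat_lit 9, nat_lit 10, nat_lit 2, nat_lit 8, nat_lit 10, nat_lit 1, nat_lit 8, nat_lit 12, nat_lit 15, nat_lit 17, nat_lit 19]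 (Rl.cmp (nat_lit 4402) (nat_lit 5278)))) (FT.leaf (Fct.mk true (nat_lit 33) (nat_lit 376) (nat_lit 33) [nat_lit 5, nat_lit 3, nat_lit 4, nat_lit 1, nat_lit 2, nat_lit 3, nat_lit 8, nat_lit 0, nat_lit 1, nat_lit 2, nat_lit 3, nat_lit 4, nat_lit 5, nat_lit 1, nat_lit 3, nat_lit 2, nat_lit 8, nat_lit 3, nat_lit 11, nat_lit 8, nat_lit 10, nat_lit 16, nat_lit 8, nat_lit 12, nat_lit 15, nat_lit 17, nat_lit 12] (Rl.rel (nat_lit 0) [nat_lit 8, nat_lit 3, nat_lit 4, nat_lit 2, nat_lit 3, nat_lit 8, nat_lit 1, nat_lit 2, nat_lit 3, nat_lit 4, nat_lit 5, nat_lit 0, nat_lit 1, nat_lit 4, nat_lit 3, nat_lit 2, nat_lit 8, nat_lit 3, nat_lit 10, nat_lit 16, nat_lit 15, nat_lit 14, nat_lit 19] (nat_lit 33) (nat_lit 2) [nat_lit 4827, nat_lit 4341, nat_lit 4584] [])))))) (FT.node (nat_lit 5284) (FT.node (nat_lit 5282) (FT.leaf (Fct.mk true (nat_lit 33) (nat_lit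 4) (nat_lit 33) [nat_lit 4, nat_lit 3, nat_lit 8, nat_lit 1, nat_lit 2, nat_lit 3, nat_lit 4, nat_lit 5, nat_lit 6, nat_lit 7, nat_lit 2, nat_lit 3, nat_lit 8, nat_lit 5, nat_lit 6, nat_lit 4, nat_lit 5, nat_lit 3, nat_lit 4, nat_lit 2, nat_lit 3, nat_lit 8, nat_lit 0, nat_lit 1, nat_lit 2, nat_lit 3, nat_lit 4, nat_lit 5, nat_lit 1, nat_lit 8, nat_lit 3, nat_lit 2, nat_lit 0, nat_lit 1, nat_lit 4, nat_lit 3, nat_lit 2, nat_lit 8, nat_lit 3, nat_lit 10, nat_lit 0, nat_lit 16, nat_lit 12, nat_lit 15, nat_lit 14] (Rl.t1 (nat_lit 5280) (nat_lit 5279)))) (FT.node (nat_lit 5283) (FT.leaf (Fct.mk false (nat_lit 32) (nat_lit 0) (nat_lit 32) [nat_lit 3, nat_lit 8, nat_lit 5, nat_lit 2, nat_lit 3, nat_lit 4, nat_lit 1, nat_lit 2, nat_lit 3, nat_lit 8, nat_lit 6, nat_lit 7, nat_lit 5, nat_lit 6, nat_lit 4, nat_lit 5, nat_lit 3, nat_lit 4, nat_lit 2,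 nat_lit 3, nat_lit 8, nat_lit 1, nat_lit 2, nat_lit 3, nat_lit 4, nat_lit 5, nat_lit 6, nat_lit 7, nat_lit 1, nat_lit 2, nat_lit 3, nat_lit 4, nat_lit 5, nat_lit 1, nat_lit 3, nat_lit 2, nat_lit 0, nat_lit 1, nat_lit 9, nat_lit 4, nat_lit 3, nat_lit 2, nat_lit 8, nat_lit 3, nat_lit 10, nat_lit 1, nat_lit 8, nat_lit 12, nat_lit 15, nat_lit 17, nat_lit 18, nat_lit 16] (Rl.cmp (nat_lit 3456) (nat_lit 4183)))) (FT.leaf (Fct.mk false (nat_lit 32) (nat_lit 0) (nat_lit 32) [nat_lit 3, nat_lit 8, nat_lit 5, nat_lit 2, nat_lit 3, nat_lit 4, nat_lit 1, nat_lit 2, nat_lit 3, nat_lit 8, nat_lit 6, nat_lit 7, nat_lit 5, nat_lit 6, nat_lit 4, nat_lit 5, nat_lit 3, nat_lit 4, nat_lit 2, nat_lit 3, nat_lit 8, nat_lit 1, nat_lit 2, nat_lit 3, nat_lit 4, nat_lit 5, nat_lit 6, nat_lit 7, nat_lit 6, nat_lit 5, nat_lit 4, nat_lit 3, nat_lit 8, nat_lit 1, nat_lit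 2, nat_lit 3, nat_lit 4, nat_lit 5, nat_lit 2, nat_lit 1, nat_lit 3, nat_lit 2, nat_lit 0, nat_lit 1, nat_lit 9, nat_lit 4, nat_lit 3, nat_lit 2, nat_lit 8, nat_lit 3, nat_lit 10, nat_lit 2, nat_lit 8, nat_lit 10, nat_lit 1, nat_lit 15, nat_lit 14, nat_lit 13, nat_lit 12, nat_lit 16] (Rl.cmp (nat_lit 3047) (nat_lit 5282)))))) (FT.node (nat_lit 5285) (FT.leaf (Fct.mk false (nat_lit 32) (nat_lit 0) (nat_lit 32) [nat_lit 3, nat_lit 8, nat_lit 5, nat_lit 2, nat_lit 3, nat_lit 4, nat_lit 1, nat_lit 2, nat_lit 3, nat_lit 8, nat_lit 6, nat_lit 7, nat_lit 5, nat_lit 6, nat_lit 4, nat_lit 5, nat_lit 3, nat_lit 4, nat_lit 2, nat_lit 3, nat_lit 8, nat_lit 1, nat_lit 2, nat_lit 3, nat_lit 4, nat_lit 5, nat_lit 6, nat_lit 7, nat_lit 8, nat_lit 4, nat_lit 5, nat_lit 3, nat_lit 4, nat_lit 2, nat_lit 3, nat_lit 8, nat_lit 1, nat_lit 2, nat_lit 3, nat_lit 4,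 nat_lit 5, nat_lit 8, nat_lit 3, nat_lit 2, nat_lit 1, nat_lit 4, nat_lit 3, nat_lit 2, nat_lit 8, nat_lit 3, nat_lit 9, nat_lit 8, nat_lit 16, nat_lit 14, nat_lit 16] (Rl.cmp (nat_lit 3004) (nat_lit 5283)))) (FT.node (nat_lit 5286) (FT.leaf (Fct.mk false (nat_lit 32) (nat_lit 0) (nat_lit 32) [nat_lit 3, nat_lit 2, nat_lit 1, nat_lit 8, nat_lit 3, nat_lit 2, nat_lit 0, nat_lit 1, nat_lit 4, nat_lit 3, nat_lit 2, nat_lit 8, nat_lit 3, nat_lit 2, nat_lit 10, nat_lit 1, nat_lit 8, nat_lit 12, nat_lit 15, nat_lit 14, nat_lit 18] (Rl.cmp (nat_lit 3456) (nat_lit 5284)))) (FT.leaf (Fct.mk false (nat_lit 33) (nat_lit 0) (nat_lit 33) [nat_lit 2, nat_lit 3, nat_lit 4, nat_lit 5, nat_lit 6, nat_lit 7, nat_lit 5, nat_lit 3, nat_lit 4, nat_lit 2, nat_lit 3, nat_lit 8, nat_lit 0, nat_lit 1, nat_lit 2, nat_lit 3, nat_lit 4, nat_lit 5, nat_lit 4, nat_lit 3,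 nat_lit 2, nat_lit 0, nat_lit 1, nat_lit 9, nat_lit 4, nat_lit 3, nat_lit 2, nat_lit 8, nat_lit 3, nat_lit 9, nat_lit 10, nat_lit 2, nat_lit 8, nat_lit 10, nat_lit 1, nat_lit 16, nat_lit 15, nat_lit 14, nat_lit 17, nat_lit 12] (Rl.cmp (nat_lit 4400) (nat_lit 4605)))))))) (FT.node (nat_lit 5293) (FT.node (nat_lit 5290) (FT.node (nat_lit 5288) (FT.leaf (Fct.mk true (nat_lit 5) (nat_lit 73148) (nat_lit 33) [nat_lit 1, nat_lit 2, nat_lit 3, nat_lit 8, nat_lit 0, nat_lit 1, nat_lit 2, nat_lit 3, nat_lit 4, nat_lit 5, nat_lit 6, nat_lit 7, nat_lit 8, nat_lit 2, nat_lit 3, nat_lit 4, nat_lit 1, nat_lit 2, nat_lit 3, nat_lit 8, nat_lit 5, nat_lit 6, nat_lit 4, nat_lit 5, nat_lit 3, nat_lit 4, nat_lit 2, nat_lit 3, nat_lit 8, nat_lit 1, nat_lit 2, nat_lit 3, nat_lit 4, nat_lit 5, nat_lit 1, nat_lit 8, nat_lit 3, nat_lit 2, nat_lit 0, nat_lit 1, nat_lit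 9, nat_lit 4, nat_lit 3, nat_lit 2, nat_lit 8, nat_lit 3, nat_lit 10, nat_lit 0, nat_lit 8, nat_lit 12, nat_lit 15, nat_lit 17, nat_lit 19] (Rl.rel (nat_lit 0) [nat_lit 8, nat_lit 3, nat_lit 4, nat_lit 5, nat_lit 6, nat_lit 7, nat_lit 2, nat_lit 3, nat_lit 8, nat_lit 1, nat_lit 2, nat_lit 3, nat_lit 4, nat_lit 5, nat_lit 0, nat_lit 1, nat_lit 2, nat_lit 3, nat_lit 10, nat_lit 12, nat_lit 15, nat_lit 14, nat_lit 19] (nat_lit 33) (nat_lit 2) [nat_lit 4827, nat_lit 5285, nat_lit 3893] []))) (FT.node (nat_lit 5289) (FT.leaf (Fct.mk true (nat_lit 5) (nat_lit 938) (nat_lit 33) [nat_lit 6, nat_lit 7, nat_lit 5, nat_lit 6, nat_lit 4, nat_lit 5, nat_lit 2, nat_lit 3, nat_lit 4, nat_lit 1, nat_lit 2, nat_lit 3, nat_lit 8, nat_lit 0, nat_lit 1, nat_lit 2, nat_lit 3, nat_lit 4, nat_lit 5, nat_lit 6, nat_lit 7, nat_lit 0, nat_lit 1, nat_lit 2, nat_lit 3,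 nat_lit 4, nat_lit 5, nat_lit 1, nat_lit 2, nat_lit 0, nat_lit 1, nat_lit 3, nat_lit 2, nat_lit 8, nat_lit 3, nat_lit 1, nat_lit 8, nat_lit 12, nat_lit 15, nat_lit 14, nat_lit 19, nat_lit 16] (Rl.t1 (nat_lit 5287) (nat_lit 4205)))) (FT.leaf (Fct.mk true (nat_lit 33) (nat_lit 104344) (nat_lit 5) [nat_lit 4, nat_lit 2, nat_lit 3, nat_lit 8, nat_lit 7, nat_lit 5, nat_lit 6, nat_lit 4, nat_lit 5, nat_lit 3, nat_lit 4, nat_lit 2, nat_lit 3, nat_lit 8, nat_lit 0, nat_lit 1, nat_lit 2, nat_lit 3, nat_lit 4, nat_lit 5, nat_lit 6, nat_lit 7, nat_lit 3, nat_lit 4, nat_lit 5, nat_lit 2, nat_lit 1, nat_lit 3, nat_lit 2, nat_lit 0, nat_lit 1, nat_lit 4, nat_lit 3, nat_lit 2, nat_lit 8, nat_lit 3, nat_lit 14, nat_lit 17, nat_lit 12, nat_lit 19] (Rl.inv (nat_lit 5288)))))) (FT.node (nat_lit 5291) (FT.leaf (Fct.mk true (nat_lit 33) (nat_lit 220) (nat_lit 5)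 [nat_lit 5, nat_lit 3, nat_lit 4, nat_lit 2, nat_lit 3, nat_lit 8, nat_lit 0, nat_lit 1, nat_lit 2, nat_lit 3, nat_lit 4, nat_lit 5, nat_lit 6, nat_lit 7, nat_lit 2, nat_lit 3, nat_lit 4, nat_lit 1, nat_lit 2, nat_lit 3, nat_lit 8, nat_lit 0, nat_lit 1, nat_lit 2, nat_lit 3, nat_lit 4, nat_lit 5, nat_lit 2, nat_lit 1, nat_lit 4, nat_lit 3, nat_lit 2, nat_lit 0, nat_lit 1, nat_lit 9, nat_lit 4, nat_lit 3, nat_lit 2, nat_lit 8, nat_lit 3, nat_lit 9, nat_lit 10, nat_lit 2, nat_lit 8, nat_lit 10, nat_lit 1, nat_lit 17, nat_lit 12, nat_lit 19] (Rl.t1 (nat_lit 5289) (nat_lit 5286)))) (FT.node (nat_lit 5292) (FT.leaf (Fct.mk false (nat_lit 32) (nat_lit 0) (nat_lit 32) [nat_lit 2, nat_lit 3, nat_lit 8, nat_lit 6, nat_lit 4, nat_lit 5, nat_lit 3, nat_lit 4, nat_lit 2, nat_lit 3, nat_lit 8, nat_lit 1, nat_lit 2, nat_lit 3, nat_lit 4, nat_lit 5, nat_lit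 1, nat_lit 8, nat_lit 3, nat_lit 2, nat_lit 0, nat_lit 1, nat_lit 9, nat_lit 4, nat_lit 3, nat_lit 2, nat_lit 8, nat_lit 3, nat_lit 10, nat_lit 1, nat_lit 16, nat_lit 14, nat_lit 13, nat_lit 12, nat_lit 19] (Rl.cmp (nat_lit 3456) (nat_lit 4093)))) (FT.leaf (Fct.mk false (nat_lit 33) (nat_lit 0) (nat_lit 33) [nat_lit 102] (Rl.cmp (nat_lit 4402) (nat_lit 4400))))))) (FT.node (nat_lit 5296) (FT.node (nat_lit 5294) (FT.leaf (Fct.mk false (nat_lit 33) (nat_lit 0) (nat_lit 33) [nat_lit 3, nat_lit 8, nat_lit 2, nat_lit 3, nat_lit 4, nat_lit 1, nat_lit 2, nat_lit 3, nat_lit 8, nat_lit 7, nat_lit 5, nat_lit 6, nat_lit 4, nat_lit 5, nat_lit 3, nat_lit 4, nat_lit 2, nat_lit 3, nat_lit 8, nat_lit 1, nat_lit 2, nat_lit 3, nat_lit 4, nat_lit 5, nat_lit 6, nat_lit 7, nat_lit 4, nat_lit 2, nat_lit 3, nat_lit 8, nat_lit 1, nat_lit 2, nat_lit 3, nat_lit 4, nat_lit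 5, nat_lit 3, nat_lit 2, nat_lit 0, nat_lit 1, nat_lit 4, nat_lit 3, nat_lit 2, nat_lit 8, nat_lit 3, nat_lit 2, nat_lit 17, nat_lit 19, nat_lit 16] (Rl.cmp (nat_lit 4605) (nat_lit 5292)))) (FT.node (nat_lit 5295) (FT.leaf (Fct.mk false (nat_lit 33) (nat_lit 0) (nat_lit 33) [nat_lit 8, nat_lit 5, nat_lit 3, nat_lit 4, nat_lit 2, nat_lit 3, nat_lit 8, nat_lit 1, nat_lit 2, nat_lit 3, nat_lit 4, nat_lit 5, nat_lit 6, nat_lit 7, nat_lit 3, nat_lit 8, nat_lit 2, nat_lit 3, nat_lit 4, nat_lit 1, nat_lit 2, nat_lit 3, nat_lit 8, nat_lit 0, nat_lit 1, nat_lit 2, nat_lit 3, nat_lit 4, nat_lit 5, nat_lit 2, nat_lit 1, nat_lit 3, nat_lit 2, nat_lit 8, nat_lit 3, nat_lit 8, nat_lit 10, nat_lit 1, nat_lit 12, nat_lit 15, nat_lit 17, nat_lit 18] (Rl.cmp (nat_lit 4456) (nat_lit 5293)))) (FT.leaf (Fct.mk false (nat_lit 33) (nat_lit 0) (nat_lit 33) [nat_lit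 0, nat_lit 1, nat_lit 2, nat_lit 3, nat_lit 4, nat_lit 5, nat_lit 6, nat_lit 7, nat_lit 4, nat_lit 3, nat_lit 8, nat_lit 1, nat_lit 2, nat_lit 3, nat_lit 4, nat_lit 5, nat_lit 1, nat_lit 3, nat_lit 2, nat_lit 0, nat_lit 1, nat_lit 9, nat_lit 4, nat_lit 3, nat_lit 2, nat_lit 8, nat_lit 3, nat_lit 0, nat_lit 14, nat_lit 17, nat_lit 12, nat_lit 19] (Rl.cmp (nat_lit 4456) (nat_lit 5294)))))) (FT.node (nat_lit 5298) (FT.node (nat_lit 5297) (FT.leaf (Fct.mk true (nat_lit 5) (nat_lit 5753) (nat_lit 33) [nat_lit 5, nat_lit 4, nat_lit 3, nat_lit 8, nat_lit 2, nat_lit 3, nat_lit 4, nat_lit 5, nat_lit 6, nat_lit 7, nat_lit 2, nat_lit 3, nat_lit 4, nat_lit 5, nat_lit 2, nat_lit 1, nat_lit 3, nat_lit 2, nat_lit 0, nat_lit 1, nat_lit 4, nat_lit 3, nat_lit 2, nat_lit 8, nat_lit 3, nat_lit 11, nat_lit 10, nat_lit 12, nat_lit 15, nat_lit 14, nat_lit 17, nat_lit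 19] (Rl.rel (nat_lit 0) [nat_lit 8, nat_lit 3, nat_lit 4, nat_lit 2, nat_lit 3, nat_lit 8, nat_lit 1, nat_lit 2, nat_lit 3, nat_lit 4, nat_lit 5, nat_lit 4, nat_lit 3, nat_lit 2, nat_lit 8, nat_lit 3, nat_lit 11, nat_lit 16, nat_lit 15, nat_lit 14, nat_lit 13, nat_lit 19] (nat_lit 33) (nat_lit 2) [nat_lit 4827, nat_lit 5291, nat_lit 3814] []))) (FT.leaf (Fct.mk true (nat_lit 5) (nat_lit 961) (nat_lit 33) [nat_lit 3, nat_lit 4, nat_lit 1, nat_lit 2, nat_lit 3, nat_lit 8, nat_lit 0, nat_lit 1, nat_lit 2, nat_lit 3, nat_lit 4, nat_lit 5, nat_lit 6, nat_lit 7, nat_lit 8, nat_lit 1, nat_lit 2, nat_lit 3, nat_lit 4, nat_lit 5, nat_lit 2, nat_lit 1, nat_lit 3, nat_lit 2, nat_lit 0, nat_lit 1, nat_lit 4, nat_lit 3, nat_lit 2, nat_lit 8, nat_lit 3, nat_lit 8, nat_lit 10, nat_lit 9, nat_lit 2, nat_lit 16, nat_lit 15, nat_lit 14, nat_lit 16, nat_lit 8]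 (Rl.t1 (nat_lit 5296) (nat_lit 4251))))) (FT.node (nat_lit 5299) (FT.leaf (Fct.mk true (nat_lit 33) (nat_lit 9767) (nat_lit 5) [nat_lit 5, nat_lit 6, nat_lit 7, nat_lit 1, nat_lit 2, nat_lit 3, nat_lit 8, nat_lit 0, nat_lit 1, nat_lit 2, nat_lit 3, nat_lit 4, nat_lit 5, nat_lit 2, nat_lit 1, nat_lit 8, nat_lit 4, nat_lit 3, nat_lit 2, nat_lit 0, nat_lit 1, nat_lit 9, nat_lit 4, nat_lit 3, nat_lit 2, nat_lit 8, nat_lit 3, nat_lit 1, nat_lit 16, nat_lit 8, nat_lit 12, nat_lit 15, nat_lit 17, nat_lit 12] (Rl.inv (nat_lit 5297)))) (FT.leaf (Fct.mk true (nat_lit 33) (nat_lit 63) (nat_lit 5) [nat_lit 8, nat_lit 6, nat_lit 5, nat_lit 3, nat_lit 4, nat_lit 1, nat_lit 2, nat_lit 3, nat_lit 8, nat_lit 0, nat_lit 1, nat_lit 2, nat_lit 3, nat_lit 4, nat_lit 5, nat_lit 6, nat_lit 7, nat_lit 8, nat_lit 5, nat_lit 2, nat_lit 3, nat_lit 4, nat_lit 1, nat_lit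 2, nat_lit 3, nat_lit 8, nat_lit 0, nat_lit 1, nat_lit 2, nat_lit 3, nat_lit 4, nat_lit 5, nat_lit 1, nat_lit 8, nat_lit 3, nat_lit 2, nat_lit 0, nat_lit 1, nat_lit 9, nat_lit 4, nat_lit 3, nat_lit 2, nat_lit 8, nat_lit 3, nat_lit 8, nat_lit 12, nat_lit 15, nat_lit 17, nat_lit 16] (Rl.t1 (nat_lit 5298) (nat_lit 5295)))))))))

/-- some facts -/
noncomputable def ftc106 : FT := FT.node (nat_lit 5325) (FT.node (nat_lit 5312) (FT.node (nat_lit 5306) (FT.node (nat_lit 5303) (FT.node (nat_lit 5301) (FT.leaf (Fct.mk false (nat_lit 32) (nat_lit 0) (nat_lit 32) [nat_lit 5, nat_lit 4, nat_lit 2, nat_lit 3, nat_lit 8, nat_lit 0, nat_lit 1, nat_lit 2, nat_lit 3, nat_lit 4, nat_lit 5, nat_lit 8, nat_lit 3, nat_lit 2, nat_lit 1, nat_lit 9, nat_lit 4, nat_lit 3, nat_lit 2, nat_lit 8, nat_lit 3, nat_lit 0, nat_lit 12, nat_lit 15, nat_lit 14, nat_lit 17, nat_lit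 12] (Rl.cmp (nat_lit 3047) (nat_lit 4076)))) (FT.node (nat_lit 5302) (FT.leaf (Fct.mk false (nat_lit 33) (nat_lit 0) (nat_lit 33) [nat_lit 3, nat_lit 4, nat_lit 5, nat_lit 2, nat_lit 3, nat_lit 4, nat_lit 1, nat_lit 2, nat_lit 3, nat_lit 8, nat_lit 0, nat_lit 1, nat_lit 2, nat_lit 3, nat_lit 4, nat_lit 5, nat_lit 6, nat_lit 7, nat_lit 5, nat_lit 4, nat_lit 2, nat_lit 3, nat_lit 8, nat_lit 1, nat_lit 2, nat_lit 3, nat_lit 4, nat_lit 5, nat_lit 1, nat_lit 8, nat_lit 3, nat_lit 2, nat_lit 0, nat_lit 1, nat_lit 4, nat_lit 3, nat_lit 2, nat_lit 8, nat_lit 3, nat_lit 11, nat_lit 10, nat_lit 16, nat_lit 12, nat_lit 15, nat_lit 14, nat_lit 12, nat_lit 19] (Rl.cmp (nat_lit 4605) (nat_lit 4605)))) (FT.leaf (Fct.mk false (nat_lit 33) (nat_lit 0) (nat_lit 33) [nat_lit 3, nat_lit 8, nat_lit 7, nat_lit 6, nat_lit 4, nat_lit 5, nat_lit 3, nat_lit 4, nat_lit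 2, nat_lit 3, nat_lit 8, nat_lit 0, nat_lit 1, nat_lit 2, nat_lit 3, nat_lit 4, nat_lit 5, nat_lit 6, nat_lit 7, nat_lit 8, nat_lit 3, nat_lit 4, nat_lit 1, nat_lit 2, nat_lit 3, nat_lit 8, nat_lit 5, nat_lit 6, nat_lit 4, nat_lit 5, nat_lit 3, nat_lit 4, nat_lit 2, nat_lit 3, nat_lit 8, nat_lit 1, nat_lit 2, nat_lit 3, nat_lit 4, nat_lit 5, nat_lit 4, nat_lit 3, nat_lit 2, nat_lit 8, nat_lit 3, nat_lit 8, nat_lit 10, nat_lit 0, nat_lit 12, nat_lit 15, nat_lit 19, nat_lit 16] (Rl.cmp (nat_lit 4400) (nat_lit 5301)))))) (FT.node (nat_lit 5304) (FT.leaf (Fct.mk false (nat_lit 33) (nat_lit 0) (nat_lit 33) [nat_lit 4, nat_lit 5, nat_lit 3, nat_lit 4, nat_lit 1, nat_lit 2, nat_lit 3, nat_lit 8, nat_lit 0, nat_lit 1, nat_lit 2, nat_lit 3, nat_lit 4, nat_lit 5, nat_lit 6, nat_lit 7, nat_lit 2, nat_lit 3, nat_lit 8, nat_lit 1, nat_lit 2, nat_lit 3,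 nat_lit 4, nat_lit 5, nat_lit 2, nat_lit 1, nat_lit 3, nat_lit 2, nat_lit 8, nat_lit 3, nat_lit 9, nat_lit 10, nat_lit 2, nat_lit 8, nat_lit 10, nat_lit 1, nat_lit 8, nat_lit 12, nat_lit 15, nat_lit 17, nat_lit 19] (Rl.cmp (nat_lit 4402) (nat_lit 5302)))) (FT.node (nat_lit 5305) (FT.leaf (Fct.mk false (nat_lit 33) (nat_lit 0) (nat_lit 33) [nat_lit 5, nat_lit 4, nat_lit 1, nat_lit 2, nat_lit 3, nat_lit 8, nat_lit 0, nat_lit 1, nat_lit 2, nat_lit 3, nat_lit 4, nat_lit 5, nat_lit 6, nat_lit 7, nat_lit 3, nat_lit 4, nat_lit 2, nat_lit 3, nat_lit 8, nat_lit 1, nat_lit 2, nat_lit 3, nat_lit 4, nat_lit 5, nat_lit 3, nat_lit 2, nat_lit 1, nat_lit 8, nat_lit 3, nat_lit 2, nat_lit 0, nat_lit 1, nat_lit 9, nat_lit 4, nat_lit 3, nat_lit 2, nat_lit 8, nat_lit 3, nat_lit 10, nat_lit 0, nat_lit 14, nat_lit 13, nat_lit 16] (Rl.cmp (nat_lit 4456) (nat_lit 5303))))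 (FT.leaf (Fct.mk true (nat_lit 33) (nat_lit 25014) (nat_lit 33) [nat_lit 8, nat_lit 2, nat_lit 3, nat_lit 4, nat_lit 1, nat_lit 2, nat_lit 3, nat_lit 8, nat_lit 0, nat_lit 1, nat_lit 2, nat_lit 3, nat_lit 4, nat_lit 5, nat_lit 6, nat_lit 7, nat_lit 5, nat_lit 4, nat_lit 2, nat_lit 3, nat_lit 8, nat_lit 0, nat_lit 1, nat_lit 2, nat_lit 3, nat_lit 4, nat_lit 5, nat_lit 3, nat_lit 8, nat_lit 10, nat_lit 9, nat_lit 2, nat_lit 15, nat_lit 16, nat_lit 8, nat_lit 19] (Rl.rel (nat_lit 0) [nat_lit 8, nat_lit 3, nat_lit 4, nat_lit 5, nat_lit 6, nat_lit 7, nat_lit 2, nat_lit 3, nat_lit 8, nat_lit 1, nat_lit 2, nat_lit 3, nat_lit 4, nat_lit 5, nat_lit 3, nat_lit 2, nat_lit 8, nat_lit 3, nat_lit 10, nat_lit 0, nat_lit 15, nat_lit 14, nat_lit 19] (nat_lit 33) (nat_lit 2) [nat_lit 4827, nat_lit 5300, nat_lit 5129] [])))))) (FT.node (nat_lit 5309) (FT.node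 (nat_lit 5307) (FT.leaf (Fct.mk true (nat_lit 33) (nat_lit 163) (nat_lit 33) [nat_lit 7, nat_lit 4, nat_lit 5, nat_lit 6, nat_lit 3, nat_lit 4, nat_lit 5, nat_lit 2, nat_lit 3, nat_lit 4, nat_lit 1, nat_lit 2, nat_lit 3, nat_lit 8, nat_lit 0, nat_lit 1, nat_lit 2, nat_lit 3, nat_lit 4, nat_lit 5, nat_lit 6, nat_lit 7, nat_lit 2, nat_lit 3, nat_lit 8, nat_lit 1, nat_lit 2, nat_lit 3, nat_lit 4, nat_lit 5, nat_lit 1, nat_lit 4, nat_lit 3, nat_lit 2, nat_lit 8, nat_lit 3, nat_lit 2, nat_lit 10, nat_lit 1, nat_lit 8, nat_lit 16, nat_lit 14, nat_lit 17, nat_lit 18, nat_lit 16] (Rl.t1 (nat_lit 5305) (nat_lit 5304)))) (FT.node (nat_lit 5308) (FT.leaf (Fct.mk false (nat_lit 33) (nat_lit 0) (nat_lit 33) [nat_lit 2, nat_lit 3, nat_lit 8, nat_lit 1, nat_lit 2, nat_lit 3, nat_lit 4, nat_lit 5, nat_lit 6, nat_lit 7, nat_lit 2, nat_lit 3, nat_lit 8, nat_lit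 0, nat_lit 1, nat_lit 2, nat_lit 3, nat_lit 4, nat_lit 5, nat_lit 3, nat_lit 2, nat_lit 1, nat_lit 9, nat_lit 4, nat_lit 3, nat_lit 2, nat_lit 8, nat_lit 3, nat_lit 0, nat_lit 14, nat_lit 8, nat_lit 18] (Rl.cmp (nat_lit 4456) (nat_lit 4400)))) (FT.leaf (Fct.mk false (nat_lit 33) (nat_lit 0) (nat_lit 33) [nat_lit 104] (Rl.cmp (nat_lit 4400) (nat_lit 5307)))))) (FT.node (nat_lit 5310) (FT.leaf (Fct.mk false (nat_lit 33) (nat_lit 0) (nat_lit 33) [nat_lit 6, nat_lit 5, nat_lit 4, nat_lit 3, nat_lit 8, nat_lit 1, nat_lit 2, nat_lit 3, nat_lit 4, nat_lit 5, nat_lit 6, nat_lit 7, nat_lit 3, nat_lit 4, nat_lit 1, nat_lit 2, nat_lit 3, nat_lit 8, nat_lit 5, nat_lit 6, nat_lit 4, nat_lit 5, nat_lit 3, nat_lit 4, nat_lit 2, nat_lit 3, nat_lit 8, nat_lit 1, nat_lit 2, nat_lit 3, nat_lit 4, nat_lit 5, nat_lit 2, nat_lit 0, nat_lit 1, nat_lit 4, nat_lit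 3, nat_lit 2, nat_lit 8, nat_lit 3, nat_lit 11, nat_lit 10, nat_lit 2, nat_lit 8, nat_lit 10, nat_lit 1, nat_lit 8, nat_lit 16, nat_lit 15, nat_lit 14, nat_lit 17, nat_lit 12, nat_lit 16] (Rl.cmp (nat_lit 4605) (nat_lit 5308)))) (FT.node (nat_lit 5311) (FT.leaf (Fct.mk false (nat_lit 33) (nat_lit 0) (nat_lit 33) [nat_lit 2, nat_lit 3, nat_lit 8, nat_lit 1, nat_lit 2, nat_lit 3, nat_lit 4, nat_lit 5, nat_lit 6, nat_lit 7, nat_lit 8, nat_lit 3, nat_lit 4, nat_lit 2, nat_lit 3, nat_lit 8, nat_lit 1, nat_lit 2, nat_lit 3, nat_lit 4, nat_lit 5, nat_lit 4, nat_lit 3, nat_lit 2, nat_lit 0, nat_lit 1, nat_lit 9, nat_lit 4, nat_lit 3, nat_lit 2, nat_lit 8, nat_lit 3, nat_lit 11, nat_lit 8, nat_lit 10, nat_lit 12, nat_lit 8, nat_lit 16, nat_lit 14, nat_lit 17, nat_lit 16] (Rl.cmp (nat_lit 4402) (nat_lit 5309)))) (FT.leaf (Fct.mk false (nat_lit 33) (nat_lit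 0) (nat_lit 33) [nat_lit 3, nat_lit 8, nat_lit 7, nat_lit 5, nat_lit 6, nat_lit 4, nat_lit 5, nat_lit 3, nat_lit 4, nat_lit 2, nat_lit 3, nat_lit 8, nat_lit 1, nat_lit 2, nat_lit 3, nat_lit 4, nat_lit 5, nat_lit 6, nat_lit 7, nat_lit 8, nat_lit 3, nat_lit 4, nat_lit 2, nat_lit 3, nat_lit 8, nat_lit 0, nat_lit 1, nat_lit 2, nat_lit 3, nat_lit 4, nat_lit 5, nat_lit 1, nat_lit 2, nat_lit 0, nat_lit 1, nat_lit 9, nat_lit 4, nat_lit 3, nat_lit 2, nat_lit 8, nat_lit 3, nat_lit 2, nat_lit 8, nat_lit 10, nat_lit 1, nat_lit 12, nat_lit 8, nat_lit 16, nat_lit 14, nat_lit 8, nat_lit 19, nat_lit 16] (Rl.cmp (nat_lit 4456) (nat_lit 5310)))))))) (FT.node (nat_lit 5318) (FT.node (nat_lit 5315) (FT.node (nat_lit 5313) (FT.leaf (Fct.mk false (nat_lit 33) (nat_lit 0) (nat_lit 33) [nat_lit 1, nat_lit 2, nat_lit 3, nat_lit 4, nat_lit 5, nat_lit 3, nat_lit 2, nat_lit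 1, nat_lit 4, nat_lit 3, nat_lit 2, nat_lit 0, nat_lit 1, nat_lit 9, nat_lit 4, nat_lit 3, nat_lit 2, nat_lit 8, nat_lit 3, nat_lit 2, nat_lit 10, nat_lit 1, nat_lit 12, nat_lit 8, nat_lit 16, nat_lit 14, nat_lit 13, nat_lit 12, nat_lit 18] (Rl.cmp (nat_lit 4456) (nat_lit 5311)))) (FT.node (nat_lit 5314) (FT.leaf (Fct.mk false (nat_lit 33) (nat_lit 0) (nat_lit 33) [nat_lit 5, nat_lit 2, nat_lit 3, nat_lit 4, nat_lit 1, nat_lit 2, nat_lit 3, nat_lit 8, nat_lit 0, nat_lit 1, nat_lit 2, nat_lit 3, nat_lit 4, nat_lit 5, nat_lit 6, nat_lit 7, nat_lit 8, nat_lit 6, nat_lit 4, nat_lit 5, nat_lit 3, nat_lit 4, nat_lit 1, nat_lit 2, nat_lit 3, nat_lit 8, nat_lit 0, nat_lit 1, nat_lit 2, nat_lit 3, nat_lit 4, nat_lit 5, nat_lit 2, nat_lit 1, nat_lit 9, nat_lit 4, nat_lit 3, nat_lit 2, nat_lit 8, nat_lit 3, nat_lit 1, nat_lit 0, nat_lit 2, nat_lit 16,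 nat_lit 15, nat_lit 14, nat_lit 18, nat_lit 16] (Rl.cmp (nat_lit 4605) (nat_lit 4456)))) (FT.leaf (Fct.mk false (nat_lit 33) (nat_lit 0) (nat_lit 33) [nat_lit 5, nat_lit 4, nat_lit 3, nat_lit 8, nat_lit 2, nat_lit 3, nat_lit 4, nat_lit 5, nat_lit 6, nat_lit 7, nat_lit 8, nat_lit 6, nat_lit 4, nat_lit 5, nat_lit 3, nat_lit 4, nat_lit 1, nat_lit 2, nat_lit 3, nat_lit 8, nat_lit 0, nat_lit 1, nat_lit 2, nat_lit 3, nat_lit 4, nat_lit 5, nat_lit 1, nat_lit 2, nat_lit 0, nat_lit 1, nat_lit 9, nat_lit 4, nat_lit 3, nat_lit 2, nat_lit 8, nat_lit 3, nat_lit 11, nat_lit 10, nat_lit 1, nat_lit 8, nat_lit 12, nat_lit 15, nat_lit 14, nat_lit 13, nat_lit 19] (Rl.cmp (nat_lit 4456) (nat_lit 5313)))))) (FT.node (nat_lit 5316) (FT.leaf (Fct.mk true (nat_lit 32) (nat_lit 4191) (nat_lit 33) [nat_lit 5, nat_lit 4, nat_lit 2, nat_lit 3, nat_lit 8, nat_lit 0, nat_lit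 1, nat_lit 2, nat_lit 3, nat_lit 4, nat_lit 5, nat_lit 6, nat_lit 7, nat_lit 8, nat_lit 6, nat_lit 5, nat_lit 3, nat_lit 4, nat_lit 2, nat_lit 3, nat_lit 8, nat_lit 1, nat_lit 2, nat_lit 3, nat_lit 4, nat_lit 5, nat_lit 9, nat_lit 4, nat_lit 3, nat_lit 2, nat_lit 8, nat_lit 3, nat_lit 0, nat_lit 2, nat_lit 8, nat_lit 12, nat_lit 15, nat_lit 14, nat_lit 17] (Rl.rel (nat_lit 0) [nat_lit 3, nat_lit 4, nat_lit 5, nat_lit 2, nat_lit 3, nat_lit 4, nat_lit 1, nat_lit 2, nat_lit 3, nat_lit 8, nat_lit 0, nat_lit 1, nat_lit 2, nat_lit 3, nat_lit 4, nat_lit 5, nat_lit 1, nat_lit 8, nat_lit 3, nat_lit 2, nat_lit 0, nat_lit 1, nat_lit 4, nat_lit 3, nat_lit 2, nat_lit 8, nat_lit 3, nat_lit 10, nat_lit 8, nat_lit 16, nat_lit 14, nat_lit 17, nat_lit 12, nat_lit 18, nat_lit 16] (nat_lit 33) (nat_lit 1) [nat_lit 4827] [nat_lit 5312, nat_lit 5062]))) (FT.node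 (nat_lit 5317) (FT.leaf (Fct.mk true (nat_lit 32) (nat_lit 1397) (nat_lit 33) [nat_lit 7, nat_lit 6, nat_lit 5, nat_lit 3, nat_lit 4, nat_lit 2, nat_lit 3, nat_lit 8, nat_lit 1, nat_lit 2, nat_lit 3, nat_lit 4, nat_lit 5, nat_lit 6, nat_lit 7, nat_lit 4, nat_lit 3, nat_lit 8, nat_lit 2, nat_lit 3, nat_lit 4, nat_lit 1, nat_lit 2, nat_lit 3, nat_lit 8, nat_lit 0, nat_lit 1, nat_lit 2, nat_lit 3, nat_lit 4, nat_lit 5, nat_lit 1, nat_lit 2, nat_lit 0, nat_lit 1, nat_lit 9, nat_lit 4, nat_lit 3, nat_lit 2, nat_lit 8, nat_lit 3, nat_lit 2, nat_lit 10, nat_lit 1, nat_lit 8, nat_lit 12, nat_lit 15, nat_lit 16, nat_lit 8] (Rl.t1 (nat_lit 5315) (nat_lit 4220)))) (FT.leaf (Fct.mk true (nat_lit 33) (nat_lit 540) (nat_lit 32) [nat_lit 4, nat_lit 3, nat_lit 8, nat_lit 6, nat_lit 7, nat_lit 5, nat_lit 6, nat_lit 4, nat_lit 5, nat_lit 3, nat_lit 4, nat_lit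 2, nat_lit 3, nat_lit 8, nat_lit 0, nat_lit 1, nat_lit 2, nat_lit 3, nat_lit 4, nat_lit 5, nat_lit 6, nat_lit 7, nat_lit 4, nat_lit 5, nat_lit 2, nat_lit 0, nat_lit 1, nat_lit 4, nat_lit 3, nat_lit 2, nat_lit 8, nat_lit 3, nat_lit 11, nat_lit 8, nat_lit 10, nat_lit 1, nat_lit 16, nat_lit 12, nat_lit 15, nat_lit 14, nat_lit 12, nat_lit 19] (Rl.inv (nat_lit 5316))))))) (FT.node (nat_lit 5321) (FT.node (nat_lit 5319) (FT.leaf (Fct.mk true (nat_lit 33) (nat_lit 18) (nat_lit 32) [nat_lit 7, nat_lit 5, nat_lit 6, nat_lit 4, nat_lit 5, nat_lit 2, nat_lit 3, nat_lit 4, nat_lit 1, nat_lit 2, nat_lit 3, nat_lit 8, nat_lit 0, nat_lit 1, nat_lit 2, nat_lit 3, nat_lit 4, nat_lit 5, nat_lit 6, nat_lit 7, nat_lit 4, nat_lit 3, nat_lit 8, nat_lit 2, nat_lit 3, nat_lit 4, nat_lit 1, nat_lit 2, nat_lit 3, nat_lit 8, nat_lit 0, nat_lit 1, nat_lit 2, nat_lit 3,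 nat_lit 4, nat_lit 5, nat_lit 2, nat_lit 0, nat_lit 1, nat_lit 3, nat_lit 2, nat_lit 8, nat_lit 3, nat_lit 2, nat_lit 8, nat_lit 10, nat_lit 1, nat_lit 12, nat_lit 15, nat_lit 12] (Rl.t1 (nat_lit 5317) (nat_lit 5314)))) (FT.node (nat_lit 5320) (FT.leaf (Fct.mk false (nat_lit 32) (nat_lit 0) (nat_lit 32) [nat_lit 5, nat_lit 4, nat_lit 2, nat_lit 3, nat_lit 8, nat_lit 1, nat_lit 2, nat_lit 3, nat_lit 4, nat_lit 5, nat_lit 0, nat_lit 1, nat_lit 3, nat_lit 2, nat_lit 8, nat_lit 3, nat_lit 11, nat_lit 8, nat_lit 10, nat_lit 1, nat_lit 8, nat_lit 16, nat_lit 15, nat_lit 14, nat_lit 13, nat_lit 12] (Rl.cmp (nat_lit 3004) (nat_lit 4230)))) (FT.leaf (Fct.mk false (nat_lit 33) (nat_lit 0) (nat_lit 33) [nat_lit 4, nat_lit 3, nat_lit 8, nat_lit 2, nat_lit 3, nat_lit 4, nat_lit 1, nat_lit 2, nat_lit 3, nat_lit 8, nat_lit 0, nat_lit 1, nat_lit 2, nat_lit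 3, nat_lit 4, nat_lit 5, nat_lit 6, nat_lit 7, nat_lit 6, nat_lit 4, nat_lit 5, nat_lit 2, nat_lit 3, nat_lit 4, nat_lit 1, nat_lit 2, nat_lit 3, nat_lit 8, nat_lit 0, nat_lit 1, nat_lit 2, nat_lit 3, nat_lit 4, nat_lit 5, nat_lit 8, nat_lit 3, nat_lit 2, nat_lit 1, nat_lit 9, nat_lit 4, nat_lit 3, nat_lit 2, nat_lit 8, nat_lit 3, nat_lit 2, nat_lit 14, nat_lit 13, nat_lit 19] (Rl.cmp (nat_lit 4605) (nat_lit 4402)))))) (FT.node (nat_lit 5323) (FT.node (nat_lit 5322) (FT.leaf (Fct.mk false (nat_lit 33) (nat_lit 0) (nat_lit 33) [nat_lit 7, nat_lit 6, nat_lit 5, nat_lit 3, nat_lit 4, nat_lit 1, nat_lit 2, nat_lit 3, nat_lit 8, nat_lit 0, nat_lit 1, nat_lit 2, nat_lit 3, nat_lit 4, nat_lit 5, nat_lit 6, nat_lit 7, nat_lit 8, nat_lit 3, nat_lit 4, nat_lit 2, nat_lit 3, nat_lit 8, nat_lit 1, nat_lit 2, nat_lit 3, nat_lit 4, nat_lit 5, nat_lit 8,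 nat_lit 3, nat_lit 2, nat_lit 0, nat_lit 1, nat_lit 9, nat_lit 4, nat_lit 3, nat_lit 2, nat_lit 8, nat_lit 3, nat_lit 0, nat_lit 2, nat_lit 16, nat_lit 14, nat_lit 17, nat_lit 12] (Rl.cmp (nat_lit 4456) (nat_lit 5320)))) (FT.leaf (Fct.mk false (nat_lit 33) (nat_lit 0) (nat_lit 33) [nat_lit 8, nat_lit 6, nat_lit 5, nat_lit 3, nat_lit 4, nat_lit 2, nat_lit 3, nat_lit 8, nat_lit 0, nat_lit 1, nat_lit 2, nat_lit 3, nat_lit 4, nat_lit 5, nat_lit 6, nat_lit 7, nat_lit 3, nat_lit 8, nat_lit 4, nat_lit 5, nat_lit 3, nat_lit 4, nat_lit 2, nat_lit 3, nat_lit 8, nat_lit 1, nat_lit 2, nat_lit 3, nat_lit 4, nat_lit 5, nat_lit 4, nat_lit 3, nat_lit 2, nat_lit 1, nat_lit 9, nat_lit 4, nat_lit 3, nat_lit 2, nat_lit 8, nat_lit 3, nat_lit 2, nat_lit 8, nat_lit 10, nat_lit 1, nat_lit 8, nat_lit 12, nat_lit 15, nat_lit 17, nat_lit 18] (Rl.cmp (nat_lit 4402) (nat_lit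 5321))))) (FT.node (nat_lit 5324) (FT.leaf (Fct.mk false (nat_lit 33) (nat_lit 0) (nat_lit 33) [nat_lit 8, nat_lit 6, nat_lit 5, nat_lit 2, nat_lit 3, nat_lit 4, nat_lit 1, nat_lit 2, nat_lit 3, nat_lit 8, nat_lit 0, nat_lit 1, nat_lit 2, nat_lit 3, nat_lit 4, nat_lit 5, nat_lit 6, nat_lit 7, nat_lit 4, nat_lit 5, nat_lit 3, nat_lit 4, nat_lit 2, nat_lit 3, nat_lit 8, nat_lit 1, nat_lit 2, nat_lit 3, nat_lit 4, nat_lit 5, nat_lit 2, nat_lit 1, nat_lit 4, nat_lit 3, nat_lit 2, nat_lit 8, nat_lit 3, nat_lit 0, nat_lit 8, nat_lit 12, nat_lit 15, nat_lit 14, nat_lit 17, nat_lit 12, nat_lit 16] (Rl.cmp (nat_lit 4456) (nat_lit 5322)))) (FT.leaf (Fct.mk false (nat_lit 33) (nat_lit 0) (nat_lit 33) [nat_lit 6, nat_lit 5, nat_lit 2, nat_lit 3, nat_lit 4, nat_lit 1, nat_lit 2, nat_lit 3, nat_lit 8, nat_lit 0, nat_lit 1, nat_lit 2, nat_lit 3, nat_lit 4,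 nat_lit 5, nat_lit 6, nat_lit 7, nat_lit 6, nat_lit 5, nat_lit 3, nat_lit 4, nat_lit 1, nat_lit 2, nat_lit 3, nat_lit 8, nat_lit 0, nat_lit 1, nat_lit 2, nat_lit 3, nat_lit 4, nat_lit 5, nat_lit 3, nat_lit 8, nat_lit 4, nat_lit 3, nat_lit 2, nat_lit 1, nat_lit 9, nat_lit 4, nat_lit 3, nat_lit 2, nat_lit 8, nat_lit 3, nat_lit 2, nat_lit 10, nat_lit 1, nat_lit 16, nat_lit 14, nat_lit 16, nat_lit 8, nat_lit 19] (Rl.cmp (nat_lit 4605) (nat_lit 5323))))))))) (FT.node (nat_lit 5337) (FT.node (nat_lit 5331) (FT.node (nat_lit 5328) (FT.node (nat_lit 5326) (FT.leaf (Fct.mk true (nat_lit 32) (nat_lit 57111) (nat_lit 33) [nat_lit 7, nat_lit 3, nat_lit 8, nat_lit 5, nat_lit 6, nat_lit 4, nat_lit 5, nat_lit 3, nat_lit 4, nat_lit 1, nat_lit 2, nat_lit 3, nat_lit 8, nat_lit 0, nat_lit 1, nat_lit 2, nat_lit 3, nat_lit 4, nat_lit 5, nat_lit 2, nat_lit 0, nat_lit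 1, nat_lit 4, nat_lit 3, nat_lit 2, nat_lit 8, nat_lit 3, nat_lit 10, nat_lit 2, nat_lit 8, nat_lit 10, nat_lit 1, nat_lit 16, nat_lit 8, nat_lit 12, nat_lit 15, nat_lit 17, nat_lit 12, nat_lit 18] (Rl.rel (nat_lit 0) [nat_lit 8, nat_lit 3, nat_lit 4, nat_lit 5, nat_lit 6, nat_lit 7, nat_lit 2, nat_lit 3, nat_lit 8, nat_lit 1, nat_lit 2, nat_lit 3, nat_lit 4, nat_lit 5, nat_lit 0, nat_lit 1, nat_lit 3, nat_lit 2, nat_lit 8, nat_lit 3, nat_lit 2, nat_lit 12, nat_lit 15, nat_lit 14, nat_lit 19] (nat_lit 33) (nat_lit 2) [nat_lit 4827, nat_lit 5319, nat_lit 3723] []))) (FT.node (nat_lit 5327) (FT.leaf (Fct.mk true (nat_lit 32) (nat_lit 527) (nat_lit 33) [nat_lit 4, nat_lit 3, nat_lit 8, nat_lit 6, nat_lit 7, nat_lit 5, nat_lit 6, nat_lit 4, nat_lit 5, nat_lit 3, nat_lit 4, nat_lit 2, nat_lit 3, nat_lit 8, nat_lit 1, nat_lit 2, nat_lit 3, nat_lit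 4, nat_lit 5, nat_lit 6, nat_lit 7, nat_lit 8, nat_lit 2, nat_lit 3, nat_lit 4, nat_lit 5, nat_lit 3, nat_lit 10, nat_lit 0, nat_lit 8, nat_lit 12, nat_lit 15, nat_lit 19, nat_lit 16] (Rl.t1 (nat_lit 5325) (nat_lit 4310)))) (FT.leaf (Fct.mk true (nat_lit 33) (nat_lit 98044) (nat_lit 32) [nat_lit 8, nat_lit 7, nat_lit 6, nat_lit 4, nat_lit 5, nat_lit 3, nat_lit 4, nat_lit 2, nat_lit 3, nat_lit 8, nat_lit 0, nat_lit 1, nat_lit 2, nat_lit 3, nat_lit 4, nat_lit 5, nat_lit 6, nat_lit 7, nat_lit 2, nat_lit 3, nat_lit 4, nat_lit 5, nat_lit 8, nat_lit 3, nat_lit 1, nat_lit 9, nat_lit 16, nat_lit 14, nat_lit 16, nat_lit 8, nat_lit 18, nat_lit 16] (Rl.inv (nat_lit 5326)))))) (FT.node (nat_lit 5329) (FT.leaf (Fct.mk true (nat_lit 33) (nat_lit 424) (nat_lit 32) [nat_lit 5, nat_lit 4, nat_lit 3, nat_lit 8, nat_lit 2, nat_lit 3, nat_lit 4, nat_lit 1, nat_lit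 2, nat_lit 3, nat_lit 8, nat_lit 7, nat_lit 5, nat_lit 6, nat_lit 4, nat_lit 5, nat_lit 3, nat_lit 4, nat_lit 2, nat_lit 3, nat_lit 8, nat_lit 1, nat_lit 2, nat_lit 3, nat_lit 4, nat_lit 5, nat_lit 6, nat_lit 7, nat_lit 3, nat_lit 4, nat_lit 5, nat_lit 2, nat_lit 3, nat_lit 4, nat_lit 1, nat_lit 2, nat_lit 3, nat_lit 8, nat_lit 0, nat_lit 1, nat_lit 2, nat_lit 3, nat_lit 4, nat_lit 5, nat_lit 1, nat_lit 4, nat_lit 3, nat_lit 2, nat_lit 8, nat_lit 3, nat_lit 1, nat_lit 8, nat_lit 18] (Rl.t1 (nat_lit 5327) (nat_lit 5324)))) (FT.node (nat_lit 5330) (FT.leaf (Fct.mk false (nat_lit 32) (nat_lit 0) (nat_lit 32) [nat_lit 93] (Rl.cmp (nat_lit 3047) (nat_lit 3935)))) (FT.leaf (Fct.mk false (nat_lit 32) (nat_lit 0) (nat_lit 32) [nat_lit 8, nat_lit 5, nat_lit 6, nat_lit 4, nat_lit 5, nat_lit 2, nat_lit 3, nat_lit 4, nat_lit 1, nat_lit 2, nat_lit 3, nat_lit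 8, nat_lit 0, nat_lit 1, nat_lit 2, nat_lit 3, nat_lit 4, nat_lit 5, nat_lit 1, nat_lit 4, nat_lit 3, nat_lit 2, nat_lit 8, nat_lit 3, nat_lit 11, nat_lit 2, nat_lit 10, nat_lit 1, nat_lit 16, nat_lit 14, nat_lit 17, nat_lit 12] (Rl.cmp (nat_lit 3047) (nat_lit 5329))))))) (FT.node (nat_lit 5334) (FT.node (nat_lit 5332) (FT.leaf (Fct.mk false (nat_lit 32) (nat_lit 0) (nat_lit 32) [nat_lit 2, nat_lit 3, nat_lit 8, nat_lit 6, nat_lit 4, nat_lit 5, nat_lit 3, nat_lit 4, nat_lit 2, nat_lit 3, nat_lit 8, nat_lit 0, nat_lit 1, nat_lit 2, nat_lit 3, nat_lit 4, nat_lit 5, nat_lit 0, nat_lit 1, nat_lit 4, nat_lit 3, nat_lit 2, nat_lit 8, nat_lit 3, nat_lit 0, nat_lit 8, nat_lit 16, nat_lit 15, nat_lit 14, nat_lit 8, nat_lit 18] (Rl.cmp (nat_lit 3010) (nat_lit 5330)))) (FT.node (nat_lit 5333) (FT.leaf (Fct.mk false (nat_lit 32) (nat_lit 0) (nat_lit 32)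 [nat_lit 4, nat_lit 0, nat_lit 8] (Rl.cmp (nat_lit 3004) (nat_lit 5331)))) (FT.leaf (Fct.mk false (nat_lit 33) (nat_lit 0) (nat_lit 33) [nat_lit 4, nat_lit 3, nat_lit 8, nat_lit 2, nat_lit 3, nat_lit 4, nat_lit 1, nat_lit 2, nat_lit 3, nat_lit 8, nat_lit 0, nat_lit 1, nat_lit 2, nat_lit 3, nat_lit 4, nat_lit 5, nat_lit 6, nat_lit 7, nat_lit 6, nat_lit 4, nat_lit 5, nat_lit 2, nat_lit 3, nat_lit 4, nat_lit 1, nat_lit 2, nat_lit 3, nat_lit 8, nat_lit 0, nat_lit 1, nat_lit 2, nat_lit 3, nat_lit 4, nat_lit 5, nat_lit 8, nat_lit 3, nat_lit 2, nat_lit 1, nat_lit 9, nat_lit 4, nat_lit 3, nat_lit 2, nat_lit 8, nat_lit 3, nat_lit 2, nat_lit 14, nat_lit 13, nat_lit 19] (Rl.cmp (nat_lit 4605) (nat_lit 4402)))))) (FT.node (nat_lit 5335) (FT.leaf (Fct.mk false (nat_lit 33) (nat_lit 0) (nat_lit 33) [nat_lit 8, nat_lit 7, nat_lit 6, nat_lit 5, nat_lit 3,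 nat_lit 4, nat_lit 1, nat_lit 2, nat_lit 3, nat_lit 8, nat_lit 0, nat_lit 1, nat_lit 2, nat_lit 3, nat_lit 4, nat_lit 5, nat_lit 6, nat_lit 7, nat_lit 3, nat_lit 4, nat_lit 1, nat_lit 2, nat_lit 3, nat_lit 8, nat_lit 5, nat_lit 6, nat_lit 4, nat_lit 5, nat_lit 3, nat_lit 4, nat_lit 2, nat_lit 3, nat_lit 8, nat_lit 1, nat_lit 2, nat_lit 3, nat_lit 4, nat_lit 5, nat_lit 2, nat_lit 1, nat_lit 4, nat_lit 3, nat_lit 2, nat_lit 8, nat_lit 3, nat_lit 2, nat_lit 8, nat_lit 10, nat_lit 1, nat_lit 8, nat_lit 12, nat_lit 15, nat_lit 14, nat_lit 13, nat_lit 19, nat_lit 16] (Rl.cmp (nat_lit 4605) (nat_lit 5333)))) (FT.node (nat_lit 5336) (FT.leaf (Fct.mk false (nat_lit 33) (nat_lit 0) (nat_lit 33) [nat_lit 4, nat_lit 2, nat_lit 3, nat_lit 8, nat_lit 0, nat_lit 1, nat_lit 2, nat_lit 3, nat_lit 4, nat_lit 5, nat_lit 6, nat_lit 7, nat_lit 8, nat_lit 5, nat_lit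 3, nat_lit 4, nat_lit 2, nat_lit 3, nat_lit 8, nat_lit 0, nat_lit 1, nat_lit 2, nat_lit 3, nat_lit 4, nat_lit 5, nat_lit 3, nat_lit 8, nat_lit 4, nat_lit 3, nat_lit 2, nat_lit 0, nat_lit 1, nat_lit 9, nat_lit 4, nat_lit 3, nat_lit 2, nat_lit 8, nat_lit 3, nat_lit 9, nat_lit 10, nat_lit 2, nat_lit 8, nat_lit 10, nat_lit 1, nat_lit 16, nat_lit 15, nat_lit 14, nat_lit 8, nat_lit 16] (Rl.cmp (nat_lit 4400) (nat_lit 5334)))) (FT.leaf (Fct.mk true (nat_lit 33) (nat_lit 92504) (nat_lit 33) [nat_lit 2, nat_lit 3, nat_lit 4, nat_lit 1, nat_lit 2, nat_lit 3, nat_lit 8, nat_lit 6, nat_lit 7, nat_lit 5, nat_lit 6, nat_lit 4, nat_lit 5, nat_lit 3, nat_lit 4, nat_lit 2, nat_lit 3, nat_lit 8, nat_lit 1, nat_lit 2, nat_lit 3, nat_lit 4, nat_lit 5, nat_lit 6, nat_lit 7, nat_lit 2, nat_lit 3, nat_lit 4, nat_lit 5, nat_lit 2, nat_lit 3, nat_lit 10, nat_lit 12,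 nat_lit 8, nat_lit 16, nat_lit 14, nat_lit 17, nat_lit 12, nat_lit 18, nat_lit 16] (Rl.rel (nat_lit 0) [nat_lit 8, nat_lit 3, nat_lit 4, nat_lit 5, nat_lit 6, nat_lit 7, nat_lit 2, nat_lit 3, nat_lit 8, nat_lit 1, nat_lit 2, nat_lit 3, nat_lit 4, nat_lit 5, nat_lit 3, nat_lit 2, nat_lit 8, nat_lit 3, nat_lit 11, nat_lit 10, nat_lit 15, nat_lit 14, nat_lit 13, nat_lit 19] (nat_lit 33) (nat_lit 2) [nat_lit 4827, nat_lit 5332, nat_lit 4580] []))))))) (FT.node (nat_lit 5343) (FT.node (nat_lit 5340) (FT.node (nat_lit 5338) (FT.leaf (Fct.mk true (nat_lit 33) (nat_lit 20) (nat_lit 33) [nat_lit 3, nat_lit 4, nat_lit 5, nat_lit 2, nat_lit 3, nat_lit 4, nat_lit 1, nat_lit 2, nat_lit 3, nat_lit 8, nat_lit 0, nat_lit 1, nat_lit 2, nat_lit 3, nat_lit 4, nat_lit 5, nat_lit 6, nat_lit 7, nat_lit 4, nat_lit 3, nat_lit 8, nat_lit 5, nat_lit 6, nat_lit 4, nat_lit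 5, nat_lit 3, nat_lit 4, nat_lit 2, nat_lit 3, nat_lit 8, nat_lit 1, nat_lit 2, nat_lit 3, nat_lit 4, nat_lit 5, nat_lit 3, nat_lit 2, nat_lit 1, nat_lit 8, nat_lit 3, nat_lit 2, nat_lit 0, nat_lit 1, nat_lit 4, nat_lit 3, nat_lit 2, nat_lit 8, nat_lit 3, nat_lit 11, nat_lit 8, nat_lit 10, nat_lit 1, nat_lit 15, nat_lit 17, nat_lit 18] (Rl.t1 (nat_lit 5336) (nat_lit 5335)))) (FT.node (nat_lit 5339) (FT.leaf (Fct.mk false (nat_lit 33) (nat_lit 0) (nat_lit 33) [nat_lit 3, nat_lit 4, nat_lit 5, nat_lit 2, nat_lit 3, nat_lit 4, nat_lit 1, nat_lit 2, nat_lit 3, nat_lit 8, nat_lit 0, nat_lit 1, nat_lit 2, nat_lit 3, nat_lit 4, nat_lit 5, nat_lit 6, nat_lit 7, nat_lit 5, nat_lit 4, nat_lit 2, nat_lit 3, nat_lit 8, nat_lit 1, nat_lit 2, nat_lit 3, nat_lit 4, nat_lit 5, nat_lit 1, nat_lit 8, nat_lit 3, nat_lit 2, nat_lit 0, nat_lit 1, nat_lit 4, nat_lit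 3, nat_lit 2, nat_lit 8, nat_lit 3, nat_lit 11, nat_lit 10, nat_lit 16, nat_lit 12, nat_lit 15, nat_lit 14, nat_lit 12, nat_lit 19] (Rl.cmp (nat_lit 4605) (nat_lit 4605)))) (FT.leaf (Fct.mk false (nat_lit 33) (nat_lit 0) (nat_lit 33) [nat_lit 3, nat_lit 8, nat_lit 7, nat_lit 6, nat_lit 4, nat_lit 5, nat_lit 3, nat_lit 4, nat_lit 2, nat_lit 3, nat_lit 8, nat_lit 0, nat_lit 1, nat_lit 2, nat_lit 3, nat_lit 4, nat_lit 5, nat_lit 6, nat_lit 7, nat_lit 8, nat_lit 3, nat_lit 4, nat_lit 1, nat_lit 2, nat_lit 3, nat_lit 8, nat_lit 5, nat_lit 6, nat_lit 4, nat_lit 5, nat_lit 3, nat_lit 4, nat_lit 2, nat_lit 3, nat_lit 8, nat_lit 1, nat_lit 2, nat_lit 3, nat_lit 4, nat_lit 5, nat_lit 4, nat_lit 3, nat_lit 2, nat_lit 8, nat_lit 3, nat_lit 8, nat_lit 10, nat_lit 0, nat_lit 12, nat_lit 15, nat_lit 19, nat_lit 16] (Rl.cmp (nat_lit 4400) (nat_lit 5338))))))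 (FT.node (nat_lit 5341) (FT.leaf (Fct.mk false (nat_lit 33) (nat_lit 0) (nat_lit 33) [nat_lit 4, nat_lit 5, nat_lit 3, nat_lit 4, nat_lit 1, nat_lit 2, nat_lit 3, nat_lit 8, nat_lit 0, nat_lit 1, nat_lit 2, nat_lit 3, nat_lit 4, nat_lit 5, nat_lit 6, nat_lit 7, nat_lit 2, nat_lit 3, nat_lit 8, nat_lit 1, nat_lit 2, nat_lit 3, nat_lit 4, nat_lit 5, nat_lit 2, nat_lit 1, nat_lit 3, nat_lit 2, nat_lit 8, nat_lit 3, nat_lit 9, nat_lit 10, nat_lit 2, nat_lit 8, nat_lit 10, nat_lit 1, nat_lit 8, nat_lit 12, nat_lit 15, nat_lit 17, nat_lit 19] (Rl.cmp (nat_lit 4402) (nat_lit 5339)))) (FT.node (nat_lit 5342) (FT.leaf (Fct.mk false (nat_lit 33) (nat_lit 0) (nat_lit 33) [nat_lit 5, nat_lit 4, nat_lit 1, nat_lit 2, nat_lit 3, nat_lit 8, nat_lit 0, nat_lit 1, nat_lit 2, nat_lit 3, nat_lit 4, nat_lit 5, nat_lit 6, nat_lit 7, nat_lit 3, nat_lit 4, nat_lit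 2, nat_lit 3, nat_lit 8, nat_lit 1, nat_lit 2, nat_lit 3, nat_lit 4, nat_lit 5, nat_lit 3, nat_lit 2, nat_lit 1, nat_lit 8, nat_lit 3, nat_lit 2, nat_lit 0, nat_lit 1, nat_lit 9, nat_lit 4, nat_lit 3, nat_lit 2, nat_lit 8, nat_lit 3, nat_lit 10, nat_lit 0, nat_lit 14, nat_lit 13, nat_lit 16] (Rl.cmp (nat_lit 4456) (nat_lit 5340)))) (FT.leaf (Fct.mk true (nat_lit 5) (nat_lit 76024) (nat_lit 33) [nat_lit 7, nat_lit 5, nat_lit 6, nat_lit 4, nat_lit 5, nat_lit 3, nat_lit 4, nat_lit 2, nat_lit 3, nat_lit 8, nat_lit 0, nat_lit 1, nat_lit 2, nat_lit 3, nat_lit 4, nat_lit 5, nat_lit 6, nat_lit 7, nat_lit 6, nat_lit 8, nat_lit 3, nat_lit 2, nat_lit 0, nat_lit 1, nat_lit 4, nat_lit 3, nat_lit 2, nat_lit 8, nat_lit 3, nat_lit 0, nat_lit 2, nat_lit 12, nat_lit 15, nat_lit 14, nat_lit 13, nat_lit 12, nat_lit 18] (Rl.rel (nat_lit 0) [nat_lit 8, nat_lit 3,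 nat_lit 4, nat_lit 5, nat_lit 6, nat_lit 7, nat_lit 2, nat_lit 3, nat_lit 8, nat_lit 1, nat_lit 2, nat_lit 3, nat_lit 4, nat_lit 5, nat_lit 3, nat_lit 2, nat_lit 8, nat_lit 3, nat_lit 16, nat_lit 12, nat_lit 15, nat_lit 14, nat_lit 19] (nat_lit 33) (nat_lit 2) [nat_lit 4827, nat_lit 3824] [])))))) (FT.node (nat_lit 5346) (FT.node (nat_lit 5344) (FT.leaf (Fct.mk true (nat_lit 5) (nat_lit 1524) (nat_lit 33) [nat_lit 8, nat_lit 7, nat_lit 6, nat_lit 4, nat_lit 5, nat_lit 2, nat_lit 3, nat_lit 4, nat_lit 1, nat_lit 2, nat_lit 3, nat_lit 8, nat_lit 0, nat_lit 1, nat_lit 2, nat_lit 3, nat_lit 4, nat_lit 5, nat_lit 6, nat_lit 7, nat_lit 4, nat_lit 2, nat_lit 3, nat_lit 8, nat_lit 5, nat_lit 6, nat_lit 4, nat_lit 5, nat_lit 3, nat_lit 4, nat_lit 2, nat_lit 3, nat_lit 8, nat_lit 0, nat_lit 1, nat_lit 2, nat_lit 3, nat_lit 4, nat_lit 5, nat_lit 9, nat_lit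 4, nat_lit 3, nat_lit 2, nat_lit 8, nat_lit 3, nat_lit 9, nat_lit 2, nat_lit 12, nat_lit 15, nat_lit 14, nat_lit 17] (Rl.t1 (nat_lit 5342) (nat_lit 4249)))) (FT.node (nat_lit 5345) (FT.leaf (Fct.mk true (nat_lit 33) (nat_lit 50636) (nat_lit 5) [nat_lit 3, nat_lit 8, nat_lit 4, nat_lit 5, nat_lit 3, nat_lit 4, nat_lit 2, nat_lit 3, nat_lit 8, nat_lit 6, nat_lit 7, nat_lit 5, nat_lit 6, nat_lit 4, nat_lit 5, nat_lit 3, nat_lit 4, nat_lit 2, nat_lit 3, nat_lit 8, nat_lit 0, nat_lit 1, nat_lit 2, nat_lit 3, nat_lit 4, nat_lit 5, nat_lit 6, nat_lit 7, nat_lit 1, nat_lit 2, nat_lit 3, nat_lit 8, nat_lit 6, nat_lit 4, nat_lit 5, nat_lit 3, nat_lit 4, nat_lit 2, nat_lit 3, nat_lit 8, nat_lit 1, nat_lit 2, nat_lit 3, nat_lit 4, nat_lit 5, nat_lit 4, nat_lit 3, nat_lit 2, nat_lit 0, nat_lit 1, nat_lit 9, nat_lit 4, nat_lit 3, nat_lit 2, nat_lit 8, nat_lit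 3, nat_lit 11, nat_lit 9, nat_lit 10, nat_lit 2, nat_lit 8, nat_lit 10, nat_lit 1, nat_lit 12, nat_lit 15, nat_lit 14, nat_lit 13] (Rl.inv (nat_lit 5343)))) (FT.leaf (Fct.mk true (nat_lit 33) (nat_lit 79) (nat_lit 5) [nat_lit 8, nat_lit 4, nat_lit 5, nat_lit 3, nat_lit 4, nat_lit 2, nat_lit 3, nat_lit 8, nat_lit 0, nat_lit 1, nat_lit 2, nat_lit 3, nat_lit 4, nat_lit 5, nat_lit 6, nat_lit 7, nat_lit 1, nat_lit 2, nat_lit 0, nat_lit 1, nat_lit 3, nat_lit 2, nat_lit 8, nat_lit 3, nat_lit 10, nat_lit 1, nat_lit 15, nat_lit 14] (Rl.t1 (nat_lit 5344) (nat_lit 5341)))))) (FT.node (nat_lit 5348) (FT.node (nat_lit 5347) (FT.leaf (Fct.mk false (nat_lit 32) (nat_lit 0) (nat_lit 32) [nat_lit 3, nat_lit 8, nat_lit 5, nat_lit 2, nat_lit 3, nat_lit 4, nat_lit 1, nat_lit 2, nat_lit 3, nat_lit 8, nat_lit 6, nat_lit 7, nat_lit 5, nat_lit 6, nat_lit 4, nat_lit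 5, nat_lit 3, nat_lit 4, nat_lit 2, nat_lit 3, nat_lit 8, nat_lit 1, nat_lit 2, nat_lit 3, nat_lit 4, nat_lit 5, nat_lit 6, nat_lit 7, nat_lit 8, nat_lit 3, nat_lit 4, nat_lit 2, nat_lit 3, nat_lit 8, nat_lit 1, nat_lit 2, nat_lit 3, nat_lit 4, nat_lit 5, nat_lit 3, nat_lit 2, nat_lit 1, nat_lit 4, nat_lit 3, nat_lit 2, nat_lit 0, nat_lit 1, nat_lit 9, nat_lit 4, nat_lit 3, nat_lit 2, nat_lit 8, nat_lit 3, nat_lit 10, nat_lit 12, nat_lit 15, nat_lit 14, nat_lit 8, nat_lit 19, nat_lit 16] (Rl.cmp (nat_lit 3004) (nat_lit 4077)))) (FT.leaf (Fct.mk false (nat_lit 32) (nat_lit 0) (nat_lit 32) [nat_lit 3, nat_lit 4, nat_lit 2, nat_lit 3, nat_lit 8, nat_lit 0, nat_lit 1, nat_lit 2, nat_lit 3, nat_lit 4, nat_lit 5, nat_lit 1, nat_lit 3, nat_lit 8, nat_lit 4, nat_lit 3, nat_lit 2, nat_lit 0, nat_lit 1, nat_lit 9, nat_lit 4, nat_lit 3, nat_lit 2, nat_lit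 8, nat_lit 3, nat_lit 11, nat_lit 10, nat_lit 15, nat_lit 13, nat_lit 12, nat_lit 19] (Rl.cmp (nat_lit 3456) (nat_lit 5346))))) (FT.node (nat_lit 5349) (FT.leaf (Fct.mk false (nat_lit 32) (nat_lit 0) (nat_lit 32) [nat_lit 2, nat_lit 3, nat_lit 8, nat_lit 6, nat_lit 4, nat_lit 5, nat_lit 3, nat_lit 4, nat_lit 2, nat_lit 3, nat_lit 8, nat_lit 1, nat_lit 2, nat_lit 3, nat_lit 4, nat_lit 5, nat_lit 1, nat_lit 8, nat_lit 4, nat_lit 3, nat_lit 2, nat_lit 0, nat_lit 1, nat_lit 9, nat_lit 4, nat_lit 3, nat_lit 2, nat_lit 8, nat_lit 3, nat_lit 11, nat_lit 2, nat_lit 10, nat_lit 1, nat_lit 16, nat_lit 14, nat_lit 16, nat_lit 8, nat_lit 19] (Rl.cmp (nat_lit 3047) (nat_lit 5347)))) (FT.leaf (Fct.mk false (nat_lit 32) (nat_lit 0) (nat_lit 32) [nat_lit 6, nat_lit 3, nat_lit 2, nat_lit 1, nat_lit 9, nat_lit 4, nat_lit 3, nat_lit 2, nat_lit 8, nat_lit 3, nat_lit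 11, nat_lit 2, nat_lit 10, nat_lit 1, nat_lit 12, nat_lit 8, nat_lit 16, nat_lit 14, nat_lit 13, nat_lit 18] (Rl.cmp (nat_lit 3004) (nat_lit 5348)))))))))

/-- some facts -/
noncomputable def ftc107 : FT := FT.node (nat_lit 5375) (FT.node (nat_lit 5362) (FT.node (nat_lit 5356) (FT.node (nat_lit 5353) (FT.node (nat_lit 5351) (FT.leaf (Fct.mk false (nat_lit 33) (nat_lit 0) (nat_lit 33) [nat_lit 3, nat_lit 8, nat_lit 5, nat_lit 6, nat_lit 4, nat_lit 5, nat_lit 3, nat_lit 4, nat_lit 1, nat_lit 2, nat_lit 3, nat_lit 8, nat_lit 0, nat_lit 1, nat_lit 2, nat_lit 3, nat_lit 4, nat_lit 5, nat_lit 6, nat_lit 7, nat_lit 2, nat_lit 3, nat_lit 4, nat_lit 1, nat_lit 2, nat_lit 3, nat_lit 8, nat_lit 5, nat_lit 6, nat_lit 4, nat_lit 5, nat_lit 3, nat_lit 4, nat_lit 2, nat_lit 3, nat_lit 8, nat_lit 1, nat_lit 2, nat_lit 3, nat_lit 4, nat_lit 5, nat_lit 3, nat_lit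 2, nat_lit 1, nat_lit 4, nat_lit 3, nat_lit 2, nat_lit 8, nat_lit 3, nat_lit 9, nat_lit 2, nat_lit 8, nat_lit 12, nat_lit 15, nat_lit 13] (Rl.cmp (nat_lit 4605) (nat_lit 4400)))) (FT.node (nat_lit 5352) (FT.leaf (Fct.mk false (nat_lit 33) (nat_lit 0) (nat_lit 33) [nat_lit 7, nat_lit 6, nat_lit 4, nat_lit 5, nat_lit 3, nat_lit 4, nat_lit 1, nat_lit 2, nat_lit 3, nat_lit 8, nat_lit 0, nat_lit 1, nat_lit 2, nat_lit 3, nat_lit 4, nat_lit 5, nat_lit 6, nat_lit 7, nat_lit 4, nat_lit 1, nat_lit 2, nat_lit 3, nat_lit 8, nat_lit 5, nat_lit 6, nat_lit 4, nat_lit 5, nat_lit 3, nat_lit 4, nat_lit 2, nat_lit 3, nat_lit 8, nat_lit 1, nat_lit 2, nat_lit 3, nat_lit 4, nat_lit 5, nat_lit 9, nat_lit 4, nat_lit 3, nat_lit 2, nat_lit 8, nat_lit 3, nat_lit 9, nat_lit 2, nat_lit 15, nat_lit 14, nat_lit 13, nat_lit 12, nat_lit 19] (Rl.cmp (nat_lit 4402) (nat_lit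 5350)))) (FT.leaf (Fct.mk false (nat_lit 33) (nat_lit 0) (nat_lit 33) [nat_lit 3, nat_lit 8, nat_lit 2, nat_lit 3, nat_lit 4, nat_lit 1, nat_lit 2, nat_lit 3, nat_lit 8, nat_lit 0, nat_lit 1, nat_lit 2, nat_lit 3, nat_lit 4, nat_lit 5, nat_lit 6, nat_lit 7, nat_lit 4, nat_lit 5, nat_lit 3, nat_lit 4, nat_lit 2, nat_lit 3, nat_lit 8, nat_lit 1, nat_lit 2, nat_lit 3, nat_lit 4, nat_lit 5, nat_lit 3, nat_lit 0, nat_lit 15, nat_lit 14, nat_lit 12, nat_lit 19, nat_lit 16] (Rl.cmp (nat_lit 4456) (nat_lit 5351)))))) (FT.node (nat_lit 5354) (FT.leaf (Fct.mk false (nat_lit 33) (nat_lit 0) (nat_lit 33) [nat_lit 3, nat_lit 8, nat_lit 5, nat_lit 6, nat_lit 4, nat_lit 5, nat_lit 3, nat_lit 4, nat_lit 1, nat_lit 2, nat_lit 3, nat_lit 8, nat_lit 0, nat_lit 1, nat_lit 2, nat_lit 3, nat_lit 4, nat_lit 5, nat_lit 6, nat_lit 7, nat_lit 4, nat_lit 5, nat_lit 3,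 nat_lit 4, nat_lit 2, nat_lit 3, nat_lit 8, nat_lit 1, nat_lit 2, nat_lit 3, nat_lit 4, nat_lit 5, nat_lit 3, nat_lit 2, nat_lit 1, nat_lit 4, nat_lit 3, nat_lit 2, nat_lit 8, nat_lit 3, nat_lit 10, nat_lit 9, nat_lit 2, nat_lit 16, nat_lit 15, nat_lit 14, nat_lit 13] (Rl.cmp (nat_lit 4402) (nat_lit 5352)))) (FT.node (nat_lit 5355) (FT.leaf (Fct.mk false (nat_lit 33) (nat_lit 0) (nat_lit 33) [nat_lit 8, nat_lit 2, nat_lit 3, nat_lit 4, nat_lit 1, nat_lit 2, nat_lit 3, nat_lit 8, nat_lit 6, nat_lit 7, nat_lit 5, nat_lit 6, nat_lit 4, nat_lit 5, nat_lit 3, nat_lit 4, nat_lit 2, nat_lit 3, nat_lit 8, nat_lit 1, nat_lit 2, nat_lit 3, nat_lit 4, nat_lit 5, nat_lit 6, nat_lit 7, nat_lit 2, nat_lit 3, nat_lit 4, nat_lit 5, nat_lit 1, nat_lit 4, nat_lit 3, nat_lit 2, nat_lit 8, nat_lit 3, nat_lit 0, nat_lit 8, nat_lit 12, nat_lit 15, nat_lit 14, nat_lit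 12, nat_lit 16] (Rl.cmp (nat_lit 4456) (nat_lit 5353)))) (FT.leaf (Fct.mk false (nat_lit 33) (nat_lit 0) (nat_lit 33) [nat_lit 6, nat_lit 5, nat_lit 4, nat_lit 3, nat_lit 8, nat_lit 2, nat_lit 3, nat_lit 4, nat_lit 5, nat_lit 6, nat_lit 7, nat_lit 5, nat_lit 2, nat_lit 0, nat_lit 1, nat_lit 3, nat_lit 2, nat_lit 8, nat_lit 3, nat_lit 11, nat_lit 2, nat_lit 8, nat_lit 10, nat_lit 1, nat_lit 17, nat_lit 12, nat_lit 18] (Rl.cmp (nat_lit 4605) (nat_lit 5354))))))) (FT.node (nat_lit 5359) (FT.node (nat_lit 5357) (FT.leaf (Fct.mk true (nat_lit 33) (nat_lit 96223) (nat_lit 33) [nat_lit 8, nat_lit 2, nat_lit 3, nat_lit 4, nat_lit 1, nat_lit 2, nat_lit 3, nat_lit 8, nat_lit 0, nat_lit 1, nat_lit 2, nat_lit 3, nat_lit 4, nat_lit 5, nat_lit 6, nat_lit 7, nat_lit 1, nat_lit 2, nat_lit 3, nat_lit 8, nat_lit 4, nat_lit 5, nat_lit 3, nat_lit 4, nat_lit 2,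 nat_lit 3, nat_lit 8, nat_lit 1, nat_lit 2, nat_lit 3, nat_lit 4, nat_lit 5, nat_lit 4, nat_lit 11, nat_lit 10, nat_lit 2, nat_lit 8, nat_lit 10, nat_lit 1, nat_lit 15, nat_lit 14, nat_lit 17, nat_lit 12, nat_lit 18] (Rl.rel (nat_lit 0) [nat_lit 8, nat_lit 3, nat_lit 4, nat_lit 5, nat_lit 6, nat_lit 7, nat_lit 2, nat_lit 3, nat_lit 4, nat_lit 1, nat_lit 2, nat_lit 3, nat_lit 8, nat_lit 0, nat_lit 1, nat_lit 2, nat_lit 3, nat_lit 4, nat_lit 5, nat_lit 4, nat_lit 3, nat_lit 2, nat_lit 8, nat_lit 3, nat_lit 15, nat_lit 14, nat_lit 19] (nat_lit 33) (nat_lit 2) [nat_lit 4827, nat_lit 5349, nat_lit 5129] []))) (FT.node (nat_lit 5358) (FT.leaf (Fct.mk true (nat_lit 33) (nat_lit 120) (nat_lit 33) [nat_lit 8, nat_lit 5, nat_lit 2, nat_lit 3, nat_lit 4, nat_lit 1, nat_lit 2, nat_lit 3, nat_lit 8, nat_lit 0, nat_lit 1, nat_lit 2, nat_lit 3, nat_lit 4,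 nat_lit 5, nat_lit 6, nat_lit 7, nat_lit 3, nat_lit 8, nat_lit 6, nat_lit 4, nat_lit 5, nat_lit 3, nat_lit 4, nat_lit 1, nat_lit 2, nat_lit 3, nat_lit 8, nat_lit 0, nat_lit 1, nat_lit 2, nat_lit 3, nat_lit 4, nat_lit 5, nat_lit 1, nat_lit 2, nat_lit 3, nat_lit 10, nat_lit 2, nat_lit 8, nat_lit 10, nat_lit 1, nat_lit 8, nat_lit 12, nat_lit 15, nat_lit 12, nat_lit 18] (Rl.t1 (nat_lit 5356) (nat_lit 5355)))) (FT.leaf (Fct.mk false (nat_lit 33) (nat_lit 0) (nat_lit 33) [nat_lit 2, nat_lit 3, nat_lit 8, nat_lit 1, nat_lit 2, nat_lit 3, nat_lit 4, nat_lit 5, nat_lit 6, nat_lit 7, nat_lit 2, nat_lit 3, nat_lit 8, nat_lit 0, nat_lit 1, nat_lit 2, nat_lit 3, nat_lit 4, nat_lit 5, nat_lit 3, nat_lit 2, nat_lit 1, nat_lit 9, nat_lit 4, nat_lit 3, nat_lit 2, nat_lit 8, nat_lit 3, nat_lit 0, nat_lit 14, nat_lit 8, nat_lit 18] (Rl.cmp (nat_lit 4456) (nat_lit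 4400)))))) (FT.node (nat_lit 5360) (FT.leaf (Fct.mk false (nat_lit 33) (nat_lit 0) (nat_lit 33) [nat_lit 5, nat_lit 4, nat_lit 3, nat_lit 8, nat_lit 2, nat_lit 3, nat_lit 4, nat_lit 1, nat_lit 2, nat_lit 3, nat_lit 8, nat_lit 5, nat_lit 6, nat_lit 4, nat_lit 5, nat_lit 3, nat_lit 4, nat_lit 2, nat_lit 3, nat_lit 8, nat_lit 1, nat_lit 2, nat_lit 3, nat_lit 4, nat_lit 5, nat_lit 6, nat_lit 7, nat_lit 4, nat_lit 2, nat_lit 3, nat_lit 8, nat_lit 0, nat_lit 1, nat_lit 2, nat_lit 3, nat_lit 4, nat_lit 5, nat_lit 1, nat_lit 4, nat_lit 3, nat_lit 2, nat_lit 8, nat_lit 3, nat_lit 11, nat_lit 10, nat_lit 2, nat_lit 8, nat_lit 10, nat_lit 1, nat_lit 12, nat_lit 15, nat_lit 16, nat_lit 8, nat_lit 19, nat_lit 16] (Rl.cmp (nat_lit 4402) (nat_lit 5358)))) (FT.node (nat_lit 5361) (FT.leaf (Fct.mk false (nat_lit 33) (nat_lit 0) (nat_lit 33) [nat_lit 4, nat_lit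 1, nat_lit 2, nat_lit 3, nat_lit 8, nat_lit 0, nat_lit 1, nat_lit 2, nat_lit 3, nat_lit 4, nat_lit 5, nat_lit 6, nat_lit 7, nat_lit 3, nat_lit 8, nat_lit 6, nat_lit 5, nat_lit 2, nat_lit 3, nat_lit 4, nat_lit 1, nat_lit 2, nat_lit 3, nat_lit 8, nat_lit 0, nat_lit 1, nat_lit 2, nat_lit 3, nat_lit 4, nat_lit 5, nat_lit 2, nat_lit 0, nat_lit 1, nat_lit 9, nat_lit 4, nat_lit 3, nat_lit 2, nat_lit 8, nat_lit 3, nat_lit 10, nat_lit 16, nat_lit 8, nat_lit 12, nat_lit 15, nat_lit 16, nat_lit 8, nat_lit 18, nat_lit 16] (Rl.cmp (nat_lit 4605) (nat_lit 5359)))) (FT.leaf (Fct.mk false (nat_lit 33) (nat_lit 0) (nat_lit 33) [nat_lit 4, nat_lit 3, nat_lit 8, nat_lit 7, nat_lit 5, nat_lit 6, nat_lit 4, nat_lit 5, nat_lit 3, nat_lit 4, nat_lit 1, nat_lit 2, nat_lit 3, nat_lit 8, nat_lit 0, nat_lit 1, nat_lit 2, nat_lit 3, nat_lit 4, nat_lit 5, nat_lit 6, nat_lit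 7, nat_lit 5, nat_lit 1, nat_lit 9, nat_lit 4, nat_lit 3, nat_lit 2, nat_lit 8, nat_lit 3, nat_lit 11, nat_lit 10, nat_lit 2, nat_lit 8, nat_lit 10, nat_lit 1, nat_lit 12, nat_lit 15, nat_lit 16, nat_lit 8, nat_lit 18] (Rl.cmp (nat_lit 4402) (nat_lit 5360)))))))) (FT.node (nat_lit 5368) (FT.node (nat_lit 5365) (FT.node (nat_lit 5363) (FT.leaf (Fct.mk false (nat_lit 33) (nat_lit 0) (nat_lit 33) [nat_lit 2, nat_lit 3, nat_lit 4, nat_lit 1, nat_lit 2, nat_lit 3, nat_lit 8, nat_lit 7, nat_lit 5, nat_lit 6, nat_lit 4, nat_lit 5, nat_lit 3, nat_lit 4, nat_lit 2, nat_lit 3, nat_lit 8, nat_lit 1, nat_lit 2, nat_lit 3, nat_lit 4, nat_lit 5, nat_lit 6, nat_lit 7, nat_lit 3, nat_lit 8, nat_lit 4, nat_lit 5, nat_lit 3, nat_lit 4, nat_lit 1, nat_lit 2, nat_lit 3, nat_lit 8, nat_lit 0, nat_lit 1, nat_lit 2, nat_lit 3, nat_lit 4, nat_lit 5, nat_lit 3, nat_lit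 8, nat_lit 4, nat_lit 3, nat_lit 2, nat_lit 0, nat_lit 1, nat_lit 9, nat_lit 4, nat_lit 3, nat_lit 2, nat_lit 8, nat_lit 3, nat_lit 11, nat_lit 2, nat_lit 8, nat_lit 10, nat_lit 1, nat_lit 12, nat_lit 15, nat_lit 16, nat_lit 8] (Rl.cmp (nat_lit 4456) (nat_lit 5361)))) (FT.node (nat_lit 5364) (FT.leaf (Fct.mk false (nat_lit 33) (nat_lit 0) (nat_lit 33) [nat_lit 4, nat_lit 2, nat_lit 3, nat_lit 8, nat_lit 1, nat_lit 2, nat_lit 3, nat_lit 4, nat_lit 5, nat_lit 6, nat_lit 7, nat_lit 2, nat_lit 3, nat_lit 8, nat_lit 0, nat_lit 1, nat_lit 2, nat_lit 3, nat_lit 4, nat_lit 5, nat_lit 3, nat_lit 2, nat_lit 1, nat_lit 9, nat_lit 4, nat_lit 3, nat_lit 2, nat_lit 8, nat_lit 3, nat_lit 14, nat_lit 8, nat_lit 18] (Rl.cmp (nat_lit 4456) (nat_lit 4456)))) (FT.leaf (Fct.mk false (nat_lit 33) (nat_lit 0) (nat_lit 33) [nat_lit 8, nat_lit 7, nat_lit 6, nat_lit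 5, nat_lit 2, nat_lit 3, nat_lit 4, nat_lit 1, nat_lit 2, nat_lit 3, nat_lit 8, nat_lit 0, nat_lit 1, nat_lit 2, nat_lit 3, nat_lit 4, nat_lit 5, nat_lit 6, nat_lit 7, nat_lit 2, nat_lit 3, nat_lit 8, nat_lit 6, nat_lit 4, nat_lit 5, nat_lit 3, nat_lit 4, nat_lit 2, nat_lit 3, nat_lit 8, nat_lit 1, nat_lit 2, nat_lit 3, nat_lit 4, nat_lit 5, nat_lit 1, nat_lit 2, nat_lit 0, nat_lit 1, nat_lit 3, nat_lit 2, nat_lit 8, nat_lit 3, nat_lit 10, nat_lit 9, nat_lit 2, nat_lit 15, nat_lit 13, nat_lit 19] (Rl.cmp (nat_lit 4605) (nat_lit 5363)))))) (FT.node (nat_lit 5366) (FT.leaf (Fct.mk false (nat_lit 33) (nat_lit 0) (nat_lit 33) [nat_lit 3, nat_lit 4, nat_lit 1, nat_lit 2, nat_lit 3, nat_lit 8, nat_lit 6, nat_lit 7, nat_lit 5, nat_lit 6, nat_lit 4, nat_lit 5, nat_lit 3, nat_lit 4, nat_lit 2, nat_lit 3, nat_lit 8, nat_lit 1, nat_lit 2, nat_lit 3, nat_lit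 4, nat_lit 5, nat_lit 6, nat_lit 7, nat_lit 4, nat_lit 1, nat_lit 2, nat_lit 3, nat_lit 8, nat_lit 5, nat_lit 6, nat_lit 4, nat_lit 5, nat_lit 3, nat_lit 4, nat_lit 2, nat_lit 3, nat_lit 8, nat_lit 1, nat_lit 2, nat_lit 3, nat_lit 4, nat_lit 5, nat_lit 0, nat_lit 1, nat_lit 2, nat_lit 8, nat_lit 3, nat_lit 8, nat_lit 10, nat_lit 1, nat_lit 8, nat_lit 16, nat_lit 14, nat_lit 12, nat_lit 18, nat_lit 16] (Rl.cmp (nat_lit 4605) (nat_lit 5364)))) (FT.node (nat_lit 5367) (FT.leaf (Fct.mk false (nat_lit 33) (nat_lit 0) (nat_lit 33) [nat_lit 4, nat_lit 2, nat_lit 3, nat_lit 8, nat_lit 1, nat_lit 2, nat_lit 3, nat_lit 4, nat_lit 5, nat_lit 6, nat_lit 7, nat_lit 8, nat_lit 6, nat_lit 4, nat_lit 5, nat_lit 2, nat_lit 3, nat_lit 4, nat_lit 1, nat_lit 2, nat_lit 3, nat_lit 8, nat_lit 0, nat_lit 1, nat_lit 2, nat_lit 3, nat_lit 4, nat_lit 5, nat_lit 2, nat_lit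 1, nat_lit 8, nat_lit 3, nat_lit 2, nat_lit 0, nat_lit 1, nat_lit 4, nat_lit 3, nat_lit 2, nat_lit 8, nat_lit 3, nat_lit 0, nat_lit 8] (Rl.cmp (nat_lit 4605) (nat_lit 5365)))) (FT.leaf (Fct.mk true (nat_lit 33) (nat_lit 23585) (nat_lit 33) [nat_lit 5, nat_lit 4, nat_lit 3, nat_lit 8, nat_lit 2, nat_lit 3, nat_lit 4, nat_lit 1, nat_lit 2, nat_lit 3, nat_lit 8, nat_lit 5, nat_lit 6, nat_lit 4, nat_lit 5, nat_lit 3, nat_lit 4, nat_lit 2, nat_lit 3, nat_lit 8, nat_lit 1, nat_lit 2, nat_lit 3, nat_lit 4, nat_lit 5, nat_lit 6, nat_lit 7, nat_lit 5, nat_lit 4, nat_lit 3, nat_lit 8, nat_lit 2, nat_lit 3, nat_lit 4, nat_lit 1, nat_lit 2, nat_lit 3, nat_lit 8, nat_lit 5, nat_lit 6, nat_lit 4, nat_lit 5, nat_lit 3, nat_lit 4, nat_lit 2, nat_lit 3, nat_lit 8, nat_lit 1, nat_lit 2, nat_lit 3, nat_lit 4, nat_lit 5, nat_lit 3, nat_lit 2, nat_lit 8, nat_lit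 3, nat_lit 11, nat_lit 8, nat_lit 10, nat_lit 8, nat_lit 16, nat_lit 14, nat_lit 16] (Rl.rel (nat_lit 0) [nat_lit 3, nat_lit 4, nat_lit 5, nat_lit 2, nat_lit 3, nat_lit 4, nat_lit 1, nat_lit 2, nat_lit 3, nat_lit 8, nat_lit 0, nat_lit 1, nat_lit 2, nat_lit 3, nat_lit 4, nat_lit 5, nat_lit 6, nat_lit 7, nat_lit 5, nat_lit 8, nat_lit 10, nat_lit 12, nat_lit 18] (nat_lit 33) (nat_lit 1) [nat_lit 5357] [nat_lit 5366, nat_lit 5198])))))) (FT.node (nat_lit 5371) (FT.node (nat_lit 5369) (FT.leaf (Fct.mk true (nat_lit 33) (nat_lit 764) (nat_lit 33) [nat_lit 4, nat_lit 3, nat_lit 8, nat_lit 6, nat_lit 7, nat_lit 5, nat_lit 6, nat_lit 4, nat_lit 5, nat_lit 3, nat_lit 4, nat_lit 1, nat_lit 2, nat_lit 3, nat_lit 8, nat_lit 0, nat_lit 1, nat_lit 2, nat_lit 3, nat_lit 4, nat_lit 5, nat_lit 6, nat_lit 7, nat_lit 3, nat_lit 8, nat_lit 4, nat_lit 5, nat_lit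 3, nat_lit 4, nat_lit 2, nat_lit 3, nat_lit 8, nat_lit 1, nat_lit 2, nat_lit 3, nat_lit 4, nat_lit 5, nat_lit 2, nat_lit 1, nat_lit 8, nat_lit 4, nat_lit 3, nat_lit 2, nat_lit 0, nat_lit 1, nat_lit 9, nat_lit 4, nat_lit 3, nat_lit 2, nat_lit 8, nat_lit 3, nat_lit 2, nat_lit 8, nat_lit 10, nat_lit 1, nat_lit 16, nat_lit 15, nat_lit 14, nat_lit 17, nat_lit 18, nat_lit 16] (Rl.t1 (nat_lit 5367) (nat_lit 5362)))) (FT.node (nat_lit 5370) (FT.leaf (Fct.mk false (nat_lit 33) (nat_lit 0) (nat_lit 33) [nat_lit 3, nat_lit 4, nat_lit 5, nat_lit 2, nat_lit 3, nat_lit 4, nat_lit 1, nat_lit 2, nat_lit 3, nat_lit 8, nat_lit 0, nat_lit 1, nat_lit 2, nat_lit 3, nat_lit 4, nat_lit 5, nat_lit 6, nat_lit 7, nat_lit 5, nat_lit 4, nat_lit 2, nat_lit 3, nat_lit 8, nat_lit 1, nat_lit 2, nat_lit 3, nat_lit 4, nat_lit 5, nat_lit 1, nat_lit 8, nat_lit 3, nat_lit 2, nat_lit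 0, nat_lit 1, nat_lit 4, nat_lit 3, nat_lit 2, nat_lit 8, nat_lit 3, nat_lit 11, nat_lit 10, nat_lit 16, nat_lit 12, nat_lit 15, nat_lit 14, nat_lit 12, nat_lit 19] (Rl.cmp (nat_lit 4605) (nat_lit 4605)))) (FT.leaf (Fct.mk false (nat_lit 33) (nat_lit 0) (nat_lit 33) [nat_lit 3, nat_lit 8, nat_lit 5, nat_lit 2, nat_lit 3, nat_lit 4, nat_lit 1, nat_lit 2, nat_lit 3, nat_lit 8, nat_lit 0, nat_lit 1, nat_lit 2, nat_lit 3, nat_lit 4, nat_lit 5, nat_lit 6, nat_lit 7, nat_lit 6, nat_lit 5, nat_lit 4, nat_lit 3, nat_lit 8, nat_lit 2, nat_lit 3, nat_lit 4, nat_lit 5, nat_lit 2, nat_lit 1, nat_lit 8, nat_lit 3, nat_lit 2, nat_lit 0, nat_lit 1, nat_lit 4, nat_lit 3, nat_lit 2, nat_lit 8, nat_lit 3, nat_lit 1, nat_lit 0, nat_lit 2] (Rl.cmp (nat_lit 4605) (nat_lit 5369)))))) (FT.node (nat_lit 5373) (FT.node (nat_lit 5372) (FT.leaf (Fct.mk false (nat_lit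 33) (nat_lit 0) (nat_lit 33) [nat_lit 7, nat_lit 6, nat_lit 3, nat_lit 4, nat_lit 5, nat_lit 2, nat_lit 3, nat_lit 4, nat_lit 1, nat_lit 2, nat_lit 3, nat_lit 8, nat_lit 0, nat_lit 1, nat_lit 2, nat_lit 3, nat_lit 4, nat_lit 5, nat_lit 6, nat_lit 7, nat_lit 5, nat_lit 4, nat_lit 2, nat_lit 3, nat_lit 8, nat_lit 0, nat_lit 1, nat_lit 2, nat_lit 3, nat_lit 4, nat_lit 5, nat_lit 8, nat_lit 3, nat_lit 2, nat_lit 0, nat_lit 1, nat_lit 4, nat_lit 3, nat_lit 2, nat_lit 8, nat_lit 3, nat_lit 1, nat_lit 0, nat_lit 2, nat_lit 12, nat_lit 15, nat_lit 18] (Rl.cmp (nat_lit 4456) (nat_lit 5370)))) (FT.leaf (Fct.mk false (nat_lit 33) (nat_lit 0) (nat_lit 33) [nat_lit 3, nat_lit 8, nat_lit 5, nat_lit 2, nat_lit 3, nat_lit 4, nat_lit 1, nat_lit 2, nat_lit 3, nat_lit 8, nat_lit 0, nat_lit 1, nat_lit 2, nat_lit 3, nat_lit 4, nat_lit 5, nat_lit 6, nat_lit 7, nat_lit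 1, nat_lit 2, nat_lit 3, nat_lit 4, nat_lit 5, nat_lit 2, nat_lit 1, nat_lit 9, nat_lit 4, nat_lit 3, nat_lit 2, nat_lit 8, nat_lit 3, nat_lit 10, nat_lit 0, nat_lit 14, nat_lit 12] (Rl.cmp (nat_lit 4456) (nat_lit 5371))))) (FT.node (nat_lit 5374) (FT.leaf (Fct.mk false (nat_lit 33) (nat_lit 0) (nat_lit 33) [nat_lit 7, nat_lit 6, nat_lit 3, nat_lit 4, nat_lit 5, nat_lit 2, nat_lit 3, nat_lit 4, nat_lit 1, nat_lit 2, nat_lit 3, nat_lit 8, nat_lit 0, nat_lit 1, nat_lit 2, nat_lit 3, nat_lit 4, nat_lit 5, nat_lit 6, nat_lit 7, nat_lit 8, nat_lit 4, nat_lit 5, nat_lit 3, nat_lit 4, nat_lit 2, nat_lit 3, nat_lit 8, nat_lit 0, nat_lit 1, nat_lit 2, nat_lit 3, nat_lit 4, nat_lit 5, nat_lit 0, nat_lit 1, nat_lit 4, nat_lit 3, nat_lit 2, nat_lit 8, nat_lit 3, nat_lit 0, nat_lit 12, nat_lit 15, nat_lit 18] (Rl.cmp (nat_lit 4400) (nat_lit 5372)))) (FT.leaf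 (Fct.mk true (nat_lit 33) (nat_lit 5061) (nat_lit 32) [nat_lit 6, nat_lit 4, nat_lit 5, nat_lit 3, nat_lit 4, nat_lit 2, nat_lit 3, nat_lit 8, nat_lit 0, nat_lit 1, nat_lit 2, nat_lit 3, nat_lit 4, nat_lit 5, nat_lit 6, nat_lit 7, nat_lit 8, nat_lit 3, nat_lit 4, nat_lit 5, nat_lit 3, nat_lit 8, nat_lit 10, nat_lit 12, nat_lit 19] (Rl.rel (nat_lit 0) [nat_lit 8, nat_lit 4, nat_lit 5, nat_lit 2, nat_lit 3, nat_lit 4, nat_lit 1, nat_lit 2, nat_lit 3, nat_lit 8, nat_lit 0, nat_lit 1, nat_lit 2, nat_lit 3, nat_lit 4, nat_lit 5, nat_lit 6, nat_lit 7, nat_lit 3, nat_lit 8, nat_lit 2, nat_lit 3, nat_lit 4, nat_lit 1, nat_lit 2, nat_lit 3, nat_lit 8, nat_lit 0, nat_lit 1, nat_lit 2, nat_lit 3, nat_lit 4, nat_lit 5, nat_lit 2, nat_lit 0, nat_lit 1, nat_lit 3, nat_lit 2, nat_lit 8, nat_lit 3, nat_lit 10, nat_lit 1, nat_lit 12, nat_lit 15, nat_lit 18]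 (nat_lit 33) (nat_lit 1) [nat_lit 5357] [nat_lit 4456, nat_lit 4999])))))))) (FT.node (nat_lit 5387) (FT.node (nat_lit 5381) (FT.node (nat_lit 5378) (FT.node (nat_lit 5376) (FT.leaf (Fct.mk true (nat_lit 33) (nat_lit 34) (nat_lit 32) [nat_lit 8, nat_lit 4, nat_lit 5, nat_lit 3, nat_lit 4, nat_lit 2, nat_lit 3, nat_lit 8, nat_lit 6, nat_lit 7, nat_lit 5, nat_lit 6, nat_lit 4, nat_lit 5, nat_lit 3, nat_lit 4, nat_lit 2, nat_lit 3, nat_lit 8, nat_lit 1, nat_lit 2, nat_lit 3, nat_lit 4, nat_lit 5, nat_lit 6, nat_lit 7, nat_lit 3, nat_lit 8, nat_lit 5, nat_lit 2, nat_lit 3, nat_lit 4, nat_lit 1, nat_lit 2, nat_lit 3, nat_lit 8, nat_lit 0, nat_lit 1, nat_lit 2, nat_lit 3, nat_lit 4, nat_lit 5, nat_lit 0, nat_lit 1, nat_lit 9, nat_lit 4, nat_lit 3, nat_lit 2, nat_lit 8, nat_lit 3, nat_lit 11, nat_lit 10, nat_lit 15, nat_lit 14, nat_lit 13] (Rl.t1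 (nat_lit 5374) (nat_lit 5373)))) (FT.node (nat_lit 5377) (FT.leaf (Fct.mk true (nat_lit 32) (nat_lit 7586) (nat_lit 33) [nat_lit 6, nat_lit 7, nat_lit 5, nat_lit 6, nat_lit 4, nat_lit 5, nat_lit 3, nat_lit 4, nat_lit 2, nat_lit 3, nat_lit 8, nat_lit 0, nat_lit 1, nat_lit 2, nat_lit 3, nat_lit 4, nat_lit 5, nat_lit 6, nat_lit 7, nat_lit 3, nat_lit 4, nat_lit 2, nat_lit 3, nat_lit 8, nat_lit 1, nat_lit 2, nat_lit 3, nat_lit 4, nat_lit 5, nat_lit 0, nat_lit 1, nat_lit 3, nat_lit 2, nat_lit 8, nat_lit 3, nat_lit 10, nat_lit 9, nat_lit 2, nat_lit 12, nat_lit 15, nat_lit 19, nat_lit 16] (Rl.inv (nat_lit 5375)))) (FT.leaf (Fct.mk true (nat_lit 32) (nat_lit 3187) (nat_lit 33) [nat_lit 8, nat_lit 7, nat_lit 5, nat_lit 6, nat_lit 4, nat_lit 5, nat_lit 3, nat_lit 4, nat_lit 2, nat_lit 3, nat_lit 8, nat_lit 1, nat_lit 2, nat_lit 3, nat_lit 4, nat_lit 5,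 nat_lit 6, nat_lit 7, nat_lit 3, nat_lit 4, nat_lit 2, nat_lit 3, nat_lit 8, nat_lit 1, nat_lit 2, nat_lit 3, nat_lit 4, nat_lit 5, nat_lit 4, nat_lit 1, nat_lit 9, nat_lit 16, nat_lit 8, nat_lit 12, nat_lit 15, nat_lit 12, nat_lit 19, nat_lit 16] (Rl.t1 (nat_lit 5376) (nat_lit 4346)))))) (FT.node (nat_lit 5379) (FT.leaf (Fct.mk false (nat_lit 33) (nat_lit 0) (nat_lit 33) [nat_lit 102] (Rl.cmp (nat_lit 4402) (nat_lit 4400)))) (FT.node (nat_lit 5380) (FT.leaf (Fct.mk false (nat_lit 33) (nat_lit 0) (nat_lit 33) [nat_lit 4, nat_lit 2, nat_lit 3, nat_lit 8, nat_lit 1, nat_lit 2, nat_lit 3, nat_lit 4, nat_lit 5, nat_lit 6, nat_lit 7, nat_lit 5, nat_lit 10, nat_lit 0, nat_lit 16, nat_lit 14, nat_lit 12, nat_lit 18] (Rl.cmp (nat_lit 4400) (nat_lit 4456)))) (FT.leaf (Fct.mk false (nat_lit 33) (nat_lit 0) (nat_lit 33) [nat_lit 8, nat_lit 7, nat_lit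 6, nat_lit 5, nat_lit 2, nat_lit 3, nat_lit 4, nat_lit 1, nat_lit 2, nat_lit 3, nat_lit 8, nat_lit 0, nat_lit 1, nat_lit 2, nat_lit 3, nat_lit 4, nat_lit 5, nat_lit 6, nat_lit 7, nat_lit 6, nat_lit 5, nat_lit 3, nat_lit 4, nat_lit 1, nat_lit 2, nat_lit 3, nat_lit 8, nat_lit 0, nat_lit 1, nat_lit 2, nat_lit 3, nat_lit 4, nat_lit 5, nat_lit 1, nat_lit 2, nat_lit 3, nat_lit 11, nat_lit 10, nat_lit 8, nat_lit 12, nat_lit 15, nat_lit 19, nat_lit 16] (Rl.cmp (nat_lit 4605) (nat_lit 5379))))))) (FT.node (nat_lit 5384) (FT.node (nat_lit 5382) (FT.leaf (Fct.mk false (nat_lit 33) (nat_lit 0) (nat_lit 33) [nat_lit 8, nat_lit 7, nat_lit 6, nat_lit 4, nat_lit 5, nat_lit 3, nat_lit 4, nat_lit 2, nat_lit 3, nat_lit 8, nat_lit 0, nat_lit 1, nat_lit 2, nat_lit 3, nat_lit 4, nat_lit 5, nat_lit 6, nat_lit 7, nat_lit 6, nat_lit 5, nat_lit 2, nat_lit 3, nat_lit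 4, nat_lit 1, nat_lit 2, nat_lit 3, nat_lit 8, nat_lit 0, nat_lit 1, nat_lit 2, nat_lit 3, nat_lit 4, nat_lit 5, nat_lit 1, nat_lit 3, nat_lit 2, nat_lit 8, nat_lit 3, nat_lit 9, nat_lit 12, nat_lit 8, nat_lit 16, nat_lit 14, nat_lit 12, nat_lit 18] (Rl.cmp (nat_lit 4402) (nat_lit 5380)))) (FT.node (nat_lit 5383) (FT.leaf (Fct.mk false (nat_lit 33) (nat_lit 0) (nat_lit 33) [nat_lit 5, nat_lit 2, nat_lit 3, nat_lit 4, nat_lit 1, nat_lit 2, nat_lit 3, nat_lit 8, nat_lit 0, nat_lit 1, nat_lit 2, nat_lit 3, nat_lit 4, nat_lit 5, nat_lit 6, nat_lit 7, nat_lit 2, nat_lit 3, nat_lit 4, nat_lit 1, nat_lit 2, nat_lit 3, nat_lit 8, nat_lit 5, nat_lit 6, nat_lit 4, nat_lit 5, nat_lit 3, nat_lit 4, nat_lit 2, nat_lit 3, nat_lit 8, nat_lit 1, nat_lit 2, nat_lit 3, nat_lit 4, nat_lit 5, nat_lit 4, nat_lit 3, nat_lit 2, nat_lit 8, nat_lit 3, nat_lit 10, nat_lit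 9, nat_lit 2, nat_lit 12, nat_lit 15, nat_lit 14, nat_lit 17] (Rl.cmp (nat_lit 4456) (nat_lit 5381)))) (FT.leaf (Fct.mk false (nat_lit 33) (nat_lit 0) (nat_lit 33) [nat_lit 8, nat_lit 7, nat_lit 6, nat_lit 4, nat_lit 5, nat_lit 3, nat_lit 4, nat_lit 2, nat_lit 3, nat_lit 8, nat_lit 0, nat_lit 1, nat_lit 2, nat_lit 3, nat_lit 4, nat_lit 5, nat_lit 6, nat_lit 7, nat_lit 8, nat_lit 6, nat_lit 5, nat_lit 3, nat_lit 4, nat_lit 2, nat_lit 3, nat_lit 8, nat_lit 1, nat_lit 2, nat_lit 3, nat_lit 4, nat_lit 5, nat_lit 0, nat_lit 1, nat_lit 2, nat_lit 8, nat_lit 3, nat_lit 9, nat_lit 2, nat_lit 12, nat_lit 8, nat_lit 16, nat_lit 14, nat_lit 12, nat_lit 19, nat_lit 16] (Rl.cmp (nat_lit 4400) (nat_lit 5382)))))) (FT.node (nat_lit 5385) (FT.leaf (Fct.mk false (nat_lit 33) (nat_lit 0) (nat_lit 33) [nat_lit 4, nat_lit 5, nat_lit 3, nat_lit 4, nat_lit 2, nat_lit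 3, nat_lit 8, nat_lit 0, nat_lit 1, nat_lit 2, nat_lit 3, nat_lit 4, nat_lit 5, nat_lit 6, nat_lit 7, nat_lit 3, nat_lit 8, nat_lit 6, nat_lit 4, nat_lit 5, nat_lit 3, nat_lit 4, nat_lit 2, nat_lit 3, nat_lit 8, nat_lit 0, nat_lit 1, nat_lit 2, nat_lit 3, nat_lit 4, nat_lit 5, nat_lit 0, nat_lit 1, nat_lit 2, nat_lit 3, nat_lit 11, nat_lit 2, nat_lit 12, nat_lit 15, nat_lit 13, nat_lit 19, nat_lit 16] (Rl.cmp (nat_lit 4402) (nat_lit 5383)))) (FT.node (nat_lit 5386) (FT.leaf (Fct.mk false (nat_lit 33) (nat_lit 0) (nat_lit 33) [nat_lit 5, nat_lit 3, nat_lit 4, nat_lit 2, nat_lit 3, nat_lit 8, nat_lit 6, nat_lit 7, nat_lit 5, nat_lit 6, nat_lit 4, nat_lit 5, nat_lit 3, nat_lit 4, nat_lit 2, nat_lit 3, nat_lit 8, nat_lit 1, nat_lit 2, nat_lit 3, nat_lit 4, nat_lit 5, nat_lit 6, nat_lit 7, nat_lit 2, nat_lit 3, nat_lit 8, nat_lit 5, nat_lit 6, nat_lit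 4, nat_lit 5, nat_lit 3, nat_lit 4, nat_lit 2, nat_lit 3, nat_lit 8, nat_lit 1, nat_lit 2, nat_lit 3, nat_lit 4, nat_lit 5, nat_lit 1, nat_lit 2, nat_lit 0, nat_lit 1, nat_lit 9, nat_lit 4, nat_lit 3, nat_lit 2, nat_lit 8, nat_lit 3, nat_lit 11, nat_lit 1, nat_lit 17, nat_lit 12, nat_lit 18] (Rl.cmp (nat_lit 4605) (nat_lit 4784)))) (FT.leaf (Fct.mk false (nat_lit 33) (nat_lit 0) (nat_lit 33) [nat_lit 7, nat_lit 6, nat_lit 3, nat_lit 4, nat_lit 5, nat_lit 2, nat_lit 3, nat_lit 4, nat_lit 1, nat_lit 2, nat_lit 3, nat_lit 8, nat_lit 0, nat_lit 1, nat_lit 2, nat_lit 3, nat_lit 4, nat_lit 5, nat_lit 6, nat_lit 7, nat_lit 4, nat_lit 5, nat_lit 2, nat_lit 3, nat_lit 4, nat_lit 1, nat_lit 2, nat_lit 3, nat_lit 8, nat_lit 0, nat_lit 1, nat_lit 2, nat_lit 3, nat_lit 4, nat_lit 5, nat_lit 2, nat_lit 8, nat_lit 3, nat_lit 1, nat_lit 0, nat_lit 2, nat_lit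 8, nat_lit 12, nat_lit 15, nat_lit 8] (Rl.cmp (nat_lit 4605) (nat_lit 5385)))))))) (FT.node (nat_lit 5393) (FT.node (nat_lit 5390) (FT.node (nat_lit 5388) (FT.leaf (Fct.mk false (nat_lit 33) (nat_lit 0) (nat_lit 33) [nat_lit 3, nat_lit 8, nat_lit 5, nat_lit 2, nat_lit 3, nat_lit 4, nat_lit 1, nat_lit 2, nat_lit 3, nat_lit 8, nat_lit 0, nat_lit 1, nat_lit 2, nat_lit 3, nat_lit 4, nat_lit 5, nat_lit 6, nat_lit 7, nat_lit 8, nat_lit 3, nat_lit 4, nat_lit 2, nat_lit 3, nat_lit 8, nat_lit 0, nat_lit 1, nat_lit 2, nat_lit 3, nat_lit 4, nat_lit 5, nat_lit 0, nat_lit 1, nat_lit 9, nat_lit 4, nat_lit 3, nat_lit 2, nat_lit 8, nat_lit 3, nat_lit 10, nat_lit 0, nat_lit 14, nat_lit 8] (Rl.cmp (nat_lit 4456) (nat_lit 5386)))) (FT.node (nat_lit 5389) (FT.leaf (Fct.mk true (nat_lit 33) (nat_lit 23532) (nat_lit 33) [nat_lit 1, nat_lit 2, nat_lit 3, nat_lit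 8, nat_lit 0, nat_lit 1, nat_lit 2, nat_lit 3, nat_lit 4, nat_lit 5, nat_lit 6, nat_lit 7, nat_lit 4, nat_lit 3, nat_lit 8, nat_lit 0, nat_lit 1, nat_lit 2, nat_lit 3, nat_lit 4, nat_lit 5, nat_lit 4, nat_lit 11, nat_lit 10, nat_lit 2, nat_lit 8, nat_lit 10, nat_lit 1, nat_lit 15, nat_lit 14, nat_lit 18, nat_lit 16] (Rl.rel (nat_lit 0) [nat_lit 8, nat_lit 4, nat_lit 5, nat_lit 2, nat_lit 3, nat_lit 4, nat_lit 1, nat_lit 2, nat_lit 3, nat_lit 8, nat_lit 0, nat_lit 1, nat_lit 2, nat_lit 3, nat_lit 4, nat_lit 5, nat_lit 6, nat_lit 7, nat_lit 3, nat_lit 8, nat_lit 2, nat_lit 3, nat_lit 4, nat_lit 1, nat_lit 2, nat_lit 3, nat_lit 8, nat_lit 0, nat_lit 1, nat_lit 2, nat_lit 3, nat_lit 4, nat_lit 5, nat_lit 2, nat_lit 0, nat_lit 1, nat_lit 3, nat_lit 2, nat_lit 8, nat_lit 3, nat_lit 8, nat_lit 10, nat_lit 1, nat_lit 12, nat_lit 15, nat_lit 18] (nat_lit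 33) (nat_lit 1) [nat_lit 5357] [nat_lit 5387, nat_lit 4789]))) (FT.leaf (Fct.mk true (nat_lit 33) (nat_lit 547) (nat_lit 33) [nat_lit 8, nat_lit 3, nat_lit 4, nat_lit 5, nat_lit 6, nat_lit 7, nat_lit 2, nat_lit 3, nat_lit 8, nat_lit 6, nat_lit 4, nat_lit 5, nat_lit 3, nat_lit 4, nat_lit 2, nat_lit 3, nat_lit 8, nat_lit 0, nat_lit 1, nat_lit 2, nat_lit 3, nat_lit 4, nat_lit 5, nat_lit 4, nat_lit 0, nat_lit 2, nat_lit 8, nat_lit 12, nat_lit 15, nat_lit 12, nat_lit 19] (Rl.t1 (nat_lit 5388) (nat_lit 5384)))))) (FT.node (nat_lit 5391) (FT.leaf (Fct.mk false (nat_lit 33) (nat_lit 0) (nat_lit 33) [nat_lit 2, nat_lit 3, nat_lit 4, nat_lit 5, nat_lit 6, nat_lit 7, nat_lit 5, nat_lit 3, nat_lit 4, nat_lit 2, nat_lit 3, nat_lit 8, nat_lit 0, nat_lit 1, nat_lit 2, nat_lit 3, nat_lit 4, nat_lit 5, nat_lit 4, nat_lit 3, nat_lit 2, nat_lit 0, nat_lit 1,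 nat_lit 9, nat_lit 4, nat_lit 3, nat_lit 2, nat_lit 8, nat_lit 3, nat_lit 9, nat_lit 10, nat_lit 2, nat_lit 8, nat_lit 10, nat_lit 1, nat_lit 16, nat_lit 15, nat_lit 14, nat_lit 17, nat_lit 12] (Rl.cmp (nat_lit 4400) (nat_lit 4605)))) (FT.node (nat_lit 5392) (FT.leaf (Fct.mk false (nat_lit 33) (nat_lit 0) (nat_lit 33) [nat_lit 3, nat_lit 4, nat_lit 1, nat_lit 2, nat_lit 3, nat_lit 8, nat_lit 6, nat_lit 7, nat_lit 5, nat_lit 6, nat_lit 4, nat_lit 5, nat_lit 3, nat_lit 4, nat_lit 2, nat_lit 3, nat_lit 8, nat_lit 1, nat_lit 2, nat_lit 3, nat_lit 4, nat_lit 5, nat_lit 6, nat_lit 7, nat_lit 3, nat_lit 8, nat_lit 6, nat_lit 4, nat_lit 5, nat_lit 3, nat_lit 4, nat_lit 1, nat_lit 2, nat_lit 3, nat_lit 8, nat_lit 0, nat_lit 1, nat_lit 2, nat_lit 3, nat_lit 4, nat_lit 5, nat_lit 3, nat_lit 8, nat_lit 4, nat_lit 3, nat_lit 2, nat_lit 1, nat_lit 9, nat_lit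 4, nat_lit 3, nat_lit 2, nat_lit 8, nat_lit 3, nat_lit 10, nat_lit 0, nat_lit 15, nat_lit 14, nat_lit 13, nat_lit 12, nat_lit 19, nat_lit 16] (Rl.cmp (nat_lit 4605) (nat_lit 5380)))) (FT.leaf (Fct.mk false (nat_lit 33) (nat_lit 0) (nat_lit 33) [nat_lit 4, nat_lit 2, nat_lit 3, nat_lit 8, nat_lit 1, nat_lit 2, nat_lit 3, nat_lit 4, nat_lit 5, nat_lit 6, nat_lit 7, nat_lit 6, nat_lit 5, nat_lit 4, nat_lit 1, nat_lit 2, nat_lit 3, nat_lit 8, nat_lit 0, nat_lit 1, nat_lit 2, nat_lit 3, nat_lit 4, nat_lit 5, nat_lit 8, nat_lit 3, nat_lit 8, nat_lit 10, nat_lit 1, nat_lit 8, nat_lit 12, nat_lit 15, nat_lit 12, nat_lit 18] (Rl.cmp (nat_lit 4605) (nat_lit 5391))))))) (FT.node (nat_lit 5396) (FT.node (nat_lit 5394) (FT.leaf (Fct.mk false (nat_lit 33) (nat_lit 0) (nat_lit 33) [nat_lit 6, nat_lit 5, nat_lit 4, nat_lit 3, nat_lit 8, nat_lit 2, nat_lit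 3, nat_lit 4, nat_lit 1, nat_lit 2, nat_lit 3, nat_lit 8, nat_lit 5, nat_lit 6, nat_lit 4, nat_lit 5, nat_lit 3, nat_lit 4, nat_lit 2, nat_lit 3, nat_lit 8, nat_lit 1, nat_lit 2, nat_lit 3, nat_lit 4, nat_lit 5, nat_lit 6, nat_lit 7, nat_lit 3, nat_lit 8, nat_lit 6, nat_lit 4, nat_lit 5, nat_lit 3, nat_lit 4, nat_lit 2, nat_lit 3, nat_lit 8, nat_lit 0, nat_lit 1, nat_lit 2, nat_lit 3, nat_lit 4, nat_lit 5, nat_lit 0, nat_lit 1, nat_lit 2, nat_lit 3, nat_lit 11, nat_lit 10, nat_lit 2, nat_lit 8, nat_lit 10, nat_lit 1, nat_lit 15, nat_lit 16, nat_lit 8, nat_lit 19] (Rl.cmp (nat_lit 4456) (nat_lit 5392)))) (FT.node (nat_lit 5395) (FT.leaf (Fct.mk false (nat_lit 33) (nat_lit 0) (nat_lit 33) [nat_lit 6, nat_lit 4, nat_lit 5, nat_lit 2, nat_lit 3, nat_lit 4, nat_lit 1, nat_lit 2, nat_lit 3, nat_lit 8, nat_lit 0, nat_lit 1, nat_lit 2, nat_lit 3, nat_lit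 4, nat_lit 5, nat_lit 6, nat_lit 7, nat_lit 6, nat_lit 5, nat_lit 4, nat_lit 3, nat_lit 8, nat_lit 2, nat_lit 3, nat_lit 4, nat_lit 1, nat_lit 2, nat_lit 3, nat_lit 8, nat_lit 5, nat_lit 6, nat_lit 4, nat_lit 5, nat_lit 3, nat_lit 4, nat_lit 2, nat_lit 3, nat_lit 8, nat_lit 1, nat_lit 2, nat_lit 3, nat_lit 4, nat_lit 5, nat_lit 4, nat_lit 3, nat_lit 2, nat_lit 0, nat_lit 1, nat_lit 9, nat_lit 4, nat_lit 3, nat_lit 2, nat_lit 8, nat_lit 3, nat_lit 10, nat_lit 2, nat_lit 8, nat_lit 10, nat_lit 1, nat_lit 16, nat_lit 15, nat_lit 14, nat_lit 16, nat_lit 8, nat_lit 18] (Rl.cmp (nat_lit 4456) (nat_lit 4402)))) (FT.leaf (Fct.mk false (nat_lit 33) (nat_lit 0) (nat_lit 33) [nat_lit 6, nat_lit 5, nat_lit 2, nat_lit 3, nat_lit 4, nat_lit 1, nat_lit 2, nat_lit 3, nat_lit 8, nat_lit 0, nat_lit 1, nat_lit 2, nat_lit 3, nat_lit 4, nat_lit 5, nat_lit 6, nat_lit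 7, nat_lit 6, nat_lit 5, nat_lit 4, nat_lit 3, nat_lit 8, nat_lit 2, nat_lit 3, nat_lit 4, nat_lit 5, nat_lit 9, nat_lit 16, nat_lit 14, nat_lit 16] (Rl.cmp (nat_lit 4400) (nat_lit 5394)))))) (FT.node (nat_lit 5398) (FT.node (nat_lit 5397) (FT.leaf (Fct.mk false (nat_lit 33) (nat_lit 0) (nat_lit 33) [nat_lit 2, nat_lit 3, nat_lit 4, nat_lit 5, nat_lit 6, nat_lit 7, nat_lit 6, nat_lit 5, nat_lit 3, nat_lit 4, nat_lit 1, nat_lit 2, nat_lit 3, nat_lit 8, nat_lit 0, nat_lit 1, nat_lit 2, nat_lit 3, nat_lit 4, nat_lit 5, nat_lit 3, nat_lit 8, nat_lit 4, nat_lit 3, nat_lit 2, nat_lit 0, nat_lit 1, nat_lit 9, nat_lit 4, nat_lit 3, nat_lit 2, nat_lit 8, nat_lit 3, nat_lit 9, nat_lit 16, nat_lit 14, nat_lit 13, nat_lit 18, nat_lit 16] (Rl.cmp (nat_lit 4605) (nat_lit 5395)))) (FT.leaf (Fct.mk false (nat_lit 33) (nat_lit 0) (nat_lit 33) [nat_lit 7, nat_lit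 5, nat_lit 6, nat_lit 4, nat_lit 5, nat_lit 3, nat_lit 4, nat_lit 2, nat_lit 3, nat_lit 8, nat_lit 1, nat_lit 2, nat_lit 3, nat_lit 4, nat_lit 5, nat_lit 6, nat_lit 7, nat_lit 5, nat_lit 4, nat_lit 1, nat_lit 2, nat_lit 3, nat_lit 8, nat_lit 0, nat_lit 1, nat_lit 2, nat_lit 3, nat_lit 4, nat_lit 5, nat_lit 2, nat_lit 1, nat_lit 8, nat_lit 4, nat_lit 3, nat_lit 2, nat_lit 0, nat_lit 1, nat_lit 9, nat_lit 4, nat_lit 3, nat_lit 2, nat_lit 8, nat_lit 3, nat_lit 0, nat_lit 8, nat_lit 12, nat_lit 15, nat_lit 8, nat_lit 18, nat_lit 16] (Rl.cmp (nat_lit 4400) (nat_lit 5396))))) (FT.node (nat_lit 5399) (FT.leaf (Fct.mk false (nat_lit 33) (nat_lit 0) (nat_lit 33) [nat_lit 4, nat_lit 5, nat_lit 6, nat_lit 7, nat_lit 4, nat_lit 5, nat_lit 6, nat_lit 3, nat_lit 4, nat_lit 5, nat_lit 2, nat_lit 3, nat_lit 4, nat_lit 1, nat_lit 2, nat_lit 3, nat_lit 8, nat_lit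 0, nat_lit 1, nat_lit 2, nat_lit 3, nat_lit 4, nat_lit 5, nat_lit 2, nat_lit 1, nat_lit 8, nat_lit 3, nat_lit 2, nat_lit 0, nat_lit 1, nat_lit 9, nat_lit 4, nat_lit 3, nat_lit 2, nat_lit 8, nat_lit 3, nat_lit 1, nat_lit 9, nat_lit 14, nat_lit 13, nat_lit 16] (Rl.cmp (nat_lit 4402) (nat_lit 5397)))) (FT.leaf (Fct.mk true (nat_lit 33) (nat_lit 11218) (nat_lit 33) [nat_lit 8, nat_lit 6, nat_lit 5, nat_lit 2, nat_lit 3, nat_lit 4, nat_lit 1, nat_lit 2, nat_lit 3, nat_lit 8, nat_lit 0, nat_lit 1, nat_lit 2, nat_lit 3, nat_lit 4, nat_lit 5, nat_lit 6, nat_lit 7, nat_lit 3, nat_lit 2, nat_lit 0, nat_lit 1, nat_lit 4, nat_lit 3, nat_lit 2, nat_lit 8, nat_lit 3, nat_lit 2, nat_lit 12, nat_lit 15, nat_lit 8, nat_lit 19] (Rl.rel (nat_lit 0) [nat_lit 4, nat_lit 5, nat_lit 6, nat_lit 3, nat_lit 4, nat_lit 5, nat_lit 2, nat_lit 3, nat_lit 4, nat_lit 1, nat_lit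 2, nat_lit 3, nat_lit 8, nat_lit 0, nat_lit 1, nat_lit 2, nat_lit 3, nat_lit 4, nat_lit 5, nat_lit 6, nat_lit 7, nat_lit 5, nat_lit 3, nat_lit 2, nat_lit 1, nat_lit 8, nat_lit 3, nat_lit 2, nat_lit 0, nat_lit 1, nat_lit 4, nat_lit 3, nat_lit 2, nat_lit 8, nat_lit 3, nat_lit 10, nat_lit 0, nat_lit 8, nat_lit 12, nat_lit 15, nat_lit 14, nat_lit 8] (nat_lit 33) (nat_lit 2) [nat_lit 5357, nat_lit 5393, nat_lit 5389] []))))))))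

/-- some facts -/
noncomputable def ftc108 : FT := FT.node (nat_lit 5425) (FT.node (nat_lit 5412) (FT.node (nat_lit 5406) (FT.node (nat_lit 5403) (FT.node (nat_lit 5401) (FT.leaf (Fct.mk true (nat_lit 33) (nat_lit 180) (nat_lit 33) [nat_lit 4, nat_lit 1, nat_lit 2, nat_lit 3, nat_lit 8, nat_lit 7, nat_lit 5, nat_lit 6, nat_lit 4, nat_lit 5, nat_lit 3, nat_lit 4, nat_lit 2, nat_lit 3, nat_lit 8, nat_lit 1, nat_lit 2, nat_lit 3, nat_lit 4, nat_lit 5, nat_lit 6, nat_lit 7, nat_lit 3, nat_lit 8, nat_lit 2, nat_lit 3, nat_lit 4, nat_lit 5, nat_lit 4, nat_lit 3, nat_lit 2, nat_lit 8, nat_lit 3, nat_lit 11, nat_lit 1, nat_lit 14, nat_lit 12] (Rl.t1 (nat_lit 5399) (nat_lit 5398)))) (FT.node (nat_lit 5402) (FT.leaf (Fct.mk true (nat_lit 33) (nat_lit 122) (nat_lit 33) [nat_lit 7, nat_lit 6, nat_lit 4, nat_lit 5, nat_lit 3, nat_lit 4, nat_lit 2, nat_lit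 3, nat_lit 8, nat_lit 1, nat_lit 2, nat_lit 3, nat_lit 4, nat_lit 5, nat_lit 6, nat_lit 7, nat_lit 3, nat_lit 8, nat_lit 4, nat_lit 5, nat_lit 3, nat_lit 4, nat_lit 2, nat_lit 3, nat_lit 8, nat_lit 1, nat_lit 2, nat_lit 3, nat_lit 4, nat_lit 5, nat_lit 2, nat_lit 3, nat_lit 11, nat_lit 10, nat_lit 1, nat_lit 16, nat_lit 15, nat_lit 14, nat_lit 12, nat_lit 19] (Rl.inv (nat_lit 5400)))) (FT.leaf (Fct.mk false (nat_lit 33) (nat_lit 0) (nat_lit 33) [nat_lit 5, nat_lit 6, nat_lit 4, nat_lit 5, nat_lit 3, nat_lit 4, nat_lit 2, nat_lit 3, nat_lit 8, nat_lit 1, nat_lit 2, nat_lit 3, nat_lit 4, nat_lit 5, nat_lit 6, nat_lit 7, nat_lit 9, nat_lit 4, nat_lit 3, nat_lit 2, nat_lit 8, nat_lit 3, nat_lit 11, nat_lit 1, nat_lit 12, nat_lit 15, nat_lit 14, nat_lit 13, nat_lit 12] (Rl.cmp (nat_lit 4402) (nat_lit 4456)))))) (FT.node (nat_lit 5404) (FT.leaf (Fct.mk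 false (nat_lit 33) (nat_lit 0) (nat_lit 33) [nat_lit 3, nat_lit 8, nat_lit 6, nat_lit 7, nat_lit 5, nat_lit 6, nat_lit 4, nat_lit 5, nat_lit 3, nat_lit 4, nat_lit 2, nat_lit 3, nat_lit 8, nat_lit 0, nat_lit 1, nat_lit 2, nat_lit 3, nat_lit 4, nat_lit 5, nat_lit 6, nat_lit 7, nat_lit 5, nat_lit 2, nat_lit 1, nat_lit 4, nat_lit 3, nat_lit 2, nat_lit 0, nat_lit 1, nat_lit 9, nat_lit 4, nat_lit 3, nat_lit 2, nat_lit 8, nat_lit 3, nat_lit 10, nat_lit 0, nat_lit 15, nat_lit 14, nat_lit 16, nat_lit 8] (Rl.cmp (nat_lit 4456) (nat_lit 5402)))) (FT.node (nat_lit 5405) (FT.leaf (Fct.mk false (nat_lit 33) (nat_lit 0) (nat_lit 33) [nat_lit 4, nat_lit 3, nat_lit 8, nat_lit 6, nat_lit 7, nat_lit 5, nat_lit 6, nat_lit 4, nat_lit 5, nat_lit 3, nat_lit 4, nat_lit 2, nat_lit 3, nat_lit 8, nat_lit 0, nat_lit 1, nat_lit 2, nat_lit 3, nat_lit 4, nat_lit 5, nat_lit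 6, nat_lit 7, nat_lit 4, nat_lit 3, nat_lit 8, nat_lit 2, nat_lit 3, nat_lit 4, nat_lit 1, nat_lit 2, nat_lit 3, nat_lit 8, nat_lit 0, nat_lit 1, nat_lit 2, nat_lit 3, nat_lit 4, nat_lit 5, nat_lit 3, nat_lit 2, nat_lit 1, nat_lit 8, nat_lit 3, nat_lit 2, nat_lit 0, nat_lit 1, nat_lit 9, nat_lit 4, nat_lit 3, nat_lit 2, nat_lit 8, nat_lit 3, nat_lit 8, nat_lit 10, nat_lit 9, nat_lit 2, nat_lit 16, nat_lit 8, nat_lit 12, nat_lit 15, nat_lit 17, nat_lit 12] (Rl.cmp (nat_lit 4402) (nat_lit 5403)))) (FT.leaf (Fct.mk false (nat_lit 33) (nat_lit 0) (nat_lit 33) [nat_lit 5, nat_lit 4, nat_lit 3, nat_lit 8, nat_lit 2, nat_lit 3, nat_lit 4, nat_lit 1, nat_lit 2, nat_lit 3, nat_lit 8, nat_lit 5, nat_lit 6, nat_lit 4, nat_lit 5, nat_lit 3, nat_lit 4, nat_lit 2, nat_lit 3, nat_lit 8, nat_lit 1, nat_lit 2, nat_lit 3, nat_lit 4, nat_lit 5, nat_lit 6, nat_lit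 7, nat_lit 5, nat_lit 4, nat_lit 3, nat_lit 8, nat_lit 2, nat_lit 3, nat_lit 4, nat_lit 1, nat_lit 2, nat_lit 3, nat_lit 8, nat_lit 5, nat_lit 6, nat_lit 4, nat_lit 5, nat_lit 3, nat_lit 4, nat_lit 2, nat_lit 3, nat_lit 8, nat_lit 1, nat_lit 2, nat_lit 3, nat_lit 4, nat_lit 5, nat_lit 4, nat_lit 11, nat_lit 16, nat_lit 14, nat_lit 12, nat_lit 16] (Rl.cmp (nat_lit 4456) (nat_lit 5404))))))) (FT.node (nat_lit 5409) (FT.node (nat_lit 5407) (FT.leaf (Fct.mk false (nat_lit 33) (nat_lit 0) (nat_lit 33) [nat_lit 3, nat_lit 8, nat_lit 5, nat_lit 6, nat_lit 4, nat_lit 5, nat_lit 3, nat_lit 4, nat_lit 1, nat_lit 2, nat_lit 3, nat_lit 8, nat_lit 0, nat_lit 1, nat_lit 2, nat_lit 3, nat_lit 4, nat_lit 5, nat_lit 6, nat_lit 7, nat_lit 2, nat_lit 3, nat_lit 4, nat_lit 1, nat_lit 2, nat_lit 3, nat_lit 8, nat_lit 5, nat_lit 6, nat_lit 4, nat_lit 5, nat_lit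 3, nat_lit 4, nat_lit 2, nat_lit 3, nat_lit 8, nat_lit 1, nat_lit 2, nat_lit 3, nat_lit 4, nat_lit 5, nat_lit 3, nat_lit 2, nat_lit 1, nat_lit 4, nat_lit 3, nat_lit 2, nat_lit 8, nat_lit 3, nat_lit 9, nat_lit 2, nat_lit 8, nat_lit 12, nat_lit 15, nat_lit 13] (Rl.cmp (nat_lit 4605) (nat_lit 4400)))) (FT.node (nat_lit 5408) (FT.leaf (Fct.mk false (nat_lit 33) (nat_lit 0) (nat_lit 33) [nat_lit 7, nat_lit 6, nat_lit 4, nat_lit 5, nat_lit 3, nat_lit 4, nat_lit 1, nat_lit 2, nat_lit 3, nat_lit 8, nat_lit 0, nat_lit 1, nat_lit 2, nat_lit 3, nat_lit 4, nat_lit 5, nat_lit 6, nat_lit 7, nat_lit 4, nat_lit 1, nat_lit 2, nat_lit 3, nat_lit 8, nat_lit 5, nat_lit 6, nat_lit 4, nat_lit 5, nat_lit 3, nat_lit 4, nat_lit 2, nat_lit 3, nat_lit 8, nat_lit 1, nat_lit 2, nat_lit 3, nat_lit 4, nat_lit 5, nat_lit 9, nat_lit 4, nat_lit 3, nat_lit 2, nat_lit 8, nat_lit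 3, nat_lit 9, nat_lit 2, nat_lit 15, nat_lit 14, nat_lit 13, nat_lit 12, nat_lit 19] (Rl.cmp (nat_lit 4402) (nat_lit 5406)))) (FT.leaf (Fct.mk false (nat_lit 33) (nat_lit 0) (nat_lit 33) [nat_lit 3, nat_lit 8, nat_lit 2, nat_lit 3, nat_lit 4, nat_lit 1, nat_lit 2, nat_lit 3, nat_lit 8, nat_lit 0, nat_lit 1, nat_lit 2, nat_lit 3, nat_lit 4, nat_lit 5, nat_lit 6, nat_lit 7, nat_lit 4, nat_lit 5, nat_lit 3, nat_lit 4, nat_lit 2, nat_lit 3, nat_lit 8, nat_lit 1, nat_lit 2, nat_lit 3, nat_lit 4, nat_lit 5, nat_lit 3, nat_lit 0, nat_lit 15, nat_lit 14, nat_lit 12, nat_lit 19, nat_lit 16] (Rl.cmp (nat_lit 4456) (nat_lit 5407)))))) (FT.node (nat_lit 5410) (FT.leaf (Fct.mk false (nat_lit 33) (nat_lit 0) (nat_lit 33) [nat_lit 7, nat_lit 6, nat_lit 4, nat_lit 5, nat_lit 3, nat_lit 4, nat_lit 1, nat_lit 2, nat_lit 3, nat_lit 8, nat_lit 0, nat_lit 1, nat_lit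 2, nat_lit 3, nat_lit 4, nat_lit 5, nat_lit 6, nat_lit 7, nat_lit 8, nat_lit 3, nat_lit 4, nat_lit 1, nat_lit 2, nat_lit 3, nat_lit 8, nat_lit 5, nat_lit 6, nat_lit 4, nat_lit 5, nat_lit 3, nat_lit 4, nat_lit 2, nat_lit 3, nat_lit 8, nat_lit 1, nat_lit 2, nat_lit 3, nat_lit 4, nat_lit 5, nat_lit 1, nat_lit 2, nat_lit 0, nat_lit 1, nat_lit 4, nat_lit 3, nat_lit 2, nat_lit 8, nat_lit 3, nat_lit 11, nat_lit 8, nat_lit 10, nat_lit 1, nat_lit 12, nat_lit 15, nat_lit 16, nat_lit 8, nat_lit 19, nat_lit 16] (Rl.cmp (nat_lit 4400) (nat_lit 5408)))) (FT.node (nat_lit 5411) (FT.leaf (Fct.mk true (nat_lit 33) (nat_lit 60777) (nat_lit 33) [nat_lit 4, nat_lit 5, nat_lit 6, nat_lit 7, nat_lit 8, nat_lit 6, nat_lit 5, nat_lit 2, nat_lit 3, nat_lit 4, nat_lit 1, nat_lit 2, nat_lit 3, nat_lit 8, nat_lit 0, nat_lit 1, nat_lit 2, nat_lit 3, nat_lit 4, nat_lit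 5, nat_lit 4, nat_lit 3, nat_lit 2, nat_lit 0, nat_lit 1, nat_lit 9, nat_lit 4, nat_lit 3, nat_lit 2, nat_lit 8, nat_lit 3, nat_lit 0, nat_lit 8, nat_lit 12, nat_lit 15, nat_lit 17, nat_lit 12, nat_lit 16] (Rl.rel (nat_lit 0) [nat_lit 8, nat_lit 4, nat_lit 5, nat_lit 2, nat_lit 3, nat_lit 4, nat_lit 1, nat_lit 2, nat_lit 3, nat_lit 8, nat_lit 0, nat_lit 1, nat_lit 2, nat_lit 3, nat_lit 4, nat_lit 5, nat_lit 6, nat_lit 7, nat_lit 3, nat_lit 8, nat_lit 2, nat_lit 3, nat_lit 4, nat_lit 1, nat_lit 2, nat_lit 3, nat_lit 8, nat_lit 0, nat_lit 1, nat_lit 2, nat_lit 3, nat_lit 4, nat_lit 5, nat_lit 2, nat_lit 0, nat_lit 1, nat_lit 3, nat_lit 2, nat_lit 8, nat_lit 3, nat_lit 10, nat_lit 15, nat_lit 18] (nat_lit 33) (nat_lit 2) [nat_lit 5357, nat_lit 5405, nat_lit 5196] []))) (FT.leaf (Fct.mk true (nat_lit 33) (nat_lit 838) (nat_lit 33) [nat_lit 6, nat_lit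 5, nat_lit 4, nat_lit 3, nat_lit 8, nat_lit 2, nat_lit 3, nat_lit 4, nat_lit 1, nat_lit 2, nat_lit 3, nat_lit 8, nat_lit 5, nat_lit 6, nat_lit 4, nat_lit 5, nat_lit 3, nat_lit 4, nat_lit 2, nat_lit 3, nat_lit 8, nat_lit 1, nat_lit 2, nat_lit 3, nat_lit 4, nat_lit 5, nat_lit 6, nat_lit 7, nat_lit 8, nat_lit 5, nat_lit 6, nat_lit 4, nat_lit 5, nat_lit 3, nat_lit 4, nat_lit 2, nat_lit 3, nat_lit 8, nat_lit 1, nat_lit 2, nat_lit 3, nat_lit 4, nat_lit 5, nat_lit 0, nat_lit 1, nat_lit 2, nat_lit 3, nat_lit 10, nat_lit 16, nat_lit 15, nat_lit 14, nat_lit 13, nat_lit 12, nat_lit 19, nat_lit 16] (Rl.t1 (nat_lit 5410) (nat_lit 5409)))))))) (FT.node (nat_lit 5418) (FT.node (nat_lit 5415) (FT.node (nat_lit 5413) (FT.leaf (Fct.mk false (nat_lit 33) (nat_lit 0) (nat_lit 33) [nat_lit 2, nat_lit 3, nat_lit 4, nat_lit 5, nat_lit 6, nat_lit 7, nat_lit 5, nat_lit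 3, nat_lit 4, nat_lit 2, nat_lit 3, nat_lit 8, nat_lit 0, nat_lit 1, nat_lit 2, nat_lit 3, nat_lit 4, nat_lit 5, nat_lit 4, nat_lit 3, nat_lit 2, nat_lit 0, nat_lit 1, nat_lit 9, nat_lit 4, nat_lit 3, nat_lit 2, nat_lit 8, nat_lit 3, nat_lit 9, nat_lit 10, nat_lit 2, nat_lit 8, nat_lit 10, nat_lit 1, nat_lit 16, nat_lit 15, nat_lit 14, nat_lit 17, nat_lit 12] (Rl.cmp (nat_lit 4400) (nat_lit 4605)))) (FT.node (nat_lit 5414) (FT.leaf (Fct.mk false (nat_lit 33) (nat_lit 0) (nat_lit 33) [nat_lit 5, nat_lit 2, nat_lit 3, nat_lit 4, nat_lit 1, nat_lit 2, nat_lit 3, nat_lit 8, nat_lit 6, nat_lit 7, nat_lit 5, nat_lit 6, nat_lit 4, nat_lit 5, nat_lit 3, nat_lit 4, nat_lit 2, nat_lit 3, nat_lit 8, nat_lit 1, nat_lit 2, nat_lit 3, nat_lit 4, nat_lit 5, nat_lit 6, nat_lit 7, nat_lit 3, nat_lit 8, nat_lit 2, nat_lit 3, nat_lit 4, nat_lit 1, nat_lit 2,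 nat_lit 3, nat_lit 8, nat_lit 5, nat_lit 6, nat_lit 4, nat_lit 5, nat_lit 3, nat_lit 4, nat_lit 2, nat_lit 3, nat_lit 8, nat_lit 1, nat_lit 2, nat_lit 3, nat_lit 4, nat_lit 5, nat_lit 1, nat_lit 8, nat_lit 3, nat_lit 2, nat_lit 0, nat_lit 1, nat_lit 4, nat_lit 3, nat_lit 2, nat_lit 8, nat_lit 3, nat_lit 1, nat_lit 16, nat_lit 14, nat_lit 17, nat_lit 12, nat_lit 18] (Rl.cmp (nat_lit 4605) (nat_lit 5412)))) (FT.leaf (Fct.mk false (nat_lit 33) (nat_lit 0) (nat_lit 33) [nat_lit 4, nat_lit 3, nat_lit 8, nat_lit 6, nat_lit 7, nat_lit 5, nat_lit 6, nat_lit 4, nat_lit 5, nat_lit 3, nat_lit 4, nat_lit 2, nat_lit 3, nat_lit 8, nat_lit 0, nat_lit 1, nat_lit 2, nat_lit 3, nat_lit 4, nat_lit 5, nat_lit 6, nat_lit 7, nat_lit 3, nat_lit 4, nat_lit 2, nat_lit 3, nat_lit 8, nat_lit 0, nat_lit 1, nat_lit 2, nat_lit 3, nat_lit 4, nat_lit 5, nat_lit 4, nat_lit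 3, nat_lit 2, nat_lit 1, nat_lit 8, nat_lit 3, nat_lit 2, nat_lit 0, nat_lit 1, nat_lit 4, nat_lit 3, nat_lit 2, nat_lit 8, nat_lit 3, nat_lit 0, nat_lit 8, nat_lit 16, nat_lit 14, nat_lit 13, nat_lit 12] (Rl.cmp (nat_lit 4456) (nat_lit 5413)))))) (FT.node (nat_lit 5416) (FT.leaf (Fct.mk false (nat_lit 33) (nat_lit 0) (nat_lit 33) [nat_lit 5, nat_lit 4, nat_lit 3, nat_lit 8, nat_lit 2, nat_lit 3, nat_lit 4, nat_lit 1, nat_lit 2, nat_lit 3, nat_lit 8, nat_lit 5, nat_lit 6, nat_lit 4, nat_lit 5, nat_lit 3, nat_lit 4, nat_lit 2, nat_lit 3, nat_lit 8, nat_lit 1, nat_lit 2, nat_lit 3, nat_lit 4, nat_lit 5, nat_lit 6, nat_lit 7, nat_lit 6, nat_lit 5, nat_lit 4, nat_lit 3, nat_lit 8, nat_lit 2, nat_lit 3, nat_lit 4, nat_lit 1, nat_lit 2, nat_lit 3, nat_lit 8, nat_lit 5, nat_lit 6, nat_lit 4, nat_lit 5, nat_lit 3, nat_lit 4, nat_lit 2, nat_lit 3, nat_lit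 8, nat_lit 1, nat_lit 2, nat_lit 3, nat_lit 4, nat_lit 5, nat_lit 1, nat_lit 8, nat_lit 3, nat_lit 2, nat_lit 0, nat_lit 1, nat_lit 9, nat_lit 4, nat_lit 3, nat_lit 2, nat_lit 8, nat_lit 3, nat_lit 11, nat_lit 8, nat_lit 10, nat_lit 1, nat_lit 15, nat_lit 14, nat_lit 17, nat_lit 12, nat_lit 19] (Rl.cmp (nat_lit 4456) (nat_lit 5414)))) (FT.node (nat_lit 5417) (FT.leaf (Fct.mk false (nat_lit 32) (nat_lit 0) (nat_lit 32) [nat_lit 5, nat_lit 4, nat_lit 3, nat_lit 8, nat_lit 0, nat_lit 1, nat_lit 2, nat_lit 3, nat_lit 4, nat_lit 5, nat_lit 3, nat_lit 2, nat_lit 0, nat_lit 1, nat_lit 9, nat_lit 4, nat_lit 3, nat_lit 2, nat_lit 8, nat_lit 3, nat_lit 11, nat_lit 12, nat_lit 15, nat_lit 14, nat_lit 12, nat_lit 18] (Rl.cmp (nat_lit 3004) (nat_lit 4311)))) (FT.leaf (Fct.mk false (nat_lit 32) (nat_lit 0) (nat_lit 32) [nat_lit 3, nat_lit 8, nat_lit 5, nat_lit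 2, nat_lit 3, nat_lit 4, nat_lit 1, nat_lit 2, nat_lit 3, nat_lit 8, nat_lit 6, nat_lit 7, nat_lit 5, nat_lit 6, nat_lit 4, nat_lit 5, nat_lit 3, nat_lit 4, nat_lit 2, nat_lit 3, nat_lit 8, nat_lit 1, nat_lit 2, nat_lit 3, nat_lit 4, nat_lit 5, nat_lit 6, nat_lit 7, nat_lit 4, nat_lit 2, nat_lit 3, nat_lit 8, nat_lit 5, nat_lit 6, nat_lit 4, nat_lit 5, nat_lit 3, nat_lit 4, nat_lit 2, nat_lit 3, nat_lit 8, nat_lit 1, nat_lit 2, nat_lit 3, nat_lit 4, nat_lit 5, nat_lit 1, nat_lit 2, nat_lit 3, nat_lit 11, nat_lit 2, nat_lit 10, nat_lit 1, nat_lit 16, nat_lit 12, nat_lit 15, nat_lit 14, nat_lit 16, nat_lit 8, nat_lit 18, nat_lit 16] (Rl.cmp (nat_lit 3456) (nat_lit 5416))))))) (FT.node (nat_lit 5421) (FT.node (nat_lit 5419) (FT.leaf (Fct.mk true (nat_lit 32) (nat_lit 38370) (nat_lit 33) [nat_lit 8, nat_lit 6, nat_lit 5, nat_lit 3, nat_lit 4, nat_lit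 2, nat_lit 3, nat_lit 8, nat_lit 0, nat_lit 1, nat_lit 2, nat_lit 3, nat_lit 4, nat_lit 5, nat_lit 6, nat_lit 7, nat_lit 8, nat_lit 5, nat_lit 6, nat_lit 4, nat_lit 5, nat_lit 3, nat_lit 4, nat_lit 2, nat_lit 3, nat_lit 8, nat_lit 0, nat_lit 1, nat_lit 2, nat_lit 3, nat_lit 4, nat_lit 5, nat_lit 3, nat_lit 2, nat_lit 1, nat_lit 4, nat_lit 3, nat_lit 2, nat_lit 8, nat_lit 3, nat_lit 8, nat_lit 12, nat_lit 15] (Rl.rel (nat_lit 0) [nat_lit 4, nat_lit 5, nat_lit 6, nat_lit 3, nat_lit 4, nat_lit 5, nat_lit 2, nat_lit 3, nat_lit 4, nat_lit 1, nat_lit 2, nat_lit 3, nat_lit 8, nat_lit 0, nat_lit 1, nat_lit 2, nat_lit 3, nat_lit 4, nat_lit 5, nat_lit 6, nat_lit 7, nat_lit 5, nat_lit 3, nat_lit 2, nat_lit 1, nat_lit 8, nat_lit 3, nat_lit 2, nat_lit 0, nat_lit 1, nat_lit 4, nat_lit 3, nat_lit 2, nat_lit 8, nat_lit 3, nat_lit 10, nat_lit 0, nat_lit 8,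 nat_lit 12, nat_lit 15, nat_lit 14, nat_lit 8, nat_lit 19] (nat_lit 33) (nat_lit 2) [nat_lit 5357, nat_lit 5415, nat_lit 4955] []))) (FT.node (nat_lit 5420) (FT.leaf (Fct.mk true (nat_lit 32) (nat_lit 309) (nat_lit 33) [nat_lit 4, nat_lit 5, nat_lit 3, nat_lit 4, nat_lit 1, nat_lit 2, nat_lit 3, nat_lit 8, nat_lit 0, nat_lit 1, nat_lit 2, nat_lit 3, nat_lit 4, nat_lit 5, nat_lit 6, nat_lit 7, nat_lit 6, nat_lit 5, nat_lit 2, nat_lit 3, nat_lit 4, nat_lit 1, nat_lit 2, nat_lit 3, nat_lit 8, nat_lit 0, nat_lit 1, nat_lit 2, nat_lit 3, nat_lit 4, nat_lit 5, nat_lit 2, nat_lit 1, nat_lit 8, nat_lit 4, nat_lit 3, nat_lit 2, nat_lit 0, nat_lit 1, nat_lit 9, nat_lit 4, nat_lit 3, nat_lit 2, nat_lit 8, nat_lit 3, nat_lit 11, nat_lit 10, nat_lit 16, nat_lit 12, nat_lit 15, nat_lit 14, nat_lit 8, nat_lit 19, nat_lit 16] (Rl.t1 (nat_lit 5418) (nat_lit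 5417)))) (FT.leaf (Fct.mk true (nat_lit 33) (nat_lit 121) (nat_lit 32) [nat_lit 4, nat_lit 5, nat_lit 3, nat_lit 4, nat_lit 2, nat_lit 3, nat_lit 8, nat_lit 0, nat_lit 1, nat_lit 2, nat_lit 3, nat_lit 4, nat_lit 5, nat_lit 6, nat_lit 7, nat_lit 4, nat_lit 3, nat_lit 8, nat_lit 5, nat_lit 6, nat_lit 4, nat_lit 5, nat_lit 3, nat_lit 4, nat_lit 1, nat_lit 2, nat_lit 3, nat_lit 8, nat_lit 0, nat_lit 1, nat_lit 2, nat_lit 3, nat_lit 4, nat_lit 5, nat_lit 1, nat_lit 2, nat_lit 0, nat_lit 1, nat_lit 9, nat_lit 4, nat_lit 3, nat_lit 2, nat_lit 8, nat_lit 3, nat_lit 10, nat_lit 2, nat_lit 8, nat_lit 10, nat_lit 1, nat_lit 8, nat_lit 16, nat_lit 14, nat_lit 8, nat_lit 19, nat_lit 16] (Rl.inv (nat_lit 5419)))))) (FT.node (nat_lit 5423) (FT.node (nat_lit 5422) (FT.leaf (Fct.mk false (nat_lit 33) (nat_lit 0) (nat_lit 33) [nat_lit 5, nat_lit 3, nat_lit 4,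 nat_lit 2, nat_lit 3, nat_lit 8, nat_lit 6, nat_lit 7, nat_lit 5, nat_lit 6, nat_lit 4, nat_lit 5, nat_lit 3, nat_lit 4, nat_lit 2, nat_lit 3, nat_lit 8, nat_lit 1, nat_lit 2, nat_lit 3, nat_lit 4, nat_lit 5, nat_lit 6, nat_lit 7, nat_lit 2, nat_lit 3, nat_lit 8, nat_lit 5, nat_lit 6, nat_lit 4, nat_lit 5, nat_lit 3, nat_lit 4, nat_lit 2, nat_lit 3, nat_lit 8, nat_lit 1, nat_lit 2, nat_lit 3, nat_lit 4, nat_lit 5, nat_lit 1, nat_lit 2, nat_lit 0, nat_lit 1, nat_lit 9, nat_lit 4, nat_lit 3, nat_lit 2, nat_lit 8, nat_lit 3, nat_lit 11, nat_lit 1, nat_lit 17, nat_lit 12, nat_lit 18] (Rl.cmp (nat_lit 4605) (nat_lit 5350)))) (FT.leaf (Fct.mk false (nat_lit 33) (nat_lit 0) (nat_lit 33) [nat_lit 5, nat_lit 6, nat_lit 4, nat_lit 5, nat_lit 3, nat_lit 4, nat_lit 2, nat_lit 3, nat_lit 8, nat_lit 1, nat_lit 2, nat_lit 3, nat_lit 4, nat_lit 5, nat_lit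 6, nat_lit 7, nat_lit 6, nat_lit 5, nat_lit 4, nat_lit 3, nat_lit 8, nat_lit 2, nat_lit 3, nat_lit 4, nat_lit 1, nat_lit 2, nat_lit 3, nat_lit 8, nat_lit 5, nat_lit 6, nat_lit 4, nat_lit 5, nat_lit 3, nat_lit 4, nat_lit 2, nat_lit 3, nat_lit 8, nat_lit 1, nat_lit 2, nat_lit 3, nat_lit 4, nat_lit 5, nat_lit 1, nat_lit 8, nat_lit 4, nat_lit 3, nat_lit 2, nat_lit 0, nat_lit 1, nat_lit 9, nat_lit 4, nat_lit 3, nat_lit 2, nat_lit 8, nat_lit 3, nat_lit 11, nat_lit 2, nat_lit 8, nat_lit 10, nat_lit 1, nat_lit 8, nat_lit 16, nat_lit 14, nat_lit 17, nat_lit 12, nat_lit 19] (Rl.cmp (nat_lit 4456) (nat_lit 5421))))) (FT.node (nat_lit 5424) (FT.leaf (Fct.mk false (nat_lit 33) (nat_lit 0) (nat_lit 33) [nat_lit 3, nat_lit 8, nat_lit 6, nat_lit 7, nat_lit 5, nat_lit 6, nat_lit 4, nat_lit 5, nat_lit 3, nat_lit 4, nat_lit 2, nat_lit 3, nat_lit 8, nat_lit 0,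 nat_lit 1, nat_lit 2, nat_lit 3, nat_lit 4, nat_lit 5, nat_lit 6, nat_lit 7, nat_lit 3, nat_lit 4, nat_lit 2, nat_lit 3, nat_lit 8, nat_lit 0, nat_lit 1, nat_lit 2, nat_lit 3, nat_lit 4, nat_lit 5, nat_lit 4, nat_lit 3, nat_lit 2, nat_lit 1, nat_lit 8, nat_lit 3, nat_lit 2, nat_lit 0, nat_lit 1, nat_lit 4, nat_lit 3, nat_lit 2, nat_lit 8, nat_lit 3, nat_lit 11, nat_lit 8, nat_lit 10, nat_lit 15, nat_lit 12, nat_lit 16] (Rl.cmp (nat_lit 4456) (nat_lit 5422)))) (FT.leaf (Fct.mk false (nat_lit 33) (nat_lit 0) (nat_lit 33) [nat_lit 3, nat_lit 8, nat_lit 6, nat_lit 7, nat_lit 5, nat_lit 6, nat_lit 4, nat_lit 5, nat_lit 3, nat_lit 4, nat_lit 2, nat_lit 3, nat_lit 8, nat_lit 1, nat_lit 2, nat_lit 3, nat_lit 4, nat_lit 5, nat_lit 6, nat_lit 7, nat_lit 6, nat_lit 3, nat_lit 2, nat_lit 0, nat_lit 1, nat_lit 9, nat_lit 4, nat_lit 3, nat_lit 2, nat_lit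 8, nat_lit 3, nat_lit 10, nat_lit 1, nat_lit 14, nat_lit 8, nat_lit 18, nat_lit 16] (Rl.cmp (nat_lit 4456) (nat_lit 5423))))))))) (FT.node (nat_lit 5437) (FT.node (nat_lit 5431) (FT.node (nat_lit 5428) (FT.node (nat_lit 5426) (FT.leaf (Fct.mk false (nat_lit 33) (nat_lit 0) (nat_lit 33) [nat_lit 102] (Rl.cmp (nat_lit 4402) (nat_lit 4400)))) (FT.node (nat_lit 5427) (FT.leaf (Fct.mk false (nat_lit 33) (nat_lit 0) (nat_lit 33) [nat_lit 3, nat_lit 8, nat_lit 2, nat_lit 3, nat_lit 4, nat_lit 1, nat_lit 2, nat_lit 3, nat_lit 8, nat_lit 7, nat_lit 5, nat_lit 6, nat_lit 4, nat_lit 5, nat_lit 3, nat_lit 4, nat_lit 2, nat_lit 3, nat_lit 8, nat_lit 1, nat_lit 2, nat_lit 3, nat_lit 4, nat_lit 5, nat_lit 6, nat_lit 7, nat_lit 4, nat_lit 2, nat_lit 3, nat_lit 8, nat_lit 1, nat_lit 2, nat_lit 3, nat_lit 4, nat_lit 5, nat_lit 3, nat_lit 2, nat_lit 0, nat_lit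 1, nat_lit 4, nat_lit 3, nat_lit 2, nat_lit 8, nat_lit 3, nat_lit 2, nat_lit 17, nat_lit 19, nat_lit 16] (Rl.cmp (nat_lit 4605) (nat_lit 5425)))) (FT.leaf (Fct.mk false (nat_lit 33) (nat_lit 0) (nat_lit 33) [nat_lit 2, nat_lit 3, nat_lit 8, nat_lit 4, nat_lit 5, nat_lit 3, nat_lit 4, nat_lit 2, nat_lit 3, nat_lit 8, nat_lit 1, nat_lit 2, nat_lit 3, nat_lit 4, nat_lit 5, nat_lit 6, nat_lit 7, nat_lit 8, nat_lit 3, nat_lit 4, nat_lit 1, nat_lit 2, nat_lit 3, nat_lit 8, nat_lit 5, nat_lit 6, nat_lit 4, nat_lit 5, nat_lit 3, nat_lit 4, nat_lit 2, nat_lit 3, nat_lit 8, nat_lit 1, nat_lit 2, nat_lit 3, nat_lit 4, nat_lit 5, nat_lit 2, nat_lit 0, nat_lit 1, nat_lit 3, nat_lit 2, nat_lit 8, nat_lit 3, nat_lit 2, nat_lit 10, nat_lit 1, nat_lit 16, nat_lit 12, nat_lit 15, nat_lit 14, nat_lit 16, nat_lit 8, nat_lit 16] (Rl.cmp (nat_lit 4402) (nat_lit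 5426)))))) (FT.node (nat_lit 5429) (FT.leaf (Fct.mk false (nat_lit 33) (nat_lit 0) (nat_lit 33) [nat_lit 7, nat_lit 5, nat_lit 6, nat_lit 4, nat_lit 5, nat_lit 2, nat_lit 3, nat_lit 4, nat_lit 1, nat_lit 2, nat_lit 3, nat_lit 8, nat_lit 0, nat_lit 1, nat_lit 2, nat_lit 3, nat_lit 4, nat_lit 5, nat_lit 6, nat_lit 7, nat_lit 3, nat_lit 8, nat_lit 5, nat_lit 6, nat_lit 4, nat_lit 5, nat_lit 3, nat_lit 4, nat_lit 2, nat_lit 3, nat_lit 8, nat_lit 0, nat_lit 1, nat_lit 2, nat_lit 3, nat_lit 4, nat_lit 5, nat_lit 3, nat_lit 2, nat_lit 1, nat_lit 4, nat_lit 3, nat_lit 2, nat_lit 0, nat_lit 1, nat_lit 9, nat_lit 4, nat_lit 3, nat_lit 2, nat_lit 8, nat_lit 3, nat_lit 11, nat_lit 2, nat_lit 10, nat_lit 1, nat_lit 15, nat_lit 14, nat_lit 12] (Rl.cmp (nat_lit 4456) (nat_lit 5427)))) (FT.node (nat_lit 5430) (FT.leaf (Fct.mk false (nat_lit 33) (nat_lit 0)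 (nat_lit 33) [nat_lit 3, nat_lit 8, nat_lit 4, nat_lit 5, nat_lit 3, nat_lit 4, nat_lit 1, nat_lit 2, nat_lit 3, nat_lit 8, nat_lit 0, nat_lit 1, nat_lit 2, nat_lit 3, nat_lit 4, nat_lit 5, nat_lit 6, nat_lit 7, nat_lit 8, nat_lit 5, nat_lit 6, nat_lit 4, nat_lit 5, nat_lit 3, nat_lit 4, nat_lit 1, nat_lit 2, nat_lit 3, nat_lit 8, nat_lit 0, nat_lit 1, nat_lit 2, nat_lit 3, nat_lit 4, nat_lit 5, nat_lit 4, nat_lit 3, nat_lit 2, nat_lit 0, nat_lit 1, nat_lit 9, nat_lit 4, nat_lit 3, nat_lit 2, nat_lit 8, nat_lit 3, nat_lit 10, nat_lit 0, nat_lit 14, nat_lit 19] (Rl.cmp (nat_lit 4400) (nat_lit 5428)))) (FT.leaf (Fct.mk true (nat_lit 33) (nat_lit 492) (nat_lit 33) [nat_lit 6, nat_lit 4, nat_lit 5, nat_lit 3, nat_lit 4, nat_lit 2, nat_lit 3, nat_lit 8, nat_lit 1, nat_lit 2, nat_lit 3, nat_lit 4, nat_lit 5, nat_lit 6, nat_lit 7, nat_lit 4, nat_lit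 10, nat_lit 1, nat_lit 16, nat_lit 14, nat_lit 12, nat_lit 18, nat_lit 16] (Rl.rel (nat_lit 0) [nat_lit 4, nat_lit 5, nat_lit 6, nat_lit 3, nat_lit 4, nat_lit 5, nat_lit 2, nat_lit 3, nat_lit 4, nat_lit 1, nat_lit 2, nat_lit 3, nat_lit 8, nat_lit 0, nat_lit 1, nat_lit 2, nat_lit 3, nat_lit 4, nat_lit 5, nat_lit 6, nat_lit 7, nat_lit 3, nat_lit 8, nat_lit 5, nat_lit 2, nat_lit 3, nat_lit 4, nat_lit 1, nat_lit 2, nat_lit 3, nat_lit 8, nat_lit 0, nat_lit 1, nat_lit 2, nat_lit 3, nat_lit 4, nat_lit 5, nat_lit 2, nat_lit 0, nat_lit 1, nat_lit 3, nat_lit 2, nat_lit 8, nat_lit 3, nat_lit 0, nat_lit 2, nat_lit 15, nat_lit 14, nat_lit 12] (nat_lit 33) (nat_lit 2) [nat_lit 5357, nat_lit 5424, nat_lit 5357] [])))))) (FT.node (nat_lit 5434) (FT.node (nat_lit 5432) (FT.leaf (Fct.mk true (nat_lit 33) (nat_lit 190) (nat_lit 33) [nat_lit 2, nat_lit 3, nat_lit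 4, nat_lit 5, nat_lit 6, nat_lit 7, nat_lit 8, nat_lit 6, nat_lit 5, nat_lit 3, nat_lit 4, nat_lit 2, nat_lit 3, nat_lit 8, nat_lit 1, nat_lit 2, nat_lit 3, nat_lit 4, nat_lit 5, nat_lit 8, nat_lit 3, nat_lit 2, nat_lit 1, nat_lit 9, nat_lit 4, nat_lit 3, nat_lit 2, nat_lit 8, nat_lit 3, nat_lit 10, nat_lit 2, nat_lit 8, nat_lit 10, nat_lit 1, nat_lit 8, nat_lit 12, nat_lit 15, nat_lit 16, nat_lit 8] (Rl.t1 (nat_lit 5430) (nat_lit 5429)))) (FT.node (nat_lit 5433) (FT.leaf (Fct.mk false (nat_lit 33) (nat_lit 0) (nat_lit 33) [nat_lit 6, nat_lit 4, nat_lit 5, nat_lit 2, nat_lit 3, nat_lit 4, nat_lit 1, nat_lit 2, nat_lit 3, nat_lit 8, nat_lit 0, nat_lit 1, nat_lit 2, nat_lit 3, nat_lit 4, nat_lit 5, nat_lit 6, nat_lit 7, nat_lit 6, nat_lit 5, nat_lit 4, nat_lit 3, nat_lit 8, nat_lit 2, nat_lit 3, nat_lit 4, nat_lit 1, nat_lit 2, nat_lit 3, nat_lit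 8, nat_lit 5, nat_lit 6, nat_lit 4, nat_lit 5, nat_lit 3, nat_lit 4, nat_lit 2, nat_lit 3, nat_lit 8, nat_lit 1, nat_lit 2, nat_lit 3, nat_lit 4, nat_lit 5, nat_lit 4, nat_lit 3, nat_lit 2, nat_lit 0, nat_lit 1, nat_lit 9, nat_lit 4, nat_lit 3, nat_lit 2, nat_lit 8, nat_lit 3, nat_lit 10, nat_lit 2, nat_lit 8, nat_lit 10, nat_lit 1, nat_lit 16, nat_lit 15, nat_lit 14, nat_lit 16, nat_lit 8, nat_lit 18] (Rl.cmp (nat_lit 4456) (nat_lit 4402)))) (FT.leaf (Fct.mk false (nat_lit 33) (nat_lit 0) (nat_lit 33) [nat_lit 6, nat_lit 5, nat_lit 2, nat_lit 3, nat_lit 4, nat_lit 1, nat_lit 2, nat_lit 3, nat_lit 8, nat_lit 0, nat_lit 1, nat_lit 2, nat_lit 3, nat_lit 4, nat_lit 5, nat_lit 6, nat_lit 7, nat_lit 6, nat_lit 5, nat_lit 4, nat_lit 3, nat_lit 8, nat_lit 2, nat_lit 3, nat_lit 4, nat_lit 5, nat_lit 9, nat_lit 16, nat_lit 14, nat_lit 16] (Rl.cmp (nat_lit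 4400) (nat_lit 5432)))))) (FT.node (nat_lit 5435) (FT.leaf (Fct.mk false (nat_lit 33) (nat_lit 0) (nat_lit 33) [nat_lit 2, nat_lit 3, nat_lit 4, nat_lit 5, nat_lit 6, nat_lit 7, nat_lit 6, nat_lit 5, nat_lit 3, nat_lit 4, nat_lit 1, nat_lit 2, nat_lit 3, nat_lit 8, nat_lit 0, nat_lit 1, nat_lit 2, nat_lit 3, nat_lit 4, nat_lit 5, nat_lit 3, nat_lit 8, nat_lit 4, nat_lit 3, nat_lit 2, nat_lit 0, nat_lit 1, nat_lit 9, nat_lit 4, nat_lit 3, nat_lit 2, nat_lit 8, nat_lit 3, nat_lit 9, nat_lit 16, nat_lit 14, nat_lit 13, nat_lit 18, nat_lit 16] (Rl.cmp (nat_lit 4605) (nat_lit 5433)))) (FT.node (nat_lit 5436) (FT.leaf (Fct.mk false (nat_lit 33) (nat_lit 0) (nat_lit 33) [nat_lit 7, nat_lit 5, nat_lit 6, nat_lit 4, nat_lit 5, nat_lit 3, nat_lit 4, nat_lit 2, nat_lit 3, nat_lit 8, nat_lit 1, nat_lit 2, nat_lit 3, nat_lit 4, nat_lit 5, nat_lit 6, nat_lit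 7, nat_lit 3, nat_lit 8, nat_lit 1, nat_lit 2, nat_lit 3, nat_lit 4, nat_lit 5, nat_lit 1, nat_lit 8, nat_lit 4, nat_lit 3, nat_lit 2, nat_lit 0, nat_lit 1, nat_lit 9, nat_lit 4, nat_lit 3, nat_lit 2, nat_lit 8, nat_lit 3, nat_lit 0, nat_lit 16, nat_lit 14, nat_lit 13, nat_lit 18, nat_lit 16] (Rl.cmp (nat_lit 4456) (nat_lit 5434)))) (FT.leaf (Fct.mk false (nat_lit 33) (nat_lit 0) (nat_lit 33) [nat_lit 2, nat_lit 3, nat_lit 4, nat_lit 5, nat_lit 6, nat_lit 7, nat_lit 2, nat_lit 3, nat_lit 4, nat_lit 5, nat_lit 3, nat_lit 8, nat_lit 4, nat_lit 3, nat_lit 2, nat_lit 0, nat_lit 1, nat_lit 9, nat_lit 4, nat_lit 3, nat_lit 2, nat_lit 8, nat_lit 3, nat_lit 0, nat_lit 18, nat_lit 16] (Rl.cmp (nat_lit 4400) (nat_lit 5435)))))))) (FT.node (nat_lit 5443) (FT.node (nat_lit 5440) (FT.node (nat_lit 5438) (FT.leaf (Fct.mk false (nat_lit 33) (nat_lit 0) (nat_lit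 33) [nat_lit 7, nat_lit 6, nat_lit 4, nat_lit 5, nat_lit 3, nat_lit 4, nat_lit 2, nat_lit 3, nat_lit 8, nat_lit 1, nat_lit 2, nat_lit 3, nat_lit 4, nat_lit 5, nat_lit 6, nat_lit 7, nat_lit 8, nat_lit 3, nat_lit 4, nat_lit 5, nat_lit 3, nat_lit 2, nat_lit 0, nat_lit 1, nat_lit 9, nat_lit 4, nat_lit 3, nat_lit 2, nat_lit 8, nat_lit 3, nat_lit 12, nat_lit 15, nat_lit 14, nat_lit 12, nat_lit 18, nat_lit 16] (Rl.cmp (nat_lit 4402) (nat_lit 5436)))) (FT.node (nat_lit 5439) (FT.leaf (Fct.mk false (nat_lit 33) (nat_lit 0) (nat_lit 33) [nat_lit 3, nat_lit 8, nat_lit 5, nat_lit 6, nat_lit 4, nat_lit 5, nat_lit 3, nat_lit 4, nat_lit 1, nat_lit 2, nat_lit 3, nat_lit 8, nat_lit 0, nat_lit 1, nat_lit 2, nat_lit 3, nat_lit 4, nat_lit 5, nat_lit 6, nat_lit 7, nat_lit 2, nat_lit 3, nat_lit 4, nat_lit 1, nat_lit 2, nat_lit 3, nat_lit 8, nat_lit 5, nat_lit 6,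 nat_lit 4, nat_lit 5, nat_lit 3, nat_lit 4, nat_lit 2, nat_lit 3, nat_lit 8, nat_lit 1, nat_lit 2, nat_lit 3, nat_lit 4, nat_lit 5, nat_lit 3, nat_lit 2, nat_lit 1, nat_lit 4, nat_lit 3, nat_lit 2, nat_lit 8, nat_lit 3, nat_lit 9, nat_lit 2, nat_lit 8, nat_lit 12, nat_lit 15, nat_lit 13] (Rl.cmp (nat_lit 4605) (nat_lit 4400)))) (FT.leaf (Fct.mk false (nat_lit 33) (nat_lit 0) (nat_lit 33) [nat_lit 2, nat_lit 3, nat_lit 8, nat_lit 5, nat_lit 6, nat_lit 4, nat_lit 5, nat_lit 3, nat_lit 4, nat_lit 2, nat_lit 3, nat_lit 8, nat_lit 0, nat_lit 1, nat_lit 2, nat_lit 3, nat_lit 4, nat_lit 5, nat_lit 6, nat_lit 7, nat_lit 8, nat_lit 3, nat_lit 4, nat_lit 1, nat_lit 2, nat_lit 3, nat_lit 8, nat_lit 0, nat_lit 1, nat_lit 2, nat_lit 3, nat_lit 4, nat_lit 5, nat_lit 3, nat_lit 2, nat_lit 1, nat_lit 9, nat_lit 4, nat_lit 3, nat_lit 2, nat_lit 8, nat_lit 3,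 nat_lit 11, nat_lit 10, nat_lit 2, nat_lit 8, nat_lit 10, nat_lit 1, nat_lit 12, nat_lit 15, nat_lit 19] (Rl.cmp (nat_lit 4400) (nat_lit 5438)))))) (FT.node (nat_lit 5441) (FT.leaf (Fct.mk false (nat_lit 33) (nat_lit 0) (nat_lit 33) [nat_lit 3, nat_lit 8, nat_lit 5, nat_lit 6, nat_lit 4, nat_lit 5, nat_lit 3, nat_lit 4, nat_lit 1, nat_lit 2, nat_lit 3, nat_lit 8, nat_lit 0, nat_lit 1, nat_lit 2, nat_lit 3, nat_lit 4, nat_lit 5, nat_lit 6, nat_lit 7, nat_lit 3, nat_lit 8, nat_lit 2, nat_lit 3, nat_lit 4, nat_lit 5, nat_lit 2, nat_lit 0, nat_lit 1, nat_lit 4, nat_lit 3, nat_lit 2, nat_lit 8, nat_lit 3, nat_lit 0, nat_lit 15, nat_lit 17] (Rl.cmp (nat_lit 4456) (nat_lit 5439)))) (FT.node (nat_lit 5442) (FT.leaf (Fct.mk false (nat_lit 33) (nat_lit 0) (nat_lit 33) [nat_lit 2, nat_lit 3, nat_lit 8, nat_lit 5, nat_lit 6, nat_lit 4, nat_lit 5, nat_lit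 3, nat_lit 4, nat_lit 2, nat_lit 3, nat_lit 8, nat_lit 0, nat_lit 1, nat_lit 2, nat_lit 3, nat_lit 4, nat_lit 5, nat_lit 6, nat_lit 7, nat_lit 8, nat_lit 3, nat_lit 4, nat_lit 1, nat_lit 2, nat_lit 3, nat_lit 8, nat_lit 5, nat_lit 6, nat_lit 4, nat_lit 5, nat_lit 3, nat_lit 4, nat_lit 2, nat_lit 3, nat_lit 8, nat_lit 1, nat_lit 2, nat_lit 3, nat_lit 4, nat_lit 5, nat_lit 4, nat_lit 3, nat_lit 2, nat_lit 8, nat_lit 3, nat_lit 8, nat_lit 10, nat_lit 9, nat_lit 2, nat_lit 12, nat_lit 15, nat_lit 13, nat_lit 12, nat_lit 16] (Rl.cmp (nat_lit 4400) (nat_lit 5440)))) (FT.leaf (Fct.mk true (nat_lit 32) (nat_lit 2214) (nat_lit 33) [nat_lit 5, nat_lit 4, nat_lit 2, nat_lit 3, nat_lit 8, nat_lit 0, nat_lit 1, nat_lit 2, nat_lit 3, nat_lit 4, nat_lit 5, nat_lit 6, nat_lit 7, nat_lit 5, nat_lit 3, nat_lit 4, nat_lit 2, nat_lit 3, nat_lit 8, nat_lit 1, nat_lit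 2, nat_lit 3, nat_lit 4, nat_lit 5, nat_lit 0, nat_lit 1, nat_lit 3, nat_lit 2, nat_lit 8, nat_lit 3, nat_lit 2, nat_lit 8, nat_lit 10, nat_lit 1, nat_lit 16, nat_lit 8, nat_lit 12, nat_lit 15, nat_lit 18] (Rl.rel (nat_lit 0) [nat_lit 5, nat_lit 4, nat_lit 1, nat_lit 2, nat_lit 3, nat_lit 8, nat_lit 0, nat_lit 1, nat_lit 2, nat_lit 3, nat_lit 4, nat_lit 5, nat_lit 6, nat_lit 7, nat_lit 4, nat_lit 3, nat_lit 8, nat_lit 2, nat_lit 3, nat_lit 4, nat_lit 1, nat_lit 2, nat_lit 3, nat_lit 8, nat_lit 0, nat_lit 1, nat_lit 2, nat_lit 3, nat_lit 4, nat_lit 5, nat_lit 0, nat_lit 1, nat_lit 3, nat_lit 2, nat_lit 8, nat_lit 3, nat_lit 2, nat_lit 10, nat_lit 1, nat_lit 15, nat_lit 18] (nat_lit 33) (nat_lit 2) [nat_lit 5357, nat_lit 5437, nat_lit 5014] [])))))) (FT.node (nat_lit 5446) (FT.node (nat_lit 5444) (FT.leaf (Fct.mk true (nat_lit 32) (nat_lit 276)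 (nat_lit 33) [nat_lit 5, nat_lit 6, nat_lit 4, nat_lit 5, nat_lit 3, nat_lit 4, nat_lit 2, nat_lit 3, nat_lit 8, nat_lit 1, nat_lit 2, nat_lit 3, nat_lit 4, nat_lit 5, nat_lit 6, nat_lit 7, nat_lit 5, nat_lit 3, nat_lit 2, nat_lit 0, nat_lit 1, nat_lit 4, nat_lit 3, nat_lit 2, nat_lit 8, nat_lit 3, nat_lit 8, nat_lit 10, nat_lit 1, nat_lit 16, nat_lit 8, nat_lit 12, nat_lit 15, nat_lit 12, nat_lit 18, nat_lit 16] (Rl.t1 (nat_lit 5442) (nat_lit 3047)))) (FT.node (nat_lit 5445) (FT.leaf (Fct.mk true (nat_lit 33) (nat_lit 1311) (nat_lit 32) [nat_lit 4, nat_lit 3, nat_lit 8, nat_lit 0, nat_lit 1, nat_lit 2, nat_lit 3, nat_lit 4, nat_lit 5, nat_lit 6, nat_lit 7, nat_lit 8, nat_lit 5, nat_lit 6, nat_lit 4, nat_lit 5, nat_lit 2, nat_lit 3, nat_lit 4, nat_lit 1, nat_lit 2, nat_lit 3, nat_lit 8, nat_lit 0, nat_lit 1, nat_lit 2, nat_lit 3, nat_lit 4,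 nat_lit 5, nat_lit 9, nat_lit 4, nat_lit 0, nat_lit 2, nat_lit 12, nat_lit 15, nat_lit 13, nat_lit 12, nat_lit 18, nat_lit 16] (Rl.inv (nat_lit 5443)))) (FT.leaf (Fct.mk true (nat_lit 33) (nat_lit 387) (nat_lit 32) [nat_lit 8, nat_lit 3, nat_lit 4, nat_lit 2, nat_lit 3, nat_lit 8, nat_lit 1, nat_lit 2, nat_lit 3, nat_lit 4, nat_lit 5, nat_lit 6, nat_lit 7, nat_lit 3, nat_lit 8, nat_lit 5, nat_lit 2, nat_lit 3, nat_lit 4, nat_lit 1, nat_lit 2, nat_lit 3, nat_lit 8, nat_lit 0, nat_lit 1, nat_lit 2, nat_lit 3, nat_lit 4, nat_lit 5, nat_lit 1, nat_lit 4, nat_lit 3, nat_lit 2, nat_lit 0, nat_lit 1, nat_lit 9, nat_lit 4, nat_lit 3, nat_lit 2, nat_lit 8, nat_lit 3, nat_lit 11, nat_lit 2, nat_lit 8, nat_lit 10, nat_lit 1, nat_lit 16, nat_lit 15, nat_lit 14, nat_lit 8, nat_lit 19, nat_lit 16] (Rl.t1 (nat_lit 5444) (nat_lit 5441)))))) (FT.node (nat_lit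 5448) (FT.node (nat_lit 5447) (FT.leaf (Fct.mk false (nat_lit 33) (nat_lit 0) (nat_lit 33) [nat_lit 3, nat_lit 4, nat_lit 5, nat_lit 2, nat_lit 3, nat_lit 4, nat_lit 1, nat_lit 2, nat_lit 3, nat_lit 8, nat_lit 0, nat_lit 1, nat_lit 2, nat_lit 3, nat_lit 4, nat_lit 5, nat_lit 6, nat_lit 7, nat_lit 5, nat_lit 4, nat_lit 2, nat_lit 3, nat_lit 8, nat_lit 1, nat_lit 2, nat_lit 3, nat_lit 4, nat_lit 5, nat_lit 1, nat_lit 8, nat_lit 3, nat_lit 2, nat_lit 0, nat_lit 1, nat_lit 4, nat_lit 3, nat_lit 2, nat_lit 8, nat_lit 3, nat_lit 11, nat_lit 10, nat_lit 16, nat_lit 12, nat_lit 15, nat_lit 14, nat_lit 12, nat_lit 19] (Rl.cmp (nat_lit 4605) (nat_lit 4605)))) (FT.leaf (Fct.mk false (nat_lit 33) (nat_lit 0) (nat_lit 33) [nat_lit 4, nat_lit 1, nat_lit 2, nat_lit 3, nat_lit 8, nat_lit 0, nat_lit 1, nat_lit 2, nat_lit 3, nat_lit 4, nat_lit 5, nat_lit 6,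 nat_lit 7, nat_lit 8, nat_lit 5, nat_lit 3, nat_lit 4, nat_lit 1, nat_lit 2, nat_lit 3, nat_lit 8, nat_lit 0, nat_lit 1, nat_lit 2, nat_lit 3, nat_lit 4, nat_lit 5, nat_lit 10, nat_lit 12, nat_lit 8, nat_lit 16, nat_lit 14, nat_lit 13, nat_lit 19, nat_lit 16] (Rl.cmp (nat_lit 4456) (nat_lit 5446))))) (FT.node (nat_lit 5449) (FT.leaf (Fct.mk false (nat_lit 33) (nat_lit 0) (nat_lit 33) [nat_lit 8, nat_lit 7, nat_lit 6, nat_lit 4, nat_lit 5, nat_lit 3, nat_lit 4, nat_lit 2, nat_lit 3, nat_lit 8, nat_lit 1, nat_lit 2, nat_lit 3, nat_lit 4, nat_lit 5, nat_lit 6, nat_lit 7, nat_lit 6, nat_lit 5, nat_lit 3, nat_lit 4, nat_lit 2, nat_lit 3, nat_lit 8, nat_lit 0, nat_lit 1, nat_lit 2, nat_lit 3, nat_lit 4, nat_lit 5, nat_lit 4, nat_lit 8, nat_lit 10, nat_lit 9, nat_lit 2, nat_lit 12, nat_lit 15, nat_lit 8, nat_lit 19, nat_lit 16] (Rl.cmp (nat_lit 4456)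 (nat_lit 5447)))) (FT.leaf (Fct.mk false (nat_lit 33) (nat_lit 0) (nat_lit 33) [nat_lit 8, nat_lit 7, nat_lit 5, nat_lit 6, nat_lit 4, nat_lit 5, nat_lit 3, nat_lit 4, nat_lit 1, nat_lit 2, nat_lit 3, nat_lit 8, nat_lit 0, nat_lit 1, nat_lit 2, nat_lit 3, nat_lit 4, nat_lit 5, nat_lit 6, nat_lit 7, nat_lit 5, nat_lit 6, nat_lit 3, nat_lit 4, nat_lit 5, nat_lit 2, nat_lit 3, nat_lit 4, nat_lit 1, nat_lit 2, nat_lit 3, nat_lit 8, nat_lit 0, nat_lit 1, nat_lit 2, nat_lit 3, nat_lit 4, nat_lit 5, nat_lit 1, nat_lit 3, nat_lit 2, nat_lit 0, nat_lit 1, nat_lit 4, nat_lit 3, nat_lit 2, nat_lit 8, nat_lit 3, nat_lit 11, nat_lit 8, nat_lit 10, nat_lit 12, nat_lit 15, nat_lit 14, nat_lit 12] (Rl.cmp (nat_lit 4456) (nat_lit 5448)))))))))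

/-- some facts -/
noncomputable def ftc109 : FT := FT.node (nat_lit 5475) (FT.node (nat_lit 5462) (FT.node (nat_lit 5456) (FT.node (nat_lit 5453) (FT.node (nat_lit 5451) (FT.leaf (Fct.mk false (nat_lit 33) (nat_lit 0) (nat_lit 33) [nat_lit 6, nat_lit 7, nat_lit 5, nat_lit 6, nat_lit 3, nat_lit 4, nat_lit 5, nat_lit 2, nat_lit 3, nat_lit 4, nat_lit 1, nat_lit 2, nat_lit 3, nat_lit 8, nat_lit 0, nat_lit 1, nat_lit 2, nat_lit 3, nat_lit 4, nat_lit 5, nat_lit 6, nat_lit 7, nat_lit 8, nat_lit 5, nat_lit 6, nat_lit 4, nat_lit 5, nat_lit 3, nat_lit 4, nat_lit 1, nat_lit 2, nat_lit 3, nat_lit 8, nat_lit 0, nat_lit 1, nat_lit 2, nat_lit 3, nat_lit 4, nat_lit 5, nat_lit 4, nat_lit 3, nat_lit 2, nat_lit 0, nat_lit 1, nat_lit 9, nat_lit 4, nat_lit 3, nat_lit 2, nat_lit 8, nat_lit 3, nat_lit 10, nat_lit 9, nat_lit 2, nat_lit 8, nat_lit 12, nat_lit 15,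 nat_lit 17, nat_lit 16] (Rl.cmp (nat_lit 4605) (nat_lit 5075)))) (FT.node (nat_lit 5452) (FT.leaf (Fct.mk false (nat_lit 33) (nat_lit 0) (nat_lit 33) [nat_lit 8, nat_lit 5, nat_lit 6, nat_lit 4, nat_lit 5, nat_lit 2, nat_lit 3, nat_lit 4, nat_lit 1, nat_lit 2, nat_lit 3, nat_lit 8, nat_lit 0, nat_lit 1, nat_lit 2, nat_lit 3, nat_lit 4, nat_lit 5, nat_lit 6, nat_lit 7, nat_lit 2, nat_lit 3, nat_lit 8, nat_lit 5, nat_lit 6, nat_lit 4, nat_lit 5, nat_lit 3, nat_lit 4, nat_lit 2, nat_lit 3, nat_lit 8, nat_lit 1, nat_lit 2, nat_lit 3, nat_lit 4, nat_lit 5, nat_lit 1, nat_lit 3, nat_lit 2, nat_lit 0, nat_lit 1, nat_lit 4, nat_lit 3, nat_lit 2, nat_lit 8, nat_lit 3, nat_lit 11, nat_lit 10, nat_lit 8, nat_lit 16, nat_lit 15, nat_lit 14, nat_lit 8, nat_lit 19] (Rl.cmp (nat_lit 4456) (nat_lit 5450)))) (FT.leaf (Fct.mk false (nat_lit 33) (nat_lit 0) (nat_lit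 33) [nat_lit 8, nat_lit 5, nat_lit 2, nat_lit 3, nat_lit 4, nat_lit 1, nat_lit 2, nat_lit 3, nat_lit 8, nat_lit 6, nat_lit 7, nat_lit 5, nat_lit 6, nat_lit 4, nat_lit 5, nat_lit 3, nat_lit 4, nat_lit 2, nat_lit 3, nat_lit 8, nat_lit 1, nat_lit 2, nat_lit 3, nat_lit 4, nat_lit 5, nat_lit 6, nat_lit 7, nat_lit 8, nat_lit 5, nat_lit 3, nat_lit 4, nat_lit 2, nat_lit 3, nat_lit 8, nat_lit 1, nat_lit 2, nat_lit 3, nat_lit 4, nat_lit 5, nat_lit 0, nat_lit 1, nat_lit 3, nat_lit 2, nat_lit 8, nat_lit 3, nat_lit 11, nat_lit 10, nat_lit 16, nat_lit 8, nat_lit 12, nat_lit 15, nat_lit 12] (Rl.cmp (nat_lit 4456) (nat_lit 5451)))))) (FT.node (nat_lit 5454) (FT.leaf (Fct.mk true (nat_lit 33) (nat_lit 103367) (nat_lit 33) [nat_lit 7, nat_lit 6, nat_lit 4, nat_lit 5, nat_lit 3, nat_lit 4, nat_lit 2, nat_lit 3, nat_lit 8, nat_lit 0, nat_lit 1, nat_lit 2, nat_lit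 3, nat_lit 4, nat_lit 5, nat_lit 6, nat_lit 7, nat_lit 0, nat_lit 1, nat_lit 2, nat_lit 8, nat_lit 3, nat_lit 9, nat_lit 8, nat_lit 12, nat_lit 15, nat_lit 14, nat_lit 17, nat_lit 12, nat_lit 18, nat_lit 16] (Rl.rel (nat_lit 0) [nat_lit 8, nat_lit 5, nat_lit 6, nat_lit 4, nat_lit 5, nat_lit 3, nat_lit 4, nat_lit 1, nat_lit 2, nat_lit 3, nat_lit 8, nat_lit 0, nat_lit 1, nat_lit 2, nat_lit 3, nat_lit 4, nat_lit 5, nat_lit 6, nat_lit 7, nat_lit 3, nat_lit 8, nat_lit 2, nat_lit 3, nat_lit 4, nat_lit 1, nat_lit 2, nat_lit 3, nat_lit 8, nat_lit 0, nat_lit 1, nat_lit 2, nat_lit 3, nat_lit 4, nat_lit 5, nat_lit 4, nat_lit 3, nat_lit 2, nat_lit 8, nat_lit 3, nat_lit 10, nat_lit 12, nat_lit 15, nat_lit 14, nat_lit 19] (nat_lit 33) (nat_lit 1) [nat_lit 5357] [nat_lit 5452, nat_lit 5079]))) (FT.node (nat_lit 5455) (FT.leaf (Fct.mk true (nat_lit 33) (nat_lit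 31) (nat_lit 33) [nat_lit 7, nat_lit 6, nat_lit 5, nat_lit 4, nat_lit 3, nat_lit 8, nat_lit 1, nat_lit 2, nat_lit 3, nat_lit 4, nat_lit 5, nat_lit 1, nat_lit 4, nat_lit 3, nat_lit 2, nat_lit 8, nat_lit 3, nat_lit 10, nat_lit 12, nat_lit 8, nat_lit 16, nat_lit 14, nat_lit 8, nat_lit 18, nat_lit 16] (Rl.t1 (nat_lit 5453) (nat_lit 5449)))) (FT.leaf (Fct.mk false (nat_lit 33) (nat_lit 0) (nat_lit 33) [nat_lit 5, nat_lit 2, nat_lit 3, nat_lit 4, nat_lit 1, nat_lit 2, nat_lit 3, nat_lit 8, nat_lit 0, nat_lit 1, nat_lit 2, nat_lit 3, nat_lit 4, nat_lit 5, nat_lit 6, nat_lit 7, nat_lit 8, nat_lit 6, nat_lit 4, nat_lit 5, nat_lit 3, nat_lit 4, nat_lit 1, nat_lit 2, nat_lit 3, nat_lit 8, nat_lit 0, nat_lit 1, nat_lit 2, nat_lit 3, nat_lit 4, nat_lit 5, nat_lit 2, nat_lit 1, nat_lit 9, nat_lit 4, nat_lit 3, nat_lit 2, nat_lit 8, nat_lit 3, nat_lit 1,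 nat_lit 0, nat_lit 2, nat_lit 16, nat_lit 15, nat_lit 14, nat_lit 18, nat_lit 16] (Rl.cmp (nat_lit 4605) (nat_lit 4456))))))) (FT.node (nat_lit 5459) (FT.node (nat_lit 5457) (FT.leaf (Fct.mk false (nat_lit 33) (nat_lit 0) (nat_lit 33) [nat_lit 8, nat_lit 2, nat_lit 3, nat_lit 4, nat_lit 1, nat_lit 2, nat_lit 3, nat_lit 8, nat_lit 6, nat_lit 7, nat_lit 5, nat_lit 6, nat_lit 4, nat_lit 5, nat_lit 3, nat_lit 4, nat_lit 2, nat_lit 3, nat_lit 8, nat_lit 1, nat_lit 2, nat_lit 3, nat_lit 4, nat_lit 5, nat_lit 6, nat_lit 7, nat_lit 5, nat_lit 4, nat_lit 2, nat_lit 3, nat_lit 8, nat_lit 0, nat_lit 1, nat_lit 2, nat_lit 3, nat_lit 4, nat_lit 5, nat_lit 3, nat_lit 2, nat_lit 0, nat_lit 1, nat_lit 4, nat_lit 3, nat_lit 2, nat_lit 8, nat_lit 3, nat_lit 10, nat_lit 8, nat_lit 12, nat_lit 15, nat_lit 12, nat_lit 18, nat_lit 16] (Rl.cmp (nat_lit 4456) (nat_lit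 5350)))) (FT.node (nat_lit 5458) (FT.leaf (Fct.mk false (nat_lit 33) (nat_lit 0) (nat_lit 33) [nat_lit 4, nat_lit 1, nat_lit 2, nat_lit 3, nat_lit 8, nat_lit 5, nat_lit 6, nat_lit 4, nat_lit 5, nat_lit 3, nat_lit 4, nat_lit 2, nat_lit 3, nat_lit 8, nat_lit 1, nat_lit 2, nat_lit 3, nat_lit 4, nat_lit 5, nat_lit 6, nat_lit 7, nat_lit 3, nat_lit 4, nat_lit 1, nat_lit 2, nat_lit 3, nat_lit 8, nat_lit 0, nat_lit 1, nat_lit 2, nat_lit 3, nat_lit 4, nat_lit 5, nat_lit 3, nat_lit 2, nat_lit 1, nat_lit 9, nat_lit 4, nat_lit 3, nat_lit 2, nat_lit 8, nat_lit 3, nat_lit 1, nat_lit 9, nat_lit 15, nat_lit 14, nat_lit 17, nat_lit 12, nat_lit 18] (Rl.cmp (nat_lit 4402) (nat_lit 5456)))) (FT.leaf (Fct.mk false (nat_lit 33) (nat_lit 0) (nat_lit 33) [nat_lit 3, nat_lit 8, nat_lit 6, nat_lit 7, nat_lit 5, nat_lit 6, nat_lit 4, nat_lit 5, nat_lit 3, nat_lit 4,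 nat_lit 1, nat_lit 2, nat_lit 3, nat_lit 8, nat_lit 0, nat_lit 1, nat_lit 2, nat_lit 3, nat_lit 4, nat_lit 5, nat_lit 6, nat_lit 7, nat_lit 5, nat_lit 6, nat_lit 4, nat_lit 5, nat_lit 2, nat_lit 3, nat_lit 4, nat_lit 1, nat_lit 2, nat_lit 3, nat_lit 8, nat_lit 0, nat_lit 1, nat_lit 2, nat_lit 3, nat_lit 4, nat_lit 5, nat_lit 2, nat_lit 1, nat_lit 8, nat_lit 3, nat_lit 2, nat_lit 0, nat_lit 1, nat_lit 4, nat_lit 3, nat_lit 2, nat_lit 8, nat_lit 3, nat_lit 10, nat_lit 0, nat_lit 8, nat_lit 16, nat_lit 14, nat_lit 16] (Rl.cmp (nat_lit 4605) (nat_lit 5457)))))) (FT.node (nat_lit 5460) (FT.leaf (Fct.mk false (nat_lit 33) (nat_lit 0) (nat_lit 33) [nat_lit 8, nat_lit 6, nat_lit 7, nat_lit 5, nat_lit 6, nat_lit 4, nat_lit 5, nat_lit 3, nat_lit 4, nat_lit 2, nat_lit 3, nat_lit 8, nat_lit 0, nat_lit 1, nat_lit 2, nat_lit 3, nat_lit 4, nat_lit 5, nat_lit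 6, nat_lit 7, nat_lit 6, nat_lit 5, nat_lit 4, nat_lit 3, nat_lit 8, nat_lit 2, nat_lit 3, nat_lit 4, nat_lit 5, nat_lit 4, nat_lit 3, nat_lit 2, nat_lit 8, nat_lit 3, nat_lit 11, nat_lit 10, nat_lit 2, nat_lit 8, nat_lit 10, nat_lit 1, nat_lit 16, nat_lit 14, nat_lit 17, nat_lit 12, nat_lit 16] (Rl.cmp (nat_lit 4402) (nat_lit 5458)))) (FT.node (nat_lit 5461) (FT.leaf (Fct.mk false (nat_lit 33) (nat_lit 0) (nat_lit 33) [nat_lit 4, nat_lit 3, nat_lit 8, nat_lit 2, nat_lit 3, nat_lit 4, nat_lit 1, nat_lit 2, nat_lit 3, nat_lit 8, nat_lit 0, nat_lit 1, nat_lit 2, nat_lit 3, nat_lit 4, nat_lit 5, nat_lit 6, nat_lit 7, nat_lit 6, nat_lit 4, nat_lit 5, nat_lit 2, nat_lit 3, nat_lit 4, nat_lit 1, nat_lit 2, nat_lit 3, nat_lit 8, nat_lit 0, nat_lit 1, nat_lit 2, nat_lit 3, nat_lit 4, nat_lit 5, nat_lit 8, nat_lit 3, nat_lit 2, nat_lit 1, nat_lit 9,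 nat_lit 4, nat_lit 3, nat_lit 2, nat_lit 8, nat_lit 3, nat_lit 2, nat_lit 14, nat_lit 13, nat_lit 19] (Rl.cmp (nat_lit 4605) (nat_lit 4402)))) (FT.leaf (Fct.mk false (nat_lit 33) (nat_lit 0) (nat_lit 33) [nat_lit 8, nat_lit 6, nat_lit 5, nat_lit 2, nat_lit 3, nat_lit 4, nat_lit 1, nat_lit 2, nat_lit 3, nat_lit 8, nat_lit 0, nat_lit 1, nat_lit 2, nat_lit 3, nat_lit 4, nat_lit 5, nat_lit 6, nat_lit 7, nat_lit 8, nat_lit 3, nat_lit 4, nat_lit 1, nat_lit 2, nat_lit 3, nat_lit 8, nat_lit 5, nat_lit 6, nat_lit 4, nat_lit 5, nat_lit 3, nat_lit 4, nat_lit 2, nat_lit 3, nat_lit 8, nat_lit 1, nat_lit 2, nat_lit 3, nat_lit 4, nat_lit 5, nat_lit 2, nat_lit 0, nat_lit 1, nat_lit 9, nat_lit 4, nat_lit 3, nat_lit 2, nat_lit 8, nat_lit 3, nat_lit 11, nat_lit 9, nat_lit 10, nat_lit 2, nat_lit 8, nat_lit 10, nat_lit 1, nat_lit 17, nat_lit 12, nat_lit 19, nat_lit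 16] (Rl.cmp (nat_lit 4402) (nat_lit 5460)))))))) (FT.node (nat_lit 5468) (FT.node (nat_lit 5465) (FT.node (nat_lit 5463) (FT.leaf (Fct.mk false (nat_lit 33) (nat_lit 0) (nat_lit 33) [nat_lit 6, nat_lit 5, nat_lit 2, nat_lit 3, nat_lit 4, nat_lit 1, nat_lit 2, nat_lit 3, nat_lit 8, nat_lit 0, nat_lit 1, nat_lit 2, nat_lit 3, nat_lit 4, nat_lit 5, nat_lit 6, nat_lit 7, nat_lit 3, nat_lit 4, nat_lit 2, nat_lit 3, nat_lit 8, nat_lit 0, nat_lit 1, nat_lit 2, nat_lit 3, nat_lit 4, nat_lit 5, nat_lit 0, nat_lit 1, nat_lit 9, nat_lit 4, nat_lit 3, nat_lit 2, nat_lit 8, nat_lit 3, nat_lit 1, nat_lit 9, nat_lit 16, nat_lit 12, nat_lit 15, nat_lit 14, nat_lit 8, nat_lit 19] (Rl.cmp (nat_lit 4605) (nat_lit 5461)))) (FT.node (nat_lit 5464) (FT.leaf (Fct.mk true (nat_lit 33) (nat_lit 99040) (nat_lit 33) [nat_lit 8, nat_lit 3, nat_lit 4, nat_lit 2, nat_lit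 3, nat_lit 8, nat_lit 1, nat_lit 2, nat_lit 3, nat_lit 4, nat_lit 5, nat_lit 6, nat_lit 7, nat_lit 5, nat_lit 1, nat_lit 9, nat_lit 4, nat_lit 3, nat_lit 2, nat_lit 8, nat_lit 3, nat_lit 10, nat_lit 1, nat_lit 8, nat_lit 18] (Rl.rel (nat_lit 0) [nat_lit 8, nat_lit 5, nat_lit 6, nat_lit 4, nat_lit 5, nat_lit 3, nat_lit 4, nat_lit 1, nat_lit 2, nat_lit 3, nat_lit 8, nat_lit 0, nat_lit 1, nat_lit 2, nat_lit 3, nat_lit 4, nat_lit 5, nat_lit 6, nat_lit 7, nat_lit 3, nat_lit 8, nat_lit 2, nat_lit 3, nat_lit 4, nat_lit 1, nat_lit 2, nat_lit 3, nat_lit 8, nat_lit 0, nat_lit 1, nat_lit 2, nat_lit 3, nat_lit 4, nat_lit 5, nat_lit 1, nat_lit 4, nat_lit 3, nat_lit 2, nat_lit 8, nat_lit 3, nat_lit 10, nat_lit 0, nat_lit 12, nat_lit 15, nat_lit 14, nat_lit 19] (nat_lit 33) (nat_lit 2) [nat_lit 5357, nat_lit 5459, nat_lit 5357] []))) (FT.leaf (Fct.mk true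 (nat_lit 33) (nat_lit 310) (nat_lit 33) [nat_lit 4, nat_lit 2, nat_lit 3, nat_lit 8, nat_lit 5, nat_lit 6, nat_lit 4, nat_lit 5, nat_lit 3, nat_lit 4, nat_lit 2, nat_lit 3, nat_lit 8, nat_lit 0, nat_lit 1, nat_lit 2, nat_lit 3, nat_lit 4, nat_lit 5, nat_lit 6, nat_lit 7, nat_lit 4, nat_lit 3, nat_lit 8, nat_lit 1, nat_lit 2, nat_lit 3, nat_lit 4, nat_lit 5, nat_lit 2, nat_lit 3, nat_lit 8, nat_lit 4, nat_lit 3, nat_lit 2, nat_lit 1, nat_lit 9, nat_lit 4, nat_lit 3, nat_lit 2, nat_lit 8, nat_lit 3, nat_lit 11, nat_lit 10, nat_lit 2, nat_lit 8, nat_lit 10, nat_lit 1, nat_lit 12, nat_lit 15, nat_lit 13] (Rl.t1 (nat_lit 5463) (nat_lit 5462)))))) (FT.node (nat_lit 5466) (FT.leaf (Fct.mk false (nat_lit 33) (nat_lit 0) (nat_lit 33) [nat_lit 3, nat_lit 8, nat_lit 5, nat_lit 6, nat_lit 4, nat_lit 5, nat_lit 3, nat_lit 4, nat_lit 1, nat_lit 2, nat_lit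 3, nat_lit 8, nat_lit 0, nat_lit 1, nat_lit 2, nat_lit 3, nat_lit 4, nat_lit 5, nat_lit 6, nat_lit 7, nat_lit 2, nat_lit 3, nat_lit 4, nat_lit 1, nat_lit 2, nat_lit 3, nat_lit 8, nat_lit 5, nat_lit 6, nat_lit 4, nat_lit 5, nat_lit 3, nat_lit 4, nat_lit 2, nat_lit 3, nat_lit 8, nat_lit 1, nat_lit 2, nat_lit 3, nat_lit 4, nat_lit 5, nat_lit 3, nat_lit 2, nat_lit 1, nat_lit 4, nat_lit 3, nat_lit 2, nat_lit 8, nat_lit 3, nat_lit 9, nat_lit 2, nat_lit 8, nat_lit 12, nat_lit 15, nat_lit 13] (Rl.cmp (nat_lit 4605) (nat_lit 4400)))) (FT.node (nat_lit 5467) (FT.leaf (Fct.mk false (nat_lit 33) (nat_lit 0) (nat_lit 33) [nat_lit 3, nat_lit 4, nat_lit 5, nat_lit 2, nat_lit 3, nat_lit 4, nat_lit 1, nat_lit 2, nat_lit 3, nat_lit 8, nat_lit 0, nat_lit 1, nat_lit 2, nat_lit 3, nat_lit 4, nat_lit 5, nat_lit 6, nat_lit 7, nat_lit 5, nat_lit 4, nat_lit 2, nat_lit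 3, nat_lit 8, nat_lit 1, nat_lit 2, nat_lit 3, nat_lit 4, nat_lit 5, nat_lit 1, nat_lit 8, nat_lit 3, nat_lit 2, nat_lit 0, nat_lit 1, nat_lit 4, nat_lit 3, nat_lit 2, nat_lit 8, nat_lit 3, nat_lit 11, nat_lit 10, nat_lit 16, nat_lit 12, nat_lit 15, nat_lit 14, nat_lit 12, nat_lit 19] (Rl.cmp (nat_lit 4605) (nat_lit 4605)))) (FT.leaf (Fct.mk false (nat_lit 33) (nat_lit 0) (nat_lit 33) [nat_lit 4, nat_lit 3, nat_lit 8, nat_lit 2, nat_lit 3, nat_lit 4, nat_lit 1, nat_lit 2, nat_lit 3, nat_lit 8, nat_lit 0, nat_lit 1, nat_lit 2, nat_lit 3, nat_lit 4, nat_lit 5, nat_lit 6, nat_lit 7, nat_lit 6, nat_lit 4, nat_lit 5, nat_lit 2, nat_lit 3, nat_lit 4, nat_lit 1, nat_lit 2, nat_lit 3, nat_lit 8, nat_lit 0, nat_lit 1, nat_lit 2, nat_lit 3, nat_lit 4, nat_lit 5, nat_lit 8, nat_lit 3, nat_lit 2, nat_lit 1, nat_lit 9, nat_lit 4, nat_lit 3, nat_lit 2, nat_lit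 8, nat_lit 3, nat_lit 2, nat_lit 14, nat_lit 13, nat_lit 19] (Rl.cmp (nat_lit 4605) (nat_lit 4402))))))) (FT.node (nat_lit 5471) (FT.node (nat_lit 5469) (FT.leaf (Fct.mk false (nat_lit 33) (nat_lit 0) (nat_lit 33) [nat_lit 3, nat_lit 4, nat_lit 5, nat_lit 2, nat_lit 3, nat_lit 4, nat_lit 1, nat_lit 2, nat_lit 3, nat_lit 8, nat_lit 0, nat_lit 1, nat_lit 2, nat_lit 3, nat_lit 4, nat_lit 5, nat_lit 6, nat_lit 7, nat_lit 5, nat_lit 4, nat_lit 2, nat_lit 3, nat_lit 8, nat_lit 1, nat_lit 2, nat_lit 3, nat_lit 4, nat_lit 5, nat_lit 1, nat_lit 8, nat_lit 3, nat_lit 2, nat_lit 0, nat_lit 1, nat_lit 4, nat_lit 3, nat_lit 2, nat_lit 8, nat_lit 3, nat_lit 11, nat_lit 10, nat_lit 16, nat_lit 12, nat_lit 15, nat_lit 14, nat_lit 12, nat_lit 19] (Rl.cmp (nat_lit 4605) (nat_lit 4605)))) (FT.node (nat_lit 5470) (FT.leaf (Fct.mk false (nat_lit 33) (nat_lit 0)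 (nat_lit 33) [nat_lit 4, nat_lit 1, nat_lit 2, nat_lit 3, nat_lit 8, nat_lit 0, nat_lit 1, nat_lit 2, nat_lit 3, nat_lit 4, nat_lit 5, nat_lit 6, nat_lit 7, nat_lit 8, nat_lit 5, nat_lit 3, nat_lit 4, nat_lit 1, nat_lit 2, nat_lit 3, nat_lit 8, nat_lit 0, nat_lit 1, nat_lit 2, nat_lit 3, nat_lit 4, nat_lit 5, nat_lit 10, nat_lit 12, nat_lit 8, nat_lit 16, nat_lit 14, nat_lit 13, nat_lit 19, nat_lit 16] (Rl.cmp (nat_lit 4456) (nat_lit 5468)))) (FT.leaf (Fct.mk false (nat_lit 33) (nat_lit 0) (nat_lit 33) [nat_lit 4, nat_lit 1, nat_lit 2, nat_lit 3, nat_lit 8, nat_lit 7, nat_lit 5, nat_lit 6, nat_lit 4, nat_lit 5, nat_lit 3, nat_lit 4, nat_lit 2, nat_lit 3, nat_lit 8, nat_lit 1, nat_lit 2, nat_lit 3, nat_lit 4, nat_lit 5, nat_lit 6, nat_lit 7, nat_lit 5, nat_lit 6, nat_lit 4, nat_lit 5, nat_lit 3, nat_lit 4, nat_lit 1, nat_lit 2, nat_lit 3, nat_lit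 8, nat_lit 0, nat_lit 1, nat_lit 2, nat_lit 3, nat_lit 4, nat_lit 5, nat_lit 4, nat_lit 3, nat_lit 2, nat_lit 0, nat_lit 1, nat_lit 9, nat_lit 4, nat_lit 3, nat_lit 2, nat_lit 8, nat_lit 3, nat_lit 11, nat_lit 2, nat_lit 8, nat_lit 10, nat_lit 1, nat_lit 16, nat_lit 15, nat_lit 14, nat_lit 8, nat_lit 19] (Rl.cmp (nat_lit 4605) (nat_lit 5469)))))) (FT.node (nat_lit 5473) (FT.node (nat_lit 5472) (FT.leaf (Fct.mk false (nat_lit 33) (nat_lit 0) (nat_lit 33) [nat_lit 2, nat_lit 3, nat_lit 8, nat_lit 1, nat_lit 2, nat_lit 3, nat_lit 4, nat_lit 5, nat_lit 6, nat_lit 7, nat_lit 2, nat_lit 3, nat_lit 8, nat_lit 0, nat_lit 1, nat_lit 2, nat_lit 3, nat_lit 4, nat_lit 5, nat_lit 3, nat_lit 2, nat_lit 1, nat_lit 9, nat_lit 4, nat_lit 3, nat_lit 2, nat_lit 8, nat_lit 3, nat_lit 0, nat_lit 14, nat_lit 8, nat_lit 18] (Rl.cmp (nat_lit 4456) (nat_lit 4400))))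 (FT.leaf (Fct.mk false (nat_lit 33) (nat_lit 0) (nat_lit 33) [nat_lit 104] (Rl.cmp (nat_lit 4400) (nat_lit 5471))))) (FT.node (nat_lit 5474) (FT.leaf (Fct.mk true (nat_lit 33) (nat_lit 13958) (nat_lit 33) [nat_lit 8, nat_lit 2, nat_lit 3, nat_lit 4, nat_lit 1, nat_lit 2, nat_lit 3, nat_lit 8, nat_lit 0, nat_lit 1, nat_lit 2, nat_lit 3, nat_lit 4, nat_lit 5, nat_lit 6, nat_lit 7, nat_lit 8, nat_lit 3, nat_lit 4, nat_lit 2, nat_lit 3, nat_lit 8, nat_lit 5, nat_lit 6, nat_lit 4, nat_lit 5, nat_lit 3, nat_lit 4, nat_lit 2, nat_lit 3, nat_lit 8, nat_lit 1, nat_lit 2, nat_lit 3, nat_lit 4, nat_lit 5, nat_lit 4, nat_lit 3, nat_lit 2, nat_lit 1, nat_lit 8, nat_lit 3, nat_lit 2, nat_lit 0, nat_lit 1, nat_lit 4, nat_lit 3, nat_lit 2, nat_lit 8, nat_lit 3, nat_lit 11, nat_lit 12, nat_lit 15, nat_lit 14, nat_lit 8, nat_lit 19] (Rl.rel (nat_lit 0) [nat_lit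 8, nat_lit 3, nat_lit 4, nat_lit 5, nat_lit 6, nat_lit 7, nat_lit 8, nat_lit 2, nat_lit 3, nat_lit 4, nat_lit 5, nat_lit 2, nat_lit 1, nat_lit 8, nat_lit 3, nat_lit 2, nat_lit 0, nat_lit 1, nat_lit 4, nat_lit 3, nat_lit 2, nat_lit 8, nat_lit 3, nat_lit 10, nat_lit 1, nat_lit 15, nat_lit 14, nat_lit 8] (nat_lit 33) (nat_lit 2) [nat_lit 5464, nat_lit 5470, nat_lit 5400] []))) (FT.leaf (Fct.mk true (nat_lit 33) (nat_lit 189) (nat_lit 33) [nat_lit 8, nat_lit 3, nat_lit 4, nat_lit 1, nat_lit 2, nat_lit 3, nat_lit 8, nat_lit 7, nat_lit 5, nat_lit 6, nat_lit 4, nat_lit 5, nat_lit 3, nat_lit 4, nat_lit 2, nat_lit 3, nat_lit 8, nat_lit 1, nat_lit 2, nat_lit 3, nat_lit 4, nat_lit 5, nat_lit 6, nat_lit 7, nat_lit 6, nat_lit 5, nat_lit 4, nat_lit 3, nat_lit 8, nat_lit 2, nat_lit 3, nat_lit 4, nat_lit 5, nat_lit 3, nat_lit 2, nat_lit 1, nat_lit 4, nat_lit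 3, nat_lit 2, nat_lit 0, nat_lit 1, nat_lit 9, nat_lit 4, nat_lit 3, nat_lit 2, nat_lit 8, nat_lit 3, nat_lit 10, nat_lit 9, nat_lit 2, nat_lit 15, nat_lit 14, nat_lit 17] (Rl.t1 (nat_lit 5473) (nat_lit 5472))))))))) (FT.node (nat_lit 5487) (FT.node (nat_lit 5481) (FT.node (nat_lit 5478) (FT.node (nat_lit 5476) (FT.leaf (Fct.mk false (nat_lit 33) (nat_lit 0) (nat_lit 33) [nat_lit 2, nat_lit 3, nat_lit 8, nat_lit 1, nat_lit 2, nat_lit 3, nat_lit 4, nat_lit 5, nat_lit 6, nat_lit 7, nat_lit 2, nat_lit 3, nat_lit 8, nat_lit 0, nat_lit 1, nat_lit 2, nat_lit 3, nat_lit 4, nat_lit 5, nat_lit 3, nat_lit 2, nat_lit 1, nat_lit 9, nat_lit 4, nat_lit 3, nat_lit 2, nat_lit 8, nat_lit 3, nat_lit 0, nat_lit 14, nat_lit 8, nat_lit 18] (Rl.cmp (nat_lit 4456) (nat_lit 4400)))) (FT.node (nat_lit 5477) (FT.leaf (Fct.mk false (nat_lit 33) (nat_lit 0) (nat_lit 33)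 [nat_lit 3, nat_lit 8, nat_lit 5, nat_lit 6, nat_lit 4, nat_lit 5, nat_lit 3, nat_lit 4, nat_lit 1, nat_lit 2, nat_lit 3, nat_lit 8, nat_lit 0, nat_lit 1, nat_lit 2, nat_lit 3, nat_lit 4, nat_lit 5, nat_lit 6, nat_lit 7, nat_lit 2, nat_lit 3, nat_lit 4, nat_lit 1, nat_lit 2, nat_lit 3, nat_lit 8, nat_lit 5, nat_lit 6, nat_lit 4, nat_lit 5, nat_lit 3, nat_lit 4, nat_lit 2, nat_lit 3, nat_lit 8, nat_lit 1, nat_lit 2, nat_lit 3, nat_lit 4, nat_lit 5, nat_lit 3, nat_lit 2, nat_lit 1, nat_lit 4, nat_lit 3, nat_lit 2, nat_lit 8, nat_lit 3, nat_lit 9, nat_lit 2, nat_lit 8, nat_lit 12, nat_lit 15, nat_lit 13] (Rl.cmp (nat_lit 4605) (nat_lit 4400)))) (FT.leaf (Fct.mk false (nat_lit 33) (nat_lit 0) (nat_lit 33) [nat_lit 2, nat_lit 3, nat_lit 8, nat_lit 5, nat_lit 6, nat_lit 4, nat_lit 5, nat_lit 3, nat_lit 4, nat_lit 2, nat_lit 3, nat_lit 8, nat_lit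 0, nat_lit 1, nat_lit 2, nat_lit 3, nat_lit 4, nat_lit 5, nat_lit 6, nat_lit 7, nat_lit 8, nat_lit 3, nat_lit 4, nat_lit 1, nat_lit 2, nat_lit 3, nat_lit 8, nat_lit 0, nat_lit 1, nat_lit 2, nat_lit 3, nat_lit 4, nat_lit 5, nat_lit 3, nat_lit 2, nat_lit 1, nat_lit 9, nat_lit 4, nat_lit 3, nat_lit 2, nat_lit 8, nat_lit 3, nat_lit 11, nat_lit 10, nat_lit 2, nat_lit 8, nat_lit 10, nat_lit 1, nat_lit 12, nat_lit 15, nat_lit 19] (Rl.cmp (nat_lit 4400) (nat_lit 5465)))))) (FT.node (nat_lit 5479) (FT.leaf (Fct.mk false (nat_lit 33) (nat_lit 0) (nat_lit 33) [nat_lit 2, nat_lit 3, nat_lit 8, nat_lit 1, nat_lit 2, nat_lit 3, nat_lit 4, nat_lit 5, nat_lit 6, nat_lit 7, nat_lit 2, nat_lit 3, nat_lit 8, nat_lit 0, nat_lit 1, nat_lit 2, nat_lit 3, nat_lit 4, nat_lit 5, nat_lit 3, nat_lit 2, nat_lit 1, nat_lit 9, nat_lit 4, nat_lit 3, nat_lit 2, nat_lit 8,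 nat_lit 3, nat_lit 0, nat_lit 14, nat_lit 8, nat_lit 18] (Rl.cmp (nat_lit 4456) (nat_lit 4400)))) (FT.node (nat_lit 5480) (FT.leaf (Fct.mk false (nat_lit 33) (nat_lit 0) (nat_lit 33) [nat_lit 3, nat_lit 8, nat_lit 7, nat_lit 5, nat_lit 6, nat_lit 4, nat_lit 5, nat_lit 3, nat_lit 4, nat_lit 2, nat_lit 3, nat_lit 8, nat_lit 1, nat_lit 2, nat_lit 3, nat_lit 4, nat_lit 5, nat_lit 6, nat_lit 7, nat_lit 8, nat_lit 4, nat_lit 5, nat_lit 3, nat_lit 4, nat_lit 2, nat_lit 3, nat_lit 8, nat_lit 1, nat_lit 2, nat_lit 3, nat_lit 4, nat_lit 5, nat_lit 2, nat_lit 1, nat_lit 4, nat_lit 3, nat_lit 2, nat_lit 8, nat_lit 3, nat_lit 0, nat_lit 2, nat_lit 8, nat_lit 12, nat_lit 15, nat_lit 14, nat_lit 8] (Rl.cmp (nat_lit 4456) (nat_lit 5478)))) (FT.leaf (Fct.mk false (nat_lit 33) (nat_lit 0) (nat_lit 33) [nat_lit 2, nat_lit 3, nat_lit 8, nat_lit 1, nat_lit 2, nat_lit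 3, nat_lit 4, nat_lit 5, nat_lit 6, nat_lit 7, nat_lit 2, nat_lit 3, nat_lit 8, nat_lit 0, nat_lit 1, nat_lit 2, nat_lit 3, nat_lit 4, nat_lit 5, nat_lit 3, nat_lit 2, nat_lit 1, nat_lit 9, nat_lit 4, nat_lit 3, nat_lit 2, nat_lit 8, nat_lit 3, nat_lit 0, nat_lit 14, nat_lit 8, nat_lit 18] (Rl.cmp (nat_lit 4456) (nat_lit 4400))))))) (FT.node (nat_lit 5484) (FT.node (nat_lit 5482) (FT.leaf (Fct.mk false (nat_lit 33) (nat_lit 0) (nat_lit 33) [nat_lit 3, nat_lit 8, nat_lit 7, nat_lit 5, nat_lit 6, nat_lit 4, nat_lit 5, nat_lit 3, nat_lit 4, nat_lit 2, nat_lit 3, nat_lit 8, nat_lit 1, nat_lit 2, nat_lit 3, nat_lit 4, nat_lit 5, nat_lit 6, nat_lit 7, nat_lit 8, nat_lit 4, nat_lit 5, nat_lit 3, nat_lit 4, nat_lit 2, nat_lit 3, nat_lit 8, nat_lit 1, nat_lit 2, nat_lit 3, nat_lit 4, nat_lit 5, nat_lit 2, nat_lit 1, nat_lit 4, nat_lit 3, nat_lit 2,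 nat_lit 8, nat_lit 3, nat_lit 0, nat_lit 2, nat_lit 8, nat_lit 12, nat_lit 15, nat_lit 14, nat_lit 8] (Rl.cmp (nat_lit 4456) (nat_lit 5480)))) (FT.node (nat_lit 5483) (FT.leaf (Fct.mk false (nat_lit 33) (nat_lit 0) (nat_lit 33) [nat_lit 8, nat_lit 3, nat_lit 4, nat_lit 2, nat_lit 3, nat_lit 8, nat_lit 1, nat_lit 2, nat_lit 3, nat_lit 4, nat_lit 5, nat_lit 4, nat_lit 3, nat_lit 2, nat_lit 8, nat_lit 3, nat_lit 10, nat_lit 1, nat_lit 8, nat_lit 18] (Rl.cmp (nat_lit 4456) (nat_lit 5481)))) (FT.leaf (Fct.mk false (nat_lit 33) (nat_lit 0) (nat_lit 33) [nat_lit 7, nat_lit 5, nat_lit 6, nat_lit 4, nat_lit 5, nat_lit 3, nat_lit 4, nat_lit 2, nat_lit 3, nat_lit 8, nat_lit 1, nat_lit 2, nat_lit 3, nat_lit 4, nat_lit 5, nat_lit 6, nat_lit 7, nat_lit 5, nat_lit 6, nat_lit 4, nat_lit 5, nat_lit 3, nat_lit 4, nat_lit 2, nat_lit 3, nat_lit 8, nat_lit 1, nat_lit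 2, nat_lit 3, nat_lit 4, nat_lit 5, nat_lit 1, nat_lit 2, nat_lit 0, nat_lit 1, nat_lit 4, nat_lit 3, nat_lit 2, nat_lit 8, nat_lit 3, nat_lit 10, nat_lit 9, nat_lit 2, nat_lit 12, nat_lit 15, nat_lit 17, nat_lit 12, nat_lit 18] (Rl.cmp (nat_lit 4605) (nat_lit 5482)))))) (FT.node (nat_lit 5485) (FT.leaf (Fct.mk false (nat_lit 33) (nat_lit 0) (nat_lit 33) [nat_lit 2, nat_lit 3, nat_lit 4, nat_lit 5, nat_lit 6, nat_lit 7, nat_lit 3, nat_lit 4, nat_lit 1, nat_lit 2, nat_lit 3, nat_lit 8, nat_lit 5, nat_lit 6, nat_lit 4, nat_lit 5, nat_lit 3, nat_lit 4, nat_lit 2, nat_lit 3, nat_lit 8, nat_lit 1, nat_lit 2, nat_lit 3, nat_lit 4, nat_lit 5, nat_lit 4, nat_lit 3, nat_lit 2, nat_lit 0, nat_lit 1, nat_lit 9, nat_lit 4, nat_lit 3, nat_lit 2, nat_lit 8, nat_lit 3, nat_lit 10, nat_lit 1, nat_lit 16, nat_lit 15, nat_lit 14, nat_lit 16, nat_lit 8, nat_lit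 16] (Rl.cmp (nat_lit 4400) (nat_lit 5483)))) (FT.node (nat_lit 5486) (FT.leaf (Fct.mk true (nat_lit 33) (nat_lit 64420) (nat_lit 33) [nat_lit 7, nat_lit 6, nat_lit 4, nat_lit 5, nat_lit 3, nat_lit 4, nat_lit 2, nat_lit 3, nat_lit 8, nat_lit 0, nat_lit 1, nat_lit 2, nat_lit 3, nat_lit 4, nat_lit 5, nat_lit 6, nat_lit 7, nat_lit 3, nat_lit 8, nat_lit 5, nat_lit 6, nat_lit 4, nat_lit 5, nat_lit 3, nat_lit 4, nat_lit 2, nat_lit 3, nat_lit 8, nat_lit 1, nat_lit 2, nat_lit 3, nat_lit 4, nat_lit 5, nat_lit 1, nat_lit 8, nat_lit 3, nat_lit 2, nat_lit 0, nat_lit 1, nat_lit 9, nat_lit 4, nat_lit 3, nat_lit 2, nat_lit 8, nat_lit 3, nat_lit 2, nat_lit 10, nat_lit 1, nat_lit 14, nat_lit 12] (Rl.rel (nat_lit 0) [nat_lit 3, nat_lit 4, nat_lit 5, nat_lit 1, nat_lit 2, nat_lit 8, nat_lit 3, nat_lit 0, nat_lit 2, nat_lit 15, nat_lit 8, nat_lit 18] (nat_lit 33)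 (nat_lit 2) [nat_lit 5474, nat_lit 5479, nat_lit 5431] []))) (FT.leaf (Fct.mk true (nat_lit 33) (nat_lit 39) (nat_lit 33) [nat_lit 7, nat_lit 0, nat_lit 1, nat_lit 4, nat_lit 3, nat_lit 2, nat_lit 8, nat_lit 3, nat_lit 2, nat_lit 8, nat_lit 10, nat_lit 1, nat_lit 8, nat_lit 12, nat_lit 15, nat_lit 18] (Rl.t1 (nat_lit 5485) (nat_lit 5484)))))))) (FT.node (nat_lit 5493) (FT.node (nat_lit 5490) (FT.node (nat_lit 5488) (FT.leaf (Fct.mk false (nat_lit 33) (nat_lit 0) (nat_lit 33) [nat_lit 102] (Rl.cmp (nat_lit 4402) (nat_lit 4400)))) (FT.node (nat_lit 5489) (FT.leaf (Fct.mk false (nat_lit 33) (nat_lit 0) (nat_lit 33) [nat_lit 3, nat_lit 8, nat_lit 2, nat_lit 3, nat_lit 4, nat_lit 1, nat_lit 2, nat_lit 3, nat_lit 8, nat_lit 7, nat_lit 5, nat_lit 6, nat_lit 4, nat_lit 5, nat_lit 3, nat_lit 4, nat_lit 2, nat_lit 3, nat_lit 8, nat_lit 1, nat_lit 2,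 nat_lit 3, nat_lit 4, nat_lit 5, nat_lit 6, nat_lit 7, nat_lit 4, nat_lit 2, nat_lit 3, nat_lit 8, nat_lit 1, nat_lit 2, nat_lit 3, nat_lit 4, nat_lit 5, nat_lit 3, nat_lit 2, nat_lit 0, nat_lit 1, nat_lit 4, nat_lit 3, nat_lit 2, nat_lit 8, nat_lit 3, nat_lit 2, nat_lit 17, nat_lit 19, nat_lit 16] (Rl.cmp (nat_lit 4605) (nat_lit 5487)))) (FT.leaf (Fct.mk false (nat_lit 33) (nat_lit 0) (nat_lit 33) [nat_lit 8, nat_lit 5, nat_lit 3, nat_lit 4, nat_lit 2, nat_lit 3, nat_lit 8, nat_lit 1, nat_lit 2, nat_lit 3, nat_lit 4, nat_lit 5, nat_lit 6, nat_lit 7, nat_lit 3, nat_lit 8, nat_lit 2, nat_lit 3, nat_lit 4, nat_lit 1, nat_lit 2, nat_lit 3, nat_lit 8, nat_lit 0, nat_lit 1, nat_lit 2, nat_lit 3, nat_lit 4, nat_lit 5, nat_lit 2, nat_lit 1, nat_lit 3, nat_lit 2, nat_lit 8, nat_lit 3, nat_lit 8, nat_lit 10, nat_lit 1, nat_lit 12, nat_lit 15, nat_lit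 17, nat_lit 18] (Rl.cmp (nat_lit 4456) (nat_lit 5488)))))) (FT.node (nat_lit 5491) (FT.leaf (Fct.mk false (nat_lit 33) (nat_lit 0) (nat_lit 33) [nat_lit 5, nat_lit 4, nat_lit 3, nat_lit 8, nat_lit 2, nat_lit 3, nat_lit 4, nat_lit 1, nat_lit 2, nat_lit 3, nat_lit 8, nat_lit 7, nat_lit 5, nat_lit 6, nat_lit 4, nat_lit 5, nat_lit 3, nat_lit 4, nat_lit 2, nat_lit 3, nat_lit 8, nat_lit 1, nat_lit 2, nat_lit 3, nat_lit 4, nat_lit 5, nat_lit 6, nat_lit 7, nat_lit 8, nat_lit 4, nat_lit 5, nat_lit 3, nat_lit 4, nat_lit 1, nat_lit 2, nat_lit 3, nat_lit 8, nat_lit 0, nat_lit 1, nat_lit 2, nat_lit 3, nat_lit 4, nat_lit 5, nat_lit 1, nat_lit 2, nat_lit 8, nat_lit 3, nat_lit 11, nat_lit 10, nat_lit 2, nat_lit 8, nat_lit 10, nat_lit 1, nat_lit 15, nat_lit 14, nat_lit 13, nat_lit 19, nat_lit 16] (Rl.cmp (nat_lit 4402) (nat_lit 5489)))) (FT.node (nat_lit 5492)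 (FT.leaf (Fct.mk false (nat_lit 33) (nat_lit 0) (nat_lit 33) [nat_lit 4, nat_lit 3, nat_lit 8, nat_lit 0, nat_lit 1, nat_lit 2, nat_lit 3, nat_lit 4, nat_lit 5, nat_lit 1, nat_lit 2, nat_lit 3, nat_lit 8, nat_lit 10, nat_lit 0, nat_lit 8, nat_lit 12, nat_lit 15, nat_lit 12, nat_lit 18] (Rl.cmp (nat_lit 4605) (nat_lit 5490)))) (FT.leaf (Fct.mk false (nat_lit 33) (nat_lit 0) (nat_lit 33) [nat_lit 3, nat_lit 8, nat_lit 5, nat_lit 6, nat_lit 4, nat_lit 5, nat_lit 3, nat_lit 4, nat_lit 1, nat_lit 2, nat_lit 3, nat_lit 8, nat_lit 0, nat_lit 1, nat_lit 2, nat_lit 3, nat_lit 4, nat_lit 5, nat_lit 6, nat_lit 7, nat_lit 2, nat_lit 3, nat_lit 4, nat_lit 1, nat_lit 2, nat_lit 3, nat_lit 8, nat_lit 5, nat_lit 6, nat_lit 4, nat_lit 5, nat_lit 3, nat_lit 4, nat_lit 2, nat_lit 3, nat_lit 8, nat_lit 1, nat_lit 2, nat_lit 3, nat_lit 4, nat_lit 5, nat_lit 3,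 nat_lit 2, nat_lit 1, nat_lit 4, nat_lit 3, nat_lit 2, nat_lit 8, nat_lit 3, nat_lit 9, nat_lit 2, nat_lit 8, nat_lit 12, nat_lit 15, nat_lit 13] (Rl.cmp (nat_lit 4605) (nat_lit 4400))))))) (FT.node (nat_lit 5496) (FT.node (nat_lit 5494) (FT.leaf (Fct.mk false (nat_lit 33) (nat_lit 0) (nat_lit 33) [nat_lit 5, nat_lit 3, nat_lit 4, nat_lit 2, nat_lit 3, nat_lit 8, nat_lit 6, nat_lit 7, nat_lit 5, nat_lit 6, nat_lit 4, nat_lit 5, nat_lit 3, nat_lit 4, nat_lit 2, nat_lit 3, nat_lit 8, nat_lit 1, nat_lit 2, nat_lit 3, nat_lit 4, nat_lit 5, nat_lit 6, nat_lit 7, nat_lit 2, nat_lit 3, nat_lit 8, nat_lit 5, nat_lit 6, nat_lit 4, nat_lit 5, nat_lit 3, nat_lit 4, nat_lit 2, nat_lit 3, nat_lit 8, nat_lit 1, nat_lit 2, nat_lit 3, nat_lit 4, nat_lit 5, nat_lit 1, nat_lit 2, nat_lit 0, nat_lit 1, nat_lit 9, nat_lit 4, nat_lit 3, nat_lit 2, nat_lit 8, nat_lit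 3, nat_lit 11, nat_lit 1, nat_lit 17, nat_lit 12, nat_lit 18] (Rl.cmp (nat_lit 4605) (nat_lit 5492)))) (FT.node (nat_lit 5495) (FT.leaf (Fct.mk false (nat_lit 33) (nat_lit 0) (nat_lit 33) [nat_lit 5, nat_lit 6, nat_lit 4, nat_lit 5, nat_lit 3, nat_lit 4, nat_lit 2, nat_lit 3, nat_lit 8, nat_lit 1, nat_lit 2, nat_lit 3, nat_lit 4, nat_lit 5, nat_lit 6, nat_lit 7, nat_lit 6, nat_lit 5, nat_lit 4, nat_lit 3, nat_lit 8, nat_lit 2, nat_lit 3, nat_lit 4, nat_lit 1, nat_lit 2, nat_lit 3, nat_lit 8, nat_lit 5, nat_lit 6, nat_lit 4, nat_lit 5, nat_lit 3, nat_lit 4, nat_lit 2, nat_lit 3, nat_lit 8, nat_lit 1, nat_lit 2, nat_lit 3, nat_lit 4, nat_lit 5, nat_lit 1, nat_lit 8, nat_lit 4, nat_lit 3, nat_lit 2, nat_lit 0, nat_lit 1, nat_lit 9, nat_lit 4, nat_lit 3, nat_lit 2, nat_lit 8, nat_lit 3, nat_lit 11, nat_lit 2, nat_lit 8, nat_lit 10, nat_lit 1, nat_lit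 8, nat_lit 16, nat_lit 14, nat_lit 17, nat_lit 12, nat_lit 19] (Rl.cmp (nat_lit 4456) (nat_lit 5493)))) (FT.leaf (Fct.mk false (nat_lit 33) (nat_lit 0) (nat_lit 33) [nat_lit 3, nat_lit 8, nat_lit 6, nat_lit 7, nat_lit 5, nat_lit 6, nat_lit 4, nat_lit 5, nat_lit 3, nat_lit 4, nat_lit 2, nat_lit 3, nat_lit 8, nat_lit 0, nat_lit 1, nat_lit 2, nat_lit 3, nat_lit 4, nat_lit 5, nat_lit 6, nat_lit 7, nat_lit 3, nat_lit 4, nat_lit 2, nat_lit 3, nat_lit 8, nat_lit 0, nat_lit 1, nat_lit 2, nat_lit 3, nat_lit 4, nat_lit 5, nat_lit 4, nat_lit 3, nat_lit 2, nat_lit 1, nat_lit 8, nat_lit 3, nat_lit 2, nat_lit 0, nat_lit 1, nat_lit 4, nat_lit 3, nat_lit 2, nat_lit 8, nat_lit 3, nat_lit 11, nat_lit 8, nat_lit 10, nat_lit 15, nat_lit 12, nat_lit 16] (Rl.cmp (nat_lit 4456) (nat_lit 5494)))))) (FT.node (nat_lit 5498) (FT.node (nat_lit 5497) (FT.leaf (Fct.mk false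 (nat_lit 33) (nat_lit 0) (nat_lit 33) [nat_lit 4, nat_lit 5, nat_lit 3, nat_lit 4, nat_lit 2, nat_lit 3, nat_lit 8, nat_lit 6, nat_lit 7, nat_lit 5, nat_lit 6, nat_lit 4, nat_lit 5, nat_lit 3, nat_lit 4, nat_lit 2, nat_lit 3, nat_lit 8, nat_lit 0, nat_lit 1, nat_lit 2, nat_lit 3, nat_lit 4, nat_lit 5, nat_lit 6, nat_lit 7, nat_lit 6, nat_lit 3, nat_lit 4, nat_lit 5, nat_lit 2, nat_lit 3, nat_lit 4, nat_lit 1, nat_lit 2, nat_lit 3, nat_lit 8, nat_lit 0, nat_lit 1, nat_lit 2, nat_lit 3, nat_lit 4, nat_lit 5, nat_lit 2, nat_lit 3, nat_lit 8, nat_lit 4, nat_lit 3, nat_lit 2, nat_lit 0, nat_lit 1, nat_lit 9, nat_lit 4, nat_lit 3, nat_lit 2, nat_lit 8, nat_lit 3, nat_lit 1, nat_lit 9, nat_lit 12, nat_lit 15, nat_lit 13, nat_lit 12, nat_lit 18] (Rl.cmp (nat_lit 4400) (nat_lit 5495)))) (FT.leaf (Fct.mk true (nat_lit 32) (nat_lit 2131) (nat_lit 33)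 [nat_lit 7, nat_lit 6, nat_lit 5, nat_lit 3, nat_lit 4, nat_lit 2, nat_lit 3, nat_lit 8, nat_lit 1, nat_lit 2, nat_lit 3, nat_lit 4, nat_lit 5, nat_lit 6, nat_lit 7, nat_lit 8, nat_lit 2, nat_lit 3, nat_lit 4, nat_lit 1, nat_lit 2, nat_lit 3, nat_lit 8, nat_lit 0, nat_lit 1, nat_lit 2, nat_lit 3, nat_lit 4, nat_lit 5, nat_lit 2, nat_lit 1, nat_lit 3, nat_lit 2, nat_lit 8, nat_lit 3, nat_lit 0, nat_lit 2, nat_lit 12, nat_lit 15, nat_lit 16, nat_lit 8] (Rl.rel (nat_lit 0) [nat_lit 3, nat_lit 8, nat_lit 2, nat_lit 3, nat_lit 4, nat_lit 5, nat_lit 1, nat_lit 2, nat_lit 3, nat_lit 1, nat_lit 0, nat_lit 2, nat_lit 15, nat_lit 8, nat_lit 18] (nat_lit 33) (nat_lit 2) [nat_lit 5474, nat_lit 5496, nat_lit 5161] [])))) (FT.node (nat_lit 5499) (FT.leaf (Fct.mk true (nat_lit 32) (nat_lit 813) (nat_lit 33) [nat_lit 7, nat_lit 6, nat_lit 5, nat_lit 3, nat_lit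 4, nat_lit 2, nat_lit 3, nat_lit 8, nat_lit 1, nat_lit 2, nat_lit 3, nat_lit 4, nat_lit 5, nat_lit 6, nat_lit 7, nat_lit 6, nat_lit 5, nat_lit 3, nat_lit 4, nat_lit 1, nat_lit 2, nat_lit 3, nat_lit 8, nat_lit 0, nat_lit 1, nat_lit 2, nat_lit 3, nat_lit 4, nat_lit 5, nat_lit 1, nat_lit 9, nat_lit 4, nat_lit 3, nat_lit 2, nat_lit 8, nat_lit 3, nat_lit 9, nat_lit 16, nat_lit 8, nat_lit 18] (Rl.t1 (nat_lit 5497) (nat_lit 3904)))) (FT.leaf (Fct.mk true (nat_lit 33) (nat_lit 76) (nat_lit 32) [nat_lit 6, nat_lit 7, nat_lit 4, nat_lit 5, nat_lit 6, nat_lit 3, nat_lit 4, nat_lit 5, nat_lit 2, nat_lit 3, nat_lit 4, nat_lit 1, nat_lit 2, nat_lit 3, nat_lit 8, nat_lit 0, nat_lit 1, nat_lit 2, nat_lit 3, nat_lit 4, nat_lit 5, nat_lit 6, nat_lit 7, nat_lit 3, nat_lit 8, nat_lit 5, nat_lit 2, nat_lit 3, nat_lit 4, nat_lit 1, nat_lit 2, nat_lit 3, nat_lit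 8, nat_lit 0, nat_lit 1, nat_lit 2, nat_lit 3, nat_lit 4, nat_lit 5, nat_lit 8, nat_lit 4, nat_lit 3, nat_lit 2, nat_lit 0, nat_lit 1, nat_lit 9, nat_lit 4, nat_lit 3, nat_lit 2, nat_lit 8, nat_lit 3, nat_lit 9, nat_lit 16, nat_lit 12, nat_lit 15, nat_lit 14, nat_lit 16, nat_lit 8, nat_lit 16] (Rl.inv (nat_lit 5498)))))))))

/-- some facts -/
noncomputable def ftc110 : FT := FT.node (nat_lit 5525) (FT.node (nat_lit 5512) (FT.node (nat_lit 5506) (FT.node (nat_lit 5503) (FT.node (nat_lit 5501) (FT.leaf (Fct.mk false (nat_lit 33) (nat_lit 0) (nat_lit 33) [nat_lit 3, nat_lit 8, nat_lit 2, nat_lit 3, nat_lit 4, nat_lit 1, nat_lit 2, nat_lit 3, nat_lit 8, nat_lit 7, nat_lit 5, nat_lit 6, nat_lit 4, nat_lit 5, nat_lit 3, nat_lit 4, nat_lit 2, nat_lit 3, nat_lit 8, nat_lit 1, nat_lit 2, nat_lit 3, nat_lit 4, nat_lit 5, nat_lit 6, nat_lit 7, nat_lit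 4, nat_lit 2, nat_lit 3, nat_lit 8, nat_lit 1, nat_lit 2, nat_lit 3, nat_lit 4, nat_lit 5, nat_lit 3, nat_lit 2, nat_lit 0, nat_lit 1, nat_lit 4, nat_lit 3, nat_lit 2, nat_lit 8, nat_lit 3, nat_lit 2, nat_lit 17, nat_lit 19, nat_lit 16] (Rl.cmp (nat_lit 4605) (nat_lit 5378)))) (FT.node (nat_lit 5502) (FT.leaf (Fct.mk false (nat_lit 33) (nat_lit 0) (nat_lit 33) [nat_lit 2, nat_lit 3, nat_lit 8, nat_lit 4, nat_lit 5, nat_lit 3, nat_lit 4, nat_lit 2, nat_lit 3, nat_lit 8, nat_lit 1, nat_lit 2, nat_lit 3, nat_lit 4, nat_lit 5, nat_lit 6, nat_lit 7, nat_lit 8, nat_lit 3, nat_lit 4, nat_lit 1, nat_lit 2, nat_lit 3, nat_lit 8, nat_lit 5, nat_lit 6, nat_lit 4, nat_lit 5, nat_lit 3, nat_lit 4, nat_lit 2, nat_lit 3, nat_lit 8, nat_lit 1, nat_lit 2, nat_lit 3, nat_lit 4, nat_lit 5, nat_lit 2, nat_lit 0, nat_lit 1, nat_lit 3, nat_lit 2, nat_lit 8, nat_lit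 3, nat_lit 2, nat_lit 10, nat_lit 1, nat_lit 16, nat_lit 12, nat_lit 15, nat_lit 14, nat_lit 16, nat_lit 8, nat_lit 16] (Rl.cmp (nat_lit 4402) (nat_lit 5500)))) (FT.leaf (Fct.mk false (nat_lit 33) (nat_lit 0) (nat_lit 33) [nat_lit 7, nat_lit 5, nat_lit 6, nat_lit 4, nat_lit 5, nat_lit 2, nat_lit 3, nat_lit 4, nat_lit 1, nat_lit 2, nat_lit 3, nat_lit 8, nat_lit 0, nat_lit 1, nat_lit 2, nat_lit 3, nat_lit 4, nat_lit 5, nat_lit 6, nat_lit 7, nat_lit 3, nat_lit 8, nat_lit 5, nat_lit 6, nat_lit 4, nat_lit 5, nat_lit 3, nat_lit 4, nat_lit 2, nat_lit 3, nat_lit 8, nat_lit 0, nat_lit 1, nat_lit 2, nat_lit 3, nat_lit 4, nat_lit 5, nat_lit 3, nat_lit 2, nat_lit 1, nat_lit 4, nat_lit 3, nat_lit 2, nat_lit 0, nat_lit 1, nat_lit 9, nat_lit 4, nat_lit 3, nat_lit 2, nat_lit 8, nat_lit 3, nat_lit 11, nat_lit 2, nat_lit 10, nat_lit 1, nat_lit 15, nat_lit 14,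 nat_lit 12] (Rl.cmp (nat_lit 4456) (nat_lit 5501)))))) (FT.node (nat_lit 5504) (FT.leaf (Fct.mk false (nat_lit 33) (nat_lit 0) (nat_lit 33) [nat_lit 141] (Rl.cmp (nat_lit 4605) (nat_lit 5502)))) (FT.node (nat_lit 5505) (FT.leaf (Fct.mk false (nat_lit 33) (nat_lit 0) (nat_lit 33) [nat_lit 4, nat_lit 2, nat_lit 3, nat_lit 8, nat_lit 1, nat_lit 2, nat_lit 3, nat_lit 4, nat_lit 5, nat_lit 6, nat_lit 7, nat_lit 5, nat_lit 10, nat_lit 0, nat_lit 16, nat_lit 14, nat_lit 12, nat_lit 18] (Rl.cmp (nat_lit 4400) (nat_lit 4456)))) (FT.leaf (Fct.mk false (nat_lit 33) (nat_lit 0) (nat_lit 33) [nat_lit 8, nat_lit 7, nat_lit 6, nat_lit 5, nat_lit 2, nat_lit 3, nat_lit 4, nat_lit 1, nat_lit 2, nat_lit 3, nat_lit 8, nat_lit 0, nat_lit 1, nat_lit 2, nat_lit 3, nat_lit 4, nat_lit 5, nat_lit 6, nat_lit 7, nat_lit 6, nat_lit 5, nat_lit 3, nat_lit 4, nat_lit 1, nat_lit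 2, nat_lit 3, nat_lit 8, nat_lit 0, nat_lit 1, nat_lit 2, nat_lit 3, nat_lit 4, nat_lit 5, nat_lit 1, nat_lit 2, nat_lit 3, nat_lit 11, nat_lit 10, nat_lit 8, nat_lit 12, nat_lit 15, nat_lit 19, nat_lit 16] (Rl.cmp (nat_lit 4605) (nat_lit 5504))))))) (FT.node (nat_lit 5509) (FT.node (nat_lit 5507) (FT.leaf (Fct.mk false (nat_lit 33) (nat_lit 0) (nat_lit 33) [nat_lit 4, nat_lit 5, nat_lit 3, nat_lit 4, nat_lit 2, nat_lit 3, nat_lit 8, nat_lit 0, nat_lit 1, nat_lit 2, nat_lit 3, nat_lit 4, nat_lit 5, nat_lit 6, nat_lit 7, nat_lit 5, nat_lit 4, nat_lit 3, nat_lit 8, nat_lit 2, nat_lit 3, nat_lit 4, nat_lit 5, nat_lit 0, nat_lit 1, nat_lit 9, nat_lit 4, nat_lit 3, nat_lit 2, nat_lit 8, nat_lit 3, nat_lit 8, nat_lit 10, nat_lit 1, nat_lit 15, nat_lit 14, nat_lit 17, nat_lit 12] (Rl.cmp (nat_lit 4400) (nat_lit 5505)))) (FT.node (nat_lit 5508) (FT.leaf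 (Fct.mk false (nat_lit 33) (nat_lit 0) (nat_lit 33) [nat_lit 6, nat_lit 4, nat_lit 5, nat_lit 2, nat_lit 3, nat_lit 4, nat_lit 1, nat_lit 2, nat_lit 3, nat_lit 8, nat_lit 0, nat_lit 1, nat_lit 2, nat_lit 3, nat_lit 4, nat_lit 5, nat_lit 6, nat_lit 7, nat_lit 6, nat_lit 5, nat_lit 4, nat_lit 3, nat_lit 8, nat_lit 2, nat_lit 3, nat_lit 4, nat_lit 1, nat_lit 2, nat_lit 3, nat_lit 8, nat_lit 5, nat_lit 6, nat_lit 4, nat_lit 5, nat_lit 3, nat_lit 4, nat_lit 2, nat_lit 3, nat_lit 8, nat_lit 1, nat_lit 2, nat_lit 3, nat_lit 4, nat_lit 5, nat_lit 4, nat_lit 3, nat_lit 2, nat_lit 0, nat_lit 1, nat_lit 9, nat_lit 4, nat_lit 3, nat_lit 2, nat_lit 8, nat_lit 3, nat_lit 10, nat_lit 2, nat_lit 8, nat_lit 10, nat_lit 1, nat_lit 16, nat_lit 15, nat_lit 14, nat_lit 16, nat_lit 8, nat_lit 18] (Rl.cmp (nat_lit 4456) (nat_lit 4402)))) (FT.leaf (Fct.mk false (nat_lit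 33) (nat_lit 0) (nat_lit 33) [nat_lit 2, nat_lit 3, nat_lit 8, nat_lit 5, nat_lit 6, nat_lit 4, nat_lit 5, nat_lit 3, nat_lit 4, nat_lit 2, nat_lit 3, nat_lit 8, nat_lit 0, nat_lit 1, nat_lit 2, nat_lit 3, nat_lit 4, nat_lit 5, nat_lit 6, nat_lit 7, nat_lit 4, nat_lit 5, nat_lit 3, nat_lit 4, nat_lit 1, nat_lit 2, nat_lit 3, nat_lit 8, nat_lit 0, nat_lit 1, nat_lit 2, nat_lit 3, nat_lit 4, nat_lit 5, nat_lit 1, nat_lit 3, nat_lit 2, nat_lit 8, nat_lit 3, nat_lit 10, nat_lit 0, nat_lit 13, nat_lit 12] (Rl.cmp (nat_lit 4605) (nat_lit 5507)))))) (FT.node (nat_lit 5510) (FT.leaf (Fct.mk false (nat_lit 33) (nat_lit 0) (nat_lit 33) [nat_lit 3, nat_lit 8, nat_lit 2, nat_lit 3, nat_lit 4, nat_lit 1, nat_lit 2, nat_lit 3, nat_lit 8, nat_lit 0, nat_lit 1, nat_lit 2, nat_lit 3, nat_lit 4, nat_lit 5, nat_lit 6, nat_lit 7, nat_lit 4, nat_lit 5, nat_lit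 6, nat_lit 3, nat_lit 4, nat_lit 5, nat_lit 2, nat_lit 3, nat_lit 4, nat_lit 1, nat_lit 2, nat_lit 3, nat_lit 8, nat_lit 0, nat_lit 1, nat_lit 2, nat_lit 3, nat_lit 4, nat_lit 5, nat_lit 1, nat_lit 4, nat_lit 3, nat_lit 2, nat_lit 8, nat_lit 3, nat_lit 10, nat_lit 8, nat_lit 16, nat_lit 14, nat_lit 17, nat_lit 18, nat_lit 16] (Rl.cmp (nat_lit 4402) (nat_lit 5508)))) (FT.node (nat_lit 5511) (FT.leaf (Fct.mk true (nat_lit 33) (nat_lit 77486) (nat_lit 33) [nat_lit 3, nat_lit 8, nat_lit 2, nat_lit 3, nat_lit 4, nat_lit 1, nat_lit 2, nat_lit 3, nat_lit 8, nat_lit 0, nat_lit 1, nat_lit 2, nat_lit 3, nat_lit 4, nat_lit 5, nat_lit 6, nat_lit 7, nat_lit 8, nat_lit 5, nat_lit 3, nat_lit 4, nat_lit 2, nat_lit 3, nat_lit 8, nat_lit 0, nat_lit 1, nat_lit 2, nat_lit 3, nat_lit 4, nat_lit 5, nat_lit 2, nat_lit 3, nat_lit 8, nat_lit 4, nat_lit 3, nat_lit 2,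 nat_lit 1, nat_lit 9, nat_lit 4, nat_lit 3, nat_lit 2, nat_lit 8, nat_lit 3, nat_lit 1, nat_lit 0, nat_lit 2, nat_lit 15, nat_lit 16, nat_lit 8, nat_lit 18] (Rl.rel (nat_lit 0) [nat_lit 8, nat_lit 3, nat_lit 4, nat_lit 2, nat_lit 3, nat_lit 8, nat_lit 1, nat_lit 2, nat_lit 3, nat_lit 4, nat_lit 5, nat_lit 1, nat_lit 2, nat_lit 3, nat_lit 0, nat_lit 15, nat_lit 8, nat_lit 18] (nat_lit 33) (nat_lit 2) [nat_lit 5474, nat_lit 5506, nat_lit 5400] []))) (FT.leaf (Fct.mk true (nat_lit 33) (nat_lit 596) (nat_lit 33) [nat_lit 8, nat_lit 3, nat_lit 4, nat_lit 2, nat_lit 3, nat_lit 8, nat_lit 5, nat_lit 6, nat_lit 4, nat_lit 5, nat_lit 3, nat_lit 4, nat_lit 2, nat_lit 3, nat_lit 8, nat_lit 1, nat_lit 2, nat_lit 3, nat_lit 4, nat_lit 5, nat_lit 2, nat_lit 8, nat_lit 3, nat_lit 16, nat_lit 8, nat_lit 19, nat_lit 16] (Rl.t1 (nat_lit 5510) (nat_lit 5509))))))))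 (FT.node (nat_lit 5518) (FT.node (nat_lit 5515) (FT.node (nat_lit 5513) (FT.leaf (Fct.mk false (nat_lit 33) (nat_lit 0) (nat_lit 33) [nat_lit 5, nat_lit 6, nat_lit 4, nat_lit 5, nat_lit 3, nat_lit 4, nat_lit 2, nat_lit 3, nat_lit 8, nat_lit 1, nat_lit 2, nat_lit 3, nat_lit 4, nat_lit 5, nat_lit 6, nat_lit 7, nat_lit 9, nat_lit 4, nat_lit 3, nat_lit 2, nat_lit 8, nat_lit 3, nat_lit 11, nat_lit 1, nat_lit 12, nat_lit 15, nat_lit 14, nat_lit 13, nat_lit 12] (Rl.cmp (nat_lit 4402) (nat_lit 4456)))) (FT.node (nat_lit 5514) (FT.leaf (Fct.mk false (nat_lit 33) (nat_lit 0) (nat_lit 33) [nat_lit 5, nat_lit 2, nat_lit 3, nat_lit 4, nat_lit 1, nat_lit 2, nat_lit 3, nat_lit 8, nat_lit 0, nat_lit 1, nat_lit 2, nat_lit 3, nat_lit 4, nat_lit 5, nat_lit 6, nat_lit 7, nat_lit 8, nat_lit 6, nat_lit 4, nat_lit 5, nat_lit 3, nat_lit 4, nat_lit 1, nat_lit 2, nat_lit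 3, nat_lit 8, nat_lit 0, nat_lit 1, nat_lit 2, nat_lit 3, nat_lit 4, nat_lit 5, nat_lit 2, nat_lit 1, nat_lit 9, nat_lit 4, nat_lit 3, nat_lit 2, nat_lit 8, nat_lit 3, nat_lit 1, nat_lit 0, nat_lit 2, nat_lit 16, nat_lit 15, nat_lit 14, nat_lit 18, nat_lit 16] (Rl.cmp (nat_lit 4605) (nat_lit 4456)))) (FT.leaf (Fct.mk false (nat_lit 33) (nat_lit 0) (nat_lit 33) [nat_lit 8, nat_lit 7, nat_lit 6, nat_lit 4, nat_lit 5, nat_lit 3, nat_lit 4, nat_lit 2, nat_lit 3, nat_lit 8, nat_lit 0, nat_lit 1, nat_lit 2, nat_lit 3, nat_lit 4, nat_lit 5, nat_lit 6, nat_lit 7, nat_lit 3, nat_lit 8, nat_lit 5, nat_lit 2, nat_lit 3, nat_lit 4, nat_lit 1, nat_lit 2, nat_lit 3, nat_lit 8, nat_lit 0, nat_lit 1, nat_lit 2, nat_lit 3, nat_lit 4, nat_lit 5, nat_lit 3, nat_lit 2, nat_lit 1, nat_lit 9, nat_lit 4, nat_lit 3, nat_lit 2, nat_lit 8, nat_lit 3, nat_lit 1, nat_lit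 9, nat_lit 16, nat_lit 8, nat_lit 12, nat_lit 15, nat_lit 8, nat_lit 18] (Rl.cmp (nat_lit 4400) (nat_lit 5513)))))) (FT.node (nat_lit 5516) (FT.leaf (Fct.mk false (nat_lit 33) (nat_lit 0) (nat_lit 33) [nat_lit 5, nat_lit 2, nat_lit 3, nat_lit 4, nat_lit 1, nat_lit 2, nat_lit 3, nat_lit 8, nat_lit 0, nat_lit 1, nat_lit 2, nat_lit 3, nat_lit 4, nat_lit 5, nat_lit 6, nat_lit 7, nat_lit 3, nat_lit 8, nat_lit 0, nat_lit 1, nat_lit 2, nat_lit 3, nat_lit 4, nat_lit 5, nat_lit 1, nat_lit 3, nat_lit 2, nat_lit 0, nat_lit 1, nat_lit 4, nat_lit 3, nat_lit 2, nat_lit 8, nat_lit 3, nat_lit 9, nat_lit 10, nat_lit 2, nat_lit 8, nat_lit 10, nat_lit 1, nat_lit 16, nat_lit 8, nat_lit 12, nat_lit 15, nat_lit 16, nat_lit 8] (Rl.cmp (nat_lit 4456) (nat_lit 5514)))) (FT.node (nat_lit 5517) (FT.leaf (Fct.mk false (nat_lit 33) (nat_lit 0) (nat_lit 33) [nat_lit 5,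 nat_lit 4, nat_lit 3, nat_lit 8, nat_lit 2, nat_lit 3, nat_lit 4, nat_lit 5, nat_lit 6, nat_lit 7, nat_lit 6, nat_lit 4, nat_lit 5, nat_lit 3, nat_lit 4, nat_lit 2, nat_lit 3, nat_lit 8, nat_lit 0, nat_lit 1, nat_lit 2, nat_lit 3, nat_lit 4, nat_lit 5, nat_lit 3, nat_lit 2, nat_lit 1, nat_lit 4, nat_lit 3, nat_lit 2, nat_lit 0, nat_lit 1, nat_lit 9, nat_lit 4, nat_lit 3, nat_lit 2, nat_lit 8, nat_lit 3, nat_lit 2, nat_lit 10, nat_lit 1, nat_lit 8, nat_lit 12, nat_lit 15, nat_lit 14, nat_lit 16, nat_lit 8, nat_lit 18] (Rl.cmp (nat_lit 4456) (nat_lit 5515)))) (FT.leaf (Fct.mk false (nat_lit 33) (nat_lit 0) (nat_lit 33) [nat_lit 5, nat_lit 2, nat_lit 3, nat_lit 4, nat_lit 1, nat_lit 2, nat_lit 3, nat_lit 8, nat_lit 0, nat_lit 1, nat_lit 2, nat_lit 3, nat_lit 4, nat_lit 5, nat_lit 6, nat_lit 7, nat_lit 8, nat_lit 6, nat_lit 4, nat_lit 5, nat_lit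 3, nat_lit 4, nat_lit 1, nat_lit 2, nat_lit 3, nat_lit 8, nat_lit 0, nat_lit 1, nat_lit 2, nat_lit 3, nat_lit 4, nat_lit 5, nat_lit 2, nat_lit 1, nat_lit 9, nat_lit 4, nat_lit 3, nat_lit 2, nat_lit 8, nat_lit 3, nat_lit 1, nat_lit 0, nat_lit 2, nat_lit 16, nat_lit 15, nat_lit 14, nat_lit 18, nat_lit 16] (Rl.cmp (nat_lit 4605) (nat_lit 4456))))))) (FT.node (nat_lit 5521) (FT.node (nat_lit 5519) (FT.leaf (Fct.mk false (nat_lit 33) (nat_lit 0) (nat_lit 33) [nat_lit 5, nat_lit 4, nat_lit 3, nat_lit 8, nat_lit 2, nat_lit 3, nat_lit 4, nat_lit 5, nat_lit 6, nat_lit 7, nat_lit 8, nat_lit 6, nat_lit 4, nat_lit 5, nat_lit 3, nat_lit 4, nat_lit 1, nat_lit 2, nat_lit 3, nat_lit 8, nat_lit 0, nat_lit 1, nat_lit 2, nat_lit 3, nat_lit 4, nat_lit 5, nat_lit 1, nat_lit 2, nat_lit 0, nat_lit 1, nat_lit 9, nat_lit 4, nat_lit 3, nat_lit 2, nat_lit 8, nat_lit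 3, nat_lit 11, nat_lit 10, nat_lit 1, nat_lit 8, nat_lit 12, nat_lit 15, nat_lit 14, nat_lit 13, nat_lit 19] (Rl.cmp (nat_lit 4456) (nat_lit 5517)))) (FT.node (nat_lit 5520) (FT.leaf (Fct.mk false (nat_lit 33) (nat_lit 0) (nat_lit 33) [nat_lit 4, nat_lit 5, nat_lit 6, nat_lit 7, nat_lit 5, nat_lit 4, nat_lit 1, nat_lit 2, nat_lit 3, nat_lit 8, nat_lit 0, nat_lit 1, nat_lit 2, nat_lit 3, nat_lit 4, nat_lit 5, nat_lit 0, nat_lit 1, nat_lit 3, nat_lit 2, nat_lit 8, nat_lit 3, nat_lit 11, nat_lit 10, nat_lit 1, nat_lit 8, nat_lit 12, nat_lit 15, nat_lit 12] (Rl.cmp (nat_lit 4402) (nat_lit 4605)))) (FT.leaf (Fct.mk false (nat_lit 33) (nat_lit 0) (nat_lit 33) [nat_lit 7, nat_lit 6, nat_lit 4, nat_lit 5, nat_lit 3, nat_lit 4, nat_lit 2, nat_lit 3, nat_lit 8, nat_lit 1, nat_lit 2, nat_lit 3, nat_lit 4, nat_lit 5, nat_lit 6, nat_lit 7, nat_lit 6, nat_lit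 5, nat_lit 4, nat_lit 2, nat_lit 3, nat_lit 8, nat_lit 1, nat_lit 2, nat_lit 3, nat_lit 4, nat_lit 5, nat_lit 8, nat_lit 3, nat_lit 2, nat_lit 1, nat_lit 9, nat_lit 4, nat_lit 3, nat_lit 2, nat_lit 8, nat_lit 3, nat_lit 11, nat_lit 8, nat_lit 12, nat_lit 15, nat_lit 17, nat_lit 12] (Rl.cmp (nat_lit 4456) (nat_lit 5519)))))) (FT.node (nat_lit 5523) (FT.node (nat_lit 5522) (FT.leaf (Fct.mk false (nat_lit 33) (nat_lit 0) (nat_lit 33) [nat_lit 7, nat_lit 5, nat_lit 6, nat_lit 4, nat_lit 5, nat_lit 3, nat_lit 4, nat_lit 2, nat_lit 3, nat_lit 8, nat_lit 1, nat_lit 2, nat_lit 3, nat_lit 4, nat_lit 5, nat_lit 6, nat_lit 7, nat_lit 4, nat_lit 3, nat_lit 8, nat_lit 2, nat_lit 3, nat_lit 4, nat_lit 5, nat_lit 8, nat_lit 3, nat_lit 11, nat_lit 10, nat_lit 1, nat_lit 8, nat_lit 12, nat_lit 15, nat_lit 17, nat_lit 12, nat_lit 16] (Rl.cmp (nat_lit 4402) (nat_lit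 5520)))) (FT.leaf (Fct.mk false (nat_lit 33) (nat_lit 0) (nat_lit 33) [nat_lit 3, nat_lit 8, nat_lit 4, nat_lit 5, nat_lit 3, nat_lit 4, nat_lit 1, nat_lit 2, nat_lit 3, nat_lit 8, nat_lit 0, nat_lit 1, nat_lit 2, nat_lit 3, nat_lit 4, nat_lit 5, nat_lit 6, nat_lit 7, nat_lit 3, nat_lit 8, nat_lit 2, nat_lit 3, nat_lit 4, nat_lit 5, nat_lit 2, nat_lit 3, nat_lit 0, nat_lit 2, nat_lit 8, nat_lit 16, nat_lit 14, nat_lit 8, nat_lit 18] (Rl.cmp (nat_lit 4456) (nat_lit 5521))))) (FT.node (nat_lit 5524) (FT.leaf (Fct.mk true (nat_lit 33) (nat_lit 623) (nat_lit 33) [nat_lit 7, nat_lit 4, nat_lit 5, nat_lit 2, nat_lit 3, nat_lit 4, nat_lit 1, nat_lit 2, nat_lit 3, nat_lit 8, nat_lit 0, nat_lit 1, nat_lit 2, nat_lit 3, nat_lit 4, nat_lit 5, nat_lit 3, nat_lit 2, nat_lit 1, nat_lit 8, nat_lit 3, nat_lit 2, nat_lit 0, nat_lit 1, nat_lit 4, nat_lit 3,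 nat_lit 2, nat_lit 8, nat_lit 3, nat_lit 0, nat_lit 2, nat_lit 15, nat_lit 14, nat_lit 12] (Rl.rel (nat_lit 0) [nat_lit 4, nat_lit 5, nat_lit 2, nat_lit 3, nat_lit 4, nat_lit 1, nat_lit 2, nat_lit 3, nat_lit 8, nat_lit 0, nat_lit 1, nat_lit 2, nat_lit 3, nat_lit 4, nat_lit 5, nat_lit 1, nat_lit 3, nat_lit 2, nat_lit 0, nat_lit 1, nat_lit 4, nat_lit 3, nat_lit 2, nat_lit 8, nat_lit 3, nat_lit 10, nat_lit 2, nat_lit 8, nat_lit 10, nat_lit 1, nat_lit 8, nat_lit 12, nat_lit 15, nat_lit 14] (nat_lit 33) (nat_lit 2) [nat_lit 5511, nat_lit 5518, nat_lit 5511] []))) (FT.leaf (Fct.mk true (nat_lit 33) (nat_lit 38) (nat_lit 33) [nat_lit 8, nat_lit 2, nat_lit 3, nat_lit 4, nat_lit 5, nat_lit 6, nat_lit 7, nat_lit 3, nat_lit 4, nat_lit 2, nat_lit 3, nat_lit 8, nat_lit 1, nat_lit 2, nat_lit 3, nat_lit 4, nat_lit 5, nat_lit 8, nat_lit 4, nat_lit 3, nat_lit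 2, nat_lit 1, nat_lit 9, nat_lit 4, nat_lit 3, nat_lit 2, nat_lit 8, nat_lit 3, nat_lit 2, nat_lit 8, nat_lit 10, nat_lit 1, nat_lit 16, nat_lit 15, nat_lit 14, nat_lit 8] (Rl.t1 (nat_lit 5523) (nat_lit 5522))))))))) (FT.node (nat_lit 5537) (FT.node (nat_lit 5531) (FT.node (nat_lit 5528) (FT.node (nat_lit 5526) (FT.leaf (Fct.mk false (nat_lit 33) (nat_lit 0) (nat_lit 33) [nat_lit 102] (Rl.cmp (nat_lit 4402) (nat_lit 4400)))) (FT.node (nat_lit 5527) (FT.leaf (Fct.mk false (nat_lit 33) (nat_lit 0) (nat_lit 33) [nat_lit 6, nat_lit 4, nat_lit 5, nat_lit 3, nat_lit 4, nat_lit 2, nat_lit 3, nat_lit 8, nat_lit 1, nat_lit 2, nat_lit 3, nat_lit 4, nat_lit 5, nat_lit 6, nat_lit 7, nat_lit 4, nat_lit 5, nat_lit 1, nat_lit 3, nat_lit 2, nat_lit 0, nat_lit 1, nat_lit 4, nat_lit 3, nat_lit 2, nat_lit 8, nat_lit 3, nat_lit 8, nat_lit 10, nat_lit 16, nat_lit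 15, nat_lit 14, nat_lit 13, nat_lit 12, nat_lit 19, nat_lit 16] (Rl.cmp (nat_lit 4456) (nat_lit 5525)))) (FT.leaf (Fct.mk false (nat_lit 33) (nat_lit 0) (nat_lit 33) [nat_lit 6, nat_lit 5, nat_lit 3, nat_lit 4, nat_lit 1, nat_lit 2, nat_lit 3, nat_lit 8, nat_lit 0, nat_lit 1, nat_lit 2, nat_lit 3, nat_lit 4, nat_lit 5, nat_lit 6, nat_lit 7, nat_lit 8, nat_lit 3, nat_lit 4, nat_lit 2, nat_lit 3, nat_lit 8, nat_lit 5, nat_lit 6, nat_lit 4, nat_lit 5, nat_lit 3, nat_lit 4, nat_lit 2, nat_lit 3, nat_lit 8, nat_lit 1, nat_lit 2, nat_lit 3, nat_lit 4, nat_lit 5, nat_lit 1, nat_lit 3, nat_lit 8, nat_lit 4, nat_lit 3, nat_lit 2, nat_lit 0, nat_lit 1, nat_lit 9, nat_lit 4, nat_lit 3, nat_lit 2, nat_lit 8, nat_lit 3, nat_lit 2, nat_lit 10, nat_lit 1, nat_lit 14, nat_lit 12, nat_lit 16] (Rl.cmp (nat_lit 4605) (nat_lit 5526)))))) (FT.node (nat_lit 5529)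 (FT.leaf (Fct.mk false (nat_lit 33) (nat_lit 0) (nat_lit 33) [nat_lit 4, nat_lit 5, nat_lit 6, nat_lit 3, nat_lit 4, nat_lit 5, nat_lit 2, nat_lit 3, nat_lit 4, nat_lit 1, nat_lit 2, nat_lit 3, nat_lit 8, nat_lit 0, nat_lit 1, nat_lit 2, nat_lit 3, nat_lit 4, nat_lit 5, nat_lit 6, nat_lit 7, nat_lit 8, nat_lit 3, nat_lit 4, nat_lit 2, nat_lit 3, nat_lit 8, nat_lit 1, nat_lit 2, nat_lit 3, nat_lit 4, nat_lit 5, nat_lit 2, nat_lit 1, nat_lit 4, nat_lit 3, nat_lit 2, nat_lit 8, nat_lit 3, nat_lit 2, nat_lit 8, nat_lit 10, nat_lit 1, nat_lit 16, nat_lit 15, nat_lit 14, nat_lit 12, nat_lit 19] (Rl.cmp (nat_lit 4456) (nat_lit 5527)))) (FT.node (nat_lit 5530) (FT.leaf (Fct.mk false (nat_lit 33) (nat_lit 0) (nat_lit 33) [nat_lit 8, nat_lit 6, nat_lit 7, nat_lit 5, nat_lit 6, nat_lit 4, nat_lit 5, nat_lit 3, nat_lit 4, nat_lit 2, nat_lit 3, nat_lit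 8, nat_lit 0, nat_lit 1, nat_lit 2, nat_lit 3, nat_lit 4, nat_lit 5, nat_lit 6, nat_lit 7, nat_lit 5, nat_lit 4, nat_lit 3, nat_lit 8, nat_lit 0, nat_lit 1, nat_lit 2, nat_lit 3, nat_lit 4, nat_lit 5, nat_lit 4, nat_lit 3, nat_lit 2, nat_lit 1, nat_lit 8, nat_lit 3, nat_lit 2, nat_lit 0, nat_lit 1, nat_lit 4, nat_lit 3, nat_lit 2, nat_lit 8, nat_lit 3, nat_lit 11, nat_lit 2, nat_lit 12, nat_lit 15, nat_lit 14, nat_lit 19] (Rl.cmp (nat_lit 4456) (nat_lit 5528)))) (FT.leaf (Fct.mk false (nat_lit 33) (nat_lit 0) (nat_lit 33) [nat_lit 4, nat_lit 3, nat_lit 8, nat_lit 6, nat_lit 7, nat_lit 5, nat_lit 6, nat_lit 4, nat_lit 5, nat_lit 3, nat_lit 4, nat_lit 1, nat_lit 2, nat_lit 3, nat_lit 8, nat_lit 0, nat_lit 1, nat_lit 2, nat_lit 3, nat_lit 4, nat_lit 5, nat_lit 6, nat_lit 7, nat_lit 8, nat_lit 2, nat_lit 3, nat_lit 4, nat_lit 1, nat_lit 2, nat_lit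 3, nat_lit 8, nat_lit 5, nat_lit 6, nat_lit 4, nat_lit 5, nat_lit 3, nat_lit 4, nat_lit 2, nat_lit 3, nat_lit 8, nat_lit 1, nat_lit 2, nat_lit 3, nat_lit 4, nat_lit 5, nat_lit 1, nat_lit 8, nat_lit 3, nat_lit 2, nat_lit 0, nat_lit 1, nat_lit 4, nat_lit 3, nat_lit 2, nat_lit 8, nat_lit 3, nat_lit 9, nat_lit 12, nat_lit 15, nat_lit 16, nat_lit 8, nat_lit 16] (Rl.cmp (nat_lit 4402) (nat_lit 5529))))))) (FT.node (nat_lit 5534) (FT.node (nat_lit 5532) (FT.leaf (Fct.mk false (nat_lit 32) (nat_lit 0) (nat_lit 32) [nat_lit 5, nat_lit 6, nat_lit 4, nat_lit 5, nat_lit 3, nat_lit 4, nat_lit 2, nat_lit 3, nat_lit 8, nat_lit 1, nat_lit 2, nat_lit 3, nat_lit 4, nat_lit 5, nat_lit 1, nat_lit 8, nat_lit 3, nat_lit 2, nat_lit 0, nat_lit 1, nat_lit 9, nat_lit 4, nat_lit 3, nat_lit 2, nat_lit 8, nat_lit 3, nat_lit 0, nat_lit 15, nat_lit 14, nat_lit 13, nat_lit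 19, nat_lit 16] (Rl.cmp (nat_lit 3010) (nat_lit 4232)))) (FT.node (nat_lit 5533) (FT.leaf (Fct.mk false (nat_lit 33) (nat_lit 0) (nat_lit 33) [nat_lit 3, nat_lit 4, nat_lit 5, nat_lit 2, nat_lit 3, nat_lit 4, nat_lit 1, nat_lit 2, nat_lit 3, nat_lit 8, nat_lit 0, nat_lit 1, nat_lit 2, nat_lit 3, nat_lit 4, nat_lit 5, nat_lit 6, nat_lit 7, nat_lit 5, nat_lit 4, nat_lit 2, nat_lit 3, nat_lit 8, nat_lit 1, nat_lit 2, nat_lit 3, nat_lit 4, nat_lit 5, nat_lit 1, nat_lit 8, nat_lit 3, nat_lit 2, nat_lit 0, nat_lit 1, nat_lit 4, nat_lit 3, nat_lit 2, nat_lit 8, nat_lit 3, nat_lit 11, nat_lit 10, nat_lit 16, nat_lit 12, nat_lit 15, nat_lit 14, nat_lit 12, nat_lit 19] (Rl.cmp (nat_lit 4605) (nat_lit 4605)))) (FT.leaf (Fct.mk false (nat_lit 33) (nat_lit 0) (nat_lit 33) [nat_lit 3, nat_lit 8, nat_lit 5, nat_lit 2, nat_lit 3, nat_lit 4, nat_lit 1, nat_lit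 2, nat_lit 3, nat_lit 8, nat_lit 0, nat_lit 1, nat_lit 2, nat_lit 3, nat_lit 4, nat_lit 5, nat_lit 6, nat_lit 7, nat_lit 6, nat_lit 5, nat_lit 4, nat_lit 3, nat_lit 8, nat_lit 2, nat_lit 3, nat_lit 4, nat_lit 5, nat_lit 2, nat_lit 1, nat_lit 8, nat_lit 3, nat_lit 2, nat_lit 0, nat_lit 1, nat_lit 4, nat_lit 3, nat_lit 2, nat_lit 8, nat_lit 3, nat_lit 1, nat_lit 0, nat_lit 2] (Rl.cmp (nat_lit 4605) (nat_lit 5532)))))) (FT.node (nat_lit 5535) (FT.leaf (Fct.mk false (nat_lit 33) (nat_lit 0) (nat_lit 33) [nat_lit 7, nat_lit 6, nat_lit 3, nat_lit 4, nat_lit 5, nat_lit 2, nat_lit 3, nat_lit 4, nat_lit 1, nat_lit 2, nat_lit 3, nat_lit 8, nat_lit 0, nat_lit 1, nat_lit 2, nat_lit 3, nat_lit 4, nat_lit 5, nat_lit 6, nat_lit 7, nat_lit 5, nat_lit 4, nat_lit 2, nat_lit 3, nat_lit 8, nat_lit 0, nat_lit 1, nat_lit 2, nat_lit 3, nat_lit 4, nat_lit 5, nat_lit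 8, nat_lit 3, nat_lit 2, nat_lit 0, nat_lit 1, nat_lit 4, nat_lit 3, nat_lit 2, nat_lit 8, nat_lit 3, nat_lit 1, nat_lit 0, nat_lit 2, nat_lit 12, nat_lit 15, nat_lit 18] (Rl.cmp (nat_lit 4456) (nat_lit 5533)))) (FT.node (nat_lit 5536) (FT.leaf (Fct.mk true (nat_lit 32) (nat_lit 7583) (nat_lit 33) [nat_lit 7, nat_lit 6, nat_lit 5, nat_lit 4, nat_lit 3, nat_lit 8, nat_lit 2, nat_lit 3, nat_lit 4, nat_lit 5, nat_lit 6, nat_lit 7, nat_lit 0, nat_lit 1, nat_lit 2, nat_lit 3, nat_lit 4, nat_lit 5, nat_lit 2, nat_lit 0, nat_lit 1, nat_lit 9, nat_lit 4, nat_lit 3, nat_lit 2, nat_lit 8, nat_lit 3, nat_lit 11, nat_lit 10, nat_lit 1, nat_lit 12, nat_lit 15, nat_lit 13, nat_lit 12, nat_lit 19, nat_lit 16] (Rl.rel (nat_lit 0) [nat_lit 8, nat_lit 3, nat_lit 4, nat_lit 5, nat_lit 6, nat_lit 7, nat_lit 8, nat_lit 2, nat_lit 3, nat_lit 4, nat_lit 1, nat_lit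 2, nat_lit 3, nat_lit 8, nat_lit 0, nat_lit 1, nat_lit 2, nat_lit 3, nat_lit 4, nat_lit 5, nat_lit 2, nat_lit 8, nat_lit 3, nat_lit 1, nat_lit 0, nat_lit 2, nat_lit 18] (nat_lit 33) (nat_lit 2) [nat_lit 5511, nat_lit 5530, nat_lit 5375] []))) (FT.leaf (Fct.mk true (nat_lit 32) (nat_lit 1683) (nat_lit 33) [nat_lit 3, nat_lit 4, nat_lit 5, nat_lit 2, nat_lit 3, nat_lit 4, nat_lit 1, nat_lit 2, nat_lit 3, nat_lit 8, nat_lit 6, nat_lit 7, nat_lit 5, nat_lit 6, nat_lit 4, nat_lit 5, nat_lit 3, nat_lit 4, nat_lit 2, nat_lit 3, nat_lit 8, nat_lit 1, nat_lit 2, nat_lit 3, nat_lit 4, nat_lit 5, nat_lit 6, nat_lit 7, nat_lit 4, nat_lit 2, nat_lit 3, nat_lit 8, nat_lit 1, nat_lit 2, nat_lit 3, nat_lit 4, nat_lit 5, nat_lit 1, nat_lit 4, nat_lit 3, nat_lit 2, nat_lit 0, nat_lit 1, nat_lit 9, nat_lit 4, nat_lit 3, nat_lit 2, nat_lit 8, nat_lit 3, nat_lit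 11, nat_lit 10, nat_lit 1, nat_lit 12, nat_lit 15, nat_lit 12] (Rl.t1 (nat_lit 5535) (nat_lit 5531)))))))) (FT.node (nat_lit 5543) (FT.node (nat_lit 5540) (FT.node (nat_lit 5538) (FT.leaf (Fct.mk true (nat_lit 33) (nat_lit 1811) (nat_lit 32) [nat_lit 5, nat_lit 4, nat_lit 2, nat_lit 3, nat_lit 8, nat_lit 6, nat_lit 7, nat_lit 5, nat_lit 6, nat_lit 4, nat_lit 5, nat_lit 3, nat_lit 4, nat_lit 2, nat_lit 3, nat_lit 8, nat_lit 0, nat_lit 1, nat_lit 2, nat_lit 3, nat_lit 4, nat_lit 5, nat_lit 6, nat_lit 7, nat_lit 6, nat_lit 4, nat_lit 5, nat_lit 3, nat_lit 4, nat_lit 2, nat_lit 3, nat_lit 8, nat_lit 0, nat_lit 1, nat_lit 2, nat_lit 3, nat_lit 4, nat_lit 5, nat_lit 2, nat_lit 1, nat_lit 4, nat_lit 3, nat_lit 2, nat_lit 8, nat_lit 3, nat_lit 11, nat_lit 8, nat_lit 10, nat_lit 16, nat_lit 12, nat_lit 15, nat_lit 14, nat_lit 16] (Rl.inv (nat_lit 5536))))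 (FT.node (nat_lit 5539) (FT.leaf (Fct.mk true (nat_lit 33) (nat_lit 170) (nat_lit 32) [nat_lit 5, nat_lit 3, nat_lit 4, nat_lit 2, nat_lit 3, nat_lit 8, nat_lit 6, nat_lit 7, nat_lit 5, nat_lit 6, nat_lit 4, nat_lit 5, nat_lit 3, nat_lit 4, nat_lit 2, nat_lit 3, nat_lit 8, nat_lit 0, nat_lit 1, nat_lit 2, nat_lit 3, nat_lit 4, nat_lit 5, nat_lit 6, nat_lit 7, nat_lit 8, nat_lit 3, nat_lit 4, nat_lit 5, nat_lit 2, nat_lit 1, nat_lit 8, nat_lit 3, nat_lit 2, nat_lit 0, nat_lit 1, nat_lit 4, nat_lit 3, nat_lit 2, nat_lit 8, nat_lit 3, nat_lit 2, nat_lit 8, nat_lit 10, nat_lit 1, nat_lit 8, nat_lit 12, nat_lit 15, nat_lit 14, nat_lit 13, nat_lit 12, nat_lit 19] (Rl.t1 (nat_lit 5537) (nat_lit 5534)))) (FT.leaf (Fct.mk false (nat_lit 33) (nat_lit 0) (nat_lit 33) [nat_lit 2, nat_lit 3, nat_lit 8, nat_lit 1, nat_lit 2, nat_lit 3, nat_lit 4, nat_lit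 5, nat_lit 6, nat_lit 7, nat_lit 2, nat_lit 3, nat_lit 8, nat_lit 0, nat_lit 1, nat_lit 2, nat_lit 3, nat_lit 4, nat_lit 5, nat_lit 3, nat_lit 2, nat_lit 1, nat_lit 9, nat_lit 4, nat_lit 3, nat_lit 2, nat_lit 8, nat_lit 3, nat_lit 0, nat_lit 14, nat_lit 8, nat_lit 18] (Rl.cmp (nat_lit 4456) (nat_lit 4400)))))) (FT.node (nat_lit 5541) (FT.leaf (Fct.mk false (nat_lit 33) (nat_lit 0) (nat_lit 33) [nat_lit 3, nat_lit 8, nat_lit 7, nat_lit 5, nat_lit 6, nat_lit 4, nat_lit 5, nat_lit 3, nat_lit 4, nat_lit 2, nat_lit 3, nat_lit 8, nat_lit 1, nat_lit 2, nat_lit 3, nat_lit 4, nat_lit 5, nat_lit 6, nat_lit 7, nat_lit 8, nat_lit 4, nat_lit 5, nat_lit 3, nat_lit 4, nat_lit 2, nat_lit 3, nat_lit 8, nat_lit 1, nat_lit 2, nat_lit 3, nat_lit 4, nat_lit 5, nat_lit 2, nat_lit 1, nat_lit 4, nat_lit 3, nat_lit 2, nat_lit 8, nat_lit 3, nat_lit 0, nat_lit 2, nat_lit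 8, nat_lit 12, nat_lit 15, nat_lit 14, nat_lit 8] (Rl.cmp (nat_lit 4456) (nat_lit 5539)))) (FT.node (nat_lit 5542) (FT.leaf (Fct.mk false (nat_lit 33) (nat_lit 0) (nat_lit 33) [nat_lit 2, nat_lit 3, nat_lit 8, nat_lit 1, nat_lit 2, nat_lit 3, nat_lit 4, nat_lit 5, nat_lit 6, nat_lit 7, nat_lit 2, nat_lit 3, nat_lit 8, nat_lit 1, nat_lit 2, nat_lit 3, nat_lit 4, nat_lit 5, nat_lit 3, nat_lit 2, nat_lit 8, nat_lit 3, nat_lit 10, nat_lit 0, nat_lit 16, nat_lit 15, nat_lit 14, nat_lit 18] (Rl.cmp (nat_lit 4400) (nat_lit 5540)))) (FT.leaf (Fct.mk false (nat_lit 32) (nat_lit 0) (nat_lit 32) [nat_lit 3, nat_lit 8, nat_lit 5, nat_lit 2, nat_lit 3, nat_lit 4, nat_lit 1, nat_lit 2, nat_lit 3, nat_lit 8, nat_lit 6, nat_lit 7, nat_lit 5, nat_lit 6, nat_lit 4, nat_lit 5, nat_lit 3, nat_lit 4, nat_lit 2, nat_lit 3, nat_lit 8, nat_lit 1, nat_lit 2, nat_lit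 3, nat_lit 4, nat_lit 5, nat_lit 6, nat_lit 7, nat_lit 2, nat_lit 3, nat_lit 8, nat_lit 1, nat_lit 2, nat_lit 3, nat_lit 4, nat_lit 5, nat_lit 1, nat_lit 3, nat_lit 2, nat_lit 0, nat_lit 1, nat_lit 9, nat_lit 4, nat_lit 3, nat_lit 2, nat_lit 8, nat_lit 3, nat_lit 10, nat_lit 0, nat_lit 16, nat_lit 8, nat_lit 12, nat_lit 15, nat_lit 17, nat_lit 18, nat_lit 16] (Rl.cmp (nat_lit 3004) (nat_lit 3992))))))) (FT.node (nat_lit 5546) (FT.node (nat_lit 5544) (FT.leaf (Fct.mk false (nat_lit 33) (nat_lit 0) (nat_lit 33) [nat_lit 3, nat_lit 8, nat_lit 2, nat_lit 3, nat_lit 4, nat_lit 1, nat_lit 2, nat_lit 3, nat_lit 8, nat_lit 5, nat_lit 6, nat_lit 4, nat_lit 5, nat_lit 3, nat_lit 4, nat_lit 2, nat_lit 3, nat_lit 8, nat_lit 1, nat_lit 2, nat_lit 3, nat_lit 4, nat_lit 5, nat_lit 6, nat_lit 7, nat_lit 3, nat_lit 8, nat_lit 2, nat_lit 3, nat_lit 4, nat_lit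 5, nat_lit 3, nat_lit 2, nat_lit 1, nat_lit 8, nat_lit 3, nat_lit 2, nat_lit 0, nat_lit 1, nat_lit 4, nat_lit 3, nat_lit 2, nat_lit 8, nat_lit 3, nat_lit 8, nat_lit 10, nat_lit 0, nat_lit 16, nat_lit 14, nat_lit 13, nat_lit 12, nat_lit 18] (Rl.cmp (nat_lit 4456) (nat_lit 4850)))) (FT.node (nat_lit 5545) (FT.leaf (Fct.mk false (nat_lit 33) (nat_lit 0) (nat_lit 33) [nat_lit 2, nat_lit 3, nat_lit 4, nat_lit 1, nat_lit 2, nat_lit 3, nat_lit 8, nat_lit 6, nat_lit 7, nat_lit 5, nat_lit 6, nat_lit 4, nat_lit 5, nat_lit 3, nat_lit 4, nat_lit 2, nat_lit 3, nat_lit 8, nat_lit 1, nat_lit 2, nat_lit 3, nat_lit 4, nat_lit 5, nat_lit 6, nat_lit 7, nat_lit 8, nat_lit 2, nat_lit 3, nat_lit 4, nat_lit 1, nat_lit 2, nat_lit 3, nat_lit 8, nat_lit 5, nat_lit 6, nat_lit 4, nat_lit 5, nat_lit 3, nat_lit 4, nat_lit 2, nat_lit 3, nat_lit 8, nat_lit 1, nat_lit 2, nat_lit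 3, nat_lit 4, nat_lit 5, nat_lit 4, nat_lit 3, nat_lit 2, nat_lit 8, nat_lit 3, nat_lit 2, nat_lit 10, nat_lit 1, nat_lit 16, nat_lit 8, nat_lit 18] (Rl.cmp (nat_lit 4456) (nat_lit 5543)))) (FT.leaf (Fct.mk false (nat_lit 33) (nat_lit 0) (nat_lit 33) [nat_lit 4, nat_lit 3, nat_lit 8, nat_lit 2, nat_lit 3, nat_lit 4, nat_lit 1, nat_lit 2, nat_lit 3, nat_lit 8, nat_lit 0, nat_lit 1, nat_lit 2, nat_lit 3, nat_lit 4, nat_lit 5, nat_lit 6, nat_lit 7, nat_lit 2, nat_lit 3, nat_lit 8, nat_lit 4, nat_lit 5, nat_lit 3, nat_lit 4, nat_lit 2, nat_lit 3, nat_lit 8, nat_lit 1, nat_lit 2, nat_lit 3, nat_lit 4, nat_lit 5, nat_lit 9, nat_lit 4, nat_lit 15, nat_lit 14, nat_lit 12, nat_lit 19, nat_lit 16] (Rl.cmp (nat_lit 4605) (nat_lit 5544)))))) (FT.node (nat_lit 5548) (FT.node (nat_lit 5547) (FT.leaf (Fct.mk true (nat_lit 33) (nat_lit 39558) (nat_lit 33)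 [nat_lit 4, nat_lit 3, nat_lit 8, nat_lit 2, nat_lit 3, nat_lit 4, nat_lit 1, nat_lit 2, nat_lit 3, nat_lit 8, nat_lit 0, nat_lit 1, nat_lit 2, nat_lit 3, nat_lit 4, nat_lit 5, nat_lit 6, nat_lit 7, nat_lit 6, nat_lit 5, nat_lit 4, nat_lit 1, nat_lit 2, nat_lit 3, nat_lit 8, nat_lit 0, nat_lit 1, nat_lit 2, nat_lit 3, nat_lit 4, nat_lit 5, nat_lit 4, nat_lit 3, nat_lit 2, nat_lit 1, nat_lit 9, nat_lit 4, nat_lit 3, nat_lit 2, nat_lit 8, nat_lit 3, nat_lit 11, nat_lit 8, nat_lit 12, nat_lit 15, nat_lit 13, nat_lit 12, nat_lit 18, nat_lit 16] (Rl.rel (nat_lit 0) [nat_lit 8, nat_lit 3, nat_lit 4, nat_lit 2, nat_lit 3, nat_lit 8, nat_lit 1, nat_lit 2, nat_lit 3, nat_lit 4, nat_lit 5, nat_lit 0, nat_lit 1, nat_lit 2, nat_lit 3, nat_lit 1, nat_lit 9, nat_lit 16, nat_lit 8, nat_lit 12, nat_lit 15, nat_lit 8] (nat_lit 33) (nat_lit 2) [nat_lit 5538,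 nat_lit 5542, nat_lit 4429] []))) (FT.leaf (Fct.mk true (nat_lit 33) (nat_lit 101) (nat_lit 33) [nat_lit 1, nat_lit 2, nat_lit 3, nat_lit 8, nat_lit 4, nat_lit 5, nat_lit 3, nat_lit 4, nat_lit 2, nat_lit 3, nat_lit 8, nat_lit 1, nat_lit 2, nat_lit 3, nat_lit 4, nat_lit 5, nat_lit 0, nat_lit 1, nat_lit 2, nat_lit 3, nat_lit 8, nat_lit 10, nat_lit 14, nat_lit 8] (Rl.t1 (nat_lit 5546) (nat_lit 5545))))) (FT.node (nat_lit 5549) (FT.leaf (Fct.mk false (nat_lit 32) (nat_lit 0) (nat_lit 32) [nat_lit 3, nat_lit 8, nat_lit 5, nat_lit 2, nat_lit 3, nat_lit 4, nat_lit 1, nat_lit 2, nat_lit 3, nat_lit 8, nat_lit 6, nat_lit 7, nat_lit 5, nat_lit 6, nat_lit 4, nat_lit 5, nat_lit 3, nat_lit 4, nat_lit 2, nat_lit 3, nat_lit 8, nat_lit 1, nat_lit 2, nat_lit 3, nat_lit 4, nat_lit 5, nat_lit 6, nat_lit 7, nat_lit 8, nat_lit 3, nat_lit 4, nat_lit 2, nat_lit 3,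 nat_lit 8, nat_lit 1, nat_lit 2, nat_lit 3, nat_lit 4, nat_lit 5, nat_lit 4, nat_lit 3, nat_lit 2, nat_lit 0, nat_lit 1, nat_lit 9, nat_lit 4, nat_lit 3, nat_lit 2, nat_lit 8, nat_lit 3, nat_lit 0, nat_lit 16, nat_lit 12, nat_lit 15, nat_lit 14, nat_lit 12, nat_lit 19, nat_lit 16] (Rl.cmp (nat_lit 3047) (nat_lit 4172)))) (FT.leaf (Fct.mk false (nat_lit 32) (nat_lit 0) (nat_lit 32) [nat_lit 3, nat_lit 8, nat_lit 5, nat_lit 2, nat_lit 3, nat_lit 4, nat_lit 1, nat_lit 2, nat_lit 3, nat_lit 8, nat_lit 6, nat_lit 7, nat_lit 5, nat_lit 6, nat_lit 4, nat_lit 5, nat_lit 3, nat_lit 4, nat_lit 2, nat_lit 3, nat_lit 8, nat_lit 1, nat_lit 2, nat_lit 3, nat_lit 4, nat_lit 5, nat_lit 6, nat_lit 7, nat_lit 5, nat_lit 4, nat_lit 2, nat_lit 3, nat_lit 8, nat_lit 1, nat_lit 2, nat_lit 3, nat_lit 4, nat_lit 5, nat_lit 2, nat_lit 3, nat_lit 8, nat_lit 4, nat_lit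 3, nat_lit 2, nat_lit 1, nat_lit 9, nat_lit 4, nat_lit 3, nat_lit 2, nat_lit 8, nat_lit 3, nat_lit 11, nat_lit 10, nat_lit 2, nat_lit 8, nat_lit 10, nat_lit 1, nat_lit 15, nat_lit 14, nat_lit 13] (Rl.cmp (nat_lit 3047) (nat_lit 5548)))))))))

/-- some facts -/
noncomputable def ftc111 : FT := FT.node (nat_lit 5575) (FT.node (nat_lit 5562) (FT.node (nat_lit 5556) (FT.node (nat_lit 5553) (FT.node (nat_lit 5551) (FT.leaf (Fct.mk false (nat_lit 33) (nat_lit 0) (nat_lit 33) [nat_lit 2, nat_lit 3, nat_lit 4, nat_lit 5, nat_lit 6, nat_lit 7, nat_lit 5, nat_lit 3, nat_lit 4, nat_lit 2, nat_lit 3, nat_lit 8, nat_lit 0, nat_lit 1, nat_lit 2, nat_lit 3, nat_lit 4, nat_lit 5, nat_lit 4, nat_lit 3, nat_lit 2, nat_lit 0, nat_lit 1, nat_lit 9, nat_lit 4, nat_lit 3, nat_lit 2, nat_lit 8, nat_lit 3, nat_lit 9, nat_lit 10, nat_lit 2, nat_lit 8, nat_lit 10, nat_lit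 1, nat_lit 16, nat_lit 15, nat_lit 14, nat_lit 17, nat_lit 12] (Rl.cmp (nat_lit 4400) (nat_lit 4605)))) (FT.node (nat_lit 5552) (FT.leaf (Fct.mk false (nat_lit 33) (nat_lit 0) (nat_lit 33) [nat_lit 7, nat_lit 5, nat_lit 6, nat_lit 4, nat_lit 5, nat_lit 3, nat_lit 4, nat_lit 2, nat_lit 3, nat_lit 8, nat_lit 1, nat_lit 2, nat_lit 3, nat_lit 4, nat_lit 5, nat_lit 6, nat_lit 7, nat_lit 6, nat_lit 5, nat_lit 3, nat_lit 4, nat_lit 2, nat_lit 3, nat_lit 8, nat_lit 0, nat_lit 1, nat_lit 2, nat_lit 3, nat_lit 4, nat_lit 5, nat_lit 8, nat_lit 4, nat_lit 3, nat_lit 2, nat_lit 0, nat_lit 1, nat_lit 9, nat_lit 4, nat_lit 3, nat_lit 2, nat_lit 8, nat_lit 3, nat_lit 0, nat_lit 2, nat_lit 15, nat_lit 13, nat_lit 12, nat_lit 19] (Rl.cmp (nat_lit 4456) (nat_lit 5550)))) (FT.leaf (Fct.mk false (nat_lit 33) (nat_lit 0) (nat_lit 33) [nat_lit 3, nat_lit 8, nat_lit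 4, nat_lit 5, nat_lit 3, nat_lit 4, nat_lit 1, nat_lit 2, nat_lit 3, nat_lit 8, nat_lit 0, nat_lit 1, nat_lit 2, nat_lit 3, nat_lit 4, nat_lit 5, nat_lit 6, nat_lit 7, nat_lit 5, nat_lit 2, nat_lit 3, nat_lit 4, nat_lit 1, nat_lit 2, nat_lit 3, nat_lit 8, nat_lit 0, nat_lit 1, nat_lit 2, nat_lit 3, nat_lit 4, nat_lit 5, nat_lit 8, nat_lit 4, nat_lit 3, nat_lit 2, nat_lit 1, nat_lit 9, nat_lit 4, nat_lit 3, nat_lit 2, nat_lit 8, nat_lit 3, nat_lit 0, nat_lit 12, nat_lit 8, nat_lit 16, nat_lit 14, nat_lit 17, nat_lit 19, nat_lit 16] (Rl.cmp (nat_lit 4456) (nat_lit 5551)))))) (FT.node (nat_lit 5554) (FT.leaf (Fct.mk true (nat_lit 5) (nat_lit 9179) (nat_lit 33) [nat_lit 8, nat_lit 7, nat_lit 5, nat_lit 6, nat_lit 4, nat_lit 5, nat_lit 3, nat_lit 4, nat_lit 2, nat_lit 3, nat_lit 8, nat_lit 1, nat_lit 2, nat_lit 3, nat_lit 4, nat_lit 5, nat_lit 6,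 nat_lit 7, nat_lit 8, nat_lit 5, nat_lit 3, nat_lit 4, nat_lit 1, nat_lit 2, nat_lit 3, nat_lit 8, nat_lit 0, nat_lit 1, nat_lit 2, nat_lit 3, nat_lit 4, nat_lit 5, nat_lit 1, nat_lit 8, nat_lit 3, nat_lit 2, nat_lit 0, nat_lit 1, nat_lit 4, nat_lit 3, nat_lit 2, nat_lit 8, nat_lit 3, nat_lit 2, nat_lit 10, nat_lit 1, nat_lit 15, nat_lit 14, nat_lit 17, nat_lit 12, nat_lit 18] (Rl.rel (nat_lit 0) [nat_lit 8, nat_lit 3, nat_lit 4, nat_lit 5, nat_lit 6, nat_lit 7, nat_lit 8, nat_lit 2, nat_lit 3, nat_lit 4, nat_lit 5, nat_lit 1, nat_lit 2, nat_lit 8, nat_lit 3, nat_lit 2, nat_lit 10, nat_lit 1, nat_lit 8, nat_lit 12, nat_lit 15, nat_lit 8] (nat_lit 33) (nat_lit 2) [nat_lit 5538, nat_lit 5549, nat_lit 3814] []))) (FT.node (nat_lit 5555) (FT.leaf (Fct.mk true (nat_lit 5) (nat_lit 553) (nat_lit 33) [nat_lit 1, nat_lit 2, nat_lit 3, nat_lit 8, nat_lit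 7, nat_lit 6, nat_lit 4, nat_lit 5, nat_lit 3, nat_lit 4, nat_lit 2, nat_lit 3, nat_lit 8, nat_lit 1, nat_lit 2, nat_lit 3, nat_lit 4, nat_lit 5, nat_lit 6, nat_lit 7, nat_lit 8, nat_lit 2, nat_lit 3, nat_lit 4, nat_lit 1, nat_lit 2, nat_lit 3, nat_lit 8, nat_lit 0, nat_lit 1, nat_lit 2, nat_lit 3, nat_lit 4, nat_lit 5, nat_lit 1, nat_lit 8, nat_lit 3, nat_lit 2, nat_lit 0, nat_lit 1, nat_lit 4, nat_lit 3, nat_lit 2, nat_lit 8, nat_lit 3, nat_lit 2, nat_lit 8, nat_lit 10, nat_lit 1, nat_lit 15, nat_lit 14, nat_lit 17, nat_lit 12, nat_lit 18] (Rl.t1 (nat_lit 5553) (nat_lit 2753)))) (FT.leaf (Fct.mk true (nat_lit 33) (nat_lit 76844) (nat_lit 5) [nat_lit 7, nat_lit 6, nat_lit 5, nat_lit 3, nat_lit 4, nat_lit 2, nat_lit 3, nat_lit 8, nat_lit 1, nat_lit 2, nat_lit 3, nat_lit 4, nat_lit 5, nat_lit 6, nat_lit 7, nat_lit 8, nat_lit 6, nat_lit 5, nat_lit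 3, nat_lit 4, nat_lit 1, nat_lit 2, nat_lit 3, nat_lit 8, nat_lit 0, nat_lit 1, nat_lit 2, nat_lit 3, nat_lit 4, nat_lit 5, nat_lit 3, nat_lit 2, nat_lit 1, nat_lit 9, nat_lit 4, nat_lit 3, nat_lit 2, nat_lit 8, nat_lit 3, nat_lit 10, nat_lit 9, nat_lit 2, nat_lit 8, nat_lit 16, nat_lit 14, nat_lit 13, nat_lit 16] (Rl.inv (nat_lit 5554))))))) (FT.node (nat_lit 5559) (FT.node (nat_lit 5557) (FT.leaf (Fct.mk true (nat_lit 33) (nat_lit 143) (nat_lit 5) [nat_lit 8, nat_lit 5, nat_lit 2, nat_lit 3, nat_lit 4, nat_lit 1, nat_lit 2, nat_lit 3, nat_lit 8, nat_lit 0, nat_lit 1, nat_lit 2, nat_lit 3, nat_lit 4, nat_lit 5, nat_lit 6, nat_lit 7, nat_lit 6, nat_lit 5, nat_lit 4, nat_lit 3, nat_lit 8, nat_lit 2, nat_lit 3, nat_lit 4, nat_lit 1, nat_lit 2, nat_lit 3, nat_lit 8, nat_lit 5, nat_lit 6, nat_lit 4, nat_lit 5, nat_lit 3, nat_lit 4, nat_lit 2, nat_lit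 3, nat_lit 8, nat_lit 1, nat_lit 2, nat_lit 3, nat_lit 4, nat_lit 5, nat_lit 2, nat_lit 0, nat_lit 1, nat_lit 3, nat_lit 2, nat_lit 8, nat_lit 3, nat_lit 11, nat_lit 12, nat_lit 8, nat_lit 16, nat_lit 14, nat_lit 8] (Rl.t1 (nat_lit 5555) (nat_lit 5552)))) (FT.node (nat_lit 5558) (FT.leaf (Fct.mk false (nat_lit 32) (nat_lit 0) (nat_lit 32) [nat_lit 3, nat_lit 8, nat_lit 5, nat_lit 2, nat_lit 3, nat_lit 4, nat_lit 1, nat_lit 2, nat_lit 3, nat_lit 8, nat_lit 6, nat_lit 7, nat_lit 5, nat_lit 6, nat_lit 4, nat_lit 5, nat_lit 3, nat_lit 4, nat_lit 2, nat_lit 3, nat_lit 8, nat_lit 1, nat_lit 2, nat_lit 3, nat_lit 4, nat_lit 5, nat_lit 6, nat_lit 7, nat_lit 8, nat_lit 3, nat_lit 4, nat_lit 2, nat_lit 3, nat_lit 8, nat_lit 1, nat_lit 2, nat_lit 3, nat_lit 4, nat_lit 5, nat_lit 3, nat_lit 2, nat_lit 0, nat_lit 1, nat_lit 9, nat_lit 4, nat_lit 3, nat_lit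 2, nat_lit 8, nat_lit 3, nat_lit 8, nat_lit 10, nat_lit 9, nat_lit 2, nat_lit 15, nat_lit 14, nat_lit 17, nat_lit 12, nat_lit 19] (Rl.cmp (nat_lit 3004) (nat_lit 4332)))) (FT.leaf (Fct.mk false (nat_lit 32) (nat_lit 0) (nat_lit 32) [nat_lit 3, nat_lit 8, nat_lit 5, nat_lit 2, nat_lit 3, nat_lit 4, nat_lit 1, nat_lit 2, nat_lit 3, nat_lit 8, nat_lit 6, nat_lit 7, nat_lit 5, nat_lit 6, nat_lit 4, nat_lit 5, nat_lit 3, nat_lit 4, nat_lit 2, nat_lit 3, nat_lit 8, nat_lit 1, nat_lit 2, nat_lit 3, nat_lit 4, nat_lit 5, nat_lit 6, nat_lit 7, nat_lit 2, nat_lit 3, nat_lit 8, nat_lit 1, nat_lit 2, nat_lit 3, nat_lit 4, nat_lit 5, nat_lit 1, nat_lit 3, nat_lit 2, nat_lit 0, nat_lit 1, nat_lit 9, nat_lit 4, nat_lit 3, nat_lit 2, nat_lit 8, nat_lit 3, nat_lit 9, nat_lit 10, nat_lit 2, nat_lit 8, nat_lit 10, nat_lit 1, nat_lit 14, nat_lit 13, nat_lit 12]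 (Rl.cmp (nat_lit 3010) (nat_lit 5557)))))) (FT.node (nat_lit 5560) (FT.leaf (Fct.mk false (nat_lit 33) (nat_lit 0) (nat_lit 33) [nat_lit 102] (Rl.cmp (nat_lit 4402) (nat_lit 4400)))) (FT.node (nat_lit 5561) (FT.leaf (Fct.mk false (nat_lit 33) (nat_lit 0) (nat_lit 33) [nat_lit 3, nat_lit 8, nat_lit 2, nat_lit 3, nat_lit 4, nat_lit 1, nat_lit 2, nat_lit 3, nat_lit 8, nat_lit 7, nat_lit 5, nat_lit 6, nat_lit 4, nat_lit 5, nat_lit 3, nat_lit 4, nat_lit 2, nat_lit 3, nat_lit 8, nat_lit 1, nat_lit 2, nat_lit 3, nat_lit 4, nat_lit 5, nat_lit 6, nat_lit 7, nat_lit 4, nat_lit 2, nat_lit 3, nat_lit 8, nat_lit 1, nat_lit 2, nat_lit 3, nat_lit 4, nat_lit 5, nat_lit 3, nat_lit 2, nat_lit 0, nat_lit 1, nat_lit 4, nat_lit 3, nat_lit 2, nat_lit 8, nat_lit 3, nat_lit 2, nat_lit 17, nat_lit 19, nat_lit 16] (Rl.cmp (nat_lit 4605) (nat_lit 5559)))) (FT.leaf (Fct.mk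 false (nat_lit 33) (nat_lit 0) (nat_lit 33) [nat_lit 8, nat_lit 5, nat_lit 3, nat_lit 4, nat_lit 2, nat_lit 3, nat_lit 8, nat_lit 1, nat_lit 2, nat_lit 3, nat_lit 4, nat_lit 5, nat_lit 6, nat_lit 7, nat_lit 3, nat_lit 8, nat_lit 2, nat_lit 3, nat_lit 4, nat_lit 1, nat_lit 2, nat_lit 3, nat_lit 8, nat_lit 0, nat_lit 1, nat_lit 2, nat_lit 3, nat_lit 4, nat_lit 5, nat_lit 2, nat_lit 1, nat_lit 3, nat_lit 2, nat_lit 8, nat_lit 3, nat_lit 8, nat_lit 10, nat_lit 1, nat_lit 12, nat_lit 15, nat_lit 17, nat_lit 18] (Rl.cmp (nat_lit 4456) (nat_lit 5560)))))))) (FT.node (nat_lit 5568) (FT.node (nat_lit 5565) (FT.node (nat_lit 5563) (FT.leaf (Fct.mk false (nat_lit 33) (nat_lit 0) (nat_lit 33) [nat_lit 5, nat_lit 4, nat_lit 3, nat_lit 8, nat_lit 2, nat_lit 3, nat_lit 4, nat_lit 1, nat_lit 2, nat_lit 3, nat_lit 8, nat_lit 7, nat_lit 5, nat_lit 6, nat_lit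 4, nat_lit 5, nat_lit 3, nat_lit 4, nat_lit 2, nat_lit 3, nat_lit 8, nat_lit 1, nat_lit 2, nat_lit 3, nat_lit 4, nat_lit 5, nat_lit 6, nat_lit 7, nat_lit 8, nat_lit 4, nat_lit 5, nat_lit 3, nat_lit 4, nat_lit 1, nat_lit 2, nat_lit 3, nat_lit 8, nat_lit 0, nat_lit 1, nat_lit 2, nat_lit 3, nat_lit 4, nat_lit 5, nat_lit 1, nat_lit 2, nat_lit 8, nat_lit 3, nat_lit 11, nat_lit 10, nat_lit 2, nat_lit 8, nat_lit 10, nat_lit 1, nat_lit 15, nat_lit 14, nat_lit 13, nat_lit 19, nat_lit 16] (Rl.cmp (nat_lit 4402) (nat_lit 5561)))) (FT.node (nat_lit 5564) (FT.leaf (Fct.mk false (nat_lit 33) (nat_lit 0) (nat_lit 33) [nat_lit 4, nat_lit 3, nat_lit 8, nat_lit 0, nat_lit 1, nat_lit 2, nat_lit 3, nat_lit 4, nat_lit 5, nat_lit 1, nat_lit 2, nat_lit 3, nat_lit 8, nat_lit 10, nat_lit 0, nat_lit 8, nat_lit 12, nat_lit 15, nat_lit 12, nat_lit 18] (Rl.cmp (nat_lit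 4605) (nat_lit 5562)))) (FT.leaf (Fct.mk true (nat_lit 5) (nat_lit 61096) (nat_lit 33) [nat_lit 3, nat_lit 8, nat_lit 5, nat_lit 2, nat_lit 3, nat_lit 4, nat_lit 1, nat_lit 2, nat_lit 3, nat_lit 8, nat_lit 0, nat_lit 1, nat_lit 2, nat_lit 3, nat_lit 4, nat_lit 5, nat_lit 6, nat_lit 7, nat_lit 5, nat_lit 4, nat_lit 3, nat_lit 8, nat_lit 0, nat_lit 1, nat_lit 2, nat_lit 3, nat_lit 4, nat_lit 5, nat_lit 1, nat_lit 4, nat_lit 3, nat_lit 2, nat_lit 8, nat_lit 3, nat_lit 11, nat_lit 2, nat_lit 10, nat_lit 1, nat_lit 16, nat_lit 12, nat_lit 15, nat_lit 14, nat_lit 17, nat_lit 12, nat_lit 18] (Rl.rel (nat_lit 0) [nat_lit 8, nat_lit 3, nat_lit 4, nat_lit 5, nat_lit 6, nat_lit 7, nat_lit 2, nat_lit 3, nat_lit 8, nat_lit 1, nat_lit 2, nat_lit 3, nat_lit 4, nat_lit 5, nat_lit 0, nat_lit 1, nat_lit 2, nat_lit 3, nat_lit 1, nat_lit 8, nat_lit 12, nat_lit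 15, nat_lit 8] (nat_lit 33) (nat_lit 2) [nat_lit 5538, nat_lit 5558, nat_lit 3893] []))))) (FT.node (nat_lit 5566) (FT.leaf (Fct.mk true (nat_lit 5) (nat_lit 253) (nat_lit 33) [nat_lit 6, nat_lit 5, nat_lit 4, nat_lit 1, nat_lit 2, nat_lit 3, nat_lit 8, nat_lit 0, nat_lit 1, nat_lit 2, nat_lit 3, nat_lit 4, nat_lit 5, nat_lit 6, nat_lit 7, nat_lit 3, nat_lit 8, nat_lit 4, nat_lit 5, nat_lit 3, nat_lit 4, nat_lit 2, nat_lit 3, nat_lit 8, nat_lit 0, nat_lit 1, nat_lit 2, nat_lit 3, nat_lit 4, nat_lit 5, nat_lit 2, nat_lit 1, nat_lit 3, nat_lit 2, nat_lit 0, nat_lit 1, nat_lit 4, nat_lit 3, nat_lit 2, nat_lit 8, nat_lit 3, nat_lit 9, nat_lit 19, nat_lit 16] (Rl.t1 (nat_lit 5564) (nat_lit 2853)))) (FT.node (nat_lit 5567) (FT.leaf (Fct.mk true (nat_lit 33) (nat_lit 4292) (nat_lit 5) [nat_lit 8, nat_lit 2, nat_lit 3, nat_lit 4, nat_lit 5, nat_lit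 6, nat_lit 7, nat_lit 4, nat_lit 5, nat_lit 3, nat_lit 4, nat_lit 1, nat_lit 2, nat_lit 3, nat_lit 8, nat_lit 0, nat_lit 1, nat_lit 2, nat_lit 3, nat_lit 4, nat_lit 5, nat_lit 1, nat_lit 8, nat_lit 3, nat_lit 2, nat_lit 0, nat_lit 1, nat_lit 4, nat_lit 3, nat_lit 2, nat_lit 8, nat_lit 3, nat_lit 11, nat_lit 2, nat_lit 10, nat_lit 1, nat_lit 15, nat_lit 12, nat_lit 19, nat_lit 16] (Rl.inv (nat_lit 5565)))) (FT.leaf (Fct.mk true (nat_lit 33) (nat_lit 448) (nat_lit 5) [nat_lit 8, nat_lit 4, nat_lit 5, nat_lit 3, nat_lit 4, nat_lit 2, nat_lit 3, nat_lit 8, nat_lit 0, nat_lit 1, nat_lit 2, nat_lit 3, nat_lit 4, nat_lit 5, nat_lit 6, nat_lit 7, nat_lit 8, nat_lit 5, nat_lit 3, nat_lit 4, nat_lit 1, nat_lit 2, nat_lit 3, nat_lit 8, nat_lit 0, nat_lit 1, nat_lit 2, nat_lit 3, nat_lit 4, nat_lit 5, nat_lit 3, nat_lit 2, nat_lit 8, nat_lit 3, nat_lit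 9, nat_lit 15, nat_lit 14, nat_lit 17] (Rl.t1 (nat_lit 5566) (nat_lit 5563))))))) (FT.node (nat_lit 5571) (FT.node (nat_lit 5569) (FT.leaf (Fct.mk false (nat_lit 33) (nat_lit 0) (nat_lit 33) [nat_lit 5, nat_lit 4, nat_lit 3, nat_lit 8, nat_lit 2, nat_lit 3, nat_lit 4, nat_lit 1, nat_lit 2, nat_lit 3, nat_lit 8, nat_lit 5, nat_lit 6, nat_lit 4, nat_lit 5, nat_lit 3, nat_lit 4, nat_lit 2, nat_lit 3, nat_lit 8, nat_lit 1, nat_lit 2, nat_lit 3, nat_lit 4, nat_lit 5, nat_lit 6, nat_lit 7, nat_lit 4, nat_lit 2, nat_lit 3, nat_lit 8, nat_lit 0, nat_lit 1, nat_lit 2, nat_lit 3, nat_lit 4, nat_lit 5, nat_lit 1, nat_lit 4, nat_lit 3, nat_lit 2, nat_lit 8, nat_lit 3, nat_lit 11, nat_lit 10, nat_lit 2, nat_lit 8, nat_lit 10, nat_lit 1, nat_lit 12, nat_lit 15, nat_lit 16, nat_lit 8, nat_lit 19, nat_lit 16] (Rl.cmp (nat_lit 4402) (nat_lit 5475)))) (FT.node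 (nat_lit 5570) (FT.leaf (Fct.mk false (nat_lit 33) (nat_lit 0) (nat_lit 33) [nat_lit 4, nat_lit 1, nat_lit 2, nat_lit 3, nat_lit 8, nat_lit 0, nat_lit 1, nat_lit 2, nat_lit 3, nat_lit 4, nat_lit 5, nat_lit 6, nat_lit 7, nat_lit 3, nat_lit 8, nat_lit 6, nat_lit 5, nat_lit 2, nat_lit 3, nat_lit 4, nat_lit 1, nat_lit 2, nat_lit 3, nat_lit 8, nat_lit 0, nat_lit 1, nat_lit 2, nat_lit 3, nat_lit 4, nat_lit 5, nat_lit 2, nat_lit 0, nat_lit 1, nat_lit 9, nat_lit 4, nat_lit 3, nat_lit 2, nat_lit 8, nat_lit 3, nat_lit 10, nat_lit 16, nat_lit 8, nat_lit 12, nat_lit 15, nat_lit 16, nat_lit 8, nat_lit 18, nat_lit 16] (Rl.cmp (nat_lit 4605) (nat_lit 5568)))) (FT.leaf (Fct.mk true (nat_lit 25) (nat_lit 8061) (nat_lit 33) [nat_lit 5, nat_lit 6, nat_lit 7, nat_lit 8, nat_lit 4, nat_lit 5, nat_lit 3, nat_lit 4, nat_lit 1, nat_lit 2, nat_lit 3, nat_lit 8, nat_lit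 0, nat_lit 1, nat_lit 2, nat_lit 3, nat_lit 4, nat_lit 5, nat_lit 3, nat_lit 2, nat_lit 1, nat_lit 4, nat_lit 3, nat_lit 2, nat_lit 8, nat_lit 3, nat_lit 1, nat_lit 9, nat_lit 8, nat_lit 12, nat_lit 15, nat_lit 14, nat_lit 13, nat_lit 19] (Rl.rel (nat_lit 0) [nat_lit 8, nat_lit 3, nat_lit 4, nat_lit 5, nat_lit 6, nat_lit 7, nat_lit 2, nat_lit 3, nat_lit 8, nat_lit 1, nat_lit 2, nat_lit 3, nat_lit 4, nat_lit 5, nat_lit 3, nat_lit 2, nat_lit 8, nat_lit 3, nat_lit 2, nat_lit 10, nat_lit 1, nat_lit 16, nat_lit 8, nat_lit 12, nat_lit 15, nat_lit 13, nat_lit 19] (nat_lit 33) (nat_lit 2) [nat_lit 5538, nat_lit 4380, nat_lit 3042] []))))) (FT.node (nat_lit 5573) (FT.node (nat_lit 5572) (FT.leaf (Fct.mk true (nat_lit 25) (nat_lit 47) (nat_lit 33) [nat_lit 8, nat_lit 7, nat_lit 5, nat_lit 6, nat_lit 4, nat_lit 5, nat_lit 3, nat_lit 4, nat_lit 2, nat_lit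 3, nat_lit 8, nat_lit 1, nat_lit 2, nat_lit 3, nat_lit 4, nat_lit 5, nat_lit 6, nat_lit 7, nat_lit 5, nat_lit 4, nat_lit 2, nat_lit 3, nat_lit 8, nat_lit 1, nat_lit 2, nat_lit 3, nat_lit 4, nat_lit 5, nat_lit 8, nat_lit 3, nat_lit 2, nat_lit 1, nat_lit 9, nat_lit 4, nat_lit 3, nat_lit 2, nat_lit 8, nat_lit 3, nat_lit 1, nat_lit 8, nat_lit 12, nat_lit 15, nat_lit 13, nat_lit 19] (Rl.t1 (nat_lit 5570) (nat_lit 4379)))) (FT.leaf (Fct.mk true (nat_lit 33) (nat_lit 79989) (nat_lit 25) [nat_lit 5, nat_lit 4, nat_lit 3, nat_lit 8, nat_lit 6, nat_lit 7, nat_lit 5, nat_lit 6, nat_lit 4, nat_lit 5, nat_lit 3, nat_lit 4, nat_lit 1, nat_lit 2, nat_lit 3, nat_lit 8, nat_lit 0, nat_lit 1, nat_lit 2, nat_lit 3, nat_lit 4, nat_lit 5, nat_lit 6, nat_lit 7, nat_lit 5, nat_lit 3, nat_lit 4, nat_lit 2, nat_lit 3, nat_lit 8, nat_lit 1, nat_lit 2, nat_lit 3, nat_lit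 4, nat_lit 5, nat_lit 1, nat_lit 2, nat_lit 3, nat_lit 8, nat_lit 4, nat_lit 3, nat_lit 2, nat_lit 1, nat_lit 9, nat_lit 4, nat_lit 3, nat_lit 2, nat_lit 8, nat_lit 3, nat_lit 10, nat_lit 1, nat_lit 12, nat_lit 8, nat_lit 16, nat_lit 14, nat_lit 19] (Rl.inv (nat_lit 5571))))) (FT.node (nat_lit 5574) (FT.leaf (Fct.mk true (nat_lit 33) (nat_lit 173) (nat_lit 25) [nat_lit 3, nat_lit 8, nat_lit 5, nat_lit 6, nat_lit 4, nat_lit 5, nat_lit 3, nat_lit 4, nat_lit 1, nat_lit 2, nat_lit 3, nat_lit 8, nat_lit 0, nat_lit 1, nat_lit 2, nat_lit 3, nat_lit 4, nat_lit 5, nat_lit 6, nat_lit 7, nat_lit 8, nat_lit 5, nat_lit 2, nat_lit 3, nat_lit 4, nat_lit 1, nat_lit 2, nat_lit 3, nat_lit 8, nat_lit 0, nat_lit 1, nat_lit 2, nat_lit 3, nat_lit 4, nat_lit 5, nat_lit 9, nat_lit 4, nat_lit 8, nat_lit 10, nat_lit 0, nat_lit 15, nat_lit 12, nat_lit 18, nat_lit 16]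 (Rl.t1 (nat_lit 5572) (nat_lit 5569)))) (FT.leaf (Fct.mk false (nat_lit 33) (nat_lit 0) (nat_lit 33) [nat_lit 5, nat_lit 2, nat_lit 3, nat_lit 4, nat_lit 1, nat_lit 2, nat_lit 3, nat_lit 8, nat_lit 0, nat_lit 1, nat_lit 2, nat_lit 3, nat_lit 4, nat_lit 5, nat_lit 6, nat_lit 7, nat_lit 8, nat_lit 6, nat_lit 4, nat_lit 5, nat_lit 3, nat_lit 4, nat_lit 1, nat_lit 2, nat_lit 3, nat_lit 8, nat_lit 0, nat_lit 1, nat_lit 2, nat_lit 3, nat_lit 4, nat_lit 5, nat_lit 2, nat_lit 1, nat_lit 9, nat_lit 4, nat_lit 3, nat_lit 2, nat_lit 8, nat_lit 3, nat_lit 1, nat_lit 0, nat_lit 2, nat_lit 16, nat_lit 15, nat_lit 14, nat_lit 18, nat_lit 16] (Rl.cmp (nat_lit 4605) (nat_lit 4456))))))))) (FT.node (nat_lit 5587) (FT.node (nat_lit 5581) (FT.node (nat_lit 5578) (FT.node (nat_lit 5576) (FT.leaf (Fct.mk false (nat_lit 33) (nat_lit 0) (nat_lit 33) [nat_lit 5, nat_lit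 2, nat_lit 3, nat_lit 4, nat_lit 1, nat_lit 2, nat_lit 3, nat_lit 8, nat_lit 6, nat_lit 7, nat_lit 5, nat_lit 6, nat_lit 4, nat_lit 5, nat_lit 3, nat_lit 4, nat_lit 2, nat_lit 3, nat_lit 8, nat_lit 1, nat_lit 2, nat_lit 3, nat_lit 4, nat_lit 5, nat_lit 6, nat_lit 7, nat_lit 3, nat_lit 8, nat_lit 2, nat_lit 3, nat_lit 4, nat_lit 1, nat_lit 2, nat_lit 3, nat_lit 8, nat_lit 5, nat_lit 6, nat_lit 4, nat_lit 5, nat_lit 3, nat_lit 4, nat_lit 2, nat_lit 3, nat_lit 8, nat_lit 1, nat_lit 2, nat_lit 3, nat_lit 4, nat_lit 5, nat_lit 1, nat_lit 8, nat_lit 3, nat_lit 2, nat_lit 0, nat_lit 1, nat_lit 4, nat_lit 3, nat_lit 2, nat_lit 8, nat_lit 3, nat_lit 1, nat_lit 16, nat_lit 14, nat_lit 17, nat_lit 12, nat_lit 18] (Rl.cmp (nat_lit 4605) (nat_lit 5390)))) (FT.node (nat_lit 5577) (FT.leaf (Fct.mk false (nat_lit 33) (nat_lit 0) (nat_lit 33) [nat_lit 8, nat_lit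 5, nat_lit 2, nat_lit 3, nat_lit 4, nat_lit 1, nat_lit 2, nat_lit 3, nat_lit 8, nat_lit 6, nat_lit 7, nat_lit 5, nat_lit 6, nat_lit 4, nat_lit 5, nat_lit 3, nat_lit 4, nat_lit 2, nat_lit 3, nat_lit 8, nat_lit 1, nat_lit 2, nat_lit 3, nat_lit 4, nat_lit 5, nat_lit 6, nat_lit 7, nat_lit 8, nat_lit 5, nat_lit 6, nat_lit 4, nat_lit 5, nat_lit 3, nat_lit 4, nat_lit 2, nat_lit 3, nat_lit 8, nat_lit 1, nat_lit 2, nat_lit 3, nat_lit 4, nat_lit 5, nat_lit 8, nat_lit 3, nat_lit 2, nat_lit 8, nat_lit 10, nat_lit 1, nat_lit 16, nat_lit 14, nat_lit 12, nat_lit 19] (Rl.cmp (nat_lit 4605) (nat_lit 5575)))) (FT.leaf (Fct.mk false (nat_lit 33) (nat_lit 0) (nat_lit 33) [nat_lit 6, nat_lit 7, nat_lit 5, nat_lit 6, nat_lit 3, nat_lit 4, nat_lit 5, nat_lit 2, nat_lit 3, nat_lit 4, nat_lit 1, nat_lit 2, nat_lit 3, nat_lit 8, nat_lit 0, nat_lit 1, nat_lit 2, nat_lit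 3, nat_lit 4, nat_lit 5, nat_lit 6, nat_lit 7, nat_lit 4, nat_lit 3, nat_lit 8, nat_lit 5, nat_lit 6, nat_lit 4, nat_lit 5, nat_lit 3, nat_lit 4, nat_lit 2, nat_lit 3, nat_lit 8, nat_lit 1, nat_lit 2, nat_lit 3, nat_lit 4, nat_lit 5, nat_lit 0, nat_lit 1, nat_lit 4, nat_lit 3, nat_lit 2, nat_lit 8, nat_lit 3, nat_lit 10, nat_lit 2, nat_lit 8, nat_lit 10, nat_lit 1, nat_lit 15, nat_lit 14, nat_lit 13, nat_lit 12, nat_lit 18, nat_lit 16] (Rl.cmp (nat_lit 4456) (nat_lit 5576)))))) (FT.node (nat_lit 5579) (FT.leaf (Fct.mk false (nat_lit 33) (nat_lit 0) (nat_lit 33) [nat_lit 8, nat_lit 5, nat_lit 6, nat_lit 4, nat_lit 5, nat_lit 2, nat_lit 3, nat_lit 4, nat_lit 1, nat_lit 2, nat_lit 3, nat_lit 8, nat_lit 0, nat_lit 1, nat_lit 2, nat_lit 3, nat_lit 4, nat_lit 5, nat_lit 6, nat_lit 7, nat_lit 3, nat_lit 8, nat_lit 1, nat_lit 2, nat_lit 3, nat_lit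 4, nat_lit 5, nat_lit 2, nat_lit 3, nat_lit 2, nat_lit 8, nat_lit 10, nat_lit 1, nat_lit 14, nat_lit 8, nat_lit 19] (Rl.cmp (nat_lit 4456) (nat_lit 5577)))) (FT.node (nat_lit 5580) (FT.leaf (Fct.mk false (nat_lit 33) (nat_lit 0) (nat_lit 33) [nat_lit 4, nat_lit 2, nat_lit 3, nat_lit 8, nat_lit 1, nat_lit 2, nat_lit 3, nat_lit 4, nat_lit 5, nat_lit 6, nat_lit 7, nat_lit 2, nat_lit 3, nat_lit 8, nat_lit 0, nat_lit 1, nat_lit 2, nat_lit 3, nat_lit 4, nat_lit 5, nat_lit 3, nat_lit 2, nat_lit 1, nat_lit 9, nat_lit 4, nat_lit 3, nat_lit 2, nat_lit 8, nat_lit 3, nat_lit 14, nat_lit 8, nat_lit 18] (Rl.cmp (nat_lit 4456) (nat_lit 4456)))) (FT.leaf (Fct.mk false (nat_lit 33) (nat_lit 0) (nat_lit 33) [nat_lit 4, nat_lit 3, nat_lit 8, nat_lit 7, nat_lit 5, nat_lit 6, nat_lit 4, nat_lit 5, nat_lit 3, nat_lit 4, nat_lit 2, nat_lit 3, nat_lit 8, nat_lit 1,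 nat_lit 2, nat_lit 3, nat_lit 4, nat_lit 5, nat_lit 6, nat_lit 7, nat_lit 3, nat_lit 4, nat_lit 2, nat_lit 3, nat_lit 8, nat_lit 0, nat_lit 1, nat_lit 2, nat_lit 3, nat_lit 4, nat_lit 5, nat_lit 1, nat_lit 2, nat_lit 0, nat_lit 1, nat_lit 3, nat_lit 2, nat_lit 8, nat_lit 3, nat_lit 0, nat_lit 12, nat_lit 15, nat_lit 12] (Rl.cmp (nat_lit 4400) (nat_lit 5579))))))) (FT.node (nat_lit 5584) (FT.node (nat_lit 5582) (FT.leaf (Fct.mk false (nat_lit 33) (nat_lit 0) (nat_lit 33) [nat_lit 5, nat_lit 2, nat_lit 3, nat_lit 4, nat_lit 1, nat_lit 2, nat_lit 3, nat_lit 8, nat_lit 0, nat_lit 1, nat_lit 2, nat_lit 3, nat_lit 4, nat_lit 5, nat_lit 6, nat_lit 7, nat_lit 2, nat_lit 3, nat_lit 8, nat_lit 6, nat_lit 4, nat_lit 5, nat_lit 3, nat_lit 4, nat_lit 2, nat_lit 3, nat_lit 8, nat_lit 0, nat_lit 1, nat_lit 2, nat_lit 3, nat_lit 4, nat_lit 5, nat_lit 3, nat_lit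 8, nat_lit 4, nat_lit 3, nat_lit 2, nat_lit 1, nat_lit 9, nat_lit 4, nat_lit 3, nat_lit 2, nat_lit 8, nat_lit 3, nat_lit 10, nat_lit 2, nat_lit 8, nat_lit 10, nat_lit 1, nat_lit 12, nat_lit 15, nat_lit 16, nat_lit 8] (Rl.cmp (nat_lit 4605) (nat_lit 5580)))) (FT.node (nat_lit 5583) (FT.leaf (Fct.mk false (nat_lit 33) (nat_lit 0) (nat_lit 33) [nat_lit 8, nat_lit 3, nat_lit 4, nat_lit 1, nat_lit 2, nat_lit 3, nat_lit 8, nat_lit 5, nat_lit 6, nat_lit 4, nat_lit 5, nat_lit 3, nat_lit 4, nat_lit 2, nat_lit 3, nat_lit 8, nat_lit 1, nat_lit 2, nat_lit 3, nat_lit 4, nat_lit 5, nat_lit 6, nat_lit 7, nat_lit 5, nat_lit 4, nat_lit 3, nat_lit 8, nat_lit 2, nat_lit 3, nat_lit 4, nat_lit 5, nat_lit 1, nat_lit 2, nat_lit 8, nat_lit 3, nat_lit 10, nat_lit 0, nat_lit 17, nat_lit 12] (Rl.cmp (nat_lit 4605) (nat_lit 5581)))) (FT.leaf (Fct.mk false (nat_lit 33)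 (nat_lit 0) (nat_lit 33) [nat_lit 5, nat_lit 2, nat_lit 3, nat_lit 4, nat_lit 1, nat_lit 2, nat_lit 3, nat_lit 8, nat_lit 6, nat_lit 7, nat_lit 5, nat_lit 6, nat_lit 4, nat_lit 5, nat_lit 3, nat_lit 4, nat_lit 2, nat_lit 3, nat_lit 8, nat_lit 1, nat_lit 2, nat_lit 3, nat_lit 4, nat_lit 5, nat_lit 6, nat_lit 7, nat_lit 8, nat_lit 3, nat_lit 4, nat_lit 2, nat_lit 3, nat_lit 8, nat_lit 0, nat_lit 1, nat_lit 2, nat_lit 3, nat_lit 4, nat_lit 5, nat_lit 1, nat_lit 2, nat_lit 8, nat_lit 3, nat_lit 8, nat_lit 10, nat_lit 9, nat_lit 2, nat_lit 16, nat_lit 14, nat_lit 16] (Rl.cmp (nat_lit 4456) (nat_lit 5582)))))) (FT.node (nat_lit 5585) (FT.leaf (Fct.mk true (nat_lit 25) (nat_lit 3663) (nat_lit 33) [nat_lit 8, nat_lit 6, nat_lit 5, nat_lit 3, nat_lit 4, nat_lit 1, nat_lit 2, nat_lit 3, nat_lit 8, nat_lit 0, nat_lit 1, nat_lit 2, nat_lit 3, nat_lit 4,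 nat_lit 5, nat_lit 6, nat_lit 7, nat_lit 8, nat_lit 6, nat_lit 5, nat_lit 2, nat_lit 3, nat_lit 4, nat_lit 1, nat_lit 2, nat_lit 3, nat_lit 8, nat_lit 0, nat_lit 1, nat_lit 2, nat_lit 3, nat_lit 4, nat_lit 5, nat_lit 1, nat_lit 4, nat_lit 3, nat_lit 2, nat_lit 8, nat_lit 3, nat_lit 11, nat_lit 9, nat_lit 10, nat_lit 2, nat_lit 8, nat_lit 10, nat_lit 1, nat_lit 8, nat_lit 16, nat_lit 14, nat_lit 17, nat_lit 12] (Rl.rel (nat_lit 0) [nat_lit 3, nat_lit 8, nat_lit 2, nat_lit 3, nat_lit 4, nat_lit 5, nat_lit 1, nat_lit 2, nat_lit 3, nat_lit 11, nat_lit 10, nat_lit 2, nat_lit 8, nat_lit 10, nat_lit 1, nat_lit 16, nat_lit 12, nat_lit 15, nat_lit 14, nat_lit 12, nat_lit 19] (nat_lit 33) (nat_lit 1) [nat_lit 5573] [nat_lit 5578, nat_lit 4782]))) (FT.node (nat_lit 5586) (FT.leaf (Fct.mk true (nat_lit 25) (nat_lit 439) (nat_lit 33) [nat_lit 3, nat_lit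 8, nat_lit 4, nat_lit 5, nat_lit 3, nat_lit 4, nat_lit 1, nat_lit 2, nat_lit 3, nat_lit 8, nat_lit 0, nat_lit 1, nat_lit 2, nat_lit 3, nat_lit 4, nat_lit 5, nat_lit 6, nat_lit 7, nat_lit 6, nat_lit 5, nat_lit 2, nat_lit 3, nat_lit 4, nat_lit 1, nat_lit 2, nat_lit 3, nat_lit 8, nat_lit 0, nat_lit 1, nat_lit 2, nat_lit 3, nat_lit 4, nat_lit 5, nat_lit 1, nat_lit 4, nat_lit 3, nat_lit 2, nat_lit 8, nat_lit 3, nat_lit 11, nat_lit 9, nat_lit 10, nat_lit 2, nat_lit 8, nat_lit 10, nat_lit 1, nat_lit 12, nat_lit 15, nat_lit 18, nat_lit 16] (Rl.t1 (nat_lit 5584) (nat_lit 1258)))) (FT.leaf (Fct.mk true (nat_lit 33) (nat_lit 7626) (nat_lit 25) [nat_lit 6, nat_lit 5, nat_lit 4, nat_lit 3, nat_lit 8, nat_lit 2, nat_lit 3, nat_lit 4, nat_lit 1, nat_lit 2, nat_lit 3, nat_lit 8, nat_lit 5, nat_lit 6, nat_lit 4, nat_lit 5, nat_lit 3, nat_lit 4, nat_lit 2, nat_lit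 3, nat_lit 8, nat_lit 1, nat_lit 2, nat_lit 3, nat_lit 4, nat_lit 5, nat_lit 6, nat_lit 7, nat_lit 4, nat_lit 3, nat_lit 8, nat_lit 2, nat_lit 3, nat_lit 4, nat_lit 1, nat_lit 2, nat_lit 3, nat_lit 8, nat_lit 5, nat_lit 6, nat_lit 4, nat_lit 5, nat_lit 3, nat_lit 4, nat_lit 2, nat_lit 3, nat_lit 8, nat_lit 1, nat_lit 2, nat_lit 3, nat_lit 4, nat_lit 5, nat_lit 0, nat_lit 1, nat_lit 2, nat_lit 8, nat_lit 3, nat_lit 11, nat_lit 8, nat_lit 16, nat_lit 14] (Rl.inv (nat_lit 5585)))))))) (FT.node (nat_lit 5593) (FT.node (nat_lit 5590) (FT.node (nat_lit 5588) (FT.leaf (Fct.mk true (nat_lit 33) (nat_lit 184) (nat_lit 25) [nat_lit 3, nat_lit 8, nat_lit 7, nat_lit 6, nat_lit 4, nat_lit 5, nat_lit 3, nat_lit 4, nat_lit 2, nat_lit 3, nat_lit 8, nat_lit 0, nat_lit 1, nat_lit 2, nat_lit 3, nat_lit 4, nat_lit 5, nat_lit 6, nat_lit 7, nat_lit 4, nat_lit 3,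 nat_lit 8, nat_lit 5, nat_lit 6, nat_lit 4, nat_lit 5, nat_lit 3, nat_lit 4, nat_lit 2, nat_lit 3, nat_lit 8, nat_lit 0, nat_lit 1, nat_lit 2, nat_lit 3, nat_lit 4, nat_lit 5, nat_lit 1, nat_lit 8, nat_lit 3, nat_lit 2, nat_lit 0, nat_lit 1, nat_lit 9, nat_lit 4, nat_lit 3, nat_lit 2, nat_lit 8, nat_lit 3, nat_lit 11, nat_lit 8, nat_lit 10, nat_lit 1, nat_lit 12, nat_lit 8, nat_lit 16, nat_lit 14, nat_lit 17, nat_lit 12, nat_lit 18] (Rl.t1 (nat_lit 5586) (nat_lit 5583)))) (FT.node (nat_lit 5589) (FT.leaf (Fct.mk false (nat_lit 25) (nat_lit 0) (nat_lit 25) [nat_lit 6, nat_lit 5, nat_lit 4, nat_lit 3, nat_lit 8, nat_lit 2, nat_lit 3, nat_lit 4, nat_lit 5, nat_lit 1, nat_lit 8, nat_lit 3, nat_lit 2, nat_lit 0, nat_lit 1, nat_lit 4, nat_lit 3, nat_lit 2, nat_lit 8, nat_lit 3, nat_lit 11, nat_lit 10, nat_lit 8, nat_lit 12, nat_lit 15, nat_lit 14,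 nat_lit 13, nat_lit 19] (Rl.cmp (nat_lit 1813) (nat_lit 1237)))) (FT.leaf (Fct.mk false (nat_lit 25) (nat_lit 0) (nat_lit 25) [nat_lit 8, nat_lit 3, nat_lit 4, nat_lit 1, nat_lit 2, nat_lit 3, nat_lit 8, nat_lit 0, nat_lit 1, nat_lit 2, nat_lit 3, nat_lit 4, nat_lit 5, nat_lit 3, nat_lit 11, nat_lit 8, nat_lit 10, nat_lit 1, nat_lit 17, nat_lit 12, nat_lit 19] (Rl.cmp (nat_lit 2117) (nat_lit 5588)))))) (FT.node (nat_lit 5591) (FT.leaf (Fct.mk false (nat_lit 25) (nat_lit 0) (nat_lit 25) [nat_lit 8, nat_lit 1, nat_lit 2, nat_lit 3, nat_lit 4, nat_lit 5, nat_lit 11, nat_lit 1, nat_lit 16, nat_lit 12, nat_lit 15, nat_lit 14, nat_lit 17, nat_lit 12, nat_lit 19] (Rl.cmp (nat_lit 2117) (nat_lit 5589)))) (FT.node (nat_lit 5592) (FT.leaf (Fct.mk false (nat_lit 33) (nat_lit 0) (nat_lit 33) [nat_lit 5, nat_lit 2, nat_lit 3, nat_lit 4, nat_lit 1, nat_lit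 2, nat_lit 3, nat_lit 8, nat_lit 0, nat_lit 1, nat_lit 2, nat_lit 3, nat_lit 4, nat_lit 5, nat_lit 6, nat_lit 7, nat_lit 8, nat_lit 6, nat_lit 4, nat_lit 5, nat_lit 3, nat_lit 4, nat_lit 1, nat_lit 2, nat_lit 3, nat_lit 8, nat_lit 0, nat_lit 1, nat_lit 2, nat_lit 3, nat_lit 4, nat_lit 5, nat_lit 2, nat_lit 1, nat_lit 9, nat_lit 4, nat_lit 3, nat_lit 2, nat_lit 8, nat_lit 3, nat_lit 1, nat_lit 0, nat_lit 2, nat_lit 16, nat_lit 15, nat_lit 14, nat_lit 18, nat_lit 16] (Rl.cmp (nat_lit 4605) (nat_lit 4456)))) (FT.leaf (Fct.mk false (nat_lit 33) (nat_lit 0) (nat_lit 33) [nat_lit 8, nat_lit 7, nat_lit 6, nat_lit 4, nat_lit 5, nat_lit 3, nat_lit 4, nat_lit 2, nat_lit 3, nat_lit 8, nat_lit 0, nat_lit 1, nat_lit 2, nat_lit 3, nat_lit 4, nat_lit 5, nat_lit 6, nat_lit 7, nat_lit 3, nat_lit 8, nat_lit 5, nat_lit 2, nat_lit 3, nat_lit 4, nat_lit 1, nat_lit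 2, nat_lit 3, nat_lit 8, nat_lit 0, nat_lit 1, nat_lit 2, nat_lit 3, nat_lit 4, nat_lit 5, nat_lit 3, nat_lit 2, nat_lit 1, nat_lit 9, nat_lit 4, nat_lit 3, nat_lit 2, nat_lit 8, nat_lit 3, nat_lit 1, nat_lit 9, nat_lit 16, nat_lit 8, nat_lit 12, nat_lit 15, nat_lit 8, nat_lit 18] (Rl.cmp (nat_lit 4400) (nat_lit 5591))))))) (FT.node (nat_lit 5596) (FT.node (nat_lit 5594) (FT.leaf (Fct.mk false (nat_lit 33) (nat_lit 0) (nat_lit 33) [nat_lit 8, nat_lit 6, nat_lit 7, nat_lit 5, nat_lit 6, nat_lit 4, nat_lit 5, nat_lit 3, nat_lit 4, nat_lit 2, nat_lit 3, nat_lit 8, nat_lit 1, nat_lit 2, nat_lit 3, nat_lit 4, nat_lit 5, nat_lit 6, nat_lit 7, nat_lit 3, nat_lit 8, nat_lit 5, nat_lit 6, nat_lit 4, nat_lit 5, nat_lit 3, nat_lit 4, nat_lit 1, nat_lit 2, nat_lit 3, nat_lit 8, nat_lit 0, nat_lit 1, nat_lit 2, nat_lit 3, nat_lit 4, nat_lit 5, nat_lit 8,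 nat_lit 3, nat_lit 2, nat_lit 1, nat_lit 4, nat_lit 3, nat_lit 2, nat_lit 8, nat_lit 3, nat_lit 0, nat_lit 2, nat_lit 12, nat_lit 15, nat_lit 14, nat_lit 13, nat_lit 12, nat_lit 18, nat_lit 16] (Rl.cmp (nat_lit 4605) (nat_lit 5592)))) (FT.node (nat_lit 5595) (FT.leaf (Fct.mk true (nat_lit 33) (nat_lit 58098) (nat_lit 33) [nat_lit 2, nat_lit 3, nat_lit 8, nat_lit 4, nat_lit 5, nat_lit 3, nat_lit 4, nat_lit 2, nat_lit 3, nat_lit 8, nat_lit 1, nat_lit 2, nat_lit 3, nat_lit 4, nat_lit 5, nat_lit 6, nat_lit 7, nat_lit 6, nat_lit 5, nat_lit 2, nat_lit 3, nat_lit 4, nat_lit 1, nat_lit 2, nat_lit 3, nat_lit 8, nat_lit 0, nat_lit 1, nat_lit 2, nat_lit 3, nat_lit 4, nat_lit 5, nat_lit 9, nat_lit 4, nat_lit 3, nat_lit 2, nat_lit 8, nat_lit 3, nat_lit 11, nat_lit 16, nat_lit 14, nat_lit 13, nat_lit 19] (Rl.rel (nat_lit 0) [nat_lit 3, nat_lit 8, nat_lit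 2, nat_lit 3, nat_lit 4, nat_lit 5, nat_lit 2, nat_lit 0, nat_lit 1, nat_lit 3, nat_lit 2, nat_lit 8, nat_lit 3, nat_lit 11, nat_lit 10, nat_lit 2, nat_lit 8, nat_lit 10, nat_lit 1, nat_lit 8, nat_lit 16, nat_lit 14, nat_lit 12, nat_lit 19] (nat_lit 33) (nat_lit 2) [nat_lit 5573, nat_lit 5590, nat_lit 5571] []))) (FT.leaf (Fct.mk true (nat_lit 33) (nat_lit 303) (nat_lit 33) [nat_lit 3, nat_lit 8, nat_lit 5, nat_lit 2, nat_lit 3, nat_lit 4, nat_lit 1, nat_lit 2, nat_lit 3, nat_lit 8, nat_lit 0, nat_lit 1, nat_lit 2, nat_lit 3, nat_lit 4, nat_lit 5, nat_lit 6, nat_lit 7, nat_lit 8, nat_lit 3, nat_lit 4, nat_lit 2, nat_lit 3, nat_lit 8, nat_lit 1, nat_lit 2, nat_lit 3, nat_lit 4, nat_lit 5, nat_lit 8, nat_lit 3, nat_lit 2, nat_lit 1, nat_lit 4, nat_lit 3, nat_lit 2, nat_lit 8, nat_lit 3, nat_lit 11, nat_lit 8, nat_lit 10, nat_lit 1, nat_lit 12,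 nat_lit 8, nat_lit 16, nat_lit 14, nat_lit 18, nat_lit 16] (Rl.t1 (nat_lit 5594) (nat_lit 5593)))))) (FT.node (nat_lit 5598) (FT.node (nat_lit 5597) (FT.leaf (Fct.mk false (nat_lit 33) (nat_lit 0) (nat_lit 33) [nat_lit 102] (Rl.cmp (nat_lit 4402) (nat_lit 4400)))) (FT.leaf (Fct.mk false (nat_lit 33) (nat_lit 0) (nat_lit 33) [nat_lit 6, nat_lit 4, nat_lit 5, nat_lit 3, nat_lit 4, nat_lit 2, nat_lit 3, nat_lit 8, nat_lit 1, nat_lit 2, nat_lit 3, nat_lit 4, nat_lit 5, nat_lit 6, nat_lit 7, nat_lit 4, nat_lit 5, nat_lit 1, nat_lit 3, nat_lit 2, nat_lit 0, nat_lit 1, nat_lit 4, nat_lit 3, nat_lit 2, nat_lit 8, nat_lit 3, nat_lit 8, nat_lit 10, nat_lit 16, nat_lit 15, nat_lit 14, nat_lit 13, nat_lit 12, nat_lit 19, nat_lit 16] (Rl.cmp (nat_lit 4456) (nat_lit 5596))))) (FT.node (nat_lit 5599) (FT.leaf (Fct.mk false (nat_lit 33) (nat_lit 0) (nat_lit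 33) [nat_lit 6, nat_lit 5, nat_lit 2, nat_lit 3, nat_lit 4, nat_lit 1, nat_lit 2, nat_lit 3, nat_lit 8, nat_lit 0, nat_lit 1, nat_lit 2, nat_lit 3, nat_lit 4, nat_lit 5, nat_lit 6, nat_lit 7, nat_lit 6, nat_lit 5, nat_lit 4, nat_lit 3, nat_lit 8, nat_lit 2, nat_lit 3, nat_lit 4, nat_lit 1, nat_lit 2, nat_lit 3, nat_lit 8, nat_lit 5, nat_lit 6, nat_lit 4, nat_lit 5, nat_lit 3, nat_lit 4, nat_lit 2, nat_lit 3, nat_lit 8, nat_lit 1, nat_lit 2, nat_lit 3, nat_lit 4, nat_lit 5, nat_lit 9, nat_lit 4, nat_lit 3, nat_lit 2, nat_lit 8, nat_lit 3, nat_lit 2, nat_lit 8, nat_lit 10, nat_lit 1, nat_lit 14, nat_lit 8, nat_lit 18] (Rl.cmp (nat_lit 4456) (nat_lit 5597)))) (FT.leaf (Fct.mk false (nat_lit 33) (nat_lit 0) (nat_lit 33) [nat_lit 2, nat_lit 3, nat_lit 4, nat_lit 5, nat_lit 6, nat_lit 7, nat_lit 8, nat_lit 5, nat_lit 3, nat_lit 4, nat_lit 2, nat_lit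 3, nat_lit 8, nat_lit 1, nat_lit 2, nat_lit 3, nat_lit 4, nat_lit 5, nat_lit 9, nat_lit 4, nat_lit 11, nat_lit 16, nat_lit 15, nat_lit 14, nat_lit 16, nat_lit 8] (Rl.cmp (nat_lit 4605) (nat_lit 5598)))))))))

/-- some facts -/
noncomputable def ftc112 : FT := FT.node (nat_lit 5625) (FT.node (nat_lit 5612) (FT.node (nat_lit 5606) (FT.node (nat_lit 5603) (FT.node (nat_lit 5601) (FT.leaf (Fct.mk false (nat_lit 33) (nat_lit 0) (nat_lit 33) [nat_lit 7, nat_lit 5, nat_lit 6, nat_lit 4, nat_lit 5, nat_lit 3, nat_lit 4, nat_lit 2, nat_lit 3, nat_lit 8, nat_lit 1, nat_lit 2, nat_lit 3, nat_lit 4, nat_lit 5, nat_lit 6, nat_lit 7, nat_lit 8, nat_lit 6, nat_lit 5, nat_lit 3, nat_lit 4, nat_lit 1, nat_lit 2, nat_lit 3, nat_lit 8, nat_lit 0, nat_lit 1, nat_lit 2, nat_lit 3, nat_lit 4, nat_lit 5, nat_lit 2, nat_lit 1, nat_lit 8, nat_lit 3, nat_lit 2, nat_lit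 0, nat_lit 1, nat_lit 9, nat_lit 4, nat_lit 3, nat_lit 2, nat_lit 8, nat_lit 3, nat_lit 10, nat_lit 8, nat_lit 16, nat_lit 15, nat_lit 14, nat_lit 13, nat_lit 18, nat_lit 16] (Rl.cmp (nat_lit 4456) (nat_lit 5599)))) (FT.node (nat_lit 5602) (FT.leaf (Fct.mk false (nat_lit 33) (nat_lit 0) (nat_lit 33) [nat_lit 2, nat_lit 3, nat_lit 4, nat_lit 5, nat_lit 6, nat_lit 7, nat_lit 5, nat_lit 3, nat_lit 4, nat_lit 2, nat_lit 3, nat_lit 8, nat_lit 0, nat_lit 1, nat_lit 2, nat_lit 3, nat_lit 4, nat_lit 5, nat_lit 4, nat_lit 3, nat_lit 2, nat_lit 0, nat_lit 1, nat_lit 9, nat_lit 4, nat_lit 3, nat_lit 2, nat_lit 8, nat_lit 3, nat_lit 9, nat_lit 10, nat_lit 2, nat_lit 8, nat_lit 10, nat_lit 1, nat_lit 16, nat_lit 15, nat_lit 14, nat_lit 17, nat_lit 12] (Rl.cmp (nat_lit 4400) (nat_lit 4605)))) (FT.leaf (Fct.mk false (nat_lit 33) (nat_lit 0) (nat_lit 33) [nat_lit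 7, nat_lit 6, nat_lit 4, nat_lit 5, nat_lit 3, nat_lit 4, nat_lit 2, nat_lit 3, nat_lit 8, nat_lit 1, nat_lit 2, nat_lit 3, nat_lit 4, nat_lit 5, nat_lit 6, nat_lit 7, nat_lit 5, nat_lit 6, nat_lit 3, nat_lit 4, nat_lit 5, nat_lit 2, nat_lit 3, nat_lit 4, nat_lit 1, nat_lit 2, nat_lit 3, nat_lit 8, nat_lit 0, nat_lit 1, nat_lit 2, nat_lit 3, nat_lit 4, nat_lit 5, nat_lit 1, nat_lit 9, nat_lit 4, nat_lit 3, nat_lit 2, nat_lit 8, nat_lit 3, nat_lit 9, nat_lit 10, nat_lit 2, nat_lit 8, nat_lit 10, nat_lit 1, nat_lit 12, nat_lit 15, nat_lit 14, nat_lit 8, nat_lit 19, nat_lit 16] (Rl.cmp (nat_lit 4402) (nat_lit 5601)))))) (FT.node (nat_lit 5604) (FT.leaf (Fct.mk false (nat_lit 33) (nat_lit 0) (nat_lit 33) [nat_lit 8, nat_lit 3, nat_lit 4, nat_lit 2, nat_lit 3, nat_lit 8, nat_lit 7, nat_lit 5, nat_lit 6, nat_lit 4, nat_lit 5, nat_lit 3, nat_lit 4,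 nat_lit 2, nat_lit 3, nat_lit 8, nat_lit 0, nat_lit 1, nat_lit 2, nat_lit 3, nat_lit 4, nat_lit 5, nat_lit 6, nat_lit 7, nat_lit 3, nat_lit 4, nat_lit 2, nat_lit 3, nat_lit 8, nat_lit 5, nat_lit 6, nat_lit 4, nat_lit 5, nat_lit 3, nat_lit 4, nat_lit 2, nat_lit 3, nat_lit 8, nat_lit 0, nat_lit 1, nat_lit 2, nat_lit 3, nat_lit 4, nat_lit 5, nat_lit 1, nat_lit 9, nat_lit 4, nat_lit 3, nat_lit 2, nat_lit 8, nat_lit 3, nat_lit 8, nat_lit 10, nat_lit 16, nat_lit 15, nat_lit 14, nat_lit 17, nat_lit 19, nat_lit 16] (Rl.cmp (nat_lit 4456) (nat_lit 5602)))) (FT.node (nat_lit 5605) (FT.leaf (Fct.mk true (nat_lit 25) (nat_lit 9343) (nat_lit 33) [nat_lit 5, nat_lit 6, nat_lit 7, nat_lit 8, nat_lit 6, nat_lit 5, nat_lit 3, nat_lit 4, nat_lit 1, nat_lit 2, nat_lit 3, nat_lit 8, nat_lit 0, nat_lit 1, nat_lit 2, nat_lit 3, nat_lit 4, nat_lit 5, nat_lit 8, nat_lit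 3, nat_lit 2, nat_lit 1, nat_lit 9, nat_lit 4, nat_lit 3, nat_lit 2, nat_lit 8, nat_lit 3, nat_lit 11, nat_lit 9, nat_lit 10, nat_lit 2, nat_lit 8, nat_lit 10, nat_lit 1, nat_lit 12, nat_lit 8, nat_lit 16, nat_lit 14, nat_lit 18] (Rl.rel (nat_lit 0) [nat_lit 8, nat_lit 3, nat_lit 4, nat_lit 5, nat_lit 6, nat_lit 7, nat_lit 2, nat_lit 3, nat_lit 8, nat_lit 1, nat_lit 2, nat_lit 3, nat_lit 4, nat_lit 5, nat_lit 1, nat_lit 2, nat_lit 3, nat_lit 11, nat_lit 10, nat_lit 2, nat_lit 8, nat_lit 10, nat_lit 1, nat_lit 16, nat_lit 15, nat_lit 14, nat_lit 12, nat_lit 19, nat_lit 16] (nat_lit 33) (nat_lit 1) [nat_lit 5573] [nat_lit 5600, nat_lit 5595]))) (FT.leaf (Fct.mk true (nat_lit 25) (nat_lit 3616) (nat_lit 33) [nat_lit 2, nat_lit 3, nat_lit 4, nat_lit 1, nat_lit 2, nat_lit 3, nat_lit 8, nat_lit 0, nat_lit 1, nat_lit 2, nat_lit 3, nat_lit 4, nat_lit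 5, nat_lit 6, nat_lit 7, nat_lit 6, nat_lit 5, nat_lit 4, nat_lit 1, nat_lit 2, nat_lit 3, nat_lit 8, nat_lit 0, nat_lit 1, nat_lit 2, nat_lit 3, nat_lit 4, nat_lit 5, nat_lit 1, nat_lit 9, nat_lit 4, nat_lit 3, nat_lit 2, nat_lit 8, nat_lit 3, nat_lit 11, nat_lit 9, nat_lit 10, nat_lit 2, nat_lit 8, nat_lit 10, nat_lit 1, nat_lit 12, nat_lit 8, nat_lit 16, nat_lit 14] (Rl.t1 (nat_lit 5604) (nat_lit 2770))))))) (FT.node (nat_lit 5609) (FT.node (nat_lit 5607) (FT.leaf (Fct.mk true (nat_lit 33) (nat_lit 122901) (nat_lit 25) [nat_lit 3, nat_lit 8, nat_lit 5, nat_lit 6, nat_lit 4, nat_lit 5, nat_lit 3, nat_lit 4, nat_lit 1, nat_lit 2, nat_lit 3, nat_lit 8, nat_lit 0, nat_lit 1, nat_lit 2, nat_lit 3, nat_lit 4, nat_lit 5, nat_lit 6, nat_lit 7, nat_lit 3, nat_lit 4, nat_lit 2, nat_lit 3, nat_lit 8, nat_lit 0, nat_lit 1, nat_lit 2, nat_lit 3, nat_lit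 4, nat_lit 5, nat_lit 4, nat_lit 3, nat_lit 2, nat_lit 1, nat_lit 9, nat_lit 4, nat_lit 3, nat_lit 2, nat_lit 8, nat_lit 3, nat_lit 11, nat_lit 10, nat_lit 16, nat_lit 15, nat_lit 14, nat_lit 16, nat_lit 8, nat_lit 18, nat_lit 16] (Rl.inv (nat_lit 5605)))) (FT.node (nat_lit 5608) (FT.leaf (Fct.mk true (nat_lit 33) (nat_lit 57) (nat_lit 25) [nat_lit 3, nat_lit 8, nat_lit 7, nat_lit 5, nat_lit 6, nat_lit 4, nat_lit 5, nat_lit 3, nat_lit 4, nat_lit 2, nat_lit 3, nat_lit 8, nat_lit 0, nat_lit 1, nat_lit 2, nat_lit 3, nat_lit 4, nat_lit 5, nat_lit 6, nat_lit 7, nat_lit 4, nat_lit 5, nat_lit 1, nat_lit 4, nat_lit 3, nat_lit 2, nat_lit 8, nat_lit 3, nat_lit 1, nat_lit 0, nat_lit 2, nat_lit 8, nat_lit 12, nat_lit 15, nat_lit 12] (Rl.t1 (nat_lit 5606) (nat_lit 5603)))) (FT.leaf (Fct.mk false (nat_lit 33) (nat_lit 0) (nat_lit 33) [nat_lit 5, nat_lit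 2, nat_lit 3, nat_lit 4, nat_lit 1, nat_lit 2, nat_lit 3, nat_lit 8, nat_lit 0, nat_lit 1, nat_lit 2, nat_lit 3, nat_lit 4, nat_lit 5, nat_lit 6, nat_lit 7, nat_lit 8, nat_lit 6, nat_lit 4, nat_lit 5, nat_lit 3, nat_lit 4, nat_lit 1, nat_lit 2, nat_lit 3, nat_lit 8, nat_lit 0, nat_lit 1, nat_lit 2, nat_lit 3, nat_lit 4, nat_lit 5, nat_lit 2, nat_lit 1, nat_lit 9, nat_lit 4, nat_lit 3, nat_lit 2, nat_lit 8, nat_lit 3, nat_lit 1, nat_lit 0, nat_lit 2, nat_lit 16, nat_lit 15, nat_lit 14, nat_lit 18, nat_lit 16] (Rl.cmp (nat_lit 4605) (nat_lit 4456)))))) (FT.node (nat_lit 5610) (FT.leaf (Fct.mk false (nat_lit 33) (nat_lit 0) (nat_lit 33) [nat_lit 5, nat_lit 4, nat_lit 3, nat_lit 8, nat_lit 2, nat_lit 3, nat_lit 4, nat_lit 5, nat_lit 6, nat_lit 7, nat_lit 8, nat_lit 6, nat_lit 4, nat_lit 5, nat_lit 3, nat_lit 4, nat_lit 1, nat_lit 2, nat_lit 3,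 nat_lit 8, nat_lit 0, nat_lit 1, nat_lit 2, nat_lit 3, nat_lit 4, nat_lit 5, nat_lit 1, nat_lit 2, nat_lit 0, nat_lit 1, nat_lit 9, nat_lit 4, nat_lit 3, nat_lit 2, nat_lit 8, nat_lit 3, nat_lit 11, nat_lit 10, nat_lit 1, nat_lit 8, nat_lit 12, nat_lit 15, nat_lit 14, nat_lit 13, nat_lit 19] (Rl.cmp (nat_lit 4456) (nat_lit 5608)))) (FT.node (nat_lit 5611) (FT.leaf (Fct.mk false (nat_lit 33) (nat_lit 0) (nat_lit 33) [nat_lit 6, nat_lit 4, nat_lit 5, nat_lit 3, nat_lit 4, nat_lit 2, nat_lit 3, nat_lit 8, nat_lit 1, nat_lit 2, nat_lit 3, nat_lit 4, nat_lit 5, nat_lit 6, nat_lit 7, nat_lit 8, nat_lit 5, nat_lit 2, nat_lit 3, nat_lit 4, nat_lit 1, nat_lit 2, nat_lit 3, nat_lit 8, nat_lit 0, nat_lit 1, nat_lit 2, nat_lit 3, nat_lit 4, nat_lit 5, nat_lit 3, nat_lit 2, nat_lit 0, nat_lit 1, nat_lit 9, nat_lit 4, nat_lit 3, nat_lit 2, nat_lit 8, nat_lit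 3, nat_lit 10, nat_lit 2, nat_lit 8, nat_lit 10, nat_lit 1, nat_lit 8, nat_lit 16, nat_lit 15, nat_lit 14, nat_lit 17, nat_lit 12, nat_lit 18, nat_lit 16] (Rl.cmp (nat_lit 4402) (nat_lit 5609)))) (FT.leaf (Fct.mk false (nat_lit 33) (nat_lit 0) (nat_lit 33) [nat_lit 6, nat_lit 5, nat_lit 2, nat_lit 3, nat_lit 4, nat_lit 1, nat_lit 2, nat_lit 3, nat_lit 8, nat_lit 0, nat_lit 1, nat_lit 2, nat_lit 3, nat_lit 4, nat_lit 5, nat_lit 6, nat_lit 7, nat_lit 8, nat_lit 4, nat_lit 5, nat_lit 2, nat_lit 3, nat_lit 4, nat_lit 1, nat_lit 2, nat_lit 3, nat_lit 8, nat_lit 0, nat_lit 1, nat_lit 2, nat_lit 3, nat_lit 4, nat_lit 5, nat_lit 8, nat_lit 3, nat_lit 2, nat_lit 1, nat_lit 9, nat_lit 4, nat_lit 3, nat_lit 2, nat_lit 8, nat_lit 3, nat_lit 8, nat_lit 10, nat_lit 0, nat_lit 15, nat_lit 14, nat_lit 8, nat_lit 19, nat_lit 16] (Rl.cmp (nat_lit 4456) (nat_lit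 5610)))))))) (FT.node (nat_lit 5618) (FT.node (nat_lit 5615) (FT.node (nat_lit 5613) (FT.leaf (Fct.mk true (nat_lit 33) (nat_lit 88109) (nat_lit 33) [nat_lit 8, nat_lit 3, nat_lit 4, nat_lit 2, nat_lit 3, nat_lit 8, nat_lit 7, nat_lit 5, nat_lit 6, nat_lit 4, nat_lit 5, nat_lit 3, nat_lit 4, nat_lit 2, nat_lit 3, nat_lit 8, nat_lit 0, nat_lit 1, nat_lit 2, nat_lit 3, nat_lit 4, nat_lit 5, nat_lit 6, nat_lit 7, nat_lit 3, nat_lit 4, nat_lit 2, nat_lit 3, nat_lit 8, nat_lit 5, nat_lit 6, nat_lit 4, nat_lit 5, nat_lit 3, nat_lit 4, nat_lit 2, nat_lit 3, nat_lit 8, nat_lit 0, nat_lit 1, nat_lit 2, nat_lit 3, nat_lit 4, nat_lit 5, nat_lit 1, nat_lit 9, nat_lit 4, nat_lit 3, nat_lit 2, nat_lit 8, nat_lit 3, nat_lit 8, nat_lit 10, nat_lit 16, nat_lit 15, nat_lit 14, nat_lit 17, nat_lit 19, nat_lit 16] (Rl.rel (nat_lit 0) [nat_lit 4, nat_lit 5, nat_lit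 2, nat_lit 3, nat_lit 4, nat_lit 1, nat_lit 2, nat_lit 3, nat_lit 8, nat_lit 0, nat_lit 1, nat_lit 2, nat_lit 3, nat_lit 4, nat_lit 5, nat_lit 1, nat_lit 8, nat_lit 3, nat_lit 2, nat_lit 0, nat_lit 1, nat_lit 4, nat_lit 3, nat_lit 2, nat_lit 8, nat_lit 3, nat_lit 10, nat_lit 8, nat_lit 12, nat_lit 15, nat_lit 14, nat_lit 18, nat_lit 16] (nat_lit 33) (nat_lit 2) [nat_lit 5607, nat_lit 2871, nat_lit 5605] []))) (FT.node (nat_lit 5614) (FT.leaf (Fct.mk true (nat_lit 33) (nat_lit 890) (nat_lit 33) [nat_lit 3, nat_lit 8, nat_lit 2, nat_lit 3, nat_lit 4, nat_lit 1, nat_lit 2, nat_lit 3, nat_lit 8, nat_lit 0, nat_lit 1, nat_lit 2, nat_lit 3, nat_lit 4, nat_lit 5, nat_lit 6, nat_lit 7, nat_lit 6, nat_lit 5, nat_lit 4, nat_lit 1, nat_lit 2, nat_lit 3, nat_lit 8, nat_lit 0, nat_lit 1, nat_lit 2, nat_lit 3, nat_lit 4, nat_lit 5, nat_lit 3, nat_lit 2,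 nat_lit 1, nat_lit 4, nat_lit 3, nat_lit 2, nat_lit 8, nat_lit 3, nat_lit 11, nat_lit 2, nat_lit 10, nat_lit 1, nat_lit 12, nat_lit 15, nat_lit 13, nat_lit 19, nat_lit 16] (Rl.t1 (nat_lit 5612) (nat_lit 5611)))) (FT.leaf (Fct.mk false (nat_lit 33) (nat_lit 0) (nat_lit 33) [nat_lit 5, nat_lit 4, nat_lit 3, nat_lit 8, nat_lit 2, nat_lit 3, nat_lit 4, nat_lit 1, nat_lit 2, nat_lit 3, nat_lit 8, nat_lit 5, nat_lit 6, nat_lit 4, nat_lit 5, nat_lit 3, nat_lit 4, nat_lit 2, nat_lit 3, nat_lit 8, nat_lit 1, nat_lit 2, nat_lit 3, nat_lit 4, nat_lit 5, nat_lit 6, nat_lit 7, nat_lit 4, nat_lit 2, nat_lit 3, nat_lit 8, nat_lit 0, nat_lit 1, nat_lit 2, nat_lit 3, nat_lit 4, nat_lit 5, nat_lit 1, nat_lit 4, nat_lit 3, nat_lit 2, nat_lit 8, nat_lit 3, nat_lit 11, nat_lit 10, nat_lit 2, nat_lit 8, nat_lit 10, nat_lit 1, nat_lit 12, nat_lit 15, nat_lit 16,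 nat_lit 8, nat_lit 19, nat_lit 16] (Rl.cmp (nat_lit 4402) (nat_lit 4795)))))) (FT.node (nat_lit 5616) (FT.leaf (Fct.mk false (nat_lit 33) (nat_lit 0) (nat_lit 33) [nat_lit 3, nat_lit 8, nat_lit 5, nat_lit 6, nat_lit 4, nat_lit 5, nat_lit 3, nat_lit 4, nat_lit 1, nat_lit 2, nat_lit 3, nat_lit 8, nat_lit 0, nat_lit 1, nat_lit 2, nat_lit 3, nat_lit 4, nat_lit 5, nat_lit 6, nat_lit 7, nat_lit 2, nat_lit 3, nat_lit 4, nat_lit 1, nat_lit 2, nat_lit 3, nat_lit 8, nat_lit 5, nat_lit 6, nat_lit 4, nat_lit 5, nat_lit 3, nat_lit 4, nat_lit 2, nat_lit 3, nat_lit 8, nat_lit 1, nat_lit 2, nat_lit 3, nat_lit 4, nat_lit 5, nat_lit 3, nat_lit 2, nat_lit 1, nat_lit 4, nat_lit 3, nat_lit 2, nat_lit 8, nat_lit 3, nat_lit 9, nat_lit 2, nat_lit 8, nat_lit 12, nat_lit 15, nat_lit 13] (Rl.cmp (nat_lit 4605) (nat_lit 4400)))) (FT.node (nat_lit 5617) (FT.leaf (Fct.mk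 false (nat_lit 33) (nat_lit 0) (nat_lit 33) [nat_lit 8, nat_lit 2, nat_lit 3, nat_lit 4, nat_lit 1, nat_lit 2, nat_lit 3, nat_lit 8, nat_lit 6, nat_lit 7, nat_lit 5, nat_lit 6, nat_lit 4, nat_lit 5, nat_lit 3, nat_lit 4, nat_lit 2, nat_lit 3, nat_lit 8, nat_lit 1, nat_lit 2, nat_lit 3, nat_lit 4, nat_lit 5, nat_lit 6, nat_lit 7, nat_lit 5, nat_lit 4, nat_lit 2, nat_lit 3, nat_lit 8, nat_lit 0, nat_lit 1, nat_lit 2, nat_lit 3, nat_lit 4, nat_lit 5, nat_lit 3, nat_lit 2, nat_lit 0, nat_lit 1, nat_lit 4, nat_lit 3, nat_lit 2, nat_lit 8, nat_lit 3, nat_lit 10, nat_lit 8, nat_lit 12, nat_lit 15, nat_lit 12, nat_lit 18, nat_lit 16] (Rl.cmp (nat_lit 4456) (nat_lit 5615)))) (FT.leaf (Fct.mk false (nat_lit 33) (nat_lit 0) (nat_lit 33) [nat_lit 8, nat_lit 6, nat_lit 5, nat_lit 3, nat_lit 4, nat_lit 2, nat_lit 3, nat_lit 8, nat_lit 0, nat_lit 1, nat_lit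 2, nat_lit 3, nat_lit 4, nat_lit 5, nat_lit 6, nat_lit 7, nat_lit 3, nat_lit 8, nat_lit 2, nat_lit 3, nat_lit 4, nat_lit 5, nat_lit 8, nat_lit 3, nat_lit 2, nat_lit 1, nat_lit 4, nat_lit 3, nat_lit 2, nat_lit 8, nat_lit 3, nat_lit 8, nat_lit 10, nat_lit 1, nat_lit 15, nat_lit 14, nat_lit 13, nat_lit 18, nat_lit 16] (Rl.cmp (nat_lit 4456) (nat_lit 5616))))))) (FT.node (nat_lit 5621) (FT.node (nat_lit 5619) (FT.leaf (Fct.mk false (nat_lit 33) (nat_lit 0) (nat_lit 33) [nat_lit 6, nat_lit 4, nat_lit 5, nat_lit 2, nat_lit 3, nat_lit 4, nat_lit 1, nat_lit 2, nat_lit 3, nat_lit 8, nat_lit 0, nat_lit 1, nat_lit 2, nat_lit 3, nat_lit 4, nat_lit 5, nat_lit 6, nat_lit 7, nat_lit 6, nat_lit 5, nat_lit 4, nat_lit 3, nat_lit 8, nat_lit 2, nat_lit 3, nat_lit 4, nat_lit 1, nat_lit 2, nat_lit 3, nat_lit 8, nat_lit 5, nat_lit 6, nat_lit 4, nat_lit 5, nat_lit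 3, nat_lit 4, nat_lit 2, nat_lit 3, nat_lit 8, nat_lit 1, nat_lit 2, nat_lit 3, nat_lit 4, nat_lit 5, nat_lit 4, nat_lit 3, nat_lit 2, nat_lit 0, nat_lit 1, nat_lit 9, nat_lit 4, nat_lit 3, nat_lit 2, nat_lit 8, nat_lit 3, nat_lit 10, nat_lit 2, nat_lit 8, nat_lit 10, nat_lit 1, nat_lit 16, nat_lit 15, nat_lit 14, nat_lit 16, nat_lit 8, nat_lit 18] (Rl.cmp (nat_lit 4456) (nat_lit 4402)))) (FT.node (nat_lit 5620) (FT.leaf (Fct.mk false (nat_lit 33) (nat_lit 0) (nat_lit 33) [nat_lit 2, nat_lit 3, nat_lit 8, nat_lit 1, nat_lit 2, nat_lit 3, nat_lit 4, nat_lit 5, nat_lit 6, nat_lit 7, nat_lit 2, nat_lit 3, nat_lit 8, nat_lit 0, nat_lit 1, nat_lit 2, nat_lit 3, nat_lit 4, nat_lit 5, nat_lit 3, nat_lit 2, nat_lit 1, nat_lit 9, nat_lit 4, nat_lit 3, nat_lit 2, nat_lit 8, nat_lit 3, nat_lit 0, nat_lit 14, nat_lit 8, nat_lit 18] (Rl.cmp (nat_lit 4456)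 (nat_lit 4400)))) (FT.leaf (Fct.mk false (nat_lit 33) (nat_lit 0) (nat_lit 33) [nat_lit 4, nat_lit 2, nat_lit 3, nat_lit 8, nat_lit 1, nat_lit 2, nat_lit 3, nat_lit 4, nat_lit 5, nat_lit 6, nat_lit 7, nat_lit 2, nat_lit 3, nat_lit 8, nat_lit 0, nat_lit 1, nat_lit 2, nat_lit 3, nat_lit 4, nat_lit 5, nat_lit 3, nat_lit 2, nat_lit 1, nat_lit 9, nat_lit 4, nat_lit 3, nat_lit 2, nat_lit 8, nat_lit 3, nat_lit 14, nat_lit 8, nat_lit 18] (Rl.cmp (nat_lit 4456) (nat_lit 4456)))))) (FT.node (nat_lit 5623) (FT.node (nat_lit 5622) (FT.leaf (Fct.mk false (nat_lit 33) (nat_lit 0) (nat_lit 33) [nat_lit 3, nat_lit 8, nat_lit 4, nat_lit 5, nat_lit 3, nat_lit 4, nat_lit 1, nat_lit 2, nat_lit 3, nat_lit 8, nat_lit 0, nat_lit 1, nat_lit 2, nat_lit 3, nat_lit 4, nat_lit 5, nat_lit 6, nat_lit 7, nat_lit 5, nat_lit 3, nat_lit 4, nat_lit 1, nat_lit 2, nat_lit 3, nat_lit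 8, nat_lit 0, nat_lit 1, nat_lit 2, nat_lit 3, nat_lit 4, nat_lit 5, nat_lit 2, nat_lit 1, nat_lit 9, nat_lit 4, nat_lit 3, nat_lit 2, nat_lit 8, nat_lit 3, nat_lit 11, nat_lit 16, nat_lit 8, nat_lit 12, nat_lit 15, nat_lit 8, nat_lit 16] (Rl.cmp (nat_lit 4456) (nat_lit 4605)))) (FT.leaf (Fct.mk false (nat_lit 33) (nat_lit 0) (nat_lit 33) [nat_lit 4, nat_lit 3, nat_lit 8, nat_lit 5, nat_lit 6, nat_lit 4, nat_lit 5, nat_lit 3, nat_lit 4, nat_lit 2, nat_lit 3, nat_lit 8, nat_lit 0, nat_lit 1, nat_lit 2, nat_lit 3, nat_lit 4, nat_lit 5, nat_lit 6, nat_lit 7, nat_lit 4, nat_lit 3, nat_lit 8, nat_lit 0, nat_lit 1, nat_lit 2, nat_lit 3, nat_lit 4, nat_lit 5, nat_lit 3, nat_lit 8, nat_lit 4, nat_lit 3, nat_lit 2, nat_lit 1, nat_lit 9, nat_lit 4, nat_lit 3, nat_lit 2, nat_lit 8, nat_lit 3, nat_lit 2, nat_lit 8, nat_lit 10, nat_lit 1, nat_lit 8, nat_lit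 12, nat_lit 15, nat_lit 14, nat_lit 19] (Rl.cmp (nat_lit 4402) (nat_lit 5621))))) (FT.node (nat_lit 5624) (FT.leaf (Fct.mk false (nat_lit 33) (nat_lit 0) (nat_lit 33) [nat_lit 8, nat_lit 5, nat_lit 3, nat_lit 4, nat_lit 2, nat_lit 3, nat_lit 8, nat_lit 6, nat_lit 7, nat_lit 5, nat_lit 6, nat_lit 4, nat_lit 5, nat_lit 3, nat_lit 4, nat_lit 2, nat_lit 3, nat_lit 8, nat_lit 0, nat_lit 1, nat_lit 2, nat_lit 3, nat_lit 4, nat_lit 5, nat_lit 6, nat_lit 7, nat_lit 8, nat_lit 4, nat_lit 5, nat_lit 3, nat_lit 4, nat_lit 2, nat_lit 3, nat_lit 8, nat_lit 0, nat_lit 1, nat_lit 2, nat_lit 3, nat_lit 4, nat_lit 5, nat_lit 3, nat_lit 8, nat_lit 4, nat_lit 3, nat_lit 2, nat_lit 1, nat_lit 9, nat_lit 4, nat_lit 3, nat_lit 2, nat_lit 8, nat_lit 3, nat_lit 1, nat_lit 0, nat_lit 2, nat_lit 16, nat_lit 15, nat_lit 14, nat_lit 17, nat_lit 12, nat_lit 18] (Rl.cmp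 (nat_lit 4605) (nat_lit 5622)))) (FT.leaf (Fct.mk true (nat_lit 32) (nat_lit 66920) (nat_lit 33) [nat_lit 8, nat_lit 4, nat_lit 5, nat_lit 3, nat_lit 4, nat_lit 2, nat_lit 3, nat_lit 8, nat_lit 6, nat_lit 7, nat_lit 5, nat_lit 6, nat_lit 4, nat_lit 5, nat_lit 3, nat_lit 4, nat_lit 2, nat_lit 3, nat_lit 8, nat_lit 0, nat_lit 1, nat_lit 2, nat_lit 3, nat_lit 4, nat_lit 5, nat_lit 6, nat_lit 7, nat_lit 3, nat_lit 4, nat_lit 2, nat_lit 3, nat_lit 8, nat_lit 1, nat_lit 2, nat_lit 3, nat_lit 4, nat_lit 5, nat_lit 8, nat_lit 3, nat_lit 2, nat_lit 0, nat_lit 1, nat_lit 9, nat_lit 4, nat_lit 3, nat_lit 2, nat_lit 8, nat_lit 3, nat_lit 11, nat_lit 1, nat_lit 8, nat_lit 12, nat_lit 15, nat_lit 14, nat_lit 16, nat_lit 8, nat_lit 19] (Rl.rel (nat_lit 0) [nat_lit 8, nat_lit 6, nat_lit 7, nat_lit 5, nat_lit 6, nat_lit 4, nat_lit 5, nat_lit 3, nat_lit 4, nat_lit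 2, nat_lit 3, nat_lit 8, nat_lit 0, nat_lit 1, nat_lit 2, nat_lit 3, nat_lit 4, nat_lit 5, nat_lit 6, nat_lit 7, nat_lit 8, nat_lit 4, nat_lit 5, nat_lit 2, nat_lit 3, nat_lit 4, nat_lit 1, nat_lit 2, nat_lit 3, nat_lit 8, nat_lit 0, nat_lit 1, nat_lit 2, nat_lit 3, nat_lit 4, nat_lit 5, nat_lit 2, nat_lit 0, nat_lit 1, nat_lit 9, nat_lit 4, nat_lit 3, nat_lit 2, nat_lit 8, nat_lit 3, nat_lit 8, nat_lit 10, nat_lit 0, nat_lit 15, nat_lit 8, nat_lit 18] (nat_lit 33) (nat_lit 2) [nat_lit 5556, nat_lit 2791, nat_lit 3269] [])))))))) (FT.node (nat_lit 5637) (FT.node (nat_lit 5631) (FT.node (nat_lit 5628) (FT.node (nat_lit 5626) (FT.leaf (Fct.mk true (nat_lit 32) (nat_lit 1786) (nat_lit 33) [nat_lit 2, nat_lit 3, nat_lit 4, nat_lit 1, nat_lit 2, nat_lit 3, nat_lit 8, nat_lit 5, nat_lit 6, nat_lit 4, nat_lit 5, nat_lit 3, nat_lit 4, nat_lit 2, nat_lit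 3, nat_lit 8, nat_lit 1, nat_lit 2, nat_lit 3, nat_lit 4, nat_lit 5, nat_lit 6, nat_lit 7, nat_lit 6, nat_lit 5, nat_lit 4, nat_lit 3, nat_lit 8, nat_lit 2, nat_lit 3, nat_lit 4, nat_lit 5, nat_lit 0, nat_lit 1, nat_lit 4, nat_lit 3, nat_lit 2, nat_lit 8, nat_lit 3, nat_lit 11, nat_lit 2, nat_lit 8, nat_lit 10, nat_lit 1, nat_lit 16, nat_lit 15, nat_lit 14, nat_lit 17] (Rl.t1 (nat_lit 5624) (nat_lit 4365)))) (FT.node (nat_lit 5627) (FT.leaf (Fct.mk true (nat_lit 33) (nat_lit 57613) (nat_lit 32) [nat_lit 3, nat_lit 8, nat_lit 5, nat_lit 6, nat_lit 4, nat_lit 5, nat_lit 3, nat_lit 4, nat_lit 2, nat_lit 3, nat_lit 8, nat_lit 1, nat_lit 2, nat_lit 3, nat_lit 4, nat_lit 5, nat_lit 6, nat_lit 7, nat_lit 6, nat_lit 4, nat_lit 5, nat_lit 3, nat_lit 4, nat_lit 1, nat_lit 2, nat_lit 3, nat_lit 8, nat_lit 0, nat_lit 1, nat_lit 2, nat_lit 3, nat_lit 4,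 nat_lit 5, nat_lit 2, nat_lit 3, nat_lit 8, nat_lit 4, nat_lit 3, nat_lit 2, nat_lit 0, nat_lit 1, nat_lit 9, nat_lit 4, nat_lit 3, nat_lit 2, nat_lit 8, nat_lit 3, nat_lit 9, nat_lit 16, nat_lit 15, nat_lit 14, nat_lit 17, nat_lit 18, nat_lit 16] (Rl.inv (nat_lit 5625)))) (FT.leaf (Fct.mk true (nat_lit 33) (nat_lit 898) (nat_lit 32) [nat_lit 5, nat_lit 4, nat_lit 3, nat_lit 8, nat_lit 6, nat_lit 7, nat_lit 5, nat_lit 6, nat_lit 4, nat_lit 5, nat_lit 3, nat_lit 4, nat_lit 2, nat_lit 3, nat_lit 8, nat_lit 0, nat_lit 1, nat_lit 2, nat_lit 3, nat_lit 4, nat_lit 5, nat_lit 6, nat_lit 7, nat_lit 5, nat_lit 4, nat_lit 3, nat_lit 8, nat_lit 2, nat_lit 3, nat_lit 4, nat_lit 1, nat_lit 2, nat_lit 3, nat_lit 8, nat_lit 5, nat_lit 6, nat_lit 4, nat_lit 5, nat_lit 3, nat_lit 4, nat_lit 2, nat_lit 3, nat_lit 8, nat_lit 1, nat_lit 2, nat_lit 3, nat_lit 4,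 nat_lit 5, nat_lit 9, nat_lit 4, nat_lit 2, nat_lit 8, nat_lit 10, nat_lit 1, nat_lit 16, nat_lit 14, nat_lit 13, nat_lit 12, nat_lit 18] (Rl.t1 (nat_lit 5626) (nat_lit 5623)))))) (FT.node (nat_lit 5629) (FT.leaf (Fct.mk false (nat_lit 33) (nat_lit 0) (nat_lit 33) [nat_lit 3, nat_lit 8, nat_lit 4, nat_lit 5, nat_lit 3, nat_lit 4, nat_lit 1, nat_lit 2, nat_lit 3, nat_lit 8, nat_lit 0, nat_lit 1, nat_lit 2, nat_lit 3, nat_lit 4, nat_lit 5, nat_lit 6, nat_lit 7, nat_lit 5, nat_lit 3, nat_lit 4, nat_lit 1, nat_lit 2, nat_lit 3, nat_lit 8, nat_lit 0, nat_lit 1, nat_lit 2, nat_lit 3, nat_lit 4, nat_lit 5, nat_lit 2, nat_lit 1, nat_lit 9, nat_lit 4, nat_lit 3, nat_lit 2, nat_lit 8, nat_lit 3, nat_lit 11, nat_lit 16, nat_lit 8, nat_lit 12, nat_lit 15, nat_lit 8, nat_lit 16] (Rl.cmp (nat_lit 4456) (nat_lit 4605)))) (FT.node (nat_lit 5630) (FT.leaf (Fct.mk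 false (nat_lit 33) (nat_lit 0) (nat_lit 33) [nat_lit 4, nat_lit 3, nat_lit 8, nat_lit 5, nat_lit 6, nat_lit 4, nat_lit 5, nat_lit 3, nat_lit 4, nat_lit 2, nat_lit 3, nat_lit 8, nat_lit 0, nat_lit 1, nat_lit 2, nat_lit 3, nat_lit 4, nat_lit 5, nat_lit 6, nat_lit 7, nat_lit 8, nat_lit 4, nat_lit 5, nat_lit 2, nat_lit 3, nat_lit 4, nat_lit 1, nat_lit 2, nat_lit 3, nat_lit 8, nat_lit 0, nat_lit 1, nat_lit 2, nat_lit 3, nat_lit 4, nat_lit 5, nat_lit 4, nat_lit 3, nat_lit 2, nat_lit 8, nat_lit 3, nat_lit 8, nat_lit 10, nat_lit 15, nat_lit 13, nat_lit 12, nat_lit 18, nat_lit 16] (Rl.cmp (nat_lit 4605) (nat_lit 5628)))) (FT.leaf (Fct.mk false (nat_lit 33) (nat_lit 0) (nat_lit 33) [nat_lit 1, nat_lit 2, nat_lit 3, nat_lit 8, nat_lit 5, nat_lit 6, nat_lit 4, nat_lit 5, nat_lit 3, nat_lit 4, nat_lit 2, nat_lit 3, nat_lit 8, nat_lit 1, nat_lit 2, nat_lit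 3, nat_lit 4, nat_lit 5, nat_lit 6, nat_lit 7, nat_lit 3, nat_lit 8, nat_lit 6, nat_lit 5, nat_lit 2, nat_lit 3, nat_lit 4, nat_lit 1, nat_lit 2, nat_lit 3, nat_lit 8, nat_lit 0, nat_lit 1, nat_lit 2, nat_lit 3, nat_lit 4, nat_lit 5, nat_lit 1, nat_lit 3, nat_lit 8, nat_lit 4, nat_lit 3, nat_lit 2, nat_lit 0, nat_lit 1, nat_lit 9, nat_lit 4, nat_lit 3, nat_lit 2, nat_lit 8, nat_lit 3, nat_lit 8, nat_lit 10, nat_lit 14, nat_lit 16, nat_lit 8, nat_lit 19, nat_lit 16] (Rl.cmp (nat_lit 4456) (nat_lit 5629))))))) (FT.node (nat_lit 5634) (FT.node (nat_lit 5632) (FT.leaf (Fct.mk false (nat_lit 33) (nat_lit 0) (nat_lit 33) [nat_lit 6, nat_lit 7, nat_lit 5, nat_lit 6, nat_lit 4, nat_lit 5, nat_lit 3, nat_lit 4, nat_lit 2, nat_lit 3, nat_lit 8, nat_lit 0, nat_lit 1, nat_lit 2, nat_lit 3, nat_lit 4, nat_lit 5, nat_lit 6, nat_lit 7, nat_lit 6, nat_lit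 2, nat_lit 1, nat_lit 8, nat_lit 3, nat_lit 2, nat_lit 0, nat_lit 1, nat_lit 4, nat_lit 3, nat_lit 2, nat_lit 8, nat_lit 3, nat_lit 11, nat_lit 2, nat_lit 16, nat_lit 14, nat_lit 8] (Rl.cmp (nat_lit 4456) (nat_lit 5630)))) (FT.node (nat_lit 5633) (FT.leaf (Fct.mk false (nat_lit 33) (nat_lit 0) (nat_lit 33) [nat_lit 5, nat_lit 6, nat_lit 4, nat_lit 5, nat_lit 3, nat_lit 4, nat_lit 2, nat_lit 3, nat_lit 8, nat_lit 1, nat_lit 2, nat_lit 3, nat_lit 4, nat_lit 5, nat_lit 6, nat_lit 7, nat_lit 9, nat_lit 4, nat_lit 3, nat_lit 2, nat_lit 8, nat_lit 3, nat_lit 11, nat_lit 1, nat_lit 12, nat_lit 15, nat_lit 14, nat_lit 13, nat_lit 12] (Rl.cmp (nat_lit 4402) (nat_lit 4456)))) (FT.leaf (Fct.mk false (nat_lit 33) (nat_lit 0) (nat_lit 33) [nat_lit 1, nat_lit 2, nat_lit 3, nat_lit 8, nat_lit 7, nat_lit 5, nat_lit 6, nat_lit 4, nat_lit 5, nat_lit 3, nat_lit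 4, nat_lit 2, nat_lit 3, nat_lit 8, nat_lit 1, nat_lit 2, nat_lit 3, nat_lit 4, nat_lit 5, nat_lit 6, nat_lit 7, nat_lit 8, nat_lit 3, nat_lit 4, nat_lit 2, nat_lit 3, nat_lit 8, nat_lit 1, nat_lit 2, nat_lit 3, nat_lit 4, nat_lit 5, nat_lit 2, nat_lit 1, nat_lit 3, nat_lit 2, nat_lit 0, nat_lit 1, nat_lit 4, nat_lit 3, nat_lit 2, nat_lit 8, nat_lit 3, nat_lit 8, nat_lit 10, nat_lit 1, nat_lit 14, nat_lit 13] (Rl.cmp (nat_lit 4605) (nat_lit 5632)))))) (FT.node (nat_lit 5635) (FT.leaf (Fct.mk false (nat_lit 33) (nat_lit 0) (nat_lit 33) [nat_lit 104] (Rl.cmp (nat_lit 4400) (nat_lit 5619)))) (FT.node (nat_lit 5636) (FT.leaf (Fct.mk false (nat_lit 33) (nat_lit 0) (nat_lit 33) [nat_lit 6, nat_lit 5, nat_lit 4, nat_lit 3, nat_lit 8, nat_lit 1, nat_lit 2, nat_lit 3, nat_lit 4, nat_lit 5, nat_lit 6, nat_lit 7, nat_lit 2, nat_lit 3, nat_lit 8, nat_lit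 0, nat_lit 1, nat_lit 2, nat_lit 3, nat_lit 4, nat_lit 5, nat_lit 2, nat_lit 1, nat_lit 3, nat_lit 2, nat_lit 8, nat_lit 3, nat_lit 10, nat_lit 0, nat_lit 16, nat_lit 15, nat_lit 14, nat_lit 18, nat_lit 16] (Rl.cmp (nat_lit 4402) (nat_lit 5634)))) (FT.leaf (Fct.mk true (nat_lit 32) (nat_lit 12848) (nat_lit 33) [nat_lit 0, nat_lit 1, nat_lit 2, nat_lit 3, nat_lit 4, nat_lit 5, nat_lit 6, nat_lit 7, nat_lit 8, nat_lit 6, nat_lit 5, nat_lit 2, nat_lit 3, nat_lit 4, nat_lit 1, nat_lit 2, nat_lit 3, nat_lit 8, nat_lit 0, nat_lit 1, nat_lit 2, nat_lit 3, nat_lit 4, nat_lit 5, nat_lit 11, nat_lit 2, nat_lit 10, nat_lit 1, nat_lit 12, nat_lit 15, nat_lit 13, nat_lit 12, nat_lit 18, nat_lit 16] (Rl.rel (nat_lit 0) [nat_lit 8, nat_lit 5, nat_lit 6, nat_lit 4, nat_lit 5, nat_lit 3, nat_lit 4, nat_lit 1, nat_lit 2, nat_lit 3, nat_lit 8, nat_lit 0, nat_lit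 1, nat_lit 2, nat_lit 3, nat_lit 4, nat_lit 5, nat_lit 6, nat_lit 7, nat_lit 6, nat_lit 3, nat_lit 2, nat_lit 8, nat_lit 3, nat_lit 11, nat_lit 10, nat_lit 2, nat_lit 8, nat_lit 10, nat_lit 1, nat_lit 8, nat_lit 16, nat_lit 14, nat_lit 8, nat_lit 16] (nat_lit 33) (nat_lit 1) [nat_lit 5627] [nat_lit 4731, nat_lit 4732]))))))) (FT.node (nat_lit 5643) (FT.node (nat_lit 5640) (FT.node (nat_lit 5638) (FT.leaf (Fct.mk true (nat_lit 32) (nat_lit 4049) (nat_lit 33) [nat_lit 4, nat_lit 3, nat_lit 8, nat_lit 7, nat_lit 5, nat_lit 6, nat_lit 4, nat_lit 5, nat_lit 3, nat_lit 4, nat_lit 2, nat_lit 3, nat_lit 8, nat_lit 1, nat_lit 2, nat_lit 3, nat_lit 4, nat_lit 5, nat_lit 6, nat_lit 7, nat_lit 5, nat_lit 3, nat_lit 10, nat_lit 2, nat_lit 8, nat_lit 10, nat_lit 1, nat_lit 16, nat_lit 15, nat_lit 14, nat_lit 8, nat_lit 16] (Rl.t1 (nat_lit 5636) (nat_lit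 4178)))) (FT.node (nat_lit 5639) (FT.leaf (Fct.mk true (nat_lit 33) (nat_lit 337) (nat_lit 32) [nat_lit 7, nat_lit 6, nat_lit 5, nat_lit 4, nat_lit 3, nat_lit 8, nat_lit 1, nat_lit 2, nat_lit 3, nat_lit 4, nat_lit 5, nat_lit 6, nat_lit 7, nat_lit 6, nat_lit 4, nat_lit 5, nat_lit 3, nat_lit 4, nat_lit 2, nat_lit 3, nat_lit 8, nat_lit 0, nat_lit 1, nat_lit 2, nat_lit 3, nat_lit 4, nat_lit 5, nat_lit 2, nat_lit 3, nat_lit 8, nat_lit 10, nat_lit 1, nat_lit 18, nat_lit 16] (Rl.inv (nat_lit 5637)))) (FT.leaf (Fct.mk true (nat_lit 33) (nat_lit 289) (nat_lit 32) [nat_lit 8, nat_lit 5, nat_lit 2, nat_lit 3, nat_lit 4, nat_lit 1, nat_lit 2, nat_lit 3, nat_lit 8, nat_lit 0, nat_lit 1, nat_lit 2, nat_lit 3, nat_lit 4, nat_lit 5, nat_lit 6, nat_lit 7, nat_lit 5, nat_lit 4, nat_lit 3, nat_lit 8, nat_lit 0, nat_lit 1, nat_lit 2, nat_lit 3, nat_lit 4, nat_lit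 5, nat_lit 2, nat_lit 1, nat_lit 3, nat_lit 2, nat_lit 8, nat_lit 3, nat_lit 8, nat_lit 10, nat_lit 0, nat_lit 12, nat_lit 15, nat_lit 14] (Rl.t1 (nat_lit 5638) (nat_lit 5635)))))) (FT.node (nat_lit 5641) (FT.leaf (Fct.mk false (nat_lit 33) (nat_lit 0) (nat_lit 33) [nat_lit 6, nat_lit 5, nat_lit 4, nat_lit 3, nat_lit 8, nat_lit 2, nat_lit 3, nat_lit 4, nat_lit 1, nat_lit 2, nat_lit 3, nat_lit 8, nat_lit 5, nat_lit 6, nat_lit 4, nat_lit 5, nat_lit 3, nat_lit 4, nat_lit 2, nat_lit 3, nat_lit 8, nat_lit 1, nat_lit 2, nat_lit 3, nat_lit 4, nat_lit 5, nat_lit 6, nat_lit 7, nat_lit 6, nat_lit 5, nat_lit 4, nat_lit 3, nat_lit 8, nat_lit 0, nat_lit 1, nat_lit 2, nat_lit 3, nat_lit 4, nat_lit 5, nat_lit 4, nat_lit 3, nat_lit 2, nat_lit 0, nat_lit 1, nat_lit 9, nat_lit 4, nat_lit 3, nat_lit 2, nat_lit 8, nat_lit 3, nat_lit 11, nat_lit 10, nat_lit 2,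 nat_lit 8, nat_lit 10, nat_lit 1, nat_lit 16, nat_lit 8, nat_lit 12, nat_lit 15, nat_lit 8, nat_lit 19] (Rl.cmp (nat_lit 4605) (nat_lit 5617)))) (FT.node (nat_lit 5642) (FT.leaf (Fct.mk false (nat_lit 33) (nat_lit 0) (nat_lit 33) [nat_lit 8, nat_lit 4, nat_lit 5, nat_lit 3, nat_lit 4, nat_lit 1, nat_lit 2, nat_lit 3, nat_lit 8, nat_lit 0, nat_lit 1, nat_lit 2, nat_lit 3, nat_lit 4, nat_lit 5, nat_lit 1, nat_lit 2, nat_lit 0, nat_lit 1, nat_lit 4, nat_lit 3, nat_lit 2, nat_lit 8, nat_lit 3, nat_lit 8, nat_lit 10, nat_lit 0, nat_lit 8] (Rl.cmp (nat_lit 4400) (nat_lit 5640)))) (FT.leaf (Fct.mk false (nat_lit 33) (nat_lit 0) (nat_lit 33) [nat_lit 3, nat_lit 8, nat_lit 5, nat_lit 6, nat_lit 4, nat_lit 5, nat_lit 3, nat_lit 4, nat_lit 1, nat_lit 2, nat_lit 3, nat_lit 8, nat_lit 0, nat_lit 1, nat_lit 2, nat_lit 3, nat_lit 4, nat_lit 5, nat_lit 6,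 nat_lit 7, nat_lit 2, nat_lit 3, nat_lit 4, nat_lit 1, nat_lit 2, nat_lit 3, nat_lit 8, nat_lit 5, nat_lit 6, nat_lit 4, nat_lit 5, nat_lit 3, nat_lit 4, nat_lit 2, nat_lit 3, nat_lit 8, nat_lit 1, nat_lit 2, nat_lit 3, nat_lit 4, nat_lit 5, nat_lit 3, nat_lit 2, nat_lit 1, nat_lit 4, nat_lit 3, nat_lit 2, nat_lit 8, nat_lit 3, nat_lit 9, nat_lit 2, nat_lit 8, nat_lit 12, nat_lit 15, nat_lit 13] (Rl.cmp (nat_lit 4605) (nat_lit 4400))))))) (FT.node (nat_lit 5646) (FT.node (nat_lit 5644) (FT.leaf (Fct.mk false (nat_lit 33) (nat_lit 0) (nat_lit 33) [nat_lit 2, nat_lit 3, nat_lit 4, nat_lit 5, nat_lit 6, nat_lit 7, nat_lit 5, nat_lit 3, nat_lit 4, nat_lit 2, nat_lit 3, nat_lit 8, nat_lit 0, nat_lit 1, nat_lit 2, nat_lit 3, nat_lit 4, nat_lit 5, nat_lit 4, nat_lit 3, nat_lit 2, nat_lit 0, nat_lit 1, nat_lit 9, nat_lit 4, nat_lit 3, nat_lit 2, nat_lit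 8, nat_lit 3, nat_lit 9, nat_lit 10, nat_lit 2, nat_lit 8, nat_lit 10, nat_lit 1, nat_lit 16, nat_lit 15, nat_lit 14, nat_lit 17, nat_lit 12] (Rl.cmp (nat_lit 4400) (nat_lit 4605)))) (FT.node (nat_lit 5645) (FT.leaf (Fct.mk false (nat_lit 33) (nat_lit 0) (nat_lit 33) [nat_lit 5, nat_lit 2, nat_lit 3, nat_lit 4, nat_lit 1, nat_lit 2, nat_lit 3, nat_lit 8, nat_lit 6, nat_lit 7, nat_lit 5, nat_lit 6, nat_lit 4, nat_lit 5, nat_lit 3, nat_lit 4, nat_lit 2, nat_lit 3, nat_lit 8, nat_lit 1, nat_lit 2, nat_lit 3, nat_lit 4, nat_lit 5, nat_lit 6, nat_lit 7, nat_lit 3, nat_lit 8, nat_lit 2, nat_lit 3, nat_lit 4, nat_lit 1, nat_lit 2, nat_lit 3, nat_lit 8, nat_lit 5, nat_lit 6, nat_lit 4, nat_lit 5, nat_lit 3, nat_lit 4, nat_lit 2, nat_lit 3, nat_lit 8, nat_lit 1, nat_lit 2, nat_lit 3, nat_lit 4, nat_lit 5, nat_lit 1, nat_lit 8, nat_lit 3, nat_lit 2,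 nat_lit 0, nat_lit 1, nat_lit 4, nat_lit 3, nat_lit 2, nat_lit 8, nat_lit 3, nat_lit 1, nat_lit 16, nat_lit 14, nat_lit 17, nat_lit 12, nat_lit 18] (Rl.cmp (nat_lit 4605) (nat_lit 5643)))) (FT.leaf (Fct.mk false (nat_lit 33) (nat_lit 0) (nat_lit 33) [nat_lit 8, nat_lit 2, nat_lit 3, nat_lit 4, nat_lit 1, nat_lit 2, nat_lit 3, nat_lit 8, nat_lit 6, nat_lit 7, nat_lit 5, nat_lit 6, nat_lit 4, nat_lit 5, nat_lit 3, nat_lit 4, nat_lit 2, nat_lit 3, nat_lit 8, nat_lit 1, nat_lit 2, nat_lit 3, nat_lit 4, nat_lit 5, nat_lit 6, nat_lit 7, nat_lit 5, nat_lit 4, nat_lit 2, nat_lit 3, nat_lit 8, nat_lit 0, nat_lit 1, nat_lit 2, nat_lit 3, nat_lit 4, nat_lit 5, nat_lit 3, nat_lit 2, nat_lit 0, nat_lit 1, nat_lit 4, nat_lit 3, nat_lit 2, nat_lit 8, nat_lit 3, nat_lit 10, nat_lit 8, nat_lit 12, nat_lit 15, nat_lit 12, nat_lit 18, nat_lit 16] (Rl.cmp (nat_lit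 4456) (nat_lit 5476)))))) (FT.node (nat_lit 5648) (FT.node (nat_lit 5647) (FT.leaf (Fct.mk false (nat_lit 33) (nat_lit 0) (nat_lit 33) [nat_lit 4, nat_lit 3, nat_lit 8, nat_lit 2, nat_lit 3, nat_lit 4, nat_lit 1, nat_lit 2, nat_lit 3, nat_lit 8, nat_lit 0, nat_lit 1, nat_lit 2, nat_lit 3, nat_lit 4, nat_lit 5, nat_lit 6, nat_lit 7, nat_lit 6, nat_lit 4, nat_lit 5, nat_lit 2, nat_lit 3, nat_lit 4, nat_lit 1, nat_lit 2, nat_lit 3, nat_lit 8, nat_lit 0, nat_lit 1, nat_lit 2, nat_lit 3, nat_lit 4, nat_lit 5, nat_lit 8, nat_lit 3, nat_lit 2, nat_lit 1, nat_lit 9, nat_lit 4, nat_lit 3, nat_lit 2, nat_lit 8, nat_lit 3, nat_lit 2, nat_lit 14, nat_lit 13, nat_lit 19] (Rl.cmp (nat_lit 4605) (nat_lit 4402)))) (FT.leaf (Fct.mk false (nat_lit 33) (nat_lit 0) (nat_lit 33) [nat_lit 8, nat_lit 2, nat_lit 3, nat_lit 4, nat_lit 1, nat_lit 2, nat_lit 3, nat_lit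 8, nat_lit 6, nat_lit 7, nat_lit 5, nat_lit 6, nat_lit 4, nat_lit 5, nat_lit 3, nat_lit 4, nat_lit 2, nat_lit 3, nat_lit 8, nat_lit 1, nat_lit 2, nat_lit 3, nat_lit 4, nat_lit 5, nat_lit 6, nat_lit 7, nat_lit 5, nat_lit 4, nat_lit 2, nat_lit 3, nat_lit 8, nat_lit 0, nat_lit 1, nat_lit 2, nat_lit 3, nat_lit 4, nat_lit 5, nat_lit 3, nat_lit 2, nat_lit 0, nat_lit 1, nat_lit 4, nat_lit 3, nat_lit 2, nat_lit 8, nat_lit 3, nat_lit 10, nat_lit 8, nat_lit 12, nat_lit 15, nat_lit 12, nat_lit 18, nat_lit 16] (Rl.cmp (nat_lit 4456) (nat_lit 5642))))) (FT.node (nat_lit 5649) (FT.leaf (Fct.mk false (nat_lit 33) (nat_lit 0) (nat_lit 33) [nat_lit 4, nat_lit 2, nat_lit 3, nat_lit 8, nat_lit 1, nat_lit 2, nat_lit 3, nat_lit 4, nat_lit 5, nat_lit 6, nat_lit 7, nat_lit 2, nat_lit 3, nat_lit 8, nat_lit 0, nat_lit 1, nat_lit 2, nat_lit 3, nat_lit 4, nat_lit 5,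 nat_lit 3, nat_lit 2, nat_lit 1, nat_lit 9, nat_lit 4, nat_lit 3, nat_lit 2, nat_lit 8, nat_lit 3, nat_lit 14, nat_lit 8, nat_lit 18] (Rl.cmp (nat_lit 4456) (nat_lit 4456)))) (FT.leaf (Fct.mk false (nat_lit 33) (nat_lit 0) (nat_lit 33) [nat_lit 8, nat_lit 7, nat_lit 6, nat_lit 5, nat_lit 2, nat_lit 3, nat_lit 4, nat_lit 1, nat_lit 2, nat_lit 3, nat_lit 8, nat_lit 0, nat_lit 1, nat_lit 2, nat_lit 3, nat_lit 4, nat_lit 5, nat_lit 6, nat_lit 7, nat_lit 2, nat_lit 3, nat_lit 8, nat_lit 6, nat_lit 4, nat_lit 5, nat_lit 3, nat_lit 4, nat_lit 2, nat_lit 3, nat_lit 8, nat_lit 1, nat_lit 2, nat_lit 3, nat_lit 4, nat_lit 5, nat_lit 1, nat_lit 2, nat_lit 0, nat_lit 1, nat_lit 3, nat_lit 2, nat_lit 8, nat_lit 3, nat_lit 10, nat_lit 9, nat_lit 2, nat_lit 15, nat_lit 13, nat_lit 19] (Rl.cmp (nat_lit 4605) (nat_lit 5648)))))))))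

/-- some facts -/
noncomputable def ftc113 : FT := FT.node (nat_lit 5675) (FT.node (nat_lit 5662) (FT.node (nat_lit 5656) (FT.node (nat_lit 5653) (FT.node (nat_lit 5651) (FT.leaf (Fct.mk false (nat_lit 33) (nat_lit 0) (nat_lit 33) [nat_lit 4, nat_lit 5, nat_lit 3, nat_lit 4, nat_lit 2, nat_lit 3, nat_lit 8, nat_lit 0, nat_lit 1, nat_lit 2, nat_lit 3, nat_lit 4, nat_lit 5, nat_lit 6, nat_lit 7, nat_lit 3, nat_lit 4, nat_lit 2, nat_lit 3, nat_lit 8, nat_lit 5, nat_lit 6, nat_lit 4, nat_lit 5, nat_lit 3, nat_lit 4, nat_lit 2, nat_lit 3, nat_lit 8, nat_lit 1, nat_lit 2, nat_lit 3, nat_lit 4, nat_lit 5, nat_lit 8, nat_lit 4, nat_lit 3, nat_lit 2, nat_lit 0, nat_lit 1, nat_lit 9, nat_lit 4, nat_lit 3, nat_lit 2, nat_lit 8, nat_lit 3, nat_lit 11, nat_lit 8, nat_lit 10, nat_lit 14] (Rl.cmp (nat_lit 4400) (nat_lit 5649)))) (FT.node (nat_lit 5652) (FT.leaf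 (Fct.mk false (nat_lit 33) (nat_lit 0) (nat_lit 33) [nat_lit 8, nat_lit 0, nat_lit 1, nat_lit 2, nat_lit 3, nat_lit 4, nat_lit 5, nat_lit 6, nat_lit 7, nat_lit 8, nat_lit 5, nat_lit 3, nat_lit 4, nat_lit 1, nat_lit 2, nat_lit 3, nat_lit 8, nat_lit 0, nat_lit 1, nat_lit 2, nat_lit 3, nat_lit 4, nat_lit 5, nat_lit 3, nat_lit 2, nat_lit 1, nat_lit 8, nat_lit 3, nat_lit 2, nat_lit 0, nat_lit 1, nat_lit 4, nat_lit 3, nat_lit 2, nat_lit 8, nat_lit 3, nat_lit 11, nat_lit 10, nat_lit 1, nat_lit 16, nat_lit 14, nat_lit 19] (Rl.cmp (nat_lit 4456) (nat_lit 5650)))) (FT.leaf (Fct.mk false (nat_lit 33) (nat_lit 0) (nat_lit 33) [nat_lit 102] (Rl.cmp (nat_lit 4402) (nat_lit 4400)))))) (FT.node (nat_lit 5654) (FT.leaf (Fct.mk false (nat_lit 33) (nat_lit 0) (nat_lit 33) [nat_lit 6, nat_lit 4, nat_lit 5, nat_lit 3, nat_lit 4, nat_lit 2, nat_lit 3, nat_lit 8,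 nat_lit 1, nat_lit 2, nat_lit 3, nat_lit 4, nat_lit 5, nat_lit 6, nat_lit 7, nat_lit 4, nat_lit 5, nat_lit 1, nat_lit 3, nat_lit 2, nat_lit 0, nat_lit 1, nat_lit 4, nat_lit 3, nat_lit 2, nat_lit 8, nat_lit 3, nat_lit 8, nat_lit 10, nat_lit 16, nat_lit 15, nat_lit 14, nat_lit 13, nat_lit 12, nat_lit 19, nat_lit 16] (Rl.cmp (nat_lit 4456) (nat_lit 5652)))) (FT.node (nat_lit 5655) (FT.leaf (Fct.mk false (nat_lit 33) (nat_lit 0) (nat_lit 33) [nat_lit 4, nat_lit 5, nat_lit 6, nat_lit 7, nat_lit 5, nat_lit 4, nat_lit 1, nat_lit 2, nat_lit 3, nat_lit 8, nat_lit 0, nat_lit 1, nat_lit 2, nat_lit 3, nat_lit 4, nat_lit 5, nat_lit 0, nat_lit 1, nat_lit 3, nat_lit 2, nat_lit 8, nat_lit 3, nat_lit 11, nat_lit 10, nat_lit 1, nat_lit 8, nat_lit 12, nat_lit 15, nat_lit 12] (Rl.cmp (nat_lit 4402) (nat_lit 4605)))) (FT.leaf (Fct.mk false (nat_lit 33) (nat_lit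 0) (nat_lit 33) [nat_lit 8, nat_lit 6, nat_lit 5, nat_lit 3, nat_lit 4, nat_lit 2, nat_lit 3, nat_lit 8, nat_lit 0, nat_lit 1, nat_lit 2, nat_lit 3, nat_lit 4, nat_lit 5, nat_lit 6, nat_lit 7, nat_lit 3, nat_lit 8, nat_lit 2, nat_lit 3, nat_lit 4, nat_lit 5, nat_lit 8, nat_lit 3, nat_lit 2, nat_lit 1, nat_lit 4, nat_lit 3, nat_lit 2, nat_lit 8, nat_lit 3, nat_lit 8, nat_lit 10, nat_lit 1, nat_lit 15, nat_lit 14, nat_lit 13, nat_lit 18, nat_lit 16] (Rl.cmp (nat_lit 4456) (nat_lit 5645))))))) (FT.node (nat_lit 5659) (FT.node (nat_lit 5657) (FT.leaf (Fct.mk false (nat_lit 33) (nat_lit 0) (nat_lit 33) [nat_lit 8, nat_lit 6, nat_lit 5, nat_lit 2, nat_lit 3, nat_lit 4, nat_lit 1, nat_lit 2, nat_lit 3, nat_lit 8, nat_lit 0, nat_lit 1, nat_lit 2, nat_lit 3, nat_lit 4, nat_lit 5, nat_lit 6, nat_lit 7, nat_lit 6, nat_lit 3, nat_lit 4, nat_lit 5, nat_lit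 2, nat_lit 3, nat_lit 4, nat_lit 1, nat_lit 2, nat_lit 3, nat_lit 8, nat_lit 0, nat_lit 1, nat_lit 2, nat_lit 3, nat_lit 4, nat_lit 5, nat_lit 1, nat_lit 3, nat_lit 2, nat_lit 0, nat_lit 1, nat_lit 4, nat_lit 3, nat_lit 2, nat_lit 8, nat_lit 3, nat_lit 8, nat_lit 10, nat_lit 8, nat_lit 12, nat_lit 15, nat_lit 12, nat_lit 18, nat_lit 16] (Rl.cmp (nat_lit 4400) (nat_lit 5655)))) (FT.node (nat_lit 5658) (FT.leaf (Fct.mk false (nat_lit 33) (nat_lit 0) (nat_lit 33) [nat_lit 8, nat_lit 6, nat_lit 7, nat_lit 5, nat_lit 6, nat_lit 4, nat_lit 5, nat_lit 2, nat_lit 3, nat_lit 4, nat_lit 1, nat_lit 2, nat_lit 3, nat_lit 8, nat_lit 0, nat_lit 1, nat_lit 2, nat_lit 3, nat_lit 4, nat_lit 5, nat_lit 6, nat_lit 7, nat_lit 6, nat_lit 3, nat_lit 4, nat_lit 5, nat_lit 2, nat_lit 3, nat_lit 4, nat_lit 1, nat_lit 2, nat_lit 3, nat_lit 8, nat_lit 0, nat_lit 1, nat_lit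 2, nat_lit 3, nat_lit 4, nat_lit 5, nat_lit 0, nat_lit 1, nat_lit 3, nat_lit 2, nat_lit 8, nat_lit 3, nat_lit 1, nat_lit 9, nat_lit 8, nat_lit 16, nat_lit 14, nat_lit 13, nat_lit 12, nat_lit 18, nat_lit 16] (Rl.cmp (nat_lit 4605) (nat_lit 5654)))) (FT.leaf (Fct.mk false (nat_lit 33) (nat_lit 0) (nat_lit 33) [nat_lit 6, nat_lit 4, nat_lit 5, nat_lit 2, nat_lit 3, nat_lit 4, nat_lit 1, nat_lit 2, nat_lit 3, nat_lit 8, nat_lit 0, nat_lit 1, nat_lit 2, nat_lit 3, nat_lit 4, nat_lit 5, nat_lit 6, nat_lit 7, nat_lit 2, nat_lit 3, nat_lit 8, nat_lit 1, nat_lit 2, nat_lit 3, nat_lit 4, nat_lit 5, nat_lit 0, nat_lit 1, nat_lit 2, nat_lit 8, nat_lit 3, nat_lit 11, nat_lit 8, nat_lit 10, nat_lit 16, nat_lit 8, nat_lit 16] (Rl.cmp (nat_lit 4402) (nat_lit 5657)))))) (FT.node (nat_lit 5660) (FT.leaf (Fct.mk false (nat_lit 33) (nat_lit 0) (nat_lit 33) [nat_lit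 5, nat_lit 2, nat_lit 3, nat_lit 4, nat_lit 1, nat_lit 2, nat_lit 3, nat_lit 8, nat_lit 0, nat_lit 1, nat_lit 2, nat_lit 3, nat_lit 4, nat_lit 5, nat_lit 6, nat_lit 7, nat_lit 8, nat_lit 6, nat_lit 4, nat_lit 5, nat_lit 3, nat_lit 4, nat_lit 1, nat_lit 2, nat_lit 3, nat_lit 8, nat_lit 0, nat_lit 1, nat_lit 2, nat_lit 3, nat_lit 4, nat_lit 5, nat_lit 2, nat_lit 1, nat_lit 9, nat_lit 4, nat_lit 3, nat_lit 2, nat_lit 8, nat_lit 3, nat_lit 1, nat_lit 0, nat_lit 2, nat_lit 16, nat_lit 15, nat_lit 14, nat_lit 18, nat_lit 16] (Rl.cmp (nat_lit 4605) (nat_lit 4456)))) (FT.node (nat_lit 5661) (FT.leaf (Fct.mk false (nat_lit 33) (nat_lit 0) (nat_lit 33) [nat_lit 5, nat_lit 4, nat_lit 3, nat_lit 8, nat_lit 2, nat_lit 3, nat_lit 4, nat_lit 5, nat_lit 6, nat_lit 7, nat_lit 8, nat_lit 6, nat_lit 4, nat_lit 5, nat_lit 3, nat_lit 4, nat_lit 1, nat_lit 2, nat_lit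 3, nat_lit 8, nat_lit 0, nat_lit 1, nat_lit 2, nat_lit 3, nat_lit 4, nat_lit 5, nat_lit 1, nat_lit 2, nat_lit 0, nat_lit 1, nat_lit 9, nat_lit 4, nat_lit 3, nat_lit 2, nat_lit 8, nat_lit 3, nat_lit 11, nat_lit 10, nat_lit 1, nat_lit 8, nat_lit 12, nat_lit 15, nat_lit 14, nat_lit 13, nat_lit 19] (Rl.cmp (nat_lit 4456) (nat_lit 5659)))) (FT.leaf (Fct.mk false (nat_lit 33) (nat_lit 0) (nat_lit 33) [nat_lit 4, nat_lit 1, nat_lit 2, nat_lit 3, nat_lit 8, nat_lit 0, nat_lit 1, nat_lit 2, nat_lit 3, nat_lit 4, nat_lit 5, nat_lit 6, nat_lit 7, nat_lit 8, nat_lit 5, nat_lit 3, nat_lit 4, nat_lit 1, nat_lit 2, nat_lit 3, nat_lit 8, nat_lit 0, nat_lit 1, nat_lit 2, nat_lit 3, nat_lit 4, nat_lit 5, nat_lit 10, nat_lit 12, nat_lit 8, nat_lit 16, nat_lit 14, nat_lit 13, nat_lit 19, nat_lit 16] (Rl.cmp (nat_lit 4456) (nat_lit 5466)))))))) (FT.node (nat_lit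 5668) (FT.node (nat_lit 5665) (FT.node (nat_lit 5663) (FT.leaf (Fct.mk false (nat_lit 33) (nat_lit 0) (nat_lit 33) [nat_lit 4, nat_lit 1, nat_lit 2, nat_lit 3, nat_lit 8, nat_lit 7, nat_lit 5, nat_lit 6, nat_lit 4, nat_lit 5, nat_lit 3, nat_lit 4, nat_lit 2, nat_lit 3, nat_lit 8, nat_lit 1, nat_lit 2, nat_lit 3, nat_lit 4, nat_lit 5, nat_lit 6, nat_lit 7, nat_lit 5, nat_lit 6, nat_lit 4, nat_lit 5, nat_lit 3, nat_lit 4, nat_lit 1, nat_lit 2, nat_lit 3, nat_lit 8, nat_lit 0, nat_lit 1, nat_lit 2, nat_lit 3, nat_lit 4, nat_lit 5, nat_lit 4, nat_lit 3, nat_lit 2, nat_lit 0, nat_lit 1, nat_lit 9, nat_lit 4, nat_lit 3, nat_lit 2, nat_lit 8, nat_lit 3, nat_lit 11, nat_lit 2, nat_lit 8, nat_lit 10, nat_lit 1, nat_lit 16, nat_lit 15, nat_lit 14, nat_lit 8, nat_lit 19] (Rl.cmp (nat_lit 4605) (nat_lit 5661)))) (FT.node (nat_lit 5664) (FT.leaf (Fct.mk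 false (nat_lit 33) (nat_lit 0) (nat_lit 33) [nat_lit 4, nat_lit 3, nat_lit 8, nat_lit 2, nat_lit 3, nat_lit 4, nat_lit 5, nat_lit 6, nat_lit 7, nat_lit 8, nat_lit 5, nat_lit 3, nat_lit 4, nat_lit 1, nat_lit 2, nat_lit 3, nat_lit 8, nat_lit 0, nat_lit 1, nat_lit 2, nat_lit 3, nat_lit 4, nat_lit 5, nat_lit 2, nat_lit 1, nat_lit 9, nat_lit 4, nat_lit 3, nat_lit 2, nat_lit 8, nat_lit 3, nat_lit 1, nat_lit 9, nat_lit 16, nat_lit 14, nat_lit 13, nat_lit 12, nat_lit 19, nat_lit 16] (Rl.cmp (nat_lit 4400) (nat_lit 5662)))) (FT.leaf (Fct.mk false (nat_lit 33) (nat_lit 0) (nat_lit 33) [nat_lit 3, nat_lit 8, nat_lit 5, nat_lit 6, nat_lit 4, nat_lit 5, nat_lit 3, nat_lit 4, nat_lit 1, nat_lit 2, nat_lit 3, nat_lit 8, nat_lit 0, nat_lit 1, nat_lit 2, nat_lit 3, nat_lit 4, nat_lit 5, nat_lit 6, nat_lit 7, nat_lit 3, nat_lit 8, nat_lit 2, nat_lit 3, nat_lit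 4, nat_lit 5, nat_lit 2, nat_lit 0, nat_lit 1, nat_lit 4, nat_lit 3, nat_lit 2, nat_lit 8, nat_lit 3, nat_lit 0, nat_lit 15, nat_lit 17] (Rl.cmp (nat_lit 4456) (nat_lit 5477)))))) (FT.node (nat_lit 5666) (FT.leaf (Fct.mk false (nat_lit 32) (nat_lit 0) (nat_lit 32) [nat_lit 3, nat_lit 4, nat_lit 1, nat_lit 2, nat_lit 3, nat_lit 8, nat_lit 5, nat_lit 6, nat_lit 4, nat_lit 5, nat_lit 3, nat_lit 4, nat_lit 2, nat_lit 3, nat_lit 8, nat_lit 1, nat_lit 2, nat_lit 3, nat_lit 4, nat_lit 5, nat_lit 0, nat_lit 1, nat_lit 2, nat_lit 8, nat_lit 3, nat_lit 11, nat_lit 1, nat_lit 12, nat_lit 15, nat_lit 12, nat_lit 19, nat_lit 16] (Rl.cmp (nat_lit 3004) (nat_lit 4133)))) (FT.node (nat_lit 5667) (FT.leaf (Fct.mk false (nat_lit 33) (nat_lit 0) (nat_lit 33) [nat_lit 2, nat_lit 3, nat_lit 4, nat_lit 5, nat_lit 6, nat_lit 7, nat_lit 5, nat_lit 3, nat_lit 4, nat_lit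 2, nat_lit 3, nat_lit 8, nat_lit 0, nat_lit 1, nat_lit 2, nat_lit 3, nat_lit 4, nat_lit 5, nat_lit 4, nat_lit 3, nat_lit 2, nat_lit 0, nat_lit 1, nat_lit 9, nat_lit 4, nat_lit 3, nat_lit 2, nat_lit 8, nat_lit 3, nat_lit 9, nat_lit 10, nat_lit 2, nat_lit 8, nat_lit 10, nat_lit 1, nat_lit 16, nat_lit 15, nat_lit 14, nat_lit 17, nat_lit 12] (Rl.cmp (nat_lit 4400) (nat_lit 4605)))) (FT.leaf (Fct.mk false (nat_lit 33) (nat_lit 0) (nat_lit 33) [nat_lit 5, nat_lit 4, nat_lit 3, nat_lit 8, nat_lit 2, nat_lit 3, nat_lit 4, nat_lit 1, nat_lit 2, nat_lit 3, nat_lit 8, nat_lit 7, nat_lit 5, nat_lit 6, nat_lit 4, nat_lit 5, nat_lit 3, nat_lit 4, nat_lit 2, nat_lit 3, nat_lit 8, nat_lit 1, nat_lit 2, nat_lit 3, nat_lit 4, nat_lit 5, nat_lit 6, nat_lit 7, nat_lit 8, nat_lit 6, nat_lit 4, nat_lit 5, nat_lit 3, nat_lit 4, nat_lit 2, nat_lit 3, nat_lit 8, nat_lit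 0, nat_lit 1, nat_lit 2, nat_lit 3, nat_lit 4, nat_lit 5, nat_lit 2, nat_lit 3, nat_lit 8, nat_lit 4, nat_lit 3, nat_lit 2, nat_lit 0, nat_lit 1, nat_lit 9, nat_lit 4, nat_lit 3, nat_lit 2, nat_lit 8, nat_lit 3, nat_lit 0, nat_lit 13, nat_lit 12, nat_lit 18, nat_lit 16] (Rl.cmp (nat_lit 4456) (nat_lit 4798))))))) (FT.node (nat_lit 5671) (FT.node (nat_lit 5669) (FT.leaf (Fct.mk false (nat_lit 33) (nat_lit 0) (nat_lit 33) [nat_lit 3, nat_lit 8, nat_lit 2, nat_lit 3, nat_lit 4, nat_lit 1, nat_lit 2, nat_lit 3, nat_lit 8, nat_lit 5, nat_lit 6, nat_lit 4, nat_lit 5, nat_lit 3, nat_lit 4, nat_lit 2, nat_lit 3, nat_lit 8, nat_lit 1, nat_lit 2, nat_lit 3, nat_lit 4, nat_lit 5, nat_lit 6, nat_lit 7, nat_lit 3, nat_lit 8, nat_lit 2, nat_lit 3, nat_lit 4, nat_lit 1, nat_lit 2, nat_lit 3, nat_lit 8, nat_lit 5, nat_lit 6, nat_lit 4, nat_lit 5, nat_lit 3,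 nat_lit 4, nat_lit 2, nat_lit 3, nat_lit 8, nat_lit 1, nat_lit 2, nat_lit 3, nat_lit 4, nat_lit 5, nat_lit 8, nat_lit 3, nat_lit 2, nat_lit 0, nat_lit 1, nat_lit 9, nat_lit 4, nat_lit 3, nat_lit 2, nat_lit 8, nat_lit 3, nat_lit 2, nat_lit 8, nat_lit 10, nat_lit 1, nat_lit 8, nat_lit 16, nat_lit 14, nat_lit 16, nat_lit 8, nat_lit 19, nat_lit 16] (Rl.cmp (nat_lit 4400) (nat_lit 5653)))) (FT.node (nat_lit 5670) (FT.leaf (Fct.mk false (nat_lit 33) (nat_lit 0) (nat_lit 33) [nat_lit 5, nat_lit 4, nat_lit 3, nat_lit 8, nat_lit 2, nat_lit 3, nat_lit 4, nat_lit 5, nat_lit 6, nat_lit 7, nat_lit 6, nat_lit 5, nat_lit 4, nat_lit 3, nat_lit 8, nat_lit 2, nat_lit 3, nat_lit 4, nat_lit 5, nat_lit 1, nat_lit 8, nat_lit 4, nat_lit 3, nat_lit 2, nat_lit 0, nat_lit 1, nat_lit 9, nat_lit 4, nat_lit 3, nat_lit 2, nat_lit 8, nat_lit 3, nat_lit 8, nat_lit 10, nat_lit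 1, nat_lit 8, nat_lit 12, nat_lit 15, nat_lit 14, nat_lit 13, nat_lit 12, nat_lit 19] (Rl.cmp (nat_lit 4402) (nat_lit 5668)))) (FT.leaf (Fct.mk false (nat_lit 33) (nat_lit 0) (nat_lit 33) [nat_lit 1, nat_lit 2, nat_lit 3, nat_lit 8, nat_lit 7, nat_lit 5, nat_lit 6, nat_lit 4, nat_lit 5, nat_lit 3, nat_lit 4, nat_lit 2, nat_lit 3, nat_lit 8, nat_lit 1, nat_lit 2, nat_lit 3, nat_lit 4, nat_lit 5, nat_lit 6, nat_lit 7, nat_lit 8, nat_lit 3, nat_lit 4, nat_lit 2, nat_lit 3, nat_lit 8, nat_lit 1, nat_lit 2, nat_lit 3, nat_lit 4, nat_lit 5, nat_lit 2, nat_lit 1, nat_lit 3, nat_lit 2, nat_lit 0, nat_lit 1, nat_lit 4, nat_lit 3, nat_lit 2, nat_lit 8, nat_lit 3, nat_lit 8, nat_lit 10, nat_lit 1, nat_lit 14, nat_lit 13] (Rl.cmp (nat_lit 4605) (nat_lit 5512)))))) (FT.node (nat_lit 5673) (FT.node (nat_lit 5672) (FT.leaf (Fct.mk false (nat_lit 33) (nat_lit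 0) (nat_lit 33) [nat_lit 5, nat_lit 4, nat_lit 3, nat_lit 8, nat_lit 6, nat_lit 7, nat_lit 5, nat_lit 6, nat_lit 4, nat_lit 5, nat_lit 3, nat_lit 4, nat_lit 1, nat_lit 2, nat_lit 3, nat_lit 8, nat_lit 0, nat_lit 1, nat_lit 2, nat_lit 3, nat_lit 4, nat_lit 5, nat_lit 6, nat_lit 7, nat_lit 2, nat_lit 3, nat_lit 8, nat_lit 1, nat_lit 2, nat_lit 3, nat_lit 4, nat_lit 5, nat_lit 4, nat_lit 9, nat_lit 15, nat_lit 14, nat_lit 8, nat_lit 16] (Rl.cmp (nat_lit 4402) (nat_lit 5618)))) (FT.leaf (Fct.mk false (nat_lit 33) (nat_lit 0) (nat_lit 33) [nat_lit 7, nat_lit 6, nat_lit 5, nat_lit 3, nat_lit 4, nat_lit 1, nat_lit 2, nat_lit 3, nat_lit 8, nat_lit 0, nat_lit 1, nat_lit 2, nat_lit 3, nat_lit 4, nat_lit 5, nat_lit 6, nat_lit 7, nat_lit 8, nat_lit 3, nat_lit 4, nat_lit 2, nat_lit 3, nat_lit 8, nat_lit 1, nat_lit 2, nat_lit 3, nat_lit 4, nat_lit 5, nat_lit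 8, nat_lit 3, nat_lit 2, nat_lit 0, nat_lit 1, nat_lit 9, nat_lit 4, nat_lit 3, nat_lit 2, nat_lit 8, nat_lit 3, nat_lit 0, nat_lit 2, nat_lit 16, nat_lit 14, nat_lit 17, nat_lit 12] (Rl.cmp (nat_lit 4456) (nat_lit 5646))))) (FT.node (nat_lit 5674) (FT.leaf (Fct.mk false (nat_lit 33) (nat_lit 0) (nat_lit 33) [nat_lit 7, nat_lit 6, nat_lit 5, nat_lit 3, nat_lit 4, nat_lit 1, nat_lit 2, nat_lit 3, nat_lit 8, nat_lit 0, nat_lit 1, nat_lit 2, nat_lit 3, nat_lit 4, nat_lit 5, nat_lit 6, nat_lit 7, nat_lit 4, nat_lit 3, nat_lit 8, nat_lit 5, nat_lit 6, nat_lit 4, nat_lit 5, nat_lit 3, nat_lit 4, nat_lit 1, nat_lit 2, nat_lit 3, nat_lit 8, nat_lit 0, nat_lit 1, nat_lit 2, nat_lit 3, nat_lit 4, nat_lit 5, nat_lit 3, nat_lit 2, nat_lit 0, nat_lit 1, nat_lit 4, nat_lit 3, nat_lit 2, nat_lit 8, nat_lit 3, nat_lit 10, nat_lit 0, nat_lit 8, nat_lit 16,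 nat_lit 14, nat_lit 8, nat_lit 19, nat_lit 16] (Rl.cmp (nat_lit 4605) (nat_lit 5671)))) (FT.leaf (Fct.mk false (nat_lit 33) (nat_lit 0) (nat_lit 33) [nat_lit 4, nat_lit 3, nat_lit 8, nat_lit 6, nat_lit 7, nat_lit 5, nat_lit 6, nat_lit 4, nat_lit 5, nat_lit 3, nat_lit 4, nat_lit 2, nat_lit 3, nat_lit 8, nat_lit 0, nat_lit 1, nat_lit 2, nat_lit 3, nat_lit 4, nat_lit 5, nat_lit 6, nat_lit 7, nat_lit 3, nat_lit 4, nat_lit 2, nat_lit 3, nat_lit 8, nat_lit 0, nat_lit 1, nat_lit 2, nat_lit 3, nat_lit 4, nat_lit 5, nat_lit 4, nat_lit 3, nat_lit 2, nat_lit 1, nat_lit 8, nat_lit 3, nat_lit 2, nat_lit 0, nat_lit 1, nat_lit 4, nat_lit 3, nat_lit 2, nat_lit 8, nat_lit 3, nat_lit 0, nat_lit 8, nat_lit 16, nat_lit 14, nat_lit 13, nat_lit 12] (Rl.cmp (nat_lit 4456) (nat_lit 5644))))))))) (FT.node (nat_lit 5687) (FT.node (nat_lit 5681) (FT.node (nat_lit 5678)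 (FT.node (nat_lit 5676) (FT.leaf (Fct.mk false (nat_lit 33) (nat_lit 0) (nat_lit 33) [nat_lit 4, nat_lit 3, nat_lit 8, nat_lit 2, nat_lit 3, nat_lit 4, nat_lit 1, nat_lit 2, nat_lit 3, nat_lit 8, nat_lit 0, nat_lit 1, nat_lit 2, nat_lit 3, nat_lit 4, nat_lit 5, nat_lit 6, nat_lit 7, nat_lit 8, nat_lit 2, nat_lit 3, nat_lit 4, nat_lit 1, nat_lit 2, nat_lit 3, nat_lit 8, nat_lit 0, nat_lit 1, nat_lit 2, nat_lit 3, nat_lit 4, nat_lit 5, nat_lit 8, nat_lit 4, nat_lit 3, nat_lit 2, nat_lit 1, nat_lit 9, nat_lit 4, nat_lit 3, nat_lit 2, nat_lit 8, nat_lit 3, nat_lit 2, nat_lit 17, nat_lit 12] (Rl.cmp (nat_lit 4400) (nat_lit 5672)))) (FT.node (nat_lit 5677) (FT.leaf (Fct.mk false (nat_lit 33) (nat_lit 0) (nat_lit 33) [nat_lit 5, nat_lit 4, nat_lit 3, nat_lit 8, nat_lit 2, nat_lit 3, nat_lit 4, nat_lit 1, nat_lit 2, nat_lit 3, nat_lit 8, nat_lit 5,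 nat_lit 6, nat_lit 4, nat_lit 5, nat_lit 3, nat_lit 4, nat_lit 2, nat_lit 3, nat_lit 8, nat_lit 1, nat_lit 2, nat_lit 3, nat_lit 4, nat_lit 5, nat_lit 6, nat_lit 7, nat_lit 6, nat_lit 5, nat_lit 4, nat_lit 3, nat_lit 8, nat_lit 2, nat_lit 3, nat_lit 4, nat_lit 1, nat_lit 2, nat_lit 3, nat_lit 8, nat_lit 5, nat_lit 6, nat_lit 4, nat_lit 5, nat_lit 3, nat_lit 4, nat_lit 2, nat_lit 3, nat_lit 8, nat_lit 1, nat_lit 2, nat_lit 3, nat_lit 4, nat_lit 5, nat_lit 1, nat_lit 8, nat_lit 3, nat_lit 2, nat_lit 0, nat_lit 1, nat_lit 9, nat_lit 4, nat_lit 3, nat_lit 2, nat_lit 8, nat_lit 3, nat_lit 11, nat_lit 8, nat_lit 10, nat_lit 1, nat_lit 15, nat_lit 14, nat_lit 17, nat_lit 12, nat_lit 19] (Rl.cmp (nat_lit 4456) (nat_lit 5674)))) (FT.leaf (Fct.mk false (nat_lit 33) (nat_lit 0) (nat_lit 33) [nat_lit 6, nat_lit 5, nat_lit 4, nat_lit 3, nat_lit 8, nat_lit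 1, nat_lit 2, nat_lit 3, nat_lit 4, nat_lit 5, nat_lit 6, nat_lit 7, nat_lit 6, nat_lit 5, nat_lit 4, nat_lit 3, nat_lit 8, nat_lit 2, nat_lit 3, nat_lit 4, nat_lit 5, nat_lit 3, nat_lit 2, nat_lit 1, nat_lit 8, nat_lit 3, nat_lit 2, nat_lit 0, nat_lit 1, nat_lit 4, nat_lit 3, nat_lit 2, nat_lit 8, nat_lit 3, nat_lit 8, nat_lit 10, nat_lit 16, nat_lit 14, nat_lit 8, nat_lit 19] (Rl.cmp (nat_lit 4400) (nat_lit 5676)))))) (FT.node (nat_lit 5679) (FT.leaf (Fct.mk false (nat_lit 32) (nat_lit 0) (nat_lit 32) [nat_lit 8, nat_lit 3, nat_lit 4, nat_lit 1, nat_lit 2, nat_lit 3, nat_lit 8, nat_lit 5, nat_lit 6, nat_lit 4, nat_lit 5, nat_lit 3, nat_lit 4, nat_lit 2, nat_lit 3, nat_lit 8, nat_lit 1, nat_lit 2, nat_lit 3, nat_lit 4, nat_lit 5, nat_lit 1, nat_lit 2, nat_lit 0, nat_lit 1, nat_lit 9, nat_lit 4, nat_lit 3, nat_lit 2, nat_lit 8, nat_lit 3, nat_lit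 11, nat_lit 1, nat_lit 8, nat_lit 12, nat_lit 15, nat_lit 13, nat_lit 18] (Rl.cmp (nat_lit 3004) (nat_lit 5665)))) (FT.node (nat_lit 5680) (FT.leaf (Fct.mk false (nat_lit 32) (nat_lit 0) (nat_lit 32) [nat_lit 2, nat_lit 3, nat_lit 8, nat_lit 6, nat_lit 4, nat_lit 5, nat_lit 3, nat_lit 4, nat_lit 2, nat_lit 3, nat_lit 8, nat_lit 1, nat_lit 2, nat_lit 3, nat_lit 4, nat_lit 5, nat_lit 2, nat_lit 1, nat_lit 4, nat_lit 3, nat_lit 2, nat_lit 0, nat_lit 1, nat_lit 9, nat_lit 4, nat_lit 3, nat_lit 2, nat_lit 8, nat_lit 3, nat_lit 1, nat_lit 9, nat_lit 8, nat_lit 16, nat_lit 15, nat_lit 14, nat_lit 18] (Rl.cmp (nat_lit 3010) (nat_lit 5678)))) (FT.leaf (Fct.mk false (nat_lit 32) (nat_lit 0) (nat_lit 32) [nat_lit 6, nat_lit 4, nat_lit 3, nat_lit 2, nat_lit 8, nat_lit 3, nat_lit 8, nat_lit 10, nat_lit 0, nat_lit 18] (Rl.cmp (nat_lit 3004) (nat_lit 5679)))))))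 (FT.node (nat_lit 5684) (FT.node (nat_lit 5682) (FT.leaf (Fct.mk false (nat_lit 33) (nat_lit 0) (nat_lit 33) [nat_lit 8, nat_lit 3, nat_lit 4, nat_lit 1, nat_lit 2, nat_lit 3, nat_lit 8, nat_lit 5, nat_lit 6, nat_lit 4, nat_lit 5, nat_lit 3, nat_lit 4, nat_lit 2, nat_lit 3, nat_lit 8, nat_lit 1, nat_lit 2, nat_lit 3, nat_lit 4, nat_lit 5, nat_lit 6, nat_lit 7, nat_lit 6, nat_lit 5, nat_lit 4, nat_lit 3, nat_lit 8, nat_lit 2, nat_lit 3, nat_lit 4, nat_lit 5, nat_lit 3, nat_lit 2, nat_lit 1, nat_lit 4, nat_lit 3, nat_lit 2, nat_lit 0, nat_lit 1, nat_lit 9, nat_lit 4, nat_lit 3, nat_lit 2, nat_lit 8, nat_lit 3, nat_lit 8, nat_lit 10, nat_lit 0, nat_lit 12, nat_lit 15, nat_lit 14, nat_lit 8, nat_lit 19] (Rl.cmp (nat_lit 4605) (nat_lit 5574)))) (FT.node (nat_lit 5683) (FT.leaf (Fct.mk false (nat_lit 33) (nat_lit 0) (nat_lit 33) [nat_lit 8, nat_lit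 7, nat_lit 6, nat_lit 5, nat_lit 3, nat_lit 4, nat_lit 1, nat_lit 2, nat_lit 3, nat_lit 8, nat_lit 0, nat_lit 1, nat_lit 2, nat_lit 3, nat_lit 4, nat_lit 5, nat_lit 6, nat_lit 7, nat_lit 3, nat_lit 4, nat_lit 1, nat_lit 2, nat_lit 3, nat_lit 8, nat_lit 5, nat_lit 6, nat_lit 4, nat_lit 5, nat_lit 3, nat_lit 4, nat_lit 2, nat_lit 3, nat_lit 8, nat_lit 1, nat_lit 2, nat_lit 3, nat_lit 4, nat_lit 5, nat_lit 2, nat_lit 1, nat_lit 4, nat_lit 3, nat_lit 2, nat_lit 8, nat_lit 3, nat_lit 2, nat_lit 8, nat_lit 10, nat_lit 1, nat_lit 8, nat_lit 12, nat_lit 15, nat_lit 14, nat_lit 13, nat_lit 19, nat_lit 16] (Rl.cmp (nat_lit 4605) (nat_lit 5467)))) (FT.leaf (Fct.mk false (nat_lit 33) (nat_lit 0) (nat_lit 33) [nat_lit 3, nat_lit 8, nat_lit 7, nat_lit 6, nat_lit 4, nat_lit 5, nat_lit 3, nat_lit 4, nat_lit 1, nat_lit 2, nat_lit 3, nat_lit 8, nat_lit 0, nat_lit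 1, nat_lit 2, nat_lit 3, nat_lit 4, nat_lit 5, nat_lit 6, nat_lit 7, nat_lit 3, nat_lit 8, nat_lit 6, nat_lit 4, nat_lit 5, nat_lit 3, nat_lit 4, nat_lit 2, nat_lit 3, nat_lit 8, nat_lit 1, nat_lit 2, nat_lit 3, nat_lit 4, nat_lit 5, nat_lit 8, nat_lit 3, nat_lit 2, nat_lit 0, nat_lit 1, nat_lit 4, nat_lit 3, nat_lit 2, nat_lit 8, nat_lit 3, nat_lit 0, nat_lit 12, nat_lit 18, nat_lit 16] (Rl.cmp (nat_lit 4456) (nat_lit 5682)))))) (FT.node (nat_lit 5685) (FT.leaf (Fct.mk false (nat_lit 33) (nat_lit 0) (nat_lit 33) [nat_lit 1, nat_lit 2, nat_lit 3, nat_lit 8, nat_lit 7, nat_lit 5, nat_lit 6, nat_lit 4, nat_lit 5, nat_lit 3, nat_lit 4, nat_lit 2, nat_lit 3, nat_lit 8, nat_lit 1, nat_lit 2, nat_lit 3, nat_lit 4, nat_lit 5, nat_lit 6, nat_lit 7, nat_lit 6, nat_lit 4, nat_lit 5, nat_lit 3, nat_lit 4, nat_lit 2, nat_lit 3, nat_lit 8, nat_lit 1, nat_lit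 2, nat_lit 3, nat_lit 4, nat_lit 5, nat_lit 0, nat_lit 1, nat_lit 2, nat_lit 8, nat_lit 3, nat_lit 2, nat_lit 8, nat_lit 10, nat_lit 1, nat_lit 16, nat_lit 12, nat_lit 15, nat_lit 14, nat_lit 17, nat_lit 16] (Rl.cmp (nat_lit 4456) (nat_lit 5683)))) (FT.node (nat_lit 5686) (FT.leaf (Fct.mk false (nat_lit 33) (nat_lit 0) (nat_lit 33) [nat_lit 3, nat_lit 8, nat_lit 2, nat_lit 3, nat_lit 4, nat_lit 5, nat_lit 6, nat_lit 7, nat_lit 1, nat_lit 2, nat_lit 3, nat_lit 8, nat_lit 5, nat_lit 6, nat_lit 4, nat_lit 5, nat_lit 3, nat_lit 4, nat_lit 2, nat_lit 3, nat_lit 8, nat_lit 1, nat_lit 2, nat_lit 3, nat_lit 4, nat_lit 5, nat_lit 1, nat_lit 2, nat_lit 0, nat_lit 1, nat_lit 3, nat_lit 2, nat_lit 8, nat_lit 3, nat_lit 8, nat_lit 10, nat_lit 1, nat_lit 15, nat_lit 14, nat_lit 8, nat_lit 16] (Rl.cmp (nat_lit 4400) (nat_lit 5684)))) (FT.leaf (Fct.mk false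 (nat_lit 5) (nat_lit 0) (nat_lit 5) [nat_lit 11, nat_lit 10, nat_lit 16, nat_lit 15, nat_lit 14, nat_lit 13, nat_lit 16] (Rl.cmp (nat_lit 493) (nat_lit 472)))))))) (FT.node (nat_lit 5693) (FT.node (nat_lit 5690) (FT.node (nat_lit 5688) (FT.leaf (Fct.mk false (nat_lit 5) (nat_lit 0) (nat_lit 5) [nat_lit 4, nat_lit 5, nat_lit 4, nat_lit 10] (Rl.cmp (nat_lit 1754) (nat_lit 4350)))) (FT.node (nat_lit 5689) (FT.leaf (Fct.mk false (nat_lit 33) (nat_lit 0) (nat_lit 33) [nat_lit 4, nat_lit 5, nat_lit 2, nat_lit 3, nat_lit 4, nat_lit 1, nat_lit 2, nat_lit 3, nat_lit 8, nat_lit 0, nat_lit 1, nat_lit 2, nat_lit 3, nat_lit 4, nat_lit 5, nat_lit 3, nat_lit 2, nat_lit 1, nat_lit 8, nat_lit 3, nat_lit 2, nat_lit 0, nat_lit 1, nat_lit 4, nat_lit 3, nat_lit 2, nat_lit 8, nat_lit 3, nat_lit 0, nat_lit 2, nat_lit 15, nat_lit 14, nat_lit 12] (Rl.cmp (nat_lit 4605)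 (nat_lit 5667)))) (FT.leaf (Fct.mk false (nat_lit 32) (nat_lit 0) (nat_lit 32) [nat_lit 8, nat_lit 3, nat_lit 4, nat_lit 2, nat_lit 3, nat_lit 8, nat_lit 1, nat_lit 2, nat_lit 3, nat_lit 4, nat_lit 5, nat_lit 8, nat_lit 4, nat_lit 3, nat_lit 2, nat_lit 0, nat_lit 1, nat_lit 9, nat_lit 4, nat_lit 3, nat_lit 2, nat_lit 8, nat_lit 3, nat_lit 15, nat_lit 16, nat_lit 8, nat_lit 19] (Rl.cmp (nat_lit 3004) (nat_lit 4206)))))) (FT.node (nat_lit 5691) (FT.leaf (Fct.mk false (nat_lit 32) (nat_lit 0) (nat_lit 32) [nat_lit 2, nat_lit 3, nat_lit 4, nat_lit 5, nat_lit 2, nat_lit 1, nat_lit 4, nat_lit 3, nat_lit 2, nat_lit 0, nat_lit 1, nat_lit 9, nat_lit 4, nat_lit 3, nat_lit 2, nat_lit 8, nat_lit 3, nat_lit 14, nat_lit 17] (Rl.cmp (nat_lit 3010) (nat_lit 5689)))) (FT.node (nat_lit 5692) (FT.leaf (Fct.mk false (nat_lit 33) (nat_lit 0) (nat_lit 33) [nat_lit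 8, nat_lit 6, nat_lit 7, nat_lit 5, nat_lit 6, nat_lit 4, nat_lit 5, nat_lit 3, nat_lit 4, nat_lit 2, nat_lit 3, nat_lit 8, nat_lit 1, nat_lit 2, nat_lit 3, nat_lit 4, nat_lit 5, nat_lit 6, nat_lit 7, nat_lit 5, nat_lit 4, nat_lit 2, nat_lit 3, nat_lit 8, nat_lit 1, nat_lit 2, nat_lit 3, nat_lit 4, nat_lit 5, nat_lit 1, nat_lit 8, nat_lit 4, nat_lit 3, nat_lit 2, nat_lit 0, nat_lit 1, nat_lit 9, nat_lit 4, nat_lit 3, nat_lit 2, nat_lit 8, nat_lit 3, nat_lit 11, nat_lit 9, nat_lit 10, nat_lit 2, nat_lit 8, nat_lit 10, nat_lit 1, nat_lit 15, nat_lit 14, nat_lit 13] (Rl.cmp (nat_lit 4402) (nat_lit 5670)))) (FT.leaf (Fct.mk false (nat_lit 33) (nat_lit 0) (nat_lit 33) [nat_lit 5, nat_lit 4, nat_lit 3, nat_lit 8, nat_lit 6, nat_lit 7, nat_lit 5, nat_lit 6, nat_lit 4, nat_lit 5, nat_lit 3, nat_lit 4, nat_lit 1, nat_lit 2, nat_lit 3, nat_lit 8, nat_lit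 0, nat_lit 1, nat_lit 2, nat_lit 3, nat_lit 4, nat_lit 5, nat_lit 6, nat_lit 7, nat_lit 2, nat_lit 3, nat_lit 8, nat_lit 6, nat_lit 4, nat_lit 5, nat_lit 3, nat_lit 4, nat_lit 2, nat_lit 3, nat_lit 8, nat_lit 0, nat_lit 1, nat_lit 2, nat_lit 3, nat_lit 4, nat_lit 5, nat_lit 3, nat_lit 2, nat_lit 1, nat_lit 4, nat_lit 3, nat_lit 2, nat_lit 0, nat_lit 1, nat_lit 9, nat_lit 4, nat_lit 3, nat_lit 2, nat_lit 8, nat_lit 3, nat_lit 0, nat_lit 2, nat_lit 8, nat_lit 12, nat_lit 15, nat_lit 14, nat_lit 16, nat_lit 8, nat_lit 18, nat_lit 16] (Rl.cmp (nat_lit 4456) (nat_lit 5691))))))) (FT.node (nat_lit 5696) (FT.node (nat_lit 5694) (FT.leaf (Fct.mk false (nat_lit 33) (nat_lit 0) (nat_lit 33) [nat_lit 7, nat_lit 6, nat_lit 5, nat_lit 3, nat_lit 4, nat_lit 1, nat_lit 2, nat_lit 3, nat_lit 8, nat_lit 0, nat_lit 1, nat_lit 2, nat_lit 3, nat_lit 4, nat_lit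 5, nat_lit 6, nat_lit 7, nat_lit 3, nat_lit 2, nat_lit 0, nat_lit 1, nat_lit 4, nat_lit 3, nat_lit 2, nat_lit 8, nat_lit 3, nat_lit 11, nat_lit 8, nat_lit 10, nat_lit 1, nat_lit 8, nat_lit 12, nat_lit 15, nat_lit 17, nat_lit 12, nat_lit 16] (Rl.cmp (nat_lit 4605) (nat_lit 5692)))) (FT.node (nat_lit 5695) (FT.leaf (Fct.mk false (nat_lit 33) (nat_lit 0) (nat_lit 33) [nat_lit 4, nat_lit 3, nat_lit 8, nat_lit 2, nat_lit 3, nat_lit 4, nat_lit 1, nat_lit 2, nat_lit 3, nat_lit 8, nat_lit 0, nat_lit 1, nat_lit 2, nat_lit 3, nat_lit 4, nat_lit 5, nat_lit 6, nat_lit 7, nat_lit 3, nat_lit 8, nat_lit 4, nat_lit 5, nat_lit 3, nat_lit 4, nat_lit 2, nat_lit 3, nat_lit 8, nat_lit 0, nat_lit 1, nat_lit 2, nat_lit 3, nat_lit 4, nat_lit 5, nat_lit 3, nat_lit 8, nat_lit 4, nat_lit 3, nat_lit 2, nat_lit 1, nat_lit 9, nat_lit 4, nat_lit 3, nat_lit 2, nat_lit 8,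 nat_lit 3, nat_lit 11, nat_lit 10, nat_lit 1, nat_lit 16, nat_lit 14, nat_lit 17, nat_lit 12, nat_lit 18, nat_lit 16] (Rl.cmp (nat_lit 4400) (nat_lit 5673)))) (FT.leaf (Fct.mk false (nat_lit 33) (nat_lit 0) (nat_lit 33) [nat_lit 7, nat_lit 6, nat_lit 5, nat_lit 3, nat_lit 4, nat_lit 1, nat_lit 2, nat_lit 3, nat_lit 8, nat_lit 0, nat_lit 1, nat_lit 2, nat_lit 3, nat_lit 4, nat_lit 5, nat_lit 6, nat_lit 7, nat_lit 3, nat_lit 4, nat_lit 2, nat_lit 3, nat_lit 8, nat_lit 5, nat_lit 6, nat_lit 4, nat_lit 5, nat_lit 3, nat_lit 4, nat_lit 2, nat_lit 3, nat_lit 8, nat_lit 1, nat_lit 2, nat_lit 3, nat_lit 4, nat_lit 5, nat_lit 3, nat_lit 2, nat_lit 1, nat_lit 4, nat_lit 3, nat_lit 2, nat_lit 8, nat_lit 3, nat_lit 11, nat_lit 10, nat_lit 1, nat_lit 16, nat_lit 8, nat_lit 12, nat_lit 15, nat_lit 13, nat_lit 16] (Rl.cmp (nat_lit 4456) (nat_lit 5694))))))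 (FT.node (nat_lit 5698) (FT.node (nat_lit 5697) (FT.leaf (Fct.mk false (nat_lit 33) (nat_lit 0) (nat_lit 33) [nat_lit 6, nat_lit 5, nat_lit 4, nat_lit 3, nat_lit 8, nat_lit 2, nat_lit 3, nat_lit 4, nat_lit 5, nat_lit 6, nat_lit 7, nat_lit 1, nat_lit 2, nat_lit 3, nat_lit 8, nat_lit 5, nat_lit 6, nat_lit 4, nat_lit 5, nat_lit 3, nat_lit 4, nat_lit 2, nat_lit 3, nat_lit 8, nat_lit 1, nat_lit 2, nat_lit 3, nat_lit 4, nat_lit 5, nat_lit 1, nat_lit 2, nat_lit 0, nat_lit 1, nat_lit 3, nat_lit 2, nat_lit 8, nat_lit 3, nat_lit 8, nat_lit 10, nat_lit 0, nat_lit 16, nat_lit 8, nat_lit 12, nat_lit 15, nat_lit 17, nat_lit 12, nat_lit 18] (Rl.cmp (nat_lit 4605) (nat_lit 5647)))) (FT.leaf (Fct.mk false (nat_lit 32) (nat_lit 0) (nat_lit 32) [nat_lit 5, nat_lit 6, nat_lit 4, nat_lit 5, nat_lit 3, nat_lit 4, nat_lit 2, nat_lit 3, nat_lit 8, nat_lit 1, nat_lit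 2, nat_lit 3, nat_lit 4, nat_lit 5, nat_lit 1, nat_lit 4, nat_lit 3, nat_lit 2, nat_lit 8, nat_lit 3, nat_lit 11, nat_lit 10, nat_lit 1, nat_lit 12, nat_lit 15, nat_lit 14, nat_lit 18, nat_lit 16] (Rl.cmp (nat_lit 3004) (nat_lit 4364))))) (FT.node (nat_lit 5699) (FT.leaf (Fct.mk false (nat_lit 32) (nat_lit 0) (nat_lit 32) [nat_lit 3, nat_lit 8, nat_lit 6, nat_lit 4, nat_lit 5, nat_lit 3, nat_lit 4, nat_lit 2, nat_lit 3, nat_lit 8, nat_lit 0, nat_lit 1, nat_lit 2, nat_lit 3, nat_lit 4, nat_lit 5, nat_lit 1, nat_lit 8, nat_lit 4, nat_lit 3, nat_lit 2, nat_lit 0, nat_lit 1, nat_lit 9, nat_lit 4, nat_lit 3, nat_lit 2, nat_lit 8, nat_lit 3, nat_lit 10, nat_lit 1, nat_lit 16, nat_lit 14, nat_lit 17, nat_lit 16] (Rl.cmp (nat_lit 3004) (nat_lit 5697)))) (FT.leaf (Fct.mk false (nat_lit 32) (nat_lit 0) (nat_lit 32) [nat_lit 5, nat_lit 6, nat_lit 4, nat_lit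 5, nat_lit 2, nat_lit 3, nat_lit 4, nat_lit 1, nat_lit 2, nat_lit 3, nat_lit 8, nat_lit 0, nat_lit 1, nat_lit 2, nat_lit 3, nat_lit 4, nat_lit 5, nat_lit 3, nat_lit 2, nat_lit 1, nat_lit 8, nat_lit 3, nat_lit 2, nat_lit 0, nat_lit 1, nat_lit 4, nat_lit 3, nat_lit 2, nat_lit 8, nat_lit 3, nat_lit 11, nat_lit 2, nat_lit 8, nat_lit 10, nat_lit 1, nat_lit 12, nat_lit 15, nat_lit 14, nat_lit 12, nat_lit 18] (Rl.cmp (nat_lit 3047) (nat_lit 5698)))))))))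

/-- some facts -/
noncomputable def ftc114 : FT := FT.node (nat_lit 5725) (FT.node (nat_lit 5712) (FT.node (nat_lit 5706) (FT.node (nat_lit 5703) (FT.node (nat_lit 5701) (FT.leaf (Fct.mk false (nat_lit 33) (nat_lit 0) (nat_lit 33) [nat_lit 4, nat_lit 5, nat_lit 3, nat_lit 4, nat_lit 1, nat_lit 2, nat_lit 3, nat_lit 8, nat_lit 0, nat_lit 1, nat_lit 2, nat_lit 3, nat_lit 4, nat_lit 5, nat_lit 6, nat_lit 7, nat_lit 8, nat_lit 2, nat_lit 3, nat_lit 4, nat_lit 5, nat_lit 2, nat_lit 8, nat_lit 3, nat_lit 9, nat_lit 10, nat_lit 2, nat_lit 8, nat_lit 10, nat_lit 1, nat_lit 15, nat_lit 17, nat_lit 19] (Rl.cmp (nat_lit 4456) (nat_lit 5633)))) (FT.node (nat_lit 5702) (FT.leaf (Fct.mk false (nat_lit 33) (nat_lit 0) (nat_lit 33) [nat_lit 5, nat_lit 4, nat_lit 1, nat_lit 2, nat_lit 3, nat_lit 8, nat_lit 0, nat_lit 1, nat_lit 2, nat_lit 3, nat_lit 4, nat_lit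 5, nat_lit 6, nat_lit 7, nat_lit 8, nat_lit 0, nat_lit 1, nat_lit 2, nat_lit 3, nat_lit 4, nat_lit 5, nat_lit 3, nat_lit 2, nat_lit 0, nat_lit 1, nat_lit 9, nat_lit 4, nat_lit 3, nat_lit 2, nat_lit 8, nat_lit 3, nat_lit 8, nat_lit 10, nat_lit 0, nat_lit 14, nat_lit 17, nat_lit 12, nat_lit 19] (Rl.cmp (nat_lit 4456) (nat_lit 5700)))) (FT.leaf (Fct.mk false (nat_lit 33) (nat_lit 0) (nat_lit 33) [nat_lit 6, nat_lit 4, nat_lit 5, nat_lit 3, nat_lit 4, nat_lit 1, nat_lit 2, nat_lit 3, nat_lit 8, nat_lit 0, nat_lit 1, nat_lit 2, nat_lit 3, nat_lit 4, nat_lit 5, nat_lit 6, nat_lit 7, nat_lit 4, nat_lit 5, nat_lit 3, nat_lit 4, nat_lit 1, nat_lit 2, nat_lit 3, nat_lit 8, nat_lit 0, nat_lit 1, nat_lit 2, nat_lit 3, nat_lit 4, nat_lit 5, nat_lit 3, nat_lit 2, nat_lit 1, nat_lit 8, nat_lit 3, nat_lit 2, nat_lit 0, nat_lit 1, nat_lit 9, nat_lit 4, nat_lit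 3, nat_lit 2, nat_lit 8, nat_lit 3, nat_lit 11, nat_lit 2, nat_lit 10, nat_lit 1, nat_lit 16, nat_lit 8, nat_lit 12, nat_lit 15, nat_lit 8, nat_lit 19, nat_lit 16] (Rl.cmp (nat_lit 4605) (nat_lit 5701)))))) (FT.node (nat_lit 5704) (FT.leaf (Fct.mk false (nat_lit 33) (nat_lit 0) (nat_lit 33) [nat_lit 5, nat_lit 2, nat_lit 3, nat_lit 4, nat_lit 1, nat_lit 2, nat_lit 3, nat_lit 8, nat_lit 6, nat_lit 7, nat_lit 5, nat_lit 6, nat_lit 4, nat_lit 5, nat_lit 3, nat_lit 4, nat_lit 2, nat_lit 3, nat_lit 8, nat_lit 1, nat_lit 2, nat_lit 3, nat_lit 4, nat_lit 5, nat_lit 6, nat_lit 7, nat_lit 3, nat_lit 8, nat_lit 2, nat_lit 3, nat_lit 4, nat_lit 1, nat_lit 2, nat_lit 3, nat_lit 8, nat_lit 5, nat_lit 6, nat_lit 4, nat_lit 5, nat_lit 3, nat_lit 4, nat_lit 2, nat_lit 3, nat_lit 8, nat_lit 1, nat_lit 2, nat_lit 3, nat_lit 4, nat_lit 5, nat_lit 1, nat_lit 8,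 nat_lit 3, nat_lit 2, nat_lit 0, nat_lit 1, nat_lit 4, nat_lit 3, nat_lit 2, nat_lit 8, nat_lit 3, nat_lit 1, nat_lit 16, nat_lit 14, nat_lit 17, nat_lit 12, nat_lit 18] (Rl.cmp (nat_lit 4605) (nat_lit 5666)))) (FT.node (nat_lit 5705) (FT.leaf (Fct.mk false (nat_lit 33) (nat_lit 0) (nat_lit 33) [nat_lit 8, nat_lit 5, nat_lit 2, nat_lit 3, nat_lit 4, nat_lit 1, nat_lit 2, nat_lit 3, nat_lit 8, nat_lit 6, nat_lit 7, nat_lit 5, nat_lit 6, nat_lit 4, nat_lit 5, nat_lit 3, nat_lit 4, nat_lit 2, nat_lit 3, nat_lit 8, nat_lit 1, nat_lit 2, nat_lit 3, nat_lit 4, nat_lit 5, nat_lit 6, nat_lit 7, nat_lit 8, nat_lit 5, nat_lit 6, nat_lit 4, nat_lit 5, nat_lit 3, nat_lit 4, nat_lit 2, nat_lit 3, nat_lit 8, nat_lit 1, nat_lit 2, nat_lit 3, nat_lit 4, nat_lit 5, nat_lit 8, nat_lit 3, nat_lit 2, nat_lit 8, nat_lit 10, nat_lit 1, nat_lit 16, nat_lit 14, nat_lit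 12, nat_lit 19] (Rl.cmp (nat_lit 4605) (nat_lit 5703)))) (FT.leaf (Fct.mk false (nat_lit 33) (nat_lit 0) (nat_lit 33) [nat_lit 6, nat_lit 7, nat_lit 5, nat_lit 6, nat_lit 3, nat_lit 4, nat_lit 5, nat_lit 2, nat_lit 3, nat_lit 4, nat_lit 1, nat_lit 2, nat_lit 3, nat_lit 8, nat_lit 0, nat_lit 1, nat_lit 2, nat_lit 3, nat_lit 4, nat_lit 5, nat_lit 6, nat_lit 7, nat_lit 4, nat_lit 3, nat_lit 8, nat_lit 5, nat_lit 6, nat_lit 4, nat_lit 5, nat_lit 3, nat_lit 4, nat_lit 2, nat_lit 3, nat_lit 8, nat_lit 1, nat_lit 2, nat_lit 3, nat_lit 4, nat_lit 5, nat_lit 0, nat_lit 1, nat_lit 4, nat_lit 3, nat_lit 2, nat_lit 8, nat_lit 3, nat_lit 10, nat_lit 2, nat_lit 8, nat_lit 10, nat_lit 1, nat_lit 15, nat_lit 14, nat_lit 13, nat_lit 12, nat_lit 18, nat_lit 16] (Rl.cmp (nat_lit 4456) (nat_lit 5704))))))) (FT.node (nat_lit 5709) (FT.node (nat_lit 5707) (FT.leaf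 (Fct.mk false (nat_lit 32) (nat_lit 0) (nat_lit 32) [nat_lit 6, nat_lit 5, nat_lit 4, nat_lit 3, nat_lit 8, nat_lit 2, nat_lit 3, nat_lit 4, nat_lit 1, nat_lit 2, nat_lit 3, nat_lit 8, nat_lit 5, nat_lit 6, nat_lit 4, nat_lit 5, nat_lit 3, nat_lit 4, nat_lit 2, nat_lit 3, nat_lit 8, nat_lit 1, nat_lit 2, nat_lit 3, nat_lit 4, nat_lit 5, nat_lit 0, nat_lit 1, nat_lit 3, nat_lit 2, nat_lit 8, nat_lit 3, nat_lit 0, nat_lit 2, nat_lit 8, nat_lit 12, nat_lit 15, nat_lit 8, nat_lit 18] (Rl.cmp (nat_lit 3047) (nat_lit 2995)))) (FT.node (nat_lit 5708) (FT.leaf (Fct.mk false (nat_lit 32) (nat_lit 0) (nat_lit 32) [nat_lit 3, nat_lit 8, nat_lit 5, nat_lit 2, nat_lit 3, nat_lit 4, nat_lit 1, nat_lit 2, nat_lit 3, nat_lit 8, nat_lit 6, nat_lit 7, nat_lit 5, nat_lit 6, nat_lit 4, nat_lit 5, nat_lit 3, nat_lit 4, nat_lit 2, nat_lit 3, nat_lit 8, nat_lit 1,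 nat_lit 2, nat_lit 3, nat_lit 4, nat_lit 5, nat_lit 6, nat_lit 7, nat_lit 8, nat_lit 6, nat_lit 5, nat_lit 3, nat_lit 4, nat_lit 2, nat_lit 3, nat_lit 8, nat_lit 1, nat_lit 2, nat_lit 3, nat_lit 4, nat_lit 5, nat_lit 2, nat_lit 0, nat_lit 1, nat_lit 9, nat_lit 4, nat_lit 3, nat_lit 2, nat_lit 8, nat_lit 3, nat_lit 9, nat_lit 10, nat_lit 2, nat_lit 8, nat_lit 10, nat_lit 1, nat_lit 15, nat_lit 14, nat_lit 17, nat_lit 18] (Rl.cmp (nat_lit 3456) (nat_lit 5706)))) (FT.leaf (Fct.mk false (nat_lit 33) (nat_lit 0) (nat_lit 33) [nat_lit 1, nat_lit 2, nat_lit 3, nat_lit 8, nat_lit 6, nat_lit 7, nat_lit 5, nat_lit 6, nat_lit 4, nat_lit 5, nat_lit 3, nat_lit 4, nat_lit 2, nat_lit 3, nat_lit 8, nat_lit 1, nat_lit 2, nat_lit 3, nat_lit 4, nat_lit 5, nat_lit 6, nat_lit 7, nat_lit 8, nat_lit 5, nat_lit 6, nat_lit 4, nat_lit 5, nat_lit 3, nat_lit 4, nat_lit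 2, nat_lit 3, nat_lit 8, nat_lit 1, nat_lit 2, nat_lit 3, nat_lit 4, nat_lit 5, nat_lit 1, nat_lit 9, nat_lit 4, nat_lit 3, nat_lit 2, nat_lit 8, nat_lit 3, nat_lit 11, nat_lit 8, nat_lit 12, nat_lit 15, nat_lit 13, nat_lit 19] (Rl.cmp (nat_lit 4456) (nat_lit 5614)))))) (FT.node (nat_lit 5710) (FT.leaf (Fct.mk false (nat_lit 33) (nat_lit 0) (nat_lit 33) [nat_lit 8, nat_lit 3, nat_lit 4, nat_lit 2, nat_lit 3, nat_lit 8, nat_lit 0, nat_lit 1, nat_lit 2, nat_lit 3, nat_lit 4, nat_lit 5, nat_lit 6, nat_lit 7, nat_lit 3, nat_lit 8, nat_lit 6, nat_lit 4, nat_lit 5, nat_lit 3, nat_lit 4, nat_lit 2, nat_lit 3, nat_lit 8, nat_lit 0, nat_lit 1, nat_lit 2, nat_lit 3, nat_lit 4, nat_lit 5, nat_lit 1, nat_lit 3, nat_lit 2, nat_lit 0, nat_lit 1, nat_lit 4, nat_lit 3, nat_lit 2, nat_lit 8, nat_lit 3, nat_lit 11, nat_lit 1, nat_lit 12, nat_lit 8, nat_lit 16,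 nat_lit 14, nat_lit 12, nat_lit 18] (Rl.cmp (nat_lit 4402) (nat_lit 5705)))) (FT.node (nat_lit 5711) (FT.leaf (Fct.mk true (nat_lit 4) (nat_lit 2102) (nat_lit 34) [] (Rl.df))) (FT.leaf (Fct.mk true (nat_lit 34) (nat_lit 2102) (nat_lit 4) [] (Rl.inv (nat_lit 5710)))))))) (FT.node (nat_lit 5718) (FT.node (nat_lit 5715) (FT.node (nat_lit 5713) (FT.leaf (Fct.mk false (nat_lit 4) (nat_lit 0) (nat_lit 4) [nat_lit 7, nat_lit 4] (Rl.cmp (nat_lit 263) (nat_lit 2983)))) (FT.node (nat_lit 5714) (FT.leaf (Fct.mk true (nat_lit 32) (nat_lit 19208) (nat_lit 34) [nat_lit 8, nat_lit 5, nat_lit 2, nat_lit 3, nat_lit 4, nat_lit 1, nat_lit 2, nat_lit 3, nat_lit 8, nat_lit 0, nat_lit 1, nat_lit 2, nat_lit 3, nat_lit 4, nat_lit 5, nat_lit 6, nat_lit 7, nat_lit 6, nat_lit 5, nat_lit 4, nat_lit 3, nat_lit 8, nat_lit 1, nat_lit 2, nat_lit 3, nat_lit 4, nat_lit 5, nat_lit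 1, nat_lit 4, nat_lit 3, nat_lit 2, nat_lit 8, nat_lit 3, nat_lit 11, nat_lit 10, nat_lit 2, nat_lit 8, nat_lit 10, nat_lit 1, nat_lit 16, nat_lit 14, nat_lit 12, nat_lit 18, nat_lit 16] (Rl.rel (nat_lit 0) [nat_lit 3, nat_lit 4, nat_lit 5, nat_lit 2, nat_lit 3, nat_lit 4, nat_lit 1, nat_lit 2, nat_lit 3, nat_lit 8, nat_lit 0, nat_lit 1, nat_lit 2, nat_lit 3, nat_lit 4, nat_lit 5, nat_lit 6, nat_lit 7, nat_lit 4, nat_lit 5, nat_lit 3, nat_lit 11, nat_lit 10, nat_lit 1, nat_lit 8, nat_lit 16, nat_lit 14, nat_lit 17, nat_lit 18, nat_lit 16] (nat_lit 34) (nat_lit 2) [nat_lit 5711, nat_lit 5712, nat_lit 2992] []))) (FT.leaf (Fct.mk true (nat_lit 32) (nat_lit 1068) (nat_lit 34) [nat_lit 4, nat_lit 2, nat_lit 3, nat_lit 8, nat_lit 0, nat_lit 1, nat_lit 2, nat_lit 3, nat_lit 4, nat_lit 5, nat_lit 6, nat_lit 7, nat_lit 8, nat_lit 6, nat_lit 4, nat_lit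 5, nat_lit 2, nat_lit 3, nat_lit 4, nat_lit 1, nat_lit 2, nat_lit 3, nat_lit 8, nat_lit 0, nat_lit 1, nat_lit 2, nat_lit 3, nat_lit 4, nat_lit 5, nat_lit 2, nat_lit 0, nat_lit 1, nat_lit 3, nat_lit 2, nat_lit 8, nat_lit 3, nat_lit 9, nat_lit 2, nat_lit 8, nat_lit 16, nat_lit 14, nat_lit 13, nat_lit 12, nat_lit 18, nat_lit 16] (Rl.t1 (nat_lit 5713) (nat_lit 4279)))))) (FT.node (nat_lit 5716) (FT.leaf (Fct.mk true (nat_lit 34) (nat_lit 2044) (nat_lit 32) [nat_lit 8, nat_lit 5, nat_lit 3, nat_lit 4, nat_lit 1, nat_lit 2, nat_lit 3, nat_lit 8, nat_lit 0, nat_lit 1, nat_lit 2, nat_lit 3, nat_lit 4, nat_lit 5, nat_lit 6, nat_lit 7, nat_lit 1, nat_lit 2, nat_lit 3, nat_lit 4, nat_lit 5, nat_lit 2, nat_lit 3, nat_lit 11, nat_lit 10, nat_lit 2, nat_lit 8, nat_lit 10, nat_lit 1, nat_lit 16, nat_lit 15, nat_lit 14, nat_lit 16, nat_lit 8, nat_lit 16] (Rl.inv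 (nat_lit 5714)))) (FT.node (nat_lit 5717) (FT.leaf (Fct.mk false (nat_lit 4) (nat_lit 0) (nat_lit 4) [nat_lit 7, nat_lit 1, nat_lit 2, nat_lit 3, nat_lit 8, nat_lit 6, nat_lit 4, nat_lit 5, nat_lit 3, nat_lit 4, nat_lit 2, nat_lit 3, nat_lit 8, nat_lit 1, nat_lit 2, nat_lit 3, nat_lit 4, nat_lit 5, nat_lit 2, nat_lit 3, nat_lit 8, nat_lit 4, nat_lit 3, nat_lit 2, nat_lit 1, nat_lit 9, nat_lit 4, nat_lit 3, nat_lit 2, nat_lit 8, nat_lit 3, nat_lit 1, nat_lit 12, nat_lit 8, nat_lit 16, nat_lit 14, nat_lit 8, nat_lit 19] (Rl.cmp (nat_lit 263) (nat_lit 2956)))) (FT.leaf (Fct.mk false (nat_lit 34) (nat_lit 0) (nat_lit 34) [nat_lit 107] (Rl.rel (nat_lit 0) [nat_lit 8, nat_lit 4, nat_lit 5, nat_lit 2, nat_lit 3, nat_lit 4, nat_lit 1, nat_lit 2, nat_lit 3, nat_lit 8, nat_lit 0, nat_lit 1, nat_lit 2, nat_lit 3, nat_lit 4, nat_lit 5, nat_lit 6, nat_lit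 7, nat_lit 3, nat_lit 8, nat_lit 2, nat_lit 3, nat_lit 4, nat_lit 1, nat_lit 2, nat_lit 3, nat_lit 8, nat_lit 0, nat_lit 1, nat_lit 2, nat_lit 3, nat_lit 4, nat_lit 5, nat_lit 2, nat_lit 0, nat_lit 1, nat_lit 3, nat_lit 2, nat_lit 8, nat_lit 3, nat_lit 11, nat_lit 8, nat_lit 10, nat_lit 8, nat_lit 16, nat_lit 14, nat_lit 18, nat_lit 16] (nat_lit 34) (nat_lit 3) [nat_lit 5711, nat_lit 5716, nat_lit 2992, nat_lit 4279, nat_lit 5714] [])))))) (FT.node (nat_lit 5721) (FT.node (nat_lit 5719) (FT.leaf (Fct.mk false (nat_lit 4) (nat_lit 0) (nat_lit 4) [nat_lit 8, nat_lit 3, nat_lit 4, nat_lit 1, nat_lit 2, nat_lit 3, nat_lit 8, nat_lit 6, nat_lit 7, nat_lit 5, nat_lit 6, nat_lit 4, nat_lit 5, nat_lit 3, nat_lit 4, nat_lit 2, nat_lit 3, nat_lit 8, nat_lit 1, nat_lit 2, nat_lit 3, nat_lit 4, nat_lit 5, nat_lit 6, nat_lit 7, nat_lit 2, nat_lit 3, nat_lit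 8, nat_lit 4, nat_lit 5, nat_lit 3, nat_lit 4, nat_lit 2, nat_lit 3, nat_lit 8, nat_lit 1, nat_lit 2, nat_lit 3, nat_lit 4, nat_lit 5, nat_lit 3, nat_lit 8, nat_lit 4, nat_lit 3, nat_lit 2, nat_lit 1, nat_lit 9, nat_lit 4, nat_lit 3, nat_lit 2, nat_lit 8, nat_lit 3, nat_lit 1, nat_lit 16, nat_lit 14, nat_lit 19, nat_lit 16] (Rl.cmp (nat_lit 243) (nat_lit 2987)))) (FT.node (nat_lit 5720) (FT.leaf (Fct.mk false (nat_lit 4) (nat_lit 0) (nat_lit 4) [nat_lit 6, nat_lit 7, nat_lit 5, nat_lit 6, nat_lit 4, nat_lit 5, nat_lit 3, nat_lit 4, nat_lit 2, nat_lit 3, nat_lit 8, nat_lit 1, nat_lit 2, nat_lit 3, nat_lit 4, nat_lit 5, nat_lit 6, nat_lit 7, nat_lit 6, nat_lit 8, nat_lit 4, nat_lit 3, nat_lit 2, nat_lit 1, nat_lit 9, nat_lit 4, nat_lit 3, nat_lit 2, nat_lit 8, nat_lit 3, nat_lit 10, nat_lit 1, nat_lit 16, nat_lit 14, nat_lit 16, nat_lit 8, nat_lit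 19] (Rl.cmp (nat_lit 2284) (nat_lit 5718)))) (FT.leaf (Fct.mk true (nat_lit 33) (nat_lit 12043) (nat_lit 34) [nat_lit 5, nat_lit 4, nat_lit 2, nat_lit 3, nat_lit 8, nat_lit 6, nat_lit 7, nat_lit 5, nat_lit 6, nat_lit 4, nat_lit 5, nat_lit 3, nat_lit 4, nat_lit 2, nat_lit 3, nat_lit 8, nat_lit 0, nat_lit 1, nat_lit 2, nat_lit 3, nat_lit 4, nat_lit 5, nat_lit 6, nat_lit 7, nat_lit 4, nat_lit 5, nat_lit 6, nat_lit 3, nat_lit 4, nat_lit 5, nat_lit 2, nat_lit 3, nat_lit 4, nat_lit 1, nat_lit 2, nat_lit 3, nat_lit 8, nat_lit 0, nat_lit 1, nat_lit 2, nat_lit 3, nat_lit 4, nat_lit 5, nat_lit 1, nat_lit 2, nat_lit 0, nat_lit 1, nat_lit 4, nat_lit 3, nat_lit 2, nat_lit 8, nat_lit 3, nat_lit 2, nat_lit 10, nat_lit 1, nat_lit 8, nat_lit 16, nat_lit 14, nat_lit 17, nat_lit 18, nat_lit 16] (Rl.rel (nat_lit 0) [nat_lit 8, nat_lit 4, nat_lit 5, nat_lit 2,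 nat_lit 3, nat_lit 4, nat_lit 1, nat_lit 2, nat_lit 3, nat_lit 8, nat_lit 0, nat_lit 1, nat_lit 2, nat_lit 3, nat_lit 4, nat_lit 5, nat_lit 6, nat_lit 7, nat_lit 4, nat_lit 3, nat_lit 8, nat_lit 2, nat_lit 3, nat_lit 4, nat_lit 1, nat_lit 2, nat_lit 3, nat_lit 8, nat_lit 0, nat_lit 1, nat_lit 2, nat_lit 3, nat_lit 4, nat_lit 5, nat_lit 2, nat_lit 0, nat_lit 1, nat_lit 3, nat_lit 2, nat_lit 8, nat_lit 3, nat_lit 11, nat_lit 8, nat_lit 10, nat_lit 8, nat_lit 16, nat_lit 14, nat_lit 18, nat_lit 16] (nat_lit 34) (nat_lit 2) [nat_lit 5711, nat_lit 5719, nat_lit 4393] []))))) (FT.node (nat_lit 5723) (FT.node (nat_lit 5722) (FT.leaf (Fct.mk true (nat_lit 33) (nat_lit 277) (nat_lit 34) [nat_lit 5, nat_lit 2, nat_lit 3, nat_lit 4, nat_lit 1, nat_lit 2, nat_lit 3, nat_lit 8, nat_lit 6, nat_lit 7, nat_lit 5, nat_lit 6, nat_lit 4, nat_lit 5, nat_lit 3,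 nat_lit 4, nat_lit 2, nat_lit 3, nat_lit 8, nat_lit 1, nat_lit 2, nat_lit 3, nat_lit 4, nat_lit 5, nat_lit 6, nat_lit 7, nat_lit 8, nat_lit 5, nat_lit 3, nat_lit 4, nat_lit 2, nat_lit 3, nat_lit 8, nat_lit 0, nat_lit 1, nat_lit 2, nat_lit 3, nat_lit 4, nat_lit 5, nat_lit 4, nat_lit 3, nat_lit 2, nat_lit 0, nat_lit 1, nat_lit 9, nat_lit 4, nat_lit 3, nat_lit 2, nat_lit 8, nat_lit 3, nat_lit 11, nat_lit 10, nat_lit 8, nat_lit 12, nat_lit 15, nat_lit 14, nat_lit 17, nat_lit 12, nat_lit 18] (Rl.t1 (nat_lit 5720) (nat_lit 4833)))) (FT.leaf (Fct.mk true (nat_lit 34) (nat_lit 45759) (nat_lit 33) [nat_lit 5, nat_lit 4, nat_lit 3, nat_lit 8, nat_lit 6, nat_lit 7, nat_lit 5, nat_lit 6, nat_lit 4, nat_lit 5, nat_lit 3, nat_lit 4, nat_lit 2, nat_lit 3, nat_lit 8, nat_lit 1, nat_lit 2, nat_lit 3, nat_lit 4, nat_lit 5, nat_lit 6, nat_lit 7, nat_lit 3, nat_lit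 8, nat_lit 5, nat_lit 6, nat_lit 4, nat_lit 5, nat_lit 3, nat_lit 4, nat_lit 2, nat_lit 3, nat_lit 8, nat_lit 1, nat_lit 2, nat_lit 3, nat_lit 4, nat_lit 5, nat_lit 1, nat_lit 8, nat_lit 4, nat_lit 3, nat_lit 2, nat_lit 0, nat_lit 1, nat_lit 9, nat_lit 4, nat_lit 3, nat_lit 2, nat_lit 8, nat_lit 3, nat_lit 11, nat_lit 10, nat_lit 1, nat_lit 16, nat_lit 8, nat_lit 12, nat_lit 15, nat_lit 13, nat_lit 18] (Rl.inv (nat_lit 5721))))) (FT.node (nat_lit 5724) (FT.leaf (Fct.mk false (nat_lit 4) (nat_lit 0) (nat_lit 4) [nat_lit 5, nat_lit 4, nat_lit 3, nat_lit 8, nat_lit 6, nat_lit 7, nat_lit 5, nat_lit 6, nat_lit 4, nat_lit 5, nat_lit 3, nat_lit 4, nat_lit 2, nat_lit 3, nat_lit 8, nat_lit 1, nat_lit 2, nat_lit 3, nat_lit 4, nat_lit 5, nat_lit 6, nat_lit 7, nat_lit 4, nat_lit 3, nat_lit 8, nat_lit 1, nat_lit 2, nat_lit 3, nat_lit 4, nat_lit 5, nat_lit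 3, nat_lit 9, nat_lit 2, nat_lit 16, nat_lit 14, nat_lit 8, nat_lit 18, nat_lit 16] (Rl.cmp (nat_lit 263) (nat_lit 4828)))) (FT.leaf (Fct.mk false (nat_lit 4) (nat_lit 0) (nat_lit 4) [nat_lit 7, nat_lit 8, nat_lit 3, nat_lit 4, nat_lit 2, nat_lit 3, nat_lit 8, nat_lit 5, nat_lit 6, nat_lit 4, nat_lit 5, nat_lit 3, nat_lit 4, nat_lit 2, nat_lit 3, nat_lit 8, nat_lit 1, nat_lit 2, nat_lit 3, nat_lit 4, nat_lit 5, nat_lit 2, nat_lit 1, nat_lit 4, nat_lit 3, nat_lit 2, nat_lit 8, nat_lit 3, nat_lit 1, nat_lit 9, nat_lit 8, nat_lit 16, nat_lit 14, nat_lit 16, nat_lit 8, nat_lit 19] (Rl.cmp (nat_lit 2372) (nat_lit 5723))))))))) (FT.node (nat_lit 5737) (FT.node (nat_lit 5731) (FT.node (nat_lit 5728) (FT.node (nat_lit 5726) (FT.leaf (Fct.mk false (nat_lit 34) (nat_lit 0) (nat_lit 34) [nat_lit 108] (Rl.rel (nat_lit 0) [nat_lit 8, nat_lit 4, nat_lit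 5, nat_lit 2, nat_lit 3, nat_lit 4, nat_lit 1, nat_lit 2, nat_lit 3, nat_lit 8, nat_lit 0, nat_lit 1, nat_lit 2, nat_lit 3, nat_lit 4, nat_lit 5, nat_lit 6, nat_lit 7, nat_lit 3, nat_lit 8, nat_lit 2, nat_lit 3, nat_lit 4, nat_lit 1, nat_lit 2, nat_lit 3, nat_lit 8, nat_lit 0, nat_lit 1, nat_lit 2, nat_lit 3, nat_lit 4, nat_lit 5, nat_lit 2, nat_lit 0, nat_lit 1, nat_lit 3, nat_lit 2, nat_lit 8, nat_lit 3, nat_lit 11, nat_lit 8, nat_lit 10, nat_lit 12, nat_lit 8, nat_lit 16, nat_lit 14, nat_lit 18, nat_lit 16] (nat_lit 34) (nat_lit 3) [nat_lit 5711, nat_lit 5724, nat_lit 2992, nat_lit 4279, nat_lit 5714] []))) (FT.node (nat_lit 5727) (FT.leaf (Fct.mk true (nat_lit 34) (nat_lit 21445) (nat_lit 33) [nat_lit 5, nat_lit 4, nat_lit 3, nat_lit 8, nat_lit 6, nat_lit 7, nat_lit 5, nat_lit 6, nat_lit 4, nat_lit 5, nat_lit 3, nat_lit 4, nat_lit 2, nat_lit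 3, nat_lit 8, nat_lit 1, nat_lit 2, nat_lit 3, nat_lit 4, nat_lit 5, nat_lit 6, nat_lit 7, nat_lit 8, nat_lit 3, nat_lit 4, nat_lit 2, nat_lit 3, nat_lit 8, nat_lit 1, nat_lit 2, nat_lit 3, nat_lit 4, nat_lit 5, nat_lit 2, nat_lit 0, nat_lit 1, nat_lit 9, nat_lit 4, nat_lit 3, nat_lit 2, nat_lit 8, nat_lit 3, nat_lit 8, nat_lit 16, nat_lit 14, nat_lit 19, nat_lit 16] (Rl.t1 (nat_lit 5722) (nat_lit 5725)))) (FT.leaf (Fct.mk false (nat_lit 4) (nat_lit 0) (nat_lit 4) [nat_lit 8, nat_lit 3, nat_lit 4, nat_lit 2, nat_lit 3, nat_lit 8, nat_lit 6, nat_lit 7, nat_lit 5, nat_lit 6, nat_lit 4, nat_lit 5, nat_lit 3, nat_lit 4, nat_lit 2, nat_lit 3, nat_lit 8, nat_lit 1, nat_lit 2, nat_lit 3, nat_lit 4, nat_lit 5, nat_lit 6, nat_lit 7, nat_lit 6, nat_lit 5, nat_lit 4, nat_lit 3, nat_lit 8, nat_lit 2, nat_lit 3, nat_lit 4, nat_lit 1, nat_lit 2, nat_lit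 3, nat_lit 8, nat_lit 5, nat_lit 6, nat_lit 4, nat_lit 5, nat_lit 3, nat_lit 4, nat_lit 2, nat_lit 3, nat_lit 8, nat_lit 1, nat_lit 2, nat_lit 3, nat_lit 4, nat_lit 5, nat_lit 1, nat_lit 9, nat_lit 4, nat_lit 3, nat_lit 2, nat_lit 8, nat_lit 3, nat_lit 1, nat_lit 16, nat_lit 8, nat_lit 19, nat_lit 16] (Rl.cmp (nat_lit 312) (nat_lit 2986)))))) (FT.node (nat_lit 5729) (FT.leaf (Fct.mk false (nat_lit 4) (nat_lit 0) (nat_lit 4) [nat_lit 8, nat_lit 5, nat_lit 2, nat_lit 3, nat_lit 4, nat_lit 1, nat_lit 2, nat_lit 3, nat_lit 8, nat_lit 6, nat_lit 7, nat_lit 5, nat_lit 6, nat_lit 4, nat_lit 5, nat_lit 3, nat_lit 4, nat_lit 2, nat_lit 3, nat_lit 8, nat_lit 1, nat_lit 2, nat_lit 3, nat_lit 4, nat_lit 5, nat_lit 6, nat_lit 7, nat_lit 3, nat_lit 8, nat_lit 2, nat_lit 3, nat_lit 4, nat_lit 5, nat_lit 1, nat_lit 4, nat_lit 3, nat_lit 2, nat_lit 8, nat_lit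 3, nat_lit 10, nat_lit 2, nat_lit 8, nat_lit 10, nat_lit 1, nat_lit 8, nat_lit 16, nat_lit 14, nat_lit 16, nat_lit 8, nat_lit 16] (Rl.cmp (nat_lit 2372) (nat_lit 5727)))) (FT.node (nat_lit 5730) (FT.leaf (Fct.mk false (nat_lit 4) (nat_lit 0) (nat_lit 4) [nat_lit 8, nat_lit 4, nat_lit 5, nat_lit 2, nat_lit 3, nat_lit 4, nat_lit 1, nat_lit 2, nat_lit 3, nat_lit 8, nat_lit 6, nat_lit 7, nat_lit 5, nat_lit 6, nat_lit 4, nat_lit 5, nat_lit 3, nat_lit 4, nat_lit 2, nat_lit 3, nat_lit 8, nat_lit 1, nat_lit 2, nat_lit 3, nat_lit 4, nat_lit 5, nat_lit 6, nat_lit 7, nat_lit 6, nat_lit 4, nat_lit 3, nat_lit 2, nat_lit 1, nat_lit 9, nat_lit 4, nat_lit 3, nat_lit 2, nat_lit 8, nat_lit 3, nat_lit 8, nat_lit 10, nat_lit 1, nat_lit 14, nat_lit 16, nat_lit 8, nat_lit 19] (Rl.cmp (nat_lit 1995) (nat_lit 5728)))) (FT.leaf (Fct.mk false (nat_lit 34) (nat_lit 0)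 (nat_lit 34) [nat_lit 109] (Rl.rel (nat_lit 0) [nat_lit 8, nat_lit 4, nat_lit 5, nat_lit 2, nat_lit 3, nat_lit 4, nat_lit 1, nat_lit 2, nat_lit 3, nat_lit 8, nat_lit 0, nat_lit 1, nat_lit 2, nat_lit 3, nat_lit 4, nat_lit 5, nat_lit 6, nat_lit 7, nat_lit 8, nat_lit 2, nat_lit 3, nat_lit 4, nat_lit 1, nat_lit 2, nat_lit 3, nat_lit 8, nat_lit 0, nat_lit 1, nat_lit 2, nat_lit 3, nat_lit 4, nat_lit 5, nat_lit 1, nat_lit 2, nat_lit 0, nat_lit 1, nat_lit 3, nat_lit 2, nat_lit 8, nat_lit 3, nat_lit 11, nat_lit 8, nat_lit 10, nat_lit 8, nat_lit 16, nat_lit 14, nat_lit 18, nat_lit 16] (nat_lit 34) (nat_lit 3) [nat_lit 5711, nat_lit 5729, nat_lit 2992, nat_lit 4279, nat_lit 5714] [])))))) (FT.node (nat_lit 5734) (FT.node (nat_lit 5732) (FT.leaf (Fct.mk false (nat_lit 34) (nat_lit 0) (nat_lit 34) [nat_lit 2, nat_lit 3, nat_lit 8, nat_lit 4, nat_lit 5,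 nat_lit 3, nat_lit 4, nat_lit 2, nat_lit 3, nat_lit 8, nat_lit 6, nat_lit 7, nat_lit 5, nat_lit 6, nat_lit 4, nat_lit 5, nat_lit 3, nat_lit 4, nat_lit 2, nat_lit 3, nat_lit 8, nat_lit 1, nat_lit 2, nat_lit 3, nat_lit 4, nat_lit 5, nat_lit 6, nat_lit 7, nat_lit 8, nat_lit 5, nat_lit 6, nat_lit 4, nat_lit 5, nat_lit 3, nat_lit 4, nat_lit 2, nat_lit 3, nat_lit 8, nat_lit 1, nat_lit 2, nat_lit 3, nat_lit 4, nat_lit 5, nat_lit 3, nat_lit 9, nat_lit 10, nat_lit 2, nat_lit 8, nat_lit 10, nat_lit 1, nat_lit 14, nat_lit 19] (Rl.cmp (nat_lit 5730) (nat_lit 5725)))) (FT.node (nat_lit 5733) (FT.leaf (Fct.mk false (nat_lit 34) (nat_lit 0) (nat_lit 34) [nat_lit 8, nat_lit 4, nat_lit 5, nat_lit 2, nat_lit 3, nat_lit 4, nat_lit 1, nat_lit 2, nat_lit 3, nat_lit 8, nat_lit 6, nat_lit 7, nat_lit 5, nat_lit 6, nat_lit 4, nat_lit 5, nat_lit 3, nat_lit 4, nat_lit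 2, nat_lit 3, nat_lit 8, nat_lit 1, nat_lit 2, nat_lit 3, nat_lit 4, nat_lit 5, nat_lit 6, nat_lit 7, nat_lit 1, nat_lit 2, nat_lit 3, nat_lit 4, nat_lit 5, nat_lit 3, nat_lit 2, nat_lit 1, nat_lit 9, nat_lit 4, nat_lit 3, nat_lit 2, nat_lit 8, nat_lit 3, nat_lit 2, nat_lit 8, nat_lit 10, nat_lit 1, nat_lit 12, nat_lit 8, nat_lit 16, nat_lit 14, nat_lit 16, nat_lit 8] (Rl.cmp (nat_lit 5730) (nat_lit 5731)))) (FT.leaf (Fct.mk false (nat_lit 34) (nat_lit 0) (nat_lit 34) [nat_lit 8, nat_lit 4, nat_lit 5, nat_lit 2, nat_lit 3, nat_lit 4, nat_lit 1, nat_lit 2, nat_lit 3, nat_lit 8, nat_lit 6, nat_lit 7, nat_lit 5, nat_lit 6, nat_lit 4, nat_lit 5, nat_lit 3, nat_lit 4, nat_lit 2, nat_lit 3, nat_lit 8, nat_lit 1, nat_lit 2, nat_lit 3, nat_lit 4, nat_lit 5, nat_lit 6, nat_lit 7, nat_lit 4, nat_lit 5, nat_lit 3, nat_lit 2, nat_lit 1, nat_lit 4, nat_lit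 3, nat_lit 2, nat_lit 8, nat_lit 3, nat_lit 10, nat_lit 1, nat_lit 14, nat_lit 16, nat_lit 8, nat_lit 19] (Rl.cmp (nat_lit 5717) (nat_lit 5732)))))) (FT.node (nat_lit 5735) (FT.leaf (Fct.mk false (nat_lit 34) (nat_lit 0) (nat_lit 34) [nat_lit 7, nat_lit 8, nat_lit 3, nat_lit 4, nat_lit 5, nat_lit 10, nat_lit 1, nat_lit 8] (Rl.cmp (nat_lit 5730) (nat_lit 5733)))) (FT.node (nat_lit 5736) (FT.leaf (Fct.mk true (nat_lit 34) (nat_lit 1732) (nat_lit 32) [nat_lit 4, nat_lit 2, nat_lit 3, nat_lit 8, nat_lit 0, nat_lit 1, nat_lit 2, nat_lit 3, nat_lit 4, nat_lit 5, nat_lit 6, nat_lit 7, nat_lit 3, nat_lit 4, nat_lit 5, nat_lit 2, nat_lit 3, nat_lit 11, nat_lit 9, nat_lit 10, nat_lit 2, nat_lit 8, nat_lit 10, nat_lit 1, nat_lit 8, nat_lit 16, nat_lit 15, nat_lit 14, nat_lit 16, nat_lit 8, nat_lit 16] (Rl.t1 (nat_lit 5715) (nat_lit 5734)))) (FT.leaf (Fct.mk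 false (nat_lit 34) (nat_lit 0) (nat_lit 34) [nat_lit 2, nat_lit 3, nat_lit 8, nat_lit 4, nat_lit 5, nat_lit 3, nat_lit 4, nat_lit 2, nat_lit 3, nat_lit 8, nat_lit 6, nat_lit 7, nat_lit 5, nat_lit 6, nat_lit 4, nat_lit 5, nat_lit 3, nat_lit 4, nat_lit 2, nat_lit 3, nat_lit 8, nat_lit 1, nat_lit 2, nat_lit 3, nat_lit 4, nat_lit 5, nat_lit 6, nat_lit 7, nat_lit 8, nat_lit 5, nat_lit 6, nat_lit 4, nat_lit 5, nat_lit 3, nat_lit 4, nat_lit 2, nat_lit 3, nat_lit 8, nat_lit 1, nat_lit 2, nat_lit 3, nat_lit 4, nat_lit 5, nat_lit 3, nat_lit 9, nat_lit 10, nat_lit 2, nat_lit 8, nat_lit 10, nat_lit 1, nat_lit 14, nat_lit 19] (Rl.cmp (nat_lit 5730) (nat_lit 5725)))))))) (FT.node (nat_lit 5743) (FT.node (nat_lit 5740) (FT.node (nat_lit 5738) (FT.leaf (Fct.mk false (nat_lit 34) (nat_lit 0) (nat_lit 34) [nat_lit 8, nat_lit 3, nat_lit 4, nat_lit 2, nat_lit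 3, nat_lit 8, nat_lit 6, nat_lit 7, nat_lit 5, nat_lit 6, nat_lit 4, nat_lit 5, nat_lit 3, nat_lit 4, nat_lit 2, nat_lit 3, nat_lit 8, nat_lit 1, nat_lit 2, nat_lit 3, nat_lit 4, nat_lit 5, nat_lit 6, nat_lit 7, nat_lit 3, nat_lit 8, nat_lit 5, nat_lit 6, nat_lit 4, nat_lit 5, nat_lit 3, nat_lit 4, nat_lit 2, nat_lit 3, nat_lit 8, nat_lit 1, nat_lit 2, nat_lit 3, nat_lit 4, nat_lit 5, nat_lit 1, nat_lit 2, nat_lit 3, nat_lit 2, nat_lit 8, nat_lit 16, nat_lit 14, nat_lit 16, nat_lit 8, nat_lit 18] (Rl.cmp (nat_lit 5717) (nat_lit 5736)))) (FT.node (nat_lit 5739) (FT.leaf (Fct.mk true (nat_lit 34) (nat_lit 1734) (nat_lit 33) [nat_lit 2, nat_lit 3, nat_lit 4, nat_lit 1, nat_lit 2, nat_lit 3, nat_lit 8, nat_lit 6, nat_lit 7, nat_lit 5, nat_lit 6, nat_lit 4, nat_lit 5, nat_lit 3, nat_lit 4, nat_lit 2, nat_lit 3, nat_lit 8, nat_lit 1, nat_lit 2, nat_lit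 3, nat_lit 4, nat_lit 5, nat_lit 6, nat_lit 7, nat_lit 8, nat_lit 3, nat_lit 2, nat_lit 0, nat_lit 1, nat_lit 9, nat_lit 4, nat_lit 3, nat_lit 2, nat_lit 8, nat_lit 3, nat_lit 0, nat_lit 8, nat_lit 16, nat_lit 14, nat_lit 16, nat_lit 8, nat_lit 18] (Rl.t1 (nat_lit 5726) (nat_lit 5737)))) (FT.leaf (Fct.mk false (nat_lit 4) (nat_lit 0) (nat_lit 4) [nat_lit 7, nat_lit 2, nat_lit 3, nat_lit 4, nat_lit 5, nat_lit 1, nat_lit 3, nat_lit 2, nat_lit 8, nat_lit 3, nat_lit 8, nat_lit 10, nat_lit 14, nat_lit 12] (Rl.cmp (nat_lit 312) (nat_lit 263)))))) (FT.node (nat_lit 5741) (FT.leaf (Fct.mk false (nat_lit 4) (nat_lit 0) (nat_lit 4) [nat_lit 8, nat_lit 3, nat_lit 4, nat_lit 1, nat_lit 2, nat_lit 3, nat_lit 8, nat_lit 6, nat_lit 7, nat_lit 5, nat_lit 6, nat_lit 4, nat_lit 5, nat_lit 3, nat_lit 4, nat_lit 2, nat_lit 3, nat_lit 8, nat_lit 1, nat_lit 2, nat_lit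 3, nat_lit 4, nat_lit 5, nat_lit 6, nat_lit 7, nat_lit 2, nat_lit 3, nat_lit 4, nat_lit 1, nat_lit 2, nat_lit 3, nat_lit 8, nat_lit 5, nat_lit 6, nat_lit 4, nat_lit 5, nat_lit 3, nat_lit 4, nat_lit 2, nat_lit 3, nat_lit 8, nat_lit 1, nat_lit 2, nat_lit 3, nat_lit 4, nat_lit 5, nat_lit 2, nat_lit 1, nat_lit 4, nat_lit 3, nat_lit 2, nat_lit 8, nat_lit 3, nat_lit 10, nat_lit 1, nat_lit 14, nat_lit 16, nat_lit 8, nat_lit 19, nat_lit 16] (Rl.cmp (nat_lit 2284) (nat_lit 5739)))) (FT.node (nat_lit 5742) (FT.leaf (Fct.mk false (nat_lit 4) (nat_lit 0) (nat_lit 4) [nat_lit 8, nat_lit 3, nat_lit 4, nat_lit 2, nat_lit 3, nat_lit 8, nat_lit 6, nat_lit 7, nat_lit 5, nat_lit 6, nat_lit 4, nat_lit 5, nat_lit 3, nat_lit 4, nat_lit 2, nat_lit 3, nat_lit 8, nat_lit 1, nat_lit 2, nat_lit 3, nat_lit 4, nat_lit 5, nat_lit 6, nat_lit 7, nat_lit 6, nat_lit 1, nat_lit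 3, nat_lit 2, nat_lit 8, nat_lit 3, nat_lit 9, nat_lit 2, nat_lit 8, nat_lit 16, nat_lit 14, nat_lit 12, nat_lit 18, nat_lit 16] (Rl.cmp (nat_lit 243) (nat_lit 5740)))) (FT.leaf (Fct.mk false (nat_lit 34) (nat_lit 0) (nat_lit 34) [nat_lit 111] (Rl.rel (nat_lit 0) [nat_lit 8, nat_lit 4, nat_lit 5, nat_lit 2, nat_lit 3, nat_lit 4, nat_lit 1, nat_lit 2, nat_lit 3, nat_lit 8, nat_lit 0, nat_lit 1, nat_lit 2, nat_lit 3, nat_lit 4, nat_lit 5, nat_lit 6, nat_lit 7, nat_lit 4, nat_lit 3, nat_lit 8, nat_lit 2, nat_lit 3, nat_lit 4, nat_lit 1, nat_lit 2, nat_lit 3, nat_lit 8, nat_lit 0, nat_lit 1, nat_lit 2, nat_lit 3, nat_lit 4, nat_lit 5, nat_lit 2, nat_lit 0, nat_lit 1, nat_lit 3, nat_lit 2, nat_lit 8, nat_lit 3, nat_lit 11, nat_lit 8, nat_lit 10, nat_lit 12, nat_lit 8, nat_lit 16, nat_lit 14, nat_lit 18, nat_lit 16] (nat_lit 34) (nat_lit 3) [nat_lit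 5711, nat_lit 5741, nat_lit 2992, nat_lit 4279, nat_lit 5714] [])))))) (FT.node (nat_lit 5746) (FT.node (nat_lit 5744) (FT.leaf (Fct.mk false (nat_lit 33) (nat_lit 0) (nat_lit 33) [nat_lit 3, nat_lit 8, nat_lit 6, nat_lit 7, nat_lit 5, nat_lit 6, nat_lit 4, nat_lit 5, nat_lit 3, nat_lit 4, nat_lit 2, nat_lit 3, nat_lit 8, nat_lit 1, nat_lit 2, nat_lit 3, nat_lit 4, nat_lit 5, nat_lit 6, nat_lit 7, nat_lit 5, nat_lit 6, nat_lit 4, nat_lit 5, nat_lit 3, nat_lit 4, nat_lit 2, nat_lit 3, nat_lit 8, nat_lit 1, nat_lit 2, nat_lit 3, nat_lit 4, nat_lit 5, nat_lit 2, nat_lit 1, nat_lit 4, nat_lit 3, nat_lit 2, nat_lit 8, nat_lit 3, nat_lit 10, nat_lit 0, nat_lit 16, nat_lit 12, nat_lit 15, nat_lit 14, nat_lit 8, nat_lit 19] (Rl.cmp (nat_lit 4400) (nat_lit 5708)))) (FT.node (nat_lit 5745) (FT.leaf (Fct.mk true (nat_lit 4) (nat_lit 5375) (nat_lit 34)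 [nat_lit 2, nat_lit 3, nat_lit 8, nat_lit 7, nat_lit 6, nat_lit 4, nat_lit 5, nat_lit 3, nat_lit 4, nat_lit 2, nat_lit 3, nat_lit 8, nat_lit 1, nat_lit 2, nat_lit 3, nat_lit 4, nat_lit 5, nat_lit 6, nat_lit 7, nat_lit 4, nat_lit 5, nat_lit 1, nat_lit 3, nat_lit 2, nat_lit 8, nat_lit 3, nat_lit 10, nat_lit 9, nat_lit 2, nat_lit 12, nat_lit 8, nat_lit 16, nat_lit 14] (Rl.rel (nat_lit 0) [nat_lit 3, nat_lit 4, nat_lit 5, nat_lit 2, nat_lit 3, nat_lit 4, nat_lit 1, nat_lit 2, nat_lit 3, nat_lit 8, nat_lit 0, nat_lit 1, nat_lit 2, nat_lit 3, nat_lit 4, nat_lit 5, nat_lit 6, nat_lit 7, nat_lit 4, nat_lit 5, nat_lit 3, nat_lit 10, nat_lit 9, nat_lit 2] (nat_lit 34) (nat_lit 2) [nat_lit 5738, nat_lit 5743, nat_lit 4616] []))) (FT.leaf (Fct.mk true (nat_lit 34) (nat_lit 34) (nat_lit 4) [nat_lit 1, nat_lit 2, nat_lit 3, nat_lit 8, nat_lit 6, nat_lit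 7, nat_lit 5, nat_lit 6, nat_lit 4, nat_lit 5, nat_lit 3, nat_lit 4, nat_lit 2, nat_lit 3, nat_lit 8, nat_lit 1, nat_lit 2, nat_lit 3, nat_lit 4, nat_lit 5, nat_lit 6, nat_lit 7, nat_lit 8, nat_lit 3, nat_lit 2, nat_lit 1, nat_lit 4, nat_lit 3, nat_lit 2, nat_lit 8, nat_lit 3, nat_lit 10, nat_lit 9, nat_lit 2, nat_lit 18] (Rl.inv (nat_lit 5744)))))) (FT.node (nat_lit 5748) (FT.node (nat_lit 5747) (FT.leaf (Fct.mk false (nat_lit 34) (nat_lit 0) (nat_lit 34) [nat_lit 113] (Rl.rel (nat_lit 0) [nat_lit 8, nat_lit 4, nat_lit 5, nat_lit 2, nat_lit 3, nat_lit 4, nat_lit 1, nat_lit 2, nat_lit 3, nat_lit 8, nat_lit 0, nat_lit 1, nat_lit 2, nat_lit 3, nat_lit 4, nat_lit 5, nat_lit 6, nat_lit 7, nat_lit 3, nat_lit 8, nat_lit 2, nat_lit 3, nat_lit 4, nat_lit 1, nat_lit 2, nat_lit 3, nat_lit 8, nat_lit 0, nat_lit 1, nat_lit 2, nat_lit 3, nat_lit 4, nat_lit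 5, nat_lit 2, nat_lit 0, nat_lit 1, nat_lit 3, nat_lit 2, nat_lit 8, nat_lit 3, nat_lit 11, nat_lit 8, nat_lit 10, nat_lit 1, nat_lit 12, nat_lit 15, nat_lit 13, nat_lit 16] (nat_lit 34) (nat_lit 3) [nat_lit 5738, nat_lit 4631, nat_lit 4625, nat_lit 5631, nat_lit 5721] []))) (FT.leaf (Fct.mk false (nat_lit 34) (nat_lit 0) (nat_lit 34) [nat_lit 3, nat_lit 8, nat_lit 2, nat_lit 3, nat_lit 4, nat_lit 1, nat_lit 2, nat_lit 3, nat_lit 8, nat_lit 6, nat_lit 7, nat_lit 5, nat_lit 6, nat_lit 4, nat_lit 5, nat_lit 3, nat_lit 4, nat_lit 2, nat_lit 3, nat_lit 8, nat_lit 1, nat_lit 2, nat_lit 3, nat_lit 4, nat_lit 5, nat_lit 6, nat_lit 7, nat_lit 2, nat_lit 3, nat_lit 8, nat_lit 1, nat_lit 2, nat_lit 3, nat_lit 4, nat_lit 5, nat_lit 4, nat_lit 3, nat_lit 2, nat_lit 8, nat_lit 3, nat_lit 2, nat_lit 14, nat_lit 12, nat_lit 18] (Rl.cmp (nat_lit 5742) (nat_lit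 5746))))) (FT.node (nat_lit 5749) (FT.leaf (Fct.mk false (nat_lit 34) (nat_lit 0) (nat_lit 34) [nat_lit 4, nat_lit 3, nat_lit 8, nat_lit 2, nat_lit 3, nat_lit 4, nat_lit 1, nat_lit 2, nat_lit 3, nat_lit 8, nat_lit 5, nat_lit 6, nat_lit 4, nat_lit 5, nat_lit 3, nat_lit 4, nat_lit 2, nat_lit 3, nat_lit 8, nat_lit 1, nat_lit 2, nat_lit 3, nat_lit 4, nat_lit 5, nat_lit 6, nat_lit 7, nat_lit 8, nat_lit 3, nat_lit 4, nat_lit 2, nat_lit 3, nat_lit 8, nat_lit 1, nat_lit 2, nat_lit 3, nat_lit 4, nat_lit 5, nat_lit 2, nat_lit 1, nat_lit 4, nat_lit 3, nat_lit 2, nat_lit 8, nat_lit 3, nat_lit 2, nat_lit 16, nat_lit 14, nat_lit 16, nat_lit 8, nat_lit 19] (Rl.cmp (nat_lit 5746) (nat_lit 5747)))) (FT.leaf (Fct.mk false (nat_lit 34) (nat_lit 0) (nat_lit 34) [nat_lit 4, nat_lit 3, nat_lit 8, nat_lit 2, nat_lit 3, nat_lit 4, nat_lit 1, nat_lit 2, nat_lit 3,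 nat_lit 8, nat_lit 5, nat_lit 6, nat_lit 4, nat_lit 5, nat_lit 3, nat_lit 4, nat_lit 2, nat_lit 3, nat_lit 8, nat_lit 1, nat_lit 2, nat_lit 3, nat_lit 4, nat_lit 5, nat_lit 6, nat_lit 7, nat_lit 4, nat_lit 3, nat_lit 8, nat_lit 1, nat_lit 2, nat_lit 3, nat_lit 4, nat_lit 5, nat_lit 2, nat_lit 1, nat_lit 4, nat_lit 3, nat_lit 2, nat_lit 8, nat_lit 3, nat_lit 9, nat_lit 10, nat_lit 2, nat_lit 8, nat_lit 10, nat_lit 1, nat_lit 14] (Rl.cmp (nat_lit 5717) (nat_lit 5748)))))))))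

/-- some facts -/
noncomputable def ftc115 : FT := FT.node (nat_lit 5775) (FT.node (nat_lit 5762) (FT.node (nat_lit 5756) (FT.node (nat_lit 5753) (FT.node (nat_lit 5751) (FT.leaf (Fct.mk false (nat_lit 34) (nat_lit 0) (nat_lit 34) [nat_lit 2, nat_lit 3, nat_lit 8, nat_lit 5, nat_lit 6, nat_lit 4, nat_lit 5, nat_lit 3, nat_lit 4, nat_lit 2, nat_lit 3, nat_lit 8, nat_lit 1, nat_lit 2, nat_lit 3, nat_lit 4, nat_lit 5, nat_lit 6, nat_lit 7, nat_lit 8, nat_lit 6, nat_lit 4, nat_lit 5, nat_lit 3, nat_lit 4, nat_lit 2, nat_lit 3, nat_lit 8, nat_lit 1, nat_lit 2, nat_lit 3, nat_lit 4, nat_lit 5, nat_lit 3, nat_lit 2, nat_lit 8, nat_lit 3, nat_lit 8, nat_lit 10, nat_lit 1, nat_lit 16, nat_lit 14] (Rl.cmp (nat_lit 5746) (nat_lit 5749)))) (FT.node (nat_lit 5752) (FT.leaf (Fct.mk true (nat_lit 34) (nat_lit 1087) (nat_lit 4) [nat_lit 5, nat_lit 4, nat_lit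 3, nat_lit 8, nat_lit 1, nat_lit 2, nat_lit 3, nat_lit 4, nat_lit 5, nat_lit 6, nat_lit 7, nat_lit 3, nat_lit 8, nat_lit 6, nat_lit 4, nat_lit 5, nat_lit 3, nat_lit 4, nat_lit 2, nat_lit 3, nat_lit 8, nat_lit 1, nat_lit 2, nat_lit 3, nat_lit 4, nat_lit 5, nat_lit 2, nat_lit 1, nat_lit 4, nat_lit 3, nat_lit 2, nat_lit 8, nat_lit 3, nat_lit 8, nat_lit 10, nat_lit 9, nat_lit 2, nat_lit 16, nat_lit 14, nat_lit 16, nat_lit 8, nat_lit 18] (Rl.t1 (nat_lit 5711) (nat_lit 5750)))) (FT.leaf (Fct.mk false (nat_lit 34) (nat_lit 0) (nat_lit 34) [nat_lit 3, nat_lit 8, nat_lit 2, nat_lit 3, nat_lit 4, nat_lit 1, nat_lit 2, nat_lit 3, nat_lit 8, nat_lit 6, nat_lit 7, nat_lit 5, nat_lit 6, nat_lit 4, nat_lit 5, nat_lit 3, nat_lit 4, nat_lit 2, nat_lit 3, nat_lit 8, nat_lit 1, nat_lit 2, nat_lit 3, nat_lit 4, nat_lit 5, nat_lit 6, nat_lit 7, nat_lit 2, nat_lit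 3, nat_lit 8, nat_lit 1, nat_lit 2, nat_lit 3, nat_lit 4, nat_lit 5, nat_lit 4, nat_lit 3, nat_lit 2, nat_lit 8, nat_lit 3, nat_lit 2, nat_lit 14, nat_lit 12, nat_lit 18] (Rl.cmp (nat_lit 5742) (nat_lit 5746)))))) (FT.node (nat_lit 5754) (FT.leaf (Fct.mk false (nat_lit 34) (nat_lit 0) (nat_lit 34) [nat_lit 3, nat_lit 4, nat_lit 1, nat_lit 2, nat_lit 3, nat_lit 8, nat_lit 6, nat_lit 7, nat_lit 5, nat_lit 6, nat_lit 4, nat_lit 5, nat_lit 3, nat_lit 4, nat_lit 2, nat_lit 3, nat_lit 8, nat_lit 1, nat_lit 2, nat_lit 3, nat_lit 4, nat_lit 5, nat_lit 6, nat_lit 7, nat_lit 4, nat_lit 3, nat_lit 8, nat_lit 5, nat_lit 6, nat_lit 4, nat_lit 5, nat_lit 3, nat_lit 4, nat_lit 2, nat_lit 3, nat_lit 8, nat_lit 1, nat_lit 2, nat_lit 3, nat_lit 4, nat_lit 5, nat_lit 9, nat_lit 4, nat_lit 3, nat_lit 2, nat_lit 8, nat_lit 3, nat_lit 2, nat_lit 10, nat_lit 1, nat_lit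 8, nat_lit 16, nat_lit 14, nat_lit 12] (Rl.cmp (nat_lit 5717) (nat_lit 5752)))) (FT.node (nat_lit 5755) (FT.leaf (Fct.mk false (nat_lit 34) (nat_lit 0) (nat_lit 34) [nat_lit 8, nat_lit 3, nat_lit 4, nat_lit 1, nat_lit 2, nat_lit 3, nat_lit 8, nat_lit 5, nat_lit 6, nat_lit 4, nat_lit 5, nat_lit 3, nat_lit 4, nat_lit 2, nat_lit 3, nat_lit 8, nat_lit 1, nat_lit 2, nat_lit 3, nat_lit 4, nat_lit 5, nat_lit 6, nat_lit 7, nat_lit 3, nat_lit 8, nat_lit 5, nat_lit 6, nat_lit 4, nat_lit 5, nat_lit 3, nat_lit 4, nat_lit 2, nat_lit 3, nat_lit 8, nat_lit 1, nat_lit 2, nat_lit 3, nat_lit 4, nat_lit 5, nat_lit 8, nat_lit 3, nat_lit 2, nat_lit 1, nat_lit 9, nat_lit 4, nat_lit 3, nat_lit 2, nat_lit 8, nat_lit 3, nat_lit 16, nat_lit 14, nat_lit 16, nat_lit 8, nat_lit 19] (Rl.cmp (nat_lit 5746) (nat_lit 5753)))) (FT.leaf (Fct.mk false (nat_lit 34) (nat_lit 0)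 (nat_lit 34) [nat_lit 5, nat_lit 3, nat_lit 4, nat_lit 2, nat_lit 3, nat_lit 8, nat_lit 6, nat_lit 7, nat_lit 5, nat_lit 6, nat_lit 4, nat_lit 5, nat_lit 3, nat_lit 4, nat_lit 2, nat_lit 3, nat_lit 8, nat_lit 1, nat_lit 2, nat_lit 3, nat_lit 4, nat_lit 5, nat_lit 6, nat_lit 7, nat_lit 8, nat_lit 2, nat_lit 3, nat_lit 4, nat_lit 1, nat_lit 2, nat_lit 3, nat_lit 8, nat_lit 5, nat_lit 6, nat_lit 4, nat_lit 5, nat_lit 3, nat_lit 4, nat_lit 2, nat_lit 3, nat_lit 8, nat_lit 1, nat_lit 2, nat_lit 3, nat_lit 4, nat_lit 5, nat_lit 3, nat_lit 2, nat_lit 1, nat_lit 9, nat_lit 4, nat_lit 3, nat_lit 2, nat_lit 8, nat_lit 3, nat_lit 9, nat_lit 10, nat_lit 2, nat_lit 8, nat_lit 10, nat_lit 1, nat_lit 16, nat_lit 14, nat_lit 16] (Rl.cmp (nat_lit 5730) (nat_lit 5754))))))) (FT.node (nat_lit 5759) (FT.node (nat_lit 5757) (FT.leaf (Fct.mk false (nat_lit 34) (nat_lit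 0) (nat_lit 34) [nat_lit 8, nat_lit 4, nat_lit 5, nat_lit 3, nat_lit 4, nat_lit 2, nat_lit 3, nat_lit 8, nat_lit 1, nat_lit 2, nat_lit 3, nat_lit 4, nat_lit 5, nat_lit 6, nat_lit 7, nat_lit 4, nat_lit 3, nat_lit 8, nat_lit 2, nat_lit 3, nat_lit 4, nat_lit 5, nat_lit 2, nat_lit 3, nat_lit 10, nat_lit 12, nat_lit 8, nat_lit 16, nat_lit 14, nat_lit 16, nat_lit 8, nat_lit 16] (Rl.cmp (nat_lit 5730) (nat_lit 5755)))) (FT.node (nat_lit 5758) (FT.leaf (Fct.mk false (nat_lit 34) (nat_lit 0) (nat_lit 34) [nat_lit 5, nat_lit 1, nat_lit 9, nat_lit 8, nat_lit 16, nat_lit 14, nat_lit 8, nat_lit 18] (Rl.cmp (nat_lit 5746) (nat_lit 5756)))) (FT.leaf (Fct.mk true (nat_lit 34) (nat_lit 6) (nat_lit 32) [nat_lit 4, nat_lit 5, nat_lit 6, nat_lit 3, nat_lit 4, nat_lit 5, nat_lit 2, nat_lit 3, nat_lit 4, nat_lit 1, nat_lit 2, nat_lit 3, nat_lit 8, nat_lit 0, nat_lit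 1, nat_lit 2, nat_lit 3, nat_lit 4, nat_lit 5, nat_lit 6, nat_lit 7, nat_lit 8, nat_lit 3, nat_lit 4, nat_lit 2, nat_lit 3, nat_lit 8, nat_lit 0, nat_lit 1, nat_lit 2, nat_lit 3, nat_lit 4, nat_lit 5, nat_lit 1, nat_lit 2, nat_lit 0, nat_lit 1, nat_lit 3, nat_lit 2, nat_lit 8, nat_lit 3, nat_lit 11, nat_lit 9, nat_lit 10, nat_lit 2, nat_lit 8, nat_lit 10, nat_lit 1, nat_lit 12, nat_lit 15, nat_lit 16, nat_lit 8, nat_lit 19, nat_lit 16] (Rl.t1 (nat_lit 5735) (nat_lit 5757)))))) (FT.node (nat_lit 5760) (FT.leaf (Fct.mk false (nat_lit 34) (nat_lit 0) (nat_lit 34) [nat_lit 5, nat_lit 4, nat_lit 3, nat_lit 8, nat_lit 6, nat_lit 7, nat_lit 5, nat_lit 6, nat_lit 4, nat_lit 5, nat_lit 3, nat_lit 4, nat_lit 2, nat_lit 3, nat_lit 8, nat_lit 1, nat_lit 2, nat_lit 3, nat_lit 4, nat_lit 5, nat_lit 6, nat_lit 7, nat_lit 8, nat_lit 2, nat_lit 3, nat_lit 4,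 nat_lit 5, nat_lit 2, nat_lit 1, nat_lit 4, nat_lit 3, nat_lit 2, nat_lit 8, nat_lit 3, nat_lit 10, nat_lit 2, nat_lit 8, nat_lit 10, nat_lit 1, nat_lit 8, nat_lit 16, nat_lit 14, nat_lit 16, nat_lit 8] (Rl.cmp (nat_lit 5742) (nat_lit 5717)))) (FT.node (nat_lit 5761) (FT.leaf (Fct.mk false (nat_lit 34) (nat_lit 0) (nat_lit 34) [nat_lit 8, nat_lit 5, nat_lit 3, nat_lit 4, nat_lit 2, nat_lit 3, nat_lit 8, nat_lit 6, nat_lit 7, nat_lit 5, nat_lit 6, nat_lit 4, nat_lit 5, nat_lit 3, nat_lit 4, nat_lit 2, nat_lit 3, nat_lit 8, nat_lit 1, nat_lit 2, nat_lit 3, nat_lit 4, nat_lit 5, nat_lit 6, nat_lit 7, nat_lit 8, nat_lit 6, nat_lit 4, nat_lit 5, nat_lit 3, nat_lit 4, nat_lit 2, nat_lit 3, nat_lit 8, nat_lit 1, nat_lit 2, nat_lit 3, nat_lit 4, nat_lit 5, nat_lit 2, nat_lit 19, nat_lit 16] (Rl.cmp (nat_lit 5746) (nat_lit 5759)))) (FT.leaf (Fct.mk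 false (nat_lit 34) (nat_lit 0) (nat_lit 34) [nat_lit 8, nat_lit 5, nat_lit 6, nat_lit 4, nat_lit 5, nat_lit 3, nat_lit 4, nat_lit 2, nat_lit 3, nat_lit 8, nat_lit 1, nat_lit 2, nat_lit 3, nat_lit 4, nat_lit 5, nat_lit 6, nat_lit 7, nat_lit 2, nat_lit 1, nat_lit 3, nat_lit 2, nat_lit 8, nat_lit 3, nat_lit 1, nat_lit 9, nat_lit 16, nat_lit 14, nat_lit 8] (Rl.cmp (nat_lit 5730) (nat_lit 5760)))))))) (FT.node (nat_lit 5768) (FT.node (nat_lit 5765) (FT.node (nat_lit 5763) (FT.leaf (Fct.mk false (nat_lit 34) (nat_lit 0) (nat_lit 34) [nat_lit 4, nat_lit 1, nat_lit 2, nat_lit 3, nat_lit 8, nat_lit 5, nat_lit 6, nat_lit 4, nat_lit 5, nat_lit 3, nat_lit 4, nat_lit 2, nat_lit 3, nat_lit 8, nat_lit 1, nat_lit 2, nat_lit 3, nat_lit 4, nat_lit 5, nat_lit 6, nat_lit 7, nat_lit 6, nat_lit 5, nat_lit 4, nat_lit 3, nat_lit 8, nat_lit 1, nat_lit 2, nat_lit 3,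 nat_lit 4, nat_lit 5, nat_lit 2, nat_lit 3, nat_lit 8, nat_lit 4, nat_lit 3, nat_lit 2, nat_lit 1, nat_lit 9, nat_lit 4, nat_lit 3, nat_lit 2, nat_lit 8, nat_lit 3, nat_lit 16, nat_lit 14, nat_lit 16, nat_lit 8] (Rl.cmp (nat_lit 5746) (nat_lit 5761)))) (FT.node (nat_lit 5764) (FT.leaf (Fct.mk false (nat_lit 34) (nat_lit 0) (nat_lit 34) [nat_lit 8, nat_lit 6, nat_lit 5, nat_lit 3, nat_lit 4, nat_lit 2, nat_lit 3, nat_lit 8, nat_lit 1, nat_lit 2, nat_lit 3, nat_lit 4, nat_lit 5, nat_lit 6, nat_lit 7, nat_lit 8, nat_lit 6, nat_lit 5, nat_lit 3, nat_lit 4, nat_lit 2, nat_lit 3, nat_lit 8, nat_lit 1, nat_lit 2, nat_lit 3, nat_lit 4, nat_lit 5, nat_lit 4, nat_lit 12, nat_lit 18, nat_lit 16] (Rl.cmp (nat_lit 5725) (nat_lit 5762)))) (FT.leaf (Fct.mk false (nat_lit 34) (nat_lit 0) (nat_lit 34) [nat_lit 5, nat_lit 4, nat_lit 1, nat_lit 2, nat_lit 3,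 nat_lit 8, nat_lit 6, nat_lit 7, nat_lit 5, nat_lit 6, nat_lit 4, nat_lit 5, nat_lit 3, nat_lit 4, nat_lit 2, nat_lit 3, nat_lit 8, nat_lit 1, nat_lit 2, nat_lit 3, nat_lit 4, nat_lit 5, nat_lit 6, nat_lit 7, nat_lit 1, nat_lit 2, nat_lit 3, nat_lit 8, nat_lit 6, nat_lit 4, nat_lit 5, nat_lit 3, nat_lit 4, nat_lit 2, nat_lit 3, nat_lit 8, nat_lit 1, nat_lit 2, nat_lit 3, nat_lit 4, nat_lit 5, nat_lit 1, nat_lit 2, nat_lit 8, nat_lit 3, nat_lit 1, nat_lit 9, nat_lit 16, nat_lit 14, nat_lit 12, nat_lit 18, nat_lit 16] (Rl.cmp (nat_lit 5746) (nat_lit 5763)))))) (FT.node (nat_lit 5766) (FT.leaf (Fct.mk false (nat_lit 34) (nat_lit 0) (nat_lit 34) [nat_lit 7, nat_lit 6, nat_lit 5, nat_lit 4, nat_lit 2, nat_lit 3, nat_lit 8, nat_lit 1, nat_lit 2, nat_lit 3, nat_lit 4, nat_lit 5, nat_lit 6, nat_lit 7, nat_lit 3, nat_lit 4, nat_lit 5, nat_lit 3, nat_lit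 10, nat_lit 9, nat_lit 2, nat_lit 14] (Rl.cmp (nat_lit 5730) (nat_lit 5764)))) (FT.node (nat_lit 5767) (FT.leaf (Fct.mk true (nat_lit 34) (nat_lit 15) (nat_lit 33) [nat_lit 2, nat_lit 3, nat_lit 8, nat_lit 6, nat_lit 4, nat_lit 5, nat_lit 3, nat_lit 4, nat_lit 2, nat_lit 3, nat_lit 8, nat_lit 1, nat_lit 2, nat_lit 3, nat_lit 4, nat_lit 5, nat_lit 6, nat_lit 7, nat_lit 3, nat_lit 2, nat_lit 1, nat_lit 8, nat_lit 3, nat_lit 2, nat_lit 0, nat_lit 1, nat_lit 4, nat_lit 3, nat_lit 2, nat_lit 8, nat_lit 3, nat_lit 11, nat_lit 10, nat_lit 8, nat_lit 16, nat_lit 14, nat_lit 16, nat_lit 8, nat_lit 18] (Rl.t1 (nat_lit 5738) (nat_lit 5765)))) (FT.leaf (Fct.mk false (nat_lit 34) (nat_lit 0) (nat_lit 34) [nat_lit 2, nat_lit 3, nat_lit 4, nat_lit 1, nat_lit 2, nat_lit 3, nat_lit 8, nat_lit 6, nat_lit 7, nat_lit 5, nat_lit 6, nat_lit 4, nat_lit 5, nat_lit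 3, nat_lit 4, nat_lit 2, nat_lit 3, nat_lit 8, nat_lit 1, nat_lit 2, nat_lit 3, nat_lit 4, nat_lit 5, nat_lit 6, nat_lit 7, nat_lit 5, nat_lit 4, nat_lit 3, nat_lit 8, nat_lit 1, nat_lit 2, nat_lit 3, nat_lit 4, nat_lit 5, nat_lit 3, nat_lit 2, nat_lit 1, nat_lit 9, nat_lit 4, nat_lit 3, nat_lit 2, nat_lit 8, nat_lit 3, nat_lit 9, nat_lit 2, nat_lit 14, nat_lit 8, nat_lit 19] (Rl.cmp (nat_lit 5717) (nat_lit 5742))))))) (FT.node (nat_lit 5771) (FT.node (nat_lit 5769) (FT.leaf (Fct.mk false (nat_lit 34) (nat_lit 0) (nat_lit 34) [nat_lit 3, nat_lit 4, nat_lit 1, nat_lit 2, nat_lit 3, nat_lit 8, nat_lit 5, nat_lit 6, nat_lit 4, nat_lit 5, nat_lit 3, nat_lit 4, nat_lit 2, nat_lit 3, nat_lit 8, nat_lit 1, nat_lit 2, nat_lit 3, nat_lit 4, nat_lit 5, nat_lit 6, nat_lit 7, nat_lit 5, nat_lit 4, nat_lit 3, nat_lit 8, nat_lit 2, nat_lit 3, nat_lit 4,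 nat_lit 1, nat_lit 2, nat_lit 3, nat_lit 8, nat_lit 5, nat_lit 6, nat_lit 4, nat_lit 5, nat_lit 3, nat_lit 4, nat_lit 2, nat_lit 3, nat_lit 8, nat_lit 1, nat_lit 2, nat_lit 3, nat_lit 4, nat_lit 5, nat_lit 1, nat_lit 2, nat_lit 3, nat_lit 1, nat_lit 9, nat_lit 8, nat_lit 16, nat_lit 14, nat_lit 16] (Rl.cmp (nat_lit 5746) (nat_lit 5767)))) (FT.node (nat_lit 5770) (FT.leaf (Fct.mk false (nat_lit 34) (nat_lit 0) (nat_lit 34) [nat_lit 3, nat_lit 4, nat_lit 2, nat_lit 3, nat_lit 8, nat_lit 7, nat_lit 5, nat_lit 6, nat_lit 4, nat_lit 5, nat_lit 3, nat_lit 4, nat_lit 2, nat_lit 3, nat_lit 8, nat_lit 1, nat_lit 2, nat_lit 3, nat_lit 4, nat_lit 5, nat_lit 6, nat_lit 7, nat_lit 6, nat_lit 5, nat_lit 4, nat_lit 3, nat_lit 8, nat_lit 1, nat_lit 2, nat_lit 3, nat_lit 4, nat_lit 5, nat_lit 2, nat_lit 1, nat_lit 4, nat_lit 3, nat_lit 2, nat_lit 8, nat_lit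 3, nat_lit 9, nat_lit 16, nat_lit 14, nat_lit 18, nat_lit 16] (Rl.cmp (nat_lit 5730) (nat_lit 5768)))) (FT.leaf (Fct.mk false (nat_lit 34) (nat_lit 0) (nat_lit 34) [nat_lit 4, nat_lit 1, nat_lit 2, nat_lit 3, nat_lit 8, nat_lit 7, nat_lit 5, nat_lit 6, nat_lit 4, nat_lit 5, nat_lit 3, nat_lit 4, nat_lit 2, nat_lit 3, nat_lit 8, nat_lit 1, nat_lit 2, nat_lit 3, nat_lit 4, nat_lit 5, nat_lit 6, nat_lit 7, nat_lit 8, nat_lit 4, nat_lit 5, nat_lit 3, nat_lit 4, nat_lit 2, nat_lit 3, nat_lit 8, nat_lit 1, nat_lit 2, nat_lit 3, nat_lit 4, nat_lit 5, nat_lit 9, nat_lit 4, nat_lit 2, nat_lit 10, nat_lit 1, nat_lit 12, nat_lit 8, nat_lit 16, nat_lit 14, nat_lit 12, nat_lit 18] (Rl.cmp (nat_lit 5730) (nat_lit 5769)))))) (FT.node (nat_lit 5773) (FT.node (nat_lit 5772) (FT.leaf (Fct.mk false (nat_lit 34) (nat_lit 0) (nat_lit 34) [nat_lit 8, nat_lit 2,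 nat_lit 3, nat_lit 4, nat_lit 5, nat_lit 6, nat_lit 7, nat_lit 3, nat_lit 4, nat_lit 5, nat_lit 4, nat_lit 10, nat_lit 16, nat_lit 8] (Rl.cmp (nat_lit 5717) (nat_lit 5770)))) (FT.leaf (Fct.mk true (nat_lit 34) (nat_lit 0) (nat_lit 4) [nat_lit 1, nat_lit 2, nat_lit 3, nat_lit 8, nat_lit 7, nat_lit 5, nat_lit 6, nat_lit 4, nat_lit 5, nat_lit 3, nat_lit 4, nat_lit 2, nat_lit 3, nat_lit 8, nat_lit 1, nat_lit 2, nat_lit 3, nat_lit 4, nat_lit 5, nat_lit 6, nat_lit 7, nat_lit 3, nat_lit 2, nat_lit 8, nat_lit 3, nat_lit 10, nat_lit 9, nat_lit 2, nat_lit 14, nat_lit 8, nat_lit 18] (Rl.t1 (nat_lit 5745) (nat_lit 5771))))) (FT.node (nat_lit 5774) (FT.leaf (Fct.mk false (nat_lit 34) (nat_lit 0) (nat_lit 34) [nat_lit 2, nat_lit 3, nat_lit 8, nat_lit 4, nat_lit 5, nat_lit 3, nat_lit 4, nat_lit 2, nat_lit 3, nat_lit 8, nat_lit 6, nat_lit 7, nat_lit 5, nat_lit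 6, nat_lit 4, nat_lit 5, nat_lit 3, nat_lit 4, nat_lit 2, nat_lit 3, nat_lit 8, nat_lit 1, nat_lit 2, nat_lit 3, nat_lit 4, nat_lit 5, nat_lit 6, nat_lit 7, nat_lit 8, nat_lit 5, nat_lit 6, nat_lit 4, nat_lit 5, nat_lit 3, nat_lit 4, nat_lit 2, nat_lit 3, nat_lit 8, nat_lit 1, nat_lit 2, nat_lit 3, nat_lit 4, nat_lit 5, nat_lit 3, nat_lit 9, nat_lit 10, nat_lit 2, nat_lit 8, nat_lit 10, nat_lit 1, nat_lit 14, nat_lit 19] (Rl.cmp (nat_lit 5730) (nat_lit 5725)))) (FT.leaf (Fct.mk false (nat_lit 34) (nat_lit 0) (nat_lit 34) [nat_lit 6, nat_lit 5, nat_lit 4, nat_lit 3, nat_lit 8, nat_lit 2, nat_lit 3, nat_lit 4, nat_lit 1, nat_lit 2, nat_lit 3, nat_lit 8, nat_lit 5, nat_lit 6, nat_lit 4, nat_lit 5, nat_lit 3, nat_lit 4, nat_lit 2, nat_lit 3, nat_lit 8, nat_lit 1, nat_lit 2, nat_lit 3, nat_lit 4, nat_lit 5, nat_lit 6, nat_lit 7, nat_lit 3, nat_lit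 8, nat_lit 6, nat_lit 4, nat_lit 5, nat_lit 3, nat_lit 4, nat_lit 2, nat_lit 3, nat_lit 8, nat_lit 1, nat_lit 2, nat_lit 3, nat_lit 4, nat_lit 5, nat_lit 8, nat_lit 3, nat_lit 2, nat_lit 1, nat_lit 4, nat_lit 3, nat_lit 2, nat_lit 8, nat_lit 3, nat_lit 9, nat_lit 12, nat_lit 8, nat_lit 16, nat_lit 14, nat_lit 16, nat_lit 8, nat_lit 19] (Rl.cmp (nat_lit 5742) (nat_lit 5773))))))))) (FT.node (nat_lit 5787) (FT.node (nat_lit 5781) (FT.node (nat_lit 5778) (FT.node (nat_lit 5776) (FT.leaf (Fct.mk false (nat_lit 34) (nat_lit 0) (nat_lit 34) [nat_lit 3, nat_lit 8, nat_lit 7, nat_lit 6, nat_lit 4, nat_lit 5, nat_lit 3, nat_lit 4, nat_lit 2, nat_lit 3, nat_lit 8, nat_lit 1, nat_lit 2, nat_lit 3, nat_lit 4, nat_lit 5, nat_lit 6, nat_lit 7, nat_lit 2, nat_lit 3, nat_lit 4, nat_lit 5, nat_lit 1, nat_lit 2, nat_lit 3, nat_lit 10, nat_lit 16, nat_lit 8]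 (Rl.cmp (nat_lit 5746) (nat_lit 5774)))) (FT.node (nat_lit 5777) (FT.leaf (Fct.mk false (nat_lit 34) (nat_lit 0) (nat_lit 34) [nat_lit 4, nat_lit 5, nat_lit 6, nat_lit 7, nat_lit 6, nat_lit 5, nat_lit 4, nat_lit 2, nat_lit 3, nat_lit 8, nat_lit 1, nat_lit 2, nat_lit 3, nat_lit 4, nat_lit 5, nat_lit 1, nat_lit 2, nat_lit 3, nat_lit 2, nat_lit 10, nat_lit 1, nat_lit 16, nat_lit 14, nat_lit 18] (Rl.cmp (nat_lit 5742) (nat_lit 5775)))) (FT.leaf (Fct.mk false (nat_lit 34) (nat_lit 0) (nat_lit 34) [nat_lit 4, nat_lit 2, nat_lit 3, nat_lit 8, nat_lit 1, nat_lit 2, nat_lit 3, nat_lit 4, nat_lit 5, nat_lit 6, nat_lit 7, nat_lit 6, nat_lit 5, nat_lit 4, nat_lit 2, nat_lit 3, nat_lit 8, nat_lit 1, nat_lit 2, nat_lit 3, nat_lit 4, nat_lit 5, nat_lit 2, nat_lit 1, nat_lit 3, nat_lit 2, nat_lit 8, nat_lit 3, nat_lit 10, nat_lit 1, nat_lit 8, nat_lit 16,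 nat_lit 14, nat_lit 12] (Rl.cmp (nat_lit 5746) (nat_lit 5776)))))) (FT.node (nat_lit 5779) (FT.leaf (Fct.mk false (nat_lit 34) (nat_lit 0) (nat_lit 34) [nat_lit 8, nat_lit 2, nat_lit 3, nat_lit 4, nat_lit 5, nat_lit 6, nat_lit 7, nat_lit 9, nat_lit 4, nat_lit 3, nat_lit 2, nat_lit 8, nat_lit 3, nat_lit 2, nat_lit 12, nat_lit 8, nat_lit 16, nat_lit 14, nat_lit 12, nat_lit 16] (Rl.cmp (nat_lit 5746) (nat_lit 5777)))) (FT.node (nat_lit 5780) (FT.leaf (Fct.mk false (nat_lit 34) (nat_lit 0) (nat_lit 34) [nat_lit 7, nat_lit 6, nat_lit 5, nat_lit 3, nat_lit 4, nat_lit 2, nat_lit 3, nat_lit 8, nat_lit 1, nat_lit 2, nat_lit 3, nat_lit 4, nat_lit 5, nat_lit 6, nat_lit 7, nat_lit 6, nat_lit 5, nat_lit 4, nat_lit 3, nat_lit 8, nat_lit 1, nat_lit 2, nat_lit 3, nat_lit 4, nat_lit 5, nat_lit 8, nat_lit 3, nat_lit 8, nat_lit 10, nat_lit 1, nat_lit 16, nat_lit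 14] (Rl.cmp (nat_lit 5742) (nat_lit 5778)))) (FT.leaf (Fct.mk true (nat_lit 32) (nat_lit 50217) (nat_lit 34) [nat_lit 7, nat_lit 6, nat_lit 4, nat_lit 5, nat_lit 3, nat_lit 4, nat_lit 2, nat_lit 3, nat_lit 8, nat_lit 1, nat_lit 2, nat_lit 3, nat_lit 4, nat_lit 5, nat_lit 6, nat_lit 7, nat_lit 2, nat_lit 3, nat_lit 8, nat_lit 6, nat_lit 4, nat_lit 5, nat_lit 3, nat_lit 4, nat_lit 2, nat_lit 3, nat_lit 8, nat_lit 0, nat_lit 1, nat_lit 2, nat_lit 3, nat_lit 4, nat_lit 5, nat_lit 4, nat_lit 10, nat_lit 8, nat_lit 16, nat_lit 15, nat_lit 14, nat_lit 13, nat_lit 12, nat_lit 19, nat_lit 16] (Rl.rel (nat_lit 0) [nat_lit 5, nat_lit 4, nat_lit 1, nat_lit 2, nat_lit 3, nat_lit 8, nat_lit 0, nat_lit 1, nat_lit 2, nat_lit 3, nat_lit 4, nat_lit 5, nat_lit 6, nat_lit 7, nat_lit 3, nat_lit 8, nat_lit 2, nat_lit 3, nat_lit 4, nat_lit 1, nat_lit 2, nat_lit 3,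 nat_lit 8, nat_lit 0, nat_lit 1, nat_lit 2, nat_lit 3, nat_lit 4, nat_lit 5, nat_lit 0, nat_lit 1, nat_lit 3, nat_lit 2, nat_lit 8, nat_lit 3, nat_lit 11, nat_lit 2, nat_lit 8, nat_lit 10, nat_lit 1, nat_lit 12, nat_lit 15, nat_lit 13, nat_lit 16] (nat_lit 34) (nat_lit 2) [nat_lit 5765, nat_lit 5766, nat_lit 5709, nat_lit 4651] [])))))) (FT.node (nat_lit 5784) (FT.node (nat_lit 5782) (FT.leaf (Fct.mk true (nat_lit 32) (nat_lit 4482) (nat_lit 34) [nat_lit 2, nat_lit 3, nat_lit 4, nat_lit 1, nat_lit 2, nat_lit 3, nat_lit 8, nat_lit 0, nat_lit 1, nat_lit 2, nat_lit 3, nat_lit 4, nat_lit 5, nat_lit 6, nat_lit 7, nat_lit 5, nat_lit 6, nat_lit 4, nat_lit 5, nat_lit 2, nat_lit 3, nat_lit 4, nat_lit 1, nat_lit 2, nat_lit 3, nat_lit 8, nat_lit 0, nat_lit 1, nat_lit 2, nat_lit 3, nat_lit 4, nat_lit 5, nat_lit 2, nat_lit 1, nat_lit 4, nat_lit 3, nat_lit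 2, nat_lit 0, nat_lit 1, nat_lit 9, nat_lit 4, nat_lit 3, nat_lit 2, nat_lit 8, nat_lit 3, nat_lit 11, nat_lit 10, nat_lit 1, nat_lit 15, nat_lit 14, nat_lit 12, nat_lit 19, nat_lit 16] (Rl.t1 (nat_lit 5780) (nat_lit 5707)))) (FT.node (nat_lit 5783) (FT.leaf (Fct.mk true (nat_lit 34) (nat_lit 2386) (nat_lit 32) [nat_lit 4, nat_lit 3, nat_lit 8, nat_lit 5, nat_lit 6, nat_lit 4, nat_lit 5, nat_lit 3, nat_lit 4, nat_lit 2, nat_lit 3, nat_lit 8, nat_lit 0, nat_lit 1, nat_lit 2, nat_lit 3, nat_lit 4, nat_lit 5, nat_lit 6, nat_lit 7, nat_lit 8, nat_lit 5, nat_lit 2, nat_lit 3, nat_lit 4, nat_lit 1, nat_lit 2, nat_lit 3, nat_lit 8, nat_lit 0, nat_lit 1, nat_lit 2, nat_lit 3, nat_lit 4, nat_lit 5, nat_lit 1, nat_lit 8, nat_lit 4, nat_lit 3, nat_lit 2, nat_lit 0, nat_lit 1, nat_lit 9, nat_lit 4, nat_lit 3, nat_lit 2, nat_lit 8, nat_lit 3, nat_lit 10,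 nat_lit 16, nat_lit 15, nat_lit 14, nat_lit 16, nat_lit 8, nat_lit 18, nat_lit 16] (Rl.inv (nat_lit 5781)))) (FT.leaf (Fct.mk true (nat_lit 34) (nat_lit 17) (nat_lit 32) [nat_lit 8, nat_lit 3, nat_lit 4, nat_lit 2, nat_lit 3, nat_lit 8, nat_lit 6, nat_lit 7, nat_lit 5, nat_lit 6, nat_lit 4, nat_lit 5, nat_lit 3, nat_lit 4, nat_lit 2, nat_lit 3, nat_lit 8, nat_lit 0, nat_lit 1, nat_lit 2, nat_lit 3, nat_lit 4, nat_lit 5, nat_lit 6, nat_lit 7, nat_lit 3, nat_lit 4, nat_lit 1, nat_lit 2, nat_lit 3, nat_lit 8, nat_lit 5, nat_lit 6, nat_lit 4, nat_lit 5, nat_lit 3, nat_lit 4, nat_lit 2, nat_lit 3, nat_lit 8, nat_lit 1, nat_lit 2, nat_lit 3, nat_lit 4, nat_lit 5, nat_lit 1, nat_lit 9, nat_lit 4, nat_lit 3, nat_lit 2, nat_lit 8, nat_lit 3, nat_lit 2, nat_lit 8, nat_lit 10, nat_lit 1, nat_lit 15, nat_lit 17, nat_lit 12, nat_lit 18, nat_lit 16] (Rl.t1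 (nat_lit 5782) (nat_lit 5779)))))) (FT.node (nat_lit 5785) (FT.leaf (Fct.mk false (nat_lit 32) (nat_lit 0) (nat_lit 32) [nat_lit 5, nat_lit 4, nat_lit 3, nat_lit 8, nat_lit 2, nat_lit 3, nat_lit 4, nat_lit 1, nat_lit 2, nat_lit 3, nat_lit 8, nat_lit 5, nat_lit 6, nat_lit 4, nat_lit 5, nat_lit 3, nat_lit 4, nat_lit 2, nat_lit 3, nat_lit 8, nat_lit 1, nat_lit 2, nat_lit 3, nat_lit 4, nat_lit 5, nat_lit 3, nat_lit 8, nat_lit 4, nat_lit 3, nat_lit 2, nat_lit 1, nat_lit 9, nat_lit 4, nat_lit 3, nat_lit 2, nat_lit 8, nat_lit 3, nat_lit 10, nat_lit 1, nat_lit 12, nat_lit 8, nat_lit 16, nat_lit 14, nat_lit 8, nat_lit 19] (Rl.cmp (nat_lit 3004) (nat_lit 4161)))) (FT.node (nat_lit 5786) (FT.leaf (Fct.mk false (nat_lit 34) (nat_lit 0) (nat_lit 34) [nat_lit 3, nat_lit 8, nat_lit 7, nat_lit 6, nat_lit 4, nat_lit 5, nat_lit 3, nat_lit 4, nat_lit 2, nat_lit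 3, nat_lit 8, nat_lit 1, nat_lit 2, nat_lit 3, nat_lit 4, nat_lit 5, nat_lit 6, nat_lit 7, nat_lit 1, nat_lit 2, nat_lit 3, nat_lit 4, nat_lit 5, nat_lit 3, nat_lit 2, nat_lit 10, nat_lit 1, nat_lit 16, nat_lit 14, nat_lit 8] (Rl.cmp (nat_lit 5746) (nat_lit 5717)))) (FT.leaf (Fct.mk false (nat_lit 34) (nat_lit 0) (nat_lit 34) [nat_lit 8, nat_lit 2, nat_lit 3, nat_lit 4, nat_lit 5, nat_lit 6, nat_lit 7, nat_lit 2, nat_lit 3, nat_lit 4, nat_lit 5, nat_lit 9, nat_lit 4, nat_lit 3, nat_lit 2, nat_lit 8, nat_lit 3, nat_lit 1, nat_lit 12, nat_lit 8, nat_lit 16, nat_lit 14, nat_lit 16, nat_lit 8] (Rl.cmp (nat_lit 5725) (nat_lit 5785)))))))) (FT.node (nat_lit 5793) (FT.node (nat_lit 5790) (FT.node (nat_lit 5788) (FT.leaf (Fct.mk false (nat_lit 34) (nat_lit 0) (nat_lit 34) [nat_lit 7, nat_lit 6, nat_lit 5, nat_lit 3, nat_lit 4, nat_lit 2, nat_lit 3,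 nat_lit 8, nat_lit 1, nat_lit 2, nat_lit 3, nat_lit 4, nat_lit 5, nat_lit 6, nat_lit 7, nat_lit 3, nat_lit 4, nat_lit 5, nat_lit 1, nat_lit 2, nat_lit 3, nat_lit 8, nat_lit 10, nat_lit 9, nat_lit 2, nat_lit 8, nat_lit 16, nat_lit 14, nat_lit 12, nat_lit 18] (Rl.cmp (nat_lit 5742) (nat_lit 5786)))) (FT.node (nat_lit 5789) (FT.leaf (Fct.mk true (nat_lit 34) (nat_lit 21757) (nat_lit 34) [nat_lit 7, nat_lit 6, nat_lit 5, nat_lit 3, nat_lit 4, nat_lit 2, nat_lit 3, nat_lit 8, nat_lit 1, nat_lit 2, nat_lit 3, nat_lit 4, nat_lit 5, nat_lit 6, nat_lit 7, nat_lit 6, nat_lit 5, nat_lit 4, nat_lit 3, nat_lit 8, nat_lit 1, nat_lit 2, nat_lit 3, nat_lit 4, nat_lit 5, nat_lit 8, nat_lit 3, nat_lit 8, nat_lit 10, nat_lit 1, nat_lit 16, nat_lit 14] (Rl.rel (nat_lit 0) [nat_lit 3, nat_lit 4, nat_lit 5, nat_lit 0, nat_lit 2, nat_lit 15, nat_lit 8] (nat_lit 34)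 (nat_lit 2) [nat_lit 5783, nat_lit 5784, nat_lit 5781] []))) (FT.leaf (Fct.mk true (nat_lit 34) (nat_lit 1) (nat_lit 34) [nat_lit 8, nat_lit 1, nat_lit 2, nat_lit 3, nat_lit 4, nat_lit 5, nat_lit 3, nat_lit 14, nat_lit 16, nat_lit 8] (Rl.t1 (nat_lit 5788) (nat_lit 5787)))))) (FT.node (nat_lit 5791) (FT.leaf (Fct.mk true (nat_lit 34) (nat_lit 2458) (nat_lit 34) [nat_lit 7, nat_lit 6, nat_lit 5, nat_lit 3, nat_lit 4, nat_lit 2, nat_lit 3, nat_lit 8, nat_lit 1, nat_lit 2, nat_lit 3, nat_lit 4, nat_lit 5, nat_lit 6, nat_lit 7, nat_lit 6, nat_lit 5, nat_lit 4, nat_lit 3, nat_lit 8, nat_lit 1, nat_lit 2, nat_lit 3, nat_lit 4, nat_lit 5, nat_lit 8, nat_lit 3, nat_lit 8, nat_lit 10, nat_lit 1, nat_lit 16, nat_lit 14] (Rl.rel (nat_lit 0) [nat_lit 8, nat_lit 3, nat_lit 4, nat_lit 5, nat_lit 6, nat_lit 7, nat_lit 2, nat_lit 3, nat_lit 4, nat_lit 1, nat_lit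 2, nat_lit 3, nat_lit 8, nat_lit 0, nat_lit 1, nat_lit 2, nat_lit 3, nat_lit 4, nat_lit 5, nat_lit 8, nat_lit 3, nat_lit 11, nat_lit 10, nat_lit 8, nat_lit 16, nat_lit 14, nat_lit 13] (nat_lit 34) (nat_lit 2) [nat_lit 5783, nat_lit 2995, nat_lit 5781] []))) (FT.node (nat_lit 5792) (FT.leaf (Fct.mk true (nat_lit 34) (nat_lit 2104) (nat_lit 34) [nat_lit 5, nat_lit 4, nat_lit 2, nat_lit 3, nat_lit 8, nat_lit 6, nat_lit 7, nat_lit 5, nat_lit 6, nat_lit 4, nat_lit 5, nat_lit 3, nat_lit 4, nat_lit 2, nat_lit 3, nat_lit 8, nat_lit 1, nat_lit 2, nat_lit 3, nat_lit 4, nat_lit 5, nat_lit 6, nat_lit 7, nat_lit 2, nat_lit 3, nat_lit 8, nat_lit 1, nat_lit 2, nat_lit 3, nat_lit 4, nat_lit 5, nat_lit 2, nat_lit 8, nat_lit 3, nat_lit 2, nat_lit 10, nat_lit 1, nat_lit 12, nat_lit 8, nat_lit 16, nat_lit 14, nat_lit 12, nat_lit 18, nat_lit 16] (Rl.t1 (nat_lit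 5790) (nat_lit 5730)))) (FT.leaf (Fct.mk true (nat_lit 5) (nat_lit 0) (nat_lit 35) [] (Rl.df)))))) (FT.node (nat_lit 5796) (FT.node (nat_lit 5794) (FT.leaf (Fct.mk true (nat_lit 35) (nat_lit 0) (nat_lit 5) [] (Rl.inv (nat_lit 5792)))) (FT.node (nat_lit 5795) (FT.leaf (Fct.mk false (nat_lit 35) (nat_lit 0) (nat_lit 35) [nat_lit 115] (Rl.rel (nat_lit 0) [nat_lit 8] (nat_lit 35) (nat_lit 3) [nat_lit 5793, nat_lit 1115, nat_lit 5792] []))) (FT.leaf (Fct.mk false (nat_lit 35) (nat_lit 0) (nat_lit 35) [nat_lit 117] (Rl.rel (nat_lit 0) [nat_lit 8, nat_lit 3] (nat_lit 35) (nat_lit 3) [nat_lit 5793, nat_lit 488, nat_lit 1115, nat_lit 5792] []))))) (FT.node (nat_lit 5798) (FT.node (nat_lit 5797) (FT.leaf (Fct.mk false (nat_lit 35) (nat_lit 0) (nat_lit 35) [nat_lit 119] (Rl.rel (nat_lit 0) [nat_lit 8, nat_lit 3, nat_lit 2] (nat_lit 35) (nat_lit 3) [nat_lit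 5793, nat_lit 2509, nat_lit 1115, nat_lit 5792] []))) (FT.leaf (Fct.mk false (nat_lit 35) (nat_lit 0) (nat_lit 35) [nat_lit 121] (Rl.rel (nat_lit 0) [nat_lit 4, nat_lit 8, nat_lit 10] (nat_lit 35) (nat_lit 3) [nat_lit 5793, nat_lit 2932, nat_lit 1115, nat_lit 5792] [])))) (FT.node (nat_lit 5799) (FT.leaf (Fct.mk false (nat_lit 35) (nat_lit 0) (nat_lit 35) [nat_lit 123] (Rl.rel (nat_lit 0) [nat_lit 8, nat_lit 3, nat_lit 0, nat_lit 2, nat_lit 15] (nat_lit 35) (nat_lit 3) [nat_lit 5793, nat_lit 530, nat_lit 5792] []))) (FT.leaf (Fct.mk false (nat_lit 35) (nat_lit 0) (nat_lit 35) [nat_lit 125] (Rl.rel (nat_lit 0) [nat_lit 8, nat_lit 3, nat_lit 4, nat_lit 5, nat_lit 6, nat_lit 7] (nat_lit 35) (nat_lit 3) [nat_lit 5793, nat_lit 2451, nat_lit 5792] []))))))))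

/-- some facts -/
noncomputable def ftc116 : FT := FT.node (nat_lit 5825) (FT.node (nat_lit 5812) (FT.node (nat_lit 5806) (FT.node (nat_lit 5803) (FT.node (nat_lit 5801) (FT.leaf (Fct.mk true (nat_lit 5) (nat_lit 7) (nat_lit 36) [] (Rl.df))) (FT.node (nat_lit 5802) (FT.leaf (Fct.mk true (nat_lit 36) (nat_lit 7) (nat_lit 5) [] (Rl.inv (nat_lit 5800)))) (FT.leaf (Fct.mk true (nat_lit 35) (nat_lit 7) (nat_lit 36) [nat_lit 18] (Rl.rel (nat_lit 0) [nat_lit 4, nat_lit 2, nat_lit 12] (nat_lit 36) (nat_lit 2) [nat_lit 5801, nat_lit 5792] []))))) (FT.node (nat_lit 5804) (FT.leaf (Fct.mk true (nat_lit 36) (nat_lit 0) (nat_lit 35) [nat_lit 18] (Rl.inv (nat_lit 5802)))) (FT.node (nat_lit 5805) (FT.leaf (Fct.mk false (nat_lit 36) (nat_lit 0) (nat_lit 36) [nat_lit 126] (Rl.rel (nat_lit 0) [nat_lit 4, nat_lit 2, nat_lit 8, nat_lit 18] (nat_lit 36) (nat_lit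 3) [nat_lit 5801, nat_lit 1115, nat_lit 4107, nat_lit 5800] []))) (FT.leaf (Fct.mk true (nat_lit 36) (nat_lit 1) (nat_lit 5) [nat_lit 127] (Rl.t1 (nat_lit 5801) (nat_lit 5804))))))) (FT.node (nat_lit 5809) (FT.node (nat_lit 5807) (FT.leaf (Fct.mk false (nat_lit 36) (nat_lit 0) (nat_lit 36) [nat_lit 128] (Rl.rel (nat_lit 0) [nat_lit 4, nat_lit 8, nat_lit 10, nat_lit 12, nat_lit 18] (nat_lit 36) (nat_lit 3) [nat_lit 5804, nat_lit 5805, nat_lit 2932, nat_lit 1115, nat_lit 493, nat_lit 5800] []))) (FT.node (nat_lit 5808) (FT.leaf (Fct.mk false (nat_lit 36) (nat_lit 0) (nat_lit 36) [nat_lit 1, nat_lit 2, nat_lit 3, nat_lit 4, nat_lit 5, nat_lit 1, nat_lit 2, nat_lit 3, nat_lit 0, nat_lit 15] (Rl.cmp (nat_lit 5804) (nat_lit 5804)))) (FT.leaf (Fct.mk true (nat_lit 36) (nat_lit 9) (nat_lit 36) [] (Rl.rel (nat_lit 0) [nat_lit 4, nat_lit 8, nat_lit 10,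 nat_lit 14, nat_lit 12, nat_lit 18] (nat_lit 36) (nat_lit 2) [nat_lit 5804, nat_lit 5805, nat_lit 472, nat_lit 5800] []))))) (FT.node (nat_lit 5810) (FT.leaf (Fct.mk true (nat_lit 36) (nat_lit 6) (nat_lit 36) [nat_lit 5, nat_lit 0, nat_lit 1, nat_lit 2, nat_lit 3, nat_lit 10, nat_lit 14, nat_lit 12] (Rl.t1 (nat_lit 5808) (nat_lit 5807)))) (FT.node (nat_lit 5811) (FT.leaf (Fct.mk false (nat_lit 36) (nat_lit 0) (nat_lit 36) [nat_lit 130] (Rl.rel (nat_lit 0) [nat_lit 4, nat_lit 1, nat_lit 0, nat_lit 2, nat_lit 8, nat_lit 12, nat_lit 15, nat_lit 12, nat_lit 18] (nat_lit 36) (nat_lit 3) [nat_lit 5804, nat_lit 5805, nat_lit 4312, nat_lit 1115, nat_lit 493, nat_lit 5800] []))) (FT.leaf (Fct.mk true (nat_lit 32) (nat_lit 676) (nat_lit 36) [nat_lit 6, nat_lit 5, nat_lit 4, nat_lit 3, nat_lit 8, nat_lit 2, nat_lit 3, nat_lit 4, nat_lit 5, nat_lit 1,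 nat_lit 2, nat_lit 3, nat_lit 8, nat_lit 10, nat_lit 14, nat_lit 8] (Rl.rel (nat_lit 0) [nat_lit 8, nat_lit 3, nat_lit 18] (nat_lit 36) (nat_lit 2) [nat_lit 5804, nat_lit 5805, nat_lit 4005] []))))))) (FT.node (nat_lit 5818) (FT.node (nat_lit 5815) (FT.node (nat_lit 5813) (FT.leaf (Fct.mk true (nat_lit 32) (nat_lit 3) (nat_lit 36) [nat_lit 2, nat_lit 3, nat_lit 4, nat_lit 5, nat_lit 1, nat_lit 8, nat_lit 3, nat_lit 2, nat_lit 0, nat_lit 1, nat_lit 4, nat_lit 3, nat_lit 2, nat_lit 8, nat_lit 3, nat_lit 8, nat_lit 10, nat_lit 0, nat_lit 19, nat_lit 16] (Rl.t1 (nat_lit 5811) (nat_lit 4136)))) (FT.node (nat_lit 5814) (FT.leaf (Fct.mk true (nat_lit 36) (nat_lit 19) (nat_lit 32) [nat_lit 3, nat_lit 8, nat_lit 2, nat_lit 3, nat_lit 4, nat_lit 5, nat_lit 0, nat_lit 1, nat_lit 3, nat_lit 2, nat_lit 8, nat_lit 3, nat_lit 11, nat_lit 10, nat_lit 1, nat_lit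 12, nat_lit 15, nat_lit 13, nat_lit 18] (Rl.inv (nat_lit 5812)))) (FT.leaf (Fct.mk false (nat_lit 36) (nat_lit 0) (nat_lit 36) [nat_lit 132] (Rl.rel (nat_lit 0) [nat_lit 8, nat_lit 3, nat_lit 1, nat_lit 0, nat_lit 2, nat_lit 15, nat_lit 18] (nat_lit 36) (nat_lit 3) [nat_lit 5804, nat_lit 5805, nat_lit 3719, nat_lit 5812] []))))) (FT.node (nat_lit 5816) (FT.leaf (Fct.mk false (nat_lit 25) (nat_lit 0) (nat_lit 25) [nat_lit 2, nat_lit 3, nat_lit 10, nat_lit 12] (Rl.cmp (nat_lit 1256) (nat_lit 1244)))) (FT.node (nat_lit 5817) (FT.leaf (Fct.mk false (nat_lit 36) (nat_lit 0) (nat_lit 36) [nat_lit 3, nat_lit 8, nat_lit 2, nat_lit 3, nat_lit 4, nat_lit 5, nat_lit 3, nat_lit 2, nat_lit 1, nat_lit 8, nat_lit 3, nat_lit 2, nat_lit 0, nat_lit 1, nat_lit 9, nat_lit 4, nat_lit 3, nat_lit 2, nat_lit 8, nat_lit 3, nat_lit 9, nat_lit 2, nat_lit 8, nat_lit 12,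 nat_lit 15, nat_lit 8] (Rl.cmp (nat_lit 5814) (nat_lit 5806)))) (FT.leaf (Fct.mk false (nat_lit 36) (nat_lit 0) (nat_lit 36) [nat_lit 4, nat_lit 1, nat_lit 2, nat_lit 3, nat_lit 8, nat_lit 0, nat_lit 1, nat_lit 2, nat_lit 3, nat_lit 4, nat_lit 5, nat_lit 2, nat_lit 1, nat_lit 3, nat_lit 2, nat_lit 0, nat_lit 1, nat_lit 9, nat_lit 4, nat_lit 3, nat_lit 2, nat_lit 8, nat_lit 3, nat_lit 8, nat_lit 10, nat_lit 9, nat_lit 2, nat_lit 12, nat_lit 15, nat_lit 8] (Rl.cmp (nat_lit 5806) (nat_lit 5816))))))) (FT.node (nat_lit 5821) (FT.node (nat_lit 5819) (FT.leaf (Fct.mk false (nat_lit 36) (nat_lit 0) (nat_lit 36) [nat_lit 4, nat_lit 3, nat_lit 8, nat_lit 2, nat_lit 3, nat_lit 4, nat_lit 5, nat_lit 3, nat_lit 2, nat_lit 1, nat_lit 8, nat_lit 3, nat_lit 2, nat_lit 0, nat_lit 1, nat_lit 4, nat_lit 3, nat_lit 2, nat_lit 8, nat_lit 3, nat_lit 11, nat_lit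 10, nat_lit 16, nat_lit 15, nat_lit 14, nat_lit 17, nat_lit 19] (Rl.cmp (nat_lit 5810) (nat_lit 5817)))) (FT.node (nat_lit 5820) (FT.leaf (Fct.mk true (nat_lit 25) (nat_lit 11) (nat_lit 36) [nat_lit 4, nat_lit 8, nat_lit 10, nat_lit 1, nat_lit 12] (Rl.rel (nat_lit 0) [nat_lit 8, nat_lit 3, nat_lit 2, nat_lit 10, nat_lit 1, nat_lit 12, nat_lit 18] (nat_lit 36) (nat_lit 2) [nat_lit 5804, nat_lit 5805, nat_lit 2510, nat_lit 1268] []))) (FT.leaf (Fct.mk true (nat_lit 25) (nat_lit 1) (nat_lit 36) [nat_lit 3, nat_lit 2, nat_lit 8, nat_lit 10, nat_lit 1, nat_lit 12, nat_lit 18] (Rl.t1 (nat_lit 5819) (nat_lit 5815)))))) (FT.node (nat_lit 5823) (FT.node (nat_lit 5822) (FT.leaf (Fct.mk true (nat_lit 36) (nat_lit 331) (nat_lit 25) [nat_lit 1, nat_lit 4, nat_lit 3, nat_lit 2, nat_lit 8, nat_lit 3, nat_lit 10, nat_lit 1, nat_lit 12] (Rl.inv (nat_lit 5820))))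 (FT.leaf (Fct.mk true (nat_lit 36) (nat_lit 40) (nat_lit 25) [nat_lit 1, nat_lit 2, nat_lit 3, nat_lit 8, nat_lit 0, nat_lit 1, nat_lit 2, nat_lit 3, nat_lit 4, nat_lit 5, nat_lit 2, nat_lit 0, nat_lit 1, nat_lit 3, nat_lit 2, nat_lit 8, nat_lit 3, nat_lit 11, nat_lit 10, nat_lit 12, nat_lit 15, nat_lit 17, nat_lit 18, nat_lit 16] (Rl.t1 (nat_lit 5821) (nat_lit 5818))))) (FT.node (nat_lit 5824) (FT.leaf (Fct.mk false (nat_lit 36) (nat_lit 0) (nat_lit 36) [nat_lit 6, nat_lit 2, nat_lit 3, nat_lit 11, nat_lit 1, nat_lit 16, nat_lit 14, nat_lit 13, nat_lit 16] (Rl.cmp (nat_lit 5804) (nat_lit 5810)))) (FT.leaf (Fct.mk false (nat_lit 36) (nat_lit 0) (nat_lit 36) [nat_lit 6, nat_lit 1, nat_lit 2, nat_lit 3, nat_lit 11, nat_lit 16, nat_lit 12, nat_lit 15, nat_lit 14, nat_lit 13, nat_lit 12] (Rl.cmp (nat_lit 5806) (nat_lit 5823))))))))) (FT.node (nat_lit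 5837) (FT.node (nat_lit 5831) (FT.node (nat_lit 5828) (FT.node (nat_lit 5826) (FT.leaf (Fct.mk false (nat_lit 36) (nat_lit 0) (nat_lit 36) [nat_lit 6, nat_lit 3, nat_lit 11, nat_lit 2, nat_lit 16, nat_lit 14, nat_lit 13, nat_lit 12, nat_lit 16] (Rl.cmp (nat_lit 5806) (nat_lit 5824)))) (FT.node (nat_lit 5827) (FT.leaf (Fct.mk false (nat_lit 36) (nat_lit 0) (nat_lit 36) [nat_lit 6, nat_lit 0, nat_lit 1, nat_lit 2, nat_lit 3, nat_lit 2, nat_lit 10, nat_lit 1, nat_lit 15, nat_lit 14] (Rl.cmp (nat_lit 5804) (nat_lit 5825)))) (FT.leaf (Fct.mk false (nat_lit 36) (nat_lit 0) (nat_lit 36) [nat_lit 6, nat_lit 4, nat_lit 0, nat_lit 2] (Rl.cmp (nat_lit 5806) (nat_lit 5826)))))) (FT.node (nat_lit 5829) (FT.leaf (Fct.mk true (nat_lit 32) (nat_lit 963) (nat_lit 36) [nat_lit 4, nat_lit 5, nat_lit 3, nat_lit 4, nat_lit 2, nat_lit 3, nat_lit 8, nat_lit 0, nat_lit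 1, nat_lit 2, nat_lit 3, nat_lit 4, nat_lit 5, nat_lit 6, nat_lit 7, nat_lit 6, nat_lit 5, nat_lit 2, nat_lit 3, nat_lit 4, nat_lit 1, nat_lit 2, nat_lit 3, nat_lit 8, nat_lit 0, nat_lit 1, nat_lit 2, nat_lit 3, nat_lit 4, nat_lit 5, nat_lit 1, nat_lit 2, nat_lit 0, nat_lit 1, nat_lit 3, nat_lit 2, nat_lit 8, nat_lit 3, nat_lit 10, nat_lit 16, nat_lit 14, nat_lit 17, nat_lit 12, nat_lit 19, nat_lit 16] (Rl.rel (nat_lit 0) [nat_lit 8, nat_lit 3, nat_lit 4, nat_lit 5, nat_lit 6, nat_lit 7, nat_lit 4, nat_lit 14, nat_lit 18] (nat_lit 36) (nat_lit 2) [nat_lit 5804, nat_lit 5805, nat_lit 2890, nat_lit 3182] []))) (FT.node (nat_lit 5830) (FT.leaf (Fct.mk true (nat_lit 32) (nat_lit 726) (nat_lit 36) [nat_lit 8, nat_lit 4, nat_lit 5, nat_lit 3, nat_lit 4, nat_lit 2, nat_lit 3, nat_lit 8, nat_lit 1, nat_lit 2, nat_lit 3, nat_lit 4, nat_lit 5, nat_lit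 6, nat_lit 7, nat_lit 6, nat_lit 5, nat_lit 2, nat_lit 3, nat_lit 4, nat_lit 1, nat_lit 2, nat_lit 3, nat_lit 8, nat_lit 0, nat_lit 1, nat_lit 2, nat_lit 3, nat_lit 4, nat_lit 5, nat_lit 1, nat_lit 2, nat_lit 0, nat_lit 1, nat_lit 3, nat_lit 2, nat_lit 8, nat_lit 3, nat_lit 8, nat_lit 10, nat_lit 16, nat_lit 14, nat_lit 13, nat_lit 12, nat_lit 19] (Rl.t1 (nat_lit 5828) (nat_lit 4081)))) (FT.leaf (Fct.mk true (nat_lit 36) (nat_lit 2038) (nat_lit 32) [nat_lit 5, nat_lit 4, nat_lit 2, nat_lit 3, nat_lit 8, nat_lit 1, nat_lit 2, nat_lit 3, nat_lit 4, nat_lit 5, nat_lit 6, nat_lit 7, nat_lit 6, nat_lit 4, nat_lit 5, nat_lit 3, nat_lit 4, nat_lit 1, nat_lit 2, nat_lit 3, nat_lit 8, nat_lit 0, nat_lit 1, nat_lit 2, nat_lit 3, nat_lit 4, nat_lit 5, nat_lit 9, nat_lit 4, nat_lit 3, nat_lit 2, nat_lit 8, nat_lit 3, nat_lit 11, nat_lit 2, nat_lit 8, nat_lit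 10, nat_lit 1, nat_lit 16, nat_lit 14, nat_lit 8, nat_lit 19, nat_lit 16] (Rl.inv (nat_lit 5829))))))) (FT.node (nat_lit 5834) (FT.node (nat_lit 5832) (FT.leaf (Fct.mk true (nat_lit 36) (nat_lit 517) (nat_lit 32) [nat_lit 6, nat_lit 5, nat_lit 4, nat_lit 3, nat_lit 8, nat_lit 0, nat_lit 1, nat_lit 2, nat_lit 3, nat_lit 4, nat_lit 5, nat_lit 6, nat_lit 7, nat_lit 6, nat_lit 5, nat_lit 3, nat_lit 4, nat_lit 1, nat_lit 2, nat_lit 3, nat_lit 8, nat_lit 0, nat_lit 1, nat_lit 2, nat_lit 3, nat_lit 4, nat_lit 5, nat_lit 9, nat_lit 4, nat_lit 3, nat_lit 2, nat_lit 8, nat_lit 3, nat_lit 11, nat_lit 2, nat_lit 8, nat_lit 10, nat_lit 1, nat_lit 16, nat_lit 14, nat_lit 8, nat_lit 19, nat_lit 16] (Rl.t1 (nat_lit 5830) (nat_lit 5827)))) (FT.node (nat_lit 5833) (FT.leaf (Fct.mk false (nat_lit 36) (nat_lit 0) (nat_lit 36) [nat_lit 1, nat_lit 2, nat_lit 3,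 nat_lit 4, nat_lit 5, nat_lit 9, nat_lit 4, nat_lit 11, nat_lit 10, nat_lit 1, nat_lit 14, nat_lit 13, nat_lit 16] (Rl.cmp (nat_lit 5810) (nat_lit 5804)))) (FT.leaf (Fct.mk false (nat_lit 36) (nat_lit 0) (nat_lit 36) [nat_lit 3, nat_lit 4, nat_lit 5, nat_lit 2, nat_lit 3, nat_lit 9, nat_lit 2, nat_lit 15, nat_lit 14, nat_lit 16] (Rl.cmp (nat_lit 5810) (nat_lit 5832)))))) (FT.node (nat_lit 5835) (FT.leaf (Fct.mk false (nat_lit 36) (nat_lit 0) (nat_lit 36) [nat_lit 4, nat_lit 5, nat_lit 1, nat_lit 2, nat_lit 3, nat_lit 9, nat_lit 2, nat_lit 16] (Rl.cmp (nat_lit 5806) (nat_lit 5833)))) (FT.node (nat_lit 5836) (FT.leaf (Fct.mk false (nat_lit 36) (nat_lit 0) (nat_lit 36) [nat_lit 3, nat_lit 1, nat_lit 0, nat_lit 2, nat_lit 15, nat_lit 14, nat_lit 12, nat_lit 16] (Rl.cmp (nat_lit 5810) (nat_lit 5834)))) (FT.leaf (Fct.mk true (nat_lit 5) (nat_lit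 803) (nat_lit 36) [nat_lit 8, nat_lit 3, nat_lit 4, nat_lit 2, nat_lit 3, nat_lit 8, nat_lit 1, nat_lit 2, nat_lit 3, nat_lit 4, nat_lit 5, nat_lit 8, nat_lit 3, nat_lit 2, nat_lit 1, nat_lit 4, nat_lit 3, nat_lit 2, nat_lit 8, nat_lit 3, nat_lit 11, nat_lit 8, nat_lit 10, nat_lit 16, nat_lit 12, nat_lit 15, nat_lit 14, nat_lit 8, nat_lit 16] (Rl.rel (nat_lit 0) [nat_lit 8, nat_lit 3, nat_lit 4, nat_lit 5, nat_lit 2, nat_lit 3, nat_lit 1, nat_lit 18] (nat_lit 36) (nat_lit 2) [nat_lit 5804, nat_lit 5805, nat_lit 2771, nat_lit 2150] []))))))) (FT.node (nat_lit 5843) (FT.node (nat_lit 5840) (FT.node (nat_lit 5838) (FT.leaf (Fct.mk true (nat_lit 5) (nat_lit 215) (nat_lit 36) [nat_lit 4, nat_lit 3, nat_lit 8, nat_lit 2, nat_lit 3, nat_lit 4, nat_lit 1, nat_lit 2, nat_lit 3, nat_lit 8, nat_lit 0, nat_lit 1, nat_lit 2, nat_lit 3, nat_lit 4, nat_lit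 5, nat_lit 1, nat_lit 9, nat_lit 4, nat_lit 3, nat_lit 2, nat_lit 8, nat_lit 3, nat_lit 11, nat_lit 2, nat_lit 8, nat_lit 16, nat_lit 15, nat_lit 14, nat_lit 8, nat_lit 19, nat_lit 16] (Rl.t1 (nat_lit 5836) (nat_lit 511)))) (FT.node (nat_lit 5839) (FT.leaf (Fct.mk true (nat_lit 36) (nat_lit 156) (nat_lit 5) [nat_lit 0, nat_lit 1, nat_lit 2, nat_lit 3, nat_lit 4, nat_lit 5, nat_lit 1, nat_lit 8, nat_lit 3, nat_lit 2, nat_lit 0, nat_lit 1, nat_lit 4, nat_lit 3, nat_lit 2, nat_lit 8, nat_lit 3, nat_lit 11, nat_lit 9, nat_lit 10, nat_lit 2, nat_lit 8, nat_lit 10, nat_lit 1, nat_lit 16, nat_lit 8, nat_lit 12, nat_lit 15, nat_lit 17, nat_lit 12, nat_lit 18] (Rl.inv (nat_lit 5837)))) (FT.leaf (Fct.mk true (nat_lit 36) (nat_lit 80) (nat_lit 5) [nat_lit 6, nat_lit 2, nat_lit 1, nat_lit 8, nat_lit 4, nat_lit 3, nat_lit 2, nat_lit 0, nat_lit 1, nat_lit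 9, nat_lit 4, nat_lit 3, nat_lit 2, nat_lit 8, nat_lit 3, nat_lit 9, nat_lit 10, nat_lit 2, nat_lit 8, nat_lit 10, nat_lit 1, nat_lit 12, nat_lit 15, nat_lit 14, nat_lit 17, nat_lit 12, nat_lit 18] (Rl.t1 (nat_lit 5838) (nat_lit 5835)))))) (FT.node (nat_lit 5841) (FT.leaf (Fct.mk false (nat_lit 36) (nat_lit 0) (nat_lit 36) [nat_lit 1, nat_lit 2, nat_lit 3, nat_lit 4, nat_lit 5, nat_lit 4, nat_lit 2, nat_lit 10, nat_lit 1, nat_lit 12] (Rl.cmp (nat_lit 5806) (nat_lit 5804)))) (FT.node (nat_lit 5842) (FT.leaf (Fct.mk false (nat_lit 36) (nat_lit 0) (nat_lit 36) [nat_lit 3, nat_lit 4, nat_lit 5, nat_lit 2, nat_lit 3, nat_lit 10, nat_lit 1, nat_lit 12, nat_lit 15, nat_lit 14] (Rl.cmp (nat_lit 5804) (nat_lit 5840)))) (FT.leaf (Fct.mk false (nat_lit 36) (nat_lit 0) (nat_lit 36) [nat_lit 5, nat_lit 6, nat_lit 4, nat_lit 5, nat_lit 3, nat_lit 4, nat_lit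 1, nat_lit 2, nat_lit 3, nat_lit 8, nat_lit 0, nat_lit 1, nat_lit 2, nat_lit 3, nat_lit 4, nat_lit 5, nat_lit 1, nat_lit 3, nat_lit 2, nat_lit 8, nat_lit 3, nat_lit 10, nat_lit 16, nat_lit 12, nat_lit 15, nat_lit 14, nat_lit 16, nat_lit 8, nat_lit 18, nat_lit 16] (Rl.cmp (nat_lit 5814) (nat_lit 5841))))))) (FT.node (nat_lit 5846) (FT.node (nat_lit 5844) (FT.leaf (Fct.mk false (nat_lit 36) (nat_lit 0) (nat_lit 36) [nat_lit 6, nat_lit 5, nat_lit 4, nat_lit 3, nat_lit 8, nat_lit 0, nat_lit 1, nat_lit 2, nat_lit 3, nat_lit 4, nat_lit 5, nat_lit 1, nat_lit 2, nat_lit 3, nat_lit 15, nat_lit 14, nat_lit 16, nat_lit 8, nat_lit 18, nat_lit 16] (Rl.cmp (nat_lit 5804) (nat_lit 5842)))) (FT.node (nat_lit 5845) (FT.leaf (Fct.mk false (nat_lit 36) (nat_lit 0) (nat_lit 36) [nat_lit 8, nat_lit 0, nat_lit 1, nat_lit 2, nat_lit 3, nat_lit 4, nat_lit 5, nat_lit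 0, nat_lit 1, nat_lit 2, nat_lit 8, nat_lit 3, nat_lit 10, nat_lit 0, nat_lit 15, nat_lit 14, nat_lit 16, nat_lit 8, nat_lit 18, nat_lit 16] (Rl.cmp (nat_lit 5810) (nat_lit 5843)))) (FT.leaf (Fct.mk false (nat_lit 36) (nat_lit 0) (nat_lit 36) [nat_lit 8, nat_lit 2, nat_lit 3, nat_lit 4, nat_lit 5, nat_lit 4, nat_lit 3, nat_lit 2, nat_lit 8, nat_lit 3, nat_lit 2, nat_lit 12, nat_lit 15, nat_lit 14, nat_lit 16, nat_lit 8, nat_lit 18, nat_lit 16] (Rl.cmp (nat_lit 5804) (nat_lit 5844)))))) (FT.node (nat_lit 5848) (FT.node (nat_lit 5847) (FT.leaf (Fct.mk true (nat_lit 33) (nat_lit 96346) (nat_lit 36) [nat_lit 7, nat_lit 5, nat_lit 6, nat_lit 3, nat_lit 4, nat_lit 5, nat_lit 2, nat_lit 3, nat_lit 4, nat_lit 1, nat_lit 2, nat_lit 3, nat_lit 8, nat_lit 0, nat_lit 1, nat_lit 2, nat_lit 3, nat_lit 4, nat_lit 5, nat_lit 6, nat_lit 7, nat_lit 2, nat_lit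 3, nat_lit 8, nat_lit 6, nat_lit 4, nat_lit 5, nat_lit 3, nat_lit 4, nat_lit 2, nat_lit 3, nat_lit 8, nat_lit 0, nat_lit 1, nat_lit 2, nat_lit 3, nat_lit 4, nat_lit 5, nat_lit 3, nat_lit 2, nat_lit 0, nat_lit 1, nat_lit 9, nat_lit 4, nat_lit 3, nat_lit 2, nat_lit 8, nat_lit 3, nat_lit 11, nat_lit 10, nat_lit 12, nat_lit 15, nat_lit 14, nat_lit 16, nat_lit 8, nat_lit 16] (Rl.rel (nat_lit 0) [nat_lit 8, nat_lit 3, nat_lit 4, nat_lit 5, nat_lit 6, nat_lit 7, nat_lit 2, nat_lit 3, nat_lit 1, nat_lit 18] (nat_lit 36) (nat_lit 2) [nat_lit 5804, nat_lit 5805, nat_lit 4113, nat_lit 5288] []))) (FT.leaf (Fct.mk true (nat_lit 33) (nat_lit 27) (nat_lit 36) [nat_lit 5, nat_lit 4, nat_lit 3, nat_lit 8, nat_lit 1, nat_lit 2, nat_lit 3, nat_lit 4, nat_lit 5, nat_lit 6, nat_lit 7, nat_lit 8, nat_lit 3, nat_lit 2, nat_lit 10, nat_lit 1, nat_lit 14, nat_lit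 8, nat_lit 18] (Rl.t1 (nat_lit 5846) (nat_lit 5663))))) (FT.node (nat_lit 5849) (FT.leaf (Fct.mk true (nat_lit 36) (nat_lit 1525) (nat_lit 33) [nat_lit 7, nat_lit 8, nat_lit 6, nat_lit 4, nat_lit 5, nat_lit 3, nat_lit 4, nat_lit 2, nat_lit 3, nat_lit 8, nat_lit 1, nat_lit 2, nat_lit 3, nat_lit 4, nat_lit 5, nat_lit 8, nat_lit 10, nat_lit 1, nat_lit 14] (Rl.inv (nat_lit 5847)))) (FT.leaf (Fct.mk true (nat_lit 36) (nat_lit 519) (nat_lit 33) [nat_lit 8, nat_lit 3, nat_lit 4, nat_lit 5, nat_lit 6, nat_lit 7, nat_lit 6, nat_lit 5, nat_lit 4, nat_lit 1, nat_lit 2, nat_lit 3, nat_lit 8, nat_lit 0, nat_lit 1, nat_lit 2, nat_lit 3, nat_lit 4, nat_lit 5, nat_lit 2, nat_lit 1, nat_lit 3, nat_lit 2, nat_lit 0, nat_lit 1, nat_lit 9, nat_lit 4, nat_lit 3, nat_lit 2, nat_lit 8, nat_lit 3, nat_lit 2, nat_lit 16, nat_lit 15, nat_lit 14, nat_lit 13, nat_lit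 18, nat_lit 16] (Rl.t1 (nat_lit 5848) (nat_lit 5845)))))))))

/-- some facts -/
noncomputable def ftc117 : FT := FT.node (nat_lit 5875) (FT.node (nat_lit 5862) (FT.node (nat_lit 5856) (FT.node (nat_lit 5853) (FT.node (nat_lit 5851) (FT.leaf (Fct.mk false (nat_lit 36) (nat_lit 0) (nat_lit 36) [nat_lit 1, nat_lit 2, nat_lit 3, nat_lit 14] (Rl.cmp (nat_lit 5806) (nat_lit 5806)))) (FT.node (nat_lit 5852) (FT.leaf (Fct.mk false (nat_lit 36) (nat_lit 0) (nat_lit 36) [nat_lit 3, nat_lit 8, nat_lit 2, nat_lit 3, nat_lit 4, nat_lit 5, nat_lit 2, nat_lit 1, nat_lit 4, nat_lit 3, nat_lit 2, nat_lit 0, nat_lit 1, nat_lit 9, nat_lit 4, nat_lit 3, nat_lit 2, nat_lit 8, nat_lit 3, nat_lit 0, nat_lit 16, nat_lit 15, nat_lit 14, nat_lit 17, nat_lit 19] (Rl.cmp (nat_lit 5814) (nat_lit 5850)))) (FT.leaf (Fct.mk false (nat_lit 36) (nat_lit 0) (nat_lit 36) [nat_lit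 3, nat_lit 8, nat_lit 6, nat_lit 4, nat_lit 5, nat_lit 3, nat_lit 4, nat_lit 2, nat_lit 3, nat_lit 8, nat_lit 1, nat_lit 2, nat_lit 3, nat_lit 4, nat_lit 5, nat_lit 8, nat_lit 3, nat_lit 2, nat_lit 1, nat_lit 9, nat_lit 4, nat_lit 3, nat_lit 2, nat_lit 8, nat_lit 3, nat_lit 0, nat_lit 2, nat_lit 12, nat_lit 8, nat_lit 16, nat_lit 14, nat_lit 8, nat_lit 19] (Rl.cmp (nat_lit 5814) (nat_lit 5851)))))) (FT.node (nat_lit 5854) (FT.leaf (Fct.mk false (nat_lit 36) (nat_lit 0) (nat_lit 36) [nat_lit 2, nat_lit 3, nat_lit 8, nat_lit 0, nat_lit 1, nat_lit 2, nat_lit 3, nat_lit 4, nat_lit 5, nat_lit 2, nat_lit 1, nat_lit 8, nat_lit 4, nat_lit 3, nat_lit 2, nat_lit 0, nat_lit 1, nat_lit 9, nat_lit 4, nat_lit 3, nat_lit 2, nat_lit 8, nat_lit 3, nat_lit 10, nat_lit 1, nat_lit 12, nat_lit 19, nat_lit 16] (Rl.cmp (nat_lit 5814) (nat_lit 5852)))) (FT.node (nat_lit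 5855) (FT.leaf (Fct.mk false (nat_lit 36) (nat_lit 0) (nat_lit 36) [nat_lit 5, nat_lit 4, nat_lit 2, nat_lit 3, nat_lit 8, nat_lit 1, nat_lit 2, nat_lit 3, nat_lit 4, nat_lit 5, nat_lit 2, nat_lit 1, nat_lit 3, nat_lit 2, nat_lit 0, nat_lit 1, nat_lit 9, nat_lit 4, nat_lit 3, nat_lit 2, nat_lit 8, nat_lit 3, nat_lit 8, nat_lit 10, nat_lit 0, nat_lit 12, nat_lit 19, nat_lit 16] (Rl.cmp (nat_lit 5810) (nat_lit 5853)))) (FT.leaf (Fct.mk true (nat_lit 33) (nat_lit 12550) (nat_lit 36) [nat_lit 1, nat_lit 2, nat_lit 3, nat_lit 8, nat_lit 0, nat_lit 1, nat_lit 2, nat_lit 3, nat_lit 4, nat_lit 5, nat_lit 6, nat_lit 7, nat_lit 3, nat_lit 8, nat_lit 5, nat_lit 2, nat_lit 3, nat_lit 4, nat_lit 1, nat_lit 2, nat_lit 3, nat_lit 8, nat_lit 0, nat_lit 1, nat_lit 2, nat_lit 3, nat_lit 4, nat_lit 5, nat_lit 2, nat_lit 1, nat_lit 3, nat_lit 2, nat_lit 0, nat_lit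 1, nat_lit 4, nat_lit 3, nat_lit 2, nat_lit 8, nat_lit 3, nat_lit 1, nat_lit 9, nat_lit 8, nat_lit 12, nat_lit 15, nat_lit 14, nat_lit 17, nat_lit 18] (Rl.rel (nat_lit 0) [nat_lit 8, nat_lit 3, nat_lit 4, nat_lit 5, nat_lit 6, nat_lit 7, nat_lit 2, nat_lit 3, nat_lit 0, nat_lit 15, nat_lit 18] (nat_lit 36) (nat_lit 2) [nat_lit 5804, nat_lit 5805, nat_lit 4116, nat_lit 4912] [])))))) (FT.node (nat_lit 5859) (FT.node (nat_lit 5857) (FT.leaf (Fct.mk true (nat_lit 33) (nat_lit 90) (nat_lit 36) [nat_lit 8, nat_lit 7, nat_lit 6, nat_lit 4, nat_lit 5, nat_lit 2, nat_lit 3, nat_lit 4, nat_lit 1, nat_lit 2, nat_lit 3, nat_lit 8, nat_lit 0, nat_lit 1, nat_lit 2, nat_lit 3, nat_lit 4, nat_lit 5, nat_lit 6, nat_lit 7, nat_lit 5, nat_lit 2, nat_lit 3, nat_lit 4, nat_lit 1, nat_lit 2, nat_lit 3, nat_lit 8, nat_lit 0, nat_lit 1, nat_lit 2, nat_lit 3, nat_lit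 4, nat_lit 5, nat_lit 3, nat_lit 2, nat_lit 0, nat_lit 1, nat_lit 9, nat_lit 4, nat_lit 3, nat_lit 2, nat_lit 8, nat_lit 3, nat_lit 0, nat_lit 12, nat_lit 15, nat_lit 8, nat_lit 18] (Rl.t1 (nat_lit 5855) (nat_lit 5685)))) (FT.node (nat_lit 5858) (FT.leaf (Fct.mk true (nat_lit 36) (nat_lit 2968) (nat_lit 33) [nat_lit 7, nat_lit 6, nat_lit 5, nat_lit 3, nat_lit 4, nat_lit 1, nat_lit 2, nat_lit 3, nat_lit 8, nat_lit 0, nat_lit 1, nat_lit 2, nat_lit 3, nat_lit 4, nat_lit 5, nat_lit 6, nat_lit 7, nat_lit 5, nat_lit 3, nat_lit 4, nat_lit 1, nat_lit 2, nat_lit 3, nat_lit 8, nat_lit 0, nat_lit 1, nat_lit 2, nat_lit 3, nat_lit 4, nat_lit 5, nat_lit 9, nat_lit 4, nat_lit 8, nat_lit 10, nat_lit 9, nat_lit 2, nat_lit 16, nat_lit 8, nat_lit 12, nat_lit 15, nat_lit 16, nat_lit 8, nat_lit 16] (Rl.inv (nat_lit 5856)))) (FT.leaf (Fct.mk true (nat_lit 36) (nat_lit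 260) (nat_lit 33) [nat_lit 7, nat_lit 6, nat_lit 5, nat_lit 4, nat_lit 3, nat_lit 8, nat_lit 2, nat_lit 3, nat_lit 4, nat_lit 5, nat_lit 6, nat_lit 7, nat_lit 5, nat_lit 4, nat_lit 3, nat_lit 8, nat_lit 2, nat_lit 3, nat_lit 4, nat_lit 5, nat_lit 3, nat_lit 2, nat_lit 8, nat_lit 3, nat_lit 11, nat_lit 8, nat_lit 12, nat_lit 15, nat_lit 14, nat_lit 8, nat_lit 18] (Rl.t1 (nat_lit 5857) (nat_lit 5854)))))) (FT.node (nat_lit 5860) (FT.leaf (Fct.mk false (nat_lit 36) (nat_lit 0) (nat_lit 36) [nat_lit 1, nat_lit 2, nat_lit 3, nat_lit 4, nat_lit 5, nat_lit 9, nat_lit 4, nat_lit 11, nat_lit 10, nat_lit 1, nat_lit 14, nat_lit 13, nat_lit 16] (Rl.cmp (nat_lit 5810) (nat_lit 5804)))) (FT.node (nat_lit 5861) (FT.leaf (Fct.mk false (nat_lit 36) (nat_lit 0) (nat_lit 36) [nat_lit 3, nat_lit 4, nat_lit 5, nat_lit 9, nat_lit 4, nat_lit 9, nat_lit 2, nat_lit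 16, nat_lit 14, nat_lit 16] (Rl.cmp (nat_lit 5806) (nat_lit 5859)))) (FT.leaf (Fct.mk false (nat_lit 36) (nat_lit 0) (nat_lit 36) [nat_lit 4, nat_lit 5, nat_lit 9, nat_lit 4, nat_lit 11, nat_lit 10, nat_lit 1, nat_lit 14, nat_lit 13] (Rl.cmp (nat_lit 5806) (nat_lit 5860)))))))) (FT.node (nat_lit 5868) (FT.node (nat_lit 5865) (FT.node (nat_lit 5863) (FT.leaf (Fct.mk false (nat_lit 36) (nat_lit 0) (nat_lit 36) [nat_lit 2, nat_lit 3, nat_lit 4, nat_lit 5, nat_lit 9, nat_lit 4, nat_lit 1, nat_lit 9, nat_lit 16, nat_lit 14] (Rl.cmp (nat_lit 5806) (nat_lit 5861)))) (FT.node (nat_lit 5864) (FT.leaf (Fct.mk false (nat_lit 36) (nat_lit 0) (nat_lit 36) [nat_lit 2, nat_lit 3, nat_lit 4, nat_lit 5, nat_lit 1, nat_lit 2, nat_lit 3, nat_lit 10, nat_lit 0, nat_lit 15] (Rl.cmp (nat_lit 5804) (nat_lit 5806)))) (FT.leaf (Fct.mk false (nat_lit 36) (nat_lit 0)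 (nat_lit 36) [nat_lit 1, nat_lit 2, nat_lit 3, nat_lit 4, nat_lit 5, nat_lit 2, nat_lit 3, nat_lit 12, nat_lit 15, nat_lit 14] (Rl.cmp (nat_lit 5804) (nat_lit 5863)))))) (FT.node (nat_lit 5866) (FT.leaf (Fct.mk false (nat_lit 36) (nat_lit 0) (nat_lit 36) [nat_lit 5, nat_lit 6, nat_lit 4, nat_lit 5, nat_lit 2, nat_lit 3, nat_lit 4, nat_lit 1, nat_lit 2, nat_lit 3, nat_lit 8, nat_lit 0, nat_lit 1, nat_lit 2, nat_lit 3, nat_lit 4, nat_lit 5, nat_lit 0, nat_lit 1, nat_lit 3, nat_lit 2, nat_lit 8, nat_lit 3, nat_lit 11, nat_lit 2, nat_lit 16, nat_lit 15, nat_lit 14, nat_lit 17, nat_lit 12, nat_lit 18] (Rl.cmp (nat_lit 5814) (nat_lit 5864)))) (FT.node (nat_lit 5867) (FT.leaf (Fct.mk true (nat_lit 36) (nat_lit 723) (nat_lit 36) [nat_lit 5, nat_lit 3, nat_lit 4, nat_lit 1, nat_lit 2, nat_lit 3, nat_lit 8, nat_lit 0, nat_lit 1, nat_lit 2, nat_lit 3,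 nat_lit 4, nat_lit 5, nat_lit 3, nat_lit 2, nat_lit 1, nat_lit 8, nat_lit 3, nat_lit 2, nat_lit 0, nat_lit 1, nat_lit 4, nat_lit 3, nat_lit 2, nat_lit 8, nat_lit 3, nat_lit 11, nat_lit 1, nat_lit 8, nat_lit 12, nat_lit 15, nat_lit 14, nat_lit 17, nat_lit 12, nat_lit 16] (Rl.rel (nat_lit 0) [nat_lit 8, nat_lit 2, nat_lit 3, nat_lit 4, nat_lit 5, nat_lit 1, nat_lit 2, nat_lit 3, nat_lit 9, nat_lit 15, nat_lit 14, nat_lit 19, nat_lit 16] (nat_lit 36) (nat_lit 2) [nat_lit 5804, nat_lit 5805, nat_lit 493, nat_lit 5837] []))) (FT.leaf (Fct.mk true (nat_lit 36) (nat_lit 50) (nat_lit 36) [nat_lit 3, nat_lit 8, nat_lit 5, nat_lit 2, nat_lit 3, nat_lit 4, nat_lit 1, nat_lit 2, nat_lit 3, nat_lit 8, nat_lit 0, nat_lit 1, nat_lit 2, nat_lit 3, nat_lit 4, nat_lit 5, nat_lit 9, nat_lit 4, nat_lit 11, nat_lit 8, nat_lit 10, nat_lit 15, nat_lit 18, nat_lit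 16] (Rl.t1 (nat_lit 5866) (nat_lit 5865))))))) (FT.node (nat_lit 5871) (FT.node (nat_lit 5869) (FT.leaf (Fct.mk false (nat_lit 36) (nat_lit 0) (nat_lit 36) [nat_lit 2, nat_lit 3, nat_lit 4, nat_lit 5, nat_lit 9, nat_lit 4, nat_lit 11, nat_lit 10, nat_lit 1, nat_lit 16, nat_lit 14, nat_lit 13, nat_lit 16] (Rl.cmp (nat_lit 5810) (nat_lit 5810)))) (FT.node (nat_lit 5870) (FT.leaf (Fct.mk false (nat_lit 36) (nat_lit 0) (nat_lit 36) [nat_lit 1, nat_lit 2, nat_lit 3, nat_lit 4, nat_lit 5, nat_lit 9, nat_lit 4, nat_lit 9, nat_lit 2, nat_lit 16, nat_lit 12, nat_lit 15, nat_lit 14, nat_lit 12] (Rl.cmp (nat_lit 5806) (nat_lit 5868)))) (FT.leaf (Fct.mk false (nat_lit 36) (nat_lit 0) (nat_lit 36) [nat_lit 3, nat_lit 4, nat_lit 5, nat_lit 9, nat_lit 4, nat_lit 11, nat_lit 10, nat_lit 1, nat_lit 16, nat_lit 14, nat_lit 13] (Rl.cmp (nat_lit 5806) (nat_lit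 5869)))))) (FT.node (nat_lit 5873) (FT.node (nat_lit 5872) (FT.leaf (Fct.mk false (nat_lit 36) (nat_lit 0) (nat_lit 36) [nat_lit 0, nat_lit 1, nat_lit 2, nat_lit 3, nat_lit 4, nat_lit 5, nat_lit 1, nat_lit 2, nat_lit 3, nat_lit 9, nat_lit 2, nat_lit 12, nat_lit 15, nat_lit 14] (Rl.cmp (nat_lit 5810) (nat_lit 5870)))) (FT.leaf (Fct.mk false (nat_lit 36) (nat_lit 0) (nat_lit 36) [nat_lit 6, nat_lit 1, nat_lit 2, nat_lit 3, nat_lit 1, nat_lit 0, nat_lit 2, nat_lit 12, nat_lit 15, nat_lit 16] (Rl.cmp (nat_lit 5810) (nat_lit 5806))))) (FT.node (nat_lit 5874) (FT.leaf (Fct.mk false (nat_lit 36) (nat_lit 0) (nat_lit 36) [nat_lit 6, nat_lit 3, nat_lit 9, nat_lit 2, nat_lit 16, nat_lit 15, nat_lit 14, nat_lit 16] (Rl.cmp (nat_lit 5804) (nat_lit 5872)))) (FT.leaf (Fct.mk false (nat_lit 36) (nat_lit 0) (nat_lit 36) [nat_lit 6, nat_lit 0, nat_lit 1, nat_lit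 2, nat_lit 3, nat_lit 11, nat_lit 10, nat_lit 16, nat_lit 12, nat_lit 15, nat_lit 14, nat_lit 13, nat_lit 12] (Rl.cmp (nat_lit 5804) (nat_lit 5873))))))))) (FT.node (nat_lit 5887) (FT.node (nat_lit 5881) (FT.node (nat_lit 5878) (FT.node (nat_lit 5876) (FT.leaf (Fct.mk false (nat_lit 36) (nat_lit 0) (nat_lit 36) [nat_lit 2, nat_lit 3, nat_lit 4, nat_lit 5, nat_lit 9, nat_lit 4, nat_lit 11, nat_lit 10, nat_lit 1, nat_lit 16, nat_lit 14, nat_lit 13, nat_lit 16] (Rl.cmp (nat_lit 5810) (nat_lit 5810)))) (FT.node (nat_lit 5877) (FT.leaf (Fct.mk false (nat_lit 36) (nat_lit 0) (nat_lit 36) [nat_lit 1, nat_lit 2, nat_lit 3, nat_lit 4, nat_lit 5, nat_lit 9, nat_lit 4, nat_lit 9, nat_lit 2, nat_lit 16, nat_lit 12, nat_lit 15, nat_lit 14, nat_lit 12] (Rl.cmp (nat_lit 5806) (nat_lit 5875)))) (FT.leaf (Fct.mk false (nat_lit 36) (nat_lit 0) (nat_lit 36) [nat_lit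 3, nat_lit 4, nat_lit 5, nat_lit 9, nat_lit 4, nat_lit 11, nat_lit 10, nat_lit 1, nat_lit 16, nat_lit 14, nat_lit 13] (Rl.cmp (nat_lit 5806) (nat_lit 5876)))))) (FT.node (nat_lit 5879) (FT.leaf (Fct.mk false (nat_lit 36) (nat_lit 0) (nat_lit 36) [nat_lit 0, nat_lit 1, nat_lit 2, nat_lit 3, nat_lit 4, nat_lit 5, nat_lit 1, nat_lit 2, nat_lit 3, nat_lit 9, nat_lit 2, nat_lit 12, nat_lit 15, nat_lit 14] (Rl.cmp (nat_lit 5810) (nat_lit 5877)))) (FT.node (nat_lit 5880) (FT.leaf (Fct.mk true (nat_lit 32) (nat_lit 40139) (nat_lit 36) [nat_lit 8, nat_lit 4, nat_lit 5, nat_lit 3, nat_lit 4, nat_lit 1, nat_lit 2, nat_lit 3, nat_lit 8, nat_lit 0, nat_lit 1, nat_lit 2, nat_lit 3, nat_lit 4, nat_lit 5, nat_lit 6, nat_lit 7, nat_lit 5, nat_lit 4, nat_lit 2, nat_lit 3, nat_lit 8, nat_lit 0, nat_lit 1, nat_lit 2, nat_lit 3, nat_lit 4, nat_lit 5, nat_lit 1,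 nat_lit 3, nat_lit 2, nat_lit 0, nat_lit 1, nat_lit 9, nat_lit 4, nat_lit 3, nat_lit 2, nat_lit 8, nat_lit 3, nat_lit 2, nat_lit 16, nat_lit 8, nat_lit 12, nat_lit 15, nat_lit 12, nat_lit 18, nat_lit 16] (Rl.rel (nat_lit 0) [nat_lit 8, nat_lit 4, nat_lit 5, nat_lit 2, nat_lit 3, nat_lit 4, nat_lit 1, nat_lit 2, nat_lit 3, nat_lit 8, nat_lit 0, nat_lit 1, nat_lit 2, nat_lit 3, nat_lit 4, nat_lit 5, nat_lit 6, nat_lit 7, nat_lit 4, nat_lit 3, nat_lit 8, nat_lit 2, nat_lit 3, nat_lit 4, nat_lit 1, nat_lit 2, nat_lit 3, nat_lit 8, nat_lit 0, nat_lit 1, nat_lit 2, nat_lit 3, nat_lit 4, nat_lit 5, nat_lit 3, nat_lit 2, nat_lit 1, nat_lit 8, nat_lit 3, nat_lit 2, nat_lit 0, nat_lit 1, nat_lit 4, nat_lit 3, nat_lit 2, nat_lit 8, nat_lit 3, nat_lit 10, nat_lit 0, nat_lit 12, nat_lit 18] (nat_lit 36) (nat_lit 2) [nat_lit 5858, nat_lit 4737, nat_lit 4738]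 []))) (FT.leaf (Fct.mk true (nat_lit 32) (nat_lit 2173) (nat_lit 36) [nat_lit 4, nat_lit 3, nat_lit 8, nat_lit 0, nat_lit 1, nat_lit 2, nat_lit 3, nat_lit 4, nat_lit 5, nat_lit 6, nat_lit 7, nat_lit 5, nat_lit 2, nat_lit 1, nat_lit 8, nat_lit 3, nat_lit 2, nat_lit 0, nat_lit 1, nat_lit 9, nat_lit 4, nat_lit 3, nat_lit 2, nat_lit 8, nat_lit 3, nat_lit 2, nat_lit 15, nat_lit 12] (Rl.t1 (nat_lit 5879) (nat_lit 5699))))))) (FT.node (nat_lit 5884) (FT.node (nat_lit 5882) (FT.leaf (Fct.mk true (nat_lit 36) (nat_lit 1556) (nat_lit 32) [nat_lit 3, nat_lit 4, nat_lit 2, nat_lit 3, nat_lit 8, nat_lit 0, nat_lit 1, nat_lit 2, nat_lit 3, nat_lit 4, nat_lit 5, nat_lit 6, nat_lit 7, nat_lit 5, nat_lit 0, nat_lit 1, nat_lit 3, nat_lit 2, nat_lit 8, nat_lit 3, nat_lit 10, nat_lit 0, nat_lit 16, nat_lit 8, nat_lit 12, nat_lit 15, nat_lit 8, nat_lit 18] (Rl.inv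 (nat_lit 5880)))) (FT.node (nat_lit 5883) (FT.leaf (Fct.mk true (nat_lit 36) (nat_lit 1083) (nat_lit 32) [nat_lit 4, nat_lit 3, nat_lit 8, nat_lit 0, nat_lit 1, nat_lit 2, nat_lit 3, nat_lit 4, nat_lit 5, nat_lit 6, nat_lit 7, nat_lit 1, nat_lit 2, nat_lit 8, nat_lit 3, nat_lit 0, nat_lit 2, nat_lit 16, nat_lit 8, nat_lit 12, nat_lit 15, nat_lit 18] (Rl.t1 (nat_lit 5881) (nat_lit 5878)))) (FT.leaf (Fct.mk false (nat_lit 36) (nat_lit 0) (nat_lit 36) [nat_lit 6, nat_lit 9, nat_lit 4, nat_lit 10, nat_lit 15, nat_lit 14, nat_lit 12, nat_lit 16] (Rl.cmp (nat_lit 5806) (nat_lit 5810)))))) (FT.node (nat_lit 5885) (FT.leaf (Fct.mk false (nat_lit 36) (nat_lit 0) (nat_lit 36) [nat_lit 6, nat_lit 2, nat_lit 3, nat_lit 1, nat_lit 16, nat_lit 15, nat_lit 14, nat_lit 16] (Rl.cmp (nat_lit 5804) (nat_lit 5883)))) (FT.node (nat_lit 5886) (FT.leaf (Fct.mk false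 (nat_lit 36) (nat_lit 0) (nat_lit 36) [nat_lit 6, nat_lit 1, nat_lit 2, nat_lit 3, nat_lit 1, nat_lit 0, nat_lit 2, nat_lit 14, nat_lit 12, nat_lit 16] (Rl.cmp (nat_lit 5804) (nat_lit 5884)))) (FT.leaf (Fct.mk false (nat_lit 36) (nat_lit 0) (nat_lit 36) [nat_lit 6, nat_lit 3, nat_lit 9, nat_lit 2] (Rl.cmp (nat_lit 5804) (nat_lit 5885)))))))) (FT.node (nat_lit 5893) (FT.node (nat_lit 5890) (FT.node (nat_lit 5888) (FT.leaf (Fct.mk true (nat_lit 33) (nat_lit 116353) (nat_lit 36) [nat_lit 1, nat_lit 2, nat_lit 3, nat_lit 8, nat_lit 0, nat_lit 1, nat_lit 2, nat_lit 3, nat_lit 4, nat_lit 5, nat_lit 6, nat_lit 7, nat_lit 2, nat_lit 3, nat_lit 8, nat_lit 5, nat_lit 6, nat_lit 4, nat_lit 5, nat_lit 3, nat_lit 4, nat_lit 2, nat_lit 3, nat_lit 8, nat_lit 1, nat_lit 2, nat_lit 3, nat_lit 4, nat_lit 5, nat_lit 8, nat_lit 3, nat_lit 2, nat_lit 0, nat_lit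 1, nat_lit 4, nat_lit 3, nat_lit 2, nat_lit 8, nat_lit 3, nat_lit 1, nat_lit 0, nat_lit 2, nat_lit 12, nat_lit 15, nat_lit 14, nat_lit 17, nat_lit 12] (Rl.rel (nat_lit 0) [nat_lit 8, nat_lit 4, nat_lit 5, nat_lit 2, nat_lit 3, nat_lit 4, nat_lit 1, nat_lit 2, nat_lit 3, nat_lit 8, nat_lit 0, nat_lit 1, nat_lit 2, nat_lit 3, nat_lit 4, nat_lit 5, nat_lit 6, nat_lit 7, nat_lit 3, nat_lit 8, nat_lit 2, nat_lit 3, nat_lit 4, nat_lit 1, nat_lit 2, nat_lit 3, nat_lit 8, nat_lit 0, nat_lit 1, nat_lit 2, nat_lit 3, nat_lit 4, nat_lit 5, nat_lit 3, nat_lit 2, nat_lit 1, nat_lit 8, nat_lit 3, nat_lit 2, nat_lit 0, nat_lit 1, nat_lit 4, nat_lit 3, nat_lit 2, nat_lit 8, nat_lit 3, nat_lit 10, nat_lit 0, nat_lit 12, nat_lit 18] (nat_lit 36) (nat_lit 2) [nat_lit 5858, nat_lit 5658, nat_lit 4743] []))) (FT.node (nat_lit 5889) (FT.leaf (Fct.mk true (nat_lit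 33) (nat_lit 19) (nat_lit 36) [nat_lit 5, nat_lit 4, nat_lit 2, nat_lit 3, nat_lit 8, nat_lit 1, nat_lit 2, nat_lit 3, nat_lit 4, nat_lit 5, nat_lit 6, nat_lit 7, nat_lit 2, nat_lit 3, nat_lit 8, nat_lit 6, nat_lit 4, nat_lit 5, nat_lit 3, nat_lit 4, nat_lit 2, nat_lit 3, nat_lit 8, nat_lit 0, nat_lit 1, nat_lit 2, nat_lit 3, nat_lit 4, nat_lit 5, nat_lit 1, nat_lit 8, nat_lit 3, nat_lit 2, nat_lit 0, nat_lit 1, nat_lit 9, nat_lit 4, nat_lit 3, nat_lit 2, nat_lit 8, nat_lit 3, nat_lit 11, nat_lit 8, nat_lit 10, nat_lit 17, nat_lit 19, nat_lit 16] (Rl.t1 (nat_lit 5887) (nat_lit 5696)))) (FT.leaf (Fct.mk true (nat_lit 36) (nat_lit 3140) (nat_lit 33) [nat_lit 5, nat_lit 4, nat_lit 1, nat_lit 2, nat_lit 3, nat_lit 8, nat_lit 0, nat_lit 1, nat_lit 2, nat_lit 3, nat_lit 4, nat_lit 5, nat_lit 6, nat_lit 7, nat_lit 8, nat_lit 6, nat_lit 5, nat_lit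 3, nat_lit 4, nat_lit 2, nat_lit 3, nat_lit 8, nat_lit 0, nat_lit 1, nat_lit 2, nat_lit 3, nat_lit 4, nat_lit 5, nat_lit 2, nat_lit 1, nat_lit 8, nat_lit 3, nat_lit 2, nat_lit 0, nat_lit 1, nat_lit 9, nat_lit 4, nat_lit 3, nat_lit 2, nat_lit 8, nat_lit 3, nat_lit 8, nat_lit 10, nat_lit 9, nat_lit 2, nat_lit 15, nat_lit 16, nat_lit 8, nat_lit 19, nat_lit 16] (Rl.inv (nat_lit 5888)))))) (FT.node (nat_lit 5891) (FT.leaf (Fct.mk true (nat_lit 36) (nat_lit 648) (nat_lit 33) [nat_lit 2, nat_lit 3, nat_lit 4, nat_lit 1, nat_lit 2, nat_lit 3, nat_lit 8, nat_lit 0, nat_lit 1, nat_lit 2, nat_lit 3, nat_lit 4, nat_lit 5, nat_lit 6, nat_lit 7, nat_lit 8, nat_lit 6, nat_lit 5, nat_lit 3, nat_lit 4, nat_lit 2, nat_lit 3, nat_lit 8, nat_lit 0, nat_lit 1, nat_lit 2, nat_lit 3, nat_lit 4, nat_lit 5, nat_lit 2, nat_lit 1, nat_lit 8, nat_lit 3, nat_lit 2, nat_lit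 0, nat_lit 1, nat_lit 4, nat_lit 3, nat_lit 2, nat_lit 8, nat_lit 3, nat_lit 8, nat_lit 10, nat_lit 9, nat_lit 2, nat_lit 15, nat_lit 16, nat_lit 8, nat_lit 19, nat_lit 16] (Rl.t1 (nat_lit 5889) (nat_lit 5886)))) (FT.node (nat_lit 5892) (FT.leaf (Fct.mk false (nat_lit 36) (nat_lit 0) (nat_lit 36) [nat_lit 1, nat_lit 2, nat_lit 3, nat_lit 4, nat_lit 5, nat_lit 1, nat_lit 2, nat_lit 3, nat_lit 0, nat_lit 15] (Rl.cmp (nat_lit 5804) (nat_lit 5804)))) (FT.leaf (Fct.mk false (nat_lit 36) (nat_lit 0) (nat_lit 36) [nat_lit 3, nat_lit 4, nat_lit 5, nat_lit 1, nat_lit 2, nat_lit 3, nat_lit 1, nat_lit 12, nat_lit 15, nat_lit 14] (Rl.cmp (nat_lit 5804) (nat_lit 5891))))))) (FT.node (nat_lit 5896) (FT.node (nat_lit 5894) (FT.leaf (Fct.mk false (nat_lit 36) (nat_lit 0) (nat_lit 36) [nat_lit 4, nat_lit 5, nat_lit 3, nat_lit 0, nat_lit 2, nat_lit 12, nat_lit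 15, nat_lit 12] (Rl.cmp (nat_lit 5806) (nat_lit 5892)))) (FT.node (nat_lit 5895) (FT.leaf (Fct.mk false (nat_lit 36) (nat_lit 0) (nat_lit 36) [nat_lit 0, nat_lit 1, nat_lit 2, nat_lit 3, nat_lit 10, nat_lit 0, nat_lit 14, nat_lit 12] (Rl.cmp (nat_lit 5804) (nat_lit 5893)))) (FT.leaf (Fct.mk true (nat_lit 33) (nat_lit 62698) (nat_lit 36) [nat_lit 8, nat_lit 6, nat_lit 4, nat_lit 5, nat_lit 3, nat_lit 4, nat_lit 2, nat_lit 3, nat_lit 8, nat_lit 0, nat_lit 1, nat_lit 2, nat_lit 3, nat_lit 4, nat_lit 5, nat_lit 6, nat_lit 7, nat_lit 6, nat_lit 5, nat_lit 3, nat_lit 4, nat_lit 1, nat_lit 2, nat_lit 3, nat_lit 8, nat_lit 0, nat_lit 1, nat_lit 2, nat_lit 3, nat_lit 4, nat_lit 5, nat_lit 9, nat_lit 4, nat_lit 0, nat_lit 2, nat_lit 15, nat_lit 14, nat_lit 8, nat_lit 18] (Rl.rel (nat_lit 0) [nat_lit 8, nat_lit 4, nat_lit 5, nat_lit 2, nat_lit 3, nat_lit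 4, nat_lit 1, nat_lit 2, nat_lit 3, nat_lit 8, nat_lit 0, nat_lit 1, nat_lit 2, nat_lit 3, nat_lit 4, nat_lit 5, nat_lit 6, nat_lit 7, nat_lit 4, nat_lit 3, nat_lit 8, nat_lit 2, nat_lit 3, nat_lit 4, nat_lit 1, nat_lit 2, nat_lit 3, nat_lit 8, nat_lit 0, nat_lit 1, nat_lit 2, nat_lit 3, nat_lit 4, nat_lit 5, nat_lit 3, nat_lit 2, nat_lit 1, nat_lit 8, nat_lit 3, nat_lit 2, nat_lit 0, nat_lit 1, nat_lit 4, nat_lit 3, nat_lit 2, nat_lit 8, nat_lit 3, nat_lit 10, nat_lit 12, nat_lit 18] (nat_lit 36) (nat_lit 2) [nat_lit 5858, nat_lit 5688, nat_lit 4721] []))))) (FT.node (nat_lit 5898) (FT.node (nat_lit 5897) (FT.leaf (Fct.mk true (nat_lit 33) (nat_lit 8) (nat_lit 36) [nat_lit 8, nat_lit 4, nat_lit 5, nat_lit 3, nat_lit 4, nat_lit 2, nat_lit 3, nat_lit 8, nat_lit 6, nat_lit 7, nat_lit 5, nat_lit 6, nat_lit 4, nat_lit 5, nat_lit 3, nat_lit 4, nat_lit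 2, nat_lit 3, nat_lit 8, nat_lit 1, nat_lit 2, nat_lit 3, nat_lit 4, nat_lit 5, nat_lit 6, nat_lit 7, nat_lit 6, nat_lit 9, nat_lit 4, nat_lit 3, nat_lit 2, nat_lit 8, nat_lit 3, nat_lit 11, nat_lit 2, nat_lit 8, nat_lit 19, nat_lit 16] (Rl.t1 (nat_lit 5895) (nat_lit 5702)))) (FT.leaf (Fct.mk true (nat_lit 36) (nat_lit 2997) (nat_lit 33) [nat_lit 7, nat_lit 6, nat_lit 5, nat_lit 4, nat_lit 3, nat_lit 8, nat_lit 2, nat_lit 3, nat_lit 4, nat_lit 5, nat_lit 6, nat_lit 7, nat_lit 6, nat_lit 5, nat_lit 3, nat_lit 4, nat_lit 2, nat_lit 3, nat_lit 8, nat_lit 0, nat_lit 1, nat_lit 2, nat_lit 3, nat_lit 4, nat_lit 5, nat_lit 9, nat_lit 4, nat_lit 9, nat_lit 2, nat_lit 16, nat_lit 8, nat_lit 12, nat_lit 15, nat_lit 16, nat_lit 8] (Rl.inv (nat_lit 5896))))) (FT.node (nat_lit 5899) (FT.leaf (Fct.mk true (nat_lit 36) (nat_lit 1314) (nat_lit 33) [nat_lit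 7, nat_lit 6, nat_lit 5, nat_lit 2, nat_lit 3, nat_lit 4, nat_lit 1, nat_lit 2, nat_lit 3, nat_lit 8, nat_lit 0, nat_lit 1, nat_lit 2, nat_lit 3, nat_lit 4, nat_lit 5, nat_lit 6, nat_lit 7, nat_lit 6, nat_lit 5, nat_lit 3, nat_lit 4, nat_lit 2, nat_lit 3, nat_lit 8, nat_lit 1, nat_lit 2, nat_lit 3, nat_lit 4, nat_lit 5, nat_lit 9, nat_lit 4, nat_lit 2, nat_lit 16, nat_lit 8, nat_lit 12, nat_lit 15, nat_lit 16, nat_lit 8] (Rl.t1 (nat_lit 5897) (nat_lit 5894)))) (FT.leaf (Fct.mk false (nat_lit 36) (nat_lit 0) (nat_lit 36) [nat_lit 4, nat_lit 3, nat_lit 8, nat_lit 2, nat_lit 3, nat_lit 4, nat_lit 5, nat_lit 3, nat_lit 2, nat_lit 8, nat_lit 3, nat_lit 11, nat_lit 2, nat_lit 16, nat_lit 15, nat_lit 14, nat_lit 17, nat_lit 12, nat_lit 18] (Rl.cmp (nat_lit 5814) (nat_lit 5810)))))))))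

/-- some facts -/
noncomputable def ftc118 : FT := FT.node (nat_lit 5925) (FT.node (nat_lit 5912) (FT.node (nat_lit 5906) (FT.node (nat_lit 5903) (FT.node (nat_lit 5901) (FT.leaf (Fct.mk false (nat_lit 36) (nat_lit 0) (nat_lit 36) [nat_lit 8, nat_lit 5, nat_lit 6, nat_lit 4, nat_lit 5, nat_lit 3, nat_lit 4, nat_lit 1, nat_lit 2, nat_lit 3, nat_lit 8, nat_lit 0, nat_lit 1, nat_lit 2, nat_lit 3, nat_lit 4, nat_lit 5, nat_lit 8, nat_lit 4, nat_lit 3, nat_lit 2, nat_lit 0, nat_lit 1, nat_lit 9, nat_lit 4, nat_lit 3, nat_lit 2, nat_lit 8, nat_lit 3, nat_lit 10, nat_lit 16, nat_lit 8, nat_lit 12, nat_lit 15, nat_lit 17, nat_lit 12, nat_lit 18] (Rl.cmp (nat_lit 5814) (nat_lit 5899)))) (FT.node (nat_lit 5902) (FT.leaf (Fct.mk false (nat_lit 36) (nat_lit 0) (nat_lit 36) [nat_lit 2, nat_lit 3, nat_lit 4, nat_lit 1, nat_lit 2, nat_lit 3, nat_lit 8, nat_lit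 5, nat_lit 6, nat_lit 4, nat_lit 5, nat_lit 3, nat_lit 4, nat_lit 2, nat_lit 3, nat_lit 8, nat_lit 1, nat_lit 2, nat_lit 3, nat_lit 4, nat_lit 5, nat_lit 4, nat_lit 3, nat_lit 2, nat_lit 0, nat_lit 1, nat_lit 9, nat_lit 4, nat_lit 3, nat_lit 2, nat_lit 8, nat_lit 3, nat_lit 11, nat_lit 2, nat_lit 8, nat_lit 10, nat_lit 1, nat_lit 12, nat_lit 15, nat_lit 14, nat_lit 19, nat_lit 16] (Rl.cmp (nat_lit 5806) (nat_lit 5900)))) (FT.leaf (Fct.mk false (nat_lit 36) (nat_lit 0) (nat_lit 36) [nat_lit 3, nat_lit 8, nat_lit 5, nat_lit 6, nat_lit 4, nat_lit 5, nat_lit 3, nat_lit 4, nat_lit 2, nat_lit 3, nat_lit 8, nat_lit 0, nat_lit 1, nat_lit 2, nat_lit 3, nat_lit 4, nat_lit 5, nat_lit 4, nat_lit 3, nat_lit 2, nat_lit 0, nat_lit 1, nat_lit 9, nat_lit 4, nat_lit 3, nat_lit 2, nat_lit 8, nat_lit 3, nat_lit 9, nat_lit 14, nat_lit 16, nat_lit 8, nat_lit 18]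 (Rl.cmp (nat_lit 5804) (nat_lit 5901)))))) (FT.node (nat_lit 5904) (FT.leaf (Fct.mk false (nat_lit 36) (nat_lit 0) (nat_lit 36) [nat_lit 4, nat_lit 3, nat_lit 8, nat_lit 5, nat_lit 6, nat_lit 4, nat_lit 5, nat_lit 3, nat_lit 4, nat_lit 2, nat_lit 3, nat_lit 8, nat_lit 1, nat_lit 2, nat_lit 3, nat_lit 4, nat_lit 5, nat_lit 3, nat_lit 8, nat_lit 4, nat_lit 3, nat_lit 2, nat_lit 0, nat_lit 1, nat_lit 9, nat_lit 4, nat_lit 3, nat_lit 2, nat_lit 8, nat_lit 3, nat_lit 11, nat_lit 9, nat_lit 10, nat_lit 2, nat_lit 8, nat_lit 10, nat_lit 1, nat_lit 16, nat_lit 15, nat_lit 14, nat_lit 19, nat_lit 16] (Rl.cmp (nat_lit 5806) (nat_lit 5902)))) (FT.node (nat_lit 5905) (FT.leaf (Fct.mk false (nat_lit 36) (nat_lit 0) (nat_lit 36) [nat_lit 8, nat_lit 5, nat_lit 6, nat_lit 4, nat_lit 5, nat_lit 3, nat_lit 4, nat_lit 1, nat_lit 2, nat_lit 3, nat_lit 8, nat_lit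 0, nat_lit 1, nat_lit 2, nat_lit 3, nat_lit 4, nat_lit 5, nat_lit 4, nat_lit 3, nat_lit 2, nat_lit 0, nat_lit 1, nat_lit 9, nat_lit 4, nat_lit 3, nat_lit 2, nat_lit 8, nat_lit 3, nat_lit 16, nat_lit 8, nat_lit 12, nat_lit 15, nat_lit 17, nat_lit 12, nat_lit 18] (Rl.cmp (nat_lit 5806) (nat_lit 5903)))) (FT.leaf (Fct.mk true (nat_lit 33) (nat_lit 2000) (nat_lit 36) [nat_lit 5, nat_lit 4, nat_lit 2, nat_lit 3, nat_lit 8, nat_lit 1, nat_lit 2, nat_lit 3, nat_lit 4, nat_lit 5, nat_lit 6, nat_lit 7, nat_lit 8, nat_lit 4, nat_lit 5, nat_lit 2, nat_lit 3, nat_lit 4, nat_lit 1, nat_lit 2, nat_lit 3, nat_lit 8, nat_lit 0, nat_lit 1, nat_lit 2, nat_lit 3, nat_lit 4, nat_lit 5, nat_lit 8, nat_lit 3, nat_lit 2, nat_lit 1, nat_lit 9, nat_lit 4, nat_lit 3, nat_lit 2, nat_lit 8, nat_lit 3, nat_lit 11, nat_lit 2, nat_lit 13, nat_lit 18] (Rl.rel (nat_lit 0)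 [nat_lit 8, nat_lit 4, nat_lit 5, nat_lit 2, nat_lit 3, nat_lit 4, nat_lit 1, nat_lit 2, nat_lit 3, nat_lit 8, nat_lit 0, nat_lit 1, nat_lit 2, nat_lit 3, nat_lit 4, nat_lit 5, nat_lit 6, nat_lit 7, nat_lit 3, nat_lit 8, nat_lit 2, nat_lit 3, nat_lit 4, nat_lit 1, nat_lit 2, nat_lit 3, nat_lit 8, nat_lit 0, nat_lit 1, nat_lit 2, nat_lit 3, nat_lit 4, nat_lit 5, nat_lit 3, nat_lit 2, nat_lit 1, nat_lit 8, nat_lit 3, nat_lit 2, nat_lit 0, nat_lit 1, nat_lit 4, nat_lit 3, nat_lit 2, nat_lit 8, nat_lit 3, nat_lit 0, nat_lit 12, nat_lit 18] (nat_lit 36) (nat_lit 2) [nat_lit 5858, nat_lit 5677, nat_lit 4981] [])))))) (FT.node (nat_lit 5909) (FT.node (nat_lit 5907) (FT.leaf (Fct.mk true (nat_lit 33) (nat_lit 22) (nat_lit 36) [nat_lit 4, nat_lit 3, nat_lit 8, nat_lit 2, nat_lit 3, nat_lit 4, nat_lit 1, nat_lit 2, nat_lit 3, nat_lit 8, nat_lit 5, nat_lit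 6, nat_lit 4, nat_lit 5, nat_lit 3, nat_lit 4, nat_lit 2, nat_lit 3, nat_lit 8, nat_lit 1, nat_lit 2, nat_lit 3, nat_lit 4, nat_lit 5, nat_lit 6, nat_lit 7, nat_lit 5, nat_lit 4, nat_lit 2, nat_lit 3, nat_lit 8, nat_lit 0, nat_lit 1, nat_lit 2, nat_lit 3, nat_lit 4, nat_lit 5, nat_lit 8, nat_lit 3, nat_lit 12, nat_lit 15, nat_lit 16, nat_lit 8] (Rl.t1 (nat_lit 5905) (nat_lit 4940)))) (FT.node (nat_lit 5908) (FT.leaf (Fct.mk true (nat_lit 36) (nat_lit 14479) (nat_lit 33) [nat_lit 8, nat_lit 3, nat_lit 4, nat_lit 5, nat_lit 6, nat_lit 7, nat_lit 8, nat_lit 6, nat_lit 5, nat_lit 3, nat_lit 4, nat_lit 2, nat_lit 3, nat_lit 8, nat_lit 1, nat_lit 2, nat_lit 3, nat_lit 4, nat_lit 5, nat_lit 8, nat_lit 3, nat_lit 2, nat_lit 1, nat_lit 4, nat_lit 3, nat_lit 2, nat_lit 8, nat_lit 3, nat_lit 1, nat_lit 0, nat_lit 2, nat_lit 16, nat_lit 14, nat_lit 17,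 nat_lit 12, nat_lit 18] (Rl.inv (nat_lit 5906)))) (FT.leaf (Fct.mk true (nat_lit 36) (nat_lit 1913) (nat_lit 33) [nat_lit 4, nat_lit 3, nat_lit 8, nat_lit 0, nat_lit 1, nat_lit 2, nat_lit 3, nat_lit 4, nat_lit 5, nat_lit 6, nat_lit 7, nat_lit 3, nat_lit 8, nat_lit 6, nat_lit 4, nat_lit 5, nat_lit 3, nat_lit 4, nat_lit 1, nat_lit 2, nat_lit 3, nat_lit 8, nat_lit 0, nat_lit 1, nat_lit 2, nat_lit 3, nat_lit 4, nat_lit 5, nat_lit 3, nat_lit 8, nat_lit 4, nat_lit 3, nat_lit 2, nat_lit 0, nat_lit 1, nat_lit 9, nat_lit 4, nat_lit 3, nat_lit 2, nat_lit 8, nat_lit 3, nat_lit 9, nat_lit 10, nat_lit 2, nat_lit 8, nat_lit 10, nat_lit 1, nat_lit 14, nat_lit 12, nat_lit 19] (Rl.t1 (nat_lit 5907) (nat_lit 5904)))))) (FT.node (nat_lit 5910) (FT.leaf (Fct.mk false (nat_lit 36) (nat_lit 0) (nat_lit 36) [nat_lit 6, nat_lit 5, nat_lit 4, nat_lit 1, nat_lit 2,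 nat_lit 3, nat_lit 8, nat_lit 0, nat_lit 1, nat_lit 2, nat_lit 3, nat_lit 4, nat_lit 5, nat_lit 4, nat_lit 3, nat_lit 2, nat_lit 1, nat_lit 8, nat_lit 3, nat_lit 2, nat_lit 0, nat_lit 1, nat_lit 4, nat_lit 3, nat_lit 2, nat_lit 8, nat_lit 3, nat_lit 10, nat_lit 16, nat_lit 8, nat_lit 12, nat_lit 15, nat_lit 13] (Rl.cmp (nat_lit 5814) (nat_lit 5804)))) (FT.node (nat_lit 5911) (FT.leaf (Fct.mk false (nat_lit 36) (nat_lit 0) (nat_lit 36) [nat_lit 8, nat_lit 3, nat_lit 4, nat_lit 5, nat_lit 3, nat_lit 2, nat_lit 1, nat_lit 8, nat_lit 3, nat_lit 2, nat_lit 0, nat_lit 1, nat_lit 4, nat_lit 3, nat_lit 2, nat_lit 8, nat_lit 3, nat_lit 8, nat_lit 10, nat_lit 0, nat_lit 16, nat_lit 8, nat_lit 12, nat_lit 15, nat_lit 13] (Rl.cmp (nat_lit 5810) (nat_lit 5909)))) (FT.leaf (Fct.mk false (nat_lit 36) (nat_lit 0) (nat_lit 36) [nat_lit 4, nat_lit 2, nat_lit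 3, nat_lit 8, nat_lit 0, nat_lit 1, nat_lit 2, nat_lit 3, nat_lit 4, nat_lit 5, nat_lit 2, nat_lit 1, nat_lit 3, nat_lit 2, nat_lit 0, nat_lit 1, nat_lit 4, nat_lit 3, nat_lit 2, nat_lit 8, nat_lit 3, nat_lit 16, nat_lit 8, nat_lit 12, nat_lit 15, nat_lit 13, nat_lit 12] (Rl.cmp (nat_lit 5806) (nat_lit 5910)))))))) (FT.node (nat_lit 5918) (FT.node (nat_lit 5915) (FT.node (nat_lit 5913) (FT.leaf (Fct.mk false (nat_lit 36) (nat_lit 0) (nat_lit 36) [nat_lit 2, nat_lit 3, nat_lit 8, nat_lit 1, nat_lit 2, nat_lit 3, nat_lit 4, nat_lit 5, nat_lit 3, nat_lit 2, nat_lit 1, nat_lit 8, nat_lit 3, nat_lit 2, nat_lit 0, nat_lit 1, nat_lit 4, nat_lit 3, nat_lit 2, nat_lit 8, nat_lit 3, nat_lit 8, nat_lit 10, nat_lit 16, nat_lit 8, nat_lit 12, nat_lit 15, nat_lit 13, nat_lit 12] (Rl.cmp (nat_lit 5806) (nat_lit 5911)))) (FT.node (nat_lit 5914) (FT.leaf (Fct.mk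 false (nat_lit 36) (nat_lit 0) (nat_lit 36) [nat_lit 3, nat_lit 4, nat_lit 1, nat_lit 2, nat_lit 3, nat_lit 8, nat_lit 0, nat_lit 1, nat_lit 2, nat_lit 3, nat_lit 4, nat_lit 5, nat_lit 2, nat_lit 1, nat_lit 3, nat_lit 2, nat_lit 0, nat_lit 1, nat_lit 4, nat_lit 3, nat_lit 2, nat_lit 8, nat_lit 3, nat_lit 0, nat_lit 16, nat_lit 8, nat_lit 12, nat_lit 15, nat_lit 13] (Rl.cmp (nat_lit 5806) (nat_lit 5912)))) (FT.leaf (Fct.mk true (nat_lit 33) (nat_lit 10373) (nat_lit 36) [nat_lit 8, nat_lit 7, nat_lit 6, nat_lit 5, nat_lit 3, nat_lit 4, nat_lit 2, nat_lit 3, nat_lit 8, nat_lit 0, nat_lit 1, nat_lit 2, nat_lit 3, nat_lit 4, nat_lit 5, nat_lit 6, nat_lit 7, nat_lit 8, nat_lit 6, nat_lit 4, nat_lit 5, nat_lit 3, nat_lit 4, nat_lit 1, nat_lit 2, nat_lit 3, nat_lit 8, nat_lit 0, nat_lit 1, nat_lit 2, nat_lit 3, nat_lit 4, nat_lit 5, nat_lit 3, nat_lit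 2, nat_lit 0, nat_lit 1, nat_lit 4, nat_lit 3, nat_lit 2, nat_lit 8, nat_lit 3, nat_lit 1, nat_lit 15, nat_lit 17, nat_lit 12] (Rl.rel (nat_lit 0) [nat_lit 8, nat_lit 4, nat_lit 5, nat_lit 2, nat_lit 3, nat_lit 4, nat_lit 1, nat_lit 2, nat_lit 3, nat_lit 8, nat_lit 0, nat_lit 1, nat_lit 2, nat_lit 3, nat_lit 4, nat_lit 5, nat_lit 6, nat_lit 7, nat_lit 3, nat_lit 8, nat_lit 2, nat_lit 3, nat_lit 4, nat_lit 1, nat_lit 2, nat_lit 3, nat_lit 8, nat_lit 0, nat_lit 1, nat_lit 2, nat_lit 3, nat_lit 4, nat_lit 5, nat_lit 3, nat_lit 2, nat_lit 1, nat_lit 8, nat_lit 3, nat_lit 2, nat_lit 0, nat_lit 1, nat_lit 4, nat_lit 3, nat_lit 2, nat_lit 8, nat_lit 3, nat_lit 8, nat_lit 10, nat_lit 0, nat_lit 12] (nat_lit 36) (nat_lit 2) [nat_lit 5858, nat_lit 4743] []))))) (FT.node (nat_lit 5916) (FT.leaf (Fct.mk true (nat_lit 33) (nat_lit 86) (nat_lit 36) [nat_lit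 7, nat_lit 6, nat_lit 5, nat_lit 4, nat_lit 2, nat_lit 3, nat_lit 8, nat_lit 1, nat_lit 2, nat_lit 3, nat_lit 4, nat_lit 5, nat_lit 6, nat_lit 7, nat_lit 2, nat_lit 3, nat_lit 4, nat_lit 1, nat_lit 2, nat_lit 3, nat_lit 8, nat_lit 5, nat_lit 6, nat_lit 4, nat_lit 5, nat_lit 3, nat_lit 4, nat_lit 2, nat_lit 3, nat_lit 8, nat_lit 1, nat_lit 2, nat_lit 3, nat_lit 4, nat_lit 5, nat_lit 1, nat_lit 2, nat_lit 0, nat_lit 1, nat_lit 9, nat_lit 4, nat_lit 3, nat_lit 2, nat_lit 8, nat_lit 3, nat_lit 11, nat_lit 8, nat_lit 10, nat_lit 1, nat_lit 12, nat_lit 8, nat_lit 16, nat_lit 14, nat_lit 16, nat_lit 8, nat_lit 16] (Rl.t1 (nat_lit 5914) (nat_lit 5695)))) (FT.node (nat_lit 5917) (FT.leaf (Fct.mk true (nat_lit 36) (nat_lit 14549) (nat_lit 33) [nat_lit 7, nat_lit 6, nat_lit 5, nat_lit 4, nat_lit 3, nat_lit 8, nat_lit 2, nat_lit 3, nat_lit 4, nat_lit 5,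 nat_lit 6, nat_lit 7, nat_lit 8, nat_lit 5, nat_lit 2, nat_lit 3, nat_lit 4, nat_lit 1, nat_lit 2, nat_lit 3, nat_lit 8, nat_lit 0, nat_lit 1, nat_lit 2, nat_lit 3, nat_lit 4, nat_lit 5, nat_lit 1, nat_lit 9, nat_lit 4, nat_lit 3, nat_lit 2, nat_lit 8, nat_lit 3, nat_lit 11, nat_lit 10, nat_lit 1, nat_lit 16, nat_lit 12, nat_lit 15, nat_lit 14, nat_lit 8] (Rl.inv (nat_lit 5915)))) (FT.leaf (Fct.mk true (nat_lit 36) (nat_lit 1418) (nat_lit 33) [nat_lit 7, nat_lit 6, nat_lit 5, nat_lit 3, nat_lit 4, nat_lit 2, nat_lit 3, nat_lit 8, nat_lit 1, nat_lit 2, nat_lit 3, nat_lit 4, nat_lit 5, nat_lit 6, nat_lit 7, nat_lit 8, nat_lit 3, nat_lit 4, nat_lit 1, nat_lit 2, nat_lit 3, nat_lit 8, nat_lit 0, nat_lit 1, nat_lit 2, nat_lit 3, nat_lit 4, nat_lit 5, nat_lit 4, nat_lit 3, nat_lit 2, nat_lit 8, nat_lit 3, nat_lit 9, nat_lit 2, nat_lit 14, nat_lit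 13] (Rl.t1 (nat_lit 5916) (nat_lit 5913))))))) (FT.node (nat_lit 5921) (FT.node (nat_lit 5919) (FT.leaf (Fct.mk false (nat_lit 36) (nat_lit 0) (nat_lit 36) [nat_lit 3, nat_lit 8, nat_lit 2, nat_lit 3, nat_lit 4, nat_lit 5, nat_lit 3, nat_lit 2, nat_lit 1, nat_lit 8, nat_lit 3, nat_lit 2, nat_lit 0, nat_lit 1, nat_lit 9, nat_lit 4, nat_lit 3, nat_lit 2, nat_lit 8, nat_lit 3, nat_lit 9, nat_lit 2, nat_lit 8, nat_lit 12, nat_lit 15, nat_lit 8] (Rl.cmp (nat_lit 5814) (nat_lit 5806)))) (FT.node (nat_lit 5920) (FT.leaf (Fct.mk false (nat_lit 36) (nat_lit 0) (nat_lit 36) [nat_lit 3, nat_lit 8, nat_lit 6, nat_lit 4, nat_lit 5, nat_lit 3, nat_lit 4, nat_lit 2, nat_lit 3, nat_lit 8, nat_lit 1, nat_lit 2, nat_lit 3, nat_lit 4, nat_lit 5, nat_lit 1, nat_lit 4, nat_lit 3, nat_lit 2, nat_lit 0, nat_lit 1, nat_lit 9, nat_lit 4, nat_lit 3, nat_lit 2, nat_lit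 8, nat_lit 3, nat_lit 1, nat_lit 0, nat_lit 2, nat_lit 8, nat_lit 12, nat_lit 15, nat_lit 14, nat_lit 16, nat_lit 8] (Rl.cmp (nat_lit 5814) (nat_lit 5918)))) (FT.leaf (Fct.mk false (nat_lit 36) (nat_lit 0) (nat_lit 36) [nat_lit 2, nat_lit 3, nat_lit 8, nat_lit 0, nat_lit 1, nat_lit 2, nat_lit 3, nat_lit 4, nat_lit 5, nat_lit 0, nat_lit 1, nat_lit 2, nat_lit 8, nat_lit 3, nat_lit 9, nat_lit 10, nat_lit 2, nat_lit 8, nat_lit 10, nat_lit 1, nat_lit 15, nat_lit 14, nat_lit 17, nat_lit 18] (Rl.cmp (nat_lit 5814) (nat_lit 5919)))))) (FT.node (nat_lit 5923) (FT.node (nat_lit 5922) (FT.leaf (Fct.mk false (nat_lit 36) (nat_lit 0) (nat_lit 36) [nat_lit 5, nat_lit 4, nat_lit 2, nat_lit 3, nat_lit 8, nat_lit 1, nat_lit 2, nat_lit 3, nat_lit 4, nat_lit 5, nat_lit 1, nat_lit 2, nat_lit 3, nat_lit 8, nat_lit 10, nat_lit 1, nat_lit 15, nat_lit 14, nat_lit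 17, nat_lit 18] (Rl.cmp (nat_lit 5810) (nat_lit 5920)))) (FT.leaf (Fct.mk true (nat_lit 32) (nat_lit 30419) (nat_lit 36) [nat_lit 4, nat_lit 2, nat_lit 3, nat_lit 8, nat_lit 5, nat_lit 6, nat_lit 4, nat_lit 5, nat_lit 3, nat_lit 4, nat_lit 2, nat_lit 3, nat_lit 8, nat_lit 0, nat_lit 1, nat_lit 2, nat_lit 3, nat_lit 4, nat_lit 5, nat_lit 6, nat_lit 7, nat_lit 1, nat_lit 2, nat_lit 3, nat_lit 8, nat_lit 4, nat_lit 5, nat_lit 3, nat_lit 4, nat_lit 2, nat_lit 3, nat_lit 8, nat_lit 1, nat_lit 2, nat_lit 3, nat_lit 4, nat_lit 5, nat_lit 1, nat_lit 3, nat_lit 2, nat_lit 8, nat_lit 3, nat_lit 11, nat_lit 12, nat_lit 15, nat_lit 14, nat_lit 13, nat_lit 18, nat_lit 16] (Rl.rel (nat_lit 0) [nat_lit 8, nat_lit 4, nat_lit 5, nat_lit 2, nat_lit 3, nat_lit 4, nat_lit 1, nat_lit 2, nat_lit 3, nat_lit 8, nat_lit 0, nat_lit 1, nat_lit 2, nat_lit 3, nat_lit 4,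 nat_lit 5, nat_lit 6, nat_lit 7, nat_lit 3, nat_lit 8, nat_lit 2, nat_lit 3, nat_lit 4, nat_lit 1, nat_lit 2, nat_lit 3, nat_lit 8, nat_lit 0, nat_lit 1, nat_lit 2, nat_lit 3, nat_lit 4, nat_lit 5, nat_lit 3, nat_lit 2, nat_lit 1, nat_lit 8, nat_lit 3, nat_lit 2, nat_lit 0, nat_lit 1, nat_lit 4, nat_lit 3, nat_lit 2, nat_lit 8, nat_lit 3, nat_lit 8, nat_lit 10, nat_lit 12] (nat_lit 36) (nat_lit 2) [nat_lit 5858, nat_lit 5660, nat_lit 4889] [])))) (FT.node (nat_lit 5924) (FT.leaf (Fct.mk true (nat_lit 32) (nat_lit 147) (nat_lit 36) [nat_lit 6, nat_lit 4, nat_lit 5, nat_lit 3, nat_lit 4, nat_lit 2, nat_lit 3, nat_lit 8, nat_lit 1, nat_lit 2, nat_lit 3, nat_lit 4, nat_lit 5, nat_lit 6, nat_lit 7, nat_lit 8, nat_lit 5, nat_lit 2, nat_lit 3, nat_lit 4, nat_lit 1, nat_lit 2, nat_lit 3, nat_lit 8, nat_lit 0, nat_lit 1, nat_lit 2, nat_lit 3, nat_lit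 4, nat_lit 5, nat_lit 3, nat_lit 2, nat_lit 1, nat_lit 8, nat_lit 3, nat_lit 2, nat_lit 0, nat_lit 1, nat_lit 4, nat_lit 3, nat_lit 2, nat_lit 8, nat_lit 3, nat_lit 11, nat_lit 10, nat_lit 17] (Rl.t1 (nat_lit 5922) (nat_lit 5690)))) (FT.leaf (Fct.mk true (nat_lit 36) (nat_lit 19262) (nat_lit 32) [nat_lit 6, nat_lit 5, nat_lit 4, nat_lit 3, nat_lit 8, nat_lit 2, nat_lit 3, nat_lit 4, nat_lit 5, nat_lit 6, nat_lit 7, nat_lit 4, nat_lit 5, nat_lit 3, nat_lit 4, nat_lit 1, nat_lit 2, nat_lit 3, nat_lit 8, nat_lit 0, nat_lit 1, nat_lit 2, nat_lit 3, nat_lit 4, nat_lit 5, nat_lit 3, nat_lit 2, nat_lit 1, nat_lit 8, nat_lit 3, nat_lit 2, nat_lit 0, nat_lit 1, nat_lit 4, nat_lit 3, nat_lit 2, nat_lit 8, nat_lit 3, nat_lit 1, nat_lit 16, nat_lit 14, nat_lit 12, nat_lit 18, nat_lit 16] (Rl.inv (nat_lit 5923))))))))) (FT.node (nat_lit 5937) (FT.node (nat_lit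 5931) (FT.node (nat_lit 5928) (FT.node (nat_lit 5926) (FT.leaf (Fct.mk true (nat_lit 36) (nat_lit 1582) (nat_lit 32) [nat_lit 8, nat_lit 4, nat_lit 5, nat_lit 3, nat_lit 4, nat_lit 2, nat_lit 3, nat_lit 8, nat_lit 1, nat_lit 2, nat_lit 3, nat_lit 4, nat_lit 5, nat_lit 6, nat_lit 7, nat_lit 2, nat_lit 3, nat_lit 4, nat_lit 1, nat_lit 2, nat_lit 3, nat_lit 8, nat_lit 0, nat_lit 1, nat_lit 2, nat_lit 3, nat_lit 4, nat_lit 5, nat_lit 2, nat_lit 8, nat_lit 3, nat_lit 1, nat_lit 0, nat_lit 2, nat_lit 16, nat_lit 14, nat_lit 17, nat_lit 18, nat_lit 16] (Rl.t1 (nat_lit 5924) (nat_lit 5921)))) (FT.node (nat_lit 5927) (FT.leaf (Fct.mk false (nat_lit 36) (nat_lit 0) (nat_lit 36) [nat_lit 2, nat_lit 3, nat_lit 4, nat_lit 5, nat_lit 1, nat_lit 2, nat_lit 3, nat_lit 10, nat_lit 0, nat_lit 15] (Rl.cmp (nat_lit 5804) (nat_lit 5806)))) (FT.leaf (Fct.mk false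 (nat_lit 36) (nat_lit 0) (nat_lit 36) [nat_lit 1, nat_lit 2, nat_lit 3, nat_lit 4, nat_lit 5, nat_lit 2, nat_lit 3, nat_lit 12, nat_lit 15, nat_lit 14] (Rl.cmp (nat_lit 5804) (nat_lit 5926)))))) (FT.node (nat_lit 5929) (FT.leaf (Fct.mk false (nat_lit 36) (nat_lit 0) (nat_lit 36) [nat_lit 3, nat_lit 4, nat_lit 5, nat_lit 3, nat_lit 1, nat_lit 0, nat_lit 2, nat_lit 12, nat_lit 15, nat_lit 12] (Rl.cmp (nat_lit 5806) (nat_lit 5927)))) (FT.node (nat_lit 5930) (FT.leaf (Fct.mk false (nat_lit 36) (nat_lit 0) (nat_lit 36) [nat_lit 4, nat_lit 5, nat_lit 2, nat_lit 3, nat_lit 1, nat_lit 12, nat_lit 15, nat_lit 14] (Rl.cmp (nat_lit 5806) (nat_lit 5928)))) (FT.leaf (Fct.mk false (nat_lit 36) (nat_lit 0) (nat_lit 36) [nat_lit 1, nat_lit 2, nat_lit 3, nat_lit 0, nat_lit 14, nat_lit 12] (Rl.cmp (nat_lit 5804) (nat_lit 5929))))))) (FT.node (nat_lit 5934) (FT.node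 (nat_lit 5932) (FT.leaf (Fct.mk true (nat_lit 32) (nat_lit 369) (nat_lit 36) [nat_lit 8, nat_lit 5, nat_lit 3, nat_lit 4, nat_lit 2, nat_lit 3, nat_lit 8, nat_lit 0, nat_lit 1, nat_lit 2, nat_lit 3, nat_lit 4, nat_lit 5, nat_lit 6, nat_lit 7, nat_lit 6, nat_lit 5, nat_lit 4, nat_lit 2, nat_lit 3, nat_lit 8, nat_lit 1, nat_lit 2, nat_lit 3, nat_lit 4, nat_lit 5, nat_lit 1, nat_lit 4, nat_lit 3, nat_lit 2, nat_lit 8, nat_lit 3, nat_lit 2, nat_lit 13, nat_lit 19] (Rl.rel (nat_lit 0) [nat_lit 5, nat_lit 4, nat_lit 1, nat_lit 2, nat_lit 3, nat_lit 8, nat_lit 0, nat_lit 1, nat_lit 2, nat_lit 3, nat_lit 4, nat_lit 5, nat_lit 6, nat_lit 7, nat_lit 4, nat_lit 3, nat_lit 8, nat_lit 2, nat_lit 3, nat_lit 4, nat_lit 1, nat_lit 2, nat_lit 3, nat_lit 8, nat_lit 0, nat_lit 1, nat_lit 2, nat_lit 3, nat_lit 4, nat_lit 5, nat_lit 3, nat_lit 2, nat_lit 1, nat_lit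 8, nat_lit 3, nat_lit 2, nat_lit 0, nat_lit 1, nat_lit 4, nat_lit 3, nat_lit 2, nat_lit 8, nat_lit 3, nat_lit 8, nat_lit 10, nat_lit 0] (nat_lit 36) (nat_lit 2) [nat_lit 5858, nat_lit 5641, nat_lit 5318] []))) (FT.node (nat_lit 5933) (FT.leaf (Fct.mk true (nat_lit 32) (nat_lit 121) (nat_lit 36) [nat_lit 8, nat_lit 6, nat_lit 4, nat_lit 5, nat_lit 3, nat_lit 4, nat_lit 2, nat_lit 3, nat_lit 8, nat_lit 0, nat_lit 1, nat_lit 2, nat_lit 3, nat_lit 4, nat_lit 5, nat_lit 6, nat_lit 7, nat_lit 8, nat_lit 6, nat_lit 4, nat_lit 5, nat_lit 3, nat_lit 4, nat_lit 2, nat_lit 3, nat_lit 8, nat_lit 0, nat_lit 1, nat_lit 2, nat_lit 3, nat_lit 4, nat_lit 5, nat_lit 3, nat_lit 2, nat_lit 1, nat_lit 4, nat_lit 3, nat_lit 2, nat_lit 8, nat_lit 3, nat_lit 2, nat_lit 8, nat_lit 12, nat_lit 15, nat_lit 14, nat_lit 17, nat_lit 12] (Rl.t1 (nat_lit 5931) (nat_lit 4217))))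 (FT.leaf (Fct.mk true (nat_lit 36) (nat_lit 3021) (nat_lit 32) [nat_lit 8, nat_lit 5, nat_lit 3, nat_lit 4, nat_lit 2, nat_lit 3, nat_lit 8, nat_lit 1, nat_lit 2, nat_lit 3, nat_lit 4, nat_lit 5, nat_lit 6, nat_lit 7, nat_lit 2, nat_lit 3, nat_lit 4, nat_lit 1, nat_lit 2, nat_lit 3, nat_lit 8, nat_lit 0, nat_lit 1, nat_lit 2, nat_lit 3, nat_lit 4, nat_lit 5, nat_lit 1, nat_lit 8, nat_lit 3, nat_lit 2, nat_lit 0, nat_lit 1, nat_lit 4, nat_lit 3, nat_lit 2, nat_lit 8, nat_lit 3, nat_lit 1, nat_lit 9, nat_lit 16, nat_lit 12, nat_lit 15, nat_lit 14, nat_lit 8, nat_lit 19] (Rl.inv (nat_lit 5932)))))) (FT.node (nat_lit 5935) (FT.leaf (Fct.mk true (nat_lit 36) (nat_lit 655) (nat_lit 32) [nat_lit 3, nat_lit 8, nat_lit 4, nat_lit 5, nat_lit 3, nat_lit 4, nat_lit 1, nat_lit 2, nat_lit 3, nat_lit 8, nat_lit 0, nat_lit 1, nat_lit 2, nat_lit 3, nat_lit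 4, nat_lit 5, nat_lit 6, nat_lit 7, nat_lit 2, nat_lit 3, nat_lit 4, nat_lit 5, nat_lit 1, nat_lit 4, nat_lit 3, nat_lit 2, nat_lit 8, nat_lit 3, nat_lit 1, nat_lit 9, nat_lit 16, nat_lit 8, nat_lit 12, nat_lit 15, nat_lit 13, nat_lit 12, nat_lit 16] (Rl.t1 (nat_lit 5933) (nat_lit 5930)))) (FT.node (nat_lit 5936) (FT.leaf (Fct.mk false (nat_lit 36) (nat_lit 0) (nat_lit 36) [nat_lit 1, nat_lit 2, nat_lit 3, nat_lit 4, nat_lit 5, nat_lit 1, nat_lit 2, nat_lit 3, nat_lit 0, nat_lit 15] (Rl.cmp (nat_lit 5804) (nat_lit 5804)))) (FT.leaf (Fct.mk false (nat_lit 36) (nat_lit 0) (nat_lit 36) [nat_lit 6, nat_lit 5, nat_lit 4, nat_lit 1, nat_lit 2, nat_lit 3, nat_lit 8, nat_lit 0, nat_lit 1, nat_lit 2, nat_lit 3, nat_lit 4, nat_lit 5, nat_lit 3, nat_lit 2, nat_lit 1, nat_lit 8, nat_lit 3, nat_lit 2, nat_lit 0, nat_lit 1, nat_lit 4, nat_lit 3, nat_lit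 2, nat_lit 8, nat_lit 3, nat_lit 11, nat_lit 8, nat_lit 10, nat_lit 12, nat_lit 19, nat_lit 16] (Rl.cmp (nat_lit 5814) (nat_lit 5862)))))))) (FT.node (nat_lit 5943) (FT.node (nat_lit 5940) (FT.node (nat_lit 5938) (FT.leaf (Fct.mk false (nat_lit 36) (nat_lit 0) (nat_lit 36) [nat_lit 6, nat_lit 9, nat_lit 4, nat_lit 10, nat_lit 15, nat_lit 14, nat_lit 12, nat_lit 16] (Rl.cmp (nat_lit 5806) (nat_lit 5810)))) (FT.node (nat_lit 5939) (FT.leaf (Fct.mk false (nat_lit 36) (nat_lit 0) (nat_lit 36) [nat_lit 6, nat_lit 2, nat_lit 3, nat_lit 1, nat_lit 16, nat_lit 15, nat_lit 14, nat_lit 16] (Rl.cmp (nat_lit 5804) (nat_lit 5937)))) (FT.leaf (Fct.mk false (nat_lit 36) (nat_lit 0) (nat_lit 36) [nat_lit 6, nat_lit 1, nat_lit 2, nat_lit 3, nat_lit 16, nat_lit 15, nat_lit 14, nat_lit 12] (Rl.cmp (nat_lit 5806) (nat_lit 5938)))))) (FT.node (nat_lit 5941) (FT.leaf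 (Fct.mk false (nat_lit 36) (nat_lit 0) (nat_lit 36) [nat_lit 2, nat_lit 3, nat_lit 4, nat_lit 5, nat_lit 2, nat_lit 3, nat_lit 10, nat_lit 16, nat_lit 14, nat_lit 12] (Rl.cmp (nat_lit 5810) (nat_lit 5939)))) (FT.node (nat_lit 5942) (FT.leaf (Fct.mk false (nat_lit 36) (nat_lit 0) (nat_lit 36) [nat_lit 6, nat_lit 5, nat_lit 4, nat_lit 1, nat_lit 2, nat_lit 3, nat_lit 8, nat_lit 0, nat_lit 1, nat_lit 2, nat_lit 3, nat_lit 4, nat_lit 5, nat_lit 1, nat_lit 9, nat_lit 4, nat_lit 3, nat_lit 2, nat_lit 8, nat_lit 3, nat_lit 10, nat_lit 0, nat_lit 15, nat_lit 14, nat_lit 16, nat_lit 8, nat_lit 18, nat_lit 16] (Rl.cmp (nat_lit 5814) (nat_lit 5940)))) (FT.leaf (Fct.mk false (nat_lit 36) (nat_lit 0) (nat_lit 36) [nat_lit 1, nat_lit 2, nat_lit 3, nat_lit 4, nat_lit 5, nat_lit 9, nat_lit 4, nat_lit 11, nat_lit 10, nat_lit 1, nat_lit 14, nat_lit 13, nat_lit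 16] (Rl.cmp (nat_lit 5810) (nat_lit 5804))))))) (FT.node (nat_lit 5946) (FT.node (nat_lit 5944) (FT.leaf (Fct.mk false (nat_lit 36) (nat_lit 0) (nat_lit 36) [nat_lit 3, nat_lit 4, nat_lit 5, nat_lit 9, nat_lit 4, nat_lit 9, nat_lit 2, nat_lit 16, nat_lit 14, nat_lit 16] (Rl.cmp (nat_lit 5806) (nat_lit 5942)))) (FT.node (nat_lit 5945) (FT.leaf (Fct.mk false (nat_lit 36) (nat_lit 0) (nat_lit 36) [nat_lit 4, nat_lit 5, nat_lit 9, nat_lit 4, nat_lit 11, nat_lit 10, nat_lit 1, nat_lit 14, nat_lit 13] (Rl.cmp (nat_lit 5806) (nat_lit 5943)))) (FT.leaf (Fct.mk false (nat_lit 36) (nat_lit 0) (nat_lit 36) [nat_lit 2, nat_lit 3, nat_lit 4, nat_lit 5, nat_lit 9, nat_lit 4, nat_lit 1, nat_lit 9, nat_lit 16, nat_lit 14] (Rl.cmp (nat_lit 5806) (nat_lit 5944)))))) (FT.node (nat_lit 5948) (FT.node (nat_lit 5947) (FT.leaf (Fct.mk false (nat_lit 36) (nat_lit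 0) (nat_lit 36) [nat_lit 6, nat_lit 5, nat_lit 4, nat_lit 1, nat_lit 2, nat_lit 3, nat_lit 8, nat_lit 0, nat_lit 1, nat_lit 2, nat_lit 3, nat_lit 4, nat_lit 5, nat_lit 3, nat_lit 2, nat_lit 1, nat_lit 8, nat_lit 3, nat_lit 2, nat_lit 0, nat_lit 1, nat_lit 4, nat_lit 3, nat_lit 2, nat_lit 8, nat_lit 3, nat_lit 11, nat_lit 8, nat_lit 10, nat_lit 12, nat_lit 19, nat_lit 16] (Rl.cmp (nat_lit 5814) (nat_lit 5945)))) (FT.leaf (Fct.mk true (nat_lit 36) (nat_lit 813) (nat_lit 36) [nat_lit 4, nat_lit 1, nat_lit 2, nat_lit 3, nat_lit 8, nat_lit 5, nat_lit 6, nat_lit 4, nat_lit 5, nat_lit 3, nat_lit 4, nat_lit 2, nat_lit 3, nat_lit 8, nat_lit 1, nat_lit 2, nat_lit 3, nat_lit 4, nat_lit 5, nat_lit 6, nat_lit 7, nat_lit 8, nat_lit 5, nat_lit 6, nat_lit 4, nat_lit 5, nat_lit 3, nat_lit 4, nat_lit 1, nat_lit 2, nat_lit 3, nat_lit 8, nat_lit 0, nat_lit 1,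 nat_lit 2, nat_lit 3, nat_lit 4, nat_lit 5, nat_lit 4, nat_lit 3, nat_lit 2, nat_lit 0, nat_lit 1, nat_lit 9, nat_lit 4, nat_lit 3, nat_lit 2, nat_lit 8, nat_lit 3, nat_lit 11, nat_lit 10, nat_lit 2, nat_lit 8, nat_lit 10, nat_lit 1, nat_lit 16, nat_lit 8, nat_lit 12, nat_lit 15, nat_lit 13, nat_lit 12, nat_lit 18] (Rl.rel (nat_lit 0) [nat_lit 8, nat_lit 5, nat_lit 6, nat_lit 4, nat_lit 5, nat_lit 3, nat_lit 4, nat_lit 1, nat_lit 2, nat_lit 3, nat_lit 8, nat_lit 0, nat_lit 1, nat_lit 2, nat_lit 3, nat_lit 4, nat_lit 5, nat_lit 6, nat_lit 7, nat_lit 3, nat_lit 8, nat_lit 2, nat_lit 3, nat_lit 4, nat_lit 1, nat_lit 2, nat_lit 3, nat_lit 8, nat_lit 0, nat_lit 1, nat_lit 2, nat_lit 3, nat_lit 4, nat_lit 5, nat_lit 3, nat_lit 2, nat_lit 1, nat_lit 8, nat_lit 3, nat_lit 2, nat_lit 0, nat_lit 1, nat_lit 9, nat_lit 4, nat_lit 3, nat_lit 2, nat_lit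 8, nat_lit 3, nat_lit 10, nat_lit 0, nat_lit 17, nat_lit 12, nat_lit 18] (nat_lit 36) (nat_lit 2) [nat_lit 5858, nat_lit 5491, nat_lit 5888] [])))) (FT.node (nat_lit 5949) (FT.leaf (Fct.mk true (nat_lit 36) (nat_lit 21) (nat_lit 36) [nat_lit 6, nat_lit 5, nat_lit 4, nat_lit 3, nat_lit 8, nat_lit 2, nat_lit 3, nat_lit 4, nat_lit 1, nat_lit 2, nat_lit 3, nat_lit 8, nat_lit 5, nat_lit 6, nat_lit 4, nat_lit 5, nat_lit 3, nat_lit 4, nat_lit 2, nat_lit 3, nat_lit 8, nat_lit 1, nat_lit 2, nat_lit 3, nat_lit 4, nat_lit 5, nat_lit 6, nat_lit 7, nat_lit 3, nat_lit 8, nat_lit 6, nat_lit 4, nat_lit 5, nat_lit 3, nat_lit 4, nat_lit 2, nat_lit 3, nat_lit 8, nat_lit 0, nat_lit 1, nat_lit 2, nat_lit 3, nat_lit 4, nat_lit 5, nat_lit 3, nat_lit 8, nat_lit 4, nat_lit 3, nat_lit 2, nat_lit 0, nat_lit 1, nat_lit 9, nat_lit 4, nat_lit 3, nat_lit 2, nat_lit 8, nat_lit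 3, nat_lit 11, nat_lit 9, nat_lit 10, nat_lit 2, nat_lit 8, nat_lit 10, nat_lit 1, nat_lit 16, nat_lit 8, nat_lit 12, nat_lit 15, nat_lit 13, nat_lit 18] (Rl.t1 (nat_lit 5947) (nat_lit 5941)))) (FT.leaf (Fct.mk true (nat_lit 36) (nat_lit 125158) (nat_lit 36) [nat_lit 3, nat_lit 8, nat_lit 5, nat_lit 6, nat_lit 4, nat_lit 5, nat_lit 3, nat_lit 4, nat_lit 1, nat_lit 2, nat_lit 3, nat_lit 8, nat_lit 0, nat_lit 1, nat_lit 2, nat_lit 3, nat_lit 4, nat_lit 5, nat_lit 6, nat_lit 7, nat_lit 5, nat_lit 6, nat_lit 4, nat_lit 5, nat_lit 3, nat_lit 4, nat_lit 2, nat_lit 3, nat_lit 8, nat_lit 1, nat_lit 2, nat_lit 3, nat_lit 4, nat_lit 5, nat_lit 2, nat_lit 3, nat_lit 8, nat_lit 4, nat_lit 3, nat_lit 2, nat_lit 0, nat_lit 1, nat_lit 9, nat_lit 4, nat_lit 3, nat_lit 2, nat_lit 8, nat_lit 3, nat_lit 11, nat_lit 2, nat_lit 8, nat_lit 10, nat_lit 1, nat_lit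 16, nat_lit 14, nat_lit 17, nat_lit 18] (Rl.inv (nat_lit 5948)))))))))

/-- some facts -/
noncomputable def ftc119 : FT := FT.node (nat_lit 5975) (FT.node (nat_lit 5962) (FT.node (nat_lit 5956) (FT.node (nat_lit 5953) (FT.node (nat_lit 5951) (FT.leaf (Fct.mk true (nat_lit 36) (nat_lit 355) (nat_lit 36) [nat_lit 4, nat_lit 5, nat_lit 6, nat_lit 3, nat_lit 4, nat_lit 5, nat_lit 2, nat_lit 3, nat_lit 4, nat_lit 1, nat_lit 2, nat_lit 3, nat_lit 8, nat_lit 0, nat_lit 1, nat_lit 2, nat_lit 3, nat_lit 4, nat_lit 5, nat_lit 6, nat_lit 7, nat_lit 8, nat_lit 6, nat_lit 4, nat_lit 5, nat_lit 2, nat_lit 3, nat_lit 4, nat_lit 1, nat_lit 2, nat_lit 3, nat_lit 8, nat_lit 0, nat_lit 1, nat_lit 2, nat_lit 3, nat_lit 4, nat_lit 5, nat_lit 1, nat_lit 4, nat_lit 3, nat_lit 2, nat_lit 8, nat_lit 3, nat_lit 2, nat_lit 10, nat_lit 1, nat_lit 12, nat_lit 15, nat_lit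 17, nat_lit 12, nat_lit 19] (Rl.t1 (nat_lit 5949) (nat_lit 5946)))) (FT.node (nat_lit 5952) (FT.leaf (Fct.mk false (nat_lit 36) (nat_lit 0) (nat_lit 36) [nat_lit 1, nat_lit 2, nat_lit 3, nat_lit 4, nat_lit 5, nat_lit 1, nat_lit 2, nat_lit 3, nat_lit 0, nat_lit 15] (Rl.cmp (nat_lit 5804) (nat_lit 5804)))) (FT.leaf (Fct.mk true (nat_lit 36) (nat_lit 3645) (nat_lit 36) [nat_lit 4, nat_lit 5, nat_lit 6, nat_lit 7, nat_lit 5, nat_lit 2, nat_lit 3, nat_lit 4, nat_lit 1, nat_lit 2, nat_lit 3, nat_lit 8, nat_lit 0, nat_lit 1, nat_lit 2, nat_lit 3, nat_lit 4, nat_lit 5, nat_lit 3, nat_lit 2, nat_lit 1, nat_lit 4, nat_lit 3, nat_lit 2, nat_lit 0, nat_lit 1, nat_lit 9, nat_lit 4, nat_lit 3, nat_lit 2, nat_lit 8, nat_lit 3, nat_lit 10, nat_lit 9, nat_lit 2, nat_lit 14, nat_lit 13, nat_lit 12, nat_lit 19, nat_lit 16] (Rl.rel (nat_lit 0) [nat_lit 8, nat_lit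 5, nat_lit 6, nat_lit 4, nat_lit 5, nat_lit 3, nat_lit 4, nat_lit 1, nat_lit 2, nat_lit 3, nat_lit 8, nat_lit 0, nat_lit 1, nat_lit 2, nat_lit 3, nat_lit 4, nat_lit 5, nat_lit 6, nat_lit 7, nat_lit 3, nat_lit 8, nat_lit 2, nat_lit 3, nat_lit 4, nat_lit 1, nat_lit 2, nat_lit 3, nat_lit 8, nat_lit 0, nat_lit 1, nat_lit 2, nat_lit 3, nat_lit 4, nat_lit 5, nat_lit 2, nat_lit 1, nat_lit 3, nat_lit 2, nat_lit 0, nat_lit 1, nat_lit 9, nat_lit 4, nat_lit 3, nat_lit 2, nat_lit 8, nat_lit 3, nat_lit 10, nat_lit 0, nat_lit 17, nat_lit 12, nat_lit 18] (nat_lit 36) (nat_lit 2) [nat_lit 5858, nat_lit 5651, nat_lit 5856] []))))) (FT.node (nat_lit 5954) (FT.leaf (Fct.mk true (nat_lit 36) (nat_lit 2181) (nat_lit 36) [nat_lit 0, nat_lit 1, nat_lit 2, nat_lit 3, nat_lit 4, nat_lit 5, nat_lit 6, nat_lit 7, nat_lit 5, nat_lit 4, nat_lit 3, nat_lit 8, nat_lit 0,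 nat_lit 1, nat_lit 2, nat_lit 3, nat_lit 4, nat_lit 5, nat_lit 2, nat_lit 1, nat_lit 3, nat_lit 2, nat_lit 0, nat_lit 1, nat_lit 9, nat_lit 4, nat_lit 3, nat_lit 2, nat_lit 8, nat_lit 3, nat_lit 10, nat_lit 9, nat_lit 2, nat_lit 14, nat_lit 13, nat_lit 12, nat_lit 19, nat_lit 16] (Rl.t1 (nat_lit 5952) (nat_lit 5951)))) (FT.node (nat_lit 5955) (FT.leaf (Fct.mk false (nat_lit 36) (nat_lit 0) (nat_lit 36) [nat_lit 3, nat_lit 8, nat_lit 6, nat_lit 4, nat_lit 5, nat_lit 3, nat_lit 4, nat_lit 2, nat_lit 3, nat_lit 8, nat_lit 1, nat_lit 2, nat_lit 3, nat_lit 4, nat_lit 5, nat_lit 2, nat_lit 1, nat_lit 4, nat_lit 3, nat_lit 2, nat_lit 0, nat_lit 1, nat_lit 9, nat_lit 4, nat_lit 3, nat_lit 2, nat_lit 8, nat_lit 3, nat_lit 11, nat_lit 2, nat_lit 8, nat_lit 10, nat_lit 1, nat_lit 8, nat_lit 16, nat_lit 14, nat_lit 8, nat_lit 18, nat_lit 16] (Rl.cmp (nat_lit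 5814) (nat_lit 5814)))) (FT.leaf (Fct.mk false (nat_lit 36) (nat_lit 0) (nat_lit 36) [nat_lit 133] (Rl.cmp (nat_lit 5814) (nat_lit 5954))))))) (FT.node (nat_lit 5959) (FT.node (nat_lit 5957) (FT.leaf (Fct.mk false (nat_lit 36) (nat_lit 0) (nat_lit 36) [nat_lit 5, nat_lit 4, nat_lit 2, nat_lit 3, nat_lit 8, nat_lit 1, nat_lit 2, nat_lit 3, nat_lit 4, nat_lit 5, nat_lit 2, nat_lit 1, nat_lit 3, nat_lit 2, nat_lit 0, nat_lit 1, nat_lit 4, nat_lit 3, nat_lit 2, nat_lit 8, nat_lit 3, nat_lit 10, nat_lit 15, nat_lit 12, nat_lit 19, nat_lit 16] (Rl.cmp (nat_lit 5804) (nat_lit 5955)))) (FT.node (nat_lit 5958) (FT.leaf (Fct.mk false (nat_lit 36) (nat_lit 0) (nat_lit 36) [nat_lit 4, nat_lit 3, nat_lit 8, nat_lit 5, nat_lit 6, nat_lit 4, nat_lit 5, nat_lit 3, nat_lit 4, nat_lit 2, nat_lit 3, nat_lit 8, nat_lit 0, nat_lit 1, nat_lit 2, nat_lit 3, nat_lit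 4, nat_lit 5, nat_lit 3, nat_lit 2, nat_lit 1, nat_lit 9, nat_lit 4, nat_lit 3, nat_lit 2, nat_lit 8, nat_lit 3, nat_lit 10, nat_lit 0, nat_lit 16, nat_lit 14, nat_lit 8, nat_lit 19] (Rl.cmp (nat_lit 5814) (nat_lit 5956)))) (FT.leaf (Fct.mk false (nat_lit 36) (nat_lit 0) (nat_lit 36) [nat_lit 5, nat_lit 4, nat_lit 3, nat_lit 8, nat_lit 2, nat_lit 3, nat_lit 4, nat_lit 1, nat_lit 2, nat_lit 3, nat_lit 8, nat_lit 5, nat_lit 6, nat_lit 4, nat_lit 5, nat_lit 3, nat_lit 4, nat_lit 2, nat_lit 3, nat_lit 8, nat_lit 1, nat_lit 2, nat_lit 3, nat_lit 4, nat_lit 5, nat_lit 1, nat_lit 2, nat_lit 3, nat_lit 8, nat_lit 4, nat_lit 3, nat_lit 2, nat_lit 1, nat_lit 9, nat_lit 4, nat_lit 3, nat_lit 2, nat_lit 8, nat_lit 3, nat_lit 11, nat_lit 10, nat_lit 15, nat_lit 14, nat_lit 8, nat_lit 18, nat_lit 16] (Rl.cmp (nat_lit 5814) (nat_lit 5957)))))) (FT.node (nat_lit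 5960) (FT.leaf (Fct.mk true (nat_lit 36) (nat_lit 51918) (nat_lit 36) [nat_lit 8, nat_lit 2, nat_lit 3, nat_lit 4, nat_lit 1, nat_lit 2, nat_lit 3, nat_lit 8, nat_lit 0, nat_lit 1, nat_lit 2, nat_lit 3, nat_lit 4, nat_lit 5, nat_lit 6, nat_lit 7, nat_lit 6, nat_lit 4, nat_lit 5, nat_lit 3, nat_lit 4, nat_lit 2, nat_lit 3, nat_lit 8, nat_lit 1, nat_lit 2, nat_lit 3, nat_lit 4, nat_lit 5, nat_lit 2, nat_lit 1, nat_lit 3, nat_lit 2, nat_lit 0, nat_lit 1, nat_lit 9, nat_lit 4, nat_lit 3, nat_lit 2, nat_lit 8, nat_lit 3, nat_lit 0, nat_lit 18] (Rl.rel (nat_lit 0) [nat_lit 8, nat_lit 5, nat_lit 6, nat_lit 4, nat_lit 5, nat_lit 3, nat_lit 4, nat_lit 1, nat_lit 2, nat_lit 3, nat_lit 8, nat_lit 0, nat_lit 1, nat_lit 2, nat_lit 3, nat_lit 4, nat_lit 5, nat_lit 6, nat_lit 7, nat_lit 8, nat_lit 4, nat_lit 5, nat_lit 2, nat_lit 3, nat_lit 4, nat_lit 1,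 nat_lit 2, nat_lit 3, nat_lit 8, nat_lit 0, nat_lit 1, nat_lit 2, nat_lit 3, nat_lit 4, nat_lit 5, nat_lit 3, nat_lit 2, nat_lit 1, nat_lit 8, nat_lit 3, nat_lit 2, nat_lit 0, nat_lit 1, nat_lit 4, nat_lit 3, nat_lit 2, nat_lit 8, nat_lit 3, nat_lit 12] (nat_lit 36) (nat_lit 2) [nat_lit 5858, nat_lit 5669, nat_lit 5856] []))) (FT.node (nat_lit 5961) (FT.leaf (Fct.mk true (nat_lit 36) (nat_lit 14469) (nat_lit 36) [nat_lit 5, nat_lit 3, nat_lit 4, nat_lit 1, nat_lit 2, nat_lit 3, nat_lit 8, nat_lit 0, nat_lit 1, nat_lit 2, nat_lit 3, nat_lit 4, nat_lit 5, nat_lit 6, nat_lit 7, nat_lit 4, nat_lit 2, nat_lit 3, nat_lit 8, nat_lit 5, nat_lit 6, nat_lit 4, nat_lit 5, nat_lit 3, nat_lit 4, nat_lit 2, nat_lit 3, nat_lit 8, nat_lit 1, nat_lit 2, nat_lit 3, nat_lit 4, nat_lit 5, nat_lit 1, nat_lit 3, nat_lit 8, nat_lit 4, nat_lit 3, nat_lit 2, nat_lit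 0, nat_lit 1, nat_lit 9, nat_lit 4, nat_lit 3, nat_lit 2, nat_lit 8, nat_lit 3, nat_lit 11, nat_lit 2, nat_lit 15, nat_lit 14, nat_lit 13, nat_lit 18] (Rl.t1 (nat_lit 5959) (nat_lit 5958)))) (FT.leaf (Fct.mk false (nat_lit 36) (nat_lit 0) (nat_lit 36) [nat_lit 4, nat_lit 3, nat_lit 8, nat_lit 2, nat_lit 3, nat_lit 4, nat_lit 5, nat_lit 0, nat_lit 1, nat_lit 3, nat_lit 2, nat_lit 8, nat_lit 3, nat_lit 11, nat_lit 10, nat_lit 2, nat_lit 8, nat_lit 10, nat_lit 1, nat_lit 14, nat_lit 16, nat_lit 8, nat_lit 16] (Rl.cmp (nat_lit 5814) (nat_lit 5874)))))))) (FT.node (nat_lit 5968) (FT.node (nat_lit 5965) (FT.node (nat_lit 5963) (FT.leaf (Fct.mk true (nat_lit 36) (nat_lit 19704) (nat_lit 36) [nat_lit 8, nat_lit 6, nat_lit 5, nat_lit 3, nat_lit 4, nat_lit 2, nat_lit 3, nat_lit 8, nat_lit 0, nat_lit 1, nat_lit 2, nat_lit 3, nat_lit 4, nat_lit 5, nat_lit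 6, nat_lit 7, nat_lit 3, nat_lit 4, nat_lit 1, nat_lit 2, nat_lit 3, nat_lit 8, nat_lit 0, nat_lit 1, nat_lit 2, nat_lit 3, nat_lit 4, nat_lit 5, nat_lit 0, nat_lit 1, nat_lit 2, nat_lit 8, nat_lit 3, nat_lit 9, nat_lit 10, nat_lit 2, nat_lit 8, nat_lit 10, nat_lit 1, nat_lit 12, nat_lit 15, nat_lit 16, nat_lit 8, nat_lit 18] (Rl.rel (nat_lit 0) [nat_lit 6, nat_lit 5, nat_lit 4, nat_lit 3, nat_lit 8, nat_lit 0, nat_lit 1, nat_lit 2, nat_lit 3, nat_lit 4, nat_lit 5, nat_lit 6, nat_lit 7, nat_lit 8, nat_lit 3, nat_lit 4, nat_lit 1, nat_lit 2, nat_lit 3, nat_lit 8, nat_lit 0, nat_lit 1, nat_lit 2, nat_lit 3, nat_lit 4, nat_lit 5, nat_lit 8, nat_lit 10, nat_lit 1, nat_lit 8, nat_lit 12, nat_lit 15, nat_lit 14, nat_lit 8, nat_lit 18] (nat_lit 36) (nat_lit 2) [nat_lit 5858, nat_lit 5915] []))) (FT.node (nat_lit 5964) (FT.leaf (Fct.mk true (nat_lit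 36) (nat_lit 112) (nat_lit 36) [nat_lit 3, nat_lit 4, nat_lit 5, nat_lit 2, nat_lit 3, nat_lit 4, nat_lit 1, nat_lit 2, nat_lit 3, nat_lit 8, nat_lit 0, nat_lit 1, nat_lit 2, nat_lit 3, nat_lit 4, nat_lit 5, nat_lit 6, nat_lit 7, nat_lit 5, nat_lit 4, nat_lit 2, nat_lit 3, nat_lit 8, nat_lit 1, nat_lit 2, nat_lit 3, nat_lit 4, nat_lit 5, nat_lit 1, nat_lit 8, nat_lit 3, nat_lit 2, nat_lit 0, nat_lit 1, nat_lit 4, nat_lit 3, nat_lit 2, nat_lit 8, nat_lit 3, nat_lit 9, nat_lit 10, nat_lit 2, nat_lit 8, nat_lit 10, nat_lit 1, nat_lit 12, nat_lit 8, nat_lit 16, nat_lit 14, nat_lit 8, nat_lit 18, nat_lit 16] (Rl.t1 (nat_lit 5962) (nat_lit 5961)))) (FT.leaf (Fct.mk false (nat_lit 36) (nat_lit 0) (nat_lit 36) [nat_lit 3, nat_lit 4, nat_lit 5, nat_lit 1, nat_lit 2, nat_lit 3, nat_lit 10, nat_lit 9, nat_lit 2, nat_lit 15, nat_lit 14, nat_lit 16] (Rl.cmp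 (nat_lit 5810) (nat_lit 5935)))))) (FT.node (nat_lit 5966) (FT.leaf (Fct.mk false (nat_lit 36) (nat_lit 0) (nat_lit 36) [nat_lit 5, nat_lit 6, nat_lit 4, nat_lit 5, nat_lit 3, nat_lit 4, nat_lit 1, nat_lit 2, nat_lit 3, nat_lit 8, nat_lit 0, nat_lit 1, nat_lit 2, nat_lit 3, nat_lit 4, nat_lit 5, nat_lit 0, nat_lit 1, nat_lit 3, nat_lit 2, nat_lit 8, nat_lit 3, nat_lit 2, nat_lit 8, nat_lit 10, nat_lit 1, nat_lit 14, nat_lit 13, nat_lit 18, nat_lit 16] (Rl.cmp (nat_lit 5814) (nat_lit 5964)))) (FT.node (nat_lit 5967) (FT.leaf (Fct.mk false (nat_lit 36) (nat_lit 0) (nat_lit 36) [nat_lit 5, nat_lit 6, nat_lit 4, nat_lit 5, nat_lit 3, nat_lit 4, nat_lit 2, nat_lit 3, nat_lit 8, nat_lit 0, nat_lit 1, nat_lit 2, nat_lit 3, nat_lit 4, nat_lit 5, nat_lit 0, nat_lit 1, nat_lit 4, nat_lit 3, nat_lit 2, nat_lit 8, nat_lit 3, nat_lit 10, nat_lit 2, nat_lit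 8, nat_lit 10, nat_lit 1, nat_lit 8, nat_lit 16, nat_lit 14, nat_lit 17, nat_lit 18] (Rl.cmp (nat_lit 5806) (nat_lit 5965)))) (FT.leaf (Fct.mk false (nat_lit 36) (nat_lit 0) (nat_lit 36) [nat_lit 6, nat_lit 5, nat_lit 4, nat_lit 1, nat_lit 2, nat_lit 3, nat_lit 8, nat_lit 0, nat_lit 1, nat_lit 2, nat_lit 3, nat_lit 4, nat_lit 5, nat_lit 1, nat_lit 9, nat_lit 4, nat_lit 3, nat_lit 2, nat_lit 8, nat_lit 3, nat_lit 8, nat_lit 10, nat_lit 1, nat_lit 16, nat_lit 15, nat_lit 14, nat_lit 17, nat_lit 18] (Rl.cmp (nat_lit 5810) (nat_lit 5966))))))) (FT.node (nat_lit 5971) (FT.node (nat_lit 5969) (FT.leaf (Fct.mk false (nat_lit 36) (nat_lit 0) (nat_lit 36) [nat_lit 1, nat_lit 2, nat_lit 3, nat_lit 4, nat_lit 5, nat_lit 9, nat_lit 4, nat_lit 11, nat_lit 10, nat_lit 1, nat_lit 14, nat_lit 13, nat_lit 16] (Rl.cmp (nat_lit 5810) (nat_lit 5804)))) (FT.node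 (nat_lit 5970) (FT.leaf (Fct.mk false (nat_lit 36) (nat_lit 0) (nat_lit 36) [nat_lit 1, nat_lit 2, nat_lit 3, nat_lit 4, nat_lit 5, nat_lit 9, nat_lit 4, nat_lit 11, nat_lit 10, nat_lit 1, nat_lit 14, nat_lit 13, nat_lit 16] (Rl.cmp (nat_lit 5810) (nat_lit 5804)))) (FT.leaf (Fct.mk false (nat_lit 36) (nat_lit 0) (nat_lit 36) [nat_lit 1, nat_lit 2, nat_lit 3, nat_lit 4, nat_lit 5, nat_lit 9, nat_lit 4, nat_lit 11, nat_lit 10, nat_lit 1, nat_lit 14, nat_lit 13, nat_lit 16] (Rl.cmp (nat_lit 5810) (nat_lit 5804)))))) (FT.node (nat_lit 5973) (FT.node (nat_lit 5972) (FT.leaf (Fct.mk false (nat_lit 36) (nat_lit 0) (nat_lit 36) [nat_lit 5, nat_lit 6, nat_lit 4, nat_lit 5, nat_lit 2, nat_lit 3, nat_lit 4, nat_lit 1, nat_lit 2, nat_lit 3, nat_lit 8, nat_lit 0, nat_lit 1, nat_lit 2, nat_lit 3, nat_lit 4, nat_lit 5, nat_lit 3, nat_lit 2, nat_lit 1, nat_lit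 8, nat_lit 3, nat_lit 2, nat_lit 0, nat_lit 1, nat_lit 9, nat_lit 4, nat_lit 3, nat_lit 2, nat_lit 8, nat_lit 3, nat_lit 8, nat_lit 10, nat_lit 0, nat_lit 12, nat_lit 19] (Rl.cmp (nat_lit 5814) (nat_lit 5969)))) (FT.leaf (Fct.mk false (nat_lit 36) (nat_lit 0) (nat_lit 36) [nat_lit 3, nat_lit 4, nat_lit 1, nat_lit 2, nat_lit 3, nat_lit 8, nat_lit 5, nat_lit 6, nat_lit 4, nat_lit 5, nat_lit 3, nat_lit 4, nat_lit 2, nat_lit 3, nat_lit 8, nat_lit 1, nat_lit 2, nat_lit 3, nat_lit 4, nat_lit 5, nat_lit 2, nat_lit 3, nat_lit 8, nat_lit 4, nat_lit 3, nat_lit 2, nat_lit 0, nat_lit 1, nat_lit 9, nat_lit 4, nat_lit 3, nat_lit 2, nat_lit 8, nat_lit 3, nat_lit 9, nat_lit 10, nat_lit 2, nat_lit 8, nat_lit 10, nat_lit 1, nat_lit 17, nat_lit 12] (Rl.cmp (nat_lit 5814) (nat_lit 5971))))) (FT.node (nat_lit 5974) (FT.leaf (Fct.mk false (nat_lit 36) (nat_lit 0)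 (nat_lit 36) [nat_lit 8, nat_lit 5, nat_lit 6, nat_lit 4, nat_lit 5, nat_lit 2, nat_lit 3, nat_lit 4, nat_lit 1, nat_lit 2, nat_lit 3, nat_lit 8, nat_lit 0, nat_lit 1, nat_lit 2, nat_lit 3, nat_lit 4, nat_lit 5, nat_lit 2, nat_lit 3, nat_lit 8, nat_lit 4, nat_lit 3, nat_lit 2, nat_lit 0, nat_lit 1, nat_lit 9, nat_lit 4, nat_lit 3, nat_lit 2, nat_lit 8, nat_lit 3, nat_lit 11, nat_lit 8, nat_lit 16, nat_lit 15, nat_lit 14, nat_lit 17, nat_lit 12, nat_lit 19, nat_lit 16] (Rl.cmp (nat_lit 5806) (nat_lit 5972)))) (FT.leaf (Fct.mk false (nat_lit 36) (nat_lit 0) (nat_lit 36) [nat_lit 4, nat_lit 2, nat_lit 3, nat_lit 8, nat_lit 5, nat_lit 6, nat_lit 4, nat_lit 5, nat_lit 3, nat_lit 4, nat_lit 2, nat_lit 3, nat_lit 8, nat_lit 1, nat_lit 2, nat_lit 3, nat_lit 4, nat_lit 5, nat_lit 2, nat_lit 3, nat_lit 8, nat_lit 4, nat_lit 3, nat_lit 2, nat_lit 0, nat_lit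 1, nat_lit 9, nat_lit 4, nat_lit 3, nat_lit 2, nat_lit 8, nat_lit 3, nat_lit 10, nat_lit 2, nat_lit 8, nat_lit 10, nat_lit 1, nat_lit 17] (Rl.cmp (nat_lit 5806) (nat_lit 5973))))))))) (FT.node (nat_lit 5987) (FT.node (nat_lit 5981) (FT.node (nat_lit 5978) (FT.node (nat_lit 5976) (FT.leaf (Fct.mk false (nat_lit 36) (nat_lit 0) (nat_lit 36) [nat_lit 6, nat_lit 9, nat_lit 4, nat_lit 10, nat_lit 15, nat_lit 14, nat_lit 12, nat_lit 16] (Rl.cmp (nat_lit 5806) (nat_lit 5810)))) (FT.node (nat_lit 5977) (FT.leaf (Fct.mk false (nat_lit 36) (nat_lit 0) (nat_lit 36) [nat_lit 6, nat_lit 2, nat_lit 3, nat_lit 1, nat_lit 16, nat_lit 15, nat_lit 14, nat_lit 16] (Rl.cmp (nat_lit 5804) (nat_lit 5975)))) (FT.leaf (Fct.mk false (nat_lit 36) (nat_lit 0) (nat_lit 36) [nat_lit 2, nat_lit 3, nat_lit 4, nat_lit 5, nat_lit 1, nat_lit 2, nat_lit 3, nat_lit 10, nat_lit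 0, nat_lit 16, nat_lit 14, nat_lit 16] (Rl.cmp (nat_lit 5810) (nat_lit 5976)))))) (FT.node (nat_lit 5979) (FT.leaf (Fct.mk true (nat_lit 36) (nat_lit 119118) (nat_lit 36) [nat_lit 5, nat_lit 4, nat_lit 0] (Rl.rel (nat_lit 0) [nat_lit 8, nat_lit 3, nat_lit 4, nat_lit 2, nat_lit 3, nat_lit 8, nat_lit 5, nat_lit 6, nat_lit 4, nat_lit 5, nat_lit 3, nat_lit 4, nat_lit 2, nat_lit 3, nat_lit 8, nat_lit 0, nat_lit 1, nat_lit 2, nat_lit 3, nat_lit 4, nat_lit 5, nat_lit 6, nat_lit 7, nat_lit 8, nat_lit 4, nat_lit 5, nat_lit 2, nat_lit 3, nat_lit 4, nat_lit 1, nat_lit 2, nat_lit 3, nat_lit 8, nat_lit 0, nat_lit 1, nat_lit 2, nat_lit 3, nat_lit 4, nat_lit 5, nat_lit 0, nat_lit 1, nat_lit 3, nat_lit 2, nat_lit 8, nat_lit 3, nat_lit 0, nat_lit 15, nat_lit 14, nat_lit 8] (nat_lit 36) (nat_lit 2) [nat_lit 5960, nat_lit 5974, nat_lit 5960] []))) (FT.node (nat_lit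 5980) (FT.leaf (Fct.mk true (nat_lit 36) (nat_lit 17187) (nat_lit 36) [nat_lit 5, nat_lit 3, nat_lit 1, nat_lit 0, nat_lit 2, nat_lit 16, nat_lit 15, nat_lit 14, nat_lit 12] (Rl.t1 (nat_lit 5978) (nat_lit 5977)))) (FT.leaf (Fct.mk false (nat_lit 36) (nat_lit 0) (nat_lit 36) [nat_lit 1, nat_lit 2, nat_lit 3, nat_lit 4, nat_lit 5, nat_lit 9, nat_lit 4, nat_lit 11, nat_lit 10, nat_lit 1, nat_lit 14, nat_lit 13, nat_lit 16] (Rl.cmp (nat_lit 5810) (nat_lit 5804))))))) (FT.node (nat_lit 5984) (FT.node (nat_lit 5982) (FT.leaf (Fct.mk false (nat_lit 36) (nat_lit 0) (nat_lit 36) [nat_lit 5, nat_lit 6, nat_lit 4, nat_lit 5, nat_lit 2, nat_lit 3, nat_lit 4, nat_lit 1, nat_lit 2, nat_lit 3, nat_lit 8, nat_lit 0, nat_lit 1, nat_lit 2, nat_lit 3, nat_lit 4, nat_lit 5, nat_lit 3, nat_lit 2, nat_lit 1, nat_lit 8, nat_lit 3, nat_lit 2, nat_lit 0, nat_lit 1,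 nat_lit 9, nat_lit 4, nat_lit 3, nat_lit 2, nat_lit 8, nat_lit 3, nat_lit 8, nat_lit 10, nat_lit 0, nat_lit 12, nat_lit 19] (Rl.cmp (nat_lit 5814) (nat_lit 5980)))) (FT.node (nat_lit 5983) (FT.leaf (Fct.mk false (nat_lit 36) (nat_lit 0) (nat_lit 36) [nat_lit 6, nat_lit 5, nat_lit 4, nat_lit 3, nat_lit 8, nat_lit 1, nat_lit 2, nat_lit 3, nat_lit 4, nat_lit 5, nat_lit 2, nat_lit 1, nat_lit 3, nat_lit 2, nat_lit 0, nat_lit 1, nat_lit 4, nat_lit 3, nat_lit 2, nat_lit 8, nat_lit 3, nat_lit 8, nat_lit 10, nat_lit 12, nat_lit 19, nat_lit 16] (Rl.cmp (nat_lit 5810) (nat_lit 5981)))) (FT.leaf (Fct.mk false (nat_lit 36) (nat_lit 0) (nat_lit 36) [nat_lit 6, nat_lit 4, nat_lit 5, nat_lit 3, nat_lit 4, nat_lit 2, nat_lit 3, nat_lit 8, nat_lit 0, nat_lit 1, nat_lit 2, nat_lit 3, nat_lit 4, nat_lit 5, nat_lit 2, nat_lit 1, nat_lit 8, nat_lit 4, nat_lit 3,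 nat_lit 2, nat_lit 0, nat_lit 1, nat_lit 9, nat_lit 4, nat_lit 3, nat_lit 2, nat_lit 8, nat_lit 3, nat_lit 11, nat_lit 10, nat_lit 1, nat_lit 12, nat_lit 19, nat_lit 16] (Rl.cmp (nat_lit 5804) (nat_lit 5982)))))) (FT.node (nat_lit 5985) (FT.leaf (Fct.mk false (nat_lit 36) (nat_lit 0) (nat_lit 36) [nat_lit 4, nat_lit 1, nat_lit 2, nat_lit 3, nat_lit 8, nat_lit 0, nat_lit 1, nat_lit 2, nat_lit 3, nat_lit 4, nat_lit 5, nat_lit 3, nat_lit 2, nat_lit 1, nat_lit 4, nat_lit 3, nat_lit 2, nat_lit 0, nat_lit 1, nat_lit 9, nat_lit 4, nat_lit 3, nat_lit 2, nat_lit 8, nat_lit 3, nat_lit 1, nat_lit 12, nat_lit 19] (Rl.cmp (nat_lit 5810) (nat_lit 5983)))) (FT.node (nat_lit 5986) (FT.leaf (Fct.mk false (nat_lit 32) (nat_lit 0) (nat_lit 32) [nat_lit 3, nat_lit 8, nat_lit 5, nat_lit 2, nat_lit 3, nat_lit 4, nat_lit 1, nat_lit 2, nat_lit 3, nat_lit 8, nat_lit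 6, nat_lit 7, nat_lit 5, nat_lit 6, nat_lit 4, nat_lit 5, nat_lit 3, nat_lit 4, nat_lit 2, nat_lit 3, nat_lit 8, nat_lit 1, nat_lit 2, nat_lit 3, nat_lit 4, nat_lit 5, nat_lit 6, nat_lit 7, nat_lit 8, nat_lit 4, nat_lit 5, nat_lit 3, nat_lit 4, nat_lit 2, nat_lit 3, nat_lit 8, nat_lit 1, nat_lit 2, nat_lit 3, nat_lit 4, nat_lit 5, nat_lit 0, nat_lit 1, nat_lit 9, nat_lit 4, nat_lit 3, nat_lit 2, nat_lit 8, nat_lit 3, nat_lit 11, nat_lit 2, nat_lit 8, nat_lit 12, nat_lit 15, nat_lit 8] (Rl.cmp (nat_lit 3456) (nat_lit 3010)))) (FT.leaf (Fct.mk false (nat_lit 32) (nat_lit 0) (nat_lit 32) [nat_lit 3, nat_lit 8, nat_lit 5, nat_lit 2, nat_lit 3, nat_lit 4, nat_lit 1, nat_lit 2, nat_lit 3, nat_lit 8, nat_lit 6, nat_lit 7, nat_lit 5, nat_lit 6, nat_lit 4, nat_lit 5, nat_lit 3, nat_lit 4, nat_lit 2, nat_lit 3, nat_lit 8, nat_lit 1, nat_lit 2, nat_lit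 3, nat_lit 4, nat_lit 5, nat_lit 6, nat_lit 7, nat_lit 6, nat_lit 5, nat_lit 3, nat_lit 4, nat_lit 2, nat_lit 3, nat_lit 8, nat_lit 1, nat_lit 2, nat_lit 3, nat_lit 4, nat_lit 5, nat_lit 0, nat_lit 1, nat_lit 4, nat_lit 3, nat_lit 2, nat_lit 8, nat_lit 3, nat_lit 0, nat_lit 8, nat_lit 12, nat_lit 15, nat_lit 17, nat_lit 12, nat_lit 18] (Rl.cmp (nat_lit 3010) (nat_lit 5985)))))))) (FT.node (nat_lit 5993) (FT.node (nat_lit 5990) (FT.node (nat_lit 5988) (FT.leaf (Fct.mk false (nat_lit 32) (nat_lit 0) (nat_lit 32) [nat_lit 3, nat_lit 8, nat_lit 5, nat_lit 2, nat_lit 3, nat_lit 4, nat_lit 1, nat_lit 2, nat_lit 3, nat_lit 8, nat_lit 6, nat_lit 7, nat_lit 5, nat_lit 6, nat_lit 4, nat_lit 5, nat_lit 3, nat_lit 4, nat_lit 2, nat_lit 3, nat_lit 8, nat_lit 1, nat_lit 2, nat_lit 3, nat_lit 4, nat_lit 5, nat_lit 6, nat_lit 7, nat_lit 3, nat_lit 4, nat_lit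 2, nat_lit 3, nat_lit 8, nat_lit 5, nat_lit 6, nat_lit 4, nat_lit 5, nat_lit 3, nat_lit 4, nat_lit 2, nat_lit 3, nat_lit 8, nat_lit 0, nat_lit 1, nat_lit 2, nat_lit 3, nat_lit 4, nat_lit 5, nat_lit 3, nat_lit 2, nat_lit 1, nat_lit 4, nat_lit 3, nat_lit 2, nat_lit 0, nat_lit 1, nat_lit 9, nat_lit 4, nat_lit 3, nat_lit 2, nat_lit 8, nat_lit 3, nat_lit 11, nat_lit 8, nat_lit 10, nat_lit 1, nat_lit 15, nat_lit 8] (Rl.cmp (nat_lit 3004) (nat_lit 5986)))) (FT.node (nat_lit 5989) (FT.leaf (Fct.mk false (nat_lit 36) (nat_lit 0) (nat_lit 36) [nat_lit 1, nat_lit 2, nat_lit 3, nat_lit 4, nat_lit 5, nat_lit 9, nat_lit 4, nat_lit 11, nat_lit 10, nat_lit 1, nat_lit 14, nat_lit 13, nat_lit 16] (Rl.cmp (nat_lit 5810) (nat_lit 5804)))) (FT.leaf (Fct.mk false (nat_lit 36) (nat_lit 0) (nat_lit 36) [nat_lit 3, nat_lit 4, nat_lit 5, nat_lit 9, nat_lit 4, nat_lit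 9, nat_lit 2, nat_lit 16, nat_lit 14, nat_lit 16] (Rl.cmp (nat_lit 5806) (nat_lit 5988)))))) (FT.node (nat_lit 5991) (FT.leaf (Fct.mk false (nat_lit 36) (nat_lit 0) (nat_lit 36) [nat_lit 0, nat_lit 1, nat_lit 2, nat_lit 3, nat_lit 4, nat_lit 5, nat_lit 1, nat_lit 2, nat_lit 3, nat_lit 11, nat_lit 10, nat_lit 1, nat_lit 12, nat_lit 15, nat_lit 13] (Rl.cmp (nat_lit 5810) (nat_lit 5989)))) (FT.node (nat_lit 5992) (FT.leaf (Fct.mk false (nat_lit 36) (nat_lit 0) (nat_lit 36) [nat_lit 5, nat_lit 1, nat_lit 2, nat_lit 3, nat_lit 11, nat_lit 10, nat_lit 12, nat_lit 15, nat_lit 14, nat_lit 13, nat_lit 16] (Rl.cmp (nat_lit 5804) (nat_lit 5990)))) (FT.leaf (Fct.mk false (nat_lit 36) (nat_lit 0) (nat_lit 36) [nat_lit 5, nat_lit 3, nat_lit 11, nat_lit 2, nat_lit 16, nat_lit 12, nat_lit 15, nat_lit 14, nat_lit 13] (Rl.cmp (nat_lit 5810) (nat_lit 5991)))))))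 (FT.node (nat_lit 5996) (FT.node (nat_lit 5994) (FT.leaf (Fct.mk true (nat_lit 32) (nat_lit 50152) (nat_lit 36) [nat_lit 3, nat_lit 8, nat_lit 2, nat_lit 3, nat_lit 4, nat_lit 1, nat_lit 2, nat_lit 3, nat_lit 8, nat_lit 5, nat_lit 6, nat_lit 4, nat_lit 5, nat_lit 3, nat_lit 4, nat_lit 2, nat_lit 3, nat_lit 8, nat_lit 1, nat_lit 2, nat_lit 3, nat_lit 4, nat_lit 5, nat_lit 0, nat_lit 1, nat_lit 9, nat_lit 4, nat_lit 3, nat_lit 2, nat_lit 8, nat_lit 3, nat_lit 2, nat_lit 15, nat_lit 14, nat_lit 16, nat_lit 8, nat_lit 19] (Rl.rel (nat_lit 0) [nat_lit 8, nat_lit 3, nat_lit 4, nat_lit 2, nat_lit 3, nat_lit 8, nat_lit 5, nat_lit 6, nat_lit 4, nat_lit 5, nat_lit 3, nat_lit 4, nat_lit 2, nat_lit 3, nat_lit 8, nat_lit 0, nat_lit 1, nat_lit 2, nat_lit 3, nat_lit 4, nat_lit 5, nat_lit 6, nat_lit 7, nat_lit 4, nat_lit 5, nat_lit 2, nat_lit 3, nat_lit 4,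 nat_lit 1, nat_lit 2, nat_lit 3, nat_lit 8, nat_lit 0, nat_lit 1, nat_lit 2, nat_lit 3, nat_lit 4, nat_lit 5, nat_lit 0, nat_lit 1, nat_lit 3, nat_lit 2, nat_lit 8, nat_lit 3, nat_lit 0, nat_lit 15, nat_lit 14, nat_lit 8] (nat_lit 36) (nat_lit 2) [nat_lit 5960, nat_lit 5984, nat_lit 5882] []))) (FT.node (nat_lit 5995) (FT.leaf (Fct.mk true (nat_lit 32) (nat_lit 531) (nat_lit 36) [nat_lit 3, nat_lit 8, nat_lit 5, nat_lit 2, nat_lit 3, nat_lit 4, nat_lit 1, nat_lit 2, nat_lit 3, nat_lit 8, nat_lit 6, nat_lit 7, nat_lit 5, nat_lit 6, nat_lit 4, nat_lit 5, nat_lit 3, nat_lit 4, nat_lit 2, nat_lit 3, nat_lit 8, nat_lit 1, nat_lit 2, nat_lit 3, nat_lit 4, nat_lit 5, nat_lit 6, nat_lit 7, nat_lit 8, nat_lit 6, nat_lit 5, nat_lit 3, nat_lit 4, nat_lit 1, nat_lit 2, nat_lit 3, nat_lit 8, nat_lit 0, nat_lit 1, nat_lit 2, nat_lit 3, nat_lit 4, nat_lit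 5, nat_lit 2, nat_lit 0, nat_lit 1, nat_lit 4, nat_lit 3, nat_lit 2, nat_lit 8, nat_lit 3, nat_lit 11, nat_lit 8, nat_lit 10, nat_lit 8, nat_lit 12, nat_lit 15, nat_lit 16, nat_lit 8, nat_lit 19] (Rl.t1 (nat_lit 5993) (nat_lit 5987)))) (FT.leaf (Fct.mk true (nat_lit 36) (nat_lit 118381) (nat_lit 32) [nat_lit 8, nat_lit 7, nat_lit 6, nat_lit 4, nat_lit 5, nat_lit 3, nat_lit 4, nat_lit 1, nat_lit 2, nat_lit 3, nat_lit 8, nat_lit 0, nat_lit 1, nat_lit 2, nat_lit 3, nat_lit 4, nat_lit 5, nat_lit 6, nat_lit 7, nat_lit 8, nat_lit 3, nat_lit 4, nat_lit 2, nat_lit 3, nat_lit 8, nat_lit 1, nat_lit 2, nat_lit 3, nat_lit 4, nat_lit 5, nat_lit 9, nat_lit 4, nat_lit 11, nat_lit 1, nat_lit 12, nat_lit 15, nat_lit 14, nat_lit 12, nat_lit 16] (Rl.inv (nat_lit 5994)))))) (FT.node (nat_lit 5998) (FT.node (nat_lit 5997) (FT.leaf (Fct.mk true (nat_lit 36) (nat_lit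 14460) (nat_lit 32) [nat_lit 1, nat_lit 2, nat_lit 3, nat_lit 8, nat_lit 7, nat_lit 5, nat_lit 6, nat_lit 4, nat_lit 5, nat_lit 3, nat_lit 4, nat_lit 2, nat_lit 3, nat_lit 8, nat_lit 1, nat_lit 2, nat_lit 3, nat_lit 4, nat_lit 5, nat_lit 6, nat_lit 7, nat_lit 6, nat_lit 5, nat_lit 3, nat_lit 4, nat_lit 2, nat_lit 3, nat_lit 8, nat_lit 1, nat_lit 2, nat_lit 3, nat_lit 4, nat_lit 5, nat_lit 1, nat_lit 2, nat_lit 0, nat_lit 1, nat_lit 3, nat_lit 2, nat_lit 8, nat_lit 3, nat_lit 1, nat_lit 15, nat_lit 13, nat_lit 18, nat_lit 16] (Rl.t1 (nat_lit 5995) (nat_lit 5992)))) (FT.leaf (Fct.mk false (nat_lit 36) (nat_lit 0) (nat_lit 36) [nat_lit 2, nat_lit 3, nat_lit 4, nat_lit 5, nat_lit 1, nat_lit 2, nat_lit 3, nat_lit 10, nat_lit 0, nat_lit 15] (Rl.cmp (nat_lit 5804) (nat_lit 5806))))) (FT.node (nat_lit 5999) (FT.leaf (Fct.mk false (nat_lit 36) (nat_lit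 0) (nat_lit 36) [nat_lit 6, nat_lit 9, nat_lit 4, nat_lit 10, nat_lit 15, nat_lit 14, nat_lit 12, nat_lit 16] (Rl.cmp (nat_lit 5806) (nat_lit 5810)))) (FT.leaf (Fct.mk false (nat_lit 36) (nat_lit 0) (nat_lit 36) [nat_lit 6, nat_lit 2, nat_lit 3, nat_lit 1, nat_lit 16, nat_lit 15, nat_lit 14, nat_lit 16] (Rl.cmp (nat_lit 5804) (nat_lit 5998)))))))))

/-- some facts -/
noncomputable def ftc120 : FT := FT.node (nat_lit 6025) (FT.node (nat_lit 6012) (FT.node (nat_lit 6006) (FT.node (nat_lit 6003) (FT.node (nat_lit 6001) (FT.leaf (Fct.mk false (nat_lit 36) (nat_lit 0) (nat_lit 36) [nat_lit 2, nat_lit 3, nat_lit 4, nat_lit 5, nat_lit 1, nat_lit 2, nat_lit 3, nat_lit 10, nat_lit 0, nat_lit 16, nat_lit 14, nat_lit 16] (Rl.cmp (nat_lit 5810) (nat_lit 5999)))) (FT.node (nat_lit 6002) (FT.leaf (Fct.mk false (nat_lit 36) (nat_lit 0) (nat_lit 36) [nat_lit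 5, nat_lit 2, nat_lit 3, nat_lit 4, nat_lit 1, nat_lit 2, nat_lit 3, nat_lit 8, nat_lit 0, nat_lit 1, nat_lit 2, nat_lit 3, nat_lit 4, nat_lit 5, nat_lit 3, nat_lit 2, nat_lit 1, nat_lit 8, nat_lit 3, nat_lit 2, nat_lit 0, nat_lit 1, nat_lit 9, nat_lit 4, nat_lit 3, nat_lit 2, nat_lit 8, nat_lit 3, nat_lit 1, nat_lit 8, nat_lit 16, nat_lit 15, nat_lit 14, nat_lit 17, nat_lit 19] (Rl.cmp (nat_lit 5810) (nat_lit 5814)))) (FT.leaf (Fct.mk false (nat_lit 36) (nat_lit 0) (nat_lit 36) [nat_lit 8, nat_lit 6, nat_lit 5, nat_lit 3, nat_lit 4, nat_lit 1, nat_lit 2, nat_lit 3, nat_lit 8, nat_lit 0, nat_lit 1, nat_lit 2, nat_lit 3, nat_lit 4, nat_lit 5, nat_lit 3, nat_lit 2, nat_lit 1, nat_lit 9, nat_lit 4, nat_lit 3, nat_lit 2, nat_lit 8, nat_lit 3, nat_lit 9, nat_lit 12, nat_lit 15, nat_lit 16, nat_lit 8, nat_lit 19, nat_lit 16] (Rl.cmp (nat_lit 5814)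 (nat_lit 6001)))))) (FT.node (nat_lit 6004) (FT.leaf (Fct.mk false (nat_lit 36) (nat_lit 0) (nat_lit 36) [nat_lit 1, nat_lit 2, nat_lit 3, nat_lit 8, nat_lit 6, nat_lit 4, nat_lit 5, nat_lit 3, nat_lit 4, nat_lit 2, nat_lit 3, nat_lit 8, nat_lit 1, nat_lit 2, nat_lit 3, nat_lit 4, nat_lit 5, nat_lit 3, nat_lit 2, nat_lit 1, nat_lit 9, nat_lit 4, nat_lit 3, nat_lit 2, nat_lit 8, nat_lit 3, nat_lit 10, nat_lit 9, nat_lit 2, nat_lit 8, nat_lit 16, nat_lit 14, nat_lit 17, nat_lit 18, nat_lit 16] (Rl.cmp (nat_lit 5806) (nat_lit 6002)))) (FT.node (nat_lit 6005) (FT.leaf (Fct.mk false (nat_lit 36) (nat_lit 0) (nat_lit 36) [nat_lit 8, nat_lit 6, nat_lit 5, nat_lit 2, nat_lit 3, nat_lit 4, nat_lit 1, nat_lit 2, nat_lit 3, nat_lit 8, nat_lit 0, nat_lit 1, nat_lit 2, nat_lit 3, nat_lit 4, nat_lit 5, nat_lit 1, nat_lit 9, nat_lit 4, nat_lit 3, nat_lit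 2, nat_lit 8, nat_lit 3, nat_lit 9, nat_lit 12, nat_lit 15, nat_lit 8, nat_lit 19, nat_lit 16] (Rl.cmp (nat_lit 5806) (nat_lit 6003)))) (FT.leaf (Fct.mk false (nat_lit 36) (nat_lit 0) (nat_lit 36) [nat_lit 8, nat_lit 5, nat_lit 3, nat_lit 4, nat_lit 2, nat_lit 3, nat_lit 8, nat_lit 1, nat_lit 2, nat_lit 3, nat_lit 4, nat_lit 5, nat_lit 9, nat_lit 4, nat_lit 3, nat_lit 2, nat_lit 8, nat_lit 3, nat_lit 8, nat_lit 10, nat_lit 9, nat_lit 2, nat_lit 8, nat_lit 12, nat_lit 15, nat_lit 16, nat_lit 8, nat_lit 19, nat_lit 16] (Rl.cmp (nat_lit 5810) (nat_lit 6004))))))) (FT.node (nat_lit 6009) (FT.node (nat_lit 6007) (FT.leaf (Fct.mk false (nat_lit 36) (nat_lit 0) (nat_lit 36) [nat_lit 4, nat_lit 3, nat_lit 8, nat_lit 2, nat_lit 3, nat_lit 4, nat_lit 1, nat_lit 2, nat_lit 3, nat_lit 8, nat_lit 5, nat_lit 6, nat_lit 4, nat_lit 5, nat_lit 3, nat_lit 4,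 nat_lit 2, nat_lit 3, nat_lit 8, nat_lit 1, nat_lit 2, nat_lit 3, nat_lit 4, nat_lit 5, nat_lit 3, nat_lit 8, nat_lit 4, nat_lit 3, nat_lit 2, nat_lit 1, nat_lit 9, nat_lit 4, nat_lit 3, nat_lit 2, nat_lit 8, nat_lit 3, nat_lit 11, nat_lit 8, nat_lit 10, nat_lit 16, nat_lit 14, nat_lit 17, nat_lit 12, nat_lit 16] (Rl.cmp (nat_lit 5814) (nat_lit 6005)))) (FT.node (nat_lit 6008) (FT.leaf (Fct.mk false (nat_lit 36) (nat_lit 0) (nat_lit 36) [nat_lit 6, nat_lit 2, nat_lit 3, nat_lit 11, nat_lit 1, nat_lit 16, nat_lit 14, nat_lit 13, nat_lit 16] (Rl.cmp (nat_lit 5804) (nat_lit 5810)))) (FT.leaf (Fct.mk false (nat_lit 36) (nat_lit 0) (nat_lit 36) [nat_lit 6, nat_lit 1, nat_lit 2, nat_lit 3, nat_lit 11, nat_lit 16, nat_lit 12, nat_lit 15, nat_lit 14, nat_lit 13, nat_lit 12] (Rl.cmp (nat_lit 5806) (nat_lit 6007)))))) (FT.node (nat_lit 6010) (FT.leaf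 (Fct.mk false (nat_lit 36) (nat_lit 0) (nat_lit 36) [nat_lit 2, nat_lit 3, nat_lit 4, nat_lit 5, nat_lit 2, nat_lit 3, nat_lit 11, nat_lit 10, nat_lit 16, nat_lit 12, nat_lit 15, nat_lit 14, nat_lit 13, nat_lit 12, nat_lit 16] (Rl.cmp (nat_lit 5810) (nat_lit 6008)))) (FT.node (nat_lit 6011) (FT.leaf (Fct.mk false (nat_lit 36) (nat_lit 0) (nat_lit 36) [nat_lit 6, nat_lit 5, nat_lit 4, nat_lit 1, nat_lit 2, nat_lit 3, nat_lit 8, nat_lit 0, nat_lit 1, nat_lit 2, nat_lit 3, nat_lit 4, nat_lit 5, nat_lit 1, nat_lit 9, nat_lit 4, nat_lit 3, nat_lit 2, nat_lit 8, nat_lit 3, nat_lit 10, nat_lit 9, nat_lit 2, nat_lit 16, nat_lit 15, nat_lit 14, nat_lit 16, nat_lit 8, nat_lit 18, nat_lit 16] (Rl.cmp (nat_lit 5814) (nat_lit 6009)))) (FT.leaf (Fct.mk true (nat_lit 32) (nat_lit 647) (nat_lit 36) [nat_lit 3, nat_lit 8, nat_lit 5, nat_lit 2, nat_lit 3, nat_lit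 4, nat_lit 1, nat_lit 2, nat_lit 3, nat_lit 8, nat_lit 6, nat_lit 7, nat_lit 5, nat_lit 6, nat_lit 4, nat_lit 5, nat_lit 3, nat_lit 4, nat_lit 2, nat_lit 3, nat_lit 8, nat_lit 1, nat_lit 2, nat_lit 3, nat_lit 4, nat_lit 5, nat_lit 6, nat_lit 7, nat_lit 5, nat_lit 3, nat_lit 4, nat_lit 2, nat_lit 3, nat_lit 8, nat_lit 0, nat_lit 1, nat_lit 2, nat_lit 3, nat_lit 4, nat_lit 5, nat_lit 1, nat_lit 3, nat_lit 2, nat_lit 0, nat_lit 1, nat_lit 4, nat_lit 3, nat_lit 2, nat_lit 8, nat_lit 3, nat_lit 9, nat_lit 2, nat_lit 15, nat_lit 14, nat_lit 13, nat_lit 12, nat_lit 19] (Rl.rel (nat_lit 0) [nat_lit 8, nat_lit 2, nat_lit 3, nat_lit 4, nat_lit 1, nat_lit 2, nat_lit 3, nat_lit 8, nat_lit 5, nat_lit 6, nat_lit 4, nat_lit 5, nat_lit 3, nat_lit 4, nat_lit 2, nat_lit 3, nat_lit 8, nat_lit 1, nat_lit 2, nat_lit 3, nat_lit 4, nat_lit 5, nat_lit 6, nat_lit 7,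 nat_lit 4, nat_lit 5, nat_lit 2, nat_lit 3, nat_lit 4, nat_lit 1, nat_lit 2, nat_lit 3, nat_lit 8, nat_lit 0, nat_lit 1, nat_lit 2, nat_lit 3, nat_lit 4, nat_lit 5, nat_lit 2, nat_lit 1, nat_lit 4, nat_lit 3, nat_lit 2, nat_lit 8, nat_lit 3, nat_lit 8, nat_lit 10, nat_lit 1, nat_lit 12, nat_lit 15, nat_lit 12, nat_lit 18] (nat_lit 36) (nat_lit 2) [nat_lit 5960, nat_lit 6006, nat_lit 5925] []))))))) (FT.node (nat_lit 6018) (FT.node (nat_lit 6015) (FT.node (nat_lit 6013) (FT.leaf (Fct.mk true (nat_lit 36) (nat_lit 118764) (nat_lit 32) [nat_lit 5, nat_lit 4, nat_lit 3, nat_lit 8, nat_lit 6, nat_lit 7, nat_lit 5, nat_lit 6, nat_lit 4, nat_lit 5, nat_lit 3, nat_lit 4, nat_lit 2, nat_lit 3, nat_lit 8, nat_lit 1, nat_lit 2, nat_lit 3, nat_lit 4, nat_lit 5, nat_lit 6, nat_lit 7, nat_lit 1, nat_lit 2, nat_lit 3, nat_lit 4, nat_lit 5, nat_lit 1, nat_lit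 4, nat_lit 3, nat_lit 2, nat_lit 0, nat_lit 1, nat_lit 9, nat_lit 4, nat_lit 3, nat_lit 2, nat_lit 8, nat_lit 3, nat_lit 8, nat_lit 16, nat_lit 14, nat_lit 17, nat_lit 19, nat_lit 16] (Rl.inv (nat_lit 6011)))) (FT.node (nat_lit 6014) (FT.leaf (Fct.mk true (nat_lit 36) (nat_lit 3252) (nat_lit 32) [nat_lit 3, nat_lit 8, nat_lit 6, nat_lit 7, nat_lit 5, nat_lit 6, nat_lit 4, nat_lit 5, nat_lit 3, nat_lit 4, nat_lit 2, nat_lit 3, nat_lit 8, nat_lit 0, nat_lit 1, nat_lit 2, nat_lit 3, nat_lit 4, nat_lit 5, nat_lit 6, nat_lit 7, nat_lit 2, nat_lit 3, nat_lit 8, nat_lit 1, nat_lit 2, nat_lit 3, nat_lit 4, nat_lit 5, nat_lit 8, nat_lit 3, nat_lit 2, nat_lit 1, nat_lit 4, nat_lit 3, nat_lit 2, nat_lit 8, nat_lit 3, nat_lit 11, nat_lit 13] (Rl.t1 (nat_lit 6012) (nat_lit 6010)))) (FT.leaf (Fct.mk false (nat_lit 36) (nat_lit 0) (nat_lit 36) [nat_lit 1,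 nat_lit 2, nat_lit 3, nat_lit 14] (Rl.cmp (nat_lit 5806) (nat_lit 5806)))))) (FT.node (nat_lit 6016) (FT.leaf (Fct.mk false (nat_lit 36) (nat_lit 0) (nat_lit 36) [nat_lit 1, nat_lit 2, nat_lit 3, nat_lit 4, nat_lit 5, nat_lit 4, nat_lit 2, nat_lit 10, nat_lit 1, nat_lit 12] (Rl.cmp (nat_lit 5806) (nat_lit 5804)))) (FT.node (nat_lit 6017) (FT.leaf (Fct.mk false (nat_lit 36) (nat_lit 0) (nat_lit 36) [nat_lit 3, nat_lit 4, nat_lit 5, nat_lit 9, nat_lit 4, nat_lit 10, nat_lit 1, nat_lit 16, nat_lit 12, nat_lit 15, nat_lit 14, nat_lit 16] (Rl.cmp (nat_lit 5810) (nat_lit 6015)))) (FT.leaf (Fct.mk false (nat_lit 36) (nat_lit 0) (nat_lit 36) [nat_lit 5, nat_lit 6, nat_lit 4, nat_lit 5, nat_lit 3, nat_lit 4, nat_lit 1, nat_lit 2, nat_lit 3, nat_lit 8, nat_lit 0, nat_lit 1, nat_lit 2, nat_lit 3, nat_lit 4, nat_lit 5, nat_lit 3, nat_lit 2, nat_lit 1,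 nat_lit 8, nat_lit 3, nat_lit 2, nat_lit 0, nat_lit 1, nat_lit 9, nat_lit 4, nat_lit 3, nat_lit 2, nat_lit 8, nat_lit 3, nat_lit 10, nat_lit 9, nat_lit 2, nat_lit 8, nat_lit 12, nat_lit 15, nat_lit 14, nat_lit 8] (Rl.cmp (nat_lit 5814) (nat_lit 6016))))))) (FT.node (nat_lit 6021) (FT.node (nat_lit 6019) (FT.leaf (Fct.mk false (nat_lit 36) (nat_lit 0) (nat_lit 36) [nat_lit 5, nat_lit 6, nat_lit 4, nat_lit 5, nat_lit 3, nat_lit 4, nat_lit 2, nat_lit 3, nat_lit 8, nat_lit 0, nat_lit 1, nat_lit 2, nat_lit 3, nat_lit 4, nat_lit 5, nat_lit 2, nat_lit 1, nat_lit 8, nat_lit 3, nat_lit 2, nat_lit 0, nat_lit 1, nat_lit 9, nat_lit 4, nat_lit 3, nat_lit 2, nat_lit 8, nat_lit 3, nat_lit 10, nat_lit 1, nat_lit 8, nat_lit 16, nat_lit 14, nat_lit 17, nat_lit 19] (Rl.cmp (nat_lit 5806) (nat_lit 6017)))) (FT.node (nat_lit 6020) (FT.leaf (Fct.mk false (nat_lit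 36) (nat_lit 0) (nat_lit 36) [nat_lit 6, nat_lit 5, nat_lit 4, nat_lit 1, nat_lit 2, nat_lit 3, nat_lit 8, nat_lit 0, nat_lit 1, nat_lit 2, nat_lit 3, nat_lit 4, nat_lit 5, nat_lit 4, nat_lit 3, nat_lit 2, nat_lit 1, nat_lit 8, nat_lit 3, nat_lit 2, nat_lit 0, nat_lit 1, nat_lit 4, nat_lit 3, nat_lit 2, nat_lit 8, nat_lit 3, nat_lit 10, nat_lit 16, nat_lit 8, nat_lit 12, nat_lit 15, nat_lit 13] (Rl.cmp (nat_lit 5814) (nat_lit 5804)))) (FT.leaf (Fct.mk false (nat_lit 36) (nat_lit 0) (nat_lit 36) [nat_lit 6, nat_lit 5, nat_lit 4, nat_lit 3, nat_lit 8, nat_lit 2, nat_lit 3, nat_lit 4, nat_lit 5, nat_lit 2, nat_lit 1, nat_lit 4, nat_lit 3, nat_lit 2, nat_lit 0, nat_lit 1, nat_lit 9, nat_lit 4, nat_lit 3, nat_lit 2, nat_lit 8, nat_lit 3, nat_lit 8, nat_lit 10, nat_lit 9, nat_lit 2, nat_lit 12, nat_lit 8, nat_lit 16, nat_lit 14] (Rl.cmp (nat_lit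 5804) (nat_lit 6019)))))) (FT.node (nat_lit 6023) (FT.node (nat_lit 6022) (FT.leaf (Fct.mk false (nat_lit 36) (nat_lit 0) (nat_lit 36) [nat_lit 2, nat_lit 3, nat_lit 8, nat_lit 5, nat_lit 6, nat_lit 4, nat_lit 5, nat_lit 3, nat_lit 4, nat_lit 2, nat_lit 3, nat_lit 8, nat_lit 0, nat_lit 1, nat_lit 2, nat_lit 3, nat_lit 4, nat_lit 5, nat_lit 2, nat_lit 3, nat_lit 8, nat_lit 4, nat_lit 3, nat_lit 2, nat_lit 0, nat_lit 1, nat_lit 9, nat_lit 4, nat_lit 3, nat_lit 2, nat_lit 8, nat_lit 3, nat_lit 1, nat_lit 9, nat_lit 16, nat_lit 12, nat_lit 15, nat_lit 14, nat_lit 13, nat_lit 18] (Rl.cmp (nat_lit 5814) (nat_lit 6020)))) (FT.leaf (Fct.mk false (nat_lit 36) (nat_lit 0) (nat_lit 36) [nat_lit 4, nat_lit 3, nat_lit 8, nat_lit 5, nat_lit 6, nat_lit 4, nat_lit 5, nat_lit 3, nat_lit 4, nat_lit 2, nat_lit 3, nat_lit 8, nat_lit 0, nat_lit 1, nat_lit 2, nat_lit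 3, nat_lit 4, nat_lit 5, nat_lit 8, nat_lit 4, nat_lit 3, nat_lit 2, nat_lit 0, nat_lit 1, nat_lit 9, nat_lit 4, nat_lit 3, nat_lit 2, nat_lit 8, nat_lit 3, nat_lit 11, nat_lit 10, nat_lit 2, nat_lit 8, nat_lit 10, nat_lit 1, nat_lit 16, nat_lit 8, nat_lit 12, nat_lit 15, nat_lit 16, nat_lit 8, nat_lit 16] (Rl.cmp (nat_lit 5804) (nat_lit 6021))))) (FT.node (nat_lit 6024) (FT.leaf (Fct.mk false (nat_lit 36) (nat_lit 0) (nat_lit 36) [nat_lit 5, nat_lit 4, nat_lit 3, nat_lit 8, nat_lit 2, nat_lit 3, nat_lit 4, nat_lit 1, nat_lit 2, nat_lit 3, nat_lit 8, nat_lit 5, nat_lit 6, nat_lit 4, nat_lit 5, nat_lit 3, nat_lit 4, nat_lit 2, nat_lit 3, nat_lit 8, nat_lit 1, nat_lit 2, nat_lit 3, nat_lit 4, nat_lit 5, nat_lit 3, nat_lit 8, nat_lit 4, nat_lit 3, nat_lit 2, nat_lit 1, nat_lit 9, nat_lit 4, nat_lit 3, nat_lit 2, nat_lit 8, nat_lit 3, nat_lit 10,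 nat_lit 1, nat_lit 12, nat_lit 8, nat_lit 16, nat_lit 14, nat_lit 8, nat_lit 19] (Rl.cmp (nat_lit 5814) (nat_lit 6022)))) (FT.leaf (Fct.mk true (nat_lit 36) (nat_lit 91194) (nat_lit 36) [] (Rl.rel (nat_lit 0) [nat_lit 3, nat_lit 4, nat_lit 5, nat_lit 2, nat_lit 3, nat_lit 4, nat_lit 1, nat_lit 2, nat_lit 3, nat_lit 8, nat_lit 6, nat_lit 7, nat_lit 5, nat_lit 6, nat_lit 4, nat_lit 5, nat_lit 3, nat_lit 4, nat_lit 2, nat_lit 3, nat_lit 8, nat_lit 1, nat_lit 2, nat_lit 3, nat_lit 4, nat_lit 5, nat_lit 6, nat_lit 7, nat_lit 6, nat_lit 5, nat_lit 2, nat_lit 3, nat_lit 4, nat_lit 1, nat_lit 2, nat_lit 3, nat_lit 8, nat_lit 0, nat_lit 1, nat_lit 2, nat_lit 3, nat_lit 4, nat_lit 5, nat_lit 0, nat_lit 1, nat_lit 3, nat_lit 2, nat_lit 8, nat_lit 3, nat_lit 9, nat_lit 15, nat_lit 14, nat_lit 17, nat_lit 12, nat_lit 18, nat_lit 16] (nat_lit 36) (nat_lit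 1) [nat_lit 5960] [nat_lit 6023, nat_lit 5960])))))))) (FT.node (nat_lit 6037) (FT.node (nat_lit 6031) (FT.node (nat_lit 6028) (FT.node (nat_lit 6026) (FT.leaf (Fct.mk true (nat_lit 36) (nat_lit 14742) (nat_lit 36) [nat_lit 4, nat_lit 5, nat_lit 3, nat_lit 4, nat_lit 2, nat_lit 3, nat_lit 8, nat_lit 1, nat_lit 2, nat_lit 3, nat_lit 4, nat_lit 5, nat_lit 9, nat_lit 4, nat_lit 3, nat_lit 2, nat_lit 8, nat_lit 3, nat_lit 10, nat_lit 2, nat_lit 8, nat_lit 10, nat_lit 1, nat_lit 8, nat_lit 16, nat_lit 14, nat_lit 17, nat_lit 18] (Rl.t1 (nat_lit 6024) (nat_lit 6018)))) (FT.node (nat_lit 6027) (FT.leaf (Fct.mk false (nat_lit 36) (nat_lit 0) (nat_lit 36) [nat_lit 4, nat_lit 1, nat_lit 2, nat_lit 3, nat_lit 8, nat_lit 0, nat_lit 1, nat_lit 2, nat_lit 3, nat_lit 4, nat_lit 5, nat_lit 2, nat_lit 1, nat_lit 3, nat_lit 2, nat_lit 0, nat_lit 1, nat_lit 4,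 nat_lit 3, nat_lit 2, nat_lit 8, nat_lit 3, nat_lit 11, nat_lit 8, nat_lit 10, nat_lit 1, nat_lit 8, nat_lit 16, nat_lit 14, nat_lit 17, nat_lit 19] (Rl.cmp (nat_lit 5806) (nat_lit 5814)))) (FT.leaf (Fct.mk false (nat_lit 36) (nat_lit 0) (nat_lit 36) [nat_lit 3, nat_lit 8, nat_lit 2, nat_lit 3, nat_lit 4, nat_lit 5, nat_lit 3, nat_lit 2, nat_lit 1, nat_lit 8, nat_lit 3, nat_lit 2, nat_lit 0, nat_lit 1, nat_lit 4, nat_lit 3, nat_lit 2, nat_lit 8, nat_lit 3, nat_lit 11, nat_lit 10, nat_lit 1, nat_lit 16, nat_lit 15, nat_lit 14, nat_lit 17, nat_lit 19] (Rl.cmp (nat_lit 5806) (nat_lit 6026)))))) (FT.node (nat_lit 6029) (FT.leaf (Fct.mk false (nat_lit 36) (nat_lit 0) (nat_lit 36) [nat_lit 4, nat_lit 1, nat_lit 2, nat_lit 3, nat_lit 8, nat_lit 0, nat_lit 1, nat_lit 2, nat_lit 3, nat_lit 4, nat_lit 5, nat_lit 2, nat_lit 1, nat_lit 3, nat_lit 2, nat_lit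 0, nat_lit 1, nat_lit 4, nat_lit 3, nat_lit 2, nat_lit 8, nat_lit 3, nat_lit 11, nat_lit 8, nat_lit 10, nat_lit 1, nat_lit 8, nat_lit 16, nat_lit 14, nat_lit 17, nat_lit 19] (Rl.cmp (nat_lit 5806) (nat_lit 5814)))) (FT.node (nat_lit 6030) (FT.leaf (Fct.mk false (nat_lit 36) (nat_lit 0) (nat_lit 36) [nat_lit 2, nat_lit 3, nat_lit 8, nat_lit 4, nat_lit 5, nat_lit 3, nat_lit 4, nat_lit 2, nat_lit 3, nat_lit 8, nat_lit 0, nat_lit 1, nat_lit 2, nat_lit 3, nat_lit 4, nat_lit 5, nat_lit 2, nat_lit 1, nat_lit 4, nat_lit 3, nat_lit 2, nat_lit 0, nat_lit 1, nat_lit 9, nat_lit 4, nat_lit 3, nat_lit 2, nat_lit 8, nat_lit 3, nat_lit 11, nat_lit 2, nat_lit 8, nat_lit 10, nat_lit 1, nat_lit 12, nat_lit 8, nat_lit 16, nat_lit 14, nat_lit 8, nat_lit 18, nat_lit 16] (Rl.cmp (nat_lit 5814) (nat_lit 6028)))) (FT.leaf (Fct.mk false (nat_lit 36) (nat_lit 0) (nat_lit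 36) [nat_lit 3, nat_lit 4, nat_lit 2, nat_lit 3, nat_lit 8, nat_lit 5, nat_lit 6, nat_lit 4, nat_lit 5, nat_lit 3, nat_lit 4, nat_lit 2, nat_lit 3, nat_lit 8, nat_lit 0, nat_lit 1, nat_lit 2, nat_lit 3, nat_lit 4, nat_lit 5, nat_lit 1, nat_lit 8, nat_lit 4, nat_lit 3, nat_lit 2, nat_lit 0, nat_lit 1, nat_lit 9, nat_lit 4, nat_lit 3, nat_lit 2, nat_lit 8, nat_lit 3, nat_lit 10, nat_lit 12, nat_lit 8, nat_lit 16, nat_lit 14, nat_lit 17, nat_lit 18] (Rl.cmp (nat_lit 5810) (nat_lit 6029))))))) (FT.node (nat_lit 6034) (FT.node (nat_lit 6032) (FT.leaf (Fct.mk false (nat_lit 36) (nat_lit 0) (nat_lit 36) [nat_lit 6, nat_lit 5, nat_lit 4, nat_lit 3, nat_lit 8, nat_lit 2, nat_lit 3, nat_lit 4, nat_lit 1, nat_lit 2, nat_lit 3, nat_lit 8, nat_lit 5, nat_lit 6, nat_lit 4, nat_lit 5, nat_lit 3, nat_lit 4, nat_lit 2, nat_lit 3, nat_lit 8, nat_lit 1, nat_lit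 2, nat_lit 3, nat_lit 4, nat_lit 5, nat_lit 2, nat_lit 3, nat_lit 8, nat_lit 4, nat_lit 3, nat_lit 2, nat_lit 1, nat_lit 9, nat_lit 4, nat_lit 3, nat_lit 2, nat_lit 8, nat_lit 3, nat_lit 15, nat_lit 14, nat_lit 17, nat_lit 12, nat_lit 19, nat_lit 16] (Rl.cmp (nat_lit 5814) (nat_lit 6030)))) (FT.node (nat_lit 6033) (FT.leaf (Fct.mk false (nat_lit 36) (nat_lit 0) (nat_lit 36) [nat_lit 6, nat_lit 5, nat_lit 4, nat_lit 3, nat_lit 8, nat_lit 2, nat_lit 3, nat_lit 4, nat_lit 1, nat_lit 2, nat_lit 3, nat_lit 8, nat_lit 5, nat_lit 6, nat_lit 4, nat_lit 5, nat_lit 3, nat_lit 4, nat_lit 2, nat_lit 3, nat_lit 8, nat_lit 1, nat_lit 2, nat_lit 3, nat_lit 4, nat_lit 5, nat_lit 3, nat_lit 8, nat_lit 4, nat_lit 3, nat_lit 2, nat_lit 1, nat_lit 9, nat_lit 4, nat_lit 3, nat_lit 2, nat_lit 8, nat_lit 3, nat_lit 2, nat_lit 10, nat_lit 1, nat_lit 12, nat_lit 8,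 nat_lit 16, nat_lit 14, nat_lit 8, nat_lit 19] (Rl.cmp (nat_lit 5804) (nat_lit 6031)))) (FT.leaf (Fct.mk false (nat_lit 36) (nat_lit 0) (nat_lit 36) [nat_lit 1, nat_lit 2, nat_lit 3, nat_lit 14] (Rl.cmp (nat_lit 5806) (nat_lit 5806)))))) (FT.node (nat_lit 6035) (FT.leaf (Fct.mk false (nat_lit 36) (nat_lit 0) (nat_lit 36) [nat_lit 2, nat_lit 3, nat_lit 4, nat_lit 5, nat_lit 2, nat_lit 3, nat_lit 10, nat_lit 12, nat_lit 15, nat_lit 14] (Rl.cmp (nat_lit 5804) (nat_lit 6033)))) (FT.node (nat_lit 6036) (FT.leaf (Fct.mk false (nat_lit 36) (nat_lit 0) (nat_lit 36) [nat_lit 1, nat_lit 2, nat_lit 3, nat_lit 4, nat_lit 5, nat_lit 3, nat_lit 10, nat_lit 1, nat_lit 14, nat_lit 12] (Rl.cmp (nat_lit 5806) (nat_lit 6034)))) (FT.leaf (Fct.mk false (nat_lit 36) (nat_lit 0) (nat_lit 36) [nat_lit 5, nat_lit 6, nat_lit 4, nat_lit 5, nat_lit 2, nat_lit 3, nat_lit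 4, nat_lit 1, nat_lit 2, nat_lit 3, nat_lit 8, nat_lit 0, nat_lit 1, nat_lit 2, nat_lit 3, nat_lit 4, nat_lit 5, nat_lit 3, nat_lit 2, nat_lit 8, nat_lit 3, nat_lit 10, nat_lit 0, nat_lit 16, nat_lit 15, nat_lit 14, nat_lit 16, nat_lit 8, nat_lit 18, nat_lit 16] (Rl.cmp (nat_lit 5814) (nat_lit 6035)))))))) (FT.node (nat_lit 6043) (FT.node (nat_lit 6040) (FT.node (nat_lit 6038) (FT.leaf (Fct.mk false (nat_lit 36) (nat_lit 0) (nat_lit 36) [nat_lit 3, nat_lit 4, nat_lit 1, nat_lit 2, nat_lit 3, nat_lit 8, nat_lit 5, nat_lit 6, nat_lit 4, nat_lit 5, nat_lit 3, nat_lit 4, nat_lit 2, nat_lit 3, nat_lit 8, nat_lit 1, nat_lit 2, nat_lit 3, nat_lit 4, nat_lit 5, nat_lit 1, nat_lit 8, nat_lit 4, nat_lit 3, nat_lit 2, nat_lit 0, nat_lit 1, nat_lit 9, nat_lit 4, nat_lit 3, nat_lit 2, nat_lit 8, nat_lit 3, nat_lit 2, nat_lit 8, nat_lit 10, nat_lit 1, nat_lit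 12, nat_lit 8, nat_lit 16, nat_lit 14, nat_lit 18, nat_lit 16] (Rl.cmp (nat_lit 5814) (nat_lit 6036)))) (FT.node (nat_lit 6039) (FT.leaf (Fct.mk true (nat_lit 5) (nat_lit 116014) (nat_lit 36) [nat_lit 2, nat_lit 3, nat_lit 8, nat_lit 4, nat_lit 5, nat_lit 3, nat_lit 4, nat_lit 2, nat_lit 3, nat_lit 8, nat_lit 6, nat_lit 7, nat_lit 5, nat_lit 6, nat_lit 4, nat_lit 5, nat_lit 3, nat_lit 4, nat_lit 2, nat_lit 3, nat_lit 8, nat_lit 1, nat_lit 2, nat_lit 3, nat_lit 4, nat_lit 5, nat_lit 6, nat_lit 7, nat_lit 8, nat_lit 5, nat_lit 6, nat_lit 4, nat_lit 5, nat_lit 3, nat_lit 4, nat_lit 1, nat_lit 2, nat_lit 3, nat_lit 8, nat_lit 0, nat_lit 1, nat_lit 2, nat_lit 3, nat_lit 4, nat_lit 5, nat_lit 4, nat_lit 3, nat_lit 2, nat_lit 8, nat_lit 3, nat_lit 11, nat_lit 10, nat_lit 1, nat_lit 14, nat_lit 8, nat_lit 18] (Rl.rel (nat_lit 0) [nat_lit 3, nat_lit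 8, nat_lit 4, nat_lit 5, nat_lit 3, nat_lit 4, nat_lit 2, nat_lit 3, nat_lit 8, nat_lit 6, nat_lit 7, nat_lit 5, nat_lit 6, nat_lit 4, nat_lit 5, nat_lit 3, nat_lit 4, nat_lit 2, nat_lit 3, nat_lit 8, nat_lit 0, nat_lit 1, nat_lit 2, nat_lit 3, nat_lit 4, nat_lit 5, nat_lit 6, nat_lit 7, nat_lit 5, nat_lit 9, nat_lit 4, nat_lit 8, nat_lit 10, nat_lit 13] (nat_lit 36) (nat_lit 2) [nat_lit 6013, nat_lit 5680, nat_lit 3659] []))) (FT.leaf (Fct.mk true (nat_lit 5) (nat_lit 2267) (nat_lit 36) [nat_lit 2, nat_lit 3, nat_lit 8, nat_lit 4, nat_lit 5, nat_lit 3, nat_lit 4, nat_lit 2, nat_lit 3, nat_lit 8, nat_lit 6, nat_lit 7, nat_lit 5, nat_lit 6, nat_lit 4, nat_lit 5, nat_lit 3, nat_lit 4, nat_lit 2, nat_lit 3, nat_lit 8, nat_lit 1, nat_lit 2, nat_lit 3, nat_lit 4, nat_lit 5, nat_lit 6, nat_lit 7, nat_lit 8, nat_lit 4, nat_lit 3, nat_lit 2, nat_lit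 0, nat_lit 1, nat_lit 9, nat_lit 4, nat_lit 3, nat_lit 2, nat_lit 8, nat_lit 3, nat_lit 11, nat_lit 2, nat_lit 8, nat_lit 12, nat_lit 15, nat_lit 14, nat_lit 17, nat_lit 12, nat_lit 19, nat_lit 16] (Rl.t1 (nat_lit 6038) (nat_lit 4317)))))) (FT.node (nat_lit 6041) (FT.leaf (Fct.mk true (nat_lit 36) (nat_lit 39388) (nat_lit 5) [nat_lit 7, nat_lit 6, nat_lit 5, nat_lit 3, nat_lit 4, nat_lit 2, nat_lit 3, nat_lit 8, nat_lit 0, nat_lit 1, nat_lit 2, nat_lit 3, nat_lit 4, nat_lit 5, nat_lit 6, nat_lit 7, nat_lit 6, nat_lit 5, nat_lit 4, nat_lit 3, nat_lit 8, nat_lit 1, nat_lit 2, nat_lit 3, nat_lit 4, nat_lit 5, nat_lit 8, nat_lit 3, nat_lit 9, nat_lit 2, nat_lit 15, nat_lit 8, nat_lit 19, nat_lit 16] (Rl.inv (nat_lit 6039)))) (FT.node (nat_lit 6042) (FT.leaf (Fct.mk true (nat_lit 36) (nat_lit 14880) (nat_lit 5) [nat_lit 8, nat_lit 4, nat_lit 5,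 nat_lit 3, nat_lit 4, nat_lit 2, nat_lit 3, nat_lit 8, nat_lit 6, nat_lit 7, nat_lit 5, nat_lit 6, nat_lit 4, nat_lit 5, nat_lit 3, nat_lit 4, nat_lit 2, nat_lit 3, nat_lit 8, nat_lit 1, nat_lit 2, nat_lit 3, nat_lit 4, nat_lit 5, nat_lit 6, nat_lit 7, nat_lit 6, nat_lit 5, nat_lit 4, nat_lit 3, nat_lit 8, nat_lit 1, nat_lit 2, nat_lit 3, nat_lit 4, nat_lit 5, nat_lit 8, nat_lit 3, nat_lit 11, nat_lit 2, nat_lit 8, nat_lit 12, nat_lit 15, nat_lit 12, nat_lit 19] (Rl.t1 (nat_lit 6040) (nat_lit 6037)))) (FT.leaf (Fct.mk false (nat_lit 36) (nat_lit 0) (nat_lit 36) [nat_lit 2, nat_lit 3, nat_lit 4, nat_lit 5, nat_lit 2, nat_lit 3, nat_lit 10, nat_lit 12, nat_lit 15, nat_lit 14] (Rl.cmp (nat_lit 5804) (nat_lit 6014))))))) (FT.node (nat_lit 6046) (FT.node (nat_lit 6044) (FT.leaf (Fct.mk false (nat_lit 36) (nat_lit 0) (nat_lit 36) [nat_lit 1, nat_lit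 2, nat_lit 3, nat_lit 4, nat_lit 5, nat_lit 0, nat_lit 1, nat_lit 2, nat_lit 3, nat_lit 1, nat_lit 0, nat_lit 2] (Rl.cmp (nat_lit 5804) (nat_lit 6042)))) (FT.node (nat_lit 6045) (FT.leaf (Fct.mk false (nat_lit 36) (nat_lit 0) (nat_lit 36) [nat_lit 3, nat_lit 4, nat_lit 5, nat_lit 15] (Rl.cmp (nat_lit 5806) (nat_lit 6043)))) (FT.leaf (Fct.mk false (nat_lit 36) (nat_lit 0) (nat_lit 36) [nat_lit 0, nat_lit 1, nat_lit 2, nat_lit 3, nat_lit 4, nat_lit 5, nat_lit 9, nat_lit 2, nat_lit 14, nat_lit 16] (Rl.cmp (nat_lit 5810) (nat_lit 6044)))))) (FT.node (nat_lit 6048) (FT.node (nat_lit 6047) (FT.leaf (Fct.mk true (nat_lit 5) (nat_lit 116199) (nat_lit 36) [nat_lit 2, nat_lit 3, nat_lit 8, nat_lit 4, nat_lit 5, nat_lit 3, nat_lit 4, nat_lit 2, nat_lit 3, nat_lit 8, nat_lit 6, nat_lit 7, nat_lit 5, nat_lit 6, nat_lit 4, nat_lit 5, nat_lit 3, nat_lit 4,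 nat_lit 2, nat_lit 3, nat_lit 8, nat_lit 1, nat_lit 2, nat_lit 3, nat_lit 4, nat_lit 5, nat_lit 6, nat_lit 7, nat_lit 3, nat_lit 4, nat_lit 1, nat_lit 2, nat_lit 3, nat_lit 8, nat_lit 5, nat_lit 6, nat_lit 4, nat_lit 5, nat_lit 3, nat_lit 4, nat_lit 2, nat_lit 3, nat_lit 8, nat_lit 1, nat_lit 2, nat_lit 3, nat_lit 4, nat_lit 5, nat_lit 1, nat_lit 8, nat_lit 4, nat_lit 3, nat_lit 2, nat_lit 0, nat_lit 1, nat_lit 9, nat_lit 4, nat_lit 3, nat_lit 2, nat_lit 8, nat_lit 3, nat_lit 11, nat_lit 1, nat_lit 8, nat_lit 12, nat_lit 15, nat_lit 16, nat_lit 8, nat_lit 18, nat_lit 16] (Rl.rel (nat_lit 0) [nat_lit 2, nat_lit 3, nat_lit 8, nat_lit 4, nat_lit 5, nat_lit 3, nat_lit 4, nat_lit 2, nat_lit 3, nat_lit 8, nat_lit 6, nat_lit 7, nat_lit 5, nat_lit 6, nat_lit 4, nat_lit 5, nat_lit 3, nat_lit 4, nat_lit 2, nat_lit 3, nat_lit 8, nat_lit 0, nat_lit 1,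 nat_lit 2, nat_lit 3, nat_lit 4, nat_lit 5, nat_lit 6, nat_lit 7, nat_lit 5, nat_lit 3, nat_lit 2, nat_lit 1, nat_lit 8, nat_lit 3, nat_lit 2, nat_lit 0, nat_lit 1, nat_lit 9, nat_lit 4, nat_lit 3, nat_lit 2, nat_lit 8, nat_lit 3, nat_lit 10, nat_lit 0, nat_lit 8, nat_lit 12, nat_lit 15, nat_lit 14, nat_lit 17, nat_lit 12, nat_lit 19, nat_lit 16] (nat_lit 36) (nat_lit 2) [nat_lit 6013, nat_lit 3659] []))) (FT.leaf (Fct.mk true (nat_lit 5) (nat_lit 34) (nat_lit 36) [nat_lit 4, nat_lit 3, nat_lit 8, nat_lit 2, nat_lit 3, nat_lit 4, nat_lit 1, nat_lit 2, nat_lit 3, nat_lit 8, nat_lit 6, nat_lit 7, nat_lit 5, nat_lit 6, nat_lit 4, nat_lit 5, nat_lit 3, nat_lit 4, nat_lit 2, nat_lit 3, nat_lit 8, nat_lit 1, nat_lit 2, nat_lit 3, nat_lit 4, nat_lit 5, nat_lit 6, nat_lit 7, nat_lit 3, nat_lit 8, nat_lit 2, nat_lit 3, nat_lit 4, nat_lit 1, nat_lit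 2, nat_lit 3, nat_lit 8, nat_lit 0, nat_lit 1, nat_lit 2, nat_lit 3, nat_lit 4, nat_lit 5, nat_lit 3, nat_lit 2, nat_lit 1, nat_lit 9, nat_lit 4, nat_lit 3, nat_lit 2, nat_lit 8, nat_lit 3, nat_lit 10, nat_lit 9, nat_lit 2, nat_lit 15, nat_lit 14, nat_lit 16, nat_lit 8, nat_lit 16] (Rl.t1 (nat_lit 6046) (nat_lit 4319))))) (FT.node (nat_lit 6049) (FT.leaf (Fct.mk true (nat_lit 36) (nat_lit 9715) (nat_lit 5) [nat_lit 7, nat_lit 6, nat_lit 5, nat_lit 3, nat_lit 4, nat_lit 2, nat_lit 3, nat_lit 8, nat_lit 0, nat_lit 1, nat_lit 2, nat_lit 3, nat_lit 4, nat_lit 5, nat_lit 6, nat_lit 7, nat_lit 6, nat_lit 5, nat_lit 3, nat_lit 4, nat_lit 1, nat_lit 2, nat_lit 3, nat_lit 8, nat_lit 0, nat_lit 1, nat_lit 2, nat_lit 3, nat_lit 4, nat_lit 5, nat_lit 3, nat_lit 9, nat_lit 12, nat_lit 15, nat_lit 14, nat_lit 12, nat_lit 19, nat_lit 16] (Rl.inv (nat_lit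 6047)))) (FT.leaf (Fct.mk true (nat_lit 36) (nat_lit 4785) (nat_lit 5) [nat_lit 7, nat_lit 6, nat_lit 5, nat_lit 4, nat_lit 3, nat_lit 8, nat_lit 1, nat_lit 2, nat_lit 3, nat_lit 4, nat_lit 5, nat_lit 6, nat_lit 7, nat_lit 4, nat_lit 5, nat_lit 3, nat_lit 4, nat_lit 1, nat_lit 2, nat_lit 3, nat_lit 8, nat_lit 0, nat_lit 1, nat_lit 2, nat_lit 3, nat_lit 4, nat_lit 5, nat_lit 1, nat_lit 2, nat_lit 3, nat_lit 10, nat_lit 16, nat_lit 12, nat_lit 15, nat_lit 14, nat_lit 12, nat_lit 19, nat_lit 16] (Rl.t1 (nat_lit 6048) (nat_lit 6045)))))))))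

/-- some facts -/
noncomputable def ftc121 : FT := FT.node (nat_lit 6075) (FT.node (nat_lit 6062) (FT.node (nat_lit 6056) (FT.node (nat_lit 6053) (FT.node (nat_lit 6051) (FT.leaf (Fct.mk true (nat_lit 5) (nat_lit 1128) (nat_lit 36) [nat_lit 2, nat_lit 3, nat_lit 8, nat_lit 4, nat_lit 5, nat_lit 3, nat_lit 4, nat_lit 2, nat_lit 3, nat_lit 8, nat_lit 6, nat_lit 7, nat_lit 5, nat_lit 6, nat_lit 4, nat_lit 5, nat_lit 3, nat_lit 4, nat_lit 2, nat_lit 3, nat_lit 8, nat_lit 1, nat_lit 2, nat_lit 3, nat_lit 4, nat_lit 5, nat_lit 6, nat_lit 7, nat_lit 6, nat_lit 5, nat_lit 3, nat_lit 4, nat_lit 2, nat_lit 3, nat_lit 8, nat_lit 0, nat_lit 1, nat_lit 2, nat_lit 3, nat_lit 4, nat_lit 5, nat_lit 1, nat_lit 9, nat_lit 4, nat_lit 3, nat_lit 2, nat_lit 8, nat_lit 3, nat_lit 10, nat_lit 15, nat_lit 14, nat_lit 13, nat_lit 12] (Rl.rel (nat_lit 0) [nat_lit 3,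 nat_lit 8, nat_lit 5, nat_lit 2, nat_lit 3, nat_lit 4, nat_lit 1, nat_lit 2, nat_lit 3, nat_lit 8, nat_lit 6, nat_lit 7, nat_lit 5, nat_lit 6, nat_lit 4, nat_lit 5, nat_lit 3, nat_lit 4, nat_lit 2, nat_lit 3, nat_lit 8, nat_lit 1, nat_lit 2, nat_lit 3, nat_lit 4, nat_lit 5, nat_lit 6, nat_lit 7, nat_lit 4, nat_lit 3, nat_lit 2, nat_lit 1, nat_lit 8, nat_lit 3, nat_lit 2, nat_lit 0, nat_lit 1, nat_lit 4, nat_lit 3, nat_lit 2, nat_lit 8, nat_lit 3, nat_lit 10, nat_lit 8, nat_lit 12, nat_lit 15, nat_lit 14, nat_lit 17, nat_lit 19] (nat_lit 36) (nat_lit 2) [nat_lit 6013, nat_lit 4120] []))) (FT.node (nat_lit 6052) (FT.leaf (Fct.mk true (nat_lit 36) (nat_lit 5861) (nat_lit 5) [nat_lit 3, nat_lit 4, nat_lit 2, nat_lit 3, nat_lit 8, nat_lit 7, nat_lit 5, nat_lit 6, nat_lit 4, nat_lit 5, nat_lit 3, nat_lit 4, nat_lit 2, nat_lit 3, nat_lit 8, nat_lit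 1, nat_lit 2, nat_lit 3, nat_lit 4, nat_lit 5, nat_lit 6, nat_lit 7, nat_lit 1, nat_lit 2, nat_lit 3, nat_lit 4, nat_lit 5, nat_lit 4, nat_lit 3, nat_lit 2, nat_lit 1, nat_lit 8, nat_lit 3, nat_lit 2, nat_lit 0, nat_lit 1, nat_lit 4, nat_lit 3, nat_lit 2, nat_lit 8, nat_lit 3, nat_lit 11, nat_lit 2, nat_lit 12, nat_lit 8, nat_lit 16, nat_lit 14, nat_lit 17, nat_lit 12, nat_lit 16] (Rl.inv (nat_lit 6050)))) (FT.leaf (Fct.mk true (nat_lit 36) (nat_lit 5517) (nat_lit 5) [nat_lit 3, nat_lit 4, nat_lit 2, nat_lit 3, nat_lit 8, nat_lit 6, nat_lit 7, nat_lit 5, nat_lit 6, nat_lit 4, nat_lit 5, nat_lit 3, nat_lit 4, nat_lit 2, nat_lit 3, nat_lit 8, nat_lit 1, nat_lit 2, nat_lit 3, nat_lit 4, nat_lit 5, nat_lit 6, nat_lit 7, nat_lit 1, nat_lit 2, nat_lit 3, nat_lit 4, nat_lit 5, nat_lit 3, nat_lit 2, nat_lit 1, nat_lit 8, nat_lit 3, nat_lit 2, nat_lit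 0, nat_lit 1, nat_lit 4, nat_lit 3, nat_lit 2, nat_lit 8, nat_lit 3, nat_lit 2, nat_lit 10, nat_lit 1, nat_lit 8, nat_lit 12, nat_lit 15, nat_lit 13, nat_lit 12, nat_lit 19] (Rl.t1 (nat_lit 6051) (nat_lit 6032)))))) (FT.node (nat_lit 6054) (FT.leaf (Fct.mk true (nat_lit 25) (nat_lit 112753) (nat_lit 36) [nat_lit 5, nat_lit 6, nat_lit 7, nat_lit 4, nat_lit 5, nat_lit 6, nat_lit 3, nat_lit 4, nat_lit 5, nat_lit 2, nat_lit 3, nat_lit 4, nat_lit 1, nat_lit 2, nat_lit 3, nat_lit 8, nat_lit 0, nat_lit 1, nat_lit 2, nat_lit 3, nat_lit 4, nat_lit 5, nat_lit 6, nat_lit 7, nat_lit 1, nat_lit 2, nat_lit 3, nat_lit 4, nat_lit 5, nat_lit 2, nat_lit 8, nat_lit 3, nat_lit 10, nat_lit 8, nat_lit 19] (Rl.rel (nat_lit 0) [nat_lit 3, nat_lit 8, nat_lit 2, nat_lit 3, nat_lit 4, nat_lit 1, nat_lit 2, nat_lit 3, nat_lit 8, nat_lit 6, nat_lit 7, nat_lit 5, nat_lit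 6, nat_lit 4, nat_lit 5, nat_lit 3, nat_lit 4, nat_lit 2, nat_lit 3, nat_lit 8, nat_lit 1, nat_lit 2, nat_lit 3, nat_lit 4, nat_lit 5, nat_lit 6, nat_lit 7, nat_lit 2, nat_lit 1, nat_lit 3, nat_lit 2, nat_lit 0, nat_lit 1, nat_lit 4, nat_lit 3, nat_lit 2, nat_lit 8, nat_lit 3, nat_lit 10, nat_lit 0, nat_lit 8, nat_lit 12, nat_lit 15, nat_lit 14, nat_lit 17, nat_lit 12, nat_lit 19, nat_lit 16] (nat_lit 36) (nat_lit 2) [nat_lit 6013, nat_lit 4342, nat_lit 3447] []))) (FT.node (nat_lit 6055) (FT.leaf (Fct.mk true (nat_lit 25) (nat_lit 3515) (nat_lit 36) [nat_lit 8, nat_lit 4, nat_lit 5, nat_lit 3, nat_lit 4, nat_lit 1, nat_lit 2, nat_lit 3, nat_lit 8, nat_lit 6, nat_lit 7, nat_lit 5, nat_lit 6, nat_lit 4, nat_lit 5, nat_lit 3, nat_lit 4, nat_lit 2, nat_lit 3, nat_lit 8, nat_lit 1, nat_lit 2, nat_lit 3, nat_lit 4, nat_lit 5, nat_lit 6, nat_lit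 7, nat_lit 8, nat_lit 3, nat_lit 4, nat_lit 2, nat_lit 3, nat_lit 8, nat_lit 5, nat_lit 6, nat_lit 4, nat_lit 5, nat_lit 3, nat_lit 4, nat_lit 2, nat_lit 3, nat_lit 8, nat_lit 1, nat_lit 2, nat_lit 3, nat_lit 4, nat_lit 5, nat_lit 1, nat_lit 2, nat_lit 0, nat_lit 1, nat_lit 4, nat_lit 3, nat_lit 2, nat_lit 8, nat_lit 3, nat_lit 10, nat_lit 2, nat_lit 8, nat_lit 10, nat_lit 1, nat_lit 12, nat_lit 8, nat_lit 16, nat_lit 14, nat_lit 12] (Rl.t1 (nat_lit 6053) (nat_lit 4354)))) (FT.leaf (Fct.mk true (nat_lit 36) (nat_lit 23007) (nat_lit 25) [nat_lit 4, nat_lit 5, nat_lit 3, nat_lit 4, nat_lit 2, nat_lit 3, nat_lit 8, nat_lit 6, nat_lit 7, nat_lit 5, nat_lit 6, nat_lit 4, nat_lit 5, nat_lit 3, nat_lit 4, nat_lit 2, nat_lit 3, nat_lit 8, nat_lit 0, nat_lit 1, nat_lit 2, nat_lit 3, nat_lit 4, nat_lit 5, nat_lit 6, nat_lit 7, nat_lit 1, nat_lit 2, nat_lit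 3, nat_lit 4, nat_lit 5, nat_lit 0, nat_lit 1, nat_lit 4, nat_lit 3, nat_lit 2, nat_lit 8, nat_lit 3, nat_lit 1, nat_lit 15, nat_lit 17, nat_lit 16] (Rl.inv (nat_lit 6054))))))) (FT.node (nat_lit 6059) (FT.node (nat_lit 6057) (FT.leaf (Fct.mk true (nat_lit 36) (nat_lit 14608) (nat_lit 25) [nat_lit 3, nat_lit 8, nat_lit 7, nat_lit 5, nat_lit 6, nat_lit 4, nat_lit 5, nat_lit 3, nat_lit 4, nat_lit 2, nat_lit 3, nat_lit 8, nat_lit 0, nat_lit 1, nat_lit 2, nat_lit 3, nat_lit 4, nat_lit 5, nat_lit 6, nat_lit 7, nat_lit 8, nat_lit 6, nat_lit 5, nat_lit 3, nat_lit 4, nat_lit 2, nat_lit 3, nat_lit 8, nat_lit 0, nat_lit 1, nat_lit 2, nat_lit 3, nat_lit 4, nat_lit 5, nat_lit 4, nat_lit 1, nat_lit 0, nat_lit 2, nat_lit 14, nat_lit 13, nat_lit 19] (Rl.t1 (nat_lit 6055) (nat_lit 6027)))) (FT.node (nat_lit 6058) (FT.leaf (Fct.mk false (nat_lit 36) (nat_lit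 0) (nat_lit 36) [nat_lit 4, nat_lit 1, nat_lit 2, nat_lit 3, nat_lit 8, nat_lit 0, nat_lit 1, nat_lit 2, nat_lit 3, nat_lit 4, nat_lit 5, nat_lit 2, nat_lit 1, nat_lit 3, nat_lit 2, nat_lit 0, nat_lit 1, nat_lit 4, nat_lit 3, nat_lit 2, nat_lit 8, nat_lit 3, nat_lit 11, nat_lit 8, nat_lit 10, nat_lit 1, nat_lit 8, nat_lit 16, nat_lit 14, nat_lit 17, nat_lit 19] (Rl.cmp (nat_lit 5806) (nat_lit 5814)))) (FT.leaf (Fct.mk false (nat_lit 36) (nat_lit 0) (nat_lit 36) [nat_lit 3, nat_lit 8, nat_lit 2, nat_lit 3, nat_lit 4, nat_lit 5, nat_lit 3, nat_lit 2, nat_lit 1, nat_lit 8, nat_lit 3, nat_lit 2, nat_lit 0, nat_lit 1, nat_lit 4, nat_lit 3, nat_lit 2, nat_lit 8, nat_lit 3, nat_lit 11, nat_lit 10, nat_lit 1, nat_lit 16, nat_lit 15, nat_lit 14, nat_lit 17, nat_lit 19] (Rl.cmp (nat_lit 5806) (nat_lit 6057)))))) (FT.node (nat_lit 6060) (FT.leaf (Fct.mk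 false (nat_lit 36) (nat_lit 0) (nat_lit 36) [nat_lit 4, nat_lit 5, nat_lit 2, nat_lit 3, nat_lit 4, nat_lit 1, nat_lit 2, nat_lit 3, nat_lit 8, nat_lit 0, nat_lit 1, nat_lit 2, nat_lit 3, nat_lit 4, nat_lit 5, nat_lit 4, nat_lit 3, nat_lit 2, nat_lit 1, nat_lit 8, nat_lit 3, nat_lit 2, nat_lit 0, nat_lit 1, nat_lit 4, nat_lit 3, nat_lit 2, nat_lit 8, nat_lit 3, nat_lit 11, nat_lit 8, nat_lit 10, nat_lit 1, nat_lit 16, nat_lit 14, nat_lit 17, nat_lit 19] (Rl.cmp (nat_lit 5804) (nat_lit 6058)))) (FT.node (nat_lit 6061) (FT.leaf (Fct.mk false (nat_lit 36) (nat_lit 0) (nat_lit 36) [nat_lit 3, nat_lit 4, nat_lit 5, nat_lit 9, nat_lit 4, nat_lit 9, nat_lit 2, nat_lit 16, nat_lit 14, nat_lit 16] (Rl.cmp (nat_lit 5806) (nat_lit 5970)))) (FT.leaf (Fct.mk true (nat_lit 35) (nat_lit 34) (nat_lit 36) [nat_lit 4, nat_lit 3, nat_lit 8, nat_lit 2, nat_lit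 3, nat_lit 4, nat_lit 1, nat_lit 2, nat_lit 3, nat_lit 8, nat_lit 6, nat_lit 7, nat_lit 5, nat_lit 6, nat_lit 4, nat_lit 5, nat_lit 3, nat_lit 4, nat_lit 2, nat_lit 3, nat_lit 8, nat_lit 1, nat_lit 2, nat_lit 3, nat_lit 4, nat_lit 5, nat_lit 6, nat_lit 7, nat_lit 6, nat_lit 5, nat_lit 4, nat_lit 2, nat_lit 3, nat_lit 8, nat_lit 0, nat_lit 1, nat_lit 2, nat_lit 3, nat_lit 4, nat_lit 5, nat_lit 9, nat_lit 4, nat_lit 11, nat_lit 2, nat_lit 8, nat_lit 16, nat_lit 15, nat_lit 14, nat_lit 17, nat_lit 18, nat_lit 16] (Rl.rel (nat_lit 0) [nat_lit 3, nat_lit 8, nat_lit 5, nat_lit 2, nat_lit 3, nat_lit 4, nat_lit 1, nat_lit 2, nat_lit 3, nat_lit 8, nat_lit 6, nat_lit 7, nat_lit 5, nat_lit 6, nat_lit 4, nat_lit 5, nat_lit 3, nat_lit 4, nat_lit 2, nat_lit 3, nat_lit 8, nat_lit 1, nat_lit 2, nat_lit 3, nat_lit 4, nat_lit 5, nat_lit 6, nat_lit 7, nat_lit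 8, nat_lit 6, nat_lit 5, nat_lit 2, nat_lit 3, nat_lit 4, nat_lit 1, nat_lit 2, nat_lit 3, nat_lit 8, nat_lit 0, nat_lit 1, nat_lit 2, nat_lit 3, nat_lit 4, nat_lit 5, nat_lit 4, nat_lit 10, nat_lit 8, nat_lit 12, nat_lit 15, nat_lit 14, nat_lit 8, nat_lit 18] (nat_lit 36) (nat_lit 2) [nat_lit 6049, nat_lit 5792] []))))))) (FT.node (nat_lit 6068) (FT.node (nat_lit 6065) (FT.node (nat_lit 6063) (FT.leaf (Fct.mk true (nat_lit 36) (nat_lit 86834) (nat_lit 35) [nat_lit 4, nat_lit 3, nat_lit 8, nat_lit 7, nat_lit 5, nat_lit 6, nat_lit 4, nat_lit 5, nat_lit 3, nat_lit 4, nat_lit 2, nat_lit 3, nat_lit 8, nat_lit 1, nat_lit 2, nat_lit 3, nat_lit 4, nat_lit 5, nat_lit 6, nat_lit 7, nat_lit 1, nat_lit 2, nat_lit 3, nat_lit 8, nat_lit 0, nat_lit 1, nat_lit 2, nat_lit 3, nat_lit 4, nat_lit 5, nat_lit 0, nat_lit 1, nat_lit 2, nat_lit 3, nat_lit 10, nat_lit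 0, nat_lit 16, nat_lit 12, nat_lit 15, nat_lit 14, nat_lit 12, nat_lit 19, nat_lit 16] (Rl.inv (nat_lit 6061)))) (FT.node (nat_lit 6064) (FT.leaf (Fct.mk true (nat_lit 36) (nat_lit 25487) (nat_lit 35) [nat_lit 2, nat_lit 3, nat_lit 4, nat_lit 1, nat_lit 2, nat_lit 3, nat_lit 8, nat_lit 7, nat_lit 5, nat_lit 6, nat_lit 4, nat_lit 5, nat_lit 3, nat_lit 4, nat_lit 2, nat_lit 3, nat_lit 8, nat_lit 1, nat_lit 2, nat_lit 3, nat_lit 4, nat_lit 5, nat_lit 6, nat_lit 7, nat_lit 6, nat_lit 5, nat_lit 4, nat_lit 3, nat_lit 8, nat_lit 2, nat_lit 3, nat_lit 4, nat_lit 5, nat_lit 2, nat_lit 0, nat_lit 1, nat_lit 3, nat_lit 2, nat_lit 8, nat_lit 3, nat_lit 8, nat_lit 10, nat_lit 1, nat_lit 14, nat_lit 19, nat_lit 16] (Rl.t1 (nat_lit 6062) (nat_lit 6000)))) (FT.leaf (Fct.mk false (nat_lit 36) (nat_lit 0) (nat_lit 36) [nat_lit 1, nat_lit 2, nat_lit 3, nat_lit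 4, nat_lit 5, nat_lit 2, nat_lit 3, nat_lit 2, nat_lit 10, nat_lit 1, nat_lit 15, nat_lit 12] (Rl.cmp (nat_lit 5806) (nat_lit 5997)))))) (FT.node (nat_lit 6066) (FT.leaf (Fct.mk false (nat_lit 36) (nat_lit 0) (nat_lit 36) [nat_lit 1, nat_lit 2, nat_lit 3, nat_lit 4, nat_lit 5, nat_lit 1, nat_lit 2, nat_lit 3, nat_lit 0, nat_lit 15] (Rl.cmp (nat_lit 5804) (nat_lit 5804)))) (FT.node (nat_lit 6067) (FT.leaf (Fct.mk false (nat_lit 36) (nat_lit 0) (nat_lit 36) [nat_lit 3, nat_lit 4, nat_lit 5, nat_lit 1, nat_lit 2, nat_lit 3, nat_lit 1, nat_lit 12, nat_lit 15, nat_lit 14] (Rl.cmp (nat_lit 5804) (nat_lit 6065)))) (FT.leaf (Fct.mk false (nat_lit 36) (nat_lit 0) (nat_lit 36) [nat_lit 0, nat_lit 1, nat_lit 2, nat_lit 3, nat_lit 4, nat_lit 5, nat_lit 2, nat_lit 3, nat_lit 10, nat_lit 1, nat_lit 15, nat_lit 12] (Rl.cmp (nat_lit 5804) (nat_lit 6066)))))))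 (FT.node (nat_lit 6071) (FT.node (nat_lit 6069) (FT.leaf (Fct.mk false (nat_lit 36) (nat_lit 0) (nat_lit 36) [nat_lit 4, nat_lit 5, nat_lit 0, nat_lit 1, nat_lit 2, nat_lit 3, nat_lit 10, nat_lit 14, nat_lit 12, nat_lit 16] (Rl.cmp (nat_lit 5810) (nat_lit 6067)))) (FT.node (nat_lit 6070) (FT.leaf (Fct.mk false (nat_lit 36) (nat_lit 0) (nat_lit 36) [nat_lit 5, nat_lit 4, nat_lit 1, nat_lit 2, nat_lit 3, nat_lit 8, nat_lit 0, nat_lit 1, nat_lit 2, nat_lit 3, nat_lit 4, nat_lit 5, nat_lit 2, nat_lit 1, nat_lit 3, nat_lit 2, nat_lit 0, nat_lit 1, nat_lit 4, nat_lit 3, nat_lit 2, nat_lit 8, nat_lit 3, nat_lit 0, nat_lit 16, nat_lit 15, nat_lit 14, nat_lit 17, nat_lit 19] (Rl.cmp (nat_lit 5814) (nat_lit 6068)))) (FT.leaf (Fct.mk false (nat_lit 36) (nat_lit 0) (nat_lit 36) [nat_lit 5, nat_lit 3, nat_lit 4, nat_lit 2, nat_lit 3, nat_lit 8, nat_lit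 0, nat_lit 1, nat_lit 2, nat_lit 3, nat_lit 4, nat_lit 5, nat_lit 4, nat_lit 3, nat_lit 2, nat_lit 1, nat_lit 8, nat_lit 3, nat_lit 2, nat_lit 0, nat_lit 1, nat_lit 4, nat_lit 3, nat_lit 2, nat_lit 8, nat_lit 3, nat_lit 1, nat_lit 16, nat_lit 14, nat_lit 17, nat_lit 19] (Rl.cmp (nat_lit 5806) (nat_lit 6069)))))) (FT.node (nat_lit 6073) (FT.node (nat_lit 6072) (FT.leaf (Fct.mk false (nat_lit 36) (nat_lit 0) (nat_lit 36) [nat_lit 5, nat_lit 6, nat_lit 4, nat_lit 5, nat_lit 2, nat_lit 3, nat_lit 4, nat_lit 1, nat_lit 2, nat_lit 3, nat_lit 8, nat_lit 0, nat_lit 1, nat_lit 2, nat_lit 3, nat_lit 4, nat_lit 5, nat_lit 3, nat_lit 2, nat_lit 1, nat_lit 8, nat_lit 3, nat_lit 2, nat_lit 0, nat_lit 1, nat_lit 9, nat_lit 4, nat_lit 3, nat_lit 2, nat_lit 8, nat_lit 3, nat_lit 8, nat_lit 10, nat_lit 0, nat_lit 12, nat_lit 19] (Rl.cmp (nat_lit 5814) (nat_lit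 5968)))) (FT.leaf (Fct.mk false (nat_lit 36) (nat_lit 0) (nat_lit 36) [nat_lit 6, nat_lit 1, nat_lit 2, nat_lit 3, nat_lit 1, nat_lit 0, nat_lit 2, nat_lit 12, nat_lit 15, nat_lit 16] (Rl.cmp (nat_lit 5810) (nat_lit 5806))))) (FT.node (nat_lit 6074) (FT.leaf (Fct.mk false (nat_lit 36) (nat_lit 0) (nat_lit 36) [nat_lit 6, nat_lit 5, nat_lit 4, nat_lit 1, nat_lit 2, nat_lit 3, nat_lit 8, nat_lit 0, nat_lit 1, nat_lit 2, nat_lit 3, nat_lit 4, nat_lit 5, nat_lit 4, nat_lit 3, nat_lit 2, nat_lit 1, nat_lit 8, nat_lit 3, nat_lit 2, nat_lit 0, nat_lit 1, nat_lit 4, nat_lit 3, nat_lit 2, nat_lit 8, nat_lit 3, nat_lit 10, nat_lit 16, nat_lit 8, nat_lit 12, nat_lit 15, nat_lit 13] (Rl.cmp (nat_lit 5814) (nat_lit 5804)))) (FT.leaf (Fct.mk false (nat_lit 36) (nat_lit 0) (nat_lit 36) [nat_lit 6, nat_lit 5, nat_lit 4, nat_lit 3, nat_lit 8, nat_lit 2, nat_lit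 3, nat_lit 4, nat_lit 5, nat_lit 2, nat_lit 1, nat_lit 4, nat_lit 3, nat_lit 2, nat_lit 0, nat_lit 1, nat_lit 9, nat_lit 4, nat_lit 3, nat_lit 2, nat_lit 8, nat_lit 3, nat_lit 8, nat_lit 10, nat_lit 9, nat_lit 2, nat_lit 12, nat_lit 8, nat_lit 16, nat_lit 14] (Rl.cmp (nat_lit 5804) (nat_lit 6073))))))))) (FT.node (nat_lit 6087) (FT.node (nat_lit 6081) (FT.node (nat_lit 6078) (FT.node (nat_lit 6076) (FT.leaf (Fct.mk false (nat_lit 36) (nat_lit 0) (nat_lit 36) [nat_lit 2, nat_lit 3, nat_lit 8, nat_lit 5, nat_lit 6, nat_lit 4, nat_lit 5, nat_lit 3, nat_lit 4, nat_lit 2, nat_lit 3, nat_lit 8, nat_lit 0, nat_lit 1, nat_lit 2, nat_lit 3, nat_lit 4, nat_lit 5, nat_lit 2, nat_lit 3, nat_lit 8, nat_lit 4, nat_lit 3, nat_lit 2, nat_lit 0, nat_lit 1, nat_lit 9, nat_lit 4, nat_lit 3, nat_lit 2, nat_lit 8, nat_lit 3, nat_lit 1, nat_lit 9, nat_lit 16, nat_lit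 12, nat_lit 15, nat_lit 14, nat_lit 13, nat_lit 18] (Rl.cmp (nat_lit 5814) (nat_lit 6074)))) (FT.node (nat_lit 6077) (FT.leaf (Fct.mk false (nat_lit 36) (nat_lit 0) (nat_lit 36) [nat_lit 6, nat_lit 5, nat_lit 4, nat_lit 1, nat_lit 2, nat_lit 3, nat_lit 8, nat_lit 0, nat_lit 1, nat_lit 2, nat_lit 3, nat_lit 4, nat_lit 5, nat_lit 4, nat_lit 3, nat_lit 2, nat_lit 1, nat_lit 8, nat_lit 3, nat_lit 2, nat_lit 0, nat_lit 1, nat_lit 4, nat_lit 3, nat_lit 2, nat_lit 8, nat_lit 3, nat_lit 10, nat_lit 16, nat_lit 8, nat_lit 12, nat_lit 15, nat_lit 13] (Rl.cmp (nat_lit 5814) (nat_lit 5804)))) (FT.leaf (Fct.mk false (nat_lit 36) (nat_lit 0) (nat_lit 36) [nat_lit 6, nat_lit 5, nat_lit 4, nat_lit 3, nat_lit 8, nat_lit 2, nat_lit 3, nat_lit 4, nat_lit 5, nat_lit 2, nat_lit 1, nat_lit 4, nat_lit 3, nat_lit 2, nat_lit 0, nat_lit 1, nat_lit 9, nat_lit 4, nat_lit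 3, nat_lit 2, nat_lit 8, nat_lit 3, nat_lit 8, nat_lit 10, nat_lit 9, nat_lit 2, nat_lit 12, nat_lit 8, nat_lit 16, nat_lit 14] (Rl.cmp (nat_lit 5804) (nat_lit 6076)))))) (FT.node (nat_lit 6079) (FT.leaf (Fct.mk false (nat_lit 36) (nat_lit 0) (nat_lit 36) [nat_lit 1, nat_lit 2, nat_lit 3, nat_lit 8, nat_lit 0, nat_lit 1, nat_lit 2, nat_lit 3, nat_lit 4, nat_lit 5, nat_lit 2, nat_lit 1, nat_lit 8, nat_lit 3, nat_lit 2, nat_lit 0, nat_lit 1, nat_lit 9, nat_lit 4, nat_lit 3, nat_lit 2, nat_lit 8, nat_lit 3, nat_lit 9, nat_lit 2, nat_lit 12, nat_lit 8, nat_lit 16, nat_lit 14, nat_lit 12] (Rl.cmp (nat_lit 5810) (nat_lit 6077)))) (FT.node (nat_lit 6080) (FT.leaf (Fct.mk false (nat_lit 36) (nat_lit 0) (nat_lit 36) [nat_lit 2, nat_lit 3, nat_lit 4, nat_lit 5, nat_lit 16, nat_lit 14] (Rl.cmp (nat_lit 5814) (nat_lit 6078)))) (FT.leaf (Fct.mk false (nat_lit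 36) (nat_lit 0) (nat_lit 36) [nat_lit 6, nat_lit 5, nat_lit 4, nat_lit 1, nat_lit 2, nat_lit 3, nat_lit 8, nat_lit 0, nat_lit 1, nat_lit 2, nat_lit 3, nat_lit 4, nat_lit 5, nat_lit 2, nat_lit 1, nat_lit 8, nat_lit 3, nat_lit 2, nat_lit 0, nat_lit 1, nat_lit 4, nat_lit 3, nat_lit 2, nat_lit 8, nat_lit 3, nat_lit 11, nat_lit 10, nat_lit 12, nat_lit 19, nat_lit 16] (Rl.cmp (nat_lit 5814) (nat_lit 6079))))))) (FT.node (nat_lit 6084) (FT.node (nat_lit 6082) (FT.leaf (Fct.mk false (nat_lit 36) (nat_lit 0) (nat_lit 36) [nat_lit 0, nat_lit 1, nat_lit 2, nat_lit 3, nat_lit 4, nat_lit 5, nat_lit 9, nat_lit 4, nat_lit 11, nat_lit 10, nat_lit 12, nat_lit 15, nat_lit 14, nat_lit 13, nat_lit 12] (Rl.cmp (nat_lit 5804) (nat_lit 6060)))) (FT.node (nat_lit 6083) (FT.leaf (Fct.mk false (nat_lit 36) (nat_lit 0) (nat_lit 36) [nat_lit 4, nat_lit 5, nat_lit 2, nat_lit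 3, nat_lit 11, nat_lit 12, nat_lit 15, nat_lit 14, nat_lit 13, nat_lit 12, nat_lit 16] (Rl.cmp (nat_lit 5810) (nat_lit 6081)))) (FT.leaf (Fct.mk false (nat_lit 36) (nat_lit 0) (nat_lit 36) [nat_lit 1, nat_lit 2, nat_lit 3, nat_lit 0, nat_lit 16, nat_lit 12, nat_lit 15, nat_lit 14] (Rl.cmp (nat_lit 5810) (nat_lit 6082)))))) (FT.node (nat_lit 6085) (FT.leaf (Fct.mk false (nat_lit 36) (nat_lit 0) (nat_lit 36) [nat_lit 6, nat_lit 1, nat_lit 2, nat_lit 3, nat_lit 1, nat_lit 0, nat_lit 2, nat_lit 14, nat_lit 12, nat_lit 16] (Rl.cmp (nat_lit 5804) (nat_lit 5938)))) (FT.node (nat_lit 6086) (FT.leaf (Fct.mk false (nat_lit 36) (nat_lit 0) (nat_lit 36) [nat_lit 6, nat_lit 3, nat_lit 9, nat_lit 2] (Rl.cmp (nat_lit 5804) (nat_lit 6084)))) (FT.leaf (Fct.mk false (nat_lit 36) (nat_lit 0) (nat_lit 36) [nat_lit 3, nat_lit 4, nat_lit 1, nat_lit 2, nat_lit 3,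 nat_lit 8, nat_lit 5, nat_lit 6, nat_lit 4, nat_lit 5, nat_lit 3, nat_lit 4, nat_lit 2, nat_lit 3, nat_lit 8, nat_lit 1, nat_lit 2, nat_lit 3, nat_lit 4, nat_lit 5, nat_lit 2, nat_lit 3, nat_lit 8, nat_lit 4, nat_lit 3, nat_lit 2, nat_lit 0, nat_lit 1, nat_lit 9, nat_lit 4, nat_lit 3, nat_lit 2, nat_lit 8, nat_lit 3, nat_lit 10, nat_lit 1, nat_lit 12, nat_lit 15, nat_lit 14, nat_lit 13, nat_lit 18, nat_lit 16] (Rl.cmp (nat_lit 5806) (nat_lit 6075)))))))) (FT.node (nat_lit 6093) (FT.node (nat_lit 6090) (FT.node (nat_lit 6088) (FT.leaf (Fct.mk false (nat_lit 36) (nat_lit 0) (nat_lit 36) [nat_lit 5, nat_lit 6, nat_lit 4, nat_lit 5, nat_lit 3, nat_lit 4, nat_lit 2, nat_lit 3, nat_lit 8, nat_lit 1, nat_lit 2, nat_lit 3, nat_lit 4, nat_lit 5, nat_lit 4, nat_lit 3, nat_lit 2, nat_lit 1, nat_lit 8, nat_lit 3, nat_lit 2, nat_lit 0, nat_lit 1, nat_lit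 4, nat_lit 3, nat_lit 2, nat_lit 8, nat_lit 3, nat_lit 8, nat_lit 10, nat_lit 8, nat_lit 16, nat_lit 14, nat_lit 17, nat_lit 19] (Rl.cmp (nat_lit 5814) (nat_lit 6086)))) (FT.node (nat_lit 6089) (FT.leaf (Fct.mk false (nat_lit 36) (nat_lit 0) (nat_lit 36) [nat_lit 3, nat_lit 4, nat_lit 5, nat_lit 3, nat_lit 10, nat_lit 0] (Rl.cmp (nat_lit 5806) (nat_lit 6064)))) (FT.leaf (Fct.mk false (nat_lit 5) (nat_lit 0) (nat_lit 5) [nat_lit 0, nat_lit 1, nat_lit 2, nat_lit 3, nat_lit 2, nat_lit 14, nat_lit 16] (Rl.cmp (nat_lit 511) (nat_lit 4152)))))) (FT.node (nat_lit 6091) (FT.leaf (Fct.mk false (nat_lit 36) (nat_lit 0) (nat_lit 36) [nat_lit 3, nat_lit 4, nat_lit 5, nat_lit 1, nat_lit 2, nat_lit 3, nat_lit 0, nat_lit 14] (Rl.cmp (nat_lit 5806) (nat_lit 5951)))) (FT.node (nat_lit 6092) (FT.leaf (Fct.mk false (nat_lit 36) (nat_lit 0) (nat_lit 36) [nat_lit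 4, nat_lit 5, nat_lit 3, nat_lit 0] (Rl.cmp (nat_lit 5806) (nat_lit 6090)))) (FT.leaf (Fct.mk true (nat_lit 5) (nat_lit 220) (nat_lit 37) [] (Rl.df)))))) (FT.node (nat_lit 6096) (FT.node (nat_lit 6094) (FT.leaf (Fct.mk true (nat_lit 37) (nat_lit 220) (nat_lit 5) [] (Rl.inv (nat_lit 6092)))) (FT.node (nat_lit 6095) (FT.leaf (Fct.mk true (nat_lit 36) (nat_lit 9717) (nat_lit 37) [nat_lit 7, nat_lit 6, nat_lit 5, nat_lit 3, nat_lit 4, nat_lit 2, nat_lit 3, nat_lit 8, nat_lit 0, nat_lit 1, nat_lit 2, nat_lit 3, nat_lit 4, nat_lit 5, nat_lit 6, nat_lit 7, nat_lit 4, nat_lit 5, nat_lit 2, nat_lit 3, nat_lit 4, nat_lit 1, nat_lit 2, nat_lit 3, nat_lit 8, nat_lit 0, nat_lit 1, nat_lit 2, nat_lit 3, nat_lit 4, nat_lit 5, nat_lit 4, nat_lit 3, nat_lit 2, nat_lit 0, nat_lit 1, nat_lit 9, nat_lit 4, nat_lit 3, nat_lit 2, nat_lit 8, nat_lit 3, nat_lit 8,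 nat_lit 10, nat_lit 1, nat_lit 8, nat_lit 12, nat_lit 15, nat_lit 14, nat_lit 8, nat_lit 18, nat_lit 16] (Rl.rel (nat_lit 0) [nat_lit 3, nat_lit 4, nat_lit 5, nat_lit 2, nat_lit 3, nat_lit 4, nat_lit 1, nat_lit 2, nat_lit 3, nat_lit 8, nat_lit 0, nat_lit 1, nat_lit 2, nat_lit 3, nat_lit 4, nat_lit 5, nat_lit 6, nat_lit 7, nat_lit 6, nat_lit 9, nat_lit 4, nat_lit 3, nat_lit 2, nat_lit 8, nat_lit 3] (nat_lit 37) (nat_lit 2) [nat_lit 6093, nat_lit 488, nat_lit 6047] []))) (FT.leaf (Fct.mk true (nat_lit 36) (nat_lit 4267) (nat_lit 37) [nat_lit 7, nat_lit 6, nat_lit 4, nat_lit 5, nat_lit 3, nat_lit 4, nat_lit 2, nat_lit 3, nat_lit 8, nat_lit 1, nat_lit 2, nat_lit 3, nat_lit 4, nat_lit 5, nat_lit 6, nat_lit 7, nat_lit 3, nat_lit 8, nat_lit 4, nat_lit 5, nat_lit 3, nat_lit 4, nat_lit 1, nat_lit 2, nat_lit 3, nat_lit 8, nat_lit 0, nat_lit 1, nat_lit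 2, nat_lit 3, nat_lit 4, nat_lit 5, nat_lit 2, nat_lit 3, nat_lit 2, nat_lit 8, nat_lit 10, nat_lit 1, nat_lit 15, nat_lit 14, nat_lit 12, nat_lit 18] (Rl.t1 (nat_lit 6094) (nat_lit 6070)))))) (FT.node (nat_lit 6098) (FT.node (nat_lit 6097) (FT.leaf (Fct.mk true (nat_lit 37) (nat_lit 52) (nat_lit 36) [nat_lit 3, nat_lit 8, nat_lit 7, nat_lit 6, nat_lit 4, nat_lit 5, nat_lit 3, nat_lit 4, nat_lit 1, nat_lit 2, nat_lit 3, nat_lit 8, nat_lit 0, nat_lit 1, nat_lit 2, nat_lit 3, nat_lit 4, nat_lit 5, nat_lit 6, nat_lit 7, nat_lit 8, nat_lit 5, nat_lit 3, nat_lit 4, nat_lit 1, nat_lit 2, nat_lit 3, nat_lit 8, nat_lit 0, nat_lit 1, nat_lit 2, nat_lit 3, nat_lit 4, nat_lit 5, nat_lit 2, nat_lit 0, nat_lit 1, nat_lit 4, nat_lit 3, nat_lit 2, nat_lit 8, nat_lit 3, nat_lit 10, nat_lit 0, nat_lit 15, nat_lit 18] (Rl.inv (nat_lit 6095)))) (FT.leaf (Fct.mk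 true (nat_lit 33) (nat_lit 50740) (nat_lit 37) [nat_lit 3, nat_lit 8, nat_lit 7, nat_lit 6, nat_lit 4, nat_lit 5, nat_lit 3, nat_lit 4, nat_lit 2, nat_lit 3, nat_lit 8, nat_lit 0, nat_lit 1, nat_lit 2, nat_lit 3, nat_lit 4, nat_lit 5, nat_lit 6, nat_lit 7, nat_lit 4, nat_lit 1, nat_lit 2, nat_lit 3, nat_lit 8, nat_lit 5, nat_lit 6, nat_lit 4, nat_lit 5, nat_lit 3, nat_lit 4, nat_lit 2, nat_lit 3, nat_lit 8, nat_lit 1, nat_lit 2, nat_lit 3, nat_lit 4, nat_lit 5, nat_lit 2, nat_lit 3, nat_lit 8, nat_lit 4, nat_lit 3, nat_lit 2, nat_lit 0, nat_lit 1, nat_lit 9, nat_lit 4, nat_lit 3, nat_lit 2, nat_lit 8, nat_lit 3, nat_lit 11, nat_lit 2, nat_lit 8, nat_lit 10, nat_lit 1, nat_lit 12, nat_lit 15, nat_lit 14, nat_lit 13] (Rl.rel (nat_lit 0) [nat_lit 8, nat_lit 4, nat_lit 5, nat_lit 2, nat_lit 3, nat_lit 4, nat_lit 1, nat_lit 2, nat_lit 3, nat_lit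 8, nat_lit 0, nat_lit 1, nat_lit 2, nat_lit 3, nat_lit 4, nat_lit 5, nat_lit 6, nat_lit 7, nat_lit 6, nat_lit 9, nat_lit 4, nat_lit 3, nat_lit 2, nat_lit 8, nat_lit 3, nat_lit 17] (nat_lit 37) (nat_lit 2) [nat_lit 6093, nat_lit 2779, nat_lit 5343] [])))) (FT.node (nat_lit 6099) (FT.leaf (Fct.mk true (nat_lit 33) (nat_lit 1058) (nat_lit 37) [nat_lit 4, nat_lit 3, nat_lit 8, nat_lit 7, nat_lit 5, nat_lit 6, nat_lit 4, nat_lit 5, nat_lit 3, nat_lit 4, nat_lit 2, nat_lit 3, nat_lit 8, nat_lit 1, nat_lit 2, nat_lit 3, nat_lit 4, nat_lit 5, nat_lit 6, nat_lit 7, nat_lit 6, nat_lit 3, nat_lit 4, nat_lit 5, nat_lit 2, nat_lit 3, nat_lit 4, nat_lit 1, nat_lit 2, nat_lit 3, nat_lit 8, nat_lit 0, nat_lit 1, nat_lit 2, nat_lit 3, nat_lit 4, nat_lit 5, nat_lit 2, nat_lit 8, nat_lit 3, nat_lit 10, nat_lit 0, nat_lit 12, nat_lit 15, nat_lit 17, nat_lit 18]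 (Rl.t1 (nat_lit 6097) (nat_lit 5656)))) (FT.leaf (Fct.mk true (nat_lit 37) (nat_lit 1556) (nat_lit 33) [nat_lit 3, nat_lit 8, nat_lit 7, nat_lit 6, nat_lit 4, nat_lit 5, nat_lit 3, nat_lit 4, nat_lit 2, nat_lit 3, nat_lit 8, nat_lit 1, nat_lit 2, nat_lit 3, nat_lit 4, nat_lit 5, nat_lit 6, nat_lit 7, nat_lit 8, nat_lit 6, nat_lit 4, nat_lit 5, nat_lit 3, nat_lit 4, nat_lit 2, nat_lit 3, nat_lit 8, nat_lit 0, nat_lit 1, nat_lit 2, nat_lit 3, nat_lit 4, nat_lit 5, nat_lit 1, nat_lit 3, nat_lit 2, nat_lit 0, nat_lit 1, nat_lit 4, nat_lit 3, nat_lit 2, nat_lit 8, nat_lit 3, nat_lit 12, nat_lit 15, nat_lit 17, nat_lit 12, nat_lit 19] (Rl.inv (nat_lit 6098)))))))))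

/-- some facts -/
noncomputable def ftc122 : FT := FT.node (nat_lit 6125) (FT.node (nat_lit 6112) (FT.node (nat_lit 6106) (FT.node (nat_lit 6103) (FT.node (nat_lit 6101) (FT.leaf (Fct.mk true (nat_lit 32) (nat_lit 5148) (nat_lit 37) [nat_lit 3, nat_lit 8, nat_lit 2, nat_lit 3, nat_lit 4, nat_lit 1, nat_lit 2, nat_lit 3, nat_lit 8, nat_lit 0, nat_lit 1, nat_lit 2, nat_lit 3, nat_lit 4, nat_lit 5, nat_lit 6, nat_lit 7, nat_lit 4, nat_lit 3, nat_lit 8, nat_lit 2, nat_lit 3, nat_lit 4, nat_lit 1, nat_lit 2, nat_lit 3, nat_lit 8, nat_lit 0, nat_lit 1, nat_lit 2, nat_lit 3, nat_lit 4, nat_lit 5, nat_lit 2, nat_lit 1, nat_lit 8, nat_lit 4, nat_lit 3, nat_lit 2, nat_lit 0, nat_lit 1, nat_lit 9, nat_lit 4, nat_lit 3, nat_lit 2, nat_lit 8, nat_lit 3, nat_lit 8, nat_lit 10, nat_lit 1, nat_lit 17, nat_lit 18] (Rl.rel (nat_lit 0) [nat_lit 8, nat_lit 4,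 nat_lit 5, nat_lit 2, nat_lit 3, nat_lit 4, nat_lit 1, nat_lit 2, nat_lit 3, nat_lit 8, nat_lit 0, nat_lit 1, nat_lit 2, nat_lit 3, nat_lit 4, nat_lit 5, nat_lit 6, nat_lit 7, nat_lit 6, nat_lit 9, nat_lit 4, nat_lit 3, nat_lit 2, nat_lit 8, nat_lit 3, nat_lit 9, nat_lit 17] (nat_lit 37) (nat_lit 2) [nat_lit 6093, nat_lit 2808, nat_lit 3544] []))) (FT.node (nat_lit 6102) (FT.leaf (Fct.mk true (nat_lit 32) (nat_lit 3146) (nat_lit 37) [nat_lit 4, nat_lit 1, nat_lit 2, nat_lit 3, nat_lit 8, nat_lit 5, nat_lit 6, nat_lit 4, nat_lit 5, nat_lit 3, nat_lit 4, nat_lit 2, nat_lit 3, nat_lit 8, nat_lit 1, nat_lit 2, nat_lit 3, nat_lit 4, nat_lit 5, nat_lit 6, nat_lit 7, nat_lit 3, nat_lit 8, nat_lit 5, nat_lit 2, nat_lit 3, nat_lit 4, nat_lit 1, nat_lit 2, nat_lit 3, nat_lit 8, nat_lit 0, nat_lit 1, nat_lit 2, nat_lit 3, nat_lit 4, nat_lit 5, nat_lit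 1, nat_lit 2, nat_lit 3, nat_lit 11, nat_lit 2, nat_lit 10, nat_lit 1, nat_lit 8, nat_lit 16, nat_lit 14, nat_lit 16] (Rl.t1 (nat_lit 6100) (nat_lit 4282)))) (FT.leaf (Fct.mk true (nat_lit 37) (nat_lit 5421) (nat_lit 32) [nat_lit 8, nat_lit 6, nat_lit 4, nat_lit 5, nat_lit 3, nat_lit 4, nat_lit 2, nat_lit 3, nat_lit 8, nat_lit 0, nat_lit 1, nat_lit 2, nat_lit 3, nat_lit 4, nat_lit 5, nat_lit 6, nat_lit 7, nat_lit 3, nat_lit 8, nat_lit 6, nat_lit 4, nat_lit 5, nat_lit 3, nat_lit 4, nat_lit 2, nat_lit 3, nat_lit 8, nat_lit 1, nat_lit 2, nat_lit 3, nat_lit 4, nat_lit 5, nat_lit 1, nat_lit 3, nat_lit 2, nat_lit 0, nat_lit 1, nat_lit 9, nat_lit 4, nat_lit 3, nat_lit 2, nat_lit 8, nat_lit 3, nat_lit 11, nat_lit 2, nat_lit 16, nat_lit 12, nat_lit 15, nat_lit 14, nat_lit 8, nat_lit 19] (Rl.inv (nat_lit 6101)))))) (FT.node (nat_lit 6104) (FT.leaf (Fct.mk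 true (nat_lit 33) (nat_lit 8362) (nat_lit 37) [nat_lit 7, nat_lit 4, nat_lit 3, nat_lit 8, nat_lit 2, nat_lit 3, nat_lit 4, nat_lit 5, nat_lit 8, nat_lit 4, nat_lit 3, nat_lit 2, nat_lit 0, nat_lit 1, nat_lit 9, nat_lit 4, nat_lit 3, nat_lit 2, nat_lit 8, nat_lit 3, nat_lit 8, nat_lit 10, nat_lit 0, nat_lit 16] (Rl.rel (nat_lit 0) [nat_lit 8, nat_lit 4, nat_lit 5, nat_lit 2, nat_lit 3, nat_lit 4, nat_lit 1, nat_lit 2, nat_lit 3, nat_lit 8, nat_lit 0, nat_lit 1, nat_lit 2, nat_lit 3, nat_lit 4, nat_lit 5, nat_lit 6, nat_lit 7, nat_lit 6, nat_lit 9, nat_lit 4, nat_lit 3, nat_lit 2, nat_lit 8, nat_lit 3, nat_lit 0, nat_lit 17] (nat_lit 37) (nat_lit 2) [nat_lit 6093, nat_lit 3152, nat_lit 5047] []))) (FT.node (nat_lit 6105) (FT.leaf (Fct.mk true (nat_lit 33) (nat_lit 11) (nat_lit 37) [nat_lit 2, nat_lit 3, nat_lit 4, nat_lit 1, nat_lit 2, nat_lit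 3, nat_lit 8, nat_lit 5, nat_lit 6, nat_lit 4, nat_lit 5, nat_lit 3, nat_lit 4, nat_lit 2, nat_lit 3, nat_lit 8, nat_lit 1, nat_lit 2, nat_lit 3, nat_lit 4, nat_lit 5, nat_lit 6, nat_lit 7, nat_lit 8, nat_lit 3, nat_lit 4, nat_lit 5, nat_lit 2, nat_lit 0, nat_lit 1, nat_lit 3, nat_lit 2, nat_lit 8, nat_lit 3, nat_lit 2, nat_lit 8, nat_lit 10, nat_lit 1, nat_lit 8, nat_lit 12, nat_lit 15, nat_lit 14, nat_lit 13, nat_lit 19] (Rl.t1 (nat_lit 6103) (nat_lit 4860)))) (FT.leaf (Fct.mk true (nat_lit 37) (nat_lit 2997) (nat_lit 33) [nat_lit 4, nat_lit 1, nat_lit 2, nat_lit 3, nat_lit 8, nat_lit 0, nat_lit 1, nat_lit 2, nat_lit 3, nat_lit 4, nat_lit 5, nat_lit 6, nat_lit 7, nat_lit 3, nat_lit 8, nat_lit 6, nat_lit 5, nat_lit 2, nat_lit 3, nat_lit 4, nat_lit 1, nat_lit 2, nat_lit 3, nat_lit 8, nat_lit 0, nat_lit 1, nat_lit 2, nat_lit 3, nat_lit 4, nat_lit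 5, nat_lit 2, nat_lit 1, nat_lit 4, nat_lit 3, nat_lit 2, nat_lit 8, nat_lit 3, nat_lit 1, nat_lit 9, nat_lit 8, nat_lit 16, nat_lit 14, nat_lit 12, nat_lit 18] (Rl.inv (nat_lit 6104))))))) (FT.node (nat_lit 6109) (FT.node (nat_lit 6107) (FT.leaf (Fct.mk false (nat_lit 37) (nat_lit 0) (nat_lit 37) [nat_lit 134] (Rl.rel (nat_lit 0) [nat_lit 8, nat_lit 4, nat_lit 5, nat_lit 2, nat_lit 3, nat_lit 4, nat_lit 1, nat_lit 2, nat_lit 3, nat_lit 8, nat_lit 0, nat_lit 1, nat_lit 2, nat_lit 3, nat_lit 4, nat_lit 5, nat_lit 6, nat_lit 7, nat_lit 6, nat_lit 9, nat_lit 4, nat_lit 3, nat_lit 2, nat_lit 8, nat_lit 3, nat_lit 10, nat_lit 17, nat_lit 16] (nat_lit 37) (nat_lit 3) [nat_lit 6093, nat_lit 2760, nat_lit 5047, nat_lit 4860, nat_lit 6104] []))) (FT.node (nat_lit 6108) (FT.leaf (Fct.mk false (nat_lit 37) (nat_lit 0) (nat_lit 37) [nat_lit 136] (Rl.rel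 (nat_lit 0) [nat_lit 8, nat_lit 4, nat_lit 5, nat_lit 2, nat_lit 3, nat_lit 4, nat_lit 1, nat_lit 2, nat_lit 3, nat_lit 8, nat_lit 0, nat_lit 1, nat_lit 2, nat_lit 3, nat_lit 4, nat_lit 5, nat_lit 6, nat_lit 7, nat_lit 6, nat_lit 9, nat_lit 4, nat_lit 3, nat_lit 2, nat_lit 8, nat_lit 3, nat_lit 11, nat_lit 2, nat_lit 8, nat_lit 19] (nat_lit 37) (nat_lit 3) [nat_lit 6093, nat_lit 2807, nat_lit 3544, nat_lit 4282, nat_lit 6101] []))) (FT.leaf (Fct.mk false (nat_lit 37) (nat_lit 0) (nat_lit 37) [nat_lit 1, nat_lit 2, nat_lit 3, nat_lit 14] (Rl.cmp (nat_lit 6107) (nat_lit 6106)))))) (FT.node (nat_lit 6110) (FT.leaf (Fct.mk true (nat_lit 37) (nat_lit 2265) (nat_lit 33) [nat_lit 4, nat_lit 1, nat_lit 2, nat_lit 3, nat_lit 8, nat_lit 0, nat_lit 1, nat_lit 2, nat_lit 3, nat_lit 4, nat_lit 5, nat_lit 6, nat_lit 7, nat_lit 8, nat_lit 6, nat_lit 5, nat_lit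 2, nat_lit 3, nat_lit 4, nat_lit 1, nat_lit 2, nat_lit 3, nat_lit 8, nat_lit 0, nat_lit 1, nat_lit 2, nat_lit 3, nat_lit 4, nat_lit 5, nat_lit 2, nat_lit 1, nat_lit 4, nat_lit 3, nat_lit 2, nat_lit 8, nat_lit 3, nat_lit 1, nat_lit 9, nat_lit 8, nat_lit 16, nat_lit 14, nat_lit 12, nat_lit 19, nat_lit 16] (Rl.t1 (nat_lit 6105) (nat_lit 6108)))) (FT.node (nat_lit 6111) (FT.leaf (Fct.mk false (nat_lit 37) (nat_lit 0) (nat_lit 37) [nat_lit 137] (Rl.rel (nat_lit 0) [nat_lit 5, nat_lit 4, nat_lit 1, nat_lit 2, nat_lit 3, nat_lit 8, nat_lit 0, nat_lit 1, nat_lit 2, nat_lit 3, nat_lit 4, nat_lit 5, nat_lit 6, nat_lit 7, nat_lit 6, nat_lit 9, nat_lit 4, nat_lit 3, nat_lit 2, nat_lit 8, nat_lit 3, nat_lit 13, nat_lit 19] (nat_lit 37) (nat_lit 3) [nat_lit 6093, nat_lit 2814, nat_lit 4561, nat_lit 5675, nat_lit 6104] []))) (FT.leaf (Fct.mk false (nat_lit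 37) (nat_lit 0) (nat_lit 37) [nat_lit 3, nat_lit 8, nat_lit 7, nat_lit 6, nat_lit 4, nat_lit 5, nat_lit 3, nat_lit 4, nat_lit 2, nat_lit 3, nat_lit 8, nat_lit 0, nat_lit 1, nat_lit 2, nat_lit 3, nat_lit 4, nat_lit 5, nat_lit 6, nat_lit 7, nat_lit 8, nat_lit 3, nat_lit 4, nat_lit 2, nat_lit 3, nat_lit 8, nat_lit 1, nat_lit 2, nat_lit 3, nat_lit 4, nat_lit 5, nat_lit 2, nat_lit 1, nat_lit 8, nat_lit 3, nat_lit 2, nat_lit 0, nat_lit 1, nat_lit 9, nat_lit 4, nat_lit 3, nat_lit 2, nat_lit 8, nat_lit 3, nat_lit 11, nat_lit 12, nat_lit 18, nat_lit 16] (Rl.cmp (nat_lit 6110) (nat_lit 6110)))))))) (FT.node (nat_lit 6118) (FT.node (nat_lit 6115) (FT.node (nat_lit 6113) (FT.leaf (Fct.mk false (nat_lit 37) (nat_lit 0) (nat_lit 37) [nat_lit 7, nat_lit 6, nat_lit 5, nat_lit 4, nat_lit 2, nat_lit 3, nat_lit 8, nat_lit 0, nat_lit 1, nat_lit 2, nat_lit 3, nat_lit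 4, nat_lit 5, nat_lit 6, nat_lit 7, nat_lit 5, nat_lit 4, nat_lit 1, nat_lit 2, nat_lit 3, nat_lit 8, nat_lit 0, nat_lit 1, nat_lit 2, nat_lit 3, nat_lit 4, nat_lit 5, nat_lit 2, nat_lit 1, nat_lit 4, nat_lit 3, nat_lit 2, nat_lit 8, nat_lit 3, nat_lit 11, nat_lit 1, nat_lit 8, nat_lit 12, nat_lit 15, nat_lit 14, nat_lit 16] (Rl.cmp (nat_lit 6110) (nat_lit 6111)))) (FT.node (nat_lit 6114) (FT.leaf (Fct.mk false (nat_lit 37) (nat_lit 0) (nat_lit 37) [nat_lit 6, nat_lit 7, nat_lit 5, nat_lit 6, nat_lit 3, nat_lit 4, nat_lit 5, nat_lit 2, nat_lit 3, nat_lit 4, nat_lit 1, nat_lit 2, nat_lit 3, nat_lit 8, nat_lit 0, nat_lit 1, nat_lit 2, nat_lit 3, nat_lit 4, nat_lit 5, nat_lit 6, nat_lit 7, nat_lit 8, nat_lit 6, nat_lit 4, nat_lit 5, nat_lit 3, nat_lit 4, nat_lit 1, nat_lit 2, nat_lit 3, nat_lit 8, nat_lit 0, nat_lit 1, nat_lit 2, nat_lit 3, nat_lit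 4, nat_lit 5, nat_lit 2, nat_lit 1, nat_lit 9, nat_lit 4, nat_lit 3, nat_lit 2, nat_lit 8, nat_lit 3, nat_lit 11, nat_lit 1, nat_lit 8, nat_lit 12, nat_lit 15, nat_lit 14, nat_lit 16] (Rl.cmp (nat_lit 6106) (nat_lit 6112)))) (FT.leaf (Fct.mk false (nat_lit 37) (nat_lit 0) (nat_lit 37) [nat_lit 7, nat_lit 6, nat_lit 5, nat_lit 4, nat_lit 3, nat_lit 8, nat_lit 1, nat_lit 2, nat_lit 3, nat_lit 4, nat_lit 5, nat_lit 6, nat_lit 7, nat_lit 3, nat_lit 8, nat_lit 5, nat_lit 6, nat_lit 4, nat_lit 5, nat_lit 3, nat_lit 4, nat_lit 1, nat_lit 2, nat_lit 3, nat_lit 8, nat_lit 0, nat_lit 1, nat_lit 2, nat_lit 3, nat_lit 4, nat_lit 5, nat_lit 2, nat_lit 1, nat_lit 9, nat_lit 4, nat_lit 3, nat_lit 2, nat_lit 8, nat_lit 3, nat_lit 11, nat_lit 1, nat_lit 12, nat_lit 15, nat_lit 14, nat_lit 16] (Rl.cmp (nat_lit 6106) (nat_lit 6113)))))) (FT.node (nat_lit 6116)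 (FT.leaf (Fct.mk false (nat_lit 37) (nat_lit 0) (nat_lit 37) [nat_lit 8, nat_lit 7, nat_lit 5, nat_lit 6, nat_lit 4, nat_lit 5, nat_lit 3, nat_lit 4, nat_lit 1, nat_lit 2, nat_lit 3, nat_lit 8, nat_lit 0, nat_lit 1, nat_lit 2, nat_lit 3, nat_lit 4, nat_lit 5, nat_lit 6, nat_lit 7, nat_lit 5, nat_lit 6, nat_lit 4, nat_lit 5, nat_lit 3, nat_lit 4, nat_lit 2, nat_lit 3, nat_lit 8, nat_lit 0, nat_lit 1, nat_lit 2, nat_lit 3, nat_lit 4, nat_lit 5, nat_lit 3, nat_lit 2, nat_lit 1, nat_lit 4, nat_lit 3, nat_lit 2, nat_lit 8, nat_lit 3, nat_lit 2, nat_lit 8, nat_lit 10, nat_lit 1, nat_lit 16, nat_lit 15, nat_lit 14, nat_lit 12] (Rl.cmp (nat_lit 6110) (nat_lit 6114)))) (FT.node (nat_lit 6117) (FT.leaf (Fct.mk false (nat_lit 37) (nat_lit 0) (nat_lit 37) [nat_lit 4, nat_lit 1, nat_lit 2, nat_lit 3, nat_lit 8, nat_lit 6, nat_lit 7, nat_lit 5, nat_lit 6,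 nat_lit 4, nat_lit 5, nat_lit 3, nat_lit 4, nat_lit 2, nat_lit 3, nat_lit 8, nat_lit 1, nat_lit 2, nat_lit 3, nat_lit 4, nat_lit 5, nat_lit 6, nat_lit 7, nat_lit 2, nat_lit 3, nat_lit 4, nat_lit 1, nat_lit 2, nat_lit 3, nat_lit 8, nat_lit 5, nat_lit 6, nat_lit 4, nat_lit 5, nat_lit 3, nat_lit 4, nat_lit 2, nat_lit 3, nat_lit 8, nat_lit 1, nat_lit 2, nat_lit 3, nat_lit 4, nat_lit 5, nat_lit 1, nat_lit 9, nat_lit 12, nat_lit 15, nat_lit 16, nat_lit 8, nat_lit 18, nat_lit 16] (Rl.cmp (nat_lit 6110) (nat_lit 6115)))) (FT.leaf (Fct.mk false (nat_lit 37) (nat_lit 0) (nat_lit 37) [nat_lit 4, nat_lit 1, nat_lit 2, nat_lit 3, nat_lit 8, nat_lit 6, nat_lit 7, nat_lit 5, nat_lit 6, nat_lit 4, nat_lit 5, nat_lit 3, nat_lit 4, nat_lit 2, nat_lit 3, nat_lit 8, nat_lit 1, nat_lit 2, nat_lit 3, nat_lit 4, nat_lit 5, nat_lit 6, nat_lit 7, nat_lit 8, nat_lit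 5, nat_lit 6, nat_lit 4, nat_lit 5, nat_lit 2, nat_lit 3, nat_lit 4, nat_lit 1, nat_lit 2, nat_lit 3, nat_lit 8, nat_lit 0, nat_lit 1, nat_lit 2, nat_lit 3, nat_lit 4, nat_lit 5, nat_lit 2, nat_lit 1, nat_lit 4, nat_lit 3, nat_lit 2, nat_lit 0, nat_lit 1, nat_lit 9, nat_lit 4, nat_lit 3, nat_lit 2, nat_lit 8, nat_lit 3, nat_lit 9, nat_lit 2, nat_lit 12, nat_lit 8, nat_lit 16, nat_lit 14, nat_lit 8, nat_lit 18, nat_lit 16] (Rl.cmp (nat_lit 6107) (nat_lit 6116))))))) (FT.node (nat_lit 6121) (FT.node (nat_lit 6119) (FT.leaf (Fct.mk false (nat_lit 37) (nat_lit 0) (nat_lit 37) [nat_lit 4, nat_lit 1, nat_lit 2, nat_lit 3, nat_lit 8, nat_lit 6, nat_lit 7, nat_lit 5, nat_lit 6, nat_lit 4, nat_lit 5, nat_lit 3, nat_lit 4, nat_lit 2, nat_lit 3, nat_lit 8, nat_lit 1, nat_lit 2, nat_lit 3, nat_lit 4, nat_lit 5, nat_lit 6, nat_lit 7, nat_lit 3, nat_lit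 8, nat_lit 6, nat_lit 4, nat_lit 5, nat_lit 3, nat_lit 4, nat_lit 1, nat_lit 2, nat_lit 3, nat_lit 8, nat_lit 0, nat_lit 1, nat_lit 2, nat_lit 3, nat_lit 4, nat_lit 5, nat_lit 2, nat_lit 1, nat_lit 3, nat_lit 2, nat_lit 0, nat_lit 1, nat_lit 9, nat_lit 4, nat_lit 3, nat_lit 2, nat_lit 8, nat_lit 3, nat_lit 9, nat_lit 2, nat_lit 16, nat_lit 8, nat_lit 12, nat_lit 15, nat_lit 17, nat_lit 19, nat_lit 16] (Rl.cmp (nat_lit 6106) (nat_lit 6117)))) (FT.node (nat_lit 6120) (FT.leaf (Fct.mk false (nat_lit 37) (nat_lit 0) (nat_lit 37) [nat_lit 5, nat_lit 4, nat_lit 3, nat_lit 8, nat_lit 2, nat_lit 3, nat_lit 4, nat_lit 1, nat_lit 2, nat_lit 3, nat_lit 8, nat_lit 7, nat_lit 5, nat_lit 6, nat_lit 4, nat_lit 5, nat_lit 3, nat_lit 4, nat_lit 2, nat_lit 3, nat_lit 8, nat_lit 1, nat_lit 2, nat_lit 3, nat_lit 4, nat_lit 5, nat_lit 6, nat_lit 7, nat_lit 5, nat_lit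 6, nat_lit 4, nat_lit 5, nat_lit 3, nat_lit 4, nat_lit 2, nat_lit 3, nat_lit 8, nat_lit 1, nat_lit 2, nat_lit 3, nat_lit 4, nat_lit 5, nat_lit 3, nat_lit 2, nat_lit 8, nat_lit 3, nat_lit 2, nat_lit 8, nat_lit 10, nat_lit 1, nat_lit 12, nat_lit 15, nat_lit 14, nat_lit 8, nat_lit 18, nat_lit 16] (Rl.cmp (nat_lit 6110) (nat_lit 6118)))) (FT.leaf (Fct.mk false (nat_lit 37) (nat_lit 0) (nat_lit 37) [nat_lit 5, nat_lit 4, nat_lit 3, nat_lit 8, nat_lit 2, nat_lit 3, nat_lit 4, nat_lit 5, nat_lit 6, nat_lit 7, nat_lit 3, nat_lit 4, nat_lit 5, nat_lit 4, nat_lit 3, nat_lit 2, nat_lit 8, nat_lit 3, nat_lit 11, nat_lit 8, nat_lit 10, nat_lit 16, nat_lit 12, nat_lit 15, nat_lit 14, nat_lit 13] (Rl.cmp (nat_lit 6110) (nat_lit 6119)))))) (FT.node (nat_lit 6123) (FT.node (nat_lit 6122) (FT.leaf (Fct.mk false (nat_lit 37) (nat_lit 0) (nat_lit 37) [nat_lit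 6, nat_lit 5, nat_lit 4, nat_lit 1, nat_lit 2, nat_lit 3, nat_lit 8, nat_lit 0, nat_lit 1, nat_lit 2, nat_lit 3, nat_lit 4, nat_lit 5, nat_lit 6, nat_lit 7, nat_lit 8, nat_lit 3, nat_lit 4, nat_lit 1, nat_lit 2, nat_lit 3, nat_lit 8, nat_lit 0, nat_lit 1, nat_lit 2, nat_lit 3, nat_lit 4, nat_lit 5, nat_lit 0, nat_lit 1, nat_lit 9, nat_lit 4, nat_lit 3, nat_lit 2, nat_lit 8, nat_lit 3, nat_lit 2, nat_lit 10, nat_lit 1, nat_lit 8, nat_lit 12, nat_lit 15, nat_lit 14, nat_lit 12, nat_lit 18] (Rl.cmp (nat_lit 6110) (nat_lit 6120)))) (FT.leaf (Fct.mk true (nat_lit 37) (nat_lit 181) (nat_lit 5) [nat_lit 4, nat_lit 3, nat_lit 8, nat_lit 2, nat_lit 3, nat_lit 4, nat_lit 1, nat_lit 2, nat_lit 3, nat_lit 8, nat_lit 0, nat_lit 1, nat_lit 2, nat_lit 3, nat_lit 4, nat_lit 5, nat_lit 6, nat_lit 7, nat_lit 8, nat_lit 3, nat_lit 2, nat_lit 0, nat_lit 1, nat_lit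 4, nat_lit 3, nat_lit 2, nat_lit 8, nat_lit 3, nat_lit 11, nat_lit 2, nat_lit 8, nat_lit 10, nat_lit 1, nat_lit 14, nat_lit 19, nat_lit 16] (Rl.t1 (nat_lit 6093) (nat_lit 6121))))) (FT.node (nat_lit 6124) (FT.leaf (Fct.mk false (nat_lit 37) (nat_lit 0) (nat_lit 37) [nat_lit 8, nat_lit 7, nat_lit 6, nat_lit 5, nat_lit 3, nat_lit 4, nat_lit 2, nat_lit 3, nat_lit 8, nat_lit 1, nat_lit 2, nat_lit 3, nat_lit 4, nat_lit 5, nat_lit 6, nat_lit 7, nat_lit 6, nat_lit 8, nat_lit 4, nat_lit 3, nat_lit 2, nat_lit 1, nat_lit 9, nat_lit 4, nat_lit 3, nat_lit 2, nat_lit 8, nat_lit 3, nat_lit 11, nat_lit 8, nat_lit 10, nat_lit 17, nat_lit 12, nat_lit 18, nat_lit 16] (Rl.cmp (nat_lit 6110) (nat_lit 6106)))) (FT.leaf (Fct.mk false (nat_lit 37) (nat_lit 0) (nat_lit 37) [nat_lit 3, nat_lit 8, nat_lit 7, nat_lit 6, nat_lit 4, nat_lit 5, nat_lit 3, nat_lit 4, nat_lit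 2, nat_lit 3, nat_lit 8, nat_lit 0, nat_lit 1, nat_lit 2, nat_lit 3, nat_lit 4, nat_lit 5, nat_lit 6, nat_lit 7, nat_lit 8, nat_lit 3, nat_lit 4, nat_lit 2, nat_lit 3, nat_lit 8, nat_lit 1, nat_lit 2, nat_lit 3, nat_lit 4, nat_lit 5, nat_lit 3, nat_lit 8, nat_lit 4, nat_lit 3, nat_lit 2, nat_lit 0, nat_lit 1, nat_lit 9, nat_lit 4, nat_lit 3, nat_lit 2, nat_lit 8, nat_lit 3, nat_lit 11, nat_lit 13, nat_lit 12, nat_lit 19, nat_lit 16] (Rl.cmp (nat_lit 6110) (nat_lit 6123))))))))) (FT.node (nat_lit 6137) (FT.node (nat_lit 6131) (FT.node (nat_lit 6128) (FT.node (nat_lit 6126) (FT.leaf (Fct.mk false (nat_lit 37) (nat_lit 0) (nat_lit 37) [nat_lit 3, nat_lit 4, nat_lit 2, nat_lit 3, nat_lit 8, nat_lit 6, nat_lit 7, nat_lit 5, nat_lit 6, nat_lit 4, nat_lit 5, nat_lit 3, nat_lit 4, nat_lit 2, nat_lit 3, nat_lit 8, nat_lit 1, nat_lit 2, nat_lit 3, nat_lit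 4, nat_lit 5, nat_lit 6, nat_lit 7, nat_lit 8, nat_lit 5, nat_lit 3, nat_lit 4, nat_lit 2, nat_lit 3, nat_lit 8, nat_lit 1, nat_lit 2, nat_lit 3, nat_lit 4, nat_lit 5, nat_lit 2, nat_lit 3, nat_lit 8, nat_lit 4, nat_lit 3, nat_lit 2, nat_lit 0, nat_lit 1, nat_lit 9, nat_lit 4, nat_lit 3, nat_lit 2, nat_lit 8, nat_lit 3, nat_lit 11, nat_lit 10, nat_lit 1, nat_lit 13, nat_lit 12, nat_lit 19, nat_lit 16] (Rl.cmp (nat_lit 6107) (nat_lit 6124)))) (FT.node (nat_lit 6127) (FT.leaf (Fct.mk false (nat_lit 37) (nat_lit 0) (nat_lit 37) [nat_lit 7, nat_lit 6, nat_lit 5, nat_lit 3, nat_lit 4, nat_lit 1, nat_lit 2, nat_lit 3, nat_lit 8, nat_lit 0, nat_lit 1, nat_lit 2, nat_lit 3, nat_lit 4, nat_lit 5, nat_lit 6, nat_lit 7, nat_lit 5, nat_lit 3, nat_lit 4, nat_lit 1, nat_lit 2, nat_lit 3, nat_lit 8, nat_lit 0, nat_lit 1, nat_lit 2, nat_lit 3, nat_lit 4, nat_lit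 5, nat_lit 0, nat_lit 1, nat_lit 9, nat_lit 4, nat_lit 3, nat_lit 2, nat_lit 8, nat_lit 3, nat_lit 11, nat_lit 8, nat_lit 10, nat_lit 1, nat_lit 8, nat_lit 16, nat_lit 15, nat_lit 14, nat_lit 13, nat_lit 19] (Rl.cmp (nat_lit 6110) (nat_lit 6125)))) (FT.leaf (Fct.mk false (nat_lit 37) (nat_lit 0) (nat_lit 37) [nat_lit 1, nat_lit 2, nat_lit 3, nat_lit 8, nat_lit 4, nat_lit 5, nat_lit 3, nat_lit 4, nat_lit 2, nat_lit 3, nat_lit 8, nat_lit 1, nat_lit 2, nat_lit 3, nat_lit 4, nat_lit 5, nat_lit 6, nat_lit 7, nat_lit 4, nat_lit 5, nat_lit 3, nat_lit 4, nat_lit 1, nat_lit 2, nat_lit 3, nat_lit 8, nat_lit 0, nat_lit 1, nat_lit 2, nat_lit 3, nat_lit 4, nat_lit 5, nat_lit 0, nat_lit 1, nat_lit 9, nat_lit 4, nat_lit 3, nat_lit 2, nat_lit 8, nat_lit 3, nat_lit 1, nat_lit 9, nat_lit 8, nat_lit 12, nat_lit 15, nat_lit 14, nat_lit 17, nat_lit 12, nat_lit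 18, nat_lit 16] (Rl.cmp (nat_lit 6110) (nat_lit 6126)))))) (FT.node (nat_lit 6129) (FT.leaf (Fct.mk false (nat_lit 37) (nat_lit 0) (nat_lit 37) [nat_lit 5, nat_lit 3, nat_lit 4, nat_lit 2, nat_lit 3, nat_lit 8, nat_lit 6, nat_lit 7, nat_lit 5, nat_lit 6, nat_lit 4, nat_lit 5, nat_lit 3, nat_lit 4, nat_lit 2, nat_lit 3, nat_lit 8, nat_lit 0, nat_lit 1, nat_lit 2, nat_lit 3, nat_lit 4, nat_lit 5, nat_lit 6, nat_lit 7, nat_lit 4, nat_lit 5, nat_lit 1, nat_lit 3, nat_lit 2, nat_lit 8, nat_lit 3, nat_lit 9, nat_lit 10, nat_lit 2, nat_lit 8, nat_lit 10, nat_lit 1, nat_lit 8, nat_lit 18] (Rl.cmp (nat_lit 6110) (nat_lit 6127)))) (FT.node (nat_lit 6130) (FT.leaf (Fct.mk false (nat_lit 37) (nat_lit 0) (nat_lit 37) [nat_lit 3, nat_lit 8, nat_lit 6, nat_lit 7, nat_lit 5, nat_lit 6, nat_lit 4, nat_lit 5, nat_lit 3, nat_lit 4, nat_lit 2, nat_lit 3, nat_lit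 8, nat_lit 0, nat_lit 1, nat_lit 2, nat_lit 3, nat_lit 4, nat_lit 5, nat_lit 6, nat_lit 7, nat_lit 6, nat_lit 0, nat_lit 1, nat_lit 3, nat_lit 2, nat_lit 8, nat_lit 3, nat_lit 1, nat_lit 0, nat_lit 2, nat_lit 15, nat_lit 13, nat_lit 12, nat_lit 18, nat_lit 16] (Rl.cmp (nat_lit 6110) (nat_lit 6128)))) (FT.leaf (Fct.mk false (nat_lit 37) (nat_lit 0) (nat_lit 37) [nat_lit 3, nat_lit 8, nat_lit 7, nat_lit 6, nat_lit 5, nat_lit 2, nat_lit 3, nat_lit 4, nat_lit 1, nat_lit 2, nat_lit 3, nat_lit 8, nat_lit 0, nat_lit 1, nat_lit 2, nat_lit 3, nat_lit 4, nat_lit 5, nat_lit 6, nat_lit 7, nat_lit 0, nat_lit 1, nat_lit 2, nat_lit 3, nat_lit 11, nat_lit 14, nat_lit 12, nat_lit 18, nat_lit 16] (Rl.cmp (nat_lit 6106) (nat_lit 6129))))))) (FT.node (nat_lit 6134) (FT.node (nat_lit 6132) (FT.leaf (Fct.mk false (nat_lit 37) (nat_lit 0) (nat_lit 37) [nat_lit 2,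 nat_lit 3, nat_lit 8, nat_lit 6, nat_lit 7, nat_lit 5, nat_lit 6, nat_lit 4, nat_lit 5, nat_lit 3, nat_lit 4, nat_lit 2, nat_lit 3, nat_lit 8, nat_lit 1, nat_lit 2, nat_lit 3, nat_lit 4, nat_lit 5, nat_lit 6, nat_lit 7, nat_lit 6, nat_lit 0, nat_lit 1, nat_lit 2, nat_lit 3, nat_lit 0, nat_lit 15, nat_lit 13, nat_lit 12, nat_lit 18, nat_lit 16] (Rl.cmp (nat_lit 6106) (nat_lit 6130)))) (FT.node (nat_lit 6133) (FT.leaf (Fct.mk false (nat_lit 37) (nat_lit 0) (nat_lit 37) [nat_lit 8, nat_lit 7, nat_lit 6, nat_lit 4, nat_lit 5, nat_lit 2, nat_lit 3, nat_lit 4, nat_lit 1, nat_lit 2, nat_lit 3, nat_lit 8, nat_lit 0, nat_lit 1, nat_lit 2, nat_lit 3, nat_lit 4, nat_lit 5, nat_lit 6, nat_lit 7, nat_lit 6, nat_lit 0, nat_lit 1, nat_lit 3, nat_lit 2, nat_lit 8, nat_lit 3, nat_lit 11, nat_lit 10, nat_lit 1, nat_lit 8, nat_lit 16, nat_lit 15, nat_lit 14,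 nat_lit 12, nat_lit 18, nat_lit 16] (Rl.cmp (nat_lit 6110) (nat_lit 6131)))) (FT.leaf (Fct.mk false (nat_lit 37) (nat_lit 0) (nat_lit 37) [nat_lit 2, nat_lit 3, nat_lit 8, nat_lit 7, nat_lit 6, nat_lit 4, nat_lit 5, nat_lit 3, nat_lit 4, nat_lit 2, nat_lit 3, nat_lit 8, nat_lit 1, nat_lit 2, nat_lit 3, nat_lit 4, nat_lit 5, nat_lit 6, nat_lit 7, nat_lit 5, nat_lit 3, nat_lit 2, nat_lit 1, nat_lit 9, nat_lit 4, nat_lit 3, nat_lit 2, nat_lit 8, nat_lit 3, nat_lit 11, nat_lit 8, nat_lit 16, nat_lit 15, nat_lit 14, nat_lit 17, nat_lit 19] (Rl.cmp (nat_lit 6106) (nat_lit 6132)))))) (FT.node (nat_lit 6135) (FT.leaf (Fct.mk true (nat_lit 37) (nat_lit 77) (nat_lit 33) [nat_lit 5, nat_lit 4, nat_lit 1, nat_lit 2, nat_lit 3, nat_lit 8, nat_lit 0, nat_lit 1, nat_lit 2, nat_lit 3, nat_lit 4, nat_lit 5, nat_lit 6, nat_lit 7, nat_lit 5, nat_lit 4, nat_lit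 2, nat_lit 3, nat_lit 8, nat_lit 1, nat_lit 2, nat_lit 3, nat_lit 4, nat_lit 5, nat_lit 3, nat_lit 2, nat_lit 8, nat_lit 3, nat_lit 10, nat_lit 8, nat_lit 16, nat_lit 15, nat_lit 14, nat_lit 17, nat_lit 19, nat_lit 16] (Rl.t1 (nat_lit 6099) (nat_lit 6133)))) (FT.node (nat_lit 6136) (FT.leaf (Fct.mk false (nat_lit 37) (nat_lit 0) (nat_lit 37) [nat_lit 135] (Rl.cmp (nat_lit 6106) (nat_lit 6106)))) (FT.leaf (Fct.mk false (nat_lit 37) (nat_lit 0) (nat_lit 37) [nat_lit 8, nat_lit 7, nat_lit 6, nat_lit 5, nat_lit 3, nat_lit 4, nat_lit 2, nat_lit 3, nat_lit 8, nat_lit 1, nat_lit 2, nat_lit 3, nat_lit 4, nat_lit 5, nat_lit 6, nat_lit 7, nat_lit 6, nat_lit 3, nat_lit 8, nat_lit 4, nat_lit 3, nat_lit 2, nat_lit 1, nat_lit 9, nat_lit 4, nat_lit 3, nat_lit 2, nat_lit 8, nat_lit 3, nat_lit 2, nat_lit 16, nat_lit 8] (Rl.cmp (nat_lit 6110) (nat_lit 6135))))))))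 (FT.node (nat_lit 6143) (FT.node (nat_lit 6140) (FT.node (nat_lit 6138) (FT.leaf (Fct.mk false (nat_lit 37) (nat_lit 0) (nat_lit 37) [nat_lit 2, nat_lit 3, nat_lit 8, nat_lit 6, nat_lit 7, nat_lit 5, nat_lit 6, nat_lit 4, nat_lit 5, nat_lit 3, nat_lit 4, nat_lit 2, nat_lit 3, nat_lit 8, nat_lit 0, nat_lit 1, nat_lit 2, nat_lit 3, nat_lit 4, nat_lit 5, nat_lit 6, nat_lit 7, nat_lit 5, nat_lit 2, nat_lit 3, nat_lit 8, nat_lit 4, nat_lit 3, nat_lit 2, nat_lit 1, nat_lit 9, nat_lit 4, nat_lit 3, nat_lit 2, nat_lit 8, nat_lit 3, nat_lit 10, nat_lit 9, nat_lit 2, nat_lit 16, nat_lit 8, nat_lit 18] (Rl.cmp (nat_lit 6106) (nat_lit 6136)))) (FT.node (nat_lit 6139) (FT.leaf (Fct.mk false (nat_lit 37) (nat_lit 0) (nat_lit 37) [nat_lit 8, nat_lit 6, nat_lit 7, nat_lit 5, nat_lit 6, nat_lit 4, nat_lit 5, nat_lit 2, nat_lit 3, nat_lit 4, nat_lit 1, nat_lit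 2, nat_lit 3, nat_lit 8, nat_lit 0, nat_lit 1, nat_lit 2, nat_lit 3, nat_lit 4, nat_lit 5, nat_lit 6, nat_lit 7, nat_lit 4, nat_lit 3, nat_lit 8, nat_lit 2, nat_lit 3, nat_lit 4, nat_lit 1, nat_lit 2, nat_lit 3, nat_lit 8, nat_lit 0, nat_lit 1, nat_lit 2, nat_lit 3, nat_lit 4, nat_lit 5, nat_lit 1, nat_lit 4, nat_lit 3, nat_lit 2, nat_lit 0, nat_lit 1, nat_lit 9, nat_lit 4, nat_lit 3, nat_lit 2, nat_lit 8, nat_lit 3, nat_lit 8, nat_lit 10, nat_lit 0, nat_lit 17, nat_lit 12, nat_lit 18] (Rl.cmp (nat_lit 6106) (nat_lit 6137)))) (FT.leaf (Fct.mk false (nat_lit 37) (nat_lit 0) (nat_lit 37) [nat_lit 8, nat_lit 3, nat_lit 4, nat_lit 2, nat_lit 3, nat_lit 8, nat_lit 1, nat_lit 2, nat_lit 3, nat_lit 4, nat_lit 5, nat_lit 2, nat_lit 3, nat_lit 8, nat_lit 4, nat_lit 3, nat_lit 2, nat_lit 1, nat_lit 9, nat_lit 4, nat_lit 3, nat_lit 2, nat_lit 8, nat_lit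 3, nat_lit 8, nat_lit 18] (Rl.cmp (nat_lit 6110) (nat_lit 6138)))))) (FT.node (nat_lit 6141) (FT.leaf (Fct.mk false (nat_lit 37) (nat_lit 0) (nat_lit 37) [nat_lit 2, nat_lit 3, nat_lit 8, nat_lit 6, nat_lit 4, nat_lit 5, nat_lit 3, nat_lit 4, nat_lit 2, nat_lit 3, nat_lit 8, nat_lit 0, nat_lit 1, nat_lit 2, nat_lit 3, nat_lit 4, nat_lit 5, nat_lit 4, nat_lit 3, nat_lit 2, nat_lit 1, nat_lit 9, nat_lit 4, nat_lit 3, nat_lit 2, nat_lit 8, nat_lit 3, nat_lit 1, nat_lit 9, nat_lit 18] (Rl.cmp (nat_lit 6106) (nat_lit 6139)))) (FT.node (nat_lit 6142) (FT.leaf (Fct.mk false (nat_lit 37) (nat_lit 0) (nat_lit 37) [nat_lit 8, nat_lit 6, nat_lit 4, nat_lit 5, nat_lit 2, nat_lit 3, nat_lit 4, nat_lit 1, nat_lit 2, nat_lit 3, nat_lit 8, nat_lit 0, nat_lit 1, nat_lit 2, nat_lit 3, nat_lit 4, nat_lit 5, nat_lit 8, nat_lit 4, nat_lit 3, nat_lit 2, nat_lit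 1, nat_lit 9, nat_lit 4, nat_lit 3, nat_lit 2, nat_lit 8, nat_lit 3, nat_lit 11, nat_lit 2, nat_lit 10, nat_lit 1, nat_lit 8, nat_lit 16, nat_lit 15, nat_lit 14, nat_lit 8, nat_lit 19, nat_lit 16] (Rl.cmp (nat_lit 6106) (nat_lit 6140)))) (FT.leaf (Fct.mk false (nat_lit 37) (nat_lit 0) (nat_lit 37) [nat_lit 8, nat_lit 7, nat_lit 6, nat_lit 5, nat_lit 3, nat_lit 4, nat_lit 2, nat_lit 3, nat_lit 8, nat_lit 1, nat_lit 2, nat_lit 3, nat_lit 4, nat_lit 5, nat_lit 6, nat_lit 7, nat_lit 2, nat_lit 3, nat_lit 4, nat_lit 5, nat_lit 1, nat_lit 9, nat_lit 4, nat_lit 3, nat_lit 2, nat_lit 8, nat_lit 3, nat_lit 10, nat_lit 1, nat_lit 14, nat_lit 8, nat_lit 18] (Rl.cmp (nat_lit 6110) (nat_lit 6141))))))) (FT.node (nat_lit 6146) (FT.node (nat_lit 6144) (FT.leaf (Fct.mk true (nat_lit 37) (nat_lit 9) (nat_lit 32) [nat_lit 8, nat_lit 4, nat_lit 5, nat_lit 3,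 nat_lit 4, nat_lit 2, nat_lit 3, nat_lit 8, nat_lit 0, nat_lit 1, nat_lit 2, nat_lit 3, nat_lit 4, nat_lit 5, nat_lit 6, nat_lit 7, nat_lit 8, nat_lit 3, nat_lit 4, nat_lit 2, nat_lit 3, nat_lit 8, nat_lit 0, nat_lit 1, nat_lit 2, nat_lit 3, nat_lit 4, nat_lit 5, nat_lit 3, nat_lit 2, nat_lit 1, nat_lit 8, nat_lit 3, nat_lit 2, nat_lit 0, nat_lit 1, nat_lit 4, nat_lit 3, nat_lit 2, nat_lit 8, nat_lit 3, nat_lit 10, nat_lit 9, nat_lit 2, nat_lit 8, nat_lit 16, nat_lit 15, nat_lit 14] (Rl.t1 (nat_lit 6102) (nat_lit 6142)))) (FT.node (nat_lit 6145) (FT.leaf (Fct.mk false (nat_lit 37) (nat_lit 0) (nat_lit 37) [nat_lit 8, nat_lit 7, nat_lit 6, nat_lit 5, nat_lit 3, nat_lit 4, nat_lit 2, nat_lit 3, nat_lit 8, nat_lit 1, nat_lit 2, nat_lit 3, nat_lit 4, nat_lit 5, nat_lit 6, nat_lit 7, nat_lit 6, nat_lit 8, nat_lit 4, nat_lit 3, nat_lit 2, nat_lit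 1, nat_lit 9, nat_lit 4, nat_lit 3, nat_lit 2, nat_lit 8, nat_lit 3, nat_lit 11, nat_lit 8, nat_lit 10, nat_lit 17, nat_lit 12, nat_lit 18, nat_lit 16] (Rl.cmp (nat_lit 6110) (nat_lit 6106)))) (FT.leaf (Fct.mk false (nat_lit 37) (nat_lit 0) (nat_lit 37) [nat_lit 3, nat_lit 8, nat_lit 7, nat_lit 6, nat_lit 4, nat_lit 5, nat_lit 3, nat_lit 4, nat_lit 2, nat_lit 3, nat_lit 8, nat_lit 0, nat_lit 1, nat_lit 2, nat_lit 3, nat_lit 4, nat_lit 5, nat_lit 6, nat_lit 7, nat_lit 8, nat_lit 3, nat_lit 4, nat_lit 2, nat_lit 3, nat_lit 8, nat_lit 1, nat_lit 2, nat_lit 3, nat_lit 4, nat_lit 5, nat_lit 3, nat_lit 8, nat_lit 4, nat_lit 3, nat_lit 2, nat_lit 0, nat_lit 1, nat_lit 9, nat_lit 4, nat_lit 3, nat_lit 2, nat_lit 8, nat_lit 3, nat_lit 11, nat_lit 13, nat_lit 12, nat_lit 19, nat_lit 16] (Rl.cmp (nat_lit 6110) (nat_lit 6144)))))) (FT.node (nat_lit 6148)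 (FT.node (nat_lit 6147) (FT.leaf (Fct.mk false (nat_lit 37) (nat_lit 0) (nat_lit 37) [nat_lit 3, nat_lit 4, nat_lit 2, nat_lit 3, nat_lit 8, nat_lit 6, nat_lit 7, nat_lit 5, nat_lit 6, nat_lit 4, nat_lit 5, nat_lit 3, nat_lit 4, nat_lit 2, nat_lit 3, nat_lit 8, nat_lit 1, nat_lit 2, nat_lit 3, nat_lit 4, nat_lit 5, nat_lit 6, nat_lit 7, nat_lit 8, nat_lit 5, nat_lit 3, nat_lit 4, nat_lit 2, nat_lit 3, nat_lit 8, nat_lit 1, nat_lit 2, nat_lit 3, nat_lit 4, nat_lit 5, nat_lit 2, nat_lit 3, nat_lit 8, nat_lit 4, nat_lit 3, nat_lit 2, nat_lit 0, nat_lit 1, nat_lit 9, nat_lit 4, nat_lit 3, nat_lit 2, nat_lit 8, nat_lit 3, nat_lit 11, nat_lit 10, nat_lit 1, nat_lit 13, nat_lit 12, nat_lit 19, nat_lit 16] (Rl.cmp (nat_lit 6107) (nat_lit 6145)))) (FT.leaf (Fct.mk false (nat_lit 37) (nat_lit 0) (nat_lit 37) [nat_lit 7, nat_lit 6, nat_lit 5, nat_lit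 3, nat_lit 4, nat_lit 1, nat_lit 2, nat_lit 3, nat_lit 8, nat_lit 0, nat_lit 1, nat_lit 2, nat_lit 3, nat_lit 4, nat_lit 5, nat_lit 6, nat_lit 7, nat_lit 5, nat_lit 3, nat_lit 4, nat_lit 1, nat_lit 2, nat_lit 3, nat_lit 8, nat_lit 0, nat_lit 1, nat_lit 2, nat_lit 3, nat_lit 4, nat_lit 5, nat_lit 0, nat_lit 1, nat_lit 9, nat_lit 4, nat_lit 3, nat_lit 2, nat_lit 8, nat_lit 3, nat_lit 11, nat_lit 8, nat_lit 10, nat_lit 1, nat_lit 8, nat_lit 16, nat_lit 15, nat_lit 14, nat_lit 13, nat_lit 19] (Rl.cmp (nat_lit 6110) (nat_lit 6146))))) (FT.node (nat_lit 6149) (FT.leaf (Fct.mk false (nat_lit 37) (nat_lit 0) (nat_lit 37) [nat_lit 1, nat_lit 2, nat_lit 3, nat_lit 8, nat_lit 4, nat_lit 5, nat_lit 3, nat_lit 4, nat_lit 2, nat_lit 3, nat_lit 8, nat_lit 1, nat_lit 2, nat_lit 3, nat_lit 4, nat_lit 5, nat_lit 6, nat_lit 7, nat_lit 4, nat_lit 5, nat_lit 3,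 nat_lit 4, nat_lit 1, nat_lit 2, nat_lit 3, nat_lit 8, nat_lit 0, nat_lit 1, nat_lit 2, nat_lit 3, nat_lit 4, nat_lit 5, nat_lit 0, nat_lit 1, nat_lit 9, nat_lit 4, nat_lit 3, nat_lit 2, nat_lit 8, nat_lit 3, nat_lit 1, nat_lit 9, nat_lit 8, nat_lit 12, nat_lit 15, nat_lit 14, nat_lit 17, nat_lit 12, nat_lit 18, nat_lit 16] (Rl.cmp (nat_lit 6110) (nat_lit 6147)))) (FT.leaf (Fct.mk false (nat_lit 37) (nat_lit 0) (nat_lit 37) [nat_lit 5, nat_lit 3, nat_lit 4, nat_lit 2, nat_lit 3, nat_lit 8, nat_lit 6, nat_lit 7, nat_lit 5, nat_lit 6, nat_lit 4, nat_lit 5, nat_lit 3, nat_lit 4, nat_lit 2, nat_lit 3, nat_lit 8, nat_lit 0, nat_lit 1, nat_lit 2, nat_lit 3, nat_lit 4, nat_lit 5, nat_lit 6, nat_lit 7, nat_lit 4, nat_lit 5, nat_lit 1, nat_lit 3, nat_lit 2, nat_lit 8, nat_lit 3, nat_lit 9, nat_lit 10, nat_lit 2, nat_lit 8, nat_lit 10, nat_lit 1, nat_lit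 8, nat_lit 18] (Rl.cmp (nat_lit 6110) (nat_lit 6148)))))))))

/-- some facts -/
noncomputable def ftc123 : FT := FT.node (nat_lit 6175) (FT.node (nat_lit 6162) (FT.node (nat_lit 6156) (FT.node (nat_lit 6153) (FT.node (nat_lit 6151) (FT.leaf (Fct.mk false (nat_lit 37) (nat_lit 0) (nat_lit 37) [nat_lit 3, nat_lit 8, nat_lit 6, nat_lit 7, nat_lit 5, nat_lit 6, nat_lit 4, nat_lit 5, nat_lit 3, nat_lit 4, nat_lit 2, nat_lit 3, nat_lit 8, nat_lit 0, nat_lit 1, nat_lit 2, nat_lit 3, nat_lit 4, nat_lit 5, nat_lit 6, nat_lit 7, nat_lit 6, nat_lit 0, nat_lit 1, nat_lit 3, nat_lit 2, nat_lit 8, nat_lit 3, nat_lit 1, nat_lit 0, nat_lit 2, nat_lit 15, nat_lit 13, nat_lit 12, nat_lit 18, nat_lit 16] (Rl.cmp (nat_lit 6110) (nat_lit 6149)))) (FT.node (nat_lit 6152) (FT.leaf (Fct.mk false (nat_lit 37) (nat_lit 0) (nat_lit 37) [nat_lit 3, nat_lit 8, nat_lit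 7, nat_lit 6, nat_lit 5, nat_lit 2, nat_lit 3, nat_lit 4, nat_lit 1, nat_lit 2, nat_lit 3, nat_lit 8, nat_lit 0, nat_lit 1, nat_lit 2, nat_lit 3, nat_lit 4, nat_lit 5, nat_lit 6, nat_lit 7, nat_lit 0, nat_lit 1, nat_lit 2, nat_lit 3, nat_lit 11, nat_lit 14, nat_lit 12, nat_lit 18, nat_lit 16] (Rl.cmp (nat_lit 6106) (nat_lit 6150)))) (FT.leaf (Fct.mk false (nat_lit 37) (nat_lit 0) (nat_lit 37) [nat_lit 2, nat_lit 3, nat_lit 8, nat_lit 6, nat_lit 7, nat_lit 5, nat_lit 6, nat_lit 4, nat_lit 5, nat_lit 3, nat_lit 4, nat_lit 2, nat_lit 3, nat_lit 8, nat_lit 1, nat_lit 2, nat_lit 3, nat_lit 4, nat_lit 5, nat_lit 6, nat_lit 7, nat_lit 6, nat_lit 0, nat_lit 1, nat_lit 2, nat_lit 3, nat_lit 0, nat_lit 15, nat_lit 13, nat_lit 12, nat_lit 18, nat_lit 16] (Rl.cmp (nat_lit 6106) (nat_lit 6151)))))) (FT.node (nat_lit 6154) (FT.leaf (Fct.mk false (nat_lit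 37) (nat_lit 0) (nat_lit 37) [nat_lit 8, nat_lit 7, nat_lit 6, nat_lit 4, nat_lit 5, nat_lit 2, nat_lit 3, nat_lit 4, nat_lit 1, nat_lit 2, nat_lit 3, nat_lit 8, nat_lit 0, nat_lit 1, nat_lit 2, nat_lit 3, nat_lit 4, nat_lit 5, nat_lit 6, nat_lit 7, nat_lit 6, nat_lit 0, nat_lit 1, nat_lit 3, nat_lit 2, nat_lit 8, nat_lit 3, nat_lit 11, nat_lit 10, nat_lit 1, nat_lit 8, nat_lit 16, nat_lit 15, nat_lit 14, nat_lit 12, nat_lit 18, nat_lit 16] (Rl.cmp (nat_lit 6110) (nat_lit 6152)))) (FT.node (nat_lit 6155) (FT.leaf (Fct.mk true (nat_lit 37) (nat_lit 1) (nat_lit 33) [nat_lit 8, nat_lit 3, nat_lit 4, nat_lit 5, nat_lit 6, nat_lit 7, nat_lit 4, nat_lit 5, nat_lit 1, nat_lit 4, nat_lit 3, nat_lit 2, nat_lit 8, nat_lit 3, nat_lit 0, nat_lit 15, nat_lit 12, nat_lit 18] (Rl.t1 (nat_lit 6109) (nat_lit 6153)))) (FT.leaf (Fct.mk false (nat_lit 37) (nat_lit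 0) (nat_lit 37) [nat_lit 2, nat_lit 3, nat_lit 8, nat_lit 6, nat_lit 7, nat_lit 5, nat_lit 6, nat_lit 4, nat_lit 5, nat_lit 3, nat_lit 4, nat_lit 2, nat_lit 3, nat_lit 8, nat_lit 0, nat_lit 1, nat_lit 2, nat_lit 3, nat_lit 4, nat_lit 5, nat_lit 6, nat_lit 7, nat_lit 5, nat_lit 1, nat_lit 3, nat_lit 2, nat_lit 0, nat_lit 1, nat_lit 9, nat_lit 4, nat_lit 3, nat_lit 2, nat_lit 8, nat_lit 3, nat_lit 2, nat_lit 13, nat_lit 16] (Rl.cmp (nat_lit 6106) (nat_lit 6110))))))) (FT.node (nat_lit 6159) (FT.node (nat_lit 6157) (FT.leaf (Fct.mk false (nat_lit 37) (nat_lit 0) (nat_lit 37) [nat_lit 8, nat_lit 7, nat_lit 6, nat_lit 4, nat_lit 5, nat_lit 3, nat_lit 4, nat_lit 1, nat_lit 2, nat_lit 3, nat_lit 8, nat_lit 0, nat_lit 1, nat_lit 2, nat_lit 3, nat_lit 4, nat_lit 5, nat_lit 6, nat_lit 7, nat_lit 0, nat_lit 1, nat_lit 2, nat_lit 3, nat_lit 4, nat_lit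 5, nat_lit 2, nat_lit 1, nat_lit 9, nat_lit 4, nat_lit 3, nat_lit 2, nat_lit 8, nat_lit 3, nat_lit 11, nat_lit 2, nat_lit 8, nat_lit 18, nat_lit 16] (Rl.cmp (nat_lit 6110) (nat_lit 6155)))) (FT.node (nat_lit 6158) (FT.leaf (Fct.mk false (nat_lit 37) (nat_lit 0) (nat_lit 37) [nat_lit 7, nat_lit 6, nat_lit 4, nat_lit 5, nat_lit 3, nat_lit 4, nat_lit 2, nat_lit 3, nat_lit 8, nat_lit 1, nat_lit 2, nat_lit 3, nat_lit 4, nat_lit 5, nat_lit 6, nat_lit 7, nat_lit 8, nat_lit 4, nat_lit 5, nat_lit 3, nat_lit 4, nat_lit 2, nat_lit 3, nat_lit 8, nat_lit 1, nat_lit 2, nat_lit 3, nat_lit 4, nat_lit 5, nat_lit 0, nat_lit 1, nat_lit 2, nat_lit 3, nat_lit 8, nat_lit 10, nat_lit 9, nat_lit 2, nat_lit 8, nat_lit 16, nat_lit 14, nat_lit 13, nat_lit 12, nat_lit 18, nat_lit 16] (Rl.cmp (nat_lit 6110) (nat_lit 6156)))) (FT.leaf (Fct.mk false (nat_lit 37) (nat_lit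 0) (nat_lit 37) [nat_lit 4, nat_lit 5, nat_lit 2, nat_lit 3, nat_lit 4, nat_lit 1, nat_lit 2, nat_lit 3, nat_lit 8, nat_lit 0, nat_lit 1, nat_lit 2, nat_lit 3, nat_lit 4, nat_lit 5, nat_lit 6, nat_lit 7, nat_lit 4, nat_lit 5, nat_lit 3, nat_lit 4, nat_lit 2, nat_lit 3, nat_lit 8, nat_lit 1, nat_lit 2, nat_lit 3, nat_lit 4, nat_lit 5, nat_lit 2, nat_lit 3, nat_lit 8, nat_lit 4, nat_lit 3, nat_lit 2, nat_lit 1, nat_lit 9, nat_lit 4, nat_lit 3, nat_lit 2, nat_lit 8, nat_lit 3, nat_lit 8, nat_lit 10, nat_lit 9, nat_lit 2, nat_lit 12, nat_lit 15, nat_lit 13, nat_lit 12, nat_lit 18] (Rl.cmp (nat_lit 6110) (nat_lit 6157)))))) (FT.node (nat_lit 6160) (FT.leaf (Fct.mk false (nat_lit 37) (nat_lit 0) (nat_lit 37) [nat_lit 3, nat_lit 8, nat_lit 6, nat_lit 4, nat_lit 5, nat_lit 3, nat_lit 4, nat_lit 1, nat_lit 2, nat_lit 3, nat_lit 8, nat_lit 0, nat_lit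 1, nat_lit 2, nat_lit 3, nat_lit 4, nat_lit 5, nat_lit 6, nat_lit 7, nat_lit 8, nat_lit 1, nat_lit 2, nat_lit 3, nat_lit 4, nat_lit 5, nat_lit 9, nat_lit 4, nat_lit 11, nat_lit 2, nat_lit 8, nat_lit 12, nat_lit 15, nat_lit 14, nat_lit 13, nat_lit 12, nat_lit 18, nat_lit 16] (Rl.cmp (nat_lit 6110) (nat_lit 6158)))) (FT.node (nat_lit 6161) (FT.leaf (Fct.mk false (nat_lit 37) (nat_lit 0) (nat_lit 37) [nat_lit 3, nat_lit 4, nat_lit 2, nat_lit 3, nat_lit 8, nat_lit 7, nat_lit 5, nat_lit 6, nat_lit 4, nat_lit 5, nat_lit 3, nat_lit 4, nat_lit 2, nat_lit 3, nat_lit 8, nat_lit 0, nat_lit 1, nat_lit 2, nat_lit 3, nat_lit 4, nat_lit 5, nat_lit 6, nat_lit 7, nat_lit 3, nat_lit 4, nat_lit 2, nat_lit 3, nat_lit 8, nat_lit 1, nat_lit 2, nat_lit 3, nat_lit 4, nat_lit 5, nat_lit 8, nat_lit 3, nat_lit 2, nat_lit 0, nat_lit 1, nat_lit 4, nat_lit 3, nat_lit 2,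 nat_lit 8, nat_lit 3, nat_lit 11, nat_lit 10, nat_lit 1, nat_lit 12, nat_lit 15, nat_lit 13, nat_lit 12, nat_lit 16] (Rl.cmp (nat_lit 6110) (nat_lit 6159)))) (FT.leaf (Fct.mk false (nat_lit 37) (nat_lit 0) (nat_lit 37) [nat_lit 4, nat_lit 3, nat_lit 8, nat_lit 7, nat_lit 5, nat_lit 6, nat_lit 4, nat_lit 5, nat_lit 3, nat_lit 4, nat_lit 1, nat_lit 2, nat_lit 3, nat_lit 8, nat_lit 0, nat_lit 1, nat_lit 2, nat_lit 3, nat_lit 4, nat_lit 5, nat_lit 6, nat_lit 7, nat_lit 8, nat_lit 3, nat_lit 4, nat_lit 2, nat_lit 3, nat_lit 8, nat_lit 1, nat_lit 2, nat_lit 3, nat_lit 4, nat_lit 5, nat_lit 4, nat_lit 3, nat_lit 2, nat_lit 1, nat_lit 9, nat_lit 4, nat_lit 3, nat_lit 2, nat_lit 8, nat_lit 3, nat_lit 10, nat_lit 2, nat_lit 8, nat_lit 10, nat_lit 1, nat_lit 16, nat_lit 8, nat_lit 12, nat_lit 15, nat_lit 16, nat_lit 8, nat_lit 19] (Rl.cmp (nat_lit 6106)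 (nat_lit 6160)))))))) (FT.node (nat_lit 6168) (FT.node (nat_lit 6165) (FT.node (nat_lit 6163) (FT.leaf (Fct.mk false (nat_lit 37) (nat_lit 0) (nat_lit 37) [nat_lit 4, nat_lit 3, nat_lit 8, nat_lit 2, nat_lit 3, nat_lit 4, nat_lit 1, nat_lit 2, nat_lit 3, nat_lit 8, nat_lit 6, nat_lit 7, nat_lit 5, nat_lit 6, nat_lit 4, nat_lit 5, nat_lit 3, nat_lit 4, nat_lit 2, nat_lit 3, nat_lit 8, nat_lit 1, nat_lit 2, nat_lit 3, nat_lit 4, nat_lit 5, nat_lit 6, nat_lit 7, nat_lit 1, nat_lit 2, nat_lit 3, nat_lit 8, nat_lit 5, nat_lit 6, nat_lit 4, nat_lit 5, nat_lit 3, nat_lit 4, nat_lit 2, nat_lit 3, nat_lit 8, nat_lit 1, nat_lit 2, nat_lit 3, nat_lit 4, nat_lit 5, nat_lit 1, nat_lit 2, nat_lit 0, nat_lit 1, nat_lit 4, nat_lit 3, nat_lit 2, nat_lit 8, nat_lit 3, nat_lit 10, nat_lit 9, nat_lit 2, nat_lit 16, nat_lit 14] (Rl.cmp (nat_lit 6110) (nat_lit 6161))))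 (FT.node (nat_lit 6164) (FT.leaf (Fct.mk false (nat_lit 37) (nat_lit 0) (nat_lit 37) [nat_lit 3, nat_lit 4, nat_lit 2, nat_lit 3, nat_lit 8, nat_lit 7, nat_lit 5, nat_lit 6, nat_lit 4, nat_lit 5, nat_lit 3, nat_lit 4, nat_lit 2, nat_lit 3, nat_lit 8, nat_lit 1, nat_lit 2, nat_lit 3, nat_lit 4, nat_lit 5, nat_lit 6, nat_lit 7, nat_lit 8, nat_lit 5, nat_lit 6, nat_lit 4, nat_lit 5, nat_lit 2, nat_lit 3, nat_lit 4, nat_lit 1, nat_lit 2, nat_lit 3, nat_lit 8, nat_lit 0, nat_lit 1, nat_lit 2, nat_lit 3, nat_lit 4, nat_lit 5, nat_lit 2, nat_lit 1, nat_lit 8, nat_lit 3, nat_lit 2, nat_lit 0, nat_lit 1, nat_lit 4, nat_lit 3, nat_lit 2, nat_lit 8, nat_lit 3, nat_lit 11, nat_lit 2, nat_lit 8, nat_lit 10, nat_lit 1, nat_lit 8, nat_lit 16, nat_lit 15, nat_lit 14, nat_lit 18] (Rl.cmp (nat_lit 6110) (nat_lit 6162)))) (FT.leaf (Fct.mk false (nat_lit 37) (nat_lit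 0) (nat_lit 37) [nat_lit 6, nat_lit 4, nat_lit 5, nat_lit 2, nat_lit 3, nat_lit 4, nat_lit 1, nat_lit 2, nat_lit 3, nat_lit 8, nat_lit 0, nat_lit 1, nat_lit 2, nat_lit 3, nat_lit 4, nat_lit 5, nat_lit 6, nat_lit 7, nat_lit 4, nat_lit 3, nat_lit 8, nat_lit 2, nat_lit 3, nat_lit 4, nat_lit 5, nat_lit 4, nat_lit 3, nat_lit 2, nat_lit 8, nat_lit 3, nat_lit 1, nat_lit 9, nat_lit 18] (Rl.cmp (nat_lit 6110) (nat_lit 6163)))))) (FT.node (nat_lit 6166) (FT.leaf (Fct.mk false (nat_lit 37) (nat_lit 0) (nat_lit 37) [nat_lit 4, nat_lit 1, nat_lit 2, nat_lit 3, nat_lit 8, nat_lit 0, nat_lit 1, nat_lit 2, nat_lit 3, nat_lit 4, nat_lit 5, nat_lit 6, nat_lit 7, nat_lit 3, nat_lit 8, nat_lit 0, nat_lit 1, nat_lit 2, nat_lit 3, nat_lit 4, nat_lit 5, nat_lit 3, nat_lit 2, nat_lit 8, nat_lit 3, nat_lit 1, nat_lit 9, nat_lit 8, nat_lit 18] (Rl.cmp (nat_lit 6107)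 (nat_lit 6164)))) (FT.node (nat_lit 6167) (FT.leaf (Fct.mk true (nat_lit 33) (nat_lit 720) (nat_lit 37) [nat_lit 8, nat_lit 2, nat_lit 3, nat_lit 4, nat_lit 5, nat_lit 6, nat_lit 7, nat_lit 8, nat_lit 3, nat_lit 4, nat_lit 2, nat_lit 3, nat_lit 8, nat_lit 1, nat_lit 2, nat_lit 3, nat_lit 4, nat_lit 5, nat_lit 2, nat_lit 1, nat_lit 9, nat_lit 4, nat_lit 3, nat_lit 2, nat_lit 8, nat_lit 3, nat_lit 2, nat_lit 12, nat_lit 15, nat_lit 14, nat_lit 13, nat_lit 18, nat_lit 16] (Rl.rel (nat_lit 0) [nat_lit 4, nat_lit 5, nat_lit 6, nat_lit 3, nat_lit 4, nat_lit 5, nat_lit 2, nat_lit 3, nat_lit 4, nat_lit 1, nat_lit 2, nat_lit 3, nat_lit 8, nat_lit 0, nat_lit 1, nat_lit 2, nat_lit 3, nat_lit 4, nat_lit 5, nat_lit 6, nat_lit 7, nat_lit 6, nat_lit 1, nat_lit 2, nat_lit 0, nat_lit 1, nat_lit 3, nat_lit 2, nat_lit 8, nat_lit 3, nat_lit 10, nat_lit 1, nat_lit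 8, nat_lit 12, nat_lit 15, nat_lit 14, nat_lit 17, nat_lit 18] (nat_lit 37) (nat_lit 2) [nat_lit 6121, nat_lit 6122, nat_lit 2868, nat_lit 5565] []))) (FT.leaf (Fct.mk true (nat_lit 33) (nat_lit 58) (nat_lit 37) [nat_lit 8, nat_lit 2, nat_lit 3, nat_lit 4, nat_lit 5, nat_lit 6, nat_lit 7, nat_lit 8, nat_lit 3, nat_lit 4, nat_lit 5, nat_lit 1, nat_lit 3, nat_lit 2, nat_lit 0, nat_lit 1, nat_lit 9, nat_lit 4, nat_lit 3, nat_lit 2, nat_lit 8, nat_lit 3, nat_lit 10, nat_lit 2, nat_lit 8, nat_lit 10, nat_lit 1, nat_lit 12, nat_lit 15, nat_lit 14, nat_lit 13, nat_lit 18, nat_lit 16] (Rl.t1 (nat_lit 6166) (nat_lit 5541))))))) (FT.node (nat_lit 6171) (FT.node (nat_lit 6169) (FT.leaf (Fct.mk true (nat_lit 37) (nat_lit 351) (nat_lit 33) [nat_lit 8, nat_lit 3, nat_lit 4, nat_lit 1, nat_lit 2, nat_lit 3, nat_lit 8, nat_lit 0, nat_lit 1, nat_lit 2, nat_lit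 3, nat_lit 4, nat_lit 5, nat_lit 6, nat_lit 7, nat_lit 5, nat_lit 3, nat_lit 4, nat_lit 1, nat_lit 2, nat_lit 3, nat_lit 8, nat_lit 0, nat_lit 1, nat_lit 2, nat_lit 3, nat_lit 4, nat_lit 5, nat_lit 3, nat_lit 2, nat_lit 8, nat_lit 3, nat_lit 11, nat_lit 8, nat_lit 10, nat_lit 15, nat_lit 13, nat_lit 18] (Rl.inv (nat_lit 6167)))) (FT.node (nat_lit 6170) (FT.leaf (Fct.mk true (nat_lit 37) (nat_lit 88) (nat_lit 33) [nat_lit 4, nat_lit 5, nat_lit 3, nat_lit 4, nat_lit 1, nat_lit 2, nat_lit 3, nat_lit 8, nat_lit 0, nat_lit 1, nat_lit 2, nat_lit 3, nat_lit 4, nat_lit 5, nat_lit 6, nat_lit 7, nat_lit 5, nat_lit 3, nat_lit 4, nat_lit 2, nat_lit 3, nat_lit 8, nat_lit 1, nat_lit 2, nat_lit 3, nat_lit 4, nat_lit 5, nat_lit 2, nat_lit 1, nat_lit 3, nat_lit 2, nat_lit 0, nat_lit 1, nat_lit 4, nat_lit 3, nat_lit 2, nat_lit 8, nat_lit 3, nat_lit 8, nat_lit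 10, nat_lit 8, nat_lit 12, nat_lit 15, nat_lit 18] (Rl.t1 (nat_lit 6168) (nat_lit 6165)))) (FT.leaf (Fct.mk false (nat_lit 37) (nat_lit 0) (nat_lit 37) [nat_lit 2, nat_lit 3, nat_lit 8, nat_lit 6, nat_lit 7, nat_lit 5, nat_lit 6, nat_lit 4, nat_lit 5, nat_lit 3, nat_lit 4, nat_lit 2, nat_lit 3, nat_lit 8, nat_lit 0, nat_lit 1, nat_lit 2, nat_lit 3, nat_lit 4, nat_lit 5, nat_lit 6, nat_lit 7, nat_lit 5, nat_lit 1, nat_lit 3, nat_lit 2, nat_lit 0, nat_lit 1, nat_lit 9, nat_lit 4, nat_lit 3, nat_lit 2, nat_lit 8, nat_lit 3, nat_lit 2, nat_lit 13, nat_lit 16] (Rl.cmp (nat_lit 6106) (nat_lit 6110)))))) (FT.node (nat_lit 6173) (FT.node (nat_lit 6172) (FT.leaf (Fct.mk false (nat_lit 37) (nat_lit 0) (nat_lit 37) [nat_lit 8, nat_lit 7, nat_lit 6, nat_lit 4, nat_lit 5, nat_lit 3, nat_lit 4, nat_lit 1, nat_lit 2, nat_lit 3, nat_lit 8, nat_lit 0, nat_lit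 1, nat_lit 2, nat_lit 3, nat_lit 4, nat_lit 5, nat_lit 6, nat_lit 7, nat_lit 0, nat_lit 1, nat_lit 2, nat_lit 3, nat_lit 4, nat_lit 5, nat_lit 2, nat_lit 1, nat_lit 9, nat_lit 4, nat_lit 3, nat_lit 2, nat_lit 8, nat_lit 3, nat_lit 11, nat_lit 2, nat_lit 8, nat_lit 18, nat_lit 16] (Rl.cmp (nat_lit 6110) (nat_lit 6170)))) (FT.leaf (Fct.mk false (nat_lit 37) (nat_lit 0) (nat_lit 37) [nat_lit 7, nat_lit 6, nat_lit 4, nat_lit 5, nat_lit 3, nat_lit 4, nat_lit 2, nat_lit 3, nat_lit 8, nat_lit 1, nat_lit 2, nat_lit 3, nat_lit 4, nat_lit 5, nat_lit 6, nat_lit 7, nat_lit 8, nat_lit 4, nat_lit 5, nat_lit 3, nat_lit 4, nat_lit 2, nat_lit 3, nat_lit 8, nat_lit 1, nat_lit 2, nat_lit 3, nat_lit 4, nat_lit 5, nat_lit 0, nat_lit 1, nat_lit 2, nat_lit 3, nat_lit 8, nat_lit 10, nat_lit 9, nat_lit 2, nat_lit 8, nat_lit 16, nat_lit 14, nat_lit 13, nat_lit 12, nat_lit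 18, nat_lit 16] (Rl.cmp (nat_lit 6110) (nat_lit 6171))))) (FT.node (nat_lit 6174) (FT.leaf (Fct.mk false (nat_lit 37) (nat_lit 0) (nat_lit 37) [nat_lit 7, nat_lit 6, nat_lit 4, nat_lit 5, nat_lit 3, nat_lit 4, nat_lit 2, nat_lit 3, nat_lit 8, nat_lit 0, nat_lit 1, nat_lit 2, nat_lit 3, nat_lit 4, nat_lit 5, nat_lit 6, nat_lit 7, nat_lit 4, nat_lit 3, nat_lit 8, nat_lit 5, nat_lit 6, nat_lit 4, nat_lit 5, nat_lit 3, nat_lit 4, nat_lit 2, nat_lit 3, nat_lit 8, nat_lit 1, nat_lit 2, nat_lit 3, nat_lit 4, nat_lit 5, nat_lit 0, nat_lit 1, nat_lit 2, nat_lit 3, nat_lit 11, nat_lit 8, nat_lit 10, nat_lit 16, nat_lit 8, nat_lit 12, nat_lit 15, nat_lit 18, nat_lit 16] (Rl.cmp (nat_lit 6107) (nat_lit 6172)))) (FT.leaf (Fct.mk false (nat_lit 37) (nat_lit 0) (nat_lit 37) [nat_lit 7, nat_lit 6, nat_lit 3, nat_lit 4, nat_lit 5, nat_lit 2, nat_lit 3, nat_lit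 4, nat_lit 1, nat_lit 2, nat_lit 3, nat_lit 8, nat_lit 0, nat_lit 1, nat_lit 2, nat_lit 3, nat_lit 4, nat_lit 5, nat_lit 6, nat_lit 7, nat_lit 5, nat_lit 3, nat_lit 4, nat_lit 2, nat_lit 3, nat_lit 8, nat_lit 1, nat_lit 2, nat_lit 3, nat_lit 4, nat_lit 5, nat_lit 0, nat_lit 1, nat_lit 2, nat_lit 3, nat_lit 8, nat_lit 10, nat_lit 9, nat_lit 2, nat_lit 12, nat_lit 8, nat_lit 16, nat_lit 14, nat_lit 13, nat_lit 18, nat_lit 16] (Rl.cmp (nat_lit 6106) (nat_lit 6173))))))))) (FT.node (nat_lit 6187) (FT.node (nat_lit 6181) (FT.node (nat_lit 6178) (FT.node (nat_lit 6176) (FT.leaf (Fct.mk false (nat_lit 37) (nat_lit 0) (nat_lit 37) [nat_lit 4, nat_lit 3, nat_lit 8, nat_lit 2, nat_lit 3, nat_lit 4, nat_lit 1, nat_lit 2, nat_lit 3, nat_lit 8, nat_lit 7, nat_lit 5, nat_lit 6, nat_lit 4, nat_lit 5, nat_lit 3, nat_lit 4, nat_lit 2, nat_lit 3, nat_lit 8,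 nat_lit 1, nat_lit 2, nat_lit 3, nat_lit 4, nat_lit 5, nat_lit 6, nat_lit 7, nat_lit 4, nat_lit 3, nat_lit 8, nat_lit 5, nat_lit 6, nat_lit 4, nat_lit 5, nat_lit 3, nat_lit 4, nat_lit 2, nat_lit 3, nat_lit 8, nat_lit 1, nat_lit 2, nat_lit 3, nat_lit 4, nat_lit 5, nat_lit 8, nat_lit 4, nat_lit 3, nat_lit 2, nat_lit 0, nat_lit 1, nat_lit 9, nat_lit 4, nat_lit 3, nat_lit 2, nat_lit 8, nat_lit 3, nat_lit 8, nat_lit 10, nat_lit 9, nat_lit 2, nat_lit 16, nat_lit 14, nat_lit 17, nat_lit 18] (Rl.cmp (nat_lit 6110) (nat_lit 6174)))) (FT.node (nat_lit 6177) (FT.leaf (Fct.mk false (nat_lit 37) (nat_lit 0) (nat_lit 37) [nat_lit 8, nat_lit 5, nat_lit 6, nat_lit 4, nat_lit 5, nat_lit 3, nat_lit 4, nat_lit 2, nat_lit 3, nat_lit 8, nat_lit 1, nat_lit 2, nat_lit 3, nat_lit 4, nat_lit 5, nat_lit 6, nat_lit 7, nat_lit 8, nat_lit 4, nat_lit 5, nat_lit 3, nat_lit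 4, nat_lit 2, nat_lit 3, nat_lit 8, nat_lit 1, nat_lit 2, nat_lit 3, nat_lit 4, nat_lit 5, nat_lit 9, nat_lit 4, nat_lit 10, nat_lit 2, nat_lit 8, nat_lit 10, nat_lit 1, nat_lit 8, nat_lit 12, nat_lit 15, nat_lit 14, nat_lit 13, nat_lit 19] (Rl.cmp (nat_lit 6110) (nat_lit 6175)))) (FT.leaf (Fct.mk false (nat_lit 37) (nat_lit 0) (nat_lit 37) [nat_lit 8, nat_lit 5, nat_lit 3, nat_lit 4, nat_lit 1, nat_lit 2, nat_lit 3, nat_lit 8, nat_lit 6, nat_lit 7, nat_lit 5, nat_lit 6, nat_lit 4, nat_lit 5, nat_lit 3, nat_lit 4, nat_lit 2, nat_lit 3, nat_lit 8, nat_lit 1, nat_lit 2, nat_lit 3, nat_lit 4, nat_lit 5, nat_lit 6, nat_lit 7, nat_lit 8, nat_lit 4, nat_lit 5, nat_lit 3, nat_lit 4, nat_lit 2, nat_lit 3, nat_lit 8, nat_lit 1, nat_lit 2, nat_lit 3, nat_lit 4, nat_lit 5, nat_lit 8, nat_lit 3, nat_lit 11, nat_lit 2, nat_lit 10, nat_lit 1, nat_lit 15,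 nat_lit 8, nat_lit 18] (Rl.cmp (nat_lit 6110) (nat_lit 6176)))))) (FT.node (nat_lit 6179) (FT.leaf (Fct.mk false (nat_lit 37) (nat_lit 0) (nat_lit 37) [nat_lit 1, nat_lit 2, nat_lit 3, nat_lit 8, nat_lit 5, nat_lit 6, nat_lit 4, nat_lit 5, nat_lit 3, nat_lit 4, nat_lit 2, nat_lit 3, nat_lit 8, nat_lit 1, nat_lit 2, nat_lit 3, nat_lit 4, nat_lit 5, nat_lit 6, nat_lit 7, nat_lit 4, nat_lit 3, nat_lit 8, nat_lit 5, nat_lit 6, nat_lit 4, nat_lit 5, nat_lit 3, nat_lit 4, nat_lit 2, nat_lit 3, nat_lit 8, nat_lit 0, nat_lit 1, nat_lit 2, nat_lit 3, nat_lit 4, nat_lit 5, nat_lit 0, nat_lit 1, nat_lit 4, nat_lit 3, nat_lit 2, nat_lit 8, nat_lit 3, nat_lit 11, nat_lit 10, nat_lit 15, nat_lit 8] (Rl.cmp (nat_lit 6110) (nat_lit 6177)))) (FT.node (nat_lit 6180) (FT.leaf (Fct.mk false (nat_lit 37) (nat_lit 0) (nat_lit 37) [nat_lit 1, nat_lit 2, nat_lit 3,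 nat_lit 8, nat_lit 5, nat_lit 6, nat_lit 4, nat_lit 5, nat_lit 3, nat_lit 4, nat_lit 2, nat_lit 3, nat_lit 8, nat_lit 1, nat_lit 2, nat_lit 3, nat_lit 4, nat_lit 5, nat_lit 6, nat_lit 7, nat_lit 2, nat_lit 3, nat_lit 8, nat_lit 5, nat_lit 6, nat_lit 4, nat_lit 5, nat_lit 3, nat_lit 4, nat_lit 2, nat_lit 3, nat_lit 8, nat_lit 1, nat_lit 2, nat_lit 3, nat_lit 4, nat_lit 5, nat_lit 2, nat_lit 1, nat_lit 9, nat_lit 4, nat_lit 3, nat_lit 2, nat_lit 8, nat_lit 3, nat_lit 8, nat_lit 10, nat_lit 16, nat_lit 14, nat_lit 12, nat_lit 18, nat_lit 16] (Rl.cmp (nat_lit 6107) (nat_lit 6178)))) (FT.leaf (Fct.mk false (nat_lit 37) (nat_lit 0) (nat_lit 37) [nat_lit 4, nat_lit 5, nat_lit 6, nat_lit 3, nat_lit 4, nat_lit 5, nat_lit 2, nat_lit 3, nat_lit 4, nat_lit 1, nat_lit 2, nat_lit 3, nat_lit 8, nat_lit 0, nat_lit 1, nat_lit 2, nat_lit 3, nat_lit 4, nat_lit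 5, nat_lit 6, nat_lit 7, nat_lit 5, nat_lit 3, nat_lit 2, nat_lit 1, nat_lit 4, nat_lit 3, nat_lit 2, nat_lit 0, nat_lit 1, nat_lit 9, nat_lit 4, nat_lit 3, nat_lit 2, nat_lit 8, nat_lit 3, nat_lit 10, nat_lit 2, nat_lit 8, nat_lit 10, nat_lit 1, nat_lit 15, nat_lit 14, nat_lit 13, nat_lit 18] (Rl.cmp (nat_lit 6110) (nat_lit 6179))))))) (FT.node (nat_lit 6184) (FT.node (nat_lit 6182) (FT.leaf (Fct.mk false (nat_lit 37) (nat_lit 0) (nat_lit 37) [nat_lit 3, nat_lit 4, nat_lit 2, nat_lit 3, nat_lit 8, nat_lit 6, nat_lit 7, nat_lit 5, nat_lit 6, nat_lit 4, nat_lit 5, nat_lit 3, nat_lit 4, nat_lit 2, nat_lit 3, nat_lit 8, nat_lit 0, nat_lit 1, nat_lit 2, nat_lit 3, nat_lit 4, nat_lit 5, nat_lit 6, nat_lit 7, nat_lit 8, nat_lit 4, nat_lit 5, nat_lit 2, nat_lit 3, nat_lit 4, nat_lit 1, nat_lit 2, nat_lit 3, nat_lit 8, nat_lit 0, nat_lit 1, nat_lit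 2, nat_lit 3, nat_lit 4, nat_lit 5, nat_lit 2, nat_lit 3, nat_lit 8, nat_lit 4, nat_lit 3, nat_lit 2, nat_lit 0, nat_lit 1, nat_lit 9, nat_lit 4, nat_lit 3, nat_lit 2, nat_lit 8, nat_lit 3, nat_lit 0, nat_lit 2, nat_lit 8, nat_lit 16, nat_lit 15, nat_lit 14] (Rl.cmp (nat_lit 6110) (nat_lit 6180)))) (FT.node (nat_lit 6183) (FT.leaf (Fct.mk false (nat_lit 37) (nat_lit 0) (nat_lit 37) [nat_lit 3, nat_lit 8, nat_lit 7, nat_lit 6, nat_lit 4, nat_lit 5, nat_lit 3, nat_lit 4, nat_lit 2, nat_lit 3, nat_lit 8, nat_lit 1, nat_lit 2, nat_lit 3, nat_lit 4, nat_lit 5, nat_lit 6, nat_lit 7, nat_lit 3, nat_lit 8, nat_lit 6, nat_lit 4, nat_lit 5, nat_lit 3, nat_lit 4, nat_lit 1, nat_lit 2, nat_lit 3, nat_lit 8, nat_lit 0, nat_lit 1, nat_lit 2, nat_lit 3, nat_lit 4, nat_lit 5, nat_lit 2, nat_lit 3, nat_lit 8, nat_lit 4, nat_lit 3, nat_lit 2, nat_lit 0, nat_lit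 1, nat_lit 9, nat_lit 4, nat_lit 3, nat_lit 2, nat_lit 8, nat_lit 3, nat_lit 9, nat_lit 8, nat_lit 12, nat_lit 15, nat_lit 14, nat_lit 13] (Rl.cmp (nat_lit 6107) (nat_lit 6181)))) (FT.leaf (Fct.mk true (nat_lit 32) (nat_lit 130275) (nat_lit 37) [nat_lit 6, nat_lit 5, nat_lit 3, nat_lit 4, nat_lit 1, nat_lit 2, nat_lit 3, nat_lit 8, nat_lit 0, nat_lit 1, nat_lit 2, nat_lit 3, nat_lit 4, nat_lit 5, nat_lit 6, nat_lit 7, nat_lit 8, nat_lit 2, nat_lit 3, nat_lit 4, nat_lit 1, nat_lit 2, nat_lit 3, nat_lit 8, nat_lit 0, nat_lit 1, nat_lit 2, nat_lit 3, nat_lit 4, nat_lit 5, nat_lit 2, nat_lit 1, nat_lit 8, nat_lit 3, nat_lit 2, nat_lit 0, nat_lit 1, nat_lit 9, nat_lit 4, nat_lit 3, nat_lit 2, nat_lit 8, nat_lit 3, nat_lit 8, nat_lit 10, nat_lit 9, nat_lit 2, nat_lit 14, nat_lit 12, nat_lit 19, nat_lit 16] (Rl.rel (nat_lit 0) [nat_lit 5, nat_lit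 4, nat_lit 1, nat_lit 2, nat_lit 3, nat_lit 8, nat_lit 0, nat_lit 1, nat_lit 2, nat_lit 3, nat_lit 4, nat_lit 5, nat_lit 6, nat_lit 7, nat_lit 6, nat_lit 9, nat_lit 4, nat_lit 3, nat_lit 2, nat_lit 8, nat_lit 3, nat_lit 8, nat_lit 10, nat_lit 17] (nat_lit 37) (nat_lit 2) [nat_lit 6121, nat_lit 6122, nat_lit 2918, nat_lit 3816] []))))) (FT.node (nat_lit 6185) (FT.leaf (Fct.mk true (nat_lit 32) (nat_lit 319) (nat_lit 37) [nat_lit 4, nat_lit 3, nat_lit 8, nat_lit 0, nat_lit 1, nat_lit 2, nat_lit 3, nat_lit 4, nat_lit 5, nat_lit 6, nat_lit 7, nat_lit 4, nat_lit 2, nat_lit 3, nat_lit 8, nat_lit 0, nat_lit 1, nat_lit 2, nat_lit 3, nat_lit 4, nat_lit 5, nat_lit 0, nat_lit 1, nat_lit 9, nat_lit 4, nat_lit 3, nat_lit 2, nat_lit 8, nat_lit 3, nat_lit 10, nat_lit 12, nat_lit 15, nat_lit 17, nat_lit 16] (Rl.t1 (nat_lit 6183) (nat_lit 4090)))) (FT.node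 (nat_lit 6186) (FT.leaf (Fct.mk true (nat_lit 37) (nat_lit 1318) (nat_lit 32) [nat_lit 2, nat_lit 3, nat_lit 8, nat_lit 6, nat_lit 4, nat_lit 5, nat_lit 3, nat_lit 4, nat_lit 2, nat_lit 3, nat_lit 8, nat_lit 1, nat_lit 2, nat_lit 3, nat_lit 4, nat_lit 5, nat_lit 6, nat_lit 7, nat_lit 8, nat_lit 5, nat_lit 3, nat_lit 4, nat_lit 2, nat_lit 3, nat_lit 8, nat_lit 1, nat_lit 2, nat_lit 3, nat_lit 4, nat_lit 5, nat_lit 1, nat_lit 3, nat_lit 2, nat_lit 0, nat_lit 1, nat_lit 4, nat_lit 3, nat_lit 2, nat_lit 8, nat_lit 3, nat_lit 2, nat_lit 16, nat_lit 8, nat_lit 12, nat_lit 15, nat_lit 19] (Rl.inv (nat_lit 6184)))) (FT.leaf (Fct.mk true (nat_lit 37) (nat_lit 74) (nat_lit 32) [nat_lit 7, nat_lit 6, nat_lit 5, nat_lit 4, nat_lit 3, nat_lit 8, nat_lit 2, nat_lit 3, nat_lit 4, nat_lit 5, nat_lit 6, nat_lit 7, nat_lit 4, nat_lit 5, nat_lit 3, nat_lit 2,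 nat_lit 8, nat_lit 3, nat_lit 8, nat_lit 10, nat_lit 13, nat_lit 12, nat_lit 18, nat_lit 16] (Rl.t1 (nat_lit 6185) (nat_lit 6182)))))))) (FT.node (nat_lit 6193) (FT.node (nat_lit 6190) (FT.node (nat_lit 6188) (FT.leaf (Fct.mk false (nat_lit 37) (nat_lit 0) (nat_lit 37) [nat_lit 3, nat_lit 8, nat_lit 7, nat_lit 6, nat_lit 4, nat_lit 5, nat_lit 3, nat_lit 4, nat_lit 2, nat_lit 3, nat_lit 8, nat_lit 0, nat_lit 1, nat_lit 2, nat_lit 3, nat_lit 4, nat_lit 5, nat_lit 6, nat_lit 7, nat_lit 8, nat_lit 3, nat_lit 4, nat_lit 2, nat_lit 3, nat_lit 8, nat_lit 1, nat_lit 2, nat_lit 3, nat_lit 4, nat_lit 5, nat_lit 2, nat_lit 1, nat_lit 8, nat_lit 3, nat_lit 2, nat_lit 0, nat_lit 1, nat_lit 9, nat_lit 4, nat_lit 3, nat_lit 2, nat_lit 8, nat_lit 3, nat_lit 11, nat_lit 12, nat_lit 18, nat_lit 16] (Rl.cmp (nat_lit 6110) (nat_lit 6110)))) (FT.node (nat_lit 6189)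 (FT.leaf (Fct.mk false (nat_lit 37) (nat_lit 0) (nat_lit 37) [nat_lit 7, nat_lit 6, nat_lit 5, nat_lit 4, nat_lit 2, nat_lit 3, nat_lit 8, nat_lit 0, nat_lit 1, nat_lit 2, nat_lit 3, nat_lit 4, nat_lit 5, nat_lit 6, nat_lit 7, nat_lit 5, nat_lit 4, nat_lit 1, nat_lit 2, nat_lit 3, nat_lit 8, nat_lit 0, nat_lit 1, nat_lit 2, nat_lit 3, nat_lit 4, nat_lit 5, nat_lit 2, nat_lit 1, nat_lit 4, nat_lit 3, nat_lit 2, nat_lit 8, nat_lit 3, nat_lit 11, nat_lit 1, nat_lit 8, nat_lit 12, nat_lit 15, nat_lit 14, nat_lit 16] (Rl.cmp (nat_lit 6110) (nat_lit 6187)))) (FT.leaf (Fct.mk false (nat_lit 37) (nat_lit 0) (nat_lit 37) [nat_lit 6, nat_lit 7, nat_lit 5, nat_lit 6, nat_lit 3, nat_lit 4, nat_lit 5, nat_lit 2, nat_lit 3, nat_lit 4, nat_lit 1, nat_lit 2, nat_lit 3, nat_lit 8, nat_lit 0, nat_lit 1, nat_lit 2, nat_lit 3, nat_lit 4, nat_lit 5, nat_lit 6,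 nat_lit 7, nat_lit 8, nat_lit 6, nat_lit 4, nat_lit 5, nat_lit 3, nat_lit 4, nat_lit 1, nat_lit 2, nat_lit 3, nat_lit 8, nat_lit 0, nat_lit 1, nat_lit 2, nat_lit 3, nat_lit 4, nat_lit 5, nat_lit 2, nat_lit 1, nat_lit 9, nat_lit 4, nat_lit 3, nat_lit 2, nat_lit 8, nat_lit 3, nat_lit 11, nat_lit 1, nat_lit 8, nat_lit 12, nat_lit 15, nat_lit 14, nat_lit 16] (Rl.cmp (nat_lit 6106) (nat_lit 6188)))))) (FT.node (nat_lit 6191) (FT.leaf (Fct.mk false (nat_lit 37) (nat_lit 0) (nat_lit 37) [nat_lit 7, nat_lit 6, nat_lit 5, nat_lit 4, nat_lit 3, nat_lit 8, nat_lit 1, nat_lit 2, nat_lit 3, nat_lit 4, nat_lit 5, nat_lit 6, nat_lit 7, nat_lit 3, nat_lit 8, nat_lit 5, nat_lit 6, nat_lit 4, nat_lit 5, nat_lit 3, nat_lit 4, nat_lit 1, nat_lit 2, nat_lit 3, nat_lit 8, nat_lit 0, nat_lit 1, nat_lit 2, nat_lit 3, nat_lit 4, nat_lit 5, nat_lit 2, nat_lit 1, nat_lit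 9, nat_lit 4, nat_lit 3, nat_lit 2, nat_lit 8, nat_lit 3, nat_lit 11, nat_lit 1, nat_lit 12, nat_lit 15, nat_lit 14, nat_lit 16] (Rl.cmp (nat_lit 6106) (nat_lit 6189)))) (FT.node (nat_lit 6192) (FT.leaf (Fct.mk false (nat_lit 37) (nat_lit 0) (nat_lit 37) [nat_lit 8, nat_lit 7, nat_lit 5, nat_lit 6, nat_lit 4, nat_lit 5, nat_lit 3, nat_lit 4, nat_lit 1, nat_lit 2, nat_lit 3, nat_lit 8, nat_lit 0, nat_lit 1, nat_lit 2, nat_lit 3, nat_lit 4, nat_lit 5, nat_lit 6, nat_lit 7, nat_lit 5, nat_lit 6, nat_lit 4, nat_lit 5, nat_lit 3, nat_lit 4, nat_lit 2, nat_lit 3, nat_lit 8, nat_lit 0, nat_lit 1, nat_lit 2, nat_lit 3, nat_lit 4, nat_lit 5, nat_lit 3, nat_lit 2, nat_lit 1, nat_lit 4, nat_lit 3, nat_lit 2, nat_lit 8, nat_lit 3, nat_lit 2, nat_lit 8, nat_lit 10, nat_lit 1, nat_lit 16, nat_lit 15, nat_lit 14, nat_lit 12] (Rl.cmp (nat_lit 6110) (nat_lit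 6190)))) (FT.leaf (Fct.mk false (nat_lit 37) (nat_lit 0) (nat_lit 37) [nat_lit 4, nat_lit 1, nat_lit 2, nat_lit 3, nat_lit 8, nat_lit 6, nat_lit 7, nat_lit 5, nat_lit 6, nat_lit 4, nat_lit 5, nat_lit 3, nat_lit 4, nat_lit 2, nat_lit 3, nat_lit 8, nat_lit 1, nat_lit 2, nat_lit 3, nat_lit 4, nat_lit 5, nat_lit 6, nat_lit 7, nat_lit 2, nat_lit 3, nat_lit 4, nat_lit 1, nat_lit 2, nat_lit 3, nat_lit 8, nat_lit 5, nat_lit 6, nat_lit 4, nat_lit 5, nat_lit 3, nat_lit 4, nat_lit 2, nat_lit 3, nat_lit 8, nat_lit 1, nat_lit 2, nat_lit 3, nat_lit 4, nat_lit 5, nat_lit 1, nat_lit 9, nat_lit 12, nat_lit 15, nat_lit 16, nat_lit 8, nat_lit 18, nat_lit 16] (Rl.cmp (nat_lit 6110) (nat_lit 6191))))))) (FT.node (nat_lit 6196) (FT.node (nat_lit 6194) (FT.leaf (Fct.mk false (nat_lit 37) (nat_lit 0) (nat_lit 37) [nat_lit 4, nat_lit 1, nat_lit 2, nat_lit 3, nat_lit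 8, nat_lit 6, nat_lit 7, nat_lit 5, nat_lit 6, nat_lit 4, nat_lit 5, nat_lit 3, nat_lit 4, nat_lit 2, nat_lit 3, nat_lit 8, nat_lit 1, nat_lit 2, nat_lit 3, nat_lit 4, nat_lit 5, nat_lit 6, nat_lit 7, nat_lit 8, nat_lit 5, nat_lit 6, nat_lit 4, nat_lit 5, nat_lit 2, nat_lit 3, nat_lit 4, nat_lit 1, nat_lit 2, nat_lit 3, nat_lit 8, nat_lit 0, nat_lit 1, nat_lit 2, nat_lit 3, nat_lit 4, nat_lit 5, nat_lit 2, nat_lit 1, nat_lit 4, nat_lit 3, nat_lit 2, nat_lit 0, nat_lit 1, nat_lit 9, nat_lit 4, nat_lit 3, nat_lit 2, nat_lit 8, nat_lit 3, nat_lit 9, nat_lit 2, nat_lit 12, nat_lit 8, nat_lit 16, nat_lit 14, nat_lit 8, nat_lit 18, nat_lit 16] (Rl.cmp (nat_lit 6107) (nat_lit 6192)))) (FT.node (nat_lit 6195) (FT.leaf (Fct.mk false (nat_lit 37) (nat_lit 0) (nat_lit 37) [nat_lit 4, nat_lit 1, nat_lit 2, nat_lit 3, nat_lit 8, nat_lit 6, nat_lit 7, nat_lit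 5, nat_lit 6, nat_lit 4, nat_lit 5, nat_lit 3, nat_lit 4, nat_lit 2, nat_lit 3, nat_lit 8, nat_lit 1, nat_lit 2, nat_lit 3, nat_lit 4, nat_lit 5, nat_lit 6, nat_lit 7, nat_lit 3, nat_lit 8, nat_lit 6, nat_lit 4, nat_lit 5, nat_lit 3, nat_lit 4, nat_lit 1, nat_lit 2, nat_lit 3, nat_lit 8, nat_lit 0, nat_lit 1, nat_lit 2, nat_lit 3, nat_lit 4, nat_lit 5, nat_lit 2, nat_lit 1, nat_lit 3, nat_lit 2, nat_lit 0, nat_lit 1, nat_lit 9, nat_lit 4, nat_lit 3, nat_lit 2, nat_lit 8, nat_lit 3, nat_lit 9, nat_lit 2, nat_lit 16, nat_lit 8, nat_lit 12, nat_lit 15, nat_lit 17, nat_lit 19, nat_lit 16] (Rl.cmp (nat_lit 6106) (nat_lit 6193)))) (FT.leaf (Fct.mk false (nat_lit 37) (nat_lit 0) (nat_lit 37) [nat_lit 5, nat_lit 4, nat_lit 3, nat_lit 8, nat_lit 2, nat_lit 3, nat_lit 4, nat_lit 1, nat_lit 2, nat_lit 3, nat_lit 8, nat_lit 7, nat_lit 5, nat_lit 6, nat_lit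 4, nat_lit 5, nat_lit 3, nat_lit 4, nat_lit 2, nat_lit 3, nat_lit 8, nat_lit 1, nat_lit 2, nat_lit 3, nat_lit 4, nat_lit 5, nat_lit 6, nat_lit 7, nat_lit 5, nat_lit 6, nat_lit 4, nat_lit 5, nat_lit 3, nat_lit 4, nat_lit 2, nat_lit 3, nat_lit 8, nat_lit 1, nat_lit 2, nat_lit 3, nat_lit 4, nat_lit 5, nat_lit 3, nat_lit 2, nat_lit 8, nat_lit 3, nat_lit 2, nat_lit 8, nat_lit 10, nat_lit 1, nat_lit 12, nat_lit 15, nat_lit 14, nat_lit 8, nat_lit 18, nat_lit 16] (Rl.cmp (nat_lit 6110) (nat_lit 6194)))))) (FT.node (nat_lit 6198) (FT.node (nat_lit 6197) (FT.leaf (Fct.mk false (nat_lit 37) (nat_lit 0) (nat_lit 37) [nat_lit 5, nat_lit 4, nat_lit 3, nat_lit 8, nat_lit 2, nat_lit 3, nat_lit 4, nat_lit 5, nat_lit 6, nat_lit 7, nat_lit 3, nat_lit 4, nat_lit 5, nat_lit 4, nat_lit 3, nat_lit 2, nat_lit 8, nat_lit 3, nat_lit 11, nat_lit 8, nat_lit 10, nat_lit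 16, nat_lit 12, nat_lit 15, nat_lit 14, nat_lit 13] (Rl.cmp (nat_lit 6110) (nat_lit 6195)))) (FT.leaf (Fct.mk false (nat_lit 37) (nat_lit 0) (nat_lit 37) [nat_lit 6, nat_lit 5, nat_lit 4, nat_lit 1, nat_lit 2, nat_lit 3, nat_lit 8, nat_lit 0, nat_lit 1, nat_lit 2, nat_lit 3, nat_lit 4, nat_lit 5, nat_lit 6, nat_lit 7, nat_lit 8, nat_lit 3, nat_lit 4, nat_lit 1, nat_lit 2, nat_lit 3, nat_lit 8, nat_lit 0, nat_lit 1, nat_lit 2, nat_lit 3, nat_lit 4, nat_lit 5, nat_lit 0, nat_lit 1, nat_lit 9, nat_lit 4, nat_lit 3, nat_lit 2, nat_lit 8, nat_lit 3, nat_lit 2, nat_lit 10, nat_lit 1, nat_lit 8, nat_lit 12, nat_lit 15, nat_lit 14, nat_lit 12, nat_lit 18] (Rl.cmp (nat_lit 6110) (nat_lit 6196))))) (FT.node (nat_lit 6199) (FT.leaf (Fct.mk true (nat_lit 5) (nat_lit 106556) (nat_lit 37) [nat_lit 8, nat_lit 3, nat_lit 4, nat_lit 1, nat_lit 2, nat_lit 3,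 nat_lit 8, nat_lit 0, nat_lit 1, nat_lit 2, nat_lit 3, nat_lit 4, nat_lit 5, nat_lit 6, nat_lit 7, nat_lit 4, nat_lit 3, nat_lit 8, nat_lit 1, nat_lit 2, nat_lit 3, nat_lit 4, nat_lit 5, nat_lit 1, nat_lit 4, nat_lit 3, nat_lit 2, nat_lit 0, nat_lit 1, nat_lit 9, nat_lit 4, nat_lit 3, nat_lit 2, nat_lit 8, nat_lit 3, nat_lit 11, nat_lit 10, nat_lit 2, nat_lit 8, nat_lit 10, nat_lit 1, nat_lit 16, nat_lit 8, nat_lit 19, nat_lit 16] (Rl.rel (nat_lit 0) [nat_lit 4, nat_lit 5, nat_lit 6, nat_lit 3, nat_lit 4, nat_lit 5, nat_lit 2, nat_lit 3, nat_lit 4, nat_lit 1, nat_lit 2, nat_lit 3, nat_lit 8, nat_lit 0, nat_lit 1, nat_lit 2, nat_lit 3, nat_lit 4, nat_lit 5, nat_lit 6, nat_lit 7, nat_lit 6, nat_lit 1, nat_lit 2, nat_lit 0, nat_lit 1, nat_lit 3, nat_lit 2, nat_lit 8, nat_lit 3, nat_lit 11, nat_lit 2, nat_lit 8, nat_lit 10, nat_lit 1, nat_lit 8,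 nat_lit 12, nat_lit 15, nat_lit 14, nat_lit 12, nat_lit 19, nat_lit 16] (nat_lit 37) (nat_lit 2) [nat_lit 6121, nat_lit 6122, nat_lit 472, nat_lit 2667] []))) (FT.leaf (Fct.mk true (nat_lit 5) (nat_lit 546) (nat_lit 37) [nat_lit 8, nat_lit 7, nat_lit 6, nat_lit 4, nat_lit 5, nat_lit 3, nat_lit 4, nat_lit 1, nat_lit 2, nat_lit 3, nat_lit 8, nat_lit 0, nat_lit 1, nat_lit 2, nat_lit 3, nat_lit 4, nat_lit 5, nat_lit 6, nat_lit 7, nat_lit 1, nat_lit 2, nat_lit 3, nat_lit 8, nat_lit 0, nat_lit 1, nat_lit 2, nat_lit 3, nat_lit 4, nat_lit 5, nat_lit 1, nat_lit 3, nat_lit 8, nat_lit 4, nat_lit 3, nat_lit 2, nat_lit 0, nat_lit 1, nat_lit 9, nat_lit 4, nat_lit 3, nat_lit 2, nat_lit 8, nat_lit 3, nat_lit 2, nat_lit 8, nat_lit 10, nat_lit 1, nat_lit 8, nat_lit 12, nat_lit 15, nat_lit 14, nat_lit 17, nat_lit 12, nat_lit 19] (Rl.t1 (nat_lit 6198) (nat_lit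 2776)))))))))

/-- some facts -/
noncomputable def ftc124 : FT := FT.node (nat_lit 6225) (FT.node (nat_lit 6212) (FT.node (nat_lit 6206) (FT.node (nat_lit 6203) (FT.node (nat_lit 6201) (FT.leaf (Fct.mk true (nat_lit 37) (nat_lit 415) (nat_lit 5) [nat_lit 4, nat_lit 1, nat_lit 2, nat_lit 3, nat_lit 8, nat_lit 6, nat_lit 7, nat_lit 5, nat_lit 6, nat_lit 4, nat_lit 5, nat_lit 3, nat_lit 4, nat_lit 2, nat_lit 3, nat_lit 8, nat_lit 1, nat_lit 2, nat_lit 3, nat_lit 4, nat_lit 5, nat_lit 6, nat_lit 7, nat_lit 3, nat_lit 4, nat_lit 5, nat_lit 2, nat_lit 3, nat_lit 4, nat_lit 1, nat_lit 2, nat_lit 3, nat_lit 8, nat_lit 0, nat_lit 1, nat_lit 2, nat_lit 3, nat_lit 4, nat_lit 5, nat_lit 2, nat_lit 1, nat_lit 4, nat_lit 3, nat_lit 2, nat_lit 8, nat_lit 3, nat_lit 11, nat_lit 8, nat_lit 10, nat_lit 8, nat_lit 12, nat_lit 15, nat_lit 12, nat_lit 18] (Rl.inv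 (nat_lit 6199)))) (FT.node (nat_lit 6202) (FT.leaf (Fct.mk true (nat_lit 37) (nat_lit 204) (nat_lit 5) [nat_lit 7, nat_lit 5, nat_lit 6, nat_lit 4, nat_lit 5, nat_lit 3, nat_lit 4, nat_lit 2, nat_lit 3, nat_lit 8, nat_lit 1, nat_lit 2, nat_lit 3, nat_lit 4, nat_lit 5, nat_lit 6, nat_lit 7, nat_lit 8, nat_lit 4, nat_lit 5, nat_lit 2, nat_lit 3, nat_lit 4, nat_lit 1, nat_lit 2, nat_lit 3, nat_lit 8, nat_lit 0, nat_lit 1, nat_lit 2, nat_lit 3, nat_lit 4, nat_lit 5, nat_lit 3, nat_lit 2, nat_lit 8, nat_lit 3, nat_lit 11, nat_lit 2, nat_lit 14, nat_lit 18] (Rl.t1 (nat_lit 6200) (nat_lit 6197)))) (FT.leaf (Fct.mk false (nat_lit 37) (nat_lit 0) (nat_lit 37) [nat_lit 2, nat_lit 3, nat_lit 8, nat_lit 6, nat_lit 7, nat_lit 5, nat_lit 6, nat_lit 4, nat_lit 5, nat_lit 3, nat_lit 4, nat_lit 2, nat_lit 3, nat_lit 8, nat_lit 0, nat_lit 1, nat_lit 2, nat_lit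 3, nat_lit 4, nat_lit 5, nat_lit 6, nat_lit 7, nat_lit 5, nat_lit 1, nat_lit 3, nat_lit 2, nat_lit 0, nat_lit 1, nat_lit 9, nat_lit 4, nat_lit 3, nat_lit 2, nat_lit 8, nat_lit 3, nat_lit 0, nat_lit 13, nat_lit 16] (Rl.cmp (nat_lit 6107) (nat_lit 6110)))))) (FT.node (nat_lit 6204) (FT.leaf (Fct.mk false (nat_lit 37) (nat_lit 0) (nat_lit 37) [nat_lit 8, nat_lit 7, nat_lit 6, nat_lit 4, nat_lit 5, nat_lit 3, nat_lit 4, nat_lit 1, nat_lit 2, nat_lit 3, nat_lit 8, nat_lit 0, nat_lit 1, nat_lit 2, nat_lit 3, nat_lit 4, nat_lit 5, nat_lit 6, nat_lit 7, nat_lit 0, nat_lit 1, nat_lit 2, nat_lit 3, nat_lit 4, nat_lit 5, nat_lit 2, nat_lit 1, nat_lit 9, nat_lit 4, nat_lit 3, nat_lit 2, nat_lit 8, nat_lit 3, nat_lit 10, nat_lit 9, nat_lit 2, nat_lit 17, nat_lit 19, nat_lit 16] (Rl.cmp (nat_lit 6110) (nat_lit 6202)))) (FT.node (nat_lit 6205) (FT.leaf (Fct.mk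 false (nat_lit 37) (nat_lit 0) (nat_lit 37) [nat_lit 7, nat_lit 6, nat_lit 4, nat_lit 5, nat_lit 3, nat_lit 4, nat_lit 2, nat_lit 3, nat_lit 8, nat_lit 1, nat_lit 2, nat_lit 3, nat_lit 4, nat_lit 5, nat_lit 6, nat_lit 7, nat_lit 8, nat_lit 4, nat_lit 5, nat_lit 3, nat_lit 4, nat_lit 2, nat_lit 3, nat_lit 8, nat_lit 1, nat_lit 2, nat_lit 3, nat_lit 4, nat_lit 5, nat_lit 0, nat_lit 1, nat_lit 2, nat_lit 3, nat_lit 11, nat_lit 2, nat_lit 10, nat_lit 1, nat_lit 14, nat_lit 12, nat_lit 18, nat_lit 16] (Rl.cmp (nat_lit 6110) (nat_lit 6203)))) (FT.leaf (Fct.mk false (nat_lit 37) (nat_lit 0) (nat_lit 37) [nat_lit 4, nat_lit 5, nat_lit 2, nat_lit 3, nat_lit 4, nat_lit 1, nat_lit 2, nat_lit 3, nat_lit 8, nat_lit 0, nat_lit 1, nat_lit 2, nat_lit 3, nat_lit 4, nat_lit 5, nat_lit 6, nat_lit 7, nat_lit 4, nat_lit 5, nat_lit 3, nat_lit 4, nat_lit 2, nat_lit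 3, nat_lit 8, nat_lit 1, nat_lit 2, nat_lit 3, nat_lit 4, nat_lit 5, nat_lit 2, nat_lit 3, nat_lit 8, nat_lit 4, nat_lit 3, nat_lit 2, nat_lit 1, nat_lit 9, nat_lit 4, nat_lit 3, nat_lit 2, nat_lit 8, nat_lit 3, nat_lit 8, nat_lit 10, nat_lit 1, nat_lit 16, nat_lit 15, nat_lit 14, nat_lit 13, nat_lit 12, nat_lit 18] (Rl.cmp (nat_lit 6110) (nat_lit 6204))))))) (FT.node (nat_lit 6209) (FT.node (nat_lit 6207) (FT.leaf (Fct.mk false (nat_lit 37) (nat_lit 0) (nat_lit 37) [nat_lit 4, nat_lit 5, nat_lit 6, nat_lit 3, nat_lit 4, nat_lit 5, nat_lit 2, nat_lit 3, nat_lit 4, nat_lit 1, nat_lit 2, nat_lit 3, nat_lit 8, nat_lit 0, nat_lit 1, nat_lit 2, nat_lit 3, nat_lit 4, nat_lit 5, nat_lit 6, nat_lit 7, nat_lit 1, nat_lit 2, nat_lit 3, nat_lit 8, nat_lit 0, nat_lit 1, nat_lit 2, nat_lit 3, nat_lit 4, nat_lit 5, nat_lit 3, nat_lit 8, nat_lit 4, nat_lit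 3, nat_lit 2, nat_lit 1, nat_lit 9, nat_lit 4, nat_lit 3, nat_lit 2, nat_lit 8, nat_lit 3, nat_lit 2, nat_lit 8, nat_lit 10, nat_lit 1, nat_lit 16, nat_lit 15, nat_lit 14, nat_lit 13, nat_lit 12, nat_lit 18] (Rl.cmp (nat_lit 6106) (nat_lit 6205)))) (FT.node (nat_lit 6208) (FT.leaf (Fct.mk false (nat_lit 37) (nat_lit 0) (nat_lit 37) [nat_lit 4, nat_lit 5, nat_lit 3, nat_lit 4, nat_lit 1, nat_lit 2, nat_lit 3, nat_lit 8, nat_lit 0, nat_lit 1, nat_lit 2, nat_lit 3, nat_lit 4, nat_lit 5, nat_lit 6, nat_lit 7, nat_lit 8, nat_lit 3, nat_lit 4, nat_lit 2, nat_lit 3, nat_lit 8, nat_lit 1, nat_lit 2, nat_lit 3, nat_lit 4, nat_lit 5, nat_lit 3, nat_lit 8, nat_lit 4, nat_lit 3, nat_lit 2, nat_lit 1, nat_lit 9, nat_lit 4, nat_lit 3, nat_lit 2, nat_lit 8, nat_lit 3, nat_lit 10, nat_lit 1, nat_lit 16, nat_lit 15, nat_lit 14, nat_lit 13, nat_lit 12, nat_lit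 18] (Rl.cmp (nat_lit 6106) (nat_lit 6206)))) (FT.leaf (Fct.mk false (nat_lit 37) (nat_lit 0) (nat_lit 37) [nat_lit 4, nat_lit 3, nat_lit 8, nat_lit 6, nat_lit 7, nat_lit 5, nat_lit 6, nat_lit 4, nat_lit 5, nat_lit 3, nat_lit 4, nat_lit 1, nat_lit 2, nat_lit 3, nat_lit 8, nat_lit 0, nat_lit 1, nat_lit 2, nat_lit 3, nat_lit 4, nat_lit 5, nat_lit 6, nat_lit 7, nat_lit 4, nat_lit 3, nat_lit 8, nat_lit 0, nat_lit 1, nat_lit 2, nat_lit 3, nat_lit 4, nat_lit 5, nat_lit 0, nat_lit 1, nat_lit 2, nat_lit 3, nat_lit 10, nat_lit 1, nat_lit 18] (Rl.cmp (nat_lit 6110) (nat_lit 6207)))))) (FT.node (nat_lit 6210) (FT.leaf (Fct.mk false (nat_lit 37) (nat_lit 0) (nat_lit 37) [nat_lit 3, nat_lit 8, nat_lit 7, nat_lit 6, nat_lit 4, nat_lit 5, nat_lit 3, nat_lit 4, nat_lit 2, nat_lit 3, nat_lit 8, nat_lit 1, nat_lit 2, nat_lit 3, nat_lit 4, nat_lit 5, nat_lit 6,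 nat_lit 7, nat_lit 6, nat_lit 5, nat_lit 3, nat_lit 4, nat_lit 2, nat_lit 3, nat_lit 8, nat_lit 0, nat_lit 1, nat_lit 2, nat_lit 3, nat_lit 4, nat_lit 5, nat_lit 0, nat_lit 1, nat_lit 2, nat_lit 3, nat_lit 10, nat_lit 1, nat_lit 8, nat_lit 12, nat_lit 15, nat_lit 8] (Rl.cmp (nat_lit 6106) (nat_lit 6208)))) (FT.node (nat_lit 6211) (FT.leaf (Fct.mk false (nat_lit 37) (nat_lit 0) (nat_lit 37) [nat_lit 2, nat_lit 3, nat_lit 8, nat_lit 7, nat_lit 6, nat_lit 4, nat_lit 5, nat_lit 3, nat_lit 4, nat_lit 2, nat_lit 3, nat_lit 8, nat_lit 0, nat_lit 1, nat_lit 2, nat_lit 3, nat_lit 4, nat_lit 5, nat_lit 6, nat_lit 7, nat_lit 3, nat_lit 4, nat_lit 2, nat_lit 3, nat_lit 8, nat_lit 0, nat_lit 1, nat_lit 2, nat_lit 3, nat_lit 4, nat_lit 5, nat_lit 0, nat_lit 1, nat_lit 2, nat_lit 3, nat_lit 10, nat_lit 16, nat_lit 8, nat_lit 12, nat_lit 15, nat_lit 8] (Rl.cmp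 (nat_lit 6106) (nat_lit 6209)))) (FT.leaf (Fct.mk true (nat_lit 33) (nat_lit 609) (nat_lit 37) [nat_lit 8, nat_lit 2, nat_lit 3, nat_lit 4, nat_lit 1, nat_lit 2, nat_lit 3, nat_lit 8, nat_lit 7, nat_lit 5, nat_lit 6, nat_lit 4, nat_lit 5, nat_lit 3, nat_lit 4, nat_lit 2, nat_lit 3, nat_lit 8, nat_lit 1, nat_lit 2, nat_lit 3, nat_lit 4, nat_lit 5, nat_lit 6, nat_lit 7, nat_lit 8, nat_lit 5, nat_lit 2, nat_lit 3, nat_lit 4, nat_lit 1, nat_lit 2, nat_lit 3, nat_lit 8, nat_lit 0, nat_lit 1, nat_lit 2, nat_lit 3, nat_lit 4, nat_lit 5, nat_lit 2, nat_lit 8, nat_lit 3, nat_lit 1, nat_lit 8, nat_lit 12, nat_lit 15, nat_lit 14, nat_lit 17, nat_lit 12, nat_lit 18] (Rl.rel (nat_lit 0) [nat_lit 5, nat_lit 4, nat_lit 1, nat_lit 2, nat_lit 3, nat_lit 8, nat_lit 0, nat_lit 1, nat_lit 2, nat_lit 3, nat_lit 4, nat_lit 5, nat_lit 6, nat_lit 7, nat_lit 6, nat_lit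 9, nat_lit 4, nat_lit 3, nat_lit 2, nat_lit 8, nat_lit 3, nat_lit 2, nat_lit 17, nat_lit 12, nat_lit 18] (nat_lit 37) (nat_lit 2) [nat_lit 6121, nat_lit 6122, nat_lit 2915, nat_lit 5554] []))))))) (FT.node (nat_lit 6218) (FT.node (nat_lit 6215) (FT.node (nat_lit 6213) (FT.leaf (Fct.mk true (nat_lit 33) (nat_lit 373) (nat_lit 37) [nat_lit 8, nat_lit 2, nat_lit 3, nat_lit 4, nat_lit 1, nat_lit 2, nat_lit 3, nat_lit 8, nat_lit 7, nat_lit 5, nat_lit 6, nat_lit 4, nat_lit 5, nat_lit 3, nat_lit 4, nat_lit 2, nat_lit 3, nat_lit 8, nat_lit 1, nat_lit 2, nat_lit 3, nat_lit 4, nat_lit 5, nat_lit 6, nat_lit 7, nat_lit 3, nat_lit 4, nat_lit 5, nat_lit 2, nat_lit 3, nat_lit 4, nat_lit 1, nat_lit 2, nat_lit 3, nat_lit 8, nat_lit 0, nat_lit 1, nat_lit 2, nat_lit 3, nat_lit 4, nat_lit 5, nat_lit 1, nat_lit 2, nat_lit 3, nat_lit 11, nat_lit 10, nat_lit 2, nat_lit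 8, nat_lit 10, nat_lit 1, nat_lit 15, nat_lit 16, nat_lit 8, nat_lit 18, nat_lit 16] (Rl.t1 (nat_lit 6211) (nat_lit 5516)))) (FT.node (nat_lit 6214) (FT.leaf (Fct.mk true (nat_lit 37) (nat_lit 3026) (nat_lit 33) [nat_lit 2, nat_lit 3, nat_lit 8, nat_lit 7, nat_lit 6, nat_lit 4, nat_lit 5, nat_lit 3, nat_lit 4, nat_lit 2, nat_lit 3, nat_lit 8, nat_lit 1, nat_lit 2, nat_lit 3, nat_lit 4, nat_lit 5, nat_lit 6, nat_lit 7, nat_lit 3, nat_lit 8, nat_lit 1, nat_lit 2, nat_lit 3, nat_lit 4, nat_lit 5, nat_lit 3, nat_lit 2, nat_lit 1, nat_lit 4, nat_lit 3, nat_lit 2, nat_lit 8, nat_lit 3, nat_lit 11, nat_lit 10, nat_lit 1, nat_lit 8, nat_lit 12, nat_lit 15, nat_lit 14, nat_lit 17, nat_lit 12, nat_lit 18] (Rl.inv (nat_lit 6212)))) (FT.leaf (Fct.mk true (nat_lit 37) (nat_lit 46) (nat_lit 33) [nat_lit 3, nat_lit 8, nat_lit 0, nat_lit 1, nat_lit 2, nat_lit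 3, nat_lit 4, nat_lit 5, nat_lit 6, nat_lit 7, nat_lit 2, nat_lit 3, nat_lit 8, nat_lit 6, nat_lit 4, nat_lit 5, nat_lit 3, nat_lit 4, nat_lit 2, nat_lit 3, nat_lit 8, nat_lit 0, nat_lit 1, nat_lit 2, nat_lit 3, nat_lit 4, nat_lit 5, nat_lit 1, nat_lit 4, nat_lit 3, nat_lit 2, nat_lit 0, nat_lit 1, nat_lit 9, nat_lit 4, nat_lit 3, nat_lit 2, nat_lit 8, nat_lit 3, nat_lit 11, nat_lit 2, nat_lit 8, nat_lit 10, nat_lit 1, nat_lit 8, nat_lit 12, nat_lit 15, nat_lit 14, nat_lit 18] (Rl.t1 (nat_lit 6213) (nat_lit 6210)))))) (FT.node (nat_lit 6216) (FT.leaf (Fct.mk false (nat_lit 37) (nat_lit 0) (nat_lit 37) [nat_lit 8, nat_lit 7, nat_lit 6, nat_lit 5, nat_lit 3, nat_lit 4, nat_lit 2, nat_lit 3, nat_lit 8, nat_lit 1, nat_lit 2, nat_lit 3, nat_lit 4, nat_lit 5, nat_lit 6, nat_lit 7, nat_lit 6, nat_lit 8, nat_lit 4, nat_lit 3, nat_lit 2, nat_lit 1,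 nat_lit 9, nat_lit 4, nat_lit 3, nat_lit 2, nat_lit 8, nat_lit 3, nat_lit 11, nat_lit 8, nat_lit 10, nat_lit 17, nat_lit 12, nat_lit 18, nat_lit 16] (Rl.cmp (nat_lit 6110) (nat_lit 6106)))) (FT.node (nat_lit 6217) (FT.leaf (Fct.mk false (nat_lit 37) (nat_lit 0) (nat_lit 37) [nat_lit 3, nat_lit 8, nat_lit 7, nat_lit 6, nat_lit 4, nat_lit 5, nat_lit 3, nat_lit 4, nat_lit 2, nat_lit 3, nat_lit 8, nat_lit 0, nat_lit 1, nat_lit 2, nat_lit 3, nat_lit 4, nat_lit 5, nat_lit 6, nat_lit 7, nat_lit 8, nat_lit 3, nat_lit 4, nat_lit 2, nat_lit 3, nat_lit 8, nat_lit 1, nat_lit 2, nat_lit 3, nat_lit 4, nat_lit 5, nat_lit 3, nat_lit 8, nat_lit 4, nat_lit 3, nat_lit 2, nat_lit 0, nat_lit 1, nat_lit 9, nat_lit 4, nat_lit 3, nat_lit 2, nat_lit 8, nat_lit 3, nat_lit 11, nat_lit 13, nat_lit 12, nat_lit 19, nat_lit 16] (Rl.cmp (nat_lit 6110) (nat_lit 6215)))) (FT.leaf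 (Fct.mk false (nat_lit 37) (nat_lit 0) (nat_lit 37) [nat_lit 3, nat_lit 4, nat_lit 2, nat_lit 3, nat_lit 8, nat_lit 6, nat_lit 7, nat_lit 5, nat_lit 6, nat_lit 4, nat_lit 5, nat_lit 3, nat_lit 4, nat_lit 2, nat_lit 3, nat_lit 8, nat_lit 1, nat_lit 2, nat_lit 3, nat_lit 4, nat_lit 5, nat_lit 6, nat_lit 7, nat_lit 8, nat_lit 5, nat_lit 3, nat_lit 4, nat_lit 2, nat_lit 3, nat_lit 8, nat_lit 1, nat_lit 2, nat_lit 3, nat_lit 4, nat_lit 5, nat_lit 2, nat_lit 3, nat_lit 8, nat_lit 4, nat_lit 3, nat_lit 2, nat_lit 0, nat_lit 1, nat_lit 9, nat_lit 4, nat_lit 3, nat_lit 2, nat_lit 8, nat_lit 3, nat_lit 11, nat_lit 10, nat_lit 1, nat_lit 13, nat_lit 12, nat_lit 19, nat_lit 16] (Rl.cmp (nat_lit 6107) (nat_lit 6216))))))) (FT.node (nat_lit 6221) (FT.node (nat_lit 6219) (FT.leaf (Fct.mk false (nat_lit 37) (nat_lit 0) (nat_lit 37) [nat_lit 7, nat_lit 6, nat_lit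 5, nat_lit 3, nat_lit 4, nat_lit 1, nat_lit 2, nat_lit 3, nat_lit 8, nat_lit 0, nat_lit 1, nat_lit 2, nat_lit 3, nat_lit 4, nat_lit 5, nat_lit 6, nat_lit 7, nat_lit 5, nat_lit 3, nat_lit 4, nat_lit 1, nat_lit 2, nat_lit 3, nat_lit 8, nat_lit 0, nat_lit 1, nat_lit 2, nat_lit 3, nat_lit 4, nat_lit 5, nat_lit 0, nat_lit 1, nat_lit 9, nat_lit 4, nat_lit 3, nat_lit 2, nat_lit 8, nat_lit 3, nat_lit 11, nat_lit 8, nat_lit 10, nat_lit 1, nat_lit 8, nat_lit 16, nat_lit 15, nat_lit 14, nat_lit 13, nat_lit 19] (Rl.cmp (nat_lit 6110) (nat_lit 6217)))) (FT.node (nat_lit 6220) (FT.leaf (Fct.mk false (nat_lit 37) (nat_lit 0) (nat_lit 37) [nat_lit 1, nat_lit 2, nat_lit 3, nat_lit 8, nat_lit 4, nat_lit 5, nat_lit 3, nat_lit 4, nat_lit 2, nat_lit 3, nat_lit 8, nat_lit 1, nat_lit 2, nat_lit 3, nat_lit 4, nat_lit 5, nat_lit 6, nat_lit 7, nat_lit 4, nat_lit 5,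 nat_lit 3, nat_lit 4, nat_lit 1, nat_lit 2, nat_lit 3, nat_lit 8, nat_lit 0, nat_lit 1, nat_lit 2, nat_lit 3, nat_lit 4, nat_lit 5, nat_lit 0, nat_lit 1, nat_lit 9, nat_lit 4, nat_lit 3, nat_lit 2, nat_lit 8, nat_lit 3, nat_lit 1, nat_lit 9, nat_lit 8, nat_lit 12, nat_lit 15, nat_lit 14, nat_lit 17, nat_lit 12, nat_lit 18, nat_lit 16] (Rl.cmp (nat_lit 6110) (nat_lit 6218)))) (FT.leaf (Fct.mk false (nat_lit 37) (nat_lit 0) (nat_lit 37) [nat_lit 5, nat_lit 3, nat_lit 4, nat_lit 2, nat_lit 3, nat_lit 8, nat_lit 6, nat_lit 7, nat_lit 5, nat_lit 6, nat_lit 4, nat_lit 5, nat_lit 3, nat_lit 4, nat_lit 2, nat_lit 3, nat_lit 8, nat_lit 0, nat_lit 1, nat_lit 2, nat_lit 3, nat_lit 4, nat_lit 5, nat_lit 6, nat_lit 7, nat_lit 4, nat_lit 5, nat_lit 1, nat_lit 3, nat_lit 2, nat_lit 8, nat_lit 3, nat_lit 9, nat_lit 10, nat_lit 2, nat_lit 8, nat_lit 10, nat_lit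 1, nat_lit 8, nat_lit 18] (Rl.cmp (nat_lit 6110) (nat_lit 6219)))))) (FT.node (nat_lit 6223) (FT.node (nat_lit 6222) (FT.leaf (Fct.mk false (nat_lit 37) (nat_lit 0) (nat_lit 37) [nat_lit 8, nat_lit 7, nat_lit 5, nat_lit 6, nat_lit 4, nat_lit 5, nat_lit 2, nat_lit 3, nat_lit 4, nat_lit 1, nat_lit 2, nat_lit 3, nat_lit 8, nat_lit 0, nat_lit 1, nat_lit 2, nat_lit 3, nat_lit 4, nat_lit 5, nat_lit 6, nat_lit 7, nat_lit 3, nat_lit 8, nat_lit 2, nat_lit 3, nat_lit 4, nat_lit 1, nat_lit 2, nat_lit 3, nat_lit 8, nat_lit 0, nat_lit 1, nat_lit 2, nat_lit 3, nat_lit 4, nat_lit 5, nat_lit 8, nat_lit 3, nat_lit 10, nat_lit 2, nat_lit 8, nat_lit 10, nat_lit 1, nat_lit 8, nat_lit 12, nat_lit 15, nat_lit 14] (Rl.cmp (nat_lit 6106) (nat_lit 6220)))) (FT.leaf (Fct.mk false (nat_lit 37) (nat_lit 0) (nat_lit 37) [nat_lit 2, nat_lit 3, nat_lit 8, nat_lit 7, nat_lit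 5, nat_lit 6, nat_lit 4, nat_lit 5, nat_lit 3, nat_lit 4, nat_lit 2, nat_lit 3, nat_lit 8, nat_lit 1, nat_lit 2, nat_lit 3, nat_lit 4, nat_lit 5, nat_lit 6, nat_lit 7, nat_lit 3, nat_lit 4, nat_lit 5, nat_lit 2, nat_lit 1, nat_lit 9, nat_lit 4, nat_lit 3, nat_lit 2, nat_lit 8, nat_lit 3, nat_lit 9, nat_lit 10, nat_lit 2, nat_lit 8, nat_lit 10, nat_lit 1, nat_lit 18] (Rl.cmp (nat_lit 6106) (nat_lit 6221))))) (FT.node (nat_lit 6224) (FT.leaf (Fct.mk false (nat_lit 37) (nat_lit 0) (nat_lit 37) [nat_lit 8, nat_lit 6, nat_lit 5, nat_lit 3, nat_lit 4, nat_lit 1, nat_lit 2, nat_lit 3, nat_lit 8, nat_lit 0, nat_lit 1, nat_lit 2, nat_lit 3, nat_lit 4, nat_lit 5, nat_lit 6, nat_lit 7, nat_lit 3, nat_lit 2, nat_lit 1, nat_lit 9, nat_lit 4, nat_lit 3, nat_lit 2, nat_lit 8, nat_lit 3, nat_lit 10, nat_lit 2, nat_lit 8, nat_lit 10, nat_lit 1, nat_lit 12,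 nat_lit 15, nat_lit 17, nat_lit 19] (Rl.cmp (nat_lit 6110) (nat_lit 6222)))) (FT.leaf (Fct.mk false (nat_lit 37) (nat_lit 0) (nat_lit 37) [nat_lit 4, nat_lit 3, nat_lit 8, nat_lit 2, nat_lit 3, nat_lit 4, nat_lit 1, nat_lit 2, nat_lit 3, nat_lit 8, nat_lit 0, nat_lit 1, nat_lit 2, nat_lit 3, nat_lit 4, nat_lit 5, nat_lit 6, nat_lit 7, nat_lit 5, nat_lit 8, nat_lit 3, nat_lit 2, nat_lit 1, nat_lit 9, nat_lit 4, nat_lit 3, nat_lit 2, nat_lit 8, nat_lit 3, nat_lit 11, nat_lit 10, nat_lit 1, nat_lit 8, nat_lit 12, nat_lit 15, nat_lit 12, nat_lit 18, nat_lit 16] (Rl.cmp (nat_lit 6107) (nat_lit 6223))))))))) (FT.node (nat_lit 6237) (FT.node (nat_lit 6231) (FT.node (nat_lit 6228) (FT.node (nat_lit 6226) (FT.leaf (Fct.mk true (nat_lit 33) (nat_lit 7523) (nat_lit 37) [nat_lit 5, nat_lit 6, nat_lit 4, nat_lit 5, nat_lit 2, nat_lit 3, nat_lit 4, nat_lit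 1, nat_lit 2, nat_lit 3, nat_lit 8, nat_lit 0, nat_lit 1, nat_lit 2, nat_lit 3, nat_lit 4, nat_lit 5, nat_lit 6, nat_lit 7, nat_lit 3, nat_lit 4, nat_lit 2, nat_lit 3, nat_lit 8, nat_lit 0, nat_lit 1, nat_lit 2, nat_lit 3, nat_lit 4, nat_lit 5, nat_lit 1, nat_lit 4, nat_lit 3, nat_lit 2, nat_lit 0, nat_lit 1, nat_lit 9, nat_lit 4, nat_lit 3, nat_lit 2, nat_lit 8, nat_lit 3, nat_lit 11, nat_lit 8, nat_lit 10, nat_lit 1, nat_lit 16, nat_lit 8, nat_lit 16] (Rl.rel (nat_lit 0) [nat_lit 8, nat_lit 5, nat_lit 6, nat_lit 4, nat_lit 5, nat_lit 3, nat_lit 4, nat_lit 1, nat_lit 2, nat_lit 3, nat_lit 8, nat_lit 0, nat_lit 1, nat_lit 2, nat_lit 3, nat_lit 4, nat_lit 5, nat_lit 6, nat_lit 7, nat_lit 6, nat_lit 3, nat_lit 2, nat_lit 8, nat_lit 3, nat_lit 17] (nat_lit 37) (nat_lit 2) [nat_lit 6121, nat_lit 6122, nat_lit 2817, nat_lit 4424] []))) (FT.node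 (nat_lit 6227) (FT.leaf (Fct.mk true (nat_lit 33) (nat_lit 28) (nat_lit 37) [nat_lit 3, nat_lit 8, nat_lit 5, nat_lit 6, nat_lit 4, nat_lit 5, nat_lit 3, nat_lit 4, nat_lit 2, nat_lit 3, nat_lit 8, nat_lit 0, nat_lit 1, nat_lit 2, nat_lit 3, nat_lit 4, nat_lit 5, nat_lit 6, nat_lit 7, nat_lit 8, nat_lit 3, nat_lit 4, nat_lit 5, nat_lit 0, nat_lit 1, nat_lit 2, nat_lit 8, nat_lit 3, nat_lit 1, nat_lit 8, nat_lit 12, nat_lit 15, nat_lit 14, nat_lit 17, nat_lit 12, nat_lit 18] (Rl.t1 (nat_lit 6225) (nat_lit 5693)))) (FT.leaf (Fct.mk true (nat_lit 37) (nat_lit 11387) (nat_lit 33) [nat_lit 4, nat_lit 1, nat_lit 2, nat_lit 3, nat_lit 8, nat_lit 0, nat_lit 1, nat_lit 2, nat_lit 3, nat_lit 4, nat_lit 5, nat_lit 6, nat_lit 7, nat_lit 8, nat_lit 6, nat_lit 5, nat_lit 2, nat_lit 3, nat_lit 4, nat_lit 1, nat_lit 2, nat_lit 3, nat_lit 8, nat_lit 0, nat_lit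 1, nat_lit 2, nat_lit 3, nat_lit 4, nat_lit 5, nat_lit 8, nat_lit 3, nat_lit 2, nat_lit 0, nat_lit 1, nat_lit 4, nat_lit 3, nat_lit 2, nat_lit 8, nat_lit 3, nat_lit 0, nat_lit 2, nat_lit 15, nat_lit 8, nat_lit 16] (Rl.inv (nat_lit 6226)))))) (FT.node (nat_lit 6229) (FT.leaf (Fct.mk true (nat_lit 37) (nat_lit 7) (nat_lit 33) [nat_lit 8, nat_lit 2, nat_lit 3, nat_lit 4, nat_lit 5, nat_lit 6, nat_lit 7, nat_lit 3, nat_lit 8, nat_lit 1, nat_lit 2, nat_lit 3, nat_lit 4, nat_lit 5, nat_lit 0, nat_lit 1, nat_lit 3, nat_lit 2, nat_lit 8, nat_lit 3, nat_lit 0, nat_lit 12, nat_lit 15, nat_lit 16, nat_lit 8] (Rl.t1 (nat_lit 6227) (nat_lit 6224)))) (FT.node (nat_lit 6230) (FT.leaf (Fct.mk false (nat_lit 37) (nat_lit 0) (nat_lit 37) [nat_lit 3, nat_lit 8, nat_lit 7, nat_lit 6, nat_lit 4, nat_lit 5, nat_lit 3, nat_lit 4, nat_lit 2, nat_lit 3, nat_lit 8,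 nat_lit 0, nat_lit 1, nat_lit 2, nat_lit 3, nat_lit 4, nat_lit 5, nat_lit 6, nat_lit 7, nat_lit 8, nat_lit 3, nat_lit 4, nat_lit 2, nat_lit 3, nat_lit 8, nat_lit 1, nat_lit 2, nat_lit 3, nat_lit 4, nat_lit 5, nat_lit 2, nat_lit 1, nat_lit 8, nat_lit 3, nat_lit 2, nat_lit 0, nat_lit 1, nat_lit 9, nat_lit 4, nat_lit 3, nat_lit 2, nat_lit 8, nat_lit 3, nat_lit 11, nat_lit 12, nat_lit 18, nat_lit 16] (Rl.cmp (nat_lit 6110) (nat_lit 6110)))) (FT.leaf (Fct.mk false (nat_lit 37) (nat_lit 0) (nat_lit 37) [nat_lit 3, nat_lit 4, nat_lit 2, nat_lit 3, nat_lit 8, nat_lit 6, nat_lit 7, nat_lit 5, nat_lit 6, nat_lit 4, nat_lit 5, nat_lit 3, nat_lit 4, nat_lit 2, nat_lit 3, nat_lit 8, nat_lit 1, nat_lit 2, nat_lit 3, nat_lit 4, nat_lit 5, nat_lit 6, nat_lit 7, nat_lit 8, nat_lit 5, nat_lit 3, nat_lit 4, nat_lit 2, nat_lit 3, nat_lit 8, nat_lit 1, nat_lit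 2, nat_lit 3, nat_lit 4, nat_lit 5, nat_lit 1, nat_lit 8, nat_lit 3, nat_lit 2, nat_lit 0, nat_lit 1, nat_lit 4, nat_lit 3, nat_lit 2, nat_lit 8, nat_lit 3, nat_lit 11, nat_lit 2, nat_lit 12, nat_lit 18, nat_lit 16] (Rl.cmp (nat_lit 6107) (nat_lit 6229))))))) (FT.node (nat_lit 6234) (FT.node (nat_lit 6232) (FT.leaf (Fct.mk false (nat_lit 37) (nat_lit 0) (nat_lit 37) [nat_lit 7, nat_lit 6, nat_lit 5, nat_lit 3, nat_lit 4, nat_lit 1, nat_lit 2, nat_lit 3, nat_lit 8, nat_lit 0, nat_lit 1, nat_lit 2, nat_lit 3, nat_lit 4, nat_lit 5, nat_lit 6, nat_lit 7, nat_lit 5, nat_lit 3, nat_lit 4, nat_lit 1, nat_lit 2, nat_lit 3, nat_lit 8, nat_lit 0, nat_lit 1, nat_lit 2, nat_lit 3, nat_lit 4, nat_lit 5, nat_lit 2, nat_lit 1, nat_lit 4, nat_lit 3, nat_lit 2, nat_lit 8, nat_lit 3, nat_lit 11, nat_lit 1, nat_lit 8, nat_lit 12, nat_lit 15, nat_lit 16] (Rl.cmp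 (nat_lit 6110) (nat_lit 6230)))) (FT.node (nat_lit 6233) (FT.leaf (Fct.mk false (nat_lit 37) (nat_lit 0) (nat_lit 37) [nat_lit 1, nat_lit 2, nat_lit 3, nat_lit 8, nat_lit 4, nat_lit 5, nat_lit 3, nat_lit 4, nat_lit 2, nat_lit 3, nat_lit 8, nat_lit 1, nat_lit 2, nat_lit 3, nat_lit 4, nat_lit 5, nat_lit 6, nat_lit 7, nat_lit 4, nat_lit 5, nat_lit 3, nat_lit 4, nat_lit 1, nat_lit 2, nat_lit 3, nat_lit 8, nat_lit 0, nat_lit 1, nat_lit 2, nat_lit 3, nat_lit 4, nat_lit 5, nat_lit 4, nat_lit 3, nat_lit 2, nat_lit 0, nat_lit 1, nat_lit 9, nat_lit 4, nat_lit 3, nat_lit 2, nat_lit 8, nat_lit 3, nat_lit 2, nat_lit 8, nat_lit 10, nat_lit 1, nat_lit 8, nat_lit 12, nat_lit 15, nat_lit 14, nat_lit 17, nat_lit 12, nat_lit 18] (Rl.cmp (nat_lit 6110) (nat_lit 6231)))) (FT.leaf (Fct.mk false (nat_lit 37) (nat_lit 0) (nat_lit 37) [nat_lit 5, nat_lit 3, nat_lit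 4, nat_lit 2, nat_lit 3, nat_lit 8, nat_lit 6, nat_lit 7, nat_lit 5, nat_lit 6, nat_lit 4, nat_lit 5, nat_lit 3, nat_lit 4, nat_lit 2, nat_lit 3, nat_lit 8, nat_lit 0, nat_lit 1, nat_lit 2, nat_lit 3, nat_lit 4, nat_lit 5, nat_lit 6, nat_lit 7, nat_lit 4, nat_lit 5, nat_lit 2, nat_lit 1, nat_lit 3, nat_lit 2, nat_lit 8, nat_lit 3, nat_lit 11, nat_lit 2, nat_lit 10, nat_lit 1, nat_lit 16, nat_lit 14, nat_lit 13, nat_lit 12, nat_lit 19, nat_lit 16] (Rl.cmp (nat_lit 6110) (nat_lit 6232)))))) (FT.node (nat_lit 6235) (FT.leaf (Fct.mk true (nat_lit 37) (nat_lit 813) (nat_lit 37) [] (Rl.rel (nat_lit 0) [nat_lit 4, nat_lit 5, nat_lit 6, nat_lit 3, nat_lit 4, nat_lit 5, nat_lit 2, nat_lit 3, nat_lit 4, nat_lit 1, nat_lit 2, nat_lit 3, nat_lit 8, nat_lit 0, nat_lit 1, nat_lit 2, nat_lit 3, nat_lit 4, nat_lit 5, nat_lit 6, nat_lit 7, nat_lit 4, nat_lit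 3, nat_lit 8, nat_lit 2, nat_lit 3, nat_lit 4, nat_lit 1, nat_lit 2, nat_lit 3, nat_lit 8, nat_lit 0, nat_lit 1, nat_lit 2, nat_lit 3, nat_lit 4, nat_lit 5, nat_lit 3, nat_lit 2, nat_lit 1, nat_lit 8, nat_lit 3, nat_lit 2, nat_lit 0, nat_lit 1, nat_lit 9, nat_lit 4, nat_lit 3, nat_lit 2, nat_lit 8, nat_lit 3, nat_lit 11, nat_lit 8, nat_lit 10, nat_lit 12, nat_lit 19, nat_lit 16] (nat_lit 37) (nat_lit 2) [nat_lit 6121, nat_lit 6122, nat_lit 3183, nat_lit 6092] []))) (FT.node (nat_lit 6236) (FT.leaf (Fct.mk true (nat_lit 37) (nat_lit 225) (nat_lit 37) [nat_lit 2, nat_lit 3, nat_lit 8, nat_lit 7, nat_lit 6, nat_lit 4, nat_lit 5, nat_lit 3, nat_lit 4, nat_lit 2, nat_lit 3, nat_lit 8, nat_lit 0, nat_lit 1, nat_lit 2, nat_lit 3, nat_lit 4, nat_lit 5, nat_lit 6, nat_lit 7, nat_lit 6, nat_lit 5, nat_lit 4, nat_lit 2, nat_lit 3, nat_lit 8, nat_lit 1,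 nat_lit 2, nat_lit 3, nat_lit 4, nat_lit 5, nat_lit 2, nat_lit 1, nat_lit 9, nat_lit 4, nat_lit 3, nat_lit 2, nat_lit 8, nat_lit 3, nat_lit 0, nat_lit 2, nat_lit 8, nat_lit 18, nat_lit 16] (Rl.t1 (nat_lit 6234) (nat_lit 6233)))) (FT.leaf (Fct.mk false (nat_lit 37) (nat_lit 0) (nat_lit 37) [nat_lit 3, nat_lit 8, nat_lit 7, nat_lit 6, nat_lit 4, nat_lit 5, nat_lit 3, nat_lit 4, nat_lit 2, nat_lit 3, nat_lit 8, nat_lit 0, nat_lit 1, nat_lit 2, nat_lit 3, nat_lit 4, nat_lit 5, nat_lit 6, nat_lit 7, nat_lit 8, nat_lit 3, nat_lit 4, nat_lit 2, nat_lit 3, nat_lit 8, nat_lit 1, nat_lit 2, nat_lit 3, nat_lit 4, nat_lit 5, nat_lit 2, nat_lit 1, nat_lit 8, nat_lit 3, nat_lit 2, nat_lit 0, nat_lit 1, nat_lit 9, nat_lit 4, nat_lit 3, nat_lit 2, nat_lit 8, nat_lit 3, nat_lit 11, nat_lit 12, nat_lit 18, nat_lit 16] (Rl.cmp (nat_lit 6110) (nat_lit 6110))))))))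 (FT.node (nat_lit 6243) (FT.node (nat_lit 6240) (FT.node (nat_lit 6238) (FT.leaf (Fct.mk false (nat_lit 37) (nat_lit 0) (nat_lit 37) [nat_lit 8, nat_lit 7, nat_lit 6, nat_lit 4, nat_lit 5, nat_lit 3, nat_lit 4, nat_lit 1, nat_lit 2, nat_lit 3, nat_lit 8, nat_lit 0, nat_lit 1, nat_lit 2, nat_lit 3, nat_lit 4, nat_lit 5, nat_lit 6, nat_lit 7, nat_lit 6, nat_lit 5, nat_lit 3, nat_lit 4, nat_lit 2, nat_lit 3, nat_lit 8, nat_lit 1, nat_lit 2, nat_lit 3, nat_lit 4, nat_lit 5, nat_lit 8, nat_lit 3, nat_lit 11, nat_lit 2, nat_lit 8, nat_lit 10, nat_lit 1, nat_lit 12, nat_lit 15, nat_lit 8, nat_lit 18, nat_lit 16] (Rl.cmp (nat_lit 6106) (nat_lit 6236)))) (FT.node (nat_lit 6239) (FT.leaf (Fct.mk false (nat_lit 37) (nat_lit 0) (nat_lit 37) [nat_lit 7, nat_lit 6, nat_lit 4, nat_lit 5, nat_lit 3, nat_lit 4, nat_lit 2, nat_lit 3, nat_lit 8, nat_lit 1, nat_lit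 2, nat_lit 3, nat_lit 4, nat_lit 5, nat_lit 6, nat_lit 7, nat_lit 5, nat_lit 3, nat_lit 4, nat_lit 2, nat_lit 3, nat_lit 8, nat_lit 1, nat_lit 2, nat_lit 3, nat_lit 4, nat_lit 5, nat_lit 0, nat_lit 1, nat_lit 2, nat_lit 3, nat_lit 11, nat_lit 2, nat_lit 10, nat_lit 1, nat_lit 18, nat_lit 16] (Rl.cmp (nat_lit 6110) (nat_lit 6237)))) (FT.leaf (Fct.mk false (nat_lit 37) (nat_lit 0) (nat_lit 37) [nat_lit 4, nat_lit 5, nat_lit 2, nat_lit 3, nat_lit 4, nat_lit 1, nat_lit 2, nat_lit 3, nat_lit 8, nat_lit 0, nat_lit 1, nat_lit 2, nat_lit 3, nat_lit 4, nat_lit 5, nat_lit 6, nat_lit 7, nat_lit 8, nat_lit 4, nat_lit 5, nat_lit 3, nat_lit 4, nat_lit 2, nat_lit 3, nat_lit 8, nat_lit 0, nat_lit 1, nat_lit 2, nat_lit 3, nat_lit 4, nat_lit 5, nat_lit 4, nat_lit 3, nat_lit 2, nat_lit 0, nat_lit 1, nat_lit 9, nat_lit 4, nat_lit 3, nat_lit 2, nat_lit 8, nat_lit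 3, nat_lit 8, nat_lit 10, nat_lit 1, nat_lit 12, nat_lit 15, nat_lit 14, nat_lit 17, nat_lit 12, nat_lit 18] (Rl.cmp (nat_lit 6110) (nat_lit 6238)))))) (FT.node (nat_lit 6241) (FT.leaf (Fct.mk false (nat_lit 37) (nat_lit 0) (nat_lit 37) [nat_lit 4, nat_lit 5, nat_lit 2, nat_lit 3, nat_lit 4, nat_lit 1, nat_lit 2, nat_lit 3, nat_lit 8, nat_lit 0, nat_lit 1, nat_lit 2, nat_lit 3, nat_lit 4, nat_lit 5, nat_lit 6, nat_lit 7, nat_lit 3, nat_lit 4, nat_lit 2, nat_lit 3, nat_lit 8, nat_lit 0, nat_lit 1, nat_lit 2, nat_lit 3, nat_lit 4, nat_lit 5, nat_lit 1, nat_lit 4, nat_lit 3, nat_lit 2, nat_lit 0, nat_lit 1, nat_lit 9, nat_lit 4, nat_lit 3, nat_lit 2, nat_lit 8, nat_lit 3, nat_lit 8, nat_lit 10, nat_lit 1, nat_lit 12, nat_lit 15, nat_lit 14, nat_lit 17, nat_lit 12, nat_lit 18] (Rl.cmp (nat_lit 6107) (nat_lit 6239)))) (FT.node (nat_lit 6242) (FT.leaf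 (Fct.mk false (nat_lit 37) (nat_lit 0) (nat_lit 37) [nat_lit 4, nat_lit 5, nat_lit 6, nat_lit 3, nat_lit 4, nat_lit 5, nat_lit 2, nat_lit 3, nat_lit 4, nat_lit 1, nat_lit 2, nat_lit 3, nat_lit 8, nat_lit 0, nat_lit 1, nat_lit 2, nat_lit 3, nat_lit 4, nat_lit 5, nat_lit 6, nat_lit 7, nat_lit 4, nat_lit 2, nat_lit 3, nat_lit 8, nat_lit 1, nat_lit 2, nat_lit 3, nat_lit 4, nat_lit 5, nat_lit 8, nat_lit 3, nat_lit 2, nat_lit 0, nat_lit 1, nat_lit 9, nat_lit 4, nat_lit 3, nat_lit 2, nat_lit 8, nat_lit 3, nat_lit 8, nat_lit 10, nat_lit 1, nat_lit 8, nat_lit 12, nat_lit 15, nat_lit 14, nat_lit 17, nat_lit 12, nat_lit 18] (Rl.cmp (nat_lit 6106) (nat_lit 6240)))) (FT.leaf (Fct.mk false (nat_lit 37) (nat_lit 0) (nat_lit 37) [nat_lit 3, nat_lit 4, nat_lit 2, nat_lit 3, nat_lit 8, nat_lit 6, nat_lit 7, nat_lit 5, nat_lit 6, nat_lit 4, nat_lit 5, nat_lit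 3, nat_lit 4, nat_lit 2, nat_lit 3, nat_lit 8, nat_lit 0, nat_lit 1, nat_lit 2, nat_lit 3, nat_lit 4, nat_lit 5, nat_lit 6, nat_lit 7, nat_lit 2, nat_lit 3, nat_lit 8, nat_lit 4, nat_lit 5, nat_lit 3, nat_lit 4, nat_lit 2, nat_lit 3, nat_lit 8, nat_lit 0, nat_lit 1, nat_lit 2, nat_lit 3, nat_lit 4, nat_lit 5, nat_lit 0, nat_lit 1, nat_lit 2, nat_lit 3, nat_lit 10, nat_lit 1, nat_lit 16, nat_lit 14, nat_lit 13, nat_lit 19, nat_lit 16] (Rl.cmp (nat_lit 6110) (nat_lit 6241))))))) (FT.node (nat_lit 6246) (FT.node (nat_lit 6244) (FT.leaf (Fct.mk false (nat_lit 37) (nat_lit 0) (nat_lit 37) [nat_lit 7, nat_lit 6, nat_lit 5, nat_lit 2, nat_lit 3, nat_lit 4, nat_lit 1, nat_lit 2, nat_lit 3, nat_lit 8, nat_lit 0, nat_lit 1, nat_lit 2, nat_lit 3, nat_lit 4, nat_lit 5, nat_lit 6, nat_lit 7, nat_lit 8, nat_lit 5, nat_lit 2, nat_lit 3, nat_lit 4, nat_lit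 1, nat_lit 2, nat_lit 3, nat_lit 8, nat_lit 0, nat_lit 1, nat_lit 2, nat_lit 3, nat_lit 4, nat_lit 5, nat_lit 2, nat_lit 0, nat_lit 1, nat_lit 3, nat_lit 2, nat_lit 8, nat_lit 3, nat_lit 2, nat_lit 8, nat_lit 10, nat_lit 1, nat_lit 12, nat_lit 8, nat_lit 16, nat_lit 14, nat_lit 16, nat_lit 8, nat_lit 16] (Rl.cmp (nat_lit 6110) (nat_lit 6242)))) (FT.node (nat_lit 6245) (FT.leaf (Fct.mk false (nat_lit 37) (nat_lit 0) (nat_lit 37) [nat_lit 4, nat_lit 1, nat_lit 2, nat_lit 3, nat_lit 8, nat_lit 7, nat_lit 5, nat_lit 6, nat_lit 4, nat_lit 5, nat_lit 3, nat_lit 4, nat_lit 2, nat_lit 3, nat_lit 8, nat_lit 1, nat_lit 2, nat_lit 3, nat_lit 4, nat_lit 5, nat_lit 6, nat_lit 7, nat_lit 5, nat_lit 6, nat_lit 4, nat_lit 5, nat_lit 3, nat_lit 4, nat_lit 1, nat_lit 2, nat_lit 3, nat_lit 8, nat_lit 0, nat_lit 1, nat_lit 2, nat_lit 3, nat_lit 4, nat_lit 5, nat_lit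 2, nat_lit 0, nat_lit 1, nat_lit 3, nat_lit 2, nat_lit 8, nat_lit 3, nat_lit 8, nat_lit 10, nat_lit 12, nat_lit 8, nat_lit 16, nat_lit 14, nat_lit 16, nat_lit 8, nat_lit 19, nat_lit 16] (Rl.cmp (nat_lit 6110) (nat_lit 6243)))) (FT.leaf (Fct.mk false (nat_lit 37) (nat_lit 0) (nat_lit 37) [nat_lit 4, nat_lit 5, nat_lit 2, nat_lit 3, nat_lit 4, nat_lit 1, nat_lit 2, nat_lit 3, nat_lit 8, nat_lit 6, nat_lit 7, nat_lit 5, nat_lit 6, nat_lit 4, nat_lit 5, nat_lit 3, nat_lit 4, nat_lit 2, nat_lit 3, nat_lit 8, nat_lit 1, nat_lit 2, nat_lit 3, nat_lit 4, nat_lit 5, nat_lit 6, nat_lit 7, nat_lit 4, nat_lit 1, nat_lit 2, nat_lit 3, nat_lit 8, nat_lit 5, nat_lit 6, nat_lit 4, nat_lit 5, nat_lit 3, nat_lit 4, nat_lit 2, nat_lit 3, nat_lit 8, nat_lit 1, nat_lit 2, nat_lit 3, nat_lit 4, nat_lit 5, nat_lit 1, nat_lit 8, nat_lit 4, nat_lit 3, nat_lit 2, nat_lit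 0, nat_lit 1, nat_lit 9, nat_lit 4, nat_lit 3, nat_lit 2, nat_lit 8, nat_lit 3, nat_lit 11, nat_lit 10, nat_lit 12, nat_lit 15, nat_lit 19, nat_lit 16] (Rl.cmp (nat_lit 6107) (nat_lit 6244)))))) (FT.node (nat_lit 6248) (FT.node (nat_lit 6247) (FT.leaf (Fct.mk false (nat_lit 37) (nat_lit 0) (nat_lit 37) [nat_lit 6, nat_lit 5, nat_lit 3, nat_lit 4, nat_lit 2, nat_lit 3, nat_lit 8, nat_lit 1, nat_lit 2, nat_lit 3, nat_lit 4, nat_lit 5, nat_lit 6, nat_lit 7, nat_lit 3, nat_lit 8, nat_lit 6, nat_lit 4, nat_lit 5, nat_lit 3, nat_lit 4, nat_lit 2, nat_lit 3, nat_lit 8, nat_lit 0, nat_lit 1, nat_lit 2, nat_lit 3, nat_lit 4, nat_lit 5, nat_lit 1, nat_lit 2, nat_lit 0, nat_lit 1, nat_lit 4, nat_lit 3, nat_lit 2, nat_lit 8, nat_lit 3, nat_lit 11, nat_lit 1, nat_lit 12, nat_lit 15, nat_lit 13, nat_lit 12] (Rl.cmp (nat_lit 6110) (nat_lit 6245)))) (FT.leaf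 (Fct.mk true (nat_lit 32) (nat_lit 72776) (nat_lit 37) [nat_lit 8, nat_lit 3, nat_lit 4, nat_lit 2, nat_lit 3, nat_lit 8, nat_lit 6, nat_lit 7, nat_lit 5, nat_lit 6, nat_lit 4, nat_lit 5, nat_lit 3, nat_lit 4, nat_lit 2, nat_lit 3, nat_lit 8, nat_lit 0, nat_lit 1, nat_lit 2, nat_lit 3, nat_lit 4, nat_lit 5, nat_lit 6, nat_lit 7, nat_lit 3, nat_lit 8, nat_lit 5, nat_lit 2, nat_lit 3, nat_lit 4, nat_lit 1, nat_lit 2, nat_lit 3, nat_lit 8, nat_lit 0, nat_lit 1, nat_lit 2, nat_lit 3, nat_lit 4, nat_lit 5, nat_lit 0, nat_lit 1, nat_lit 9, nat_lit 4, nat_lit 3, nat_lit 2, nat_lit 8, nat_lit 3, nat_lit 11, nat_lit 10, nat_lit 2, nat_lit 8, nat_lit 10, nat_lit 1, nat_lit 16, nat_lit 8, nat_lit 12, nat_lit 15, nat_lit 13, nat_lit 18] (Rl.rel (nat_lit 0) [nat_lit 8, nat_lit 5, nat_lit 6, nat_lit 4, nat_lit 5, nat_lit 3, nat_lit 4, nat_lit 1, nat_lit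 2, nat_lit 3, nat_lit 8, nat_lit 0, nat_lit 1, nat_lit 2, nat_lit 3, nat_lit 4, nat_lit 5, nat_lit 6, nat_lit 7, nat_lit 6, nat_lit 3, nat_lit 2, nat_lit 8, nat_lit 3, nat_lit 10, nat_lit 17] (nat_lit 37) (nat_lit 2) [nat_lit 6121, nat_lit 6122, nat_lit 2914, nat_lit 3895] [])))) (FT.node (nat_lit 6249) (FT.leaf (Fct.mk true (nat_lit 32) (nat_lit 52) (nat_lit 37) [nat_lit 8, nat_lit 6, nat_lit 7, nat_lit 5, nat_lit 6, nat_lit 4, nat_lit 5, nat_lit 3, nat_lit 4, nat_lit 2, nat_lit 3, nat_lit 8, nat_lit 0, nat_lit 1, nat_lit 2, nat_lit 3, nat_lit 4, nat_lit 5, nat_lit 6, nat_lit 7, nat_lit 1, nat_lit 8, nat_lit 3, nat_lit 2, nat_lit 0, nat_lit 1, nat_lit 4, nat_lit 3, nat_lit 2, nat_lit 8, nat_lit 3, nat_lit 0, nat_lit 8, nat_lit 12, nat_lit 15, nat_lit 14, nat_lit 17, nat_lit 12, nat_lit 16] (Rl.t1 (nat_lit 6247) (nat_lit 4195)))) (FT.leaf (Fct.mk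 true (nat_lit 37) (nat_lit 11246) (nat_lit 32) [nat_lit 7, nat_lit 6, nat_lit 5, nat_lit 4, nat_lit 2, nat_lit 3, nat_lit 8, nat_lit 0, nat_lit 1, nat_lit 2, nat_lit 3, nat_lit 4, nat_lit 5, nat_lit 6, nat_lit 7, nat_lit 6, nat_lit 4, nat_lit 5, nat_lit 2, nat_lit 3, nat_lit 4, nat_lit 1, nat_lit 2, nat_lit 3, nat_lit 8, nat_lit 0, nat_lit 1, nat_lit 2, nat_lit 3, nat_lit 4, nat_lit 5, nat_lit 0, nat_lit 1, nat_lit 4, nat_lit 3, nat_lit 2, nat_lit 8, nat_lit 3, nat_lit 11, nat_lit 10, nat_lit 15, nat_lit 17, nat_lit 19, nat_lit 16] (Rl.inv (nat_lit 6248)))))))))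

/-- some facts -/
noncomputable def ftc125 : FT := FT.node (nat_lit 6275) (FT.node (nat_lit 6262) (FT.node (nat_lit 6256) (FT.node (nat_lit 6253) (FT.node (nat_lit 6251) (FT.leaf (Fct.mk true (nat_lit 37) (nat_lit 34) (nat_lit 32) [nat_lit 8, nat_lit 3, nat_lit 4, nat_lit 1, nat_lit 2, nat_lit 3, nat_lit 8, nat_lit 0, nat_lit 1, nat_lit 2, nat_lit 3, nat_lit 4, nat_lit 5, nat_lit 6, nat_lit 7, nat_lit 8, nat_lit 6, nat_lit 5, nat_lit 2, nat_lit 3, nat_lit 4, nat_lit 1, nat_lit 2, nat_lit 3, nat_lit 8, nat_lit 0, nat_lit 1, nat_lit 2, nat_lit 3, nat_lit 4, nat_lit 5, nat_lit 2, nat_lit 1, nat_lit 3, nat_lit 2, nat_lit 0, nat_lit 1, nat_lit 9, nat_lit 4, nat_lit 3, nat_lit 2, nat_lit 8, nat_lit 3, nat_lit 9, nat_lit 2, nat_lit 12, nat_lit 19, nat_lit 16] (Rl.t1 (nat_lit 6249) (nat_lit 6246)))) (FT.node (nat_lit 6252) (FT.leaf (Fct.mk false (nat_lit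 37) (nat_lit 0) (nat_lit 37) [nat_lit 8, nat_lit 7, nat_lit 6, nat_lit 5, nat_lit 3, nat_lit 4, nat_lit 2, nat_lit 3, nat_lit 8, nat_lit 1, nat_lit 2, nat_lit 3, nat_lit 4, nat_lit 5, nat_lit 6, nat_lit 7, nat_lit 6, nat_lit 8, nat_lit 4, nat_lit 3, nat_lit 2, nat_lit 1, nat_lit 9, nat_lit 4, nat_lit 3, nat_lit 2, nat_lit 8, nat_lit 3, nat_lit 11, nat_lit 8, nat_lit 10, nat_lit 17, nat_lit 12, nat_lit 18, nat_lit 16] (Rl.cmp (nat_lit 6110) (nat_lit 6106)))) (FT.leaf (Fct.mk false (nat_lit 37) (nat_lit 0) (nat_lit 37) [nat_lit 2, nat_lit 3, nat_lit 8, nat_lit 6, nat_lit 7, nat_lit 5, nat_lit 6, nat_lit 4, nat_lit 5, nat_lit 3, nat_lit 4, nat_lit 2, nat_lit 3, nat_lit 8, nat_lit 0, nat_lit 1, nat_lit 2, nat_lit 3, nat_lit 4, nat_lit 5, nat_lit 6, nat_lit 7, nat_lit 5, nat_lit 8, nat_lit 4, nat_lit 3, nat_lit 2, nat_lit 1, nat_lit 9, nat_lit 4,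 nat_lit 3, nat_lit 2, nat_lit 8, nat_lit 3, nat_lit 11, nat_lit 8, nat_lit 10, nat_lit 17, nat_lit 12] (Rl.cmp (nat_lit 6106) (nat_lit 6251)))))) (FT.node (nat_lit 6254) (FT.leaf (Fct.mk false (nat_lit 37) (nat_lit 0) (nat_lit 37) [nat_lit 8, nat_lit 6, nat_lit 7, nat_lit 5, nat_lit 6, nat_lit 4, nat_lit 5, nat_lit 2, nat_lit 3, nat_lit 4, nat_lit 1, nat_lit 2, nat_lit 3, nat_lit 8, nat_lit 0, nat_lit 1, nat_lit 2, nat_lit 3, nat_lit 4, nat_lit 5, nat_lit 6, nat_lit 7, nat_lit 4, nat_lit 3, nat_lit 8, nat_lit 2, nat_lit 3, nat_lit 4, nat_lit 1, nat_lit 2, nat_lit 3, nat_lit 8, nat_lit 0, nat_lit 1, nat_lit 2, nat_lit 3, nat_lit 4, nat_lit 5, nat_lit 2, nat_lit 1, nat_lit 4, nat_lit 3, nat_lit 2, nat_lit 0, nat_lit 1, nat_lit 9, nat_lit 4, nat_lit 3, nat_lit 2, nat_lit 8, nat_lit 3, nat_lit 9, nat_lit 17, nat_lit 12, nat_lit 19, nat_lit 16]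 (Rl.cmp (nat_lit 6106) (nat_lit 6252)))) (FT.node (nat_lit 6255) (FT.leaf (Fct.mk false (nat_lit 37) (nat_lit 0) (nat_lit 37) [nat_lit 8, nat_lit 3, nat_lit 4, nat_lit 2, nat_lit 3, nat_lit 8, nat_lit 1, nat_lit 2, nat_lit 3, nat_lit 4, nat_lit 5, nat_lit 4, nat_lit 3, nat_lit 2, nat_lit 1, nat_lit 9, nat_lit 4, nat_lit 3, nat_lit 2, nat_lit 8, nat_lit 3, nat_lit 11, nat_lit 8, nat_lit 10, nat_lit 17] (Rl.cmp (nat_lit 6110) (nat_lit 6253)))) (FT.leaf (Fct.mk false (nat_lit 37) (nat_lit 0) (nat_lit 37) [nat_lit 8, nat_lit 7, nat_lit 6, nat_lit 5, nat_lit 3, nat_lit 4, nat_lit 2, nat_lit 3, nat_lit 8, nat_lit 1, nat_lit 2, nat_lit 3, nat_lit 4, nat_lit 5, nat_lit 6, nat_lit 7, nat_lit 3, nat_lit 8, nat_lit 2, nat_lit 3, nat_lit 4, nat_lit 1, nat_lit 2, nat_lit 3, nat_lit 8, nat_lit 0, nat_lit 1, nat_lit 2, nat_lit 3, nat_lit 4, nat_lit 5, nat_lit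 1, nat_lit 8, nat_lit 3, nat_lit 2, nat_lit 0, nat_lit 1, nat_lit 9, nat_lit 4, nat_lit 3, nat_lit 2, nat_lit 8, nat_lit 3, nat_lit 11, nat_lit 10, nat_lit 2, nat_lit 8, nat_lit 10, nat_lit 1, nat_lit 14, nat_lit 13, nat_lit 12, nat_lit 19] (Rl.cmp (nat_lit 6110) (nat_lit 6254))))))) (FT.node (nat_lit 6259) (FT.node (nat_lit 6257) (FT.leaf (Fct.mk false (nat_lit 37) (nat_lit 0) (nat_lit 37) [nat_lit 2, nat_lit 3, nat_lit 8, nat_lit 6, nat_lit 7, nat_lit 5, nat_lit 6, nat_lit 4, nat_lit 5, nat_lit 3, nat_lit 4, nat_lit 2, nat_lit 3, nat_lit 8, nat_lit 0, nat_lit 1, nat_lit 2, nat_lit 3, nat_lit 4, nat_lit 5, nat_lit 6, nat_lit 7, nat_lit 5, nat_lit 2, nat_lit 3, nat_lit 4, nat_lit 1, nat_lit 2, nat_lit 3, nat_lit 8, nat_lit 0, nat_lit 1, nat_lit 2, nat_lit 3, nat_lit 4, nat_lit 5, nat_lit 2, nat_lit 1, nat_lit 8, nat_lit 3, nat_lit 2, nat_lit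 0, nat_lit 1, nat_lit 4, nat_lit 3, nat_lit 2, nat_lit 8, nat_lit 3, nat_lit 11, nat_lit 10, nat_lit 2, nat_lit 8, nat_lit 10, nat_lit 1, nat_lit 13, nat_lit 12, nat_lit 19] (Rl.cmp (nat_lit 6106) (nat_lit 6255)))) (FT.node (nat_lit 6258) (FT.leaf (Fct.mk false (nat_lit 37) (nat_lit 0) (nat_lit 37) [nat_lit 8, nat_lit 6, nat_lit 7, nat_lit 5, nat_lit 6, nat_lit 4, nat_lit 5, nat_lit 2, nat_lit 3, nat_lit 4, nat_lit 1, nat_lit 2, nat_lit 3, nat_lit 8, nat_lit 0, nat_lit 1, nat_lit 2, nat_lit 3, nat_lit 4, nat_lit 5, nat_lit 6, nat_lit 7, nat_lit 8, nat_lit 5, nat_lit 3, nat_lit 4, nat_lit 1, nat_lit 2, nat_lit 3, nat_lit 8, nat_lit 0, nat_lit 1, nat_lit 2, nat_lit 3, nat_lit 4, nat_lit 5, nat_lit 2, nat_lit 8, nat_lit 3, nat_lit 1, nat_lit 9, nat_lit 15, nat_lit 12, nat_lit 19] (Rl.cmp (nat_lit 6106) (nat_lit 6256)))) (FT.leaf (Fct.mk false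 (nat_lit 37) (nat_lit 0) (nat_lit 37) [nat_lit 5, nat_lit 4, nat_lit 2, nat_lit 3, nat_lit 8, nat_lit 0, nat_lit 1, nat_lit 2, nat_lit 3, nat_lit 4, nat_lit 5, nat_lit 11, nat_lit 8, nat_lit 12, nat_lit 15, nat_lit 13, nat_lit 12, nat_lit 18] (Rl.cmp (nat_lit 6110) (nat_lit 6257)))))) (FT.node (nat_lit 6260) (FT.leaf (Fct.mk false (nat_lit 37) (nat_lit 0) (nat_lit 37) [nat_lit 8, nat_lit 7, nat_lit 6, nat_lit 5, nat_lit 3, nat_lit 4, nat_lit 2, nat_lit 3, nat_lit 8, nat_lit 1, nat_lit 2, nat_lit 3, nat_lit 4, nat_lit 5, nat_lit 6, nat_lit 7, nat_lit 3, nat_lit 8, nat_lit 5, nat_lit 6, nat_lit 4, nat_lit 5, nat_lit 3, nat_lit 4, nat_lit 2, nat_lit 3, nat_lit 8, nat_lit 0, nat_lit 1, nat_lit 2, nat_lit 3, nat_lit 4, nat_lit 5, nat_lit 1, nat_lit 2, nat_lit 0, nat_lit 1, nat_lit 4, nat_lit 3, nat_lit 2, nat_lit 8, nat_lit 3, nat_lit 2, nat_lit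 8, nat_lit 10, nat_lit 1, nat_lit 12, nat_lit 15, nat_lit 14, nat_lit 17, nat_lit 19, nat_lit 16] (Rl.cmp (nat_lit 6110) (nat_lit 6258)))) (FT.node (nat_lit 6261) (FT.leaf (Fct.mk true (nat_lit 32) (nat_lit 40160) (nat_lit 37) [nat_lit 7, nat_lit 6, nat_lit 5, nat_lit 3, nat_lit 4, nat_lit 2, nat_lit 3, nat_lit 8, nat_lit 0, nat_lit 1, nat_lit 2, nat_lit 3, nat_lit 4, nat_lit 5, nat_lit 6, nat_lit 7, nat_lit 4, nat_lit 5, nat_lit 11, nat_lit 15, nat_lit 16, nat_lit 8, nat_lit 19, nat_lit 16] (Rl.rel (nat_lit 0) [nat_lit 8, nat_lit 5, nat_lit 6, nat_lit 4, nat_lit 5, nat_lit 3, nat_lit 4, nat_lit 1, nat_lit 2, nat_lit 3, nat_lit 8, nat_lit 0, nat_lit 1, nat_lit 2, nat_lit 3, nat_lit 4, nat_lit 5, nat_lit 6, nat_lit 7, nat_lit 4, nat_lit 5, nat_lit 9, nat_lit 4, nat_lit 3, nat_lit 2, nat_lit 8, nat_lit 3, nat_lit 17] (nat_lit 37) (nat_lit 2)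 [nat_lit 6121, nat_lit 6122, nat_lit 3186, nat_lit 4119] []))) (FT.leaf (Fct.mk true (nat_lit 32) (nat_lit 1804) (nat_lit 37) [nat_lit 3, nat_lit 8, nat_lit 6, nat_lit 4, nat_lit 5, nat_lit 3, nat_lit 4, nat_lit 1, nat_lit 2, nat_lit 3, nat_lit 8, nat_lit 0, nat_lit 1, nat_lit 2, nat_lit 3, nat_lit 4, nat_lit 5, nat_lit 6, nat_lit 7, nat_lit 8, nat_lit 6, nat_lit 4, nat_lit 5, nat_lit 3, nat_lit 4, nat_lit 1, nat_lit 2, nat_lit 3, nat_lit 8, nat_lit 0, nat_lit 1, nat_lit 2, nat_lit 3, nat_lit 4, nat_lit 5, nat_lit 2, nat_lit 1, nat_lit 3, nat_lit 2, nat_lit 0, nat_lit 1, nat_lit 4, nat_lit 3, nat_lit 2, nat_lit 8, nat_lit 3, nat_lit 10, nat_lit 0, nat_lit 14, nat_lit 17, nat_lit 12] (Rl.t1 (nat_lit 6260) (nat_lit 4131)))))))) (FT.node (nat_lit 6268) (FT.node (nat_lit 6265) (FT.node (nat_lit 6263) (FT.leaf (Fct.mk true (nat_lit 37) (nat_lit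 125158) (nat_lit 32) [nat_lit 5, nat_lit 6, nat_lit 4, nat_lit 5, nat_lit 3, nat_lit 4, nat_lit 2, nat_lit 3, nat_lit 8, nat_lit 1, nat_lit 2, nat_lit 3, nat_lit 4, nat_lit 5, nat_lit 6, nat_lit 7, nat_lit 5, nat_lit 2, nat_lit 3, nat_lit 4, nat_lit 1, nat_lit 2, nat_lit 3, nat_lit 8, nat_lit 0, nat_lit 1, nat_lit 2, nat_lit 3, nat_lit 4, nat_lit 5, nat_lit 8, nat_lit 4, nat_lit 3, nat_lit 2, nat_lit 1, nat_lit 9, nat_lit 4, nat_lit 3, nat_lit 2, nat_lit 8, nat_lit 3, nat_lit 11, nat_lit 2, nat_lit 8, nat_lit 10, nat_lit 1, nat_lit 16, nat_lit 8, nat_lit 12, nat_lit 15, nat_lit 8, nat_lit 18, nat_lit 16] (Rl.inv (nat_lit 6261)))) (FT.node (nat_lit 6264) (FT.leaf (Fct.mk true (nat_lit 37) (nat_lit 223) (nat_lit 32) [nat_lit 3, nat_lit 4, nat_lit 5, nat_lit 2, nat_lit 3, nat_lit 4, nat_lit 1, nat_lit 2, nat_lit 3, nat_lit 8, nat_lit 0, nat_lit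 1, nat_lit 2, nat_lit 3, nat_lit 4, nat_lit 5, nat_lit 6, nat_lit 7, nat_lit 8, nat_lit 3, nat_lit 4, nat_lit 2, nat_lit 3, nat_lit 8, nat_lit 1, nat_lit 2, nat_lit 3, nat_lit 4, nat_lit 5, nat_lit 2, nat_lit 1, nat_lit 3, nat_lit 2, nat_lit 0, nat_lit 1, nat_lit 4, nat_lit 3, nat_lit 2, nat_lit 8, nat_lit 3, nat_lit 10, nat_lit 0, nat_lit 15, nat_lit 14, nat_lit 18] (Rl.t1 (nat_lit 6262) (nat_lit 6259)))) (FT.leaf (Fct.mk false (nat_lit 37) (nat_lit 0) (nat_lit 37) [nat_lit 2, nat_lit 3, nat_lit 8, nat_lit 6, nat_lit 7, nat_lit 5, nat_lit 6, nat_lit 4, nat_lit 5, nat_lit 3, nat_lit 4, nat_lit 2, nat_lit 3, nat_lit 8, nat_lit 0, nat_lit 1, nat_lit 2, nat_lit 3, nat_lit 4, nat_lit 5, nat_lit 6, nat_lit 7, nat_lit 5, nat_lit 1, nat_lit 3, nat_lit 2, nat_lit 0, nat_lit 1, nat_lit 9, nat_lit 4, nat_lit 3, nat_lit 2, nat_lit 8, nat_lit 3, nat_lit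 2, nat_lit 13, nat_lit 16] (Rl.cmp (nat_lit 6106) (nat_lit 6110)))))) (FT.node (nat_lit 6266) (FT.leaf (Fct.mk false (nat_lit 37) (nat_lit 0) (nat_lit 37) [nat_lit 8, nat_lit 7, nat_lit 6, nat_lit 4, nat_lit 5, nat_lit 3, nat_lit 4, nat_lit 1, nat_lit 2, nat_lit 3, nat_lit 8, nat_lit 0, nat_lit 1, nat_lit 2, nat_lit 3, nat_lit 4, nat_lit 5, nat_lit 6, nat_lit 7, nat_lit 0, nat_lit 1, nat_lit 2, nat_lit 3, nat_lit 4, nat_lit 5, nat_lit 2, nat_lit 1, nat_lit 9, nat_lit 4, nat_lit 3, nat_lit 2, nat_lit 8, nat_lit 3, nat_lit 11, nat_lit 2, nat_lit 8, nat_lit 18, nat_lit 16] (Rl.cmp (nat_lit 6110) (nat_lit 6264)))) (FT.node (nat_lit 6267) (FT.leaf (Fct.mk false (nat_lit 37) (nat_lit 0) (nat_lit 37) [nat_lit 7, nat_lit 6, nat_lit 4, nat_lit 5, nat_lit 3, nat_lit 4, nat_lit 2, nat_lit 3, nat_lit 8, nat_lit 1, nat_lit 2, nat_lit 3, nat_lit 4, nat_lit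 5, nat_lit 6, nat_lit 7, nat_lit 8, nat_lit 4, nat_lit 5, nat_lit 3, nat_lit 4, nat_lit 2, nat_lit 3, nat_lit 8, nat_lit 1, nat_lit 2, nat_lit 3, nat_lit 4, nat_lit 5, nat_lit 0, nat_lit 1, nat_lit 2, nat_lit 3, nat_lit 8, nat_lit 10, nat_lit 9, nat_lit 2, nat_lit 8, nat_lit 16, nat_lit 14, nat_lit 13, nat_lit 12, nat_lit 18, nat_lit 16] (Rl.cmp (nat_lit 6110) (nat_lit 6265)))) (FT.leaf (Fct.mk false (nat_lit 37) (nat_lit 0) (nat_lit 37) [nat_lit 4, nat_lit 5, nat_lit 2, nat_lit 3, nat_lit 4, nat_lit 1, nat_lit 2, nat_lit 3, nat_lit 8, nat_lit 0, nat_lit 1, nat_lit 2, nat_lit 3, nat_lit 4, nat_lit 5, nat_lit 6, nat_lit 7, nat_lit 4, nat_lit 5, nat_lit 3, nat_lit 4, nat_lit 2, nat_lit 3, nat_lit 8, nat_lit 1, nat_lit 2, nat_lit 3, nat_lit 4, nat_lit 5, nat_lit 2, nat_lit 3, nat_lit 8, nat_lit 4, nat_lit 3, nat_lit 2, nat_lit 1, nat_lit 9, nat_lit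 4, nat_lit 3, nat_lit 2, nat_lit 8, nat_lit 3, nat_lit 8, nat_lit 10, nat_lit 9, nat_lit 2, nat_lit 12, nat_lit 15, nat_lit 13, nat_lit 12, nat_lit 18] (Rl.cmp (nat_lit 6110) (nat_lit 6266))))))) (FT.node (nat_lit 6271) (FT.node (nat_lit 6269) (FT.leaf (Fct.mk false (nat_lit 37) (nat_lit 0) (nat_lit 37) [nat_lit 3, nat_lit 8, nat_lit 6, nat_lit 4, nat_lit 5, nat_lit 3, nat_lit 4, nat_lit 1, nat_lit 2, nat_lit 3, nat_lit 8, nat_lit 0, nat_lit 1, nat_lit 2, nat_lit 3, nat_lit 4, nat_lit 5, nat_lit 6, nat_lit 7, nat_lit 8, nat_lit 1, nat_lit 2, nat_lit 3, nat_lit 4, nat_lit 5, nat_lit 9, nat_lit 4, nat_lit 11, nat_lit 2, nat_lit 8, nat_lit 12, nat_lit 15, nat_lit 14, nat_lit 13, nat_lit 12, nat_lit 18, nat_lit 16] (Rl.cmp (nat_lit 6110) (nat_lit 6267)))) (FT.node (nat_lit 6270) (FT.leaf (Fct.mk false (nat_lit 37) (nat_lit 0) (nat_lit 37) [nat_lit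 3, nat_lit 4, nat_lit 2, nat_lit 3, nat_lit 8, nat_lit 7, nat_lit 5, nat_lit 6, nat_lit 4, nat_lit 5, nat_lit 3, nat_lit 4, nat_lit 2, nat_lit 3, nat_lit 8, nat_lit 0, nat_lit 1, nat_lit 2, nat_lit 3, nat_lit 4, nat_lit 5, nat_lit 6, nat_lit 7, nat_lit 3, nat_lit 4, nat_lit 2, nat_lit 3, nat_lit 8, nat_lit 1, nat_lit 2, nat_lit 3, nat_lit 4, nat_lit 5, nat_lit 8, nat_lit 3, nat_lit 2, nat_lit 0, nat_lit 1, nat_lit 4, nat_lit 3, nat_lit 2, nat_lit 8, nat_lit 3, nat_lit 11, nat_lit 10, nat_lit 1, nat_lit 12, nat_lit 15, nat_lit 13, nat_lit 12, nat_lit 16] (Rl.cmp (nat_lit 6110) (nat_lit 6268)))) (FT.leaf (Fct.mk false (nat_lit 37) (nat_lit 0) (nat_lit 37) [nat_lit 6, nat_lit 4, nat_lit 5, nat_lit 3, nat_lit 4, nat_lit 1, nat_lit 2, nat_lit 3, nat_lit 8, nat_lit 0, nat_lit 1, nat_lit 2, nat_lit 3, nat_lit 4, nat_lit 5, nat_lit 6, nat_lit 7, nat_lit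 8, nat_lit 5, nat_lit 6, nat_lit 4, nat_lit 5, nat_lit 3, nat_lit 4, nat_lit 2, nat_lit 3, nat_lit 8, nat_lit 0, nat_lit 1, nat_lit 2, nat_lit 3, nat_lit 4, nat_lit 5, nat_lit 3, nat_lit 2, nat_lit 0, nat_lit 1, nat_lit 9, nat_lit 4, nat_lit 3, nat_lit 2, nat_lit 8, nat_lit 3, nat_lit 8, nat_lit 10, nat_lit 1, nat_lit 12, nat_lit 8, nat_lit 16, nat_lit 14, nat_lit 8, nat_lit 18, nat_lit 16] (Rl.cmp (nat_lit 6110) (nat_lit 6269)))))) (FT.node (nat_lit 6273) (FT.node (nat_lit 6272) (FT.leaf (Fct.mk false (nat_lit 37) (nat_lit 0) (nat_lit 37) [nat_lit 6, nat_lit 4, nat_lit 5, nat_lit 3, nat_lit 4, nat_lit 1, nat_lit 2, nat_lit 3, nat_lit 8, nat_lit 0, nat_lit 1, nat_lit 2, nat_lit 3, nat_lit 4, nat_lit 5, nat_lit 6, nat_lit 7, nat_lit 5, nat_lit 6, nat_lit 4, nat_lit 5, nat_lit 3, nat_lit 4, nat_lit 2, nat_lit 3, nat_lit 8, nat_lit 0, nat_lit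 1, nat_lit 2, nat_lit 3, nat_lit 4, nat_lit 5, nat_lit 8, nat_lit 3, nat_lit 2, nat_lit 0, nat_lit 1, nat_lit 9, nat_lit 4, nat_lit 3, nat_lit 2, nat_lit 8, nat_lit 3, nat_lit 8, nat_lit 10, nat_lit 1, nat_lit 12, nat_lit 8, nat_lit 16, nat_lit 14, nat_lit 8, nat_lit 18, nat_lit 16] (Rl.cmp (nat_lit 6107) (nat_lit 6270)))) (FT.leaf (Fct.mk true (nat_lit 33) (nat_lit 29749) (nat_lit 37) [nat_lit 4, nat_lit 3, nat_lit 8, nat_lit 7, nat_lit 5, nat_lit 6, nat_lit 4, nat_lit 5, nat_lit 3, nat_lit 4, nat_lit 2, nat_lit 3, nat_lit 8, nat_lit 1, nat_lit 2, nat_lit 3, nat_lit 4, nat_lit 5, nat_lit 6, nat_lit 7, nat_lit 2, nat_lit 3, nat_lit 8, nat_lit 6, nat_lit 4, nat_lit 5, nat_lit 3, nat_lit 4, nat_lit 2, nat_lit 3, nat_lit 8, nat_lit 1, nat_lit 2, nat_lit 3, nat_lit 4, nat_lit 5, nat_lit 2, nat_lit 1, nat_lit 4, nat_lit 3, nat_lit 2, nat_lit 0,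 nat_lit 1, nat_lit 9, nat_lit 4, nat_lit 3, nat_lit 2, nat_lit 8, nat_lit 3, nat_lit 2, nat_lit 8, nat_lit 10, nat_lit 1, nat_lit 12, nat_lit 8, nat_lit 16, nat_lit 14, nat_lit 17] (Rl.rel (nat_lit 0) [nat_lit 8, nat_lit 5, nat_lit 6, nat_lit 4, nat_lit 5, nat_lit 3, nat_lit 4, nat_lit 1, nat_lit 2, nat_lit 3, nat_lit 8, nat_lit 0, nat_lit 1, nat_lit 2, nat_lit 3, nat_lit 4, nat_lit 5, nat_lit 6, nat_lit 7, nat_lit 4, nat_lit 5, nat_lit 9, nat_lit 4, nat_lit 3, nat_lit 2, nat_lit 8, nat_lit 3, nat_lit 10, nat_lit 17] (nat_lit 37) (nat_lit 2) [nat_lit 6121, nat_lit 6122, nat_lit 3198, nat_lit 4522] [])))) (FT.node (nat_lit 6274) (FT.leaf (Fct.mk true (nat_lit 33) (nat_lit 221) (nat_lit 37) [nat_lit 3, nat_lit 8, nat_lit 7, nat_lit 5, nat_lit 6, nat_lit 4, nat_lit 5, nat_lit 3, nat_lit 4, nat_lit 2, nat_lit 3, nat_lit 8, nat_lit 1, nat_lit 2,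 nat_lit 3, nat_lit 4, nat_lit 5, nat_lit 6, nat_lit 7, nat_lit 2, nat_lit 3, nat_lit 8, nat_lit 6, nat_lit 4, nat_lit 5, nat_lit 3, nat_lit 4, nat_lit 2, nat_lit 3, nat_lit 8, nat_lit 1, nat_lit 2, nat_lit 3, nat_lit 4, nat_lit 5, nat_lit 4, nat_lit 3, nat_lit 2, nat_lit 1, nat_lit 8, nat_lit 3, nat_lit 2, nat_lit 0, nat_lit 1, nat_lit 4, nat_lit 3, nat_lit 2, nat_lit 8, nat_lit 3, nat_lit 8, nat_lit 10, nat_lit 8, nat_lit 16, nat_lit 14, nat_lit 8, nat_lit 19] (Rl.t1 (nat_lit 6272) (nat_lit 5620)))) (FT.leaf (Fct.mk true (nat_lit 37) (nat_lit 124105) (nat_lit 33) [nat_lit 8, nat_lit 5, nat_lit 3, nat_lit 4, nat_lit 2, nat_lit 3, nat_lit 8, nat_lit 6, nat_lit 7, nat_lit 5, nat_lit 6, nat_lit 4, nat_lit 5, nat_lit 3, nat_lit 4, nat_lit 2, nat_lit 3, nat_lit 8, nat_lit 0, nat_lit 1, nat_lit 2, nat_lit 3, nat_lit 4, nat_lit 5, nat_lit 6, nat_lit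 7, nat_lit 8, nat_lit 4, nat_lit 5, nat_lit 3, nat_lit 4, nat_lit 2, nat_lit 3, nat_lit 8, nat_lit 0, nat_lit 1, nat_lit 2, nat_lit 3, nat_lit 4, nat_lit 5, nat_lit 3, nat_lit 8, nat_lit 4, nat_lit 3, nat_lit 2, nat_lit 0, nat_lit 1, nat_lit 9, nat_lit 4, nat_lit 3, nat_lit 2, nat_lit 8, nat_lit 3, nat_lit 8, nat_lit 10, nat_lit 1, nat_lit 12, nat_lit 8, nat_lit 16, nat_lit 14, nat_lit 17, nat_lit 12, nat_lit 18, nat_lit 16] (Rl.inv (nat_lit 6273))))))))) (FT.node (nat_lit 6287) (FT.node (nat_lit 6281) (FT.node (nat_lit 6278) (FT.node (nat_lit 6276) (FT.leaf (Fct.mk true (nat_lit 37) (nat_lit 45) (nat_lit 33) [nat_lit 7, nat_lit 5, nat_lit 8, nat_lit 3, nat_lit 2, nat_lit 0, nat_lit 1, nat_lit 4, nat_lit 3, nat_lit 2, nat_lit 8, nat_lit 3, nat_lit 9, nat_lit 2, nat_lit 15, nat_lit 13, nat_lit 18] (Rl.t1 (nat_lit 6274) (nat_lit 6271)))) (FT.node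 (nat_lit 6277) (FT.leaf (Fct.mk false (nat_lit 37) (nat_lit 0) (nat_lit 37) [nat_lit 135] (Rl.cmp (nat_lit 6106) (nat_lit 6106)))) (FT.leaf (Fct.mk false (nat_lit 37) (nat_lit 0) (nat_lit 37) [nat_lit 8, nat_lit 7, nat_lit 6, nat_lit 5, nat_lit 3, nat_lit 4, nat_lit 2, nat_lit 3, nat_lit 8, nat_lit 1, nat_lit 2, nat_lit 3, nat_lit 4, nat_lit 5, nat_lit 6, nat_lit 7, nat_lit 6, nat_lit 3, nat_lit 8, nat_lit 4, nat_lit 3, nat_lit 2, nat_lit 1, nat_lit 9, nat_lit 4, nat_lit 3, nat_lit 2, nat_lit 8, nat_lit 3, nat_lit 2, nat_lit 16, nat_lit 8] (Rl.cmp (nat_lit 6110) (nat_lit 6276)))))) (FT.node (nat_lit 6279) (FT.leaf (Fct.mk false (nat_lit 37) (nat_lit 0) (nat_lit 37) [nat_lit 3, nat_lit 8, nat_lit 7, nat_lit 6, nat_lit 4, nat_lit 5, nat_lit 3, nat_lit 4, nat_lit 2, nat_lit 3, nat_lit 8, nat_lit 0, nat_lit 1, nat_lit 2, nat_lit 3, nat_lit 4, nat_lit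 5, nat_lit 6, nat_lit 7, nat_lit 8, nat_lit 3, nat_lit 4, nat_lit 2, nat_lit 3, nat_lit 8, nat_lit 1, nat_lit 2, nat_lit 3, nat_lit 4, nat_lit 5, nat_lit 4, nat_lit 3, nat_lit 2, nat_lit 0, nat_lit 1, nat_lit 9, nat_lit 4, nat_lit 3, nat_lit 2, nat_lit 8, nat_lit 3, nat_lit 8, nat_lit 10, nat_lit 19, nat_lit 16] (Rl.cmp (nat_lit 6110) (nat_lit 6277)))) (FT.node (nat_lit 6280) (FT.leaf (Fct.mk false (nat_lit 37) (nat_lit 0) (nat_lit 37) [nat_lit 3, nat_lit 4, nat_lit 2, nat_lit 3, nat_lit 8, nat_lit 6, nat_lit 7, nat_lit 5, nat_lit 6, nat_lit 4, nat_lit 5, nat_lit 3, nat_lit 4, nat_lit 2, nat_lit 3, nat_lit 8, nat_lit 1, nat_lit 2, nat_lit 3, nat_lit 4, nat_lit 5, nat_lit 6, nat_lit 7, nat_lit 8, nat_lit 5, nat_lit 3, nat_lit 4, nat_lit 2, nat_lit 3, nat_lit 8, nat_lit 1, nat_lit 2, nat_lit 3, nat_lit 4, nat_lit 5, nat_lit 4, nat_lit 3, nat_lit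 2, nat_lit 0, nat_lit 1, nat_lit 9, nat_lit 4, nat_lit 3, nat_lit 2, nat_lit 8, nat_lit 3, nat_lit 8, nat_lit 10, nat_lit 1, nat_lit 16, nat_lit 8, nat_lit 19, nat_lit 16] (Rl.cmp (nat_lit 6107) (nat_lit 6278)))) (FT.leaf (Fct.mk false (nat_lit 37) (nat_lit 0) (nat_lit 37) [nat_lit 7, nat_lit 6, nat_lit 5, nat_lit 3, nat_lit 4, nat_lit 1, nat_lit 2, nat_lit 3, nat_lit 8, nat_lit 0, nat_lit 1, nat_lit 2, nat_lit 3, nat_lit 4, nat_lit 5, nat_lit 6, nat_lit 7, nat_lit 5, nat_lit 3, nat_lit 4, nat_lit 1, nat_lit 2, nat_lit 3, nat_lit 8, nat_lit 0, nat_lit 1, nat_lit 2, nat_lit 3, nat_lit 4, nat_lit 5, nat_lit 1, nat_lit 8, nat_lit 3, nat_lit 2, nat_lit 0, nat_lit 1, nat_lit 9, nat_lit 4, nat_lit 3, nat_lit 2, nat_lit 8, nat_lit 3, nat_lit 2, nat_lit 10, nat_lit 1, nat_lit 8, nat_lit 16, nat_lit 14, nat_lit 18] (Rl.cmp (nat_lit 6110) (nat_lit 6279)))))))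 (FT.node (nat_lit 6284) (FT.node (nat_lit 6282) (FT.leaf (Fct.mk false (nat_lit 37) (nat_lit 0) (nat_lit 37) [nat_lit 1, nat_lit 2, nat_lit 3, nat_lit 8, nat_lit 4, nat_lit 5, nat_lit 3, nat_lit 4, nat_lit 2, nat_lit 3, nat_lit 8, nat_lit 1, nat_lit 2, nat_lit 3, nat_lit 4, nat_lit 5, nat_lit 6, nat_lit 7, nat_lit 4, nat_lit 5, nat_lit 3, nat_lit 4, nat_lit 1, nat_lit 2, nat_lit 3, nat_lit 8, nat_lit 0, nat_lit 1, nat_lit 2, nat_lit 3, nat_lit 4, nat_lit 5, nat_lit 9, nat_lit 4, nat_lit 3, nat_lit 2, nat_lit 8, nat_lit 3, nat_lit 0, nat_lit 2, nat_lit 8, nat_lit 16, nat_lit 15, nat_lit 14, nat_lit 17, nat_lit 12, nat_lit 19, nat_lit 16] (Rl.cmp (nat_lit 6110) (nat_lit 6280)))) (FT.node (nat_lit 6283) (FT.leaf (Fct.mk false (nat_lit 37) (nat_lit 0) (nat_lit 37) [nat_lit 5, nat_lit 3, nat_lit 4, nat_lit 2, nat_lit 3, nat_lit 8, nat_lit 6, nat_lit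 7, nat_lit 5, nat_lit 6, nat_lit 4, nat_lit 5, nat_lit 3, nat_lit 4, nat_lit 2, nat_lit 3, nat_lit 8, nat_lit 0, nat_lit 1, nat_lit 2, nat_lit 3, nat_lit 4, nat_lit 5, nat_lit 6, nat_lit 7, nat_lit 4, nat_lit 5, nat_lit 3, nat_lit 2, nat_lit 1, nat_lit 8, nat_lit 3, nat_lit 2, nat_lit 0, nat_lit 1, nat_lit 9, nat_lit 4, nat_lit 3, nat_lit 2, nat_lit 8, nat_lit 3, nat_lit 0, nat_lit 15, nat_lit 14, nat_lit 12, nat_lit 16] (Rl.cmp (nat_lit 6110) (nat_lit 6281)))) (FT.leaf (Fct.mk false (nat_lit 37) (nat_lit 0) (nat_lit 37) [nat_lit 3, nat_lit 8, nat_lit 6, nat_lit 7, nat_lit 5, nat_lit 6, nat_lit 4, nat_lit 5, nat_lit 3, nat_lit 4, nat_lit 2, nat_lit 3, nat_lit 8, nat_lit 0, nat_lit 1, nat_lit 2, nat_lit 3, nat_lit 4, nat_lit 5, nat_lit 6, nat_lit 7, nat_lit 6, nat_lit 3, nat_lit 8, nat_lit 4, nat_lit 3, nat_lit 2, nat_lit 0, nat_lit 1, nat_lit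 9, nat_lit 4, nat_lit 3, nat_lit 2, nat_lit 8, nat_lit 3, nat_lit 16, nat_lit 14, nat_lit 13, nat_lit 19, nat_lit 16] (Rl.cmp (nat_lit 6110) (nat_lit 6282)))))) (FT.node (nat_lit 6285) (FT.leaf (Fct.mk false (nat_lit 37) (nat_lit 0) (nat_lit 37) [nat_lit 3, nat_lit 8, nat_lit 6, nat_lit 7, nat_lit 5, nat_lit 6, nat_lit 4, nat_lit 5, nat_lit 3, nat_lit 4, nat_lit 2, nat_lit 3, nat_lit 8, nat_lit 1, nat_lit 2, nat_lit 3, nat_lit 4, nat_lit 5, nat_lit 6, nat_lit 7, nat_lit 6, nat_lit 3, nat_lit 8, nat_lit 4, nat_lit 3, nat_lit 2, nat_lit 0, nat_lit 1, nat_lit 9, nat_lit 4, nat_lit 3, nat_lit 2, nat_lit 8, nat_lit 3, nat_lit 10, nat_lit 16, nat_lit 14, nat_lit 13, nat_lit 19, nat_lit 16] (Rl.cmp (nat_lit 6107) (nat_lit 6283)))) (FT.node (nat_lit 6286) (FT.leaf (Fct.mk false (nat_lit 37) (nat_lit 0) (nat_lit 37) [nat_lit 8, nat_lit 7, nat_lit 6,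 nat_lit 5, nat_lit 3, nat_lit 4, nat_lit 2, nat_lit 3, nat_lit 8, nat_lit 0, nat_lit 1, nat_lit 2, nat_lit 3, nat_lit 4, nat_lit 5, nat_lit 6, nat_lit 7, nat_lit 4, nat_lit 3, nat_lit 2, nat_lit 0, nat_lit 1, nat_lit 9, nat_lit 4, nat_lit 3, nat_lit 2, nat_lit 8, nat_lit 3, nat_lit 1, nat_lit 9, nat_lit 14, nat_lit 13, nat_lit 19, nat_lit 16] (Rl.cmp (nat_lit 6106) (nat_lit 6284)))) (FT.leaf (Fct.mk true (nat_lit 5) (nat_lit 60697) (nat_lit 37) [nat_lit 3, nat_lit 4, nat_lit 2, nat_lit 3, nat_lit 8, nat_lit 1, nat_lit 2, nat_lit 3, nat_lit 4, nat_lit 5, nat_lit 6, nat_lit 7, nat_lit 8, nat_lit 4, nat_lit 5, nat_lit 3, nat_lit 4, nat_lit 2, nat_lit 3, nat_lit 8, nat_lit 0, nat_lit 1, nat_lit 2, nat_lit 3, nat_lit 4, nat_lit 5, nat_lit 3, nat_lit 2, nat_lit 10, nat_lit 1, nat_lit 8, nat_lit 12, nat_lit 15, nat_lit 14, nat_lit 13, nat_lit 19,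 nat_lit 16] (Rl.rel (nat_lit 0) [nat_lit 8, nat_lit 5, nat_lit 6, nat_lit 4, nat_lit 5, nat_lit 3, nat_lit 4, nat_lit 1, nat_lit 2, nat_lit 3, nat_lit 8, nat_lit 0, nat_lit 1, nat_lit 2, nat_lit 3, nat_lit 4, nat_lit 5, nat_lit 6, nat_lit 7, nat_lit 4, nat_lit 5, nat_lit 9, nat_lit 4, nat_lit 3, nat_lit 2, nat_lit 8, nat_lit 3, nat_lit 0, nat_lit 17] (nat_lit 37) (nat_lit 2) [nat_lit 6121, nat_lit 6122, nat_lit 3208, nat_lit 2432] []))))))) (FT.node (nat_lit 6293) (FT.node (nat_lit 6290) (FT.node (nat_lit 6288) (FT.leaf (Fct.mk true (nat_lit 5) (nat_lit 547) (nat_lit 37) [nat_lit 3, nat_lit 4, nat_lit 2, nat_lit 3, nat_lit 8, nat_lit 1, nat_lit 2, nat_lit 3, nat_lit 4, nat_lit 5, nat_lit 6, nat_lit 7, nat_lit 8, nat_lit 6, nat_lit 4, nat_lit 5, nat_lit 3, nat_lit 4, nat_lit 2, nat_lit 3, nat_lit 8, nat_lit 0, nat_lit 1, nat_lit 2, nat_lit 3,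 nat_lit 4, nat_lit 5, nat_lit 3, nat_lit 8, nat_lit 10, nat_lit 9, nat_lit 2, nat_lit 8, nat_lit 16, nat_lit 15, nat_lit 14, nat_lit 13, nat_lit 12, nat_lit 19] (Rl.t1 (nat_lit 6286) (nat_lit 4370)))) (FT.node (nat_lit 6289) (FT.leaf (Fct.mk true (nat_lit 37) (nat_lit 112198) (nat_lit 5) [nat_lit 8, nat_lit 5, nat_lit 6, nat_lit 4, nat_lit 5, nat_lit 3, nat_lit 4, nat_lit 1, nat_lit 2, nat_lit 3, nat_lit 8, nat_lit 0, nat_lit 1, nat_lit 2, nat_lit 3, nat_lit 4, nat_lit 5, nat_lit 6, nat_lit 7, nat_lit 3, nat_lit 8, nat_lit 2, nat_lit 3, nat_lit 4, nat_lit 5, nat_lit 2, nat_lit 1, nat_lit 3, nat_lit 2, nat_lit 0, nat_lit 1, nat_lit 9, nat_lit 4, nat_lit 3, nat_lit 2, nat_lit 8, nat_lit 3, nat_lit 2, nat_lit 10, nat_lit 1, nat_lit 14, nat_lit 12, nat_lit 16] (Rl.inv (nat_lit 6287)))) (FT.leaf (Fct.mk true (nat_lit 37) (nat_lit 62) (nat_lit 5)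 [nat_lit 8, nat_lit 5, nat_lit 3, nat_lit 4, nat_lit 2, nat_lit 3, nat_lit 8, nat_lit 0, nat_lit 1, nat_lit 2, nat_lit 3, nat_lit 4, nat_lit 5, nat_lit 6, nat_lit 7, nat_lit 4, nat_lit 2, nat_lit 3, nat_lit 8, nat_lit 0, nat_lit 1, nat_lit 2, nat_lit 3, nat_lit 4, nat_lit 5, nat_lit 9, nat_lit 4, nat_lit 8, nat_lit 10, nat_lit 0, nat_lit 14, nat_lit 17, nat_lit 12, nat_lit 18, nat_lit 16] (Rl.t1 (nat_lit 6288) (nat_lit 6285)))))) (FT.node (nat_lit 6291) (FT.leaf (Fct.mk false (nat_lit 37) (nat_lit 0) (nat_lit 37) [nat_lit 8, nat_lit 7, nat_lit 6, nat_lit 5, nat_lit 3, nat_lit 4, nat_lit 2, nat_lit 3, nat_lit 8, nat_lit 1, nat_lit 2, nat_lit 3, nat_lit 4, nat_lit 5, nat_lit 6, nat_lit 7, nat_lit 6, nat_lit 8, nat_lit 4, nat_lit 3, nat_lit 2, nat_lit 1, nat_lit 9, nat_lit 4, nat_lit 3, nat_lit 2, nat_lit 8, nat_lit 3, nat_lit 11, nat_lit 8, nat_lit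 10, nat_lit 17, nat_lit 12, nat_lit 18, nat_lit 16] (Rl.cmp (nat_lit 6110) (nat_lit 6106)))) (FT.node (nat_lit 6292) (FT.leaf (Fct.mk false (nat_lit 37) (nat_lit 0) (nat_lit 37) [nat_lit 3, nat_lit 8, nat_lit 7, nat_lit 6, nat_lit 4, nat_lit 5, nat_lit 3, nat_lit 4, nat_lit 2, nat_lit 3, nat_lit 8, nat_lit 0, nat_lit 1, nat_lit 2, nat_lit 3, nat_lit 4, nat_lit 5, nat_lit 6, nat_lit 7, nat_lit 8, nat_lit 3, nat_lit 4, nat_lit 2, nat_lit 3, nat_lit 8, nat_lit 1, nat_lit 2, nat_lit 3, nat_lit 4, nat_lit 5, nat_lit 3, nat_lit 8, nat_lit 4, nat_lit 3, nat_lit 2, nat_lit 0, nat_lit 1, nat_lit 9, nat_lit 4, nat_lit 3, nat_lit 2, nat_lit 8, nat_lit 3, nat_lit 11, nat_lit 13, nat_lit 12, nat_lit 19, nat_lit 16] (Rl.cmp (nat_lit 6110) (nat_lit 6290)))) (FT.leaf (Fct.mk false (nat_lit 37) (nat_lit 0) (nat_lit 37) [nat_lit 8, nat_lit 7, nat_lit 6, nat_lit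 4, nat_lit 5, nat_lit 3, nat_lit 4, nat_lit 1, nat_lit 2, nat_lit 3, nat_lit 8, nat_lit 0, nat_lit 1, nat_lit 2, nat_lit 3, nat_lit 4, nat_lit 5, nat_lit 6, nat_lit 7, nat_lit 6, nat_lit 5, nat_lit 3, nat_lit 4, nat_lit 2, nat_lit 3, nat_lit 8, nat_lit 1, nat_lit 2, nat_lit 3, nat_lit 4, nat_lit 5, nat_lit 1, nat_lit 9, nat_lit 4, nat_lit 3, nat_lit 2, nat_lit 8, nat_lit 3, nat_lit 2, nat_lit 8, nat_lit 10, nat_lit 1, nat_lit 15, nat_lit 14, nat_lit 13, nat_lit 19] (Rl.cmp (nat_lit 6106) (nat_lit 6291))))))) (FT.node (nat_lit 6296) (FT.node (nat_lit 6294) (FT.leaf (Fct.mk false (nat_lit 37) (nat_lit 0) (nat_lit 37) [nat_lit 7, nat_lit 6, nat_lit 4, nat_lit 5, nat_lit 3, nat_lit 4, nat_lit 2, nat_lit 3, nat_lit 8, nat_lit 1, nat_lit 2, nat_lit 3, nat_lit 4, nat_lit 5, nat_lit 6, nat_lit 7, nat_lit 5, nat_lit 3, nat_lit 4, nat_lit 2, nat_lit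 3, nat_lit 8, nat_lit 1, nat_lit 2, nat_lit 3, nat_lit 4, nat_lit 5, nat_lit 0, nat_lit 1, nat_lit 9, nat_lit 4, nat_lit 3, nat_lit 2, nat_lit 8, nat_lit 3, nat_lit 1, nat_lit 9, nat_lit 16, nat_lit 14, nat_lit 13, nat_lit 19, nat_lit 16] (Rl.cmp (nat_lit 6110) (nat_lit 6292)))) (FT.node (nat_lit 6295) (FT.leaf (Fct.mk false (nat_lit 37) (nat_lit 0) (nat_lit 37) [nat_lit 4, nat_lit 5, nat_lit 2, nat_lit 3, nat_lit 4, nat_lit 1, nat_lit 2, nat_lit 3, nat_lit 8, nat_lit 0, nat_lit 1, nat_lit 2, nat_lit 3, nat_lit 4, nat_lit 5, nat_lit 6, nat_lit 7, nat_lit 8, nat_lit 4, nat_lit 5, nat_lit 3, nat_lit 4, nat_lit 2, nat_lit 3, nat_lit 8, nat_lit 0, nat_lit 1, nat_lit 2, nat_lit 3, nat_lit 4, nat_lit 5, nat_lit 2, nat_lit 0, nat_lit 1, nat_lit 9, nat_lit 4, nat_lit 3, nat_lit 2, nat_lit 8, nat_lit 3, nat_lit 2, nat_lit 10, nat_lit 1, nat_lit 16,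 nat_lit 8, nat_lit 12, nat_lit 15, nat_lit 17, nat_lit 12, nat_lit 18, nat_lit 16] (Rl.cmp (nat_lit 6110) (nat_lit 6293)))) (FT.leaf (Fct.mk false (nat_lit 37) (nat_lit 0) (nat_lit 37) [nat_lit 3, nat_lit 8, nat_lit 6, nat_lit 4, nat_lit 5, nat_lit 3, nat_lit 4, nat_lit 1, nat_lit 2, nat_lit 3, nat_lit 8, nat_lit 0, nat_lit 1, nat_lit 2, nat_lit 3, nat_lit 4, nat_lit 5, nat_lit 6, nat_lit 7, nat_lit 3, nat_lit 4, nat_lit 2, nat_lit 3, nat_lit 8, nat_lit 1, nat_lit 2, nat_lit 3, nat_lit 4, nat_lit 5, nat_lit 3, nat_lit 2, nat_lit 1, nat_lit 4, nat_lit 3, nat_lit 2, nat_lit 0, nat_lit 1, nat_lit 9, nat_lit 4, nat_lit 3, nat_lit 2, nat_lit 8, nat_lit 3, nat_lit 2, nat_lit 10, nat_lit 1, nat_lit 15, nat_lit 13, nat_lit 12, nat_lit 16] (Rl.cmp (nat_lit 6110) (nat_lit 6294)))))) (FT.node (nat_lit 6298) (FT.node (nat_lit 6297) (FT.leaf (Fct.mk false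 (nat_lit 37) (nat_lit 0) (nat_lit 37) [nat_lit 3, nat_lit 4, nat_lit 2, nat_lit 3, nat_lit 8, nat_lit 7, nat_lit 5, nat_lit 6, nat_lit 4, nat_lit 5, nat_lit 3, nat_lit 4, nat_lit 2, nat_lit 3, nat_lit 8, nat_lit 0, nat_lit 1, nat_lit 2, nat_lit 3, nat_lit 4, nat_lit 5, nat_lit 6, nat_lit 7, nat_lit 5, nat_lit 2, nat_lit 3, nat_lit 4, nat_lit 1, nat_lit 2, nat_lit 3, nat_lit 8, nat_lit 0, nat_lit 1, nat_lit 2, nat_lit 3, nat_lit 4, nat_lit 5, nat_lit 2, nat_lit 1, nat_lit 4, nat_lit 3, nat_lit 2, nat_lit 0, nat_lit 1, nat_lit 9, nat_lit 4, nat_lit 3, nat_lit 2, nat_lit 8, nat_lit 3, nat_lit 1, nat_lit 0, nat_lit 2, nat_lit 16, nat_lit 12, nat_lit 15, nat_lit 14, nat_lit 17, nat_lit 12] (Rl.cmp (nat_lit 6110) (nat_lit 6295)))) (FT.leaf (Fct.mk false (nat_lit 37) (nat_lit 0) (nat_lit 37) [nat_lit 6, nat_lit 4, nat_lit 5, nat_lit 3, nat_lit 4,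 nat_lit 1, nat_lit 2, nat_lit 3, nat_lit 8, nat_lit 0, nat_lit 1, nat_lit 2, nat_lit 3, nat_lit 4, nat_lit 5, nat_lit 6, nat_lit 7, nat_lit 1, nat_lit 2, nat_lit 3, nat_lit 8, nat_lit 4, nat_lit 5, nat_lit 3, nat_lit 4, nat_lit 2, nat_lit 3, nat_lit 8, nat_lit 1, nat_lit 2, nat_lit 3, nat_lit 4, nat_lit 5, nat_lit 9, nat_lit 4, nat_lit 8, nat_lit 10, nat_lit 1, nat_lit 15, nat_lit 14, nat_lit 8, nat_lit 16] (Rl.cmp (nat_lit 6110) (nat_lit 6296))))) (FT.node (nat_lit 6299) (FT.leaf (Fct.mk true (nat_lit 32) (nat_lit 277) (nat_lit 37) [nat_lit 6, nat_lit 7, nat_lit 4, nat_lit 5, nat_lit 3, nat_lit 4, nat_lit 2, nat_lit 3, nat_lit 8, nat_lit 1, nat_lit 2, nat_lit 3, nat_lit 4, nat_lit 5, nat_lit 3, nat_lit 2, nat_lit 1, nat_lit 4, nat_lit 3, nat_lit 2, nat_lit 8, nat_lit 3, nat_lit 11, nat_lit 10, nat_lit 15, nat_lit 16, nat_lit 8, nat_lit 18,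 nat_lit 16] (Rl.rel (nat_lit 0) [nat_lit 0, nat_lit 1, nat_lit 2, nat_lit 3, nat_lit 4, nat_lit 5, nat_lit 6, nat_lit 7, nat_lit 6, nat_lit 9, nat_lit 4, nat_lit 3, nat_lit 2, nat_lit 8, nat_lit 3, nat_lit 17] (nat_lit 37) (nat_lit 2) [nat_lit 6121, nat_lit 6122, nat_lit 6089, nat_lit 3990] []))) (FT.leaf (Fct.mk true (nat_lit 37) (nat_lit 1372) (nat_lit 32) [nat_lit 6, nat_lit 4, nat_lit 5, nat_lit 2, nat_lit 3, nat_lit 4, nat_lit 1, nat_lit 2, nat_lit 3, nat_lit 8, nat_lit 0, nat_lit 1, nat_lit 2, nat_lit 3, nat_lit 4, nat_lit 5, nat_lit 6, nat_lit 7, nat_lit 6, nat_lit 3, nat_lit 2, nat_lit 1, nat_lit 4, nat_lit 3, nat_lit 2, nat_lit 8, nat_lit 3, nat_lit 8, nat_lit 10, nat_lit 12, nat_lit 8, nat_lit 16, nat_lit 14, nat_lit 19] (Rl.inv (nat_lit 6298)))))))))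

/-- some facts -/
noncomputable def ftc126 : FT := FT.node (nat_lit 6325) (FT.node (nat_lit 6312) (FT.node (nat_lit 6306) (FT.node (nat_lit 6303) (FT.node (nat_lit 6301) (FT.leaf (Fct.mk true (nat_lit 37) (nat_lit 16) (nat_lit 32) [nat_lit 8, nat_lit 6, nat_lit 4, nat_lit 5, nat_lit 3, nat_lit 4, nat_lit 2, nat_lit 3, nat_lit 8, nat_lit 0, nat_lit 1, nat_lit 2, nat_lit 3, nat_lit 4, nat_lit 5, nat_lit 6, nat_lit 7, nat_lit 5, nat_lit 9, nat_lit 4, nat_lit 3, nat_lit 2, nat_lit 8, nat_lit 3, nat_lit 11, nat_lit 12, nat_lit 15, nat_lit 14, nat_lit 13] (Rl.t1 (nat_lit 6299) (nat_lit 6297)))) (FT.node (nat_lit 6302) (FT.leaf (Fct.mk false (nat_lit 37) (nat_lit 0) (nat_lit 37) [nat_lit 8, nat_lit 7, nat_lit 6, nat_lit 5, nat_lit 3, nat_lit 4, nat_lit 2, nat_lit 3, nat_lit 8, nat_lit 1, nat_lit 2, nat_lit 3, nat_lit 4, nat_lit 5, nat_lit 6, nat_lit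 7, nat_lit 6, nat_lit 8, nat_lit 4, nat_lit 3, nat_lit 2, nat_lit 1, nat_lit 9, nat_lit 4, nat_lit 3, nat_lit 2, nat_lit 8, nat_lit 3, nat_lit 11, nat_lit 8, nat_lit 10, nat_lit 17, nat_lit 12, nat_lit 18, nat_lit 16] (Rl.cmp (nat_lit 6110) (nat_lit 6106)))) (FT.leaf (Fct.mk false (nat_lit 37) (nat_lit 0) (nat_lit 37) [nat_lit 3, nat_lit 8, nat_lit 7, nat_lit 6, nat_lit 4, nat_lit 5, nat_lit 3, nat_lit 4, nat_lit 2, nat_lit 3, nat_lit 8, nat_lit 0, nat_lit 1, nat_lit 2, nat_lit 3, nat_lit 4, nat_lit 5, nat_lit 6, nat_lit 7, nat_lit 8, nat_lit 3, nat_lit 4, nat_lit 2, nat_lit 3, nat_lit 8, nat_lit 1, nat_lit 2, nat_lit 3, nat_lit 4, nat_lit 5, nat_lit 3, nat_lit 8, nat_lit 4, nat_lit 3, nat_lit 2, nat_lit 0, nat_lit 1, nat_lit 9, nat_lit 4, nat_lit 3, nat_lit 2, nat_lit 8, nat_lit 3, nat_lit 11, nat_lit 13, nat_lit 12, nat_lit 19, nat_lit 16]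 (Rl.cmp (nat_lit 6110) (nat_lit 6301)))))) (FT.node (nat_lit 6304) (FT.leaf (Fct.mk false (nat_lit 37) (nat_lit 0) (nat_lit 37) [nat_lit 7, nat_lit 6, nat_lit 5, nat_lit 4, nat_lit 2, nat_lit 3, nat_lit 8, nat_lit 0, nat_lit 1, nat_lit 2, nat_lit 3, nat_lit 4, nat_lit 5, nat_lit 6, nat_lit 7, nat_lit 5, nat_lit 4, nat_lit 1, nat_lit 2, nat_lit 3, nat_lit 8, nat_lit 0, nat_lit 1, nat_lit 2, nat_lit 3, nat_lit 4, nat_lit 5, nat_lit 0, nat_lit 1, nat_lit 9, nat_lit 4, nat_lit 3, nat_lit 2, nat_lit 8, nat_lit 3, nat_lit 11, nat_lit 2, nat_lit 8, nat_lit 10, nat_lit 1, nat_lit 8, nat_lit 16, nat_lit 15, nat_lit 14, nat_lit 13, nat_lit 19] (Rl.cmp (nat_lit 6110) (nat_lit 6302)))) (FT.node (nat_lit 6305) (FT.leaf (Fct.mk false (nat_lit 37) (nat_lit 0) (nat_lit 37) [nat_lit 7, nat_lit 6, nat_lit 5, nat_lit 4, nat_lit 2, nat_lit 3, nat_lit 8, nat_lit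 1, nat_lit 2, nat_lit 3, nat_lit 4, nat_lit 5, nat_lit 6, nat_lit 7, nat_lit 5, nat_lit 6, nat_lit 4, nat_lit 5, nat_lit 3, nat_lit 4, nat_lit 1, nat_lit 2, nat_lit 3, nat_lit 8, nat_lit 0, nat_lit 1, nat_lit 2, nat_lit 3, nat_lit 4, nat_lit 5, nat_lit 0, nat_lit 1, nat_lit 3, nat_lit 2, nat_lit 8, nat_lit 3, nat_lit 11, nat_lit 2, nat_lit 8, nat_lit 10, nat_lit 1, nat_lit 8, nat_lit 16, nat_lit 14, nat_lit 13, nat_lit 19] (Rl.cmp (nat_lit 6107) (nat_lit 6303)))) (FT.leaf (Fct.mk false (nat_lit 37) (nat_lit 0) (nat_lit 37) [nat_lit 8, nat_lit 5, nat_lit 3, nat_lit 4, nat_lit 1, nat_lit 2, nat_lit 3, nat_lit 8, nat_lit 0, nat_lit 1, nat_lit 2, nat_lit 3, nat_lit 4, nat_lit 5, nat_lit 6, nat_lit 7, nat_lit 8, nat_lit 5, nat_lit 6, nat_lit 4, nat_lit 5, nat_lit 2, nat_lit 3, nat_lit 4, nat_lit 1, nat_lit 2, nat_lit 3, nat_lit 8, nat_lit 0, nat_lit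 1, nat_lit 2, nat_lit 3, nat_lit 4, nat_lit 5, nat_lit 1, nat_lit 2, nat_lit 0, nat_lit 1, nat_lit 4, nat_lit 3, nat_lit 2, nat_lit 8, nat_lit 3, nat_lit 10, nat_lit 9, nat_lit 2, nat_lit 16, nat_lit 14, nat_lit 13, nat_lit 12, nat_lit 18] (Rl.cmp (nat_lit 6110) (nat_lit 6304))))))) (FT.node (nat_lit 6309) (FT.node (nat_lit 6307) (FT.leaf (Fct.mk false (nat_lit 37) (nat_lit 0) (nat_lit 37) [nat_lit 8, nat_lit 3, nat_lit 4, nat_lit 2, nat_lit 3, nat_lit 8, nat_lit 5, nat_lit 6, nat_lit 4, nat_lit 5, nat_lit 3, nat_lit 4, nat_lit 2, nat_lit 3, nat_lit 8, nat_lit 0, nat_lit 1, nat_lit 2, nat_lit 3, nat_lit 4, nat_lit 5, nat_lit 6, nat_lit 7, nat_lit 8, nat_lit 3, nat_lit 4, nat_lit 1, nat_lit 2, nat_lit 3, nat_lit 8, nat_lit 0, nat_lit 1, nat_lit 2, nat_lit 3, nat_lit 4, nat_lit 5, nat_lit 4, nat_lit 9, nat_lit 2, nat_lit 16, nat_lit 15, nat_lit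 14, nat_lit 17, nat_lit 12, nat_lit 18] (Rl.cmp (nat_lit 6110) (nat_lit 6305)))) (FT.node (nat_lit 6308) (FT.leaf (Fct.mk false (nat_lit 37) (nat_lit 0) (nat_lit 37) [nat_lit 2, nat_lit 3, nat_lit 8, nat_lit 6, nat_lit 7, nat_lit 5, nat_lit 6, nat_lit 4, nat_lit 5, nat_lit 3, nat_lit 4, nat_lit 2, nat_lit 3, nat_lit 8, nat_lit 1, nat_lit 2, nat_lit 3, nat_lit 4, nat_lit 5, nat_lit 6, nat_lit 7, nat_lit 3, nat_lit 8, nat_lit 6, nat_lit 4, nat_lit 5, nat_lit 3, nat_lit 4, nat_lit 1, nat_lit 2, nat_lit 3, nat_lit 8, nat_lit 0, nat_lit 1, nat_lit 2, nat_lit 3, nat_lit 4, nat_lit 5, nat_lit 2, nat_lit 1, nat_lit 4, nat_lit 3, nat_lit 2, nat_lit 0, nat_lit 1, nat_lit 9, nat_lit 4, nat_lit 3, nat_lit 2, nat_lit 8, nat_lit 3, nat_lit 11, nat_lit 10, nat_lit 1, nat_lit 8, nat_lit 19] (Rl.cmp (nat_lit 6110) (nat_lit 6306)))) (FT.leaf (Fct.mk false (nat_lit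 37) (nat_lit 0) (nat_lit 37) [nat_lit 8, nat_lit 7, nat_lit 6, nat_lit 5, nat_lit 3, nat_lit 4, nat_lit 2, nat_lit 3, nat_lit 8, nat_lit 0, nat_lit 1, nat_lit 2, nat_lit 3, nat_lit 4, nat_lit 5, nat_lit 6, nat_lit 7, nat_lit 8, nat_lit 5, nat_lit 6, nat_lit 4, nat_lit 5, nat_lit 3, nat_lit 4, nat_lit 1, nat_lit 2, nat_lit 3, nat_lit 8, nat_lit 0, nat_lit 1, nat_lit 2, nat_lit 3, nat_lit 4, nat_lit 5, nat_lit 2, nat_lit 1, nat_lit 4, nat_lit 3, nat_lit 2, nat_lit 0, nat_lit 1, nat_lit 9, nat_lit 4, nat_lit 3, nat_lit 2, nat_lit 8, nat_lit 3, nat_lit 10, nat_lit 2, nat_lit 8, nat_lit 10, nat_lit 1, nat_lit 8, nat_lit 16, nat_lit 15, nat_lit 14, nat_lit 8, nat_lit 18, nat_lit 16] (Rl.cmp (nat_lit 6107) (nat_lit 6307)))))) (FT.node (nat_lit 6310) (FT.leaf (Fct.mk false (nat_lit 37) (nat_lit 0) (nat_lit 37) [nat_lit 8, nat_lit 6, nat_lit 7, nat_lit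 5, nat_lit 6, nat_lit 4, nat_lit 5, nat_lit 3, nat_lit 4, nat_lit 1, nat_lit 2, nat_lit 3, nat_lit 8, nat_lit 0, nat_lit 1, nat_lit 2, nat_lit 3, nat_lit 4, nat_lit 5, nat_lit 6, nat_lit 7, nat_lit 6, nat_lit 4, nat_lit 5, nat_lit 2, nat_lit 3, nat_lit 4, nat_lit 1, nat_lit 2, nat_lit 3, nat_lit 8, nat_lit 0, nat_lit 1, nat_lit 2, nat_lit 3, nat_lit 4, nat_lit 5, nat_lit 2, nat_lit 1, nat_lit 4, nat_lit 3, nat_lit 2, nat_lit 0, nat_lit 1, nat_lit 9, nat_lit 4, nat_lit 3, nat_lit 2, nat_lit 8, nat_lit 3, nat_lit 11, nat_lit 10, nat_lit 1, nat_lit 8, nat_lit 16, nat_lit 14, nat_lit 18, nat_lit 16] (Rl.cmp (nat_lit 6106) (nat_lit 6308)))) (FT.node (nat_lit 6311) (FT.leaf (Fct.mk false (nat_lit 37) (nat_lit 0) (nat_lit 37) [nat_lit 4, nat_lit 5, nat_lit 6, nat_lit 7, nat_lit 8, nat_lit 5, nat_lit 2, nat_lit 3, nat_lit 4, nat_lit 1, nat_lit 2, nat_lit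 3, nat_lit 8, nat_lit 0, nat_lit 1, nat_lit 2, nat_lit 3, nat_lit 4, nat_lit 5, nat_lit 1, nat_lit 2, nat_lit 0, nat_lit 1, nat_lit 4, nat_lit 3, nat_lit 2, nat_lit 8, nat_lit 3, nat_lit 11, nat_lit 8, nat_lit 10, nat_lit 16, nat_lit 8, nat_lit 19] (Rl.cmp (nat_lit 6110) (nat_lit 6309)))) (FT.leaf (Fct.mk true (nat_lit 33) (nat_lit 96913) (nat_lit 37) [nat_lit 4, nat_lit 2, nat_lit 3, nat_lit 8, nat_lit 7, nat_lit 5, nat_lit 6, nat_lit 4, nat_lit 5, nat_lit 3, nat_lit 4, nat_lit 2, nat_lit 3, nat_lit 8, nat_lit 0, nat_lit 1, nat_lit 2, nat_lit 3, nat_lit 4, nat_lit 5, nat_lit 6, nat_lit 7, nat_lit 3, nat_lit 8, nat_lit 6, nat_lit 4, nat_lit 5, nat_lit 3, nat_lit 4, nat_lit 2, nat_lit 3, nat_lit 8, nat_lit 1, nat_lit 2, nat_lit 3, nat_lit 4, nat_lit 5, nat_lit 2, nat_lit 3, nat_lit 9, nat_lit 8, nat_lit 12, nat_lit 15, nat_lit 14, nat_lit 13,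 nat_lit 18] (Rl.rel (nat_lit 0) [nat_lit 6, nat_lit 5, nat_lit 4, nat_lit 3, nat_lit 8, nat_lit 0, nat_lit 1, nat_lit 2, nat_lit 3, nat_lit 4, nat_lit 5, nat_lit 6, nat_lit 7, nat_lit 6, nat_lit 8, nat_lit 3, nat_lit 2, nat_lit 17] (nat_lit 37) (nat_lit 2) [nat_lit 6121, nat_lit 6122, nat_lit 4366, nat_lit 5288] []))))))) (FT.node (nat_lit 6318) (FT.node (nat_lit 6315) (FT.node (nat_lit 6313) (FT.leaf (Fct.mk true (nat_lit 33) (nat_lit 7) (nat_lit 37) [nat_lit 5, nat_lit 4, nat_lit 2, nat_lit 3, nat_lit 8, nat_lit 1, nat_lit 2, nat_lit 3, nat_lit 4, nat_lit 5, nat_lit 6, nat_lit 7, nat_lit 2, nat_lit 3, nat_lit 4, nat_lit 5, nat_lit 4, nat_lit 11, nat_lit 8, nat_lit 10, nat_lit 16, nat_lit 8, nat_lit 18] (Rl.t1 (nat_lit 6311) (nat_lit 5664)))) (FT.node (nat_lit 6314) (FT.leaf (Fct.mk true (nat_lit 37) (nat_lit 7824) (nat_lit 33) [nat_lit 6,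 nat_lit 4, nat_lit 5, nat_lit 2, nat_lit 3, nat_lit 4, nat_lit 1, nat_lit 2, nat_lit 3, nat_lit 8, nat_lit 0, nat_lit 1, nat_lit 2, nat_lit 3, nat_lit 4, nat_lit 5, nat_lit 6, nat_lit 7, nat_lit 3, nat_lit 8, nat_lit 6, nat_lit 5, nat_lit 2, nat_lit 3, nat_lit 4, nat_lit 1, nat_lit 2, nat_lit 3, nat_lit 8, nat_lit 0, nat_lit 1, nat_lit 2, nat_lit 3, nat_lit 4, nat_lit 5, nat_lit 3, nat_lit 11, nat_lit 2, nat_lit 15, nat_lit 13, nat_lit 18] (Rl.inv (nat_lit 6312)))) (FT.leaf (Fct.mk true (nat_lit 37) (nat_lit 2) (nat_lit 33) [nat_lit 3, nat_lit 8, nat_lit 0, nat_lit 1, nat_lit 2, nat_lit 3, nat_lit 4, nat_lit 5, nat_lit 6, nat_lit 7, nat_lit 4, nat_lit 5, nat_lit 0, nat_lit 1, nat_lit 2, nat_lit 3, nat_lit 10, nat_lit 15, nat_lit 12, nat_lit 18] (Rl.t1 (nat_lit 6313) (nat_lit 6310)))))) (FT.node (nat_lit 6316) (FT.leaf (Fct.mk false (nat_lit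 37) (nat_lit 0) (nat_lit 37) [nat_lit 8, nat_lit 7, nat_lit 6, nat_lit 5, nat_lit 3, nat_lit 4, nat_lit 2, nat_lit 3, nat_lit 8, nat_lit 1, nat_lit 2, nat_lit 3, nat_lit 4, nat_lit 5, nat_lit 6, nat_lit 7, nat_lit 6, nat_lit 8, nat_lit 4, nat_lit 3, nat_lit 2, nat_lit 1, nat_lit 9, nat_lit 4, nat_lit 3, nat_lit 2, nat_lit 8, nat_lit 3, nat_lit 11, nat_lit 8, nat_lit 10, nat_lit 17, nat_lit 12, nat_lit 18, nat_lit 16] (Rl.cmp (nat_lit 6110) (nat_lit 6106)))) (FT.node (nat_lit 6317) (FT.leaf (Fct.mk false (nat_lit 37) (nat_lit 0) (nat_lit 37) [nat_lit 3, nat_lit 8, nat_lit 7, nat_lit 6, nat_lit 4, nat_lit 5, nat_lit 3, nat_lit 4, nat_lit 2, nat_lit 3, nat_lit 8, nat_lit 0, nat_lit 1, nat_lit 2, nat_lit 3, nat_lit 4, nat_lit 5, nat_lit 6, nat_lit 7, nat_lit 8, nat_lit 3, nat_lit 4, nat_lit 2, nat_lit 3, nat_lit 8, nat_lit 1, nat_lit 2, nat_lit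 3, nat_lit 4, nat_lit 5, nat_lit 3, nat_lit 8, nat_lit 4, nat_lit 3, nat_lit 2, nat_lit 0, nat_lit 1, nat_lit 9, nat_lit 4, nat_lit 3, nat_lit 2, nat_lit 8, nat_lit 3, nat_lit 11, nat_lit 13, nat_lit 12, nat_lit 19, nat_lit 16] (Rl.cmp (nat_lit 6110) (nat_lit 6315)))) (FT.leaf (Fct.mk false (nat_lit 37) (nat_lit 0) (nat_lit 37) [nat_lit 7, nat_lit 6, nat_lit 5, nat_lit 4, nat_lit 2, nat_lit 3, nat_lit 8, nat_lit 0, nat_lit 1, nat_lit 2, nat_lit 3, nat_lit 4, nat_lit 5, nat_lit 6, nat_lit 7, nat_lit 5, nat_lit 4, nat_lit 1, nat_lit 2, nat_lit 3, nat_lit 8, nat_lit 0, nat_lit 1, nat_lit 2, nat_lit 3, nat_lit 4, nat_lit 5, nat_lit 0, nat_lit 1, nat_lit 9, nat_lit 4, nat_lit 3, nat_lit 2, nat_lit 8, nat_lit 3, nat_lit 11, nat_lit 2, nat_lit 8, nat_lit 10, nat_lit 1, nat_lit 8, nat_lit 16, nat_lit 15, nat_lit 14, nat_lit 13, nat_lit 19] (Rl.cmp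 (nat_lit 6110) (nat_lit 6316))))))) (FT.node (nat_lit 6321) (FT.node (nat_lit 6319) (FT.leaf (Fct.mk false (nat_lit 37) (nat_lit 0) (nat_lit 37) [nat_lit 6, nat_lit 7, nat_lit 5, nat_lit 6, nat_lit 3, nat_lit 4, nat_lit 5, nat_lit 2, nat_lit 3, nat_lit 4, nat_lit 1, nat_lit 2, nat_lit 3, nat_lit 8, nat_lit 0, nat_lit 1, nat_lit 2, nat_lit 3, nat_lit 4, nat_lit 5, nat_lit 6, nat_lit 7, nat_lit 8, nat_lit 6, nat_lit 4, nat_lit 5, nat_lit 3, nat_lit 4, nat_lit 1, nat_lit 2, nat_lit 3, nat_lit 8, nat_lit 0, nat_lit 1, nat_lit 2, nat_lit 3, nat_lit 4, nat_lit 5, nat_lit 0, nat_lit 1, nat_lit 4, nat_lit 3, nat_lit 2, nat_lit 8, nat_lit 3, nat_lit 11, nat_lit 2, nat_lit 8, nat_lit 10, nat_lit 1, nat_lit 8, nat_lit 16, nat_lit 15, nat_lit 14, nat_lit 13, nat_lit 19] (Rl.cmp (nat_lit 6106) (nat_lit 6317)))) (FT.node (nat_lit 6320) (FT.leaf (Fct.mk false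 (nat_lit 37) (nat_lit 0) (nat_lit 37) [nat_lit 7, nat_lit 6, nat_lit 5, nat_lit 4, nat_lit 3, nat_lit 8, nat_lit 1, nat_lit 2, nat_lit 3, nat_lit 4, nat_lit 5, nat_lit 6, nat_lit 7, nat_lit 3, nat_lit 8, nat_lit 5, nat_lit 6, nat_lit 4, nat_lit 5, nat_lit 3, nat_lit 4, nat_lit 1, nat_lit 2, nat_lit 3, nat_lit 8, nat_lit 0, nat_lit 1, nat_lit 2, nat_lit 3, nat_lit 4, nat_lit 5, nat_lit 0, nat_lit 1, nat_lit 4, nat_lit 3, nat_lit 2, nat_lit 8, nat_lit 3, nat_lit 11, nat_lit 2, nat_lit 8, nat_lit 10, nat_lit 1, nat_lit 8, nat_lit 16, nat_lit 14, nat_lit 13, nat_lit 19] (Rl.cmp (nat_lit 6106) (nat_lit 6318)))) (FT.leaf (Fct.mk false (nat_lit 37) (nat_lit 0) (nat_lit 37) [nat_lit 8, nat_lit 7, nat_lit 5, nat_lit 6, nat_lit 4, nat_lit 5, nat_lit 3, nat_lit 4, nat_lit 1, nat_lit 2, nat_lit 3, nat_lit 8, nat_lit 0, nat_lit 1, nat_lit 2, nat_lit 3,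 nat_lit 4, nat_lit 5, nat_lit 6, nat_lit 7, nat_lit 5, nat_lit 6, nat_lit 4, nat_lit 5, nat_lit 3, nat_lit 4, nat_lit 2, nat_lit 3, nat_lit 8, nat_lit 0, nat_lit 1, nat_lit 2, nat_lit 3, nat_lit 4, nat_lit 5, nat_lit 1, nat_lit 4, nat_lit 3, nat_lit 2, nat_lit 8, nat_lit 3, nat_lit 10, nat_lit 9, nat_lit 2, nat_lit 8, nat_lit 12, nat_lit 15, nat_lit 12, nat_lit 16] (Rl.cmp (nat_lit 6110) (nat_lit 6319)))))) (FT.node (nat_lit 6323) (FT.node (nat_lit 6322) (FT.leaf (Fct.mk false (nat_lit 37) (nat_lit 0) (nat_lit 37) [nat_lit 8, nat_lit 7, nat_lit 5, nat_lit 6, nat_lit 4, nat_lit 5, nat_lit 3, nat_lit 4, nat_lit 1, nat_lit 2, nat_lit 3, nat_lit 8, nat_lit 0, nat_lit 1, nat_lit 2, nat_lit 3, nat_lit 4, nat_lit 5, nat_lit 6, nat_lit 7, nat_lit 8, nat_lit 5, nat_lit 6, nat_lit 4, nat_lit 5, nat_lit 3, nat_lit 4, nat_lit 2, nat_lit 3, nat_lit 8, nat_lit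 0, nat_lit 1, nat_lit 2, nat_lit 3, nat_lit 4, nat_lit 5, nat_lit 4, nat_lit 3, nat_lit 2, nat_lit 1, nat_lit 8, nat_lit 3, nat_lit 2, nat_lit 0, nat_lit 1, nat_lit 4, nat_lit 3, nat_lit 2, nat_lit 8, nat_lit 3, nat_lit 11, nat_lit 1, nat_lit 16, nat_lit 15, nat_lit 14, nat_lit 8, nat_lit 19, nat_lit 16] (Rl.cmp (nat_lit 6107) (nat_lit 6320)))) (FT.leaf (Fct.mk false (nat_lit 37) (nat_lit 0) (nat_lit 37) [nat_lit 4, nat_lit 1, nat_lit 2, nat_lit 3, nat_lit 8, nat_lit 6, nat_lit 7, nat_lit 5, nat_lit 6, nat_lit 4, nat_lit 5, nat_lit 3, nat_lit 4, nat_lit 2, nat_lit 3, nat_lit 8, nat_lit 1, nat_lit 2, nat_lit 3, nat_lit 4, nat_lit 5, nat_lit 6, nat_lit 7, nat_lit 8, nat_lit 2, nat_lit 3, nat_lit 4, nat_lit 1, nat_lit 2, nat_lit 3, nat_lit 8, nat_lit 5, nat_lit 6, nat_lit 4, nat_lit 5, nat_lit 3, nat_lit 4, nat_lit 2, nat_lit 3, nat_lit 8, nat_lit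 1, nat_lit 2, nat_lit 3, nat_lit 4, nat_lit 5, nat_lit 2, nat_lit 0, nat_lit 1, nat_lit 4, nat_lit 3, nat_lit 2, nat_lit 8, nat_lit 3, nat_lit 11, nat_lit 16, nat_lit 8, nat_lit 12, nat_lit 15, nat_lit 13, nat_lit 12, nat_lit 16] (Rl.cmp (nat_lit 6110) (nat_lit 6321))))) (FT.node (nat_lit 6324) (FT.leaf (Fct.mk false (nat_lit 37) (nat_lit 0) (nat_lit 37) [nat_lit 5, nat_lit 4, nat_lit 3, nat_lit 8, nat_lit 2, nat_lit 3, nat_lit 4, nat_lit 1, nat_lit 2, nat_lit 3, nat_lit 8, nat_lit 7, nat_lit 5, nat_lit 6, nat_lit 4, nat_lit 5, nat_lit 3, nat_lit 4, nat_lit 2, nat_lit 3, nat_lit 8, nat_lit 1, nat_lit 2, nat_lit 3, nat_lit 4, nat_lit 5, nat_lit 6, nat_lit 7, nat_lit 6, nat_lit 5, nat_lit 2, nat_lit 3, nat_lit 4, nat_lit 1, nat_lit 2, nat_lit 3, nat_lit 8, nat_lit 0, nat_lit 1, nat_lit 2, nat_lit 3, nat_lit 4, nat_lit 5, nat_lit 8, nat_lit 3,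 nat_lit 2, nat_lit 1, nat_lit 4, nat_lit 3, nat_lit 2, nat_lit 8, nat_lit 3, nat_lit 11, nat_lit 10, nat_lit 1, nat_lit 8, nat_lit 12, nat_lit 15, nat_lit 14, nat_lit 16, nat_lit 8, nat_lit 19, nat_lit 16] (Rl.cmp (nat_lit 6110) (nat_lit 6322)))) (FT.leaf (Fct.mk false (nat_lit 37) (nat_lit 0) (nat_lit 37) [nat_lit 5, nat_lit 4, nat_lit 3, nat_lit 8, nat_lit 2, nat_lit 3, nat_lit 4, nat_lit 5, nat_lit 6, nat_lit 7, nat_lit 6, nat_lit 5, nat_lit 4, nat_lit 2, nat_lit 3, nat_lit 8, nat_lit 1, nat_lit 2, nat_lit 3, nat_lit 4, nat_lit 5, nat_lit 8, nat_lit 3, nat_lit 2, nat_lit 1, nat_lit 4, nat_lit 3, nat_lit 2, nat_lit 8, nat_lit 3, nat_lit 11, nat_lit 2, nat_lit 8, nat_lit 16, nat_lit 14, nat_lit 17, nat_lit 18] (Rl.cmp (nat_lit 6110) (nat_lit 6323))))))))) (FT.node (nat_lit 6337) (FT.node (nat_lit 6331) (FT.node (nat_lit 6328) (FT.node (nat_lit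 6326) (FT.leaf (Fct.mk false (nat_lit 37) (nat_lit 0) (nat_lit 37) [nat_lit 6, nat_lit 5, nat_lit 4, nat_lit 1, nat_lit 2, nat_lit 3, nat_lit 8, nat_lit 0, nat_lit 1, nat_lit 2, nat_lit 3, nat_lit 4, nat_lit 5, nat_lit 6, nat_lit 7, nat_lit 3, nat_lit 4, nat_lit 2, nat_lit 3, nat_lit 8, nat_lit 5, nat_lit 6, nat_lit 4, nat_lit 5, nat_lit 3, nat_lit 4, nat_lit 2, nat_lit 3, nat_lit 8, nat_lit 0, nat_lit 1, nat_lit 2, nat_lit 3, nat_lit 4, nat_lit 5, nat_lit 1, nat_lit 4, nat_lit 3, nat_lit 2, nat_lit 0, nat_lit 1, nat_lit 9, nat_lit 4, nat_lit 3, nat_lit 2, nat_lit 8, nat_lit 3, nat_lit 11, nat_lit 8, nat_lit 10, nat_lit 1, nat_lit 12, nat_lit 15, nat_lit 8, nat_lit 18, nat_lit 16] (Rl.cmp (nat_lit 6110) (nat_lit 6324)))) (FT.node (nat_lit 6327) (FT.leaf (Fct.mk false (nat_lit 37) (nat_lit 0) (nat_lit 37) [nat_lit 4, nat_lit 1, nat_lit 2, nat_lit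 3, nat_lit 8, nat_lit 0, nat_lit 1, nat_lit 2, nat_lit 3, nat_lit 4, nat_lit 5, nat_lit 6, nat_lit 7, nat_lit 8, nat_lit 5, nat_lit 6, nat_lit 4, nat_lit 5, nat_lit 3, nat_lit 4, nat_lit 2, nat_lit 3, nat_lit 8, nat_lit 0, nat_lit 1, nat_lit 2, nat_lit 3, nat_lit 4, nat_lit 5, nat_lit 2, nat_lit 3, nat_lit 8, nat_lit 16, nat_lit 14, nat_lit 19] (Rl.cmp (nat_lit 6110) (nat_lit 6325)))) (FT.leaf (Fct.mk true (nat_lit 33) (nat_lit 6251) (nat_lit 37) [nat_lit 4, nat_lit 2, nat_lit 3, nat_lit 8, nat_lit 7, nat_lit 5, nat_lit 6, nat_lit 4, nat_lit 5, nat_lit 3, nat_lit 4, nat_lit 2, nat_lit 3, nat_lit 8, nat_lit 0, nat_lit 1, nat_lit 2, nat_lit 3, nat_lit 4, nat_lit 5, nat_lit 6, nat_lit 7, nat_lit 3, nat_lit 4, nat_lit 5, nat_lit 3, nat_lit 2, nat_lit 8, nat_lit 3, nat_lit 11, nat_lit 10, nat_lit 1, nat_lit 15, nat_lit 14, nat_lit 17, nat_lit 12,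 nat_lit 18] (Rl.rel (nat_lit 0) [nat_lit 6, nat_lit 5, nat_lit 4, nat_lit 3, nat_lit 8, nat_lit 0, nat_lit 1, nat_lit 2, nat_lit 3, nat_lit 4, nat_lit 5, nat_lit 6, nat_lit 7, nat_lit 6, nat_lit 8, nat_lit 3, nat_lit 10, nat_lit 17, nat_lit 12] (nat_lit 37) (nat_lit 2) [nat_lit 6121, nat_lit 6122, nat_lit 2741, nat_lit 5288] []))))) (FT.node (nat_lit 6329) (FT.leaf (Fct.mk true (nat_lit 33) (nat_lit 9) (nat_lit 37) [nat_lit 5, nat_lit 4, nat_lit 2, nat_lit 3, nat_lit 8, nat_lit 1, nat_lit 2, nat_lit 3, nat_lit 4, nat_lit 5, nat_lit 6, nat_lit 7, nat_lit 8, nat_lit 2, nat_lit 3, nat_lit 4, nat_lit 5, nat_lit 4, nat_lit 11, nat_lit 10, nat_lit 16, nat_lit 8, nat_lit 18] (Rl.t1 (nat_lit 6327) (nat_lit 5039)))) (FT.node (nat_lit 6330) (FT.leaf (Fct.mk true (nat_lit 37) (nat_lit 2590) (nat_lit 33) [nat_lit 6, nat_lit 4, nat_lit 5, nat_lit 2, nat_lit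 3, nat_lit 4, nat_lit 1, nat_lit 2, nat_lit 3, nat_lit 8, nat_lit 0, nat_lit 1, nat_lit 2, nat_lit 3, nat_lit 4, nat_lit 5, nat_lit 6, nat_lit 7, nat_lit 3, nat_lit 8, nat_lit 6, nat_lit 5, nat_lit 2, nat_lit 3, nat_lit 4, nat_lit 1, nat_lit 2, nat_lit 3, nat_lit 8, nat_lit 0, nat_lit 1, nat_lit 2, nat_lit 3, nat_lit 4, nat_lit 5, nat_lit 8, nat_lit 3, nat_lit 8, nat_lit 10, nat_lit 0, nat_lit 16, nat_lit 14, nat_lit 8, nat_lit 18] (Rl.inv (nat_lit 6328)))) (FT.leaf (Fct.mk true (nat_lit 37) (nat_lit 50) (nat_lit 33) [nat_lit 4, nat_lit 3, nat_lit 8, nat_lit 2, nat_lit 3, nat_lit 4, nat_lit 5, nat_lit 6, nat_lit 7, nat_lit 5, nat_lit 4, nat_lit 3, nat_lit 8, nat_lit 0, nat_lit 1, nat_lit 2, nat_lit 3, nat_lit 4, nat_lit 5, nat_lit 1, nat_lit 2, nat_lit 0, nat_lit 1, nat_lit 4, nat_lit 3, nat_lit 2, nat_lit 8, nat_lit 3, nat_lit 1, nat_lit 16,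 nat_lit 15, nat_lit 14, nat_lit 18] (Rl.t1 (nat_lit 6329) (nat_lit 6326))))))) (FT.node (nat_lit 6334) (FT.node (nat_lit 6332) (FT.leaf (Fct.mk false (nat_lit 37) (nat_lit 0) (nat_lit 37) [nat_lit 2, nat_lit 3, nat_lit 8, nat_lit 6, nat_lit 7, nat_lit 5, nat_lit 6, nat_lit 4, nat_lit 5, nat_lit 3, nat_lit 4, nat_lit 2, nat_lit 3, nat_lit 8, nat_lit 0, nat_lit 1, nat_lit 2, nat_lit 3, nat_lit 4, nat_lit 5, nat_lit 6, nat_lit 7, nat_lit 5, nat_lit 1, nat_lit 3, nat_lit 2, nat_lit 0, nat_lit 1, nat_lit 9, nat_lit 4, nat_lit 3, nat_lit 2, nat_lit 8, nat_lit 3, nat_lit 2, nat_lit 13, nat_lit 16] (Rl.cmp (nat_lit 6106) (nat_lit 6110)))) (FT.node (nat_lit 6333) (FT.leaf (Fct.mk false (nat_lit 37) (nat_lit 0) (nat_lit 37) [nat_lit 8, nat_lit 7, nat_lit 6, nat_lit 4, nat_lit 5, nat_lit 3, nat_lit 4, nat_lit 1, nat_lit 2, nat_lit 3, nat_lit 8, nat_lit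 0, nat_lit 1, nat_lit 2, nat_lit 3, nat_lit 4, nat_lit 5, nat_lit 6, nat_lit 7, nat_lit 0, nat_lit 1, nat_lit 2, nat_lit 3, nat_lit 4, nat_lit 5, nat_lit 2, nat_lit 1, nat_lit 9, nat_lit 4, nat_lit 3, nat_lit 2, nat_lit 8, nat_lit 3, nat_lit 11, nat_lit 2, nat_lit 8, nat_lit 18, nat_lit 16] (Rl.cmp (nat_lit 6110) (nat_lit 6331)))) (FT.leaf (Fct.mk false (nat_lit 37) (nat_lit 0) (nat_lit 37) [nat_lit 7, nat_lit 6, nat_lit 4, nat_lit 5, nat_lit 3, nat_lit 4, nat_lit 2, nat_lit 3, nat_lit 8, nat_lit 1, nat_lit 2, nat_lit 3, nat_lit 4, nat_lit 5, nat_lit 6, nat_lit 7, nat_lit 8, nat_lit 4, nat_lit 5, nat_lit 3, nat_lit 4, nat_lit 2, nat_lit 3, nat_lit 8, nat_lit 1, nat_lit 2, nat_lit 3, nat_lit 4, nat_lit 5, nat_lit 0, nat_lit 1, nat_lit 2, nat_lit 3, nat_lit 8, nat_lit 10, nat_lit 9, nat_lit 2, nat_lit 8, nat_lit 16, nat_lit 14, nat_lit 13, nat_lit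 12, nat_lit 18, nat_lit 16] (Rl.cmp (nat_lit 6110) (nat_lit 6332)))))) (FT.node (nat_lit 6335) (FT.leaf (Fct.mk false (nat_lit 37) (nat_lit 0) (nat_lit 37) [nat_lit 7, nat_lit 6, nat_lit 4, nat_lit 5, nat_lit 3, nat_lit 4, nat_lit 2, nat_lit 3, nat_lit 8, nat_lit 0, nat_lit 1, nat_lit 2, nat_lit 3, nat_lit 4, nat_lit 5, nat_lit 6, nat_lit 7, nat_lit 4, nat_lit 3, nat_lit 8, nat_lit 5, nat_lit 6, nat_lit 4, nat_lit 5, nat_lit 3, nat_lit 4, nat_lit 2, nat_lit 3, nat_lit 8, nat_lit 1, nat_lit 2, nat_lit 3, nat_lit 4, nat_lit 5, nat_lit 0, nat_lit 1, nat_lit 2, nat_lit 3, nat_lit 11, nat_lit 8, nat_lit 10, nat_lit 16, nat_lit 8, nat_lit 12, nat_lit 15, nat_lit 18, nat_lit 16] (Rl.cmp (nat_lit 6107) (nat_lit 6333)))) (FT.node (nat_lit 6336) (FT.leaf (Fct.mk false (nat_lit 37) (nat_lit 0) (nat_lit 37) [nat_lit 4, nat_lit 5, nat_lit 3, nat_lit 4,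 nat_lit 1, nat_lit 2, nat_lit 3, nat_lit 8, nat_lit 0, nat_lit 1, nat_lit 2, nat_lit 3, nat_lit 4, nat_lit 5, nat_lit 6, nat_lit 7, nat_lit 5, nat_lit 4, nat_lit 2, nat_lit 3, nat_lit 8, nat_lit 1, nat_lit 2, nat_lit 3, nat_lit 4, nat_lit 5, nat_lit 2, nat_lit 3, nat_lit 8, nat_lit 4, nat_lit 3, nat_lit 2, nat_lit 1, nat_lit 9, nat_lit 4, nat_lit 3, nat_lit 2, nat_lit 8, nat_lit 3, nat_lit 8, nat_lit 10, nat_lit 9, nat_lit 2, nat_lit 12, nat_lit 15, nat_lit 13, nat_lit 18] (Rl.cmp (nat_lit 6110) (nat_lit 6334)))) (FT.leaf (Fct.mk false (nat_lit 37) (nat_lit 0) (nat_lit 37) [nat_lit 4, nat_lit 3, nat_lit 8, nat_lit 6, nat_lit 7, nat_lit 5, nat_lit 6, nat_lit 4, nat_lit 5, nat_lit 3, nat_lit 4, nat_lit 1, nat_lit 2, nat_lit 3, nat_lit 8, nat_lit 0, nat_lit 1, nat_lit 2, nat_lit 3, nat_lit 4, nat_lit 5, nat_lit 6, nat_lit 7, nat_lit 8, nat_lit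 4, nat_lit 5, nat_lit 3, nat_lit 4, nat_lit 2, nat_lit 3, nat_lit 8, nat_lit 1, nat_lit 2, nat_lit 3, nat_lit 4, nat_lit 5, nat_lit 2, nat_lit 8, nat_lit 3, nat_lit 11, nat_lit 1, nat_lit 8, nat_lit 12, nat_lit 15, nat_lit 13, nat_lit 12, nat_lit 16] (Rl.cmp (nat_lit 6110) (nat_lit 6335)))))))) (FT.node (nat_lit 6343) (FT.node (nat_lit 6340) (FT.node (nat_lit 6338) (FT.leaf (Fct.mk false (nat_lit 37) (nat_lit 0) (nat_lit 37) [nat_lit 4, nat_lit 3, nat_lit 8, nat_lit 2, nat_lit 3, nat_lit 4, nat_lit 5, nat_lit 6, nat_lit 7, nat_lit 3, nat_lit 4, nat_lit 5, nat_lit 1, nat_lit 9, nat_lit 4, nat_lit 3, nat_lit 2, nat_lit 8, nat_lit 3, nat_lit 11, nat_lit 14, nat_lit 13, nat_lit 12] (Rl.cmp (nat_lit 6110) (nat_lit 6336)))) (FT.node (nat_lit 6339) (FT.leaf (Fct.mk false (nat_lit 37) (nat_lit 0) (nat_lit 37) [nat_lit 0, nat_lit 1, nat_lit 2, nat_lit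 3, nat_lit 4, nat_lit 5, nat_lit 6, nat_lit 7, nat_lit 4, nat_lit 3, nat_lit 8, nat_lit 2, nat_lit 3, nat_lit 4, nat_lit 1, nat_lit 2, nat_lit 3, nat_lit 8, nat_lit 0, nat_lit 1, nat_lit 2, nat_lit 3, nat_lit 4, nat_lit 5, nat_lit 1, nat_lit 3, nat_lit 2, nat_lit 8, nat_lit 3, nat_lit 2, nat_lit 10, nat_lit 1, nat_lit 8, nat_lit 12, nat_lit 15, nat_lit 14, nat_lit 17, nat_lit 12] (Rl.cmp (nat_lit 6110) (nat_lit 6337)))) (FT.leaf (Fct.mk true (nat_lit 36) (nat_lit 6724) (nat_lit 37) [nat_lit 6, nat_lit 5, nat_lit 3, nat_lit 4, nat_lit 1, nat_lit 2, nat_lit 3, nat_lit 8, nat_lit 0, nat_lit 1, nat_lit 2, nat_lit 3, nat_lit 4, nat_lit 5, nat_lit 6, nat_lit 7, nat_lit 1, nat_lit 9, nat_lit 4, nat_lit 3, nat_lit 2, nat_lit 8, nat_lit 3, nat_lit 11, nat_lit 13, nat_lit 16] (Rl.rel (nat_lit 0) [nat_lit 3, nat_lit 4, nat_lit 5, nat_lit 6, nat_lit 7,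 nat_lit 6, nat_lit 2, nat_lit 3, nat_lit 17] (nat_lit 37) (nat_lit 2) [nat_lit 6121, nat_lit 6122, nat_lit 5686, nat_lit 5800] []))))) (FT.node (nat_lit 6341) (FT.leaf (Fct.mk true (nat_lit 36) (nat_lit 64) (nat_lit 37) [nat_lit 3, nat_lit 8, nat_lit 2, nat_lit 3, nat_lit 4, nat_lit 5, nat_lit 6, nat_lit 7, nat_lit 1, nat_lit 9, nat_lit 4, nat_lit 3, nat_lit 2, nat_lit 8, nat_lit 3] (Rl.t1 (nat_lit 6339) (nat_lit 5871)))) (FT.node (nat_lit 6342) (FT.leaf (Fct.mk true (nat_lit 37) (nat_lit 218) (nat_lit 36) [nat_lit 3, nat_lit 8, nat_lit 2, nat_lit 3, nat_lit 4, nat_lit 5, nat_lit 6, nat_lit 7, nat_lit 1, nat_lit 9, nat_lit 4, nat_lit 3, nat_lit 2, nat_lit 8, nat_lit 3] (Rl.inv (nat_lit 6340)))) (FT.leaf (Fct.mk true (nat_lit 37) (nat_lit 61) (nat_lit 36) [nat_lit 7, nat_lit 6, nat_lit 5, nat_lit 4, nat_lit 1, nat_lit 2, nat_lit 3, nat_lit 8,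 nat_lit 0, nat_lit 1, nat_lit 2, nat_lit 3, nat_lit 4, nat_lit 5, nat_lit 6, nat_lit 7, nat_lit 6, nat_lit 0, nat_lit 1, nat_lit 9, nat_lit 4, nat_lit 3, nat_lit 2, nat_lit 8, nat_lit 3, nat_lit 11, nat_lit 10, nat_lit 1, nat_lit 16, nat_lit 14, nat_lit 16, nat_lit 8, nat_lit 19, nat_lit 16] (Rl.t1 (nat_lit 6341) (nat_lit 6338))))))) (FT.node (nat_lit 6346) (FT.node (nat_lit 6344) (FT.leaf (Fct.mk false (nat_lit 37) (nat_lit 0) (nat_lit 37) [nat_lit 8, nat_lit 7, nat_lit 6, nat_lit 5, nat_lit 3, nat_lit 4, nat_lit 2, nat_lit 3, nat_lit 8, nat_lit 1, nat_lit 2, nat_lit 3, nat_lit 4, nat_lit 5, nat_lit 6, nat_lit 7, nat_lit 6, nat_lit 2, nat_lit 1, nat_lit 3, nat_lit 2, nat_lit 0, nat_lit 1, nat_lit 9, nat_lit 4, nat_lit 3, nat_lit 2, nat_lit 8, nat_lit 3, nat_lit 0, nat_lit 2, nat_lit 13, nat_lit 16] (Rl.cmp (nat_lit 6110) (nat_lit 6107))))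 (FT.node (nat_lit 6345) (FT.leaf (Fct.mk false (nat_lit 37) (nat_lit 0) (nat_lit 37) [nat_lit 3, nat_lit 8, nat_lit 7, nat_lit 6, nat_lit 4, nat_lit 5, nat_lit 3, nat_lit 4, nat_lit 2, nat_lit 3, nat_lit 8, nat_lit 0, nat_lit 1, nat_lit 2, nat_lit 3, nat_lit 4, nat_lit 5, nat_lit 6, nat_lit 7, nat_lit 8, nat_lit 3, nat_lit 4, nat_lit 2, nat_lit 3, nat_lit 8, nat_lit 1, nat_lit 2, nat_lit 3, nat_lit 4, nat_lit 5, nat_lit 2, nat_lit 1, nat_lit 8, nat_lit 3, nat_lit 2, nat_lit 0, nat_lit 1, nat_lit 9, nat_lit 4, nat_lit 3, nat_lit 2, nat_lit 8, nat_lit 3, nat_lit 8, nat_lit 10, nat_lit 9, nat_lit 2, nat_lit 13, nat_lit 12, nat_lit 16] (Rl.cmp (nat_lit 6110) (nat_lit 6343)))) (FT.leaf (Fct.mk false (nat_lit 37) (nat_lit 0) (nat_lit 37) [nat_lit 8, nat_lit 7, nat_lit 6, nat_lit 4, nat_lit 5, nat_lit 3, nat_lit 4, nat_lit 1, nat_lit 2, nat_lit 3,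 nat_lit 8, nat_lit 0, nat_lit 1, nat_lit 2, nat_lit 3, nat_lit 4, nat_lit 5, nat_lit 6, nat_lit 7, nat_lit 6, nat_lit 5, nat_lit 3, nat_lit 4, nat_lit 2, nat_lit 3, nat_lit 8, nat_lit 1, nat_lit 2, nat_lit 3, nat_lit 4, nat_lit 5, nat_lit 8, nat_lit 3, nat_lit 11, nat_lit 2, nat_lit 15, nat_lit 14, nat_lit 18, nat_lit 16] (Rl.cmp (nat_lit 6106) (nat_lit 6344)))))) (FT.node (nat_lit 6348) (FT.node (nat_lit 6347) (FT.leaf (Fct.mk false (nat_lit 37) (nat_lit 0) (nat_lit 37) [nat_lit 7, nat_lit 6, nat_lit 4, nat_lit 5, nat_lit 3, nat_lit 4, nat_lit 2, nat_lit 3, nat_lit 8, nat_lit 1, nat_lit 2, nat_lit 3, nat_lit 4, nat_lit 5, nat_lit 6, nat_lit 7, nat_lit 5, nat_lit 3, nat_lit 4, nat_lit 2, nat_lit 3, nat_lit 8, nat_lit 1, nat_lit 2, nat_lit 3, nat_lit 4, nat_lit 5, nat_lit 0, nat_lit 1, nat_lit 2, nat_lit 3, nat_lit 8, nat_lit 10, nat_lit 9,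 nat_lit 2, nat_lit 16, nat_lit 14, nat_lit 13, nat_lit 18, nat_lit 16] (Rl.cmp (nat_lit 6110) (nat_lit 6345)))) (FT.leaf (Fct.mk false (nat_lit 37) (nat_lit 0) (nat_lit 37) [nat_lit 4, nat_lit 5, nat_lit 2, nat_lit 3, nat_lit 4, nat_lit 1, nat_lit 2, nat_lit 3, nat_lit 8, nat_lit 0, nat_lit 1, nat_lit 2, nat_lit 3, nat_lit 4, nat_lit 5, nat_lit 6, nat_lit 7, nat_lit 8, nat_lit 4, nat_lit 5, nat_lit 3, nat_lit 4, nat_lit 2, nat_lit 3, nat_lit 8, nat_lit 0, nat_lit 1, nat_lit 2, nat_lit 3, nat_lit 4, nat_lit 5, nat_lit 4, nat_lit 3, nat_lit 2, nat_lit 0, nat_lit 1, nat_lit 9, nat_lit 4, nat_lit 3, nat_lit 2, nat_lit 8, nat_lit 3, nat_lit 8, nat_lit 10, nat_lit 9, nat_lit 2, nat_lit 16, nat_lit 15, nat_lit 14, nat_lit 17, nat_lit 12, nat_lit 19, nat_lit 16] (Rl.cmp (nat_lit 6110) (nat_lit 6346))))) (FT.node (nat_lit 6349) (FT.leaf (Fct.mk false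 (nat_lit 37) (nat_lit 0) (nat_lit 37) [nat_lit 3, nat_lit 8, nat_lit 6, nat_lit 4, nat_lit 5, nat_lit 3, nat_lit 4, nat_lit 1, nat_lit 2, nat_lit 3, nat_lit 8, nat_lit 0, nat_lit 1, nat_lit 2, nat_lit 3, nat_lit 4, nat_lit 5, nat_lit 6, nat_lit 7, nat_lit 3, nat_lit 4, nat_lit 2, nat_lit 3, nat_lit 8, nat_lit 1, nat_lit 2, nat_lit 3, nat_lit 4, nat_lit 5, nat_lit 8, nat_lit 3, nat_lit 2, nat_lit 1, nat_lit 9, nat_lit 4, nat_lit 3, nat_lit 2, nat_lit 8, nat_lit 3, nat_lit 11, nat_lit 1, nat_lit 16, nat_lit 14, nat_lit 17, nat_lit 19, nat_lit 16] (Rl.cmp (nat_lit 6110) (nat_lit 6347)))) (FT.leaf (Fct.mk false (nat_lit 37) (nat_lit 0) (nat_lit 37) [nat_lit 3, nat_lit 4, nat_lit 2, nat_lit 3, nat_lit 8, nat_lit 7, nat_lit 5, nat_lit 6, nat_lit 4, nat_lit 5, nat_lit 3, nat_lit 4, nat_lit 2, nat_lit 3, nat_lit 8, nat_lit 0, nat_lit 1, nat_lit 2,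 nat_lit 3, nat_lit 4, nat_lit 5, nat_lit 6, nat_lit 7, nat_lit 5, nat_lit 2, nat_lit 3, nat_lit 4, nat_lit 1, nat_lit 2, nat_lit 3, nat_lit 8, nat_lit 0, nat_lit 1, nat_lit 2, nat_lit 3, nat_lit 4, nat_lit 5, nat_lit 11, nat_lit 1, nat_lit 12, nat_lit 8, nat_lit 16, nat_lit 14, nat_lit 18] (Rl.cmp (nat_lit 6110) (nat_lit 6348)))))))))

/-- some facts -/
noncomputable def ftc127 : FT := FT.node (nat_lit 6375) (FT.node (nat_lit 6362) (FT.node (nat_lit 6356) (FT.node (nat_lit 6353) (FT.node (nat_lit 6351) (FT.leaf (Fct.mk false (nat_lit 37) (nat_lit 0) (nat_lit 37) [nat_lit 3, nat_lit 4, nat_lit 2, nat_lit 3, nat_lit 8, nat_lit 7, nat_lit 5, nat_lit 6, nat_lit 4, nat_lit 5, nat_lit 3, nat_lit 4, nat_lit 2, nat_lit 3, nat_lit 8, nat_lit 1, nat_lit 2, nat_lit 3, nat_lit 4, nat_lit 5, nat_lit 6, nat_lit 7, nat_lit 5, nat_lit 2, nat_lit 3, nat_lit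 4, nat_lit 1, nat_lit 2, nat_lit 3, nat_lit 8, nat_lit 0, nat_lit 1, nat_lit 2, nat_lit 3, nat_lit 4, nat_lit 5, nat_lit 1, nat_lit 0, nat_lit 2, nat_lit 16, nat_lit 8, nat_lit 12, nat_lit 15, nat_lit 13, nat_lit 18] (Rl.cmp (nat_lit 6107) (nat_lit 6349)))) (FT.node (nat_lit 6352) (FT.leaf (Fct.mk false (nat_lit 37) (nat_lit 0) (nat_lit 37) [nat_lit 6, nat_lit 4, nat_lit 5, nat_lit 2, nat_lit 3, nat_lit 4, nat_lit 1, nat_lit 2, nat_lit 3, nat_lit 8, nat_lit 0, nat_lit 1, nat_lit 2, nat_lit 3, nat_lit 4, nat_lit 5, nat_lit 6, nat_lit 7, nat_lit 1, nat_lit 2, nat_lit 3, nat_lit 8, nat_lit 4, nat_lit 5, nat_lit 3, nat_lit 4, nat_lit 2, nat_lit 3, nat_lit 8, nat_lit 1, nat_lit 2, nat_lit 3, nat_lit 4, nat_lit 5, nat_lit 3, nat_lit 0, nat_lit 8, nat_lit 16, nat_lit 14, nat_lit 12] (Rl.cmp (nat_lit 6110) (nat_lit 6350)))) (FT.leaf (Fct.mk true (nat_lit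 37) (nat_lit 534) (nat_lit 37) [nat_lit 10] (Rl.rel (nat_lit 0) [nat_lit 7, nat_lit 6, nat_lit 5, nat_lit 4, nat_lit 3, nat_lit 8, nat_lit 2, nat_lit 3, nat_lit 4, nat_lit 5, nat_lit 6, nat_lit 7, nat_lit 2, nat_lit 3, nat_lit 4, nat_lit 5, nat_lit 2, nat_lit 3, nat_lit 17] (nat_lit 37) (nat_lit 2) [nat_lit 6121, nat_lit 6122, nat_lit 5687, nat_lit 6092] []))))) (FT.node (nat_lit 6354) (FT.leaf (Fct.mk true (nat_lit 37) (nat_lit 127) (nat_lit 37) [nat_lit 1, nat_lit 2, nat_lit 3, nat_lit 4, nat_lit 5, nat_lit 6, nat_lit 7, nat_lit 4, nat_lit 3, nat_lit 8, nat_lit 1, nat_lit 2, nat_lit 3, nat_lit 4, nat_lit 5, nat_lit 0, nat_lit 1, nat_lit 3, nat_lit 2, nat_lit 8, nat_lit 3, nat_lit 1, nat_lit 9, nat_lit 15, nat_lit 17, nat_lit 12, nat_lit 19] (Rl.t1 (nat_lit 6352) (nat_lit 6351)))) (FT.node (nat_lit 6355) (FT.leaf (Fct.mk false (nat_lit 37)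 (nat_lit 0) (nat_lit 37) [nat_lit 3, nat_lit 8, nat_lit 7, nat_lit 6, nat_lit 4, nat_lit 5, nat_lit 3, nat_lit 4, nat_lit 2, nat_lit 3, nat_lit 8, nat_lit 0, nat_lit 1, nat_lit 2, nat_lit 3, nat_lit 4, nat_lit 5, nat_lit 6, nat_lit 7, nat_lit 8, nat_lit 3, nat_lit 4, nat_lit 2, nat_lit 3, nat_lit 8, nat_lit 1, nat_lit 2, nat_lit 3, nat_lit 4, nat_lit 5, nat_lit 2, nat_lit 1, nat_lit 8, nat_lit 3, nat_lit 2, nat_lit 0, nat_lit 1, nat_lit 9, nat_lit 4, nat_lit 3, nat_lit 2, nat_lit 8, nat_lit 3, nat_lit 11, nat_lit 12, nat_lit 18, nat_lit 16] (Rl.cmp (nat_lit 6110) (nat_lit 6110)))) (FT.leaf (Fct.mk false (nat_lit 37) (nat_lit 0) (nat_lit 37) [nat_lit 8, nat_lit 7, nat_lit 6, nat_lit 4, nat_lit 5, nat_lit 3, nat_lit 4, nat_lit 1, nat_lit 2, nat_lit 3, nat_lit 8, nat_lit 0, nat_lit 1, nat_lit 2, nat_lit 3, nat_lit 4, nat_lit 5, nat_lit 6, nat_lit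 7, nat_lit 6, nat_lit 5, nat_lit 3, nat_lit 4, nat_lit 2, nat_lit 3, nat_lit 8, nat_lit 1, nat_lit 2, nat_lit 3, nat_lit 4, nat_lit 5, nat_lit 8, nat_lit 3, nat_lit 11, nat_lit 2, nat_lit 8, nat_lit 10, nat_lit 1, nat_lit 12, nat_lit 15, nat_lit 8, nat_lit 18, nat_lit 16] (Rl.cmp (nat_lit 6106) (nat_lit 6354))))))) (FT.node (nat_lit 6359) (FT.node (nat_lit 6357) (FT.leaf (Fct.mk false (nat_lit 37) (nat_lit 0) (nat_lit 37) [nat_lit 7, nat_lit 6, nat_lit 4, nat_lit 5, nat_lit 3, nat_lit 4, nat_lit 2, nat_lit 3, nat_lit 8, nat_lit 1, nat_lit 2, nat_lit 3, nat_lit 4, nat_lit 5, nat_lit 6, nat_lit 7, nat_lit 5, nat_lit 3, nat_lit 4, nat_lit 2, nat_lit 3, nat_lit 8, nat_lit 1, nat_lit 2, nat_lit 3, nat_lit 4, nat_lit 5, nat_lit 0, nat_lit 1, nat_lit 2, nat_lit 3, nat_lit 11, nat_lit 2, nat_lit 10, nat_lit 1, nat_lit 18, nat_lit 16] (Rl.cmp (nat_lit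 6110) (nat_lit 6355)))) (FT.node (nat_lit 6358) (FT.leaf (Fct.mk false (nat_lit 37) (nat_lit 0) (nat_lit 37) [nat_lit 4, nat_lit 5, nat_lit 2, nat_lit 3, nat_lit 4, nat_lit 1, nat_lit 2, nat_lit 3, nat_lit 8, nat_lit 0, nat_lit 1, nat_lit 2, nat_lit 3, nat_lit 4, nat_lit 5, nat_lit 6, nat_lit 7, nat_lit 8, nat_lit 4, nat_lit 5, nat_lit 3, nat_lit 4, nat_lit 2, nat_lit 3, nat_lit 8, nat_lit 0, nat_lit 1, nat_lit 2, nat_lit 3, nat_lit 4, nat_lit 5, nat_lit 4, nat_lit 3, nat_lit 2, nat_lit 0, nat_lit 1, nat_lit 9, nat_lit 4, nat_lit 3, nat_lit 2, nat_lit 8, nat_lit 3, nat_lit 8, nat_lit 10, nat_lit 1, nat_lit 12, nat_lit 15, nat_lit 14, nat_lit 17, nat_lit 12, nat_lit 18] (Rl.cmp (nat_lit 6110) (nat_lit 6356)))) (FT.leaf (Fct.mk false (nat_lit 37) (nat_lit 0) (nat_lit 37) [nat_lit 3, nat_lit 8, nat_lit 6, nat_lit 4, nat_lit 5, nat_lit 3, nat_lit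 4, nat_lit 1, nat_lit 2, nat_lit 3, nat_lit 8, nat_lit 0, nat_lit 1, nat_lit 2, nat_lit 3, nat_lit 4, nat_lit 5, nat_lit 6, nat_lit 7, nat_lit 3, nat_lit 4, nat_lit 2, nat_lit 3, nat_lit 8, nat_lit 1, nat_lit 2, nat_lit 3, nat_lit 4, nat_lit 5, nat_lit 8, nat_lit 3, nat_lit 2, nat_lit 1, nat_lit 9, nat_lit 4, nat_lit 3, nat_lit 2, nat_lit 8, nat_lit 3, nat_lit 10, nat_lit 1, nat_lit 16, nat_lit 14, nat_lit 8, nat_lit 16] (Rl.cmp (nat_lit 6110) (nat_lit 6357)))))) (FT.node (nat_lit 6360) (FT.leaf (Fct.mk false (nat_lit 37) (nat_lit 0) (nat_lit 37) [nat_lit 3, nat_lit 4, nat_lit 2, nat_lit 3, nat_lit 8, nat_lit 7, nat_lit 5, nat_lit 6, nat_lit 4, nat_lit 5, nat_lit 3, nat_lit 4, nat_lit 2, nat_lit 3, nat_lit 8, nat_lit 0, nat_lit 1, nat_lit 2, nat_lit 3, nat_lit 4, nat_lit 5, nat_lit 6, nat_lit 7, nat_lit 5, nat_lit 2, nat_lit 3, nat_lit 4, nat_lit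 1, nat_lit 2, nat_lit 3, nat_lit 8, nat_lit 0, nat_lit 1, nat_lit 2, nat_lit 3, nat_lit 4, nat_lit 5, nat_lit 2, nat_lit 8, nat_lit 10, nat_lit 1, nat_lit 12, nat_lit 8, nat_lit 16, nat_lit 14, nat_lit 13, nat_lit 18] (Rl.cmp (nat_lit 6110) (nat_lit 6358)))) (FT.node (nat_lit 6361) (FT.leaf (Fct.mk false (nat_lit 37) (nat_lit 0) (nat_lit 37) [nat_lit 6, nat_lit 4, nat_lit 5, nat_lit 3, nat_lit 4, nat_lit 1, nat_lit 2, nat_lit 3, nat_lit 8, nat_lit 0, nat_lit 1, nat_lit 2, nat_lit 3, nat_lit 4, nat_lit 5, nat_lit 6, nat_lit 7, nat_lit 1, nat_lit 2, nat_lit 3, nat_lit 8, nat_lit 4, nat_lit 5, nat_lit 3, nat_lit 4, nat_lit 2, nat_lit 3, nat_lit 8, nat_lit 1, nat_lit 2, nat_lit 3, nat_lit 4, nat_lit 5, nat_lit 3, nat_lit 11, nat_lit 1, nat_lit 8, nat_lit 16, nat_lit 15, nat_lit 14, nat_lit 13] (Rl.cmp (nat_lit 6110) (nat_lit 6359)))) (FT.leaf (Fct.mk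 false (nat_lit 37) (nat_lit 0) (nat_lit 37) [nat_lit 3, nat_lit 8, nat_lit 7, nat_lit 6, nat_lit 4, nat_lit 5, nat_lit 3, nat_lit 4, nat_lit 2, nat_lit 3, nat_lit 8, nat_lit 0, nat_lit 1, nat_lit 2, nat_lit 3, nat_lit 4, nat_lit 5, nat_lit 6, nat_lit 7, nat_lit 8, nat_lit 3, nat_lit 4, nat_lit 2, nat_lit 3, nat_lit 8, nat_lit 1, nat_lit 2, nat_lit 3, nat_lit 4, nat_lit 5, nat_lit 2, nat_lit 1, nat_lit 8, nat_lit 3, nat_lit 2, nat_lit 0, nat_lit 1, nat_lit 9, nat_lit 4, nat_lit 3, nat_lit 2, nat_lit 8, nat_lit 3, nat_lit 11, nat_lit 12, nat_lit 18, nat_lit 16] (Rl.cmp (nat_lit 6110) (nat_lit 6110)))))))) (FT.node (nat_lit 6368) (FT.node (nat_lit 6365) (FT.node (nat_lit 6363) (FT.leaf (Fct.mk false (nat_lit 37) (nat_lit 0) (nat_lit 37) [nat_lit 7, nat_lit 6, nat_lit 5, nat_lit 4, nat_lit 2, nat_lit 3, nat_lit 8, nat_lit 0, nat_lit 1, nat_lit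 2, nat_lit 3, nat_lit 4, nat_lit 5, nat_lit 6, nat_lit 7, nat_lit 5, nat_lit 4, nat_lit 1, nat_lit 2, nat_lit 3, nat_lit 8, nat_lit 0, nat_lit 1, nat_lit 2, nat_lit 3, nat_lit 4, nat_lit 5, nat_lit 2, nat_lit 1, nat_lit 4, nat_lit 3, nat_lit 2, nat_lit 8, nat_lit 3, nat_lit 11, nat_lit 1, nat_lit 8, nat_lit 12, nat_lit 15, nat_lit 14, nat_lit 16] (Rl.cmp (nat_lit 6110) (nat_lit 6361)))) (FT.node (nat_lit 6364) (FT.leaf (Fct.mk false (nat_lit 37) (nat_lit 0) (nat_lit 37) [nat_lit 7, nat_lit 6, nat_lit 5, nat_lit 4, nat_lit 2, nat_lit 3, nat_lit 8, nat_lit 1, nat_lit 2, nat_lit 3, nat_lit 4, nat_lit 5, nat_lit 6, nat_lit 7, nat_lit 5, nat_lit 6, nat_lit 4, nat_lit 5, nat_lit 3, nat_lit 4, nat_lit 1, nat_lit 2, nat_lit 3, nat_lit 8, nat_lit 0, nat_lit 1, nat_lit 2, nat_lit 3, nat_lit 4, nat_lit 5, nat_lit 2, nat_lit 1, nat_lit 9, nat_lit 4, nat_lit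 3, nat_lit 2, nat_lit 8, nat_lit 3, nat_lit 1, nat_lit 0, nat_lit 2, nat_lit 16, nat_lit 15, nat_lit 14, nat_lit 13, nat_lit 16] (Rl.cmp (nat_lit 6107) (nat_lit 6362)))) (FT.leaf (Fct.mk false (nat_lit 37) (nat_lit 0) (nat_lit 37) [nat_lit 6, nat_lit 7, nat_lit 5, nat_lit 6, nat_lit 4, nat_lit 5, nat_lit 3, nat_lit 4, nat_lit 2, nat_lit 3, nat_lit 8, nat_lit 0, nat_lit 1, nat_lit 2, nat_lit 3, nat_lit 4, nat_lit 5, nat_lit 6, nat_lit 7, nat_lit 8, nat_lit 6, nat_lit 4, nat_lit 5, nat_lit 3, nat_lit 4, nat_lit 1, nat_lit 2, nat_lit 3, nat_lit 8, nat_lit 0, nat_lit 1, nat_lit 2, nat_lit 3, nat_lit 4, nat_lit 5, nat_lit 1, nat_lit 9, nat_lit 4, nat_lit 3, nat_lit 2, nat_lit 8, nat_lit 3, nat_lit 11, nat_lit 1, nat_lit 8, nat_lit 12, nat_lit 15, nat_lit 14, nat_lit 16] (Rl.cmp (nat_lit 6106) (nat_lit 6363)))))) (FT.node (nat_lit 6366) (FT.leaf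 (Fct.mk false (nat_lit 37) (nat_lit 0) (nat_lit 37) [nat_lit 3, nat_lit 8, nat_lit 7, nat_lit 5, nat_lit 6, nat_lit 4, nat_lit 5, nat_lit 3, nat_lit 4, nat_lit 2, nat_lit 3, nat_lit 8, nat_lit 0, nat_lit 1, nat_lit 2, nat_lit 3, nat_lit 4, nat_lit 5, nat_lit 6, nat_lit 7, nat_lit 8, nat_lit 3, nat_lit 4, nat_lit 2, nat_lit 3, nat_lit 8, nat_lit 5, nat_lit 6, nat_lit 4, nat_lit 5, nat_lit 3, nat_lit 4, nat_lit 2, nat_lit 3, nat_lit 8, nat_lit 1, nat_lit 2, nat_lit 3, nat_lit 4, nat_lit 5, nat_lit 3, nat_lit 2, nat_lit 1, nat_lit 4, nat_lit 3, nat_lit 2, nat_lit 8, nat_lit 3, nat_lit 2, nat_lit 8, nat_lit 10, nat_lit 1, nat_lit 15, nat_lit 14, nat_lit 16, nat_lit 8, nat_lit 18, nat_lit 16] (Rl.cmp (nat_lit 6110) (nat_lit 6364)))) (FT.node (nat_lit 6367) (FT.leaf (Fct.mk false (nat_lit 37) (nat_lit 0) (nat_lit 37) [nat_lit 8, nat_lit 6, nat_lit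 7, nat_lit 5, nat_lit 6, nat_lit 4, nat_lit 5, nat_lit 2, nat_lit 3, nat_lit 4, nat_lit 1, nat_lit 2, nat_lit 3, nat_lit 8, nat_lit 0, nat_lit 1, nat_lit 2, nat_lit 3, nat_lit 4, nat_lit 5, nat_lit 6, nat_lit 7, nat_lit 8, nat_lit 5, nat_lit 6, nat_lit 4, nat_lit 5, nat_lit 3, nat_lit 4, nat_lit 2, nat_lit 3, nat_lit 8, nat_lit 0, nat_lit 1, nat_lit 2, nat_lit 3, nat_lit 4, nat_lit 5, nat_lit 2, nat_lit 1, nat_lit 4, nat_lit 3, nat_lit 2, nat_lit 0, nat_lit 1, nat_lit 9, nat_lit 4, nat_lit 3, nat_lit 2, nat_lit 8, nat_lit 3, nat_lit 9, nat_lit 12, nat_lit 8, nat_lit 16, nat_lit 14, nat_lit 13, nat_lit 12, nat_lit 19, nat_lit 16] (Rl.cmp (nat_lit 6110) (nat_lit 6365)))) (FT.leaf (Fct.mk false (nat_lit 37) (nat_lit 0) (nat_lit 37) [nat_lit 2, nat_lit 3, nat_lit 8, nat_lit 5, nat_lit 6, nat_lit 4, nat_lit 5, nat_lit 3, nat_lit 4, nat_lit 2, nat_lit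 3, nat_lit 8, nat_lit 1, nat_lit 2, nat_lit 3, nat_lit 4, nat_lit 5, nat_lit 1, nat_lit 12, nat_lit 15, nat_lit 14, nat_lit 13, nat_lit 12, nat_lit 19, nat_lit 16] (Rl.cmp (nat_lit 6110) (nat_lit 6366))))))) (FT.node (nat_lit 6371) (FT.node (nat_lit 6369) (FT.leaf (Fct.mk false (nat_lit 37) (nat_lit 0) (nat_lit 37) [nat_lit 8, nat_lit 5, nat_lit 3, nat_lit 4, nat_lit 2, nat_lit 3, nat_lit 8, nat_lit 0, nat_lit 1, nat_lit 2, nat_lit 3, nat_lit 4, nat_lit 5, nat_lit 3, nat_lit 9, nat_lit 2, nat_lit 12, nat_lit 15, nat_lit 14, nat_lit 13, nat_lit 12, nat_lit 19, nat_lit 16] (Rl.cmp (nat_lit 6107) (nat_lit 6367)))) (FT.node (nat_lit 6370) (FT.leaf (Fct.mk false (nat_lit 37) (nat_lit 0) (nat_lit 37) [nat_lit 8, nat_lit 5, nat_lit 6, nat_lit 4, nat_lit 5, nat_lit 3, nat_lit 4, nat_lit 1, nat_lit 2, nat_lit 3, nat_lit 8, nat_lit 0, nat_lit 1, nat_lit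 2, nat_lit 3, nat_lit 4, nat_lit 5, nat_lit 3, nat_lit 2, nat_lit 0, nat_lit 1, nat_lit 4, nat_lit 3, nat_lit 2, nat_lit 8, nat_lit 3, nat_lit 10, nat_lit 1, nat_lit 15, nat_lit 13, nat_lit 12, nat_lit 16] (Rl.cmp (nat_lit 6106) (nat_lit 6368)))) (FT.leaf (Fct.mk false (nat_lit 36) (nat_lit 0) (nat_lit 36) [nat_lit 6, nat_lit 3, nat_lit 10, nat_lit 14, nat_lit 12, nat_lit 16] (Rl.cmp (nat_lit 5806) (nat_lit 6072)))))) (FT.node (nat_lit 6373) (FT.node (nat_lit 6372) (FT.leaf (Fct.mk false (nat_lit 36) (nat_lit 0) (nat_lit 36) [nat_lit 6, nat_lit 0, nat_lit 12, nat_lit 15, nat_lit 12, nat_lit 16] (Rl.cmp (nat_lit 5806) (nat_lit 6370)))) (FT.leaf (Fct.mk false (nat_lit 36) (nat_lit 0) (nat_lit 36) [nat_lit 6, nat_lit 2, nat_lit 3, nat_lit 2, nat_lit 10, nat_lit 1, nat_lit 14, nat_lit 16] (Rl.cmp (nat_lit 5806) (nat_lit 6371))))) (FT.node (nat_lit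 6374) (FT.leaf (Fct.mk false (nat_lit 36) (nat_lit 0) (nat_lit 36) [nat_lit 4, nat_lit 3, nat_lit 8, nat_lit 2, nat_lit 3, nat_lit 4, nat_lit 5, nat_lit 3, nat_lit 2, nat_lit 1, nat_lit 8, nat_lit 3, nat_lit 2, nat_lit 0, nat_lit 1, nat_lit 9, nat_lit 4, nat_lit 3, nat_lit 2, nat_lit 8, nat_lit 3, nat_lit 8, nat_lit 10, nat_lit 1, nat_lit 8, nat_lit 12, nat_lit 15, nat_lit 14, nat_lit 17, nat_lit 16] (Rl.cmp (nat_lit 5814) (nat_lit 6372)))) (FT.leaf (Fct.mk true (nat_lit 37) (nat_lit 21138) (nat_lit 36) [nat_lit 5, nat_lit 4, nat_lit 3, nat_lit 8, nat_lit 6, nat_lit 7, nat_lit 5, nat_lit 6, nat_lit 4, nat_lit 5, nat_lit 3, nat_lit 4, nat_lit 2, nat_lit 3, nat_lit 8, nat_lit 1, nat_lit 2, nat_lit 3, nat_lit 4, nat_lit 5, nat_lit 6, nat_lit 7, nat_lit 4, nat_lit 5, nat_lit 6, nat_lit 3, nat_lit 4, nat_lit 5, nat_lit 2, nat_lit 3, nat_lit 4, nat_lit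 1, nat_lit 2, nat_lit 3, nat_lit 8, nat_lit 0, nat_lit 1, nat_lit 2, nat_lit 3, nat_lit 4, nat_lit 5, nat_lit 3, nat_lit 2, nat_lit 1, nat_lit 4, nat_lit 3, nat_lit 2, nat_lit 0, nat_lit 1, nat_lit 9, nat_lit 4, nat_lit 3, nat_lit 2, nat_lit 8, nat_lit 3, nat_lit 0, nat_lit 15, nat_lit 8] (Rl.rel (nat_lit 0) [nat_lit 3, nat_lit 8, nat_lit 2, nat_lit 3, nat_lit 4, nat_lit 5, nat_lit 9, nat_lit 4, nat_lit 11, nat_lit 2, nat_lit 12, nat_lit 15, nat_lit 14, nat_lit 17, nat_lit 12] (nat_lit 37) (nat_lit 1) [nat_lit 6353] [nat_lit 6369, nat_lit 6342])))))))) (FT.node (nat_lit 6387) (FT.node (nat_lit 6381) (FT.node (nat_lit 6378) (FT.node (nat_lit 6376) (FT.leaf (Fct.mk true (nat_lit 37) (nat_lit 124) (nat_lit 36) [nat_lit 5, nat_lit 4, nat_lit 3, nat_lit 8, nat_lit 1, nat_lit 2, nat_lit 3, nat_lit 4, nat_lit 5, nat_lit 6, nat_lit 7, nat_lit 8, nat_lit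 6, nat_lit 5, nat_lit 3, nat_lit 4, nat_lit 2, nat_lit 3, nat_lit 8, nat_lit 1, nat_lit 2, nat_lit 3, nat_lit 4, nat_lit 5, nat_lit 3, nat_lit 2, nat_lit 1, nat_lit 4, nat_lit 3, nat_lit 2, nat_lit 0, nat_lit 1, nat_lit 9, nat_lit 4, nat_lit 3, nat_lit 2, nat_lit 8, nat_lit 3, nat_lit 11, nat_lit 10, nat_lit 1, nat_lit 12, nat_lit 8, nat_lit 16, nat_lit 14, nat_lit 17, nat_lit 12, nat_lit 16] (Rl.t1 (nat_lit 6374) (nat_lit 6360)))) (FT.node (nat_lit 6377) (FT.leaf (Fct.mk true (nat_lit 36) (nat_lit 75080) (nat_lit 37) [nat_lit 5, nat_lit 4, nat_lit 1, nat_lit 2, nat_lit 3, nat_lit 8, nat_lit 0, nat_lit 1, nat_lit 2, nat_lit 3, nat_lit 4, nat_lit 5, nat_lit 6, nat_lit 7, nat_lit 8, nat_lit 6, nat_lit 4, nat_lit 5, nat_lit 3, nat_lit 4, nat_lit 2, nat_lit 3, nat_lit 8, nat_lit 1, nat_lit 2, nat_lit 3, nat_lit 4, nat_lit 5, nat_lit 2, nat_lit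 8, nat_lit 3, nat_lit 1, nat_lit 0, nat_lit 2, nat_lit 12, nat_lit 15, nat_lit 17, nat_lit 19] (Rl.inv (nat_lit 6375)))) (FT.leaf (Fct.mk true (nat_lit 36) (nat_lit 14470) (nat_lit 37) [nat_lit 7, nat_lit 2, nat_lit 3, nat_lit 8, nat_lit 6, nat_lit 4, nat_lit 5, nat_lit 3, nat_lit 4, nat_lit 2, nat_lit 3, nat_lit 8, nat_lit 1, nat_lit 2, nat_lit 3, nat_lit 4, nat_lit 5, nat_lit 2, nat_lit 1, nat_lit 4, nat_lit 3, nat_lit 2, nat_lit 0, nat_lit 1, nat_lit 9, nat_lit 4, nat_lit 3, nat_lit 2, nat_lit 8, nat_lit 3, nat_lit 1, nat_lit 9, nat_lit 12, nat_lit 15, nat_lit 12, nat_lit 18, nat_lit 16] (Rl.t1 (nat_lit 6376) (nat_lit 6373)))))) (FT.node (nat_lit 6379) (FT.leaf (Fct.mk false (nat_lit 37) (nat_lit 0) (nat_lit 37) [nat_lit 2, nat_lit 3, nat_lit 8, nat_lit 6, nat_lit 7, nat_lit 5, nat_lit 6, nat_lit 4, nat_lit 5, nat_lit 3, nat_lit 4, nat_lit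 2, nat_lit 3, nat_lit 8, nat_lit 0, nat_lit 1, nat_lit 2, nat_lit 3, nat_lit 4, nat_lit 5, nat_lit 6, nat_lit 7, nat_lit 5, nat_lit 1, nat_lit 3, nat_lit 2, nat_lit 0, nat_lit 1, nat_lit 9, nat_lit 4, nat_lit 3, nat_lit 2, nat_lit 8, nat_lit 3, nat_lit 2, nat_lit 13, nat_lit 16] (Rl.cmp (nat_lit 6106) (nat_lit 6110)))) (FT.node (nat_lit 6380) (FT.leaf (Fct.mk false (nat_lit 37) (nat_lit 0) (nat_lit 37) [nat_lit 8, nat_lit 7, nat_lit 6, nat_lit 4, nat_lit 5, nat_lit 3, nat_lit 4, nat_lit 1, nat_lit 2, nat_lit 3, nat_lit 8, nat_lit 0, nat_lit 1, nat_lit 2, nat_lit 3, nat_lit 4, nat_lit 5, nat_lit 6, nat_lit 7, nat_lit 0, nat_lit 1, nat_lit 2, nat_lit 3, nat_lit 4, nat_lit 5, nat_lit 2, nat_lit 1, nat_lit 9, nat_lit 4, nat_lit 3, nat_lit 2, nat_lit 8, nat_lit 3, nat_lit 11, nat_lit 2, nat_lit 8, nat_lit 18, nat_lit 16] (Rl.cmp (nat_lit 6110) (nat_lit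 6378)))) (FT.leaf (Fct.mk false (nat_lit 37) (nat_lit 0) (nat_lit 37) [nat_lit 7, nat_lit 6, nat_lit 4, nat_lit 5, nat_lit 3, nat_lit 4, nat_lit 2, nat_lit 3, nat_lit 8, nat_lit 1, nat_lit 2, nat_lit 3, nat_lit 4, nat_lit 5, nat_lit 6, nat_lit 7, nat_lit 8, nat_lit 4, nat_lit 5, nat_lit 3, nat_lit 4, nat_lit 2, nat_lit 3, nat_lit 8, nat_lit 1, nat_lit 2, nat_lit 3, nat_lit 4, nat_lit 5, nat_lit 0, nat_lit 1, nat_lit 2, nat_lit 3, nat_lit 8, nat_lit 10, nat_lit 9, nat_lit 2, nat_lit 8, nat_lit 16, nat_lit 14, nat_lit 13, nat_lit 12, nat_lit 18, nat_lit 16] (Rl.cmp (nat_lit 6110) (nat_lit 6379))))))) (FT.node (nat_lit 6384) (FT.node (nat_lit 6382) (FT.leaf (Fct.mk false (nat_lit 37) (nat_lit 0) (nat_lit 37) [nat_lit 7, nat_lit 6, nat_lit 4, nat_lit 5, nat_lit 3, nat_lit 4, nat_lit 2, nat_lit 3, nat_lit 8, nat_lit 0, nat_lit 1, nat_lit 2, nat_lit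 3, nat_lit 4, nat_lit 5, nat_lit 6, nat_lit 7, nat_lit 5, nat_lit 3, nat_lit 4, nat_lit 2, nat_lit 3, nat_lit 8, nat_lit 1, nat_lit 2, nat_lit 3, nat_lit 4, nat_lit 5, nat_lit 0, nat_lit 1, nat_lit 2, nat_lit 3, nat_lit 8, nat_lit 10, nat_lit 9, nat_lit 2, nat_lit 12, nat_lit 8, nat_lit 16, nat_lit 14, nat_lit 13, nat_lit 19] (Rl.cmp (nat_lit 6106) (nat_lit 6380)))) (FT.node (nat_lit 6383) (FT.leaf (Fct.mk false (nat_lit 37) (nat_lit 0) (nat_lit 37) [nat_lit 4, nat_lit 5, nat_lit 3, nat_lit 4, nat_lit 1, nat_lit 2, nat_lit 3, nat_lit 8, nat_lit 0, nat_lit 1, nat_lit 2, nat_lit 3, nat_lit 4, nat_lit 5, nat_lit 6, nat_lit 7, nat_lit 8, nat_lit 4, nat_lit 5, nat_lit 3, nat_lit 4, nat_lit 2, nat_lit 3, nat_lit 8, nat_lit 0, nat_lit 1, nat_lit 2, nat_lit 3, nat_lit 4, nat_lit 5, nat_lit 4, nat_lit 3, nat_lit 2, nat_lit 0, nat_lit 1, nat_lit 9, nat_lit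 4, nat_lit 3, nat_lit 2, nat_lit 8, nat_lit 3, nat_lit 8, nat_lit 10, nat_lit 9, nat_lit 2, nat_lit 8, nat_lit 16, nat_lit 15, nat_lit 14, nat_lit 17, nat_lit 12, nat_lit 19, nat_lit 16] (Rl.cmp (nat_lit 6110) (nat_lit 6381)))) (FT.leaf (Fct.mk false (nat_lit 37) (nat_lit 0) (nat_lit 37) [nat_lit 4, nat_lit 3, nat_lit 8, nat_lit 6, nat_lit 7, nat_lit 5, nat_lit 6, nat_lit 4, nat_lit 5, nat_lit 3, nat_lit 4, nat_lit 1, nat_lit 2, nat_lit 3, nat_lit 8, nat_lit 0, nat_lit 1, nat_lit 2, nat_lit 3, nat_lit 4, nat_lit 5, nat_lit 6, nat_lit 7, nat_lit 3, nat_lit 4, nat_lit 2, nat_lit 3, nat_lit 8, nat_lit 1, nat_lit 2, nat_lit 3, nat_lit 4, nat_lit 5, nat_lit 3, nat_lit 2, nat_lit 1, nat_lit 4, nat_lit 3, nat_lit 2, nat_lit 8, nat_lit 3, nat_lit 11, nat_lit 1, nat_lit 12, nat_lit 8, nat_lit 16, nat_lit 14, nat_lit 17, nat_lit 12, nat_lit 18] (Rl.cmp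 (nat_lit 6110) (nat_lit 6382)))))) (FT.node (nat_lit 6385) (FT.leaf (Fct.mk false (nat_lit 37) (nat_lit 0) (nat_lit 37) [nat_lit 2, nat_lit 3, nat_lit 8, nat_lit 6, nat_lit 7, nat_lit 5, nat_lit 6, nat_lit 4, nat_lit 5, nat_lit 3, nat_lit 4, nat_lit 2, nat_lit 3, nat_lit 8, nat_lit 0, nat_lit 1, nat_lit 2, nat_lit 3, nat_lit 4, nat_lit 5, nat_lit 6, nat_lit 7, nat_lit 5, nat_lit 1, nat_lit 3, nat_lit 2, nat_lit 0, nat_lit 1, nat_lit 9, nat_lit 4, nat_lit 3, nat_lit 2, nat_lit 8, nat_lit 3, nat_lit 0, nat_lit 13, nat_lit 16] (Rl.cmp (nat_lit 6107) (nat_lit 6110)))) (FT.node (nat_lit 6386) (FT.leaf (Fct.mk false (nat_lit 37) (nat_lit 0) (nat_lit 37) [nat_lit 8, nat_lit 7, nat_lit 6, nat_lit 4, nat_lit 5, nat_lit 3, nat_lit 4, nat_lit 1, nat_lit 2, nat_lit 3, nat_lit 8, nat_lit 0, nat_lit 1, nat_lit 2, nat_lit 3, nat_lit 4, nat_lit 5, nat_lit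 6, nat_lit 7, nat_lit 0, nat_lit 1, nat_lit 2, nat_lit 3, nat_lit 4, nat_lit 5, nat_lit 2, nat_lit 1, nat_lit 9, nat_lit 4, nat_lit 3, nat_lit 2, nat_lit 8, nat_lit 3, nat_lit 10, nat_lit 9, nat_lit 2, nat_lit 17, nat_lit 19, nat_lit 16] (Rl.cmp (nat_lit 6110) (nat_lit 6384)))) (FT.leaf (Fct.mk false (nat_lit 37) (nat_lit 0) (nat_lit 37) [nat_lit 7, nat_lit 6, nat_lit 4, nat_lit 5, nat_lit 3, nat_lit 4, nat_lit 2, nat_lit 3, nat_lit 8, nat_lit 1, nat_lit 2, nat_lit 3, nat_lit 4, nat_lit 5, nat_lit 6, nat_lit 7, nat_lit 8, nat_lit 4, nat_lit 5, nat_lit 3, nat_lit 4, nat_lit 2, nat_lit 3, nat_lit 8, nat_lit 1, nat_lit 2, nat_lit 3, nat_lit 4, nat_lit 5, nat_lit 0, nat_lit 1, nat_lit 2, nat_lit 3, nat_lit 11, nat_lit 2, nat_lit 10, nat_lit 1, nat_lit 14, nat_lit 12, nat_lit 18, nat_lit 16] (Rl.cmp (nat_lit 6110) (nat_lit 6385)))))))) (FT.node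 (nat_lit 6393) (FT.node (nat_lit 6390) (FT.node (nat_lit 6388) (FT.leaf (Fct.mk false (nat_lit 37) (nat_lit 0) (nat_lit 37) [nat_lit 7, nat_lit 6, nat_lit 4, nat_lit 5, nat_lit 3, nat_lit 4, nat_lit 2, nat_lit 3, nat_lit 8, nat_lit 0, nat_lit 1, nat_lit 2, nat_lit 3, nat_lit 4, nat_lit 5, nat_lit 6, nat_lit 7, nat_lit 5, nat_lit 3, nat_lit 4, nat_lit 2, nat_lit 3, nat_lit 8, nat_lit 1, nat_lit 2, nat_lit 3, nat_lit 4, nat_lit 5, nat_lit 0, nat_lit 1, nat_lit 2, nat_lit 3, nat_lit 11, nat_lit 2, nat_lit 10, nat_lit 1, nat_lit 16, nat_lit 14, nat_lit 19] (Rl.cmp (nat_lit 6106) (nat_lit 6386)))) (FT.node (nat_lit 6389) (FT.leaf (Fct.mk false (nat_lit 37) (nat_lit 0) (nat_lit 37) [nat_lit 4, nat_lit 5, nat_lit 3, nat_lit 4, nat_lit 1, nat_lit 2, nat_lit 3, nat_lit 8, nat_lit 0, nat_lit 1, nat_lit 2, nat_lit 3, nat_lit 4, nat_lit 5, nat_lit 6, nat_lit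 7, nat_lit 8, nat_lit 4, nat_lit 5, nat_lit 3, nat_lit 4, nat_lit 2, nat_lit 3, nat_lit 8, nat_lit 0, nat_lit 1, nat_lit 2, nat_lit 3, nat_lit 4, nat_lit 5, nat_lit 4, nat_lit 3, nat_lit 2, nat_lit 0, nat_lit 1, nat_lit 9, nat_lit 4, nat_lit 3, nat_lit 2, nat_lit 8, nat_lit 3, nat_lit 8, nat_lit 10, nat_lit 1, nat_lit 8, nat_lit 12, nat_lit 15, nat_lit 14, nat_lit 17, nat_lit 12, nat_lit 18] (Rl.cmp (nat_lit 6110) (nat_lit 6387)))) (FT.leaf (Fct.mk false (nat_lit 37) (nat_lit 0) (nat_lit 37) [nat_lit 4, nat_lit 3, nat_lit 8, nat_lit 6, nat_lit 7, nat_lit 5, nat_lit 6, nat_lit 4, nat_lit 5, nat_lit 3, nat_lit 4, nat_lit 1, nat_lit 2, nat_lit 3, nat_lit 8, nat_lit 0, nat_lit 1, nat_lit 2, nat_lit 3, nat_lit 4, nat_lit 5, nat_lit 6, nat_lit 7, nat_lit 3, nat_lit 4, nat_lit 2, nat_lit 3, nat_lit 8, nat_lit 1, nat_lit 2, nat_lit 3, nat_lit 4, nat_lit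 5, nat_lit 3, nat_lit 2, nat_lit 1, nat_lit 4, nat_lit 3, nat_lit 2, nat_lit 8, nat_lit 3, nat_lit 2, nat_lit 10, nat_lit 1, nat_lit 12, nat_lit 8, nat_lit 16, nat_lit 14, nat_lit 8, nat_lit 18, nat_lit 16] (Rl.cmp (nat_lit 6110) (nat_lit 6388)))))) (FT.node (nat_lit 6391) (FT.leaf (Fct.mk false (nat_lit 37) (nat_lit 0) (nat_lit 37) [nat_lit 4, nat_lit 3, nat_lit 8, nat_lit 2, nat_lit 3, nat_lit 4, nat_lit 5, nat_lit 6, nat_lit 7, nat_lit 8, nat_lit 6, nat_lit 4, nat_lit 5, nat_lit 3, nat_lit 4, nat_lit 2, nat_lit 3, nat_lit 8, nat_lit 1, nat_lit 2, nat_lit 3, nat_lit 4, nat_lit 5, nat_lit 2, nat_lit 3, nat_lit 8, nat_lit 10, nat_lit 8, nat_lit 16, nat_lit 15, nat_lit 14, nat_lit 8, nat_lit 16] (Rl.cmp (nat_lit 6110) (nat_lit 6389)))) (FT.node (nat_lit 6392) (FT.leaf (Fct.mk false (nat_lit 37) (nat_lit 0) (nat_lit 37) [nat_lit 0, nat_lit 1,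 nat_lit 2, nat_lit 3, nat_lit 4, nat_lit 5, nat_lit 6, nat_lit 7, nat_lit 8, nat_lit 4, nat_lit 5, nat_lit 3, nat_lit 4, nat_lit 2, nat_lit 3, nat_lit 8, nat_lit 0, nat_lit 1, nat_lit 2, nat_lit 3, nat_lit 4, nat_lit 5, nat_lit 1, nat_lit 2, nat_lit 8, nat_lit 3, nat_lit 11, nat_lit 1, nat_lit 8, nat_lit 12, nat_lit 15, nat_lit 16, nat_lit 8, nat_lit 18, nat_lit 16] (Rl.cmp (nat_lit 6110) (nat_lit 6390)))) (FT.leaf (Fct.mk false (nat_lit 37) (nat_lit 0) (nat_lit 37) [nat_lit 1, nat_lit 2, nat_lit 3, nat_lit 4, nat_lit 5, nat_lit 6, nat_lit 7, nat_lit 8, nat_lit 4, nat_lit 5, nat_lit 3, nat_lit 4, nat_lit 1, nat_lit 2, nat_lit 3, nat_lit 8, nat_lit 0, nat_lit 1, nat_lit 2, nat_lit 3, nat_lit 4, nat_lit 5, nat_lit 1, nat_lit 2, nat_lit 8, nat_lit 3, nat_lit 11, nat_lit 1, nat_lit 12, nat_lit 15, nat_lit 14, nat_lit 16, nat_lit 8, nat_lit 18,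 nat_lit 16] (Rl.cmp (nat_lit 6106) (nat_lit 6391))))))) (FT.node (nat_lit 6396) (FT.node (nat_lit 6394) (FT.leaf (Fct.mk false (nat_lit 37) (nat_lit 0) (nat_lit 37) [nat_lit 4, nat_lit 5, nat_lit 6, nat_lit 7, nat_lit 3, nat_lit 8, nat_lit 2, nat_lit 3, nat_lit 4, nat_lit 1, nat_lit 2, nat_lit 3, nat_lit 8, nat_lit 0, nat_lit 1, nat_lit 2, nat_lit 3, nat_lit 4, nat_lit 5, nat_lit 1, nat_lit 2, nat_lit 0, nat_lit 1, nat_lit 4, nat_lit 3, nat_lit 2, nat_lit 8, nat_lit 3, nat_lit 11, nat_lit 1, nat_lit 14, nat_lit 16, nat_lit 8, nat_lit 18] (Rl.cmp (nat_lit 6106) (nat_lit 6392)))) (FT.node (nat_lit 6395) (FT.leaf (Fct.mk true (nat_lit 37) (nat_lit 5283) (nat_lit 37) [nat_lit 4, nat_lit 5, nat_lit 6, nat_lit 7, nat_lit 4, nat_lit 3, nat_lit 8, nat_lit 5, nat_lit 6, nat_lit 4, nat_lit 5, nat_lit 3, nat_lit 4, nat_lit 2, nat_lit 3, nat_lit 8, nat_lit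 1, nat_lit 2, nat_lit 3, nat_lit 4, nat_lit 5, nat_lit 1, nat_lit 3, nat_lit 2, nat_lit 0, nat_lit 1, nat_lit 4, nat_lit 3, nat_lit 2, nat_lit 8, nat_lit 3, nat_lit 0, nat_lit 2, nat_lit 8, nat_lit 16, nat_lit 15, nat_lit 14, nat_lit 19] (Rl.rel (nat_lit 0) [nat_lit 3, nat_lit 8, nat_lit 2, nat_lit 3, nat_lit 4, nat_lit 5, nat_lit 9, nat_lit 4, nat_lit 11, nat_lit 1, nat_lit 12, nat_lit 15, nat_lit 17, nat_lit 12] (nat_lit 37) (nat_lit 2) [nat_lit 6353, nat_lit 6383, nat_lit 6353] []))) (FT.leaf (Fct.mk true (nat_lit 37) (nat_lit 51) (nat_lit 37) [nat_lit 3, nat_lit 8, nat_lit 5, nat_lit 2, nat_lit 3, nat_lit 4, nat_lit 1, nat_lit 2, nat_lit 3, nat_lit 8, nat_lit 0, nat_lit 1, nat_lit 2, nat_lit 3, nat_lit 4, nat_lit 5, nat_lit 4, nat_lit 3, nat_lit 2, nat_lit 1, nat_lit 8, nat_lit 3, nat_lit 2, nat_lit 0, nat_lit 1, nat_lit 4, nat_lit 3, nat_lit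 2, nat_lit 8, nat_lit 3, nat_lit 11, nat_lit 8, nat_lit 10, nat_lit 1, nat_lit 16, nat_lit 8, nat_lit 12, nat_lit 15, nat_lit 13] (Rl.t1 (nat_lit 6394) (nat_lit 6393)))))) (FT.node (nat_lit 6398) (FT.node (nat_lit 6397) (FT.leaf (Fct.mk false (nat_lit 37) (nat_lit 0) (nat_lit 37) [nat_lit 2, nat_lit 3, nat_lit 8, nat_lit 6, nat_lit 7, nat_lit 5, nat_lit 6, nat_lit 4, nat_lit 5, nat_lit 3, nat_lit 4, nat_lit 2, nat_lit 3, nat_lit 8, nat_lit 0, nat_lit 1, nat_lit 2, nat_lit 3, nat_lit 4, nat_lit 5, nat_lit 6, nat_lit 7, nat_lit 5, nat_lit 1, nat_lit 3, nat_lit 2, nat_lit 0, nat_lit 1, nat_lit 9, nat_lit 4, nat_lit 3, nat_lit 2, nat_lit 8, nat_lit 3, nat_lit 2, nat_lit 13, nat_lit 16] (Rl.cmp (nat_lit 6106) (nat_lit 6110)))) (FT.leaf (Fct.mk false (nat_lit 37) (nat_lit 0) (nat_lit 37) [nat_lit 8, nat_lit 7, nat_lit 6, nat_lit 4, nat_lit 5, nat_lit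 3, nat_lit 4, nat_lit 1, nat_lit 2, nat_lit 3, nat_lit 8, nat_lit 0, nat_lit 1, nat_lit 2, nat_lit 3, nat_lit 4, nat_lit 5, nat_lit 6, nat_lit 7, nat_lit 0, nat_lit 1, nat_lit 2, nat_lit 3, nat_lit 4, nat_lit 5, nat_lit 2, nat_lit 1, nat_lit 9, nat_lit 4, nat_lit 3, nat_lit 2, nat_lit 8, nat_lit 3, nat_lit 11, nat_lit 2, nat_lit 8, nat_lit 18, nat_lit 16] (Rl.cmp (nat_lit 6110) (nat_lit 6396))))) (FT.node (nat_lit 6399) (FT.leaf (Fct.mk false (nat_lit 37) (nat_lit 0) (nat_lit 37) [nat_lit 7, nat_lit 6, nat_lit 4, nat_lit 5, nat_lit 3, nat_lit 4, nat_lit 2, nat_lit 3, nat_lit 8, nat_lit 1, nat_lit 2, nat_lit 3, nat_lit 4, nat_lit 5, nat_lit 6, nat_lit 7, nat_lit 8, nat_lit 4, nat_lit 5, nat_lit 3, nat_lit 4, nat_lit 2, nat_lit 3, nat_lit 8, nat_lit 1, nat_lit 2, nat_lit 3, nat_lit 4, nat_lit 5, nat_lit 0, nat_lit 1, nat_lit 2, nat_lit 3, nat_lit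 8, nat_lit 10, nat_lit 9, nat_lit 2, nat_lit 8, nat_lit 16, nat_lit 14, nat_lit 13, nat_lit 12, nat_lit 18, nat_lit 16] (Rl.cmp (nat_lit 6110) (nat_lit 6397)))) (FT.leaf (Fct.mk false (nat_lit 37) (nat_lit 0) (nat_lit 37) [nat_lit 4, nat_lit 5, nat_lit 2, nat_lit 3, nat_lit 4, nat_lit 1, nat_lit 2, nat_lit 3, nat_lit 8, nat_lit 0, nat_lit 1, nat_lit 2, nat_lit 3, nat_lit 4, nat_lit 5, nat_lit 6, nat_lit 7, nat_lit 4, nat_lit 5, nat_lit 3, nat_lit 4, nat_lit 2, nat_lit 3, nat_lit 8, nat_lit 1, nat_lit 2, nat_lit 3, nat_lit 4, nat_lit 5, nat_lit 2, nat_lit 3, nat_lit 8, nat_lit 4, nat_lit 3, nat_lit 2, nat_lit 1, nat_lit 9, nat_lit 4, nat_lit 3, nat_lit 2, nat_lit 8, nat_lit 3, nat_lit 8, nat_lit 10, nat_lit 9, nat_lit 2, nat_lit 12, nat_lit 15, nat_lit 13, nat_lit 12, nat_lit 18] (Rl.cmp (nat_lit 6110) (nat_lit 6398)))))))))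

/-- some facts -/
noncomputable def ftc128 : FT := FT.node (nat_lit 6425) (FT.node (nat_lit 6412) (FT.node (nat_lit 6406) (FT.node (nat_lit 6403) (FT.node (nat_lit 6401) (FT.leaf (Fct.mk false (nat_lit 37) (nat_lit 0) (nat_lit 37) [nat_lit 4, nat_lit 5, nat_lit 6, nat_lit 3, nat_lit 4, nat_lit 5, nat_lit 2, nat_lit 3, nat_lit 4, nat_lit 1, nat_lit 2, nat_lit 3, nat_lit 8, nat_lit 0, nat_lit 1, nat_lit 2, nat_lit 3, nat_lit 4, nat_lit 5, nat_lit 6, nat_lit 7, nat_lit 1, nat_lit 2, nat_lit 3, nat_lit 8, nat_lit 0, nat_lit 1, nat_lit 2, nat_lit 3, nat_lit 4, nat_lit 5, nat_lit 3, nat_lit 8, nat_lit 4, nat_lit 3, nat_lit 2, nat_lit 1, nat_lit 9, nat_lit 4, nat_lit 3, nat_lit 2, nat_lit 8, nat_lit 3, nat_lit 8, nat_lit 10, nat_lit 9, nat_lit 2, nat_lit 12, nat_lit 15, nat_lit 13, nat_lit 18] (Rl.cmp (nat_lit 6106) (nat_lit 6399)))) (FT.node (nat_lit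 6402) (FT.leaf (Fct.mk false (nat_lit 37) (nat_lit 0) (nat_lit 37) [nat_lit 4, nat_lit 5, nat_lit 3, nat_lit 4, nat_lit 1, nat_lit 2, nat_lit 3, nat_lit 8, nat_lit 0, nat_lit 1, nat_lit 2, nat_lit 3, nat_lit 4, nat_lit 5, nat_lit 6, nat_lit 7, nat_lit 8, nat_lit 3, nat_lit 4, nat_lit 2, nat_lit 3, nat_lit 8, nat_lit 1, nat_lit 2, nat_lit 3, nat_lit 4, nat_lit 5, nat_lit 3, nat_lit 8, nat_lit 4, nat_lit 3, nat_lit 2, nat_lit 1, nat_lit 9, nat_lit 4, nat_lit 3, nat_lit 2, nat_lit 8, nat_lit 3, nat_lit 10, nat_lit 9, nat_lit 2, nat_lit 12, nat_lit 15, nat_lit 13, nat_lit 12, nat_lit 18] (Rl.cmp (nat_lit 6106) (nat_lit 6400)))) (FT.leaf (Fct.mk false (nat_lit 37) (nat_lit 0) (nat_lit 37) [nat_lit 4, nat_lit 3, nat_lit 8, nat_lit 6, nat_lit 7, nat_lit 5, nat_lit 6, nat_lit 4, nat_lit 5, nat_lit 3, nat_lit 4, nat_lit 1, nat_lit 2, nat_lit 3, nat_lit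 8, nat_lit 0, nat_lit 1, nat_lit 2, nat_lit 3, nat_lit 4, nat_lit 5, nat_lit 6, nat_lit 7, nat_lit 4, nat_lit 3, nat_lit 8, nat_lit 0, nat_lit 1, nat_lit 2, nat_lit 3, nat_lit 4, nat_lit 5, nat_lit 0, nat_lit 1, nat_lit 2, nat_lit 3, nat_lit 11, nat_lit 1, nat_lit 13, nat_lit 12, nat_lit 19, nat_lit 16] (Rl.cmp (nat_lit 6110) (nat_lit 6401)))))) (FT.node (nat_lit 6404) (FT.leaf (Fct.mk false (nat_lit 36) (nat_lit 0) (nat_lit 36) [nat_lit 6, nat_lit 5, nat_lit 4, nat_lit 3, nat_lit 8, nat_lit 1, nat_lit 2, nat_lit 3, nat_lit 4, nat_lit 5, nat_lit 2, nat_lit 1, nat_lit 3, nat_lit 2, nat_lit 0, nat_lit 1, nat_lit 4, nat_lit 3, nat_lit 2, nat_lit 8, nat_lit 3, nat_lit 8, nat_lit 10, nat_lit 12, nat_lit 19, nat_lit 16] (Rl.cmp (nat_lit 5810) (nat_lit 6071)))) (FT.node (nat_lit 6405) (FT.leaf (Fct.mk false (nat_lit 36) (nat_lit 0) (nat_lit 36) [nat_lit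 8, nat_lit 6, nat_lit 5, nat_lit 3, nat_lit 4, nat_lit 2, nat_lit 3, nat_lit 8, nat_lit 0, nat_lit 1, nat_lit 2, nat_lit 3, nat_lit 4, nat_lit 5, nat_lit 3, nat_lit 2, nat_lit 1, nat_lit 4, nat_lit 3, nat_lit 2, nat_lit 8, nat_lit 3, nat_lit 1, nat_lit 8, nat_lit 12, nat_lit 15, nat_lit 14, nat_lit 17, nat_lit 19] (Rl.cmp (nat_lit 5814) (nat_lit 6403)))) (FT.leaf (Fct.mk false (nat_lit 36) (nat_lit 0) (nat_lit 36) [nat_lit 4, nat_lit 3, nat_lit 8, nat_lit 5, nat_lit 6, nat_lit 4, nat_lit 5, nat_lit 3, nat_lit 4, nat_lit 1, nat_lit 2, nat_lit 3, nat_lit 8, nat_lit 0, nat_lit 1, nat_lit 2, nat_lit 3, nat_lit 4, nat_lit 5, nat_lit 3, nat_lit 2, nat_lit 1, nat_lit 9, nat_lit 4, nat_lit 3, nat_lit 2, nat_lit 8, nat_lit 3, nat_lit 11, nat_lit 10, nat_lit 2, nat_lit 8, nat_lit 10, nat_lit 1, nat_lit 12, nat_lit 15, nat_lit 14, nat_lit 12, nat_lit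 18, nat_lit 16] (Rl.cmp (nat_lit 5804) (nat_lit 6404))))))) (FT.node (nat_lit 6409) (FT.node (nat_lit 6407) (FT.leaf (Fct.mk false (nat_lit 36) (nat_lit 0) (nat_lit 36) [nat_lit 4, nat_lit 2, nat_lit 3, nat_lit 8, nat_lit 5, nat_lit 6, nat_lit 4, nat_lit 5, nat_lit 3, nat_lit 4, nat_lit 2, nat_lit 3, nat_lit 8, nat_lit 0, nat_lit 1, nat_lit 2, nat_lit 3, nat_lit 4, nat_lit 5, nat_lit 3, nat_lit 2, nat_lit 1, nat_lit 4, nat_lit 3, nat_lit 2, nat_lit 8, nat_lit 3, nat_lit 11, nat_lit 10, nat_lit 2, nat_lit 8, nat_lit 10, nat_lit 1, nat_lit 8, nat_lit 12, nat_lit 15, nat_lit 14, nat_lit 12, nat_lit 18, nat_lit 16] (Rl.cmp (nat_lit 5806) (nat_lit 6405)))) (FT.node (nat_lit 6408) (FT.leaf (Fct.mk false (nat_lit 36) (nat_lit 0) (nat_lit 36) [nat_lit 8, nat_lit 2, nat_lit 3, nat_lit 4, nat_lit 1, nat_lit 2, nat_lit 3, nat_lit 8, nat_lit 5, nat_lit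 6, nat_lit 4, nat_lit 5, nat_lit 3, nat_lit 4, nat_lit 2, nat_lit 3, nat_lit 8, nat_lit 1, nat_lit 2, nat_lit 3, nat_lit 4, nat_lit 5, nat_lit 2, nat_lit 3, nat_lit 8, nat_lit 4, nat_lit 3, nat_lit 2, nat_lit 1, nat_lit 9, nat_lit 4, nat_lit 3, nat_lit 2, nat_lit 8, nat_lit 3, nat_lit 8, nat_lit 10, nat_lit 12, nat_lit 15, nat_lit 13, nat_lit 12, nat_lit 19, nat_lit 16] (Rl.cmp (nat_lit 5814) (nat_lit 6406)))) (FT.leaf (Fct.mk false (nat_lit 37) (nat_lit 0) (nat_lit 37) [nat_lit 1, nat_lit 2, nat_lit 3, nat_lit 14] (Rl.cmp (nat_lit 6107) (nat_lit 6106)))))) (FT.node (nat_lit 6410) (FT.leaf (Fct.mk false (nat_lit 37) (nat_lit 0) (nat_lit 37) [nat_lit 8, nat_lit 7, nat_lit 6, nat_lit 5, nat_lit 3, nat_lit 4, nat_lit 2, nat_lit 3, nat_lit 8, nat_lit 1, nat_lit 2, nat_lit 3, nat_lit 4, nat_lit 5, nat_lit 6, nat_lit 7, nat_lit 6, nat_lit 3, nat_lit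 8, nat_lit 4, nat_lit 3, nat_lit 2, nat_lit 1, nat_lit 9, nat_lit 4, nat_lit 3, nat_lit 2, nat_lit 8, nat_lit 3, nat_lit 11, nat_lit 8, nat_lit 10, nat_lit 17, nat_lit 12, nat_lit 18] (Rl.cmp (nat_lit 6110) (nat_lit 6408)))) (FT.node (nat_lit 6411) (FT.leaf (Fct.mk false (nat_lit 37) (nat_lit 0) (nat_lit 37) [nat_lit 3, nat_lit 8, nat_lit 7, nat_lit 6, nat_lit 4, nat_lit 5, nat_lit 3, nat_lit 4, nat_lit 2, nat_lit 3, nat_lit 8, nat_lit 0, nat_lit 1, nat_lit 2, nat_lit 3, nat_lit 4, nat_lit 5, nat_lit 6, nat_lit 7, nat_lit 8, nat_lit 3, nat_lit 4, nat_lit 2, nat_lit 3, nat_lit 8, nat_lit 1, nat_lit 2, nat_lit 3, nat_lit 4, nat_lit 5, nat_lit 4, nat_lit 3, nat_lit 2, nat_lit 0, nat_lit 1, nat_lit 9, nat_lit 4, nat_lit 3, nat_lit 2, nat_lit 8, nat_lit 3, nat_lit 0, nat_lit 2, nat_lit 12, nat_lit 19] (Rl.cmp (nat_lit 6110) (nat_lit 6409)))) (FT.leaf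 (Fct.mk false (nat_lit 37) (nat_lit 0) (nat_lit 37) [nat_lit 7, nat_lit 6, nat_lit 5, nat_lit 4, nat_lit 2, nat_lit 3, nat_lit 8, nat_lit 0, nat_lit 1, nat_lit 2, nat_lit 3, nat_lit 4, nat_lit 5, nat_lit 6, nat_lit 7, nat_lit 5, nat_lit 4, nat_lit 1, nat_lit 2, nat_lit 3, nat_lit 8, nat_lit 0, nat_lit 1, nat_lit 2, nat_lit 3, nat_lit 4, nat_lit 5, nat_lit 1, nat_lit 3, nat_lit 2, nat_lit 0, nat_lit 1, nat_lit 9, nat_lit 4, nat_lit 3, nat_lit 2, nat_lit 8, nat_lit 3, nat_lit 11, nat_lit 10, nat_lit 2, nat_lit 8, nat_lit 10, nat_lit 1, nat_lit 8, nat_lit 16, nat_lit 14, nat_lit 13, nat_lit 19, nat_lit 16] (Rl.cmp (nat_lit 6110) (nat_lit 6410)))))))) (FT.node (nat_lit 6418) (FT.node (nat_lit 6415) (FT.node (nat_lit 6413) (FT.leaf (Fct.mk false (nat_lit 37) (nat_lit 0) (nat_lit 37) [nat_lit 8, nat_lit 5, nat_lit 2, nat_lit 3, nat_lit 4, nat_lit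 1, nat_lit 2, nat_lit 3, nat_lit 8, nat_lit 0, nat_lit 1, nat_lit 2, nat_lit 3, nat_lit 4, nat_lit 5, nat_lit 6, nat_lit 7, nat_lit 3, nat_lit 8, nat_lit 5, nat_lit 6, nat_lit 4, nat_lit 5, nat_lit 3, nat_lit 4, nat_lit 1, nat_lit 2, nat_lit 3, nat_lit 8, nat_lit 0, nat_lit 1, nat_lit 2, nat_lit 3, nat_lit 4, nat_lit 5, nat_lit 3, nat_lit 2, nat_lit 1, nat_lit 8, nat_lit 3, nat_lit 2, nat_lit 0, nat_lit 1, nat_lit 9, nat_lit 4, nat_lit 3, nat_lit 2, nat_lit 8, nat_lit 3, nat_lit 11, nat_lit 2, nat_lit 8, nat_lit 10, nat_lit 1, nat_lit 8, nat_lit 16, nat_lit 14, nat_lit 16, nat_lit 8, nat_lit 18, nat_lit 16] (Rl.cmp (nat_lit 6110) (nat_lit 6411)))) (FT.node (nat_lit 6414) (FT.leaf (Fct.mk false (nat_lit 37) (nat_lit 0) (nat_lit 37) [nat_lit 8, nat_lit 5, nat_lit 3, nat_lit 4, nat_lit 1, nat_lit 2, nat_lit 3, nat_lit 8, nat_lit 0, nat_lit 1,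 nat_lit 2, nat_lit 3, nat_lit 4, nat_lit 5, nat_lit 6, nat_lit 7, nat_lit 5, nat_lit 6, nat_lit 4, nat_lit 5, nat_lit 2, nat_lit 3, nat_lit 4, nat_lit 1, nat_lit 2, nat_lit 3, nat_lit 8, nat_lit 0, nat_lit 1, nat_lit 2, nat_lit 3, nat_lit 4, nat_lit 5, nat_lit 3, nat_lit 2, nat_lit 1, nat_lit 8, nat_lit 3, nat_lit 2, nat_lit 0, nat_lit 1, nat_lit 9, nat_lit 4, nat_lit 3, nat_lit 2, nat_lit 8, nat_lit 3, nat_lit 10, nat_lit 1, nat_lit 8, nat_lit 16, nat_lit 15, nat_lit 14, nat_lit 16, nat_lit 8, nat_lit 19] (Rl.cmp (nat_lit 6106) (nat_lit 6412)))) (FT.leaf (Fct.mk false (nat_lit 37) (nat_lit 0) (nat_lit 37) [nat_lit 8, nat_lit 3, nat_lit 4, nat_lit 2, nat_lit 3, nat_lit 8, nat_lit 5, nat_lit 6, nat_lit 4, nat_lit 5, nat_lit 3, nat_lit 4, nat_lit 2, nat_lit 3, nat_lit 8, nat_lit 0, nat_lit 1, nat_lit 2, nat_lit 3, nat_lit 4, nat_lit 5, nat_lit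 6, nat_lit 7, nat_lit 8, nat_lit 5, nat_lit 3, nat_lit 4, nat_lit 1, nat_lit 2, nat_lit 3, nat_lit 8, nat_lit 0, nat_lit 1, nat_lit 2, nat_lit 3, nat_lit 4, nat_lit 5, nat_lit 3, nat_lit 2, nat_lit 8, nat_lit 3, nat_lit 8, nat_lit 10, nat_lit 9, nat_lit 2, nat_lit 14, nat_lit 17, nat_lit 12, nat_lit 16] (Rl.cmp (nat_lit 6110) (nat_lit 6413)))))) (FT.node (nat_lit 6416) (FT.leaf (Fct.mk false (nat_lit 37) (nat_lit 0) (nat_lit 37) [nat_lit 2, nat_lit 3, nat_lit 8, nat_lit 6, nat_lit 7, nat_lit 5, nat_lit 6, nat_lit 4, nat_lit 5, nat_lit 3, nat_lit 4, nat_lit 2, nat_lit 3, nat_lit 8, nat_lit 1, nat_lit 2, nat_lit 3, nat_lit 4, nat_lit 5, nat_lit 6, nat_lit 7, nat_lit 2, nat_lit 3, nat_lit 8, nat_lit 6, nat_lit 4, nat_lit 5, nat_lit 3, nat_lit 4, nat_lit 2, nat_lit 3, nat_lit 8, nat_lit 0, nat_lit 1, nat_lit 2, nat_lit 3, nat_lit 4, nat_lit 5,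 nat_lit 0, nat_lit 1, nat_lit 3, nat_lit 2, nat_lit 8, nat_lit 3, nat_lit 8, nat_lit 10, nat_lit 9, nat_lit 2, nat_lit 12, nat_lit 15, nat_lit 14, nat_lit 19] (Rl.cmp (nat_lit 6110) (nat_lit 6414)))) (FT.node (nat_lit 6417) (FT.leaf (Fct.mk false (nat_lit 37) (nat_lit 0) (nat_lit 37) [nat_lit 8, nat_lit 7, nat_lit 6, nat_lit 5, nat_lit 3, nat_lit 4, nat_lit 2, nat_lit 3, nat_lit 8, nat_lit 0, nat_lit 1, nat_lit 2, nat_lit 3, nat_lit 4, nat_lit 5, nat_lit 6, nat_lit 7, nat_lit 8, nat_lit 5, nat_lit 6, nat_lit 4, nat_lit 5, nat_lit 3, nat_lit 4, nat_lit 2, nat_lit 3, nat_lit 8, nat_lit 0, nat_lit 1, nat_lit 2, nat_lit 3, nat_lit 4, nat_lit 5, nat_lit 0, nat_lit 1, nat_lit 3, nat_lit 2, nat_lit 8, nat_lit 3, nat_lit 11, nat_lit 8, nat_lit 10, nat_lit 16, nat_lit 15, nat_lit 14, nat_lit 13, nat_lit 19] (Rl.cmp (nat_lit 6107) (nat_lit 6415)))) (FT.leaf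 (Fct.mk false (nat_lit 37) (nat_lit 0) (nat_lit 37) [nat_lit 8, nat_lit 6, nat_lit 7, nat_lit 5, nat_lit 6, nat_lit 4, nat_lit 5, nat_lit 3, nat_lit 4, nat_lit 1, nat_lit 2, nat_lit 3, nat_lit 8, nat_lit 0, nat_lit 1, nat_lit 2, nat_lit 3, nat_lit 4, nat_lit 5, nat_lit 6, nat_lit 7, nat_lit 3, nat_lit 8, nat_lit 6, nat_lit 4, nat_lit 5, nat_lit 3, nat_lit 4, nat_lit 2, nat_lit 3, nat_lit 8, nat_lit 0, nat_lit 1, nat_lit 2, nat_lit 3, nat_lit 4, nat_lit 5, nat_lit 0, nat_lit 1, nat_lit 2, nat_lit 8, nat_lit 3, nat_lit 8, nat_lit 10, nat_lit 9, nat_lit 2, nat_lit 8, nat_lit 12, nat_lit 15, nat_lit 14, nat_lit 12, nat_lit 19] (Rl.cmp (nat_lit 6106) (nat_lit 6416))))))) (FT.node (nat_lit 6421) (FT.node (nat_lit 6419) (FT.leaf (Fct.mk false (nat_lit 37) (nat_lit 0) (nat_lit 37) [nat_lit 4, nat_lit 5, nat_lit 6, nat_lit 7, nat_lit 4, nat_lit 5, nat_lit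 3, nat_lit 4, nat_lit 2, nat_lit 3, nat_lit 8, nat_lit 0, nat_lit 1, nat_lit 2, nat_lit 3, nat_lit 4, nat_lit 5, nat_lit 0, nat_lit 1, nat_lit 4, nat_lit 3, nat_lit 2, nat_lit 8, nat_lit 3, nat_lit 8, nat_lit 10, nat_lit 9, nat_lit 2, nat_lit 8, nat_lit 16, nat_lit 14, nat_lit 17, nat_lit 12, nat_lit 18] (Rl.cmp (nat_lit 6110) (nat_lit 6417)))) (FT.node (nat_lit 6420) (FT.leaf (Fct.mk true (nat_lit 36) (nat_lit 83820) (nat_lit 37) [nat_lit 6, nat_lit 7, nat_lit 5, nat_lit 6, nat_lit 4, nat_lit 5, nat_lit 3, nat_lit 4, nat_lit 2, nat_lit 3, nat_lit 8, nat_lit 0, nat_lit 1, nat_lit 2, nat_lit 3, nat_lit 4, nat_lit 5, nat_lit 6, nat_lit 7, nat_lit 6, nat_lit 5, nat_lit 4, nat_lit 3, nat_lit 8, nat_lit 2, nat_lit 3, nat_lit 4, nat_lit 1, nat_lit 2, nat_lit 3, nat_lit 8, nat_lit 5, nat_lit 6, nat_lit 4, nat_lit 5, nat_lit 3, nat_lit 4, nat_lit 2,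 nat_lit 3, nat_lit 8, nat_lit 1, nat_lit 2, nat_lit 3, nat_lit 4, nat_lit 5, nat_lit 2, nat_lit 1, nat_lit 9, nat_lit 4, nat_lit 3, nat_lit 2, nat_lit 8, nat_lit 3, nat_lit 1, nat_lit 16, nat_lit 15, nat_lit 14, nat_lit 12] (Rl.rel (nat_lit 0) [nat_lit 8, nat_lit 3, nat_lit 4, nat_lit 2, nat_lit 3, nat_lit 8, nat_lit 1, nat_lit 2, nat_lit 3, nat_lit 4, nat_lit 5, nat_lit 9, nat_lit 4, nat_lit 0, nat_lit 2, nat_lit 16, nat_lit 15, nat_lit 14, nat_lit 16, nat_lit 8, nat_lit 19] (nat_lit 37) (nat_lit 2) [nat_lit 6353, nat_lit 6402, nat_lit 6375] []))) (FT.leaf (Fct.mk true (nat_lit 36) (nat_lit 147) (nat_lit 37) [nat_lit 7, nat_lit 6, nat_lit 4, nat_lit 5, nat_lit 3, nat_lit 4, nat_lit 2, nat_lit 3, nat_lit 8, nat_lit 1, nat_lit 2, nat_lit 3, nat_lit 4, nat_lit 5, nat_lit 6, nat_lit 7, nat_lit 4, nat_lit 3, nat_lit 8, nat_lit 2, nat_lit 3, nat_lit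 4, nat_lit 5, nat_lit 4, nat_lit 9, nat_lit 12, nat_lit 15, nat_lit 17, nat_lit 12] (Rl.t1 (nat_lit 6419) (nat_lit 6407)))))) (FT.node (nat_lit 6423) (FT.node (nat_lit 6422) (FT.leaf (Fct.mk true (nat_lit 37) (nat_lit 3668) (nat_lit 36) [nat_lit 8, nat_lit 6, nat_lit 7, nat_lit 5, nat_lit 6, nat_lit 4, nat_lit 5, nat_lit 3, nat_lit 4, nat_lit 2, nat_lit 3, nat_lit 8, nat_lit 1, nat_lit 2, nat_lit 3, nat_lit 4, nat_lit 5, nat_lit 6, nat_lit 7, nat_lit 5, nat_lit 9, nat_lit 4, nat_lit 3, nat_lit 2, nat_lit 8, nat_lit 3, nat_lit 11, nat_lit 10, nat_lit 1, nat_lit 8, nat_lit 16, nat_lit 15, nat_lit 14, nat_lit 12, nat_lit 18, nat_lit 16] (Rl.inv (nat_lit 6420)))) (FT.leaf (Fct.mk true (nat_lit 37) (nat_lit 222) (nat_lit 36) [nat_lit 2, nat_lit 3, nat_lit 8, nat_lit 6, nat_lit 4, nat_lit 5, nat_lit 3, nat_lit 4, nat_lit 2, nat_lit 3, nat_lit 8,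 nat_lit 0, nat_lit 1, nat_lit 2, nat_lit 3, nat_lit 4, nat_lit 5, nat_lit 6, nat_lit 7, nat_lit 6, nat_lit 1, nat_lit 8, nat_lit 4, nat_lit 3, nat_lit 2, nat_lit 0, nat_lit 1, nat_lit 9, nat_lit 4, nat_lit 3, nat_lit 2, nat_lit 8, nat_lit 3, nat_lit 8, nat_lit 10, nat_lit 14, nat_lit 13, nat_lit 16] (Rl.t1 (nat_lit 6421) (nat_lit 6418))))) (FT.node (nat_lit 6424) (FT.leaf (Fct.mk false (nat_lit 37) (nat_lit 0) (nat_lit 37) [nat_lit 135] (Rl.cmp (nat_lit 6106) (nat_lit 6106)))) (FT.leaf (Fct.mk false (nat_lit 37) (nat_lit 0) (nat_lit 37) [nat_lit 8, nat_lit 7, nat_lit 6, nat_lit 5, nat_lit 3, nat_lit 4, nat_lit 2, nat_lit 3, nat_lit 8, nat_lit 1, nat_lit 2, nat_lit 3, nat_lit 4, nat_lit 5, nat_lit 6, nat_lit 7, nat_lit 6, nat_lit 3, nat_lit 8, nat_lit 4, nat_lit 3, nat_lit 2, nat_lit 1, nat_lit 9, nat_lit 4, nat_lit 3, nat_lit 2, nat_lit 8,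 nat_lit 3, nat_lit 2, nat_lit 16, nat_lit 8] (Rl.cmp (nat_lit 6110) (nat_lit 6423))))))))) (FT.node (nat_lit 6437) (FT.node (nat_lit 6431) (FT.node (nat_lit 6428) (FT.node (nat_lit 6426) (FT.leaf (Fct.mk false (nat_lit 37) (nat_lit 0) (nat_lit 37) [nat_lit 2, nat_lit 3, nat_lit 8, nat_lit 6, nat_lit 7, nat_lit 5, nat_lit 6, nat_lit 4, nat_lit 5, nat_lit 3, nat_lit 4, nat_lit 2, nat_lit 3, nat_lit 8, nat_lit 0, nat_lit 1, nat_lit 2, nat_lit 3, nat_lit 4, nat_lit 5, nat_lit 6, nat_lit 7, nat_lit 5, nat_lit 2, nat_lit 3, nat_lit 8, nat_lit 4, nat_lit 3, nat_lit 2, nat_lit 1, nat_lit 9, nat_lit 4, nat_lit 3, nat_lit 2, nat_lit 8, nat_lit 3, nat_lit 10, nat_lit 9, nat_lit 2, nat_lit 16, nat_lit 8, nat_lit 18] (Rl.cmp (nat_lit 6106) (nat_lit 6424)))) (FT.node (nat_lit 6427) (FT.leaf (Fct.mk false (nat_lit 37) (nat_lit 0) (nat_lit 37) [nat_lit 8,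 nat_lit 6, nat_lit 7, nat_lit 5, nat_lit 6, nat_lit 4, nat_lit 5, nat_lit 2, nat_lit 3, nat_lit 4, nat_lit 1, nat_lit 2, nat_lit 3, nat_lit 8, nat_lit 0, nat_lit 1, nat_lit 2, nat_lit 3, nat_lit 4, nat_lit 5, nat_lit 6, nat_lit 7, nat_lit 4, nat_lit 3, nat_lit 8, nat_lit 2, nat_lit 3, nat_lit 4, nat_lit 1, nat_lit 2, nat_lit 3, nat_lit 8, nat_lit 0, nat_lit 1, nat_lit 2, nat_lit 3, nat_lit 4, nat_lit 5, nat_lit 1, nat_lit 4, nat_lit 3, nat_lit 2, nat_lit 0, nat_lit 1, nat_lit 9, nat_lit 4, nat_lit 3, nat_lit 2, nat_lit 8, nat_lit 3, nat_lit 8, nat_lit 10, nat_lit 0, nat_lit 17, nat_lit 12, nat_lit 18] (Rl.cmp (nat_lit 6106) (nat_lit 6425)))) (FT.leaf (Fct.mk false (nat_lit 37) (nat_lit 0) (nat_lit 37) [nat_lit 8, nat_lit 3, nat_lit 4, nat_lit 2, nat_lit 3, nat_lit 8, nat_lit 1, nat_lit 2, nat_lit 3, nat_lit 4, nat_lit 5, nat_lit 2, nat_lit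 3, nat_lit 8, nat_lit 4, nat_lit 3, nat_lit 2, nat_lit 1, nat_lit 9, nat_lit 4, nat_lit 3, nat_lit 2, nat_lit 8, nat_lit 3, nat_lit 8, nat_lit 18] (Rl.cmp (nat_lit 6110) (nat_lit 6426)))))) (FT.node (nat_lit 6429) (FT.leaf (Fct.mk false (nat_lit 37) (nat_lit 0) (nat_lit 37) [nat_lit 8, nat_lit 7, nat_lit 6, nat_lit 5, nat_lit 3, nat_lit 4, nat_lit 2, nat_lit 3, nat_lit 8, nat_lit 1, nat_lit 2, nat_lit 3, nat_lit 4, nat_lit 5, nat_lit 6, nat_lit 7, nat_lit 3, nat_lit 8, nat_lit 2, nat_lit 3, nat_lit 4, nat_lit 1, nat_lit 2, nat_lit 3, nat_lit 8, nat_lit 0, nat_lit 1, nat_lit 2, nat_lit 3, nat_lit 4, nat_lit 5, nat_lit 1, nat_lit 9, nat_lit 4, nat_lit 3, nat_lit 2, nat_lit 8, nat_lit 3, nat_lit 1, nat_lit 15, nat_lit 8, nat_lit 18] (Rl.cmp (nat_lit 6110) (nat_lit 6427)))) (FT.node (nat_lit 6430) (FT.leaf (Fct.mk false (nat_lit 37) (nat_lit 0)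 (nat_lit 37) [nat_lit 2, nat_lit 3, nat_lit 8, nat_lit 6, nat_lit 7, nat_lit 5, nat_lit 6, nat_lit 4, nat_lit 5, nat_lit 3, nat_lit 4, nat_lit 2, nat_lit 3, nat_lit 8, nat_lit 0, nat_lit 1, nat_lit 2, nat_lit 3, nat_lit 4, nat_lit 5, nat_lit 6, nat_lit 7, nat_lit 8, nat_lit 5, nat_lit 3, nat_lit 4, nat_lit 1, nat_lit 2, nat_lit 3, nat_lit 8, nat_lit 0, nat_lit 1, nat_lit 2, nat_lit 3, nat_lit 4, nat_lit 5, nat_lit 1, nat_lit 4, nat_lit 3, nat_lit 2, nat_lit 8, nat_lit 3, nat_lit 1, nat_lit 15, nat_lit 8, nat_lit 18] (Rl.cmp (nat_lit 6107) (nat_lit 6428)))) (FT.leaf (Fct.mk false (nat_lit 37) (nat_lit 0) (nat_lit 37) [nat_lit 8, nat_lit 6, nat_lit 7, nat_lit 5, nat_lit 6, nat_lit 4, nat_lit 5, nat_lit 2, nat_lit 3, nat_lit 4, nat_lit 1, nat_lit 2, nat_lit 3, nat_lit 8, nat_lit 0, nat_lit 1, nat_lit 2, nat_lit 3, nat_lit 4, nat_lit 5, nat_lit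 6, nat_lit 7, nat_lit 5, nat_lit 2, nat_lit 3, nat_lit 4, nat_lit 1, nat_lit 2, nat_lit 3, nat_lit 8, nat_lit 0, nat_lit 1, nat_lit 2, nat_lit 3, nat_lit 4, nat_lit 5, nat_lit 2, nat_lit 1, nat_lit 4, nat_lit 3, nat_lit 2, nat_lit 8, nat_lit 3, nat_lit 1, nat_lit 15, nat_lit 12] (Rl.cmp (nat_lit 6106) (nat_lit 6429))))))) (FT.node (nat_lit 6434) (FT.node (nat_lit 6432) (FT.leaf (Fct.mk false (nat_lit 37) (nat_lit 0) (nat_lit 37) [nat_lit 5, nat_lit 3, nat_lit 4, nat_lit 1, nat_lit 2, nat_lit 3, nat_lit 8, nat_lit 0, nat_lit 1, nat_lit 2, nat_lit 3, nat_lit 4, nat_lit 5, nat_lit 3, nat_lit 2, nat_lit 0, nat_lit 1, nat_lit 4, nat_lit 3, nat_lit 2, nat_lit 8, nat_lit 3, nat_lit 10, nat_lit 1, nat_lit 12, nat_lit 15, nat_lit 14] (Rl.cmp (nat_lit 6110) (nat_lit 6430)))) (FT.node (nat_lit 6433) (FT.leaf (Fct.mk true (nat_lit 33) (nat_lit 17) (nat_lit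 37) [nat_lit 4, nat_lit 5, nat_lit 6, nat_lit 7, nat_lit 4, nat_lit 3, nat_lit 8, nat_lit 5, nat_lit 6, nat_lit 4, nat_lit 5, nat_lit 3, nat_lit 4, nat_lit 2, nat_lit 3, nat_lit 8, nat_lit 1, nat_lit 2, nat_lit 3, nat_lit 4, nat_lit 5, nat_lit 8, nat_lit 3, nat_lit 8, nat_lit 10, nat_lit 9, nat_lit 2, nat_lit 14, nat_lit 17, nat_lit 18, nat_lit 16] (Rl.rel (nat_lit 0) [nat_lit 4, nat_lit 5, nat_lit 6, nat_lit 3, nat_lit 4, nat_lit 5, nat_lit 2, nat_lit 3, nat_lit 4, nat_lit 1, nat_lit 2, nat_lit 3, nat_lit 8, nat_lit 0, nat_lit 1, nat_lit 2, nat_lit 3, nat_lit 4, nat_lit 5, nat_lit 4, nat_lit 3, nat_lit 2, nat_lit 1, nat_lit 8, nat_lit 3, nat_lit 2, nat_lit 0, nat_lit 1, nat_lit 4, nat_lit 3, nat_lit 2, nat_lit 8, nat_lit 3, nat_lit 11, nat_lit 10, nat_lit 8, nat_lit 12, nat_lit 15, nat_lit 14, nat_lit 12] (nat_lit 37) (nat_lit 2) [nat_lit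 6422, nat_lit 6083, nat_lit 5898] []))) (FT.leaf (Fct.mk true (nat_lit 37) (nat_lit 91) (nat_lit 33) [nat_lit 8, nat_lit 4, nat_lit 5, nat_lit 3, nat_lit 4, nat_lit 2, nat_lit 3, nat_lit 8, nat_lit 0, nat_lit 1, nat_lit 2, nat_lit 3, nat_lit 4, nat_lit 5, nat_lit 6, nat_lit 7, nat_lit 3, nat_lit 8, nat_lit 4, nat_lit 5, nat_lit 3, nat_lit 4, nat_lit 2, nat_lit 3, nat_lit 8, nat_lit 0, nat_lit 1, nat_lit 2, nat_lit 3, nat_lit 4, nat_lit 5, nat_lit 9, nat_lit 4, nat_lit 11, nat_lit 8, nat_lit 10, nat_lit 15, nat_lit 14] (Rl.inv (nat_lit 6432)))))) (FT.node (nat_lit 6435) (FT.leaf (Fct.mk true (nat_lit 37) (nat_lit 8) (nat_lit 33) [nat_lit 4, nat_lit 5, nat_lit 6, nat_lit 7, nat_lit 8, nat_lit 5, nat_lit 2, nat_lit 3, nat_lit 4, nat_lit 1, nat_lit 2, nat_lit 3, nat_lit 8, nat_lit 0, nat_lit 1, nat_lit 2, nat_lit 3, nat_lit 4, nat_lit 5, nat_lit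 9, nat_lit 4, nat_lit 8, nat_lit 16, nat_lit 15, nat_lit 14, nat_lit 17, nat_lit 19] (Rl.t1 (nat_lit 6433) (nat_lit 6431)))) (FT.node (nat_lit 6436) (FT.leaf (Fct.mk false (nat_lit 36) (nat_lit 0) (nat_lit 36) [nat_lit 6, nat_lit 4, nat_lit 5, nat_lit 3, nat_lit 4, nat_lit 2, nat_lit 3, nat_lit 8, nat_lit 1, nat_lit 2, nat_lit 3, nat_lit 4, nat_lit 5, nat_lit 2, nat_lit 1, nat_lit 8, nat_lit 3, nat_lit 2, nat_lit 0, nat_lit 1, nat_lit 4, nat_lit 3, nat_lit 2, nat_lit 8, nat_lit 3, nat_lit 8, nat_lit 10, nat_lit 0, nat_lit 16, nat_lit 15, nat_lit 14, nat_lit 17, nat_lit 19] (Rl.cmp (nat_lit 5810) (nat_lit 6059)))) (FT.leaf (Fct.mk false (nat_lit 36) (nat_lit 0) (nat_lit 36) [nat_lit 3, nat_lit 4, nat_lit 1, nat_lit 2, nat_lit 3, nat_lit 8, nat_lit 0, nat_lit 1, nat_lit 2, nat_lit 3, nat_lit 4, nat_lit 5, nat_lit 2, nat_lit 1, nat_lit 8, nat_lit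 3, nat_lit 2, nat_lit 0, nat_lit 1, nat_lit 4, nat_lit 3, nat_lit 2, nat_lit 8, nat_lit 3, nat_lit 10, nat_lit 8, nat_lit 16, nat_lit 15, nat_lit 14, nat_lit 17, nat_lit 19] (Rl.cmp (nat_lit 5810) (nat_lit 6435)))))))) (FT.node (nat_lit 6443) (FT.node (nat_lit 6440) (FT.node (nat_lit 6438) (FT.leaf (Fct.mk false (nat_lit 37) (nat_lit 0) (nat_lit 37) [nat_lit 8, nat_lit 7, nat_lit 6, nat_lit 5, nat_lit 3, nat_lit 4, nat_lit 2, nat_lit 3, nat_lit 8, nat_lit 1, nat_lit 2, nat_lit 3, nat_lit 4, nat_lit 5, nat_lit 6, nat_lit 7, nat_lit 6, nat_lit 8, nat_lit 4, nat_lit 3, nat_lit 2, nat_lit 1, nat_lit 9, nat_lit 4, nat_lit 3, nat_lit 2, nat_lit 8, nat_lit 3, nat_lit 11, nat_lit 8, nat_lit 10, nat_lit 17, nat_lit 12, nat_lit 18, nat_lit 16] (Rl.cmp (nat_lit 6110) (nat_lit 6106)))) (FT.node (nat_lit 6439) (FT.leaf (Fct.mk false (nat_lit 37) (nat_lit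 0) (nat_lit 37) [nat_lit 2, nat_lit 3, nat_lit 8, nat_lit 6, nat_lit 7, nat_lit 5, nat_lit 6, nat_lit 4, nat_lit 5, nat_lit 3, nat_lit 4, nat_lit 2, nat_lit 3, nat_lit 8, nat_lit 0, nat_lit 1, nat_lit 2, nat_lit 3, nat_lit 4, nat_lit 5, nat_lit 6, nat_lit 7, nat_lit 5, nat_lit 2, nat_lit 3, nat_lit 8, nat_lit 4, nat_lit 3, nat_lit 2, nat_lit 1, nat_lit 9, nat_lit 4, nat_lit 3, nat_lit 2, nat_lit 8, nat_lit 3, nat_lit 11, nat_lit 8, nat_lit 10, nat_lit 17, nat_lit 12, nat_lit 18, nat_lit 16] (Rl.cmp (nat_lit 6107) (nat_lit 6437)))) (FT.leaf (Fct.mk false (nat_lit 37) (nat_lit 0) (nat_lit 37) [nat_lit 8, nat_lit 6, nat_lit 7, nat_lit 5, nat_lit 6, nat_lit 4, nat_lit 5, nat_lit 2, nat_lit 3, nat_lit 4, nat_lit 1, nat_lit 2, nat_lit 3, nat_lit 8, nat_lit 0, nat_lit 1, nat_lit 2, nat_lit 3, nat_lit 4, nat_lit 5, nat_lit 6, nat_lit 7, nat_lit 4,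 nat_lit 3, nat_lit 8, nat_lit 2, nat_lit 3, nat_lit 4, nat_lit 1, nat_lit 2, nat_lit 3, nat_lit 8, nat_lit 0, nat_lit 1, nat_lit 2, nat_lit 3, nat_lit 4, nat_lit 5, nat_lit 1, nat_lit 4, nat_lit 3, nat_lit 2, nat_lit 0, nat_lit 1, nat_lit 9, nat_lit 4, nat_lit 3, nat_lit 2, nat_lit 8, nat_lit 3, nat_lit 9, nat_lit 17, nat_lit 12, nat_lit 19] (Rl.cmp (nat_lit 6106) (nat_lit 6438)))))) (FT.node (nat_lit 6441) (FT.leaf (Fct.mk false (nat_lit 37) (nat_lit 0) (nat_lit 37) [nat_lit 8, nat_lit 3, nat_lit 4, nat_lit 2, nat_lit 3, nat_lit 8, nat_lit 1, nat_lit 2, nat_lit 3, nat_lit 4, nat_lit 5, nat_lit 2, nat_lit 3, nat_lit 8, nat_lit 4, nat_lit 3, nat_lit 2, nat_lit 1, nat_lit 9, nat_lit 4, nat_lit 3, nat_lit 2, nat_lit 8, nat_lit 3, nat_lit 11, nat_lit 8, nat_lit 10, nat_lit 13, nat_lit 12, nat_lit 19, nat_lit 16] (Rl.cmp (nat_lit 6110) (nat_lit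 6439)))) (FT.node (nat_lit 6442) (FT.leaf (Fct.mk false (nat_lit 37) (nat_lit 0) (nat_lit 37) [nat_lit 8, nat_lit 7, nat_lit 6, nat_lit 5, nat_lit 3, nat_lit 4, nat_lit 2, nat_lit 3, nat_lit 8, nat_lit 1, nat_lit 2, nat_lit 3, nat_lit 4, nat_lit 5, nat_lit 6, nat_lit 7, nat_lit 3, nat_lit 8, nat_lit 2, nat_lit 3, nat_lit 4, nat_lit 1, nat_lit 2, nat_lit 3, nat_lit 8, nat_lit 0, nat_lit 1, nat_lit 2, nat_lit 3, nat_lit 4, nat_lit 5, nat_lit 1, nat_lit 9, nat_lit 4, nat_lit 3, nat_lit 2, nat_lit 8, nat_lit 3, nat_lit 11, nat_lit 8, nat_lit 10, nat_lit 1, nat_lit 15, nat_lit 13, nat_lit 12, nat_lit 19, nat_lit 16] (Rl.cmp (nat_lit 6110) (nat_lit 6440)))) (FT.leaf (Fct.mk false (nat_lit 37) (nat_lit 0) (nat_lit 37) [nat_lit 2, nat_lit 3, nat_lit 8, nat_lit 6, nat_lit 7, nat_lit 5, nat_lit 6, nat_lit 4, nat_lit 5, nat_lit 3, nat_lit 4, nat_lit 2,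 nat_lit 3, nat_lit 8, nat_lit 0, nat_lit 1, nat_lit 2, nat_lit 3, nat_lit 4, nat_lit 5, nat_lit 6, nat_lit 7, nat_lit 5, nat_lit 2, nat_lit 3, nat_lit 4, nat_lit 1, nat_lit 2, nat_lit 3, nat_lit 8, nat_lit 0, nat_lit 1, nat_lit 2, nat_lit 3, nat_lit 4, nat_lit 5, nat_lit 2, nat_lit 0, nat_lit 1, nat_lit 4, nat_lit 3, nat_lit 2, nat_lit 8, nat_lit 3, nat_lit 11, nat_lit 8, nat_lit 10, nat_lit 1, nat_lit 15, nat_lit 13, nat_lit 12, nat_lit 19, nat_lit 16] (Rl.cmp (nat_lit 6106) (nat_lit 6441))))))) (FT.node (nat_lit 6446) (FT.node (nat_lit 6444) (FT.leaf (Fct.mk false (nat_lit 37) (nat_lit 0) (nat_lit 37) [nat_lit 8, nat_lit 6, nat_lit 7, nat_lit 5, nat_lit 6, nat_lit 4, nat_lit 5, nat_lit 2, nat_lit 3, nat_lit 4, nat_lit 1, nat_lit 2, nat_lit 3, nat_lit 8, nat_lit 0, nat_lit 1, nat_lit 2, nat_lit 3, nat_lit 4, nat_lit 5, nat_lit 6, nat_lit 7,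 nat_lit 8, nat_lit 5, nat_lit 3, nat_lit 4, nat_lit 1, nat_lit 2, nat_lit 3, nat_lit 8, nat_lit 0, nat_lit 1, nat_lit 2, nat_lit 3, nat_lit 4, nat_lit 5, nat_lit 2, nat_lit 1, nat_lit 4, nat_lit 3, nat_lit 2, nat_lit 8, nat_lit 3, nat_lit 9, nat_lit 15, nat_lit 12] (Rl.cmp (nat_lit 6106) (nat_lit 6442)))) (FT.node (nat_lit 6445) (FT.leaf (Fct.mk false (nat_lit 37) (nat_lit 0) (nat_lit 37) [nat_lit 5, nat_lit 4, nat_lit 2, nat_lit 3, nat_lit 8, nat_lit 0, nat_lit 1, nat_lit 2, nat_lit 3, nat_lit 4, nat_lit 5, nat_lit 2, nat_lit 1, nat_lit 4, nat_lit 3, nat_lit 2, nat_lit 8, nat_lit 3, nat_lit 11, nat_lit 10, nat_lit 12, nat_lit 15, nat_lit 14, nat_lit 13, nat_lit 12, nat_lit 16] (Rl.cmp (nat_lit 6110) (nat_lit 6443)))) (FT.leaf (Fct.mk true (nat_lit 33) (nat_lit 33) (nat_lit 37) [nat_lit 8, nat_lit 3, nat_lit 4, nat_lit 5, nat_lit 6, nat_lit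 7, nat_lit 6, nat_lit 5, nat_lit 4, nat_lit 3, nat_lit 8, nat_lit 2, nat_lit 3, nat_lit 4, nat_lit 5, nat_lit 9, nat_lit 4, nat_lit 8, nat_lit 10, nat_lit 9, nat_lit 2, nat_lit 12, nat_lit 8, nat_lit 16, nat_lit 14, nat_lit 13, nat_lit 18] (Rl.rel (nat_lit 0) [nat_lit 5, nat_lit 4, nat_lit 1, nat_lit 2, nat_lit 3, nat_lit 8, nat_lit 0, nat_lit 1, nat_lit 2, nat_lit 3, nat_lit 4, nat_lit 5, nat_lit 9, nat_lit 4, nat_lit 9, nat_lit 14, nat_lit 17, nat_lit 18, nat_lit 16] (nat_lit 37) (nat_lit 2) [nat_lit 6422, nat_lit 6436, nat_lit 5898] []))))) (FT.node (nat_lit 6448) (FT.node (nat_lit 6447) (FT.leaf (Fct.mk true (nat_lit 37) (nat_lit 245) (nat_lit 33) [nat_lit 8, nat_lit 4, nat_lit 5, nat_lit 3, nat_lit 4, nat_lit 2, nat_lit 3, nat_lit 8, nat_lit 0, nat_lit 1, nat_lit 2, nat_lit 3, nat_lit 4, nat_lit 5, nat_lit 6, nat_lit 7, nat_lit 8, nat_lit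 5, nat_lit 2, nat_lit 3, nat_lit 4, nat_lit 1, nat_lit 2, nat_lit 3, nat_lit 8, nat_lit 0, nat_lit 1, nat_lit 2, nat_lit 3, nat_lit 4, nat_lit 5, nat_lit 2, nat_lit 1, nat_lit 3, nat_lit 2, nat_lit 8, nat_lit 3, nat_lit 2, nat_lit 10, nat_lit 1, nat_lit 12, nat_lit 15, nat_lit 16, nat_lit 8] (Rl.inv (nat_lit 6445)))) (FT.leaf (Fct.mk true (nat_lit 37) (nat_lit 10) (nat_lit 33) [nat_lit 4, nat_lit 5, nat_lit 6, nat_lit 7, nat_lit 1, nat_lit 2, nat_lit 3, nat_lit 8, nat_lit 4, nat_lit 5, nat_lit 3, nat_lit 4, nat_lit 2, nat_lit 3, nat_lit 8, nat_lit 1, nat_lit 2, nat_lit 3, nat_lit 4, nat_lit 5, nat_lit 3, nat_lit 2, nat_lit 1, nat_lit 4, nat_lit 3, nat_lit 2, nat_lit 8, nat_lit 3, nat_lit 8, nat_lit 10, nat_lit 8, nat_lit 12, nat_lit 15, nat_lit 14, nat_lit 16, nat_lit 8, nat_lit 18, nat_lit 16] (Rl.t1 (nat_lit 6446) (nat_lit 6444))))) (FT.node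 (nat_lit 6449) (FT.leaf (Fct.mk false (nat_lit 37) (nat_lit 0) (nat_lit 37) [nat_lit 3, nat_lit 8, nat_lit 7, nat_lit 6, nat_lit 4, nat_lit 5, nat_lit 3, nat_lit 4, nat_lit 2, nat_lit 3, nat_lit 8, nat_lit 0, nat_lit 1, nat_lit 2, nat_lit 3, nat_lit 4, nat_lit 5, nat_lit 6, nat_lit 7, nat_lit 8, nat_lit 3, nat_lit 4, nat_lit 2, nat_lit 3, nat_lit 8, nat_lit 1, nat_lit 2, nat_lit 3, nat_lit 4, nat_lit 5, nat_lit 2, nat_lit 1, nat_lit 8, nat_lit 3, nat_lit 2, nat_lit 0, nat_lit 1, nat_lit 9, nat_lit 4, nat_lit 3, nat_lit 2, nat_lit 8, nat_lit 3, nat_lit 11, nat_lit 12, nat_lit 18, nat_lit 16] (Rl.cmp (nat_lit 6110) (nat_lit 6110)))) (FT.leaf (Fct.mk false (nat_lit 37) (nat_lit 0) (nat_lit 37) [nat_lit 8, nat_lit 7, nat_lit 6, nat_lit 4, nat_lit 5, nat_lit 3, nat_lit 4, nat_lit 1, nat_lit 2, nat_lit 3, nat_lit 8, nat_lit 0, nat_lit 1, nat_lit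 2, nat_lit 3, nat_lit 4, nat_lit 5, nat_lit 6, nat_lit 7, nat_lit 6, nat_lit 5, nat_lit 3, nat_lit 4, nat_lit 2, nat_lit 3, nat_lit 8, nat_lit 1, nat_lit 2, nat_lit 3, nat_lit 4, nat_lit 5, nat_lit 8, nat_lit 3, nat_lit 11, nat_lit 2, nat_lit 8, nat_lit 10, nat_lit 1, nat_lit 12, nat_lit 15, nat_lit 8, nat_lit 18, nat_lit 16] (Rl.cmp (nat_lit 6106) (nat_lit 6448)))))))))

/-- some facts -/
noncomputable def ftc129 : FT := FT.node (nat_lit 6475) (FT.node (nat_lit 6462) (FT.node (nat_lit 6456) (FT.node (nat_lit 6453) (FT.node (nat_lit 6451) (FT.leaf (Fct.mk false (nat_lit 37) (nat_lit 0) (nat_lit 37) [nat_lit 7, nat_lit 6, nat_lit 4, nat_lit 5, nat_lit 3, nat_lit 4, nat_lit 2, nat_lit 3, nat_lit 8, nat_lit 1, nat_lit 2, nat_lit 3, nat_lit 4, nat_lit 5, nat_lit 6, nat_lit 7, nat_lit 5, nat_lit 3, nat_lit 4, nat_lit 2, nat_lit 3, nat_lit 8, nat_lit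 1, nat_lit 2, nat_lit 3, nat_lit 4, nat_lit 5, nat_lit 0, nat_lit 1, nat_lit 2, nat_lit 3, nat_lit 11, nat_lit 2, nat_lit 10, nat_lit 1, nat_lit 18, nat_lit 16] (Rl.cmp (nat_lit 6110) (nat_lit 6449)))) (FT.node (nat_lit 6452) (FT.leaf (Fct.mk false (nat_lit 37) (nat_lit 0) (nat_lit 37) [nat_lit 4, nat_lit 5, nat_lit 2, nat_lit 3, nat_lit 4, nat_lit 1, nat_lit 2, nat_lit 3, nat_lit 8, nat_lit 0, nat_lit 1, nat_lit 2, nat_lit 3, nat_lit 4, nat_lit 5, nat_lit 6, nat_lit 7, nat_lit 8, nat_lit 4, nat_lit 5, nat_lit 3, nat_lit 4, nat_lit 2, nat_lit 3, nat_lit 8, nat_lit 0, nat_lit 1, nat_lit 2, nat_lit 3, nat_lit 4, nat_lit 5, nat_lit 4, nat_lit 3, nat_lit 2, nat_lit 0, nat_lit 1, nat_lit 9, nat_lit 4, nat_lit 3, nat_lit 2, nat_lit 8, nat_lit 3, nat_lit 8, nat_lit 10, nat_lit 1, nat_lit 12, nat_lit 15, nat_lit 14, nat_lit 17, nat_lit 12, nat_lit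 18] (Rl.cmp (nat_lit 6110) (nat_lit 6450)))) (FT.leaf (Fct.mk false (nat_lit 37) (nat_lit 0) (nat_lit 37) [nat_lit 3, nat_lit 8, nat_lit 6, nat_lit 4, nat_lit 5, nat_lit 3, nat_lit 4, nat_lit 1, nat_lit 2, nat_lit 3, nat_lit 8, nat_lit 0, nat_lit 1, nat_lit 2, nat_lit 3, nat_lit 4, nat_lit 5, nat_lit 6, nat_lit 7, nat_lit 3, nat_lit 4, nat_lit 2, nat_lit 3, nat_lit 8, nat_lit 1, nat_lit 2, nat_lit 3, nat_lit 4, nat_lit 5, nat_lit 8, nat_lit 3, nat_lit 2, nat_lit 1, nat_lit 9, nat_lit 4, nat_lit 3, nat_lit 2, nat_lit 8, nat_lit 3, nat_lit 10, nat_lit 1, nat_lit 16, nat_lit 14, nat_lit 8, nat_lit 16] (Rl.cmp (nat_lit 6110) (nat_lit 6451)))))) (FT.node (nat_lit 6454) (FT.leaf (Fct.mk false (nat_lit 37) (nat_lit 0) (nat_lit 37) [nat_lit 3, nat_lit 4, nat_lit 2, nat_lit 3, nat_lit 8, nat_lit 7, nat_lit 5, nat_lit 6, nat_lit 4, nat_lit 5, nat_lit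 3, nat_lit 4, nat_lit 2, nat_lit 3, nat_lit 8, nat_lit 0, nat_lit 1, nat_lit 2, nat_lit 3, nat_lit 4, nat_lit 5, nat_lit 6, nat_lit 7, nat_lit 5, nat_lit 2, nat_lit 3, nat_lit 4, nat_lit 1, nat_lit 2, nat_lit 3, nat_lit 8, nat_lit 0, nat_lit 1, nat_lit 2, nat_lit 3, nat_lit 4, nat_lit 5, nat_lit 2, nat_lit 8, nat_lit 10, nat_lit 1, nat_lit 12, nat_lit 8, nat_lit 16, nat_lit 14, nat_lit 13, nat_lit 18] (Rl.cmp (nat_lit 6110) (nat_lit 6452)))) (FT.node (nat_lit 6455) (FT.leaf (Fct.mk false (nat_lit 37) (nat_lit 0) (nat_lit 37) [nat_lit 6, nat_lit 4, nat_lit 5, nat_lit 3, nat_lit 4, nat_lit 1, nat_lit 2, nat_lit 3, nat_lit 8, nat_lit 0, nat_lit 1, nat_lit 2, nat_lit 3, nat_lit 4, nat_lit 5, nat_lit 6, nat_lit 7, nat_lit 1, nat_lit 2, nat_lit 3, nat_lit 8, nat_lit 4, nat_lit 5, nat_lit 3, nat_lit 4, nat_lit 2, nat_lit 3, nat_lit 8, nat_lit 1, nat_lit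 2, nat_lit 3, nat_lit 4, nat_lit 5, nat_lit 3, nat_lit 11, nat_lit 1, nat_lit 8, nat_lit 16, nat_lit 15, nat_lit 14, nat_lit 13] (Rl.cmp (nat_lit 6110) (nat_lit 6453)))) (FT.leaf (Fct.mk false (nat_lit 37) (nat_lit 0) (nat_lit 37) [nat_lit 6, nat_lit 4, nat_lit 5, nat_lit 3, nat_lit 4, nat_lit 1, nat_lit 2, nat_lit 3, nat_lit 8, nat_lit 0, nat_lit 1, nat_lit 2, nat_lit 3, nat_lit 4, nat_lit 5, nat_lit 6, nat_lit 7, nat_lit 2, nat_lit 3, nat_lit 8, nat_lit 4, nat_lit 5, nat_lit 3, nat_lit 4, nat_lit 2, nat_lit 3, nat_lit 8, nat_lit 0, nat_lit 1, nat_lit 2, nat_lit 3, nat_lit 4, nat_lit 5, nat_lit 2, nat_lit 1, nat_lit 8, nat_lit 3, nat_lit 2, nat_lit 0, nat_lit 1, nat_lit 4, nat_lit 3, nat_lit 2, nat_lit 8, nat_lit 3, nat_lit 11, nat_lit 8, nat_lit 16, nat_lit 15, nat_lit 14, nat_lit 16, nat_lit 8, nat_lit 19, nat_lit 16] (Rl.cmp (nat_lit 6107)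 (nat_lit 6454))))))) (FT.node (nat_lit 6459) (FT.node (nat_lit 6457) (FT.leaf (Fct.mk true (nat_lit 36) (nat_lit 2787) (nat_lit 37) [nat_lit 3, nat_lit 8, nat_lit 2, nat_lit 3, nat_lit 4, nat_lit 5, nat_lit 6, nat_lit 7, nat_lit 6, nat_lit 4, nat_lit 5, nat_lit 2, nat_lit 3, nat_lit 4, nat_lit 1, nat_lit 2, nat_lit 3, nat_lit 8, nat_lit 0, nat_lit 1, nat_lit 2, nat_lit 3, nat_lit 4, nat_lit 5, nat_lit 1, nat_lit 2, nat_lit 8, nat_lit 3, nat_lit 16, nat_lit 12, nat_lit 15, nat_lit 14, nat_lit 8, nat_lit 18, nat_lit 16] (Rl.rel (nat_lit 0) [nat_lit 6, nat_lit 5, nat_lit 4, nat_lit 3, nat_lit 8, nat_lit 0, nat_lit 1, nat_lit 2, nat_lit 3, nat_lit 4, nat_lit 5, nat_lit 2, nat_lit 3, nat_lit 11, nat_lit 1, nat_lit 18] (nat_lit 37) (nat_lit 2) [nat_lit 6422, nat_lit 6091, nat_lit 5953] []))) (FT.node (nat_lit 6458) (FT.leaf (Fct.mk true (nat_lit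 36) (nat_lit 146) (nat_lit 37) [nat_lit 5, nat_lit 6, nat_lit 7, nat_lit 6, nat_lit 4, nat_lit 5, nat_lit 3, nat_lit 4, nat_lit 1, nat_lit 2, nat_lit 3, nat_lit 8, nat_lit 0, nat_lit 1, nat_lit 2, nat_lit 3, nat_lit 4, nat_lit 5, nat_lit 2, nat_lit 0, nat_lit 1, nat_lit 3, nat_lit 2, nat_lit 8, nat_lit 3, nat_lit 9, nat_lit 2, nat_lit 8, nat_lit 16, nat_lit 14, nat_lit 13, nat_lit 19] (Rl.t1 (nat_lit 6456) (nat_lit 6080)))) (FT.leaf (Fct.mk true (nat_lit 37) (nat_lit 15574) (nat_lit 36) [nat_lit 3, nat_lit 4, nat_lit 5, nat_lit 2, nat_lit 3, nat_lit 4, nat_lit 1, nat_lit 2, nat_lit 3, nat_lit 8, nat_lit 0, nat_lit 1, nat_lit 2, nat_lit 3, nat_lit 4, nat_lit 5, nat_lit 6, nat_lit 7, nat_lit 8, nat_lit 3, nat_lit 4, nat_lit 2, nat_lit 3, nat_lit 8, nat_lit 1, nat_lit 2, nat_lit 3, nat_lit 4, nat_lit 5, nat_lit 0, nat_lit 1, nat_lit 3, nat_lit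 2, nat_lit 8, nat_lit 3, nat_lit 11, nat_lit 10, nat_lit 8, nat_lit 12, nat_lit 15, nat_lit 13] (Rl.inv (nat_lit 6457)))))) (FT.node (nat_lit 6460) (FT.leaf (Fct.mk true (nat_lit 37) (nat_lit 0) (nat_lit 36) [nat_lit 7, nat_lit 4, nat_lit 5, nat_lit 6, nat_lit 3, nat_lit 4, nat_lit 5, nat_lit 2, nat_lit 3, nat_lit 4, nat_lit 1, nat_lit 2, nat_lit 3, nat_lit 8, nat_lit 0, nat_lit 1, nat_lit 2, nat_lit 3, nat_lit 4, nat_lit 5, nat_lit 6, nat_lit 7, nat_lit 3, nat_lit 4, nat_lit 5, nat_lit 1, nat_lit 9, nat_lit 4, nat_lit 3, nat_lit 2, nat_lit 8, nat_lit 3, nat_lit 10, nat_lit 8, nat_lit 18] (Rl.t1 (nat_lit 6458) (nat_lit 6455)))) (FT.node (nat_lit 6461) (FT.leaf (Fct.mk false (nat_lit 37) (nat_lit 0) (nat_lit 37) [nat_lit 135] (Rl.cmp (nat_lit 6106) (nat_lit 6106)))) (FT.leaf (Fct.mk false (nat_lit 37) (nat_lit 0) (nat_lit 37) [nat_lit 8, nat_lit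 7, nat_lit 6, nat_lit 5, nat_lit 3, nat_lit 4, nat_lit 2, nat_lit 3, nat_lit 8, nat_lit 1, nat_lit 2, nat_lit 3, nat_lit 4, nat_lit 5, nat_lit 6, nat_lit 7, nat_lit 6, nat_lit 3, nat_lit 8, nat_lit 4, nat_lit 3, nat_lit 2, nat_lit 1, nat_lit 9, nat_lit 4, nat_lit 3, nat_lit 2, nat_lit 8, nat_lit 3, nat_lit 2, nat_lit 16, nat_lit 8] (Rl.cmp (nat_lit 6110) (nat_lit 6460)))))))) (FT.node (nat_lit 6468) (FT.node (nat_lit 6465) (FT.node (nat_lit 6463) (FT.leaf (Fct.mk false (nat_lit 37) (nat_lit 0) (nat_lit 37) [nat_lit 2, nat_lit 3, nat_lit 8, nat_lit 6, nat_lit 7, nat_lit 5, nat_lit 6, nat_lit 4, nat_lit 5, nat_lit 3, nat_lit 4, nat_lit 2, nat_lit 3, nat_lit 8, nat_lit 0, nat_lit 1, nat_lit 2, nat_lit 3, nat_lit 4, nat_lit 5, nat_lit 6, nat_lit 7, nat_lit 5, nat_lit 2, nat_lit 3, nat_lit 8, nat_lit 4, nat_lit 3, nat_lit 2, nat_lit 1, nat_lit 9,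 nat_lit 4, nat_lit 3, nat_lit 2, nat_lit 8, nat_lit 3, nat_lit 10, nat_lit 9, nat_lit 2, nat_lit 16, nat_lit 8, nat_lit 18] (Rl.cmp (nat_lit 6106) (nat_lit 6461)))) (FT.node (nat_lit 6464) (FT.leaf (Fct.mk false (nat_lit 37) (nat_lit 0) (nat_lit 37) [nat_lit 8, nat_lit 7, nat_lit 6, nat_lit 4, nat_lit 5, nat_lit 3, nat_lit 4, nat_lit 1, nat_lit 2, nat_lit 3, nat_lit 8, nat_lit 0, nat_lit 1, nat_lit 2, nat_lit 3, nat_lit 4, nat_lit 5, nat_lit 6, nat_lit 7, nat_lit 0, nat_lit 1, nat_lit 2, nat_lit 3, nat_lit 4, nat_lit 5, nat_lit 2, nat_lit 1, nat_lit 8, nat_lit 4, nat_lit 3, nat_lit 2, nat_lit 0, nat_lit 1, nat_lit 9, nat_lit 4, nat_lit 3, nat_lit 2, nat_lit 8, nat_lit 3, nat_lit 11, nat_lit 16, nat_lit 8, nat_lit 19, nat_lit 16] (Rl.cmp (nat_lit 6110) (nat_lit 6462)))) (FT.leaf (Fct.mk false (nat_lit 37) (nat_lit 0) (nat_lit 37) [nat_lit 7,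 nat_lit 6, nat_lit 4, nat_lit 5, nat_lit 3, nat_lit 4, nat_lit 2, nat_lit 3, nat_lit 8, nat_lit 1, nat_lit 2, nat_lit 3, nat_lit 4, nat_lit 5, nat_lit 6, nat_lit 7, nat_lit 8, nat_lit 4, nat_lit 5, nat_lit 3, nat_lit 4, nat_lit 2, nat_lit 3, nat_lit 8, nat_lit 1, nat_lit 2, nat_lit 3, nat_lit 4, nat_lit 5, nat_lit 2, nat_lit 0, nat_lit 1, nat_lit 9, nat_lit 4, nat_lit 3, nat_lit 2, nat_lit 8, nat_lit 3, nat_lit 11, nat_lit 10, nat_lit 1, nat_lit 16, nat_lit 14, nat_lit 19, nat_lit 16] (Rl.cmp (nat_lit 6110) (nat_lit 6463)))))) (FT.node (nat_lit 6466) (FT.leaf (Fct.mk false (nat_lit 37) (nat_lit 0) (nat_lit 37) [nat_lit 4, nat_lit 5, nat_lit 2, nat_lit 3, nat_lit 4, nat_lit 1, nat_lit 2, nat_lit 3, nat_lit 8, nat_lit 0, nat_lit 1, nat_lit 2, nat_lit 3, nat_lit 4, nat_lit 5, nat_lit 6, nat_lit 7, nat_lit 4, nat_lit 5, nat_lit 3, nat_lit 4, nat_lit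 2, nat_lit 3, nat_lit 8, nat_lit 1, nat_lit 2, nat_lit 3, nat_lit 4, nat_lit 5, nat_lit 0, nat_lit 1, nat_lit 3, nat_lit 2, nat_lit 8, nat_lit 3, nat_lit 11, nat_lit 1, nat_lit 8, nat_lit 12, nat_lit 15, nat_lit 14, nat_lit 13, nat_lit 19] (Rl.cmp (nat_lit 6110) (nat_lit 6464)))) (FT.node (nat_lit 6467) (FT.leaf (Fct.mk false (nat_lit 37) (nat_lit 0) (nat_lit 37) [nat_lit 3, nat_lit 8, nat_lit 6, nat_lit 4, nat_lit 5, nat_lit 3, nat_lit 4, nat_lit 1, nat_lit 2, nat_lit 3, nat_lit 8, nat_lit 0, nat_lit 1, nat_lit 2, nat_lit 3, nat_lit 4, nat_lit 5, nat_lit 6, nat_lit 7, nat_lit 8, nat_lit 1, nat_lit 2, nat_lit 3, nat_lit 4, nat_lit 5, nat_lit 3, nat_lit 1, nat_lit 9, nat_lit 8, nat_lit 12, nat_lit 15, nat_lit 16] (Rl.cmp (nat_lit 6110) (nat_lit 6465)))) (FT.leaf (Fct.mk false (nat_lit 37) (nat_lit 0) (nat_lit 37) [nat_lit 8, nat_lit 2, nat_lit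 3, nat_lit 4, nat_lit 1, nat_lit 2, nat_lit 3, nat_lit 8, nat_lit 0, nat_lit 1, nat_lit 2, nat_lit 3, nat_lit 4, nat_lit 5, nat_lit 6, nat_lit 7, nat_lit 8, nat_lit 5, nat_lit 2, nat_lit 3, nat_lit 4, nat_lit 1, nat_lit 2, nat_lit 3, nat_lit 8, nat_lit 0, nat_lit 1, nat_lit 2, nat_lit 3, nat_lit 4, nat_lit 5, nat_lit 2, nat_lit 0, nat_lit 1, nat_lit 3, nat_lit 2, nat_lit 8, nat_lit 3, nat_lit 11, nat_lit 1, nat_lit 16, nat_lit 15, nat_lit 14, nat_lit 13, nat_lit 12, nat_lit 16] (Rl.cmp (nat_lit 6107) (nat_lit 6466))))))) (FT.node (nat_lit 6471) (FT.node (nat_lit 6469) (FT.leaf (Fct.mk true (nat_lit 37) (nat_lit 15659) (nat_lit 37) [nat_lit 6, nat_lit 4, nat_lit 5, nat_lit 3, nat_lit 4, nat_lit 1, nat_lit 2, nat_lit 3, nat_lit 8, nat_lit 0, nat_lit 1, nat_lit 2, nat_lit 3, nat_lit 4, nat_lit 5, nat_lit 6, nat_lit 7, nat_lit 2, nat_lit 3, nat_lit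 8, nat_lit 4, nat_lit 5, nat_lit 3, nat_lit 4, nat_lit 2, nat_lit 3, nat_lit 8, nat_lit 0, nat_lit 1, nat_lit 2, nat_lit 3, nat_lit 4, nat_lit 5, nat_lit 2, nat_lit 1, nat_lit 8, nat_lit 3, nat_lit 2, nat_lit 0, nat_lit 1, nat_lit 4, nat_lit 3, nat_lit 2, nat_lit 8, nat_lit 3, nat_lit 10, nat_lit 2, nat_lit 8, nat_lit 10, nat_lit 1, nat_lit 12, nat_lit 18] (Rl.rel (nat_lit 0) [nat_lit 8, nat_lit 3, nat_lit 0, nat_lit 2, nat_lit 15] (nat_lit 37) (nat_lit 2) [nat_lit 6459, nat_lit 5936, nat_lit 6457] []))) (FT.node (nat_lit 6470) (FT.leaf (Fct.mk true (nat_lit 37) (nat_lit 6) (nat_lit 37) [nat_lit 3, nat_lit 8, nat_lit 0, nat_lit 1, nat_lit 2, nat_lit 3, nat_lit 4, nat_lit 5, nat_lit 6, nat_lit 7, nat_lit 8, nat_lit 0, nat_lit 1, nat_lit 2, nat_lit 3, nat_lit 4, nat_lit 5, nat_lit 9, nat_lit 4, nat_lit 3, nat_lit 2, nat_lit 8, nat_lit 3, nat_lit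 11, nat_lit 8, nat_lit 10, nat_lit 1, nat_lit 8, nat_lit 16, nat_lit 15, nat_lit 14, nat_lit 13] (Rl.t1 (nat_lit 6468) (nat_lit 6467)))) (FT.leaf (Fct.mk false (nat_lit 37) (nat_lit 0) (nat_lit 37) [nat_lit 3, nat_lit 8, nat_lit 7, nat_lit 6, nat_lit 4, nat_lit 5, nat_lit 3, nat_lit 4, nat_lit 2, nat_lit 3, nat_lit 8, nat_lit 0, nat_lit 1, nat_lit 2, nat_lit 3, nat_lit 4, nat_lit 5, nat_lit 6, nat_lit 7, nat_lit 8, nat_lit 3, nat_lit 4, nat_lit 2, nat_lit 3, nat_lit 8, nat_lit 1, nat_lit 2, nat_lit 3, nat_lit 4, nat_lit 5, nat_lit 2, nat_lit 1, nat_lit 8, nat_lit 3, nat_lit 2, nat_lit 0, nat_lit 1, nat_lit 9, nat_lit 4, nat_lit 3, nat_lit 2, nat_lit 8, nat_lit 3, nat_lit 11, nat_lit 12, nat_lit 18, nat_lit 16] (Rl.cmp (nat_lit 6110) (nat_lit 6110)))))) (FT.node (nat_lit 6473) (FT.node (nat_lit 6472) (FT.leaf (Fct.mk false (nat_lit 37) (nat_lit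 0) (nat_lit 37) [nat_lit 7, nat_lit 6, nat_lit 5, nat_lit 4, nat_lit 2, nat_lit 3, nat_lit 8, nat_lit 0, nat_lit 1, nat_lit 2, nat_lit 3, nat_lit 4, nat_lit 5, nat_lit 6, nat_lit 7, nat_lit 5, nat_lit 4, nat_lit 1, nat_lit 2, nat_lit 3, nat_lit 8, nat_lit 0, nat_lit 1, nat_lit 2, nat_lit 3, nat_lit 4, nat_lit 5, nat_lit 2, nat_lit 1, nat_lit 4, nat_lit 3, nat_lit 2, nat_lit 8, nat_lit 3, nat_lit 11, nat_lit 1, nat_lit 8, nat_lit 12, nat_lit 15, nat_lit 14, nat_lit 16] (Rl.cmp (nat_lit 6110) (nat_lit 6470)))) (FT.leaf (Fct.mk false (nat_lit 37) (nat_lit 0) (nat_lit 37) [nat_lit 8, nat_lit 5, nat_lit 2, nat_lit 3, nat_lit 4, nat_lit 1, nat_lit 2, nat_lit 3, nat_lit 8, nat_lit 0, nat_lit 1, nat_lit 2, nat_lit 3, nat_lit 4, nat_lit 5, nat_lit 6, nat_lit 7, nat_lit 3, nat_lit 8, nat_lit 5, nat_lit 6, nat_lit 4, nat_lit 5, nat_lit 3, nat_lit 4, nat_lit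 1, nat_lit 2, nat_lit 3, nat_lit 8, nat_lit 0, nat_lit 1, nat_lit 2, nat_lit 3, nat_lit 4, nat_lit 5, nat_lit 1, nat_lit 4, nat_lit 3, nat_lit 2, nat_lit 0, nat_lit 1, nat_lit 9, nat_lit 4, nat_lit 3, nat_lit 2, nat_lit 8, nat_lit 3, nat_lit 11, nat_lit 16, nat_lit 8, nat_lit 12, nat_lit 15, nat_lit 17, nat_lit 16] (Rl.cmp (nat_lit 6110) (nat_lit 6471))))) (FT.node (nat_lit 6474) (FT.leaf (Fct.mk false (nat_lit 37) (nat_lit 0) (nat_lit 37) [nat_lit 8, nat_lit 5, nat_lit 3, nat_lit 4, nat_lit 1, nat_lit 2, nat_lit 3, nat_lit 8, nat_lit 0, nat_lit 1, nat_lit 2, nat_lit 3, nat_lit 4, nat_lit 5, nat_lit 6, nat_lit 7, nat_lit 5, nat_lit 6, nat_lit 4, nat_lit 5, nat_lit 2, nat_lit 3, nat_lit 4, nat_lit 1, nat_lit 2, nat_lit 3, nat_lit 8, nat_lit 0, nat_lit 1, nat_lit 2, nat_lit 3, nat_lit 4, nat_lit 5, nat_lit 1, nat_lit 4, nat_lit 3, nat_lit 2,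 nat_lit 0, nat_lit 1, nat_lit 9, nat_lit 4, nat_lit 3, nat_lit 2, nat_lit 8, nat_lit 3, nat_lit 11, nat_lit 12, nat_lit 8, nat_lit 16, nat_lit 14, nat_lit 8, nat_lit 19] (Rl.cmp (nat_lit 6106) (nat_lit 6472)))) (FT.leaf (Fct.mk true (nat_lit 37) (nat_lit 109602) (nat_lit 37) [nat_lit 1, nat_lit 2, nat_lit 3, nat_lit 8, nat_lit 0, nat_lit 1, nat_lit 2, nat_lit 3, nat_lit 4, nat_lit 5, nat_lit 6, nat_lit 7, nat_lit 3, nat_lit 8, nat_lit 5, nat_lit 2, nat_lit 3, nat_lit 4, nat_lit 1, nat_lit 2, nat_lit 3, nat_lit 8, nat_lit 0, nat_lit 1, nat_lit 2, nat_lit 3, nat_lit 4, nat_lit 5, nat_lit 1, nat_lit 2, nat_lit 0, nat_lit 1, nat_lit 3, nat_lit 2, nat_lit 8, nat_lit 3, nat_lit 11, nat_lit 10, nat_lit 1, nat_lit 12, nat_lit 15, nat_lit 14, nat_lit 17, nat_lit 19, nat_lit 16] (Rl.rel (nat_lit 0) [nat_lit 2, nat_lit 8, nat_lit 3, nat_lit 10, nat_lit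 12] (nat_lit 37) (nat_lit 2) [nat_lit 6459, nat_lit 6087, nat_lit 6377] [])))))))) (FT.node (nat_lit 6487) (FT.node (nat_lit 6481) (FT.node (nat_lit 6478) (FT.node (nat_lit 6476) (FT.leaf (Fct.mk true (nat_lit 37) (nat_lit 11) (nat_lit 37) [nat_lit 2, nat_lit 3, nat_lit 4, nat_lit 5, nat_lit 6, nat_lit 7, nat_lit 2, nat_lit 3, nat_lit 8, nat_lit 1, nat_lit 2, nat_lit 3, nat_lit 4, nat_lit 5, nat_lit 1, nat_lit 2, nat_lit 0, nat_lit 1, nat_lit 3, nat_lit 2, nat_lit 8, nat_lit 3, nat_lit 1, nat_lit 9, nat_lit 15, nat_lit 12, nat_lit 19, nat_lit 16] (Rl.t1 (nat_lit 6474) (nat_lit 6473)))) (FT.node (nat_lit 6477) (FT.leaf (Fct.mk false (nat_lit 37) (nat_lit 0) (nat_lit 37) [nat_lit 2, nat_lit 3, nat_lit 8, nat_lit 6, nat_lit 7, nat_lit 5, nat_lit 6, nat_lit 4, nat_lit 5, nat_lit 3, nat_lit 4, nat_lit 2, nat_lit 3, nat_lit 8, nat_lit 0, nat_lit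 1, nat_lit 2, nat_lit 3, nat_lit 4, nat_lit 5, nat_lit 6, nat_lit 7, nat_lit 5, nat_lit 1, nat_lit 3, nat_lit 2, nat_lit 0, nat_lit 1, nat_lit 9, nat_lit 4, nat_lit 3, nat_lit 2, nat_lit 8, nat_lit 3, nat_lit 2, nat_lit 13, nat_lit 16] (Rl.cmp (nat_lit 6106) (nat_lit 6110)))) (FT.leaf (Fct.mk false (nat_lit 37) (nat_lit 0) (nat_lit 37) [nat_lit 8, nat_lit 7, nat_lit 6, nat_lit 4, nat_lit 5, nat_lit 3, nat_lit 4, nat_lit 1, nat_lit 2, nat_lit 3, nat_lit 8, nat_lit 0, nat_lit 1, nat_lit 2, nat_lit 3, nat_lit 4, nat_lit 5, nat_lit 6, nat_lit 7, nat_lit 0, nat_lit 1, nat_lit 2, nat_lit 3, nat_lit 4, nat_lit 5, nat_lit 2, nat_lit 1, nat_lit 9, nat_lit 4, nat_lit 3, nat_lit 2, nat_lit 8, nat_lit 3, nat_lit 11, nat_lit 2, nat_lit 8, nat_lit 18, nat_lit 16] (Rl.cmp (nat_lit 6110) (nat_lit 6476)))))) (FT.node (nat_lit 6479) (FT.leaf (Fct.mk false (nat_lit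 37) (nat_lit 0) (nat_lit 37) [nat_lit 7, nat_lit 6, nat_lit 4, nat_lit 5, nat_lit 3, nat_lit 4, nat_lit 2, nat_lit 3, nat_lit 8, nat_lit 1, nat_lit 2, nat_lit 3, nat_lit 4, nat_lit 5, nat_lit 6, nat_lit 7, nat_lit 8, nat_lit 4, nat_lit 5, nat_lit 3, nat_lit 4, nat_lit 2, nat_lit 3, nat_lit 8, nat_lit 1, nat_lit 2, nat_lit 3, nat_lit 4, nat_lit 5, nat_lit 0, nat_lit 1, nat_lit 2, nat_lit 3, nat_lit 8, nat_lit 10, nat_lit 9, nat_lit 2, nat_lit 8, nat_lit 16, nat_lit 14, nat_lit 13, nat_lit 12, nat_lit 18, nat_lit 16] (Rl.cmp (nat_lit 6110) (nat_lit 6477)))) (FT.node (nat_lit 6480) (FT.leaf (Fct.mk false (nat_lit 37) (nat_lit 0) (nat_lit 37) [nat_lit 4, nat_lit 5, nat_lit 2, nat_lit 3, nat_lit 4, nat_lit 1, nat_lit 2, nat_lit 3, nat_lit 8, nat_lit 0, nat_lit 1, nat_lit 2, nat_lit 3, nat_lit 4, nat_lit 5, nat_lit 6, nat_lit 7, nat_lit 4, nat_lit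 5, nat_lit 3, nat_lit 4, nat_lit 2, nat_lit 3, nat_lit 8, nat_lit 1, nat_lit 2, nat_lit 3, nat_lit 4, nat_lit 5, nat_lit 2, nat_lit 3, nat_lit 8, nat_lit 4, nat_lit 3, nat_lit 2, nat_lit 1, nat_lit 9, nat_lit 4, nat_lit 3, nat_lit 2, nat_lit 8, nat_lit 3, nat_lit 8, nat_lit 10, nat_lit 9, nat_lit 2, nat_lit 12, nat_lit 15, nat_lit 13, nat_lit 12, nat_lit 18] (Rl.cmp (nat_lit 6110) (nat_lit 6478)))) (FT.leaf (Fct.mk false (nat_lit 37) (nat_lit 0) (nat_lit 37) [nat_lit 3, nat_lit 8, nat_lit 6, nat_lit 4, nat_lit 5, nat_lit 3, nat_lit 4, nat_lit 1, nat_lit 2, nat_lit 3, nat_lit 8, nat_lit 0, nat_lit 1, nat_lit 2, nat_lit 3, nat_lit 4, nat_lit 5, nat_lit 6, nat_lit 7, nat_lit 8, nat_lit 1, nat_lit 2, nat_lit 3, nat_lit 4, nat_lit 5, nat_lit 9, nat_lit 4, nat_lit 11, nat_lit 2, nat_lit 8, nat_lit 12, nat_lit 15, nat_lit 14, nat_lit 13, nat_lit 12,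 nat_lit 18, nat_lit 16] (Rl.cmp (nat_lit 6110) (nat_lit 6479))))))) (FT.node (nat_lit 6484) (FT.node (nat_lit 6482) (FT.leaf (Fct.mk false (nat_lit 37) (nat_lit 0) (nat_lit 37) [nat_lit 3, nat_lit 4, nat_lit 2, nat_lit 3, nat_lit 8, nat_lit 7, nat_lit 5, nat_lit 6, nat_lit 4, nat_lit 5, nat_lit 3, nat_lit 4, nat_lit 2, nat_lit 3, nat_lit 8, nat_lit 0, nat_lit 1, nat_lit 2, nat_lit 3, nat_lit 4, nat_lit 5, nat_lit 6, nat_lit 7, nat_lit 3, nat_lit 4, nat_lit 2, nat_lit 3, nat_lit 8, nat_lit 1, nat_lit 2, nat_lit 3, nat_lit 4, nat_lit 5, nat_lit 8, nat_lit 3, nat_lit 2, nat_lit 0, nat_lit 1, nat_lit 4, nat_lit 3, nat_lit 2, nat_lit 8, nat_lit 3, nat_lit 11, nat_lit 10, nat_lit 1, nat_lit 12, nat_lit 15, nat_lit 13, nat_lit 12, nat_lit 16] (Rl.cmp (nat_lit 6110) (nat_lit 6480)))) (FT.node (nat_lit 6483) (FT.leaf (Fct.mk false (nat_lit 37) (nat_lit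 0) (nat_lit 37) [nat_lit 4, nat_lit 3, nat_lit 8, nat_lit 7, nat_lit 5, nat_lit 6, nat_lit 4, nat_lit 5, nat_lit 3, nat_lit 4, nat_lit 1, nat_lit 2, nat_lit 3, nat_lit 8, nat_lit 0, nat_lit 1, nat_lit 2, nat_lit 3, nat_lit 4, nat_lit 5, nat_lit 6, nat_lit 7, nat_lit 8, nat_lit 3, nat_lit 4, nat_lit 2, nat_lit 3, nat_lit 8, nat_lit 1, nat_lit 2, nat_lit 3, nat_lit 4, nat_lit 5, nat_lit 4, nat_lit 3, nat_lit 2, nat_lit 1, nat_lit 9, nat_lit 4, nat_lit 3, nat_lit 2, nat_lit 8, nat_lit 3, nat_lit 10, nat_lit 2, nat_lit 8, nat_lit 10, nat_lit 1, nat_lit 16, nat_lit 8, nat_lit 12, nat_lit 15, nat_lit 16, nat_lit 8, nat_lit 19] (Rl.cmp (nat_lit 6106) (nat_lit 6481)))) (FT.leaf (Fct.mk false (nat_lit 37) (nat_lit 0) (nat_lit 37) [nat_lit 4, nat_lit 3, nat_lit 8, nat_lit 2, nat_lit 3, nat_lit 4, nat_lit 1, nat_lit 2, nat_lit 3, nat_lit 8, nat_lit 6,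 nat_lit 7, nat_lit 5, nat_lit 6, nat_lit 4, nat_lit 5, nat_lit 3, nat_lit 4, nat_lit 2, nat_lit 3, nat_lit 8, nat_lit 1, nat_lit 2, nat_lit 3, nat_lit 4, nat_lit 5, nat_lit 6, nat_lit 7, nat_lit 1, nat_lit 2, nat_lit 3, nat_lit 8, nat_lit 5, nat_lit 6, nat_lit 4, nat_lit 5, nat_lit 3, nat_lit 4, nat_lit 2, nat_lit 3, nat_lit 8, nat_lit 1, nat_lit 2, nat_lit 3, nat_lit 4, nat_lit 5, nat_lit 1, nat_lit 2, nat_lit 0, nat_lit 1, nat_lit 4, nat_lit 3, nat_lit 2, nat_lit 8, nat_lit 3, nat_lit 10, nat_lit 9, nat_lit 2, nat_lit 16, nat_lit 14] (Rl.cmp (nat_lit 6110) (nat_lit 6482)))))) (FT.node (nat_lit 6485) (FT.leaf (Fct.mk false (nat_lit 37) (nat_lit 0) (nat_lit 37) [nat_lit 3, nat_lit 4, nat_lit 2, nat_lit 3, nat_lit 8, nat_lit 7, nat_lit 5, nat_lit 6, nat_lit 4, nat_lit 5, nat_lit 3, nat_lit 4, nat_lit 2, nat_lit 3, nat_lit 8, nat_lit 1, nat_lit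 2, nat_lit 3, nat_lit 4, nat_lit 5, nat_lit 6, nat_lit 7, nat_lit 8, nat_lit 5, nat_lit 6, nat_lit 4, nat_lit 5, nat_lit 2, nat_lit 3, nat_lit 4, nat_lit 1, nat_lit 2, nat_lit 3, nat_lit 8, nat_lit 0, nat_lit 1, nat_lit 2, nat_lit 3, nat_lit 4, nat_lit 5, nat_lit 2, nat_lit 1, nat_lit 8, nat_lit 3, nat_lit 2, nat_lit 0, nat_lit 1, nat_lit 4, nat_lit 3, nat_lit 2, nat_lit 8, nat_lit 3, nat_lit 11, nat_lit 2, nat_lit 8, nat_lit 10, nat_lit 1, nat_lit 8, nat_lit 16, nat_lit 15, nat_lit 14, nat_lit 18] (Rl.cmp (nat_lit 6110) (nat_lit 6483)))) (FT.node (nat_lit 6486) (FT.leaf (Fct.mk false (nat_lit 37) (nat_lit 0) (nat_lit 37) [nat_lit 6, nat_lit 4, nat_lit 5, nat_lit 2, nat_lit 3, nat_lit 4, nat_lit 1, nat_lit 2, nat_lit 3, nat_lit 8, nat_lit 0, nat_lit 1, nat_lit 2, nat_lit 3, nat_lit 4, nat_lit 5, nat_lit 6, nat_lit 7, nat_lit 4, nat_lit 3, nat_lit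 8, nat_lit 2, nat_lit 3, nat_lit 4, nat_lit 5, nat_lit 4, nat_lit 3, nat_lit 2, nat_lit 8, nat_lit 3, nat_lit 1, nat_lit 9, nat_lit 18] (Rl.cmp (nat_lit 6110) (nat_lit 6484)))) (FT.leaf (Fct.mk false (nat_lit 37) (nat_lit 0) (nat_lit 37) [nat_lit 4, nat_lit 1, nat_lit 2, nat_lit 3, nat_lit 8, nat_lit 0, nat_lit 1, nat_lit 2, nat_lit 3, nat_lit 4, nat_lit 5, nat_lit 6, nat_lit 7, nat_lit 3, nat_lit 8, nat_lit 0, nat_lit 1, nat_lit 2, nat_lit 3, nat_lit 4, nat_lit 5, nat_lit 3, nat_lit 2, nat_lit 8, nat_lit 3, nat_lit 1, nat_lit 9, nat_lit 8, nat_lit 18] (Rl.cmp (nat_lit 6107) (nat_lit 6485)))))))) (FT.node (nat_lit 6493) (FT.node (nat_lit 6490) (FT.node (nat_lit 6488) (FT.leaf (Fct.mk true (nat_lit 36) (nat_lit 84890) (nat_lit 37) [nat_lit 3, nat_lit 8, nat_lit 2, nat_lit 3, nat_lit 4, nat_lit 5, nat_lit 6, nat_lit 7, nat_lit 3, nat_lit 8, nat_lit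 2, nat_lit 3, nat_lit 4, nat_lit 1, nat_lit 2, nat_lit 3, nat_lit 8, nat_lit 0, nat_lit 1, nat_lit 2, nat_lit 3, nat_lit 4, nat_lit 5, nat_lit 4, nat_lit 3, nat_lit 2, nat_lit 0, nat_lit 1, nat_lit 9, nat_lit 4, nat_lit 3, nat_lit 2, nat_lit 8, nat_lit 3, nat_lit 0, nat_lit 16, nat_lit 14, nat_lit 16, nat_lit 8, nat_lit 18, nat_lit 16] (Rl.rel (nat_lit 0) [nat_lit 8, nat_lit 3, nat_lit 4, nat_lit 5, nat_lit 6, nat_lit 7, nat_lit 4, nat_lit 10, nat_lit 12, nat_lit 15, nat_lit 14] (nat_lit 37) (nat_lit 2) [nat_lit 6459, nat_lit 6085, nat_lit 5948] []))) (FT.node (nat_lit 6489) (FT.leaf (Fct.mk true (nat_lit 36) (nat_lit 2511) (nat_lit 37) [nat_lit 2, nat_lit 3, nat_lit 4, nat_lit 5, nat_lit 6, nat_lit 7, nat_lit 1, nat_lit 2, nat_lit 0, nat_lit 1, nat_lit 9, nat_lit 4, nat_lit 3, nat_lit 2, nat_lit 8, nat_lit 3, nat_lit 8, nat_lit 10, nat_lit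 9, nat_lit 2, nat_lit 16, nat_lit 14, nat_lit 16, nat_lit 8, nat_lit 16] (Rl.t1 (nat_lit 6487) (nat_lit 5967)))) (FT.leaf (Fct.mk true (nat_lit 37) (nat_lit 848) (nat_lit 36) [nat_lit 8, nat_lit 6, nat_lit 5, nat_lit 3, nat_lit 4, nat_lit 2, nat_lit 3, nat_lit 8, nat_lit 1, nat_lit 2, nat_lit 3, nat_lit 4, nat_lit 5, nat_lit 6, nat_lit 7, nat_lit 5, nat_lit 2, nat_lit 1, nat_lit 3, nat_lit 2, nat_lit 8, nat_lit 3, nat_lit 11, nat_lit 1, nat_lit 15, nat_lit 13, nat_lit 12, nat_lit 18] (Rl.inv (nat_lit 6488)))))) (FT.node (nat_lit 6491) (FT.leaf (Fct.mk true (nat_lit 37) (nat_lit 55) (nat_lit 36) [nat_lit 6, nat_lit 5, nat_lit 3, nat_lit 4, nat_lit 1, nat_lit 2, nat_lit 3, nat_lit 8, nat_lit 0, nat_lit 1, nat_lit 2, nat_lit 3, nat_lit 4, nat_lit 5, nat_lit 6, nat_lit 7, nat_lit 3, nat_lit 4, nat_lit 1, nat_lit 2, nat_lit 3, nat_lit 8, nat_lit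 5, nat_lit 6, nat_lit 4, nat_lit 5, nat_lit 3, nat_lit 4, nat_lit 2, nat_lit 3, nat_lit 8, nat_lit 1, nat_lit 2, nat_lit 3, nat_lit 4, nat_lit 5, nat_lit 1, nat_lit 3, nat_lit 2, nat_lit 0, nat_lit 1, nat_lit 4, nat_lit 3, nat_lit 2, nat_lit 8, nat_lit 3, nat_lit 11, nat_lit 2, nat_lit 10, nat_lit 1, nat_lit 8, nat_lit 12, nat_lit 15, nat_lit 14, nat_lit 12, nat_lit 19] (Rl.t1 (nat_lit 6489) (nat_lit 6486)))) (FT.node (nat_lit 6492) (FT.leaf (Fct.mk false (nat_lit 37) (nat_lit 0) (nat_lit 37) [nat_lit 8, nat_lit 7, nat_lit 6, nat_lit 5, nat_lit 3, nat_lit 4, nat_lit 2, nat_lit 3, nat_lit 8, nat_lit 1, nat_lit 2, nat_lit 3, nat_lit 4, nat_lit 5, nat_lit 6, nat_lit 7, nat_lit 6, nat_lit 2, nat_lit 1, nat_lit 3, nat_lit 2, nat_lit 0, nat_lit 1, nat_lit 9, nat_lit 4, nat_lit 3, nat_lit 2, nat_lit 8, nat_lit 3, nat_lit 0, nat_lit 2, nat_lit 13,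 nat_lit 16] (Rl.cmp (nat_lit 6110) (nat_lit 6107)))) (FT.leaf (Fct.mk false (nat_lit 37) (nat_lit 0) (nat_lit 37) [nat_lit 3, nat_lit 8, nat_lit 7, nat_lit 6, nat_lit 4, nat_lit 5, nat_lit 3, nat_lit 4, nat_lit 2, nat_lit 3, nat_lit 8, nat_lit 0, nat_lit 1, nat_lit 2, nat_lit 3, nat_lit 4, nat_lit 5, nat_lit 6, nat_lit 7, nat_lit 8, nat_lit 3, nat_lit 4, nat_lit 2, nat_lit 3, nat_lit 8, nat_lit 1, nat_lit 2, nat_lit 3, nat_lit 4, nat_lit 5, nat_lit 2, nat_lit 1, nat_lit 8, nat_lit 3, nat_lit 2, nat_lit 0, nat_lit 1, nat_lit 9, nat_lit 4, nat_lit 3, nat_lit 2, nat_lit 8, nat_lit 3, nat_lit 8, nat_lit 10, nat_lit 9, nat_lit 2, nat_lit 13, nat_lit 12, nat_lit 16] (Rl.cmp (nat_lit 6110) (nat_lit 6491))))))) (FT.node (nat_lit 6496) (FT.node (nat_lit 6494) (FT.leaf (Fct.mk false (nat_lit 37) (nat_lit 0) (nat_lit 37) [nat_lit 3, nat_lit 4, nat_lit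 2, nat_lit 3, nat_lit 8, nat_lit 6, nat_lit 7, nat_lit 5, nat_lit 6, nat_lit 4, nat_lit 5, nat_lit 3, nat_lit 4, nat_lit 2, nat_lit 3, nat_lit 8, nat_lit 1, nat_lit 2, nat_lit 3, nat_lit 4, nat_lit 5, nat_lit 6, nat_lit 7, nat_lit 8, nat_lit 5, nat_lit 3, nat_lit 4, nat_lit 2, nat_lit 3, nat_lit 8, nat_lit 1, nat_lit 2, nat_lit 3, nat_lit 4, nat_lit 5, nat_lit 1, nat_lit 8, nat_lit 3, nat_lit 2, nat_lit 0, nat_lit 1, nat_lit 4, nat_lit 3, nat_lit 2, nat_lit 8, nat_lit 3, nat_lit 8, nat_lit 10, nat_lit 9, nat_lit 2, nat_lit 13, nat_lit 16] (Rl.cmp (nat_lit 6107) (nat_lit 6492)))) (FT.node (nat_lit 6495) (FT.leaf (Fct.mk false (nat_lit 37) (nat_lit 0) (nat_lit 37) [nat_lit 7, nat_lit 6, nat_lit 5, nat_lit 3, nat_lit 4, nat_lit 1, nat_lit 2, nat_lit 3, nat_lit 8, nat_lit 0, nat_lit 1, nat_lit 2, nat_lit 3, nat_lit 4, nat_lit 5, nat_lit 6, nat_lit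 7, nat_lit 5, nat_lit 3, nat_lit 4, nat_lit 1, nat_lit 2, nat_lit 3, nat_lit 8, nat_lit 0, nat_lit 1, nat_lit 2, nat_lit 3, nat_lit 4, nat_lit 5, nat_lit 2, nat_lit 1, nat_lit 4, nat_lit 3, nat_lit 2, nat_lit 8, nat_lit 3, nat_lit 8, nat_lit 10, nat_lit 9, nat_lit 2, nat_lit 15, nat_lit 14, nat_lit 13, nat_lit 12, nat_lit 16] (Rl.cmp (nat_lit 6110) (nat_lit 6493)))) (FT.leaf (Fct.mk false (nat_lit 37) (nat_lit 0) (nat_lit 37) [nat_lit 1, nat_lit 2, nat_lit 3, nat_lit 8, nat_lit 4, nat_lit 5, nat_lit 3, nat_lit 4, nat_lit 2, nat_lit 3, nat_lit 8, nat_lit 1, nat_lit 2, nat_lit 3, nat_lit 4, nat_lit 5, nat_lit 6, nat_lit 7, nat_lit 4, nat_lit 5, nat_lit 3, nat_lit 4, nat_lit 1, nat_lit 2, nat_lit 3, nat_lit 8, nat_lit 0, nat_lit 1, nat_lit 2, nat_lit 3, nat_lit 4, nat_lit 5, nat_lit 4, nat_lit 3, nat_lit 2, nat_lit 0, nat_lit 1, nat_lit 9, nat_lit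 4, nat_lit 3, nat_lit 2, nat_lit 8, nat_lit 3, nat_lit 8, nat_lit 10, nat_lit 9, nat_lit 2, nat_lit 8, nat_lit 16, nat_lit 15, nat_lit 14, nat_lit 17, nat_lit 12, nat_lit 19] (Rl.cmp (nat_lit 6110) (nat_lit 6494)))))) (FT.node (nat_lit 6498) (FT.node (nat_lit 6497) (FT.leaf (Fct.mk false (nat_lit 37) (nat_lit 0) (nat_lit 37) [nat_lit 5, nat_lit 3, nat_lit 4, nat_lit 2, nat_lit 3, nat_lit 8, nat_lit 6, nat_lit 7, nat_lit 5, nat_lit 6, nat_lit 4, nat_lit 5, nat_lit 3, nat_lit 4, nat_lit 2, nat_lit 3, nat_lit 8, nat_lit 0, nat_lit 1, nat_lit 2, nat_lit 3, nat_lit 4, nat_lit 5, nat_lit 6, nat_lit 7, nat_lit 4, nat_lit 5, nat_lit 2, nat_lit 1, nat_lit 3, nat_lit 2, nat_lit 8, nat_lit 3, nat_lit 10, nat_lit 1, nat_lit 16, nat_lit 14, nat_lit 18] (Rl.cmp (nat_lit 6110) (nat_lit 6495)))) (FT.leaf (Fct.mk false (nat_lit 37) (nat_lit 0) (nat_lit 37)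 [nat_lit 8, nat_lit 7, nat_lit 5, nat_lit 6, nat_lit 4, nat_lit 5, nat_lit 2, nat_lit 3, nat_lit 4, nat_lit 1, nat_lit 2, nat_lit 3, nat_lit 8, nat_lit 0, nat_lit 1, nat_lit 2, nat_lit 3, nat_lit 4, nat_lit 5, nat_lit 6, nat_lit 7, nat_lit 3, nat_lit 8, nat_lit 2, nat_lit 3, nat_lit 4, nat_lit 1, nat_lit 2, nat_lit 3, nat_lit 8, nat_lit 0, nat_lit 1, nat_lit 2, nat_lit 3, nat_lit 4, nat_lit 5, nat_lit 2, nat_lit 8, nat_lit 3, nat_lit 8, nat_lit 10, nat_lit 0, nat_lit 12, nat_lit 15, nat_lit 14, nat_lit 12, nat_lit 18] (Rl.cmp (nat_lit 6106) (nat_lit 6496))))) (FT.node (nat_lit 6499) (FT.leaf (Fct.mk true (nat_lit 37) (nat_lit 851) (nat_lit 37) [nat_lit 4, nat_lit 1, nat_lit 2, nat_lit 3, nat_lit 8, nat_lit 0, nat_lit 1, nat_lit 2, nat_lit 3, nat_lit 4, nat_lit 5, nat_lit 6, nat_lit 7, nat_lit 3, nat_lit 8, nat_lit 1, nat_lit 2, nat_lit 3, nat_lit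 4, nat_lit 5, nat_lit 3, nat_lit 2, nat_lit 8, nat_lit 3, nat_lit 1, nat_lit 9, nat_lit 8, nat_lit 18] (Rl.rel (nat_lit 0) [nat_lit 8, nat_lit 3, nat_lit 4, nat_lit 5, nat_lit 6, nat_lit 7, nat_lit 2, nat_lit 3, nat_lit 8, nat_lit 1, nat_lit 2, nat_lit 3, nat_lit 4, nat_lit 5, nat_lit 0, nat_lit 1, nat_lit 3, nat_lit 2, nat_lit 8, nat_lit 3, nat_lit 10, nat_lit 2, nat_lit 8, nat_lit 10, nat_lit 1, nat_lit 8, nat_lit 18] (nat_lit 37) (nat_lit 2) [nat_lit 6490, nat_lit 6088, nat_lit 6488] []))) (FT.leaf (Fct.mk true (nat_lit 37) (nat_lit 549) (nat_lit 37) [nat_lit 8, nat_lit 7, nat_lit 6, nat_lit 4, nat_lit 5, nat_lit 3, nat_lit 4, nat_lit 1, nat_lit 2, nat_lit 3, nat_lit 8, nat_lit 0, nat_lit 1, nat_lit 2, nat_lit 3, nat_lit 4, nat_lit 5, nat_lit 6, nat_lit 7, nat_lit 8, nat_lit 4, nat_lit 5, nat_lit 3, nat_lit 4, nat_lit 2, nat_lit 3, nat_lit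 8, nat_lit 1, nat_lit 2, nat_lit 3, nat_lit 4, nat_lit 5, nat_lit 2, nat_lit 3, nat_lit 1, nat_lit 0, nat_lit 2, nat_lit 12, nat_lit 15, nat_lit 12] (Rl.t1 (nat_lit 6498) (nat_lit 6497)))))))))

/-- some facts -/
noncomputable def ftc130 : FT := FT.node (nat_lit 6525) (FT.node (nat_lit 6512) (FT.node (nat_lit 6506) (FT.node (nat_lit 6503) (FT.node (nat_lit 6501) (FT.leaf (Fct.mk false (nat_lit 37) (nat_lit 0) (nat_lit 37) [nat_lit 135] (Rl.cmp (nat_lit 6106) (nat_lit 6106)))) (FT.node (nat_lit 6502) (FT.leaf (Fct.mk false (nat_lit 37) (nat_lit 0) (nat_lit 37) [nat_lit 8, nat_lit 7, nat_lit 6, nat_lit 5, nat_lit 3, nat_lit 4, nat_lit 2, nat_lit 3, nat_lit 8, nat_lit 1, nat_lit 2, nat_lit 3, nat_lit 4, nat_lit 5, nat_lit 6, nat_lit 7, nat_lit 6, nat_lit 3, nat_lit 8, nat_lit 4, nat_lit 3, nat_lit 2, nat_lit 1, nat_lit 9, nat_lit 4, nat_lit 3,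 nat_lit 2, nat_lit 8, nat_lit 3, nat_lit 2, nat_lit 16, nat_lit 8] (Rl.cmp (nat_lit 6110) (nat_lit 6500)))) (FT.leaf (Fct.mk false (nat_lit 37) (nat_lit 0) (nat_lit 37) [nat_lit 3, nat_lit 8, nat_lit 7, nat_lit 6, nat_lit 4, nat_lit 5, nat_lit 3, nat_lit 4, nat_lit 2, nat_lit 3, nat_lit 8, nat_lit 0, nat_lit 1, nat_lit 2, nat_lit 3, nat_lit 4, nat_lit 5, nat_lit 6, nat_lit 7, nat_lit 8, nat_lit 3, nat_lit 4, nat_lit 2, nat_lit 3, nat_lit 8, nat_lit 1, nat_lit 2, nat_lit 3, nat_lit 4, nat_lit 5, nat_lit 4, nat_lit 3, nat_lit 2, nat_lit 0, nat_lit 1, nat_lit 9, nat_lit 4, nat_lit 3, nat_lit 2, nat_lit 8, nat_lit 3, nat_lit 8, nat_lit 10, nat_lit 19, nat_lit 16] (Rl.cmp (nat_lit 6110) (nat_lit 6501)))))) (FT.node (nat_lit 6504) (FT.leaf (Fct.mk false (nat_lit 37) (nat_lit 0) (nat_lit 37) [nat_lit 8, nat_lit 7, nat_lit 6, nat_lit 4, nat_lit 5,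 nat_lit 3, nat_lit 4, nat_lit 1, nat_lit 2, nat_lit 3, nat_lit 8, nat_lit 0, nat_lit 1, nat_lit 2, nat_lit 3, nat_lit 4, nat_lit 5, nat_lit 6, nat_lit 7, nat_lit 6, nat_lit 5, nat_lit 3, nat_lit 4, nat_lit 2, nat_lit 3, nat_lit 8, nat_lit 1, nat_lit 2, nat_lit 3, nat_lit 4, nat_lit 5, nat_lit 8, nat_lit 3, nat_lit 2, nat_lit 1, nat_lit 9, nat_lit 4, nat_lit 3, nat_lit 2, nat_lit 8, nat_lit 3, nat_lit 1, nat_lit 0, nat_lit 2, nat_lit 8, nat_lit 12, nat_lit 15, nat_lit 14, nat_lit 17, nat_lit 16] (Rl.cmp (nat_lit 6106) (nat_lit 6502)))) (FT.node (nat_lit 6505) (FT.leaf (Fct.mk false (nat_lit 37) (nat_lit 0) (nat_lit 37) [nat_lit 7, nat_lit 6, nat_lit 4, nat_lit 5, nat_lit 3, nat_lit 4, nat_lit 2, nat_lit 3, nat_lit 8, nat_lit 1, nat_lit 2, nat_lit 3, nat_lit 4, nat_lit 5, nat_lit 6, nat_lit 7, nat_lit 5, nat_lit 3, nat_lit 4, nat_lit 2, nat_lit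 3, nat_lit 8, nat_lit 1, nat_lit 2, nat_lit 3, nat_lit 4, nat_lit 5, nat_lit 1, nat_lit 3, nat_lit 2, nat_lit 0, nat_lit 1, nat_lit 9, nat_lit 4, nat_lit 3, nat_lit 2, nat_lit 8, nat_lit 3, nat_lit 11, nat_lit 2, nat_lit 8, nat_lit 10, nat_lit 1, nat_lit 15, nat_lit 8, nat_lit 19, nat_lit 16] (Rl.cmp (nat_lit 6110) (nat_lit 6503)))) (FT.leaf (Fct.mk false (nat_lit 37) (nat_lit 0) (nat_lit 37) [nat_lit 4, nat_lit 5, nat_lit 2, nat_lit 3, nat_lit 4, nat_lit 1, nat_lit 2, nat_lit 3, nat_lit 8, nat_lit 0, nat_lit 1, nat_lit 2, nat_lit 3, nat_lit 4, nat_lit 5, nat_lit 6, nat_lit 7, nat_lit 8, nat_lit 4, nat_lit 5, nat_lit 3, nat_lit 4, nat_lit 2, nat_lit 3, nat_lit 8, nat_lit 0, nat_lit 1, nat_lit 2, nat_lit 3, nat_lit 4, nat_lit 5, nat_lit 9, nat_lit 4, nat_lit 3, nat_lit 2, nat_lit 8, nat_lit 3, nat_lit 0, nat_lit 2, nat_lit 16, nat_lit 15, nat_lit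 14, nat_lit 17, nat_lit 12, nat_lit 19] (Rl.cmp (nat_lit 6110) (nat_lit 6504))))))) (FT.node (nat_lit 6509) (FT.node (nat_lit 6507) (FT.leaf (Fct.mk false (nat_lit 37) (nat_lit 0) (nat_lit 37) [nat_lit 3, nat_lit 8, nat_lit 6, nat_lit 4, nat_lit 5, nat_lit 3, nat_lit 4, nat_lit 1, nat_lit 2, nat_lit 3, nat_lit 8, nat_lit 0, nat_lit 1, nat_lit 2, nat_lit 3, nat_lit 4, nat_lit 5, nat_lit 6, nat_lit 7, nat_lit 3, nat_lit 4, nat_lit 2, nat_lit 3, nat_lit 8, nat_lit 1, nat_lit 2, nat_lit 3, nat_lit 4, nat_lit 5, nat_lit 1, nat_lit 2, nat_lit 8, nat_lit 3, nat_lit 11, nat_lit 10, nat_lit 14, nat_lit 17, nat_lit 12, nat_lit 18, nat_lit 16] (Rl.cmp (nat_lit 6110) (nat_lit 6505)))) (FT.node (nat_lit 6508) (FT.leaf (Fct.mk false (nat_lit 37) (nat_lit 0) (nat_lit 37) [nat_lit 3, nat_lit 4, nat_lit 2, nat_lit 3, nat_lit 8, nat_lit 7, nat_lit 5, nat_lit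 6, nat_lit 4, nat_lit 5, nat_lit 3, nat_lit 4, nat_lit 2, nat_lit 3, nat_lit 8, nat_lit 0, nat_lit 1, nat_lit 2, nat_lit 3, nat_lit 4, nat_lit 5, nat_lit 6, nat_lit 7, nat_lit 5, nat_lit 2, nat_lit 3, nat_lit 4, nat_lit 1, nat_lit 2, nat_lit 3, nat_lit 8, nat_lit 0, nat_lit 1, nat_lit 2, nat_lit 3, nat_lit 4, nat_lit 5, nat_lit 2, nat_lit 3, nat_lit 11, nat_lit 1, nat_lit 12, nat_lit 8, nat_lit 16, nat_lit 14, nat_lit 19] (Rl.cmp (nat_lit 6110) (nat_lit 6506)))) (FT.leaf (Fct.mk false (nat_lit 37) (nat_lit 0) (nat_lit 37) [nat_lit 6, nat_lit 4, nat_lit 5, nat_lit 3, nat_lit 4, nat_lit 1, nat_lit 2, nat_lit 3, nat_lit 8, nat_lit 0, nat_lit 1, nat_lit 2, nat_lit 3, nat_lit 4, nat_lit 5, nat_lit 6, nat_lit 7, nat_lit 1, nat_lit 2, nat_lit 3, nat_lit 8, nat_lit 4, nat_lit 5, nat_lit 3, nat_lit 4, nat_lit 2, nat_lit 3, nat_lit 8, nat_lit 1, nat_lit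 2, nat_lit 3, nat_lit 4, nat_lit 5, nat_lit 1, nat_lit 3, nat_lit 2, nat_lit 8, nat_lit 3, nat_lit 1, nat_lit 0, nat_lit 2, nat_lit 16, nat_lit 15, nat_lit 14, nat_lit 12, nat_lit 16] (Rl.cmp (nat_lit 6110) (nat_lit 6507)))))) (FT.node (nat_lit 6510) (FT.leaf (Fct.mk false (nat_lit 37) (nat_lit 0) (nat_lit 37) [nat_lit 4, nat_lit 1, nat_lit 2, nat_lit 3, nat_lit 8, nat_lit 0, nat_lit 1, nat_lit 2, nat_lit 3, nat_lit 4, nat_lit 5, nat_lit 6, nat_lit 7, nat_lit 2, nat_lit 3, nat_lit 8, nat_lit 4, nat_lit 5, nat_lit 3, nat_lit 4, nat_lit 2, nat_lit 3, nat_lit 8, nat_lit 0, nat_lit 1, nat_lit 2, nat_lit 3, nat_lit 4, nat_lit 5, nat_lit 2, nat_lit 1, nat_lit 4, nat_lit 3, nat_lit 2, nat_lit 8, nat_lit 3, nat_lit 0, nat_lit 2, nat_lit 8, nat_lit 16, nat_lit 15, nat_lit 14, nat_lit 12, nat_lit 16] (Rl.cmp (nat_lit 6106) (nat_lit 6508)))) (FT.node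 (nat_lit 6511) (FT.leaf (Fct.mk true (nat_lit 33) (nat_lit 1491) (nat_lit 38) [] (Rl.df))) (FT.leaf (Fct.mk true (nat_lit 38) (nat_lit 1491) (nat_lit 33) [] (Rl.inv (nat_lit 6510)))))))) (FT.node (nat_lit 6518) (FT.node (nat_lit 6515) (FT.node (nat_lit 6513) (FT.leaf (Fct.mk true (nat_lit 37) (nat_lit 11388) (nat_lit 38) [nat_lit 4, nat_lit 1, nat_lit 2, nat_lit 3, nat_lit 8, nat_lit 0, nat_lit 1, nat_lit 2, nat_lit 3, nat_lit 4, nat_lit 5, nat_lit 6, nat_lit 7, nat_lit 3, nat_lit 4, nat_lit 1, nat_lit 2, nat_lit 3, nat_lit 8, nat_lit 0, nat_lit 1, nat_lit 2, nat_lit 3, nat_lit 4, nat_lit 5, nat_lit 3, nat_lit 9, nat_lit 10, nat_lit 2, nat_lit 8, nat_lit 10, nat_lit 1, nat_lit 15, nat_lit 14, nat_lit 18, nat_lit 16] (Rl.rel (nat_lit 0) [nat_lit 2, nat_lit 3, nat_lit 4, nat_lit 5, nat_lit 2, nat_lit 0, nat_lit 1, nat_lit 3, nat_lit 2, nat_lit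 8, nat_lit 3, nat_lit 12, nat_lit 15, nat_lit 16, nat_lit 8, nat_lit 18] (nat_lit 38) (nat_lit 2) [nat_lit 6511, nat_lit 6226] []))) (FT.node (nat_lit 6514) (FT.leaf (Fct.mk true (nat_lit 37) (nat_lit 163) (nat_lit 38) [nat_lit 6, nat_lit 1, nat_lit 2, nat_lit 8, nat_lit 3, nat_lit 2, nat_lit 10, nat_lit 1, nat_lit 13, nat_lit 12, nat_lit 19] (Rl.t1 (nat_lit 6512) (nat_lit 6509)))) (FT.leaf (Fct.mk true (nat_lit 38) (nat_lit 28) (nat_lit 37) [nat_lit 8, nat_lit 6, nat_lit 4, nat_lit 5, nat_lit 3, nat_lit 4, nat_lit 1, nat_lit 2, nat_lit 3, nat_lit 8, nat_lit 0, nat_lit 1, nat_lit 2, nat_lit 3, nat_lit 4, nat_lit 5, nat_lit 3, nat_lit 8, nat_lit 10, nat_lit 12, nat_lit 15, nat_lit 14, nat_lit 8] (Rl.inv (nat_lit 6513)))))) (FT.node (nat_lit 6516) (FT.leaf (Fct.mk false (nat_lit 38) (nat_lit 0) (nat_lit 38) [nat_lit 139] (Rl.rel (nat_lit 0) [nat_lit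 3, nat_lit 8, nat_lit 2, nat_lit 3, nat_lit 4, nat_lit 5, nat_lit 0, nat_lit 1, nat_lit 3, nat_lit 2, nat_lit 8, nat_lit 3, nat_lit 12, nat_lit 15, nat_lit 16, nat_lit 8, nat_lit 18] (nat_lit 38) (nat_lit 3) [nat_lit 6511, nat_lit 5474, nat_lit 5455, nat_lit 6510] []))) (FT.node (nat_lit 6517) (FT.leaf (Fct.mk true (nat_lit 38) (nat_lit 189) (nat_lit 33) [nat_lit 140] (Rl.t1 (nat_lit 6511) (nat_lit 6515)))) (FT.leaf (Fct.mk false (nat_lit 38) (nat_lit 0) (nat_lit 38) [nat_lit 141] (Rl.rel (nat_lit 0) [nat_lit 3, nat_lit 4, nat_lit 5, nat_lit 2, nat_lit 0, nat_lit 1, nat_lit 3, nat_lit 2, nat_lit 8, nat_lit 3, nat_lit 2, nat_lit 12, nat_lit 15, nat_lit 16, nat_lit 8, nat_lit 18] (nat_lit 38) (nat_lit 3) [nat_lit 6515, nat_lit 6516, nat_lit 5503, nat_lit 6226, nat_lit 6509, nat_lit 6513] [])))))) (FT.node (nat_lit 6521) (FT.node (nat_lit 6519)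 (FT.leaf (Fct.mk false (nat_lit 38) (nat_lit 0) (nat_lit 38) [nat_lit 142] (Rl.rel (nat_lit 0) [nat_lit 3, nat_lit 8, nat_lit 1, nat_lit 2, nat_lit 3, nat_lit 4, nat_lit 5, nat_lit 1, nat_lit 2, nat_lit 0, nat_lit 1, nat_lit 3, nat_lit 2, nat_lit 8, nat_lit 3, nat_lit 0, nat_lit 12, nat_lit 15, nat_lit 16, nat_lit 8, nat_lit 18] (nat_lit 38) (nat_lit 3) [nat_lit 6515, nat_lit 6516, nat_lit 5681, nat_lit 5464, nat_lit 5455, nat_lit 6510] []))) (FT.node (nat_lit 6520) (FT.leaf (Fct.mk false (nat_lit 38) (nat_lit 0) (nat_lit 38) [nat_lit 4, nat_lit 3, nat_lit 8, nat_lit 5, nat_lit 6, nat_lit 4, nat_lit 5, nat_lit 3, nat_lit 4, nat_lit 2, nat_lit 3, nat_lit 8, nat_lit 1, nat_lit 2, nat_lit 3, nat_lit 4, nat_lit 5, nat_lit 6, nat_lit 7, nat_lit 8, nat_lit 5, nat_lit 3, nat_lit 4, nat_lit 2, nat_lit 3, nat_lit 8, nat_lit 0, nat_lit 1, nat_lit 2,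 nat_lit 3, nat_lit 4, nat_lit 5, nat_lit 2, nat_lit 1, nat_lit 3, nat_lit 2, nat_lit 0, nat_lit 1, nat_lit 4, nat_lit 3, nat_lit 2, nat_lit 8, nat_lit 3, nat_lit 10, nat_lit 9, nat_lit 2, nat_lit 16, nat_lit 15, nat_lit 14, nat_lit 13, nat_lit 19, nat_lit 16] (Rl.cmp (nat_lit 6515) (nat_lit 6518)))) (FT.leaf (Fct.mk false (nat_lit 38) (nat_lit 0) (nat_lit 38) [nat_lit 8, nat_lit 7, nat_lit 5, nat_lit 6, nat_lit 4, nat_lit 5, nat_lit 3, nat_lit 4, nat_lit 2, nat_lit 3, nat_lit 8, nat_lit 0, nat_lit 1, nat_lit 2, nat_lit 3, nat_lit 4, nat_lit 5, nat_lit 6, nat_lit 7, nat_lit 5, nat_lit 3, nat_lit 4, nat_lit 2, nat_lit 3, nat_lit 8, nat_lit 0, nat_lit 1, nat_lit 2, nat_lit 3, nat_lit 4, nat_lit 5, nat_lit 3, nat_lit 2, nat_lit 1, nat_lit 8, nat_lit 3, nat_lit 2, nat_lit 0, nat_lit 1, nat_lit 9, nat_lit 4, nat_lit 3, nat_lit 2, nat_lit 8, nat_lit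 3, nat_lit 1, nat_lit 9, nat_lit 8, nat_lit 16, nat_lit 14, nat_lit 17, nat_lit 12, nat_lit 16] (Rl.cmp (nat_lit 6515) (nat_lit 6519)))))) (FT.node (nat_lit 6523) (FT.node (nat_lit 6522) (FT.leaf (Fct.mk false (nat_lit 38) (nat_lit 0) (nat_lit 38) [nat_lit 3, nat_lit 8, nat_lit 7, nat_lit 5, nat_lit 6, nat_lit 4, nat_lit 5, nat_lit 3, nat_lit 4, nat_lit 1, nat_lit 2, nat_lit 3, nat_lit 8, nat_lit 0, nat_lit 1, nat_lit 2, nat_lit 3, nat_lit 4, nat_lit 5, nat_lit 6, nat_lit 7, nat_lit 5, nat_lit 6, nat_lit 4, nat_lit 5, nat_lit 3, nat_lit 4, nat_lit 2, nat_lit 3, nat_lit 8, nat_lit 1, nat_lit 2, nat_lit 3, nat_lit 4, nat_lit 5, nat_lit 2, nat_lit 1, nat_lit 3, nat_lit 2, nat_lit 8, nat_lit 3, nat_lit 15, nat_lit 13, nat_lit 19] (Rl.cmp (nat_lit 6518) (nat_lit 6520)))) (FT.leaf (Fct.mk false (nat_lit 38) (nat_lit 0) (nat_lit 38) [nat_lit 5, nat_lit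 2, nat_lit 3, nat_lit 4, nat_lit 1, nat_lit 2, nat_lit 3, nat_lit 8, nat_lit 0, nat_lit 1, nat_lit 2, nat_lit 3, nat_lit 4, nat_lit 5, nat_lit 6, nat_lit 7, nat_lit 6, nat_lit 5, nat_lit 4, nat_lit 3, nat_lit 8, nat_lit 1, nat_lit 2, nat_lit 3, nat_lit 4, nat_lit 5, nat_lit 4, nat_lit 3, nat_lit 2, nat_lit 1, nat_lit 9, nat_lit 4, nat_lit 3, nat_lit 2, nat_lit 8, nat_lit 3, nat_lit 0, nat_lit 16, nat_lit 12, nat_lit 15, nat_lit 14, nat_lit 17, nat_lit 12, nat_lit 19, nat_lit 16] (Rl.cmp (nat_lit 6515) (nat_lit 6521))))) (FT.node (nat_lit 6524) (FT.leaf (Fct.mk false (nat_lit 38) (nat_lit 0) (nat_lit 38) [nat_lit 8, nat_lit 3, nat_lit 4, nat_lit 2, nat_lit 3, nat_lit 8, nat_lit 6, nat_lit 7, nat_lit 5, nat_lit 6, nat_lit 4, nat_lit 5, nat_lit 3, nat_lit 4, nat_lit 2, nat_lit 3, nat_lit 8, nat_lit 0, nat_lit 1, nat_lit 2, nat_lit 3, nat_lit 4,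 nat_lit 5, nat_lit 6, nat_lit 7, nat_lit 8, nat_lit 3, nat_lit 4, nat_lit 2, nat_lit 3, nat_lit 8, nat_lit 1, nat_lit 2, nat_lit 3, nat_lit 4, nat_lit 5, nat_lit 9, nat_lit 4, nat_lit 11, nat_lit 8, nat_lit 10, nat_lit 1, nat_lit 15, nat_lit 14, nat_lit 19] (Rl.cmp (nat_lit 6515) (nat_lit 6522)))) (FT.leaf (Fct.mk false (nat_lit 38) (nat_lit 0) (nat_lit 38) [nat_lit 3, nat_lit 4, nat_lit 5, nat_lit 6, nat_lit 7, nat_lit 5, nat_lit 4, nat_lit 3, nat_lit 8, nat_lit 0, nat_lit 1, nat_lit 2, nat_lit 3, nat_lit 4, nat_lit 5, nat_lit 4, nat_lit 11, nat_lit 1, nat_lit 16, nat_lit 15, nat_lit 14, nat_lit 18, nat_lit 16] (Rl.cmp (nat_lit 6517) (nat_lit 6523))))))))) (FT.node (nat_lit 6537) (FT.node (nat_lit 6531) (FT.node (nat_lit 6528) (FT.node (nat_lit 6526) (FT.leaf (Fct.mk false (nat_lit 38) (nat_lit 0) (nat_lit 38) [nat_lit 4, nat_lit 3, nat_lit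 8, nat_lit 1, nat_lit 2, nat_lit 3, nat_lit 4, nat_lit 5, nat_lit 6, nat_lit 7, nat_lit 8, nat_lit 3, nat_lit 4, nat_lit 2, nat_lit 3, nat_lit 8, nat_lit 0, nat_lit 1, nat_lit 2, nat_lit 3, nat_lit 4, nat_lit 5, nat_lit 3, nat_lit 2, nat_lit 0, nat_lit 1, nat_lit 4, nat_lit 3, nat_lit 2, nat_lit 8, nat_lit 3, nat_lit 9, nat_lit 16, nat_lit 8, nat_lit 12, nat_lit 15, nat_lit 8] (Rl.cmp (nat_lit 6518) (nat_lit 6524)))) (FT.node (nat_lit 6527) (FT.leaf (Fct.mk false (nat_lit 38) (nat_lit 0) (nat_lit 38) [nat_lit 7, nat_lit 4, nat_lit 5, nat_lit 6, nat_lit 3, nat_lit 4, nat_lit 5, nat_lit 2, nat_lit 3, nat_lit 4, nat_lit 1, nat_lit 2, nat_lit 3, nat_lit 8, nat_lit 0, nat_lit 1, nat_lit 2, nat_lit 3, nat_lit 4, nat_lit 5, nat_lit 6, nat_lit 7, nat_lit 2, nat_lit 3, nat_lit 4, nat_lit 5, nat_lit 1, nat_lit 4, nat_lit 3, nat_lit 2, nat_lit 0, nat_lit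 1, nat_lit 9, nat_lit 4, nat_lit 3, nat_lit 2, nat_lit 8, nat_lit 3, nat_lit 8, nat_lit 10, nat_lit 16, nat_lit 8, nat_lit 12, nat_lit 15, nat_lit 12, nat_lit 18, nat_lit 16] (Rl.cmp (nat_lit 6515) (nat_lit 6525)))) (FT.leaf (Fct.mk false (nat_lit 38) (nat_lit 0) (nat_lit 38) [nat_lit 8, nat_lit 3, nat_lit 4, nat_lit 2, nat_lit 3, nat_lit 8, nat_lit 7, nat_lit 5, nat_lit 6, nat_lit 4, nat_lit 5, nat_lit 3, nat_lit 4, nat_lit 2, nat_lit 3, nat_lit 8, nat_lit 0, nat_lit 1, nat_lit 2, nat_lit 3, nat_lit 4, nat_lit 5, nat_lit 6, nat_lit 7, nat_lit 6, nat_lit 3, nat_lit 2, nat_lit 1, nat_lit 8, nat_lit 3, nat_lit 2, nat_lit 0, nat_lit 1, nat_lit 4, nat_lit 3, nat_lit 2, nat_lit 8, nat_lit 3, nat_lit 11, nat_lit 10, nat_lit 16, nat_lit 12, nat_lit 15, nat_lit 14, nat_lit 17, nat_lit 19] (Rl.cmp (nat_lit 6518) (nat_lit 6526)))))) (FT.node (nat_lit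 6529) (FT.leaf (Fct.mk false (nat_lit 38) (nat_lit 0) (nat_lit 38) [nat_lit 5, nat_lit 4, nat_lit 3, nat_lit 8, nat_lit 2, nat_lit 3, nat_lit 4, nat_lit 5, nat_lit 6, nat_lit 7, nat_lit 8, nat_lit 2, nat_lit 3, nat_lit 4, nat_lit 5, nat_lit 1, nat_lit 3, nat_lit 8, nat_lit 4, nat_lit 3, nat_lit 2, nat_lit 0, nat_lit 1, nat_lit 9, nat_lit 4, nat_lit 3, nat_lit 2, nat_lit 8, nat_lit 3, nat_lit 2, nat_lit 16, nat_lit 12, nat_lit 15, nat_lit 14, nat_lit 13, nat_lit 12, nat_lit 19] (Rl.cmp (nat_lit 6517) (nat_lit 6527)))) (FT.node (nat_lit 6530) (FT.leaf (Fct.mk false (nat_lit 38) (nat_lit 0) (nat_lit 38) [nat_lit 8, nat_lit 5, nat_lit 3, nat_lit 4, nat_lit 2, nat_lit 3, nat_lit 8, nat_lit 0, nat_lit 1, nat_lit 2, nat_lit 3, nat_lit 4, nat_lit 5, nat_lit 6, nat_lit 7, nat_lit 6, nat_lit 4, nat_lit 3, nat_lit 2, nat_lit 1, nat_lit 9, nat_lit 4, nat_lit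 3, nat_lit 2, nat_lit 8, nat_lit 3, nat_lit 11, nat_lit 1, nat_lit 16, nat_lit 14, nat_lit 17, nat_lit 18, nat_lit 16] (Rl.cmp (nat_lit 6515) (nat_lit 6528)))) (FT.leaf (Fct.mk false (nat_lit 38) (nat_lit 0) (nat_lit 38) [nat_lit 8, nat_lit 0, nat_lit 1, nat_lit 2, nat_lit 3, nat_lit 4, nat_lit 5, nat_lit 6, nat_lit 7, nat_lit 3, nat_lit 8, nat_lit 4, nat_lit 5, nat_lit 3, nat_lit 4, nat_lit 1, nat_lit 2, nat_lit 3, nat_lit 8, nat_lit 0, nat_lit 1, nat_lit 2, nat_lit 3, nat_lit 4, nat_lit 5, nat_lit 3, nat_lit 2, nat_lit 1, nat_lit 8, nat_lit 3, nat_lit 2, nat_lit 0, nat_lit 1, nat_lit 4, nat_lit 3, nat_lit 2, nat_lit 8, nat_lit 3, nat_lit 10, nat_lit 2, nat_lit 8, nat_lit 10, nat_lit 1, nat_lit 14, nat_lit 12, nat_lit 18] (Rl.cmp (nat_lit 6515) (nat_lit 6529))))))) (FT.node (nat_lit 6534) (FT.node (nat_lit 6532) (FT.leaf (Fct.mk false (nat_lit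 38) (nat_lit 0) (nat_lit 38) [nat_lit 8, nat_lit 3, nat_lit 4, nat_lit 2, nat_lit 3, nat_lit 8, nat_lit 0, nat_lit 1, nat_lit 2, nat_lit 3, nat_lit 4, nat_lit 5, nat_lit 6, nat_lit 7, nat_lit 4, nat_lit 5, nat_lit 0, nat_lit 1, nat_lit 2, nat_lit 8, nat_lit 3, nat_lit 0, nat_lit 15, nat_lit 14, nat_lit 12] (Rl.cmp (nat_lit 6518) (nat_lit 6530)))) (FT.node (nat_lit 6533) (FT.leaf (Fct.mk true (nat_lit 38) (nat_lit 0) (nat_lit 37) [nat_lit 7, nat_lit 6, nat_lit 4, nat_lit 5, nat_lit 3, nat_lit 4, nat_lit 1, nat_lit 2, nat_lit 3, nat_lit 8, nat_lit 0, nat_lit 1, nat_lit 2, nat_lit 3, nat_lit 4, nat_lit 5, nat_lit 0, nat_lit 1, nat_lit 3, nat_lit 2, nat_lit 8, nat_lit 3, nat_lit 0, nat_lit 8, nat_lit 12, nat_lit 15, nat_lit 14, nat_lit 17] (Rl.t1 (nat_lit 6514) (nat_lit 6531)))) (FT.leaf (Fct.mk false (nat_lit 38) (nat_lit 0) (nat_lit 38) [nat_lit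 8, nat_lit 3, nat_lit 4, nat_lit 1, nat_lit 2, nat_lit 3, nat_lit 8, nat_lit 0, nat_lit 1, nat_lit 2, nat_lit 3, nat_lit 4, nat_lit 5, nat_lit 6, nat_lit 7, nat_lit 4, nat_lit 5, nat_lit 3, nat_lit 4, nat_lit 2, nat_lit 3, nat_lit 8, nat_lit 0, nat_lit 1, nat_lit 2, nat_lit 3, nat_lit 4, nat_lit 5, nat_lit 8, nat_lit 3, nat_lit 10, nat_lit 0, nat_lit 8] (Rl.cmp (nat_lit 6515) (nat_lit 6517)))))) (FT.node (nat_lit 6535) (FT.leaf (Fct.mk false (nat_lit 38) (nat_lit 0) (nat_lit 38) [nat_lit 3, nat_lit 8, nat_lit 0, nat_lit 1, nat_lit 2, nat_lit 3, nat_lit 4, nat_lit 5, nat_lit 6, nat_lit 7, nat_lit 8, nat_lit 5, nat_lit 3, nat_lit 4, nat_lit 1, nat_lit 2, nat_lit 3, nat_lit 8, nat_lit 0, nat_lit 1, nat_lit 2, nat_lit 3, nat_lit 4, nat_lit 5, nat_lit 2, nat_lit 1, nat_lit 3, nat_lit 2, nat_lit 8, nat_lit 3, nat_lit 2, nat_lit 8, nat_lit 10, nat_lit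 1, nat_lit 15, nat_lit 14] (Rl.cmp (nat_lit 6518) (nat_lit 6533)))) (FT.node (nat_lit 6536) (FT.leaf (Fct.mk false (nat_lit 38) (nat_lit 0) (nat_lit 38) [nat_lit 8, nat_lit 4, nat_lit 5, nat_lit 3, nat_lit 4, nat_lit 1, nat_lit 2, nat_lit 3, nat_lit 8, nat_lit 6, nat_lit 7, nat_lit 5, nat_lit 6, nat_lit 4, nat_lit 5, nat_lit 3, nat_lit 4, nat_lit 2, nat_lit 3, nat_lit 8, nat_lit 1, nat_lit 2, nat_lit 3, nat_lit 4, nat_lit 5, nat_lit 6, nat_lit 7, nat_lit 6, nat_lit 1, nat_lit 3, nat_lit 2, nat_lit 0, nat_lit 1, nat_lit 9, nat_lit 4, nat_lit 3, nat_lit 2, nat_lit 8, nat_lit 3, nat_lit 10, nat_lit 9, nat_lit 2, nat_lit 12, nat_lit 8, nat_lit 16, nat_lit 14, nat_lit 17, nat_lit 18, nat_lit 16] (Rl.cmp (nat_lit 6515) (nat_lit 6534)))) (FT.leaf (Fct.mk false (nat_lit 38) (nat_lit 0) (nat_lit 38) [nat_lit 4, nat_lit 3, nat_lit 8, nat_lit 6, nat_lit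 7, nat_lit 5, nat_lit 6, nat_lit 4, nat_lit 5, nat_lit 3, nat_lit 4, nat_lit 1, nat_lit 2, nat_lit 3, nat_lit 8, nat_lit 0, nat_lit 1, nat_lit 2, nat_lit 3, nat_lit 4, nat_lit 5, nat_lit 6, nat_lit 7, nat_lit 6, nat_lit 5, nat_lit 4, nat_lit 3, nat_lit 8, nat_lit 2, nat_lit 3, nat_lit 4, nat_lit 5, nat_lit 4, nat_lit 3, nat_lit 2, nat_lit 1, nat_lit 8, nat_lit 3, nat_lit 2, nat_lit 0, nat_lit 1, nat_lit 4, nat_lit 3, nat_lit 2, nat_lit 8, nat_lit 3, nat_lit 16, nat_lit 8, nat_lit 12, nat_lit 15, nat_lit 19, nat_lit 16] (Rl.cmp (nat_lit 6515) (nat_lit 6535)))))))) (FT.node (nat_lit 6543) (FT.node (nat_lit 6540) (FT.node (nat_lit 6538) (FT.leaf (Fct.mk false (nat_lit 38) (nat_lit 0) (nat_lit 38) [nat_lit 8, nat_lit 3, nat_lit 4, nat_lit 2, nat_lit 3, nat_lit 8, nat_lit 5, nat_lit 6, nat_lit 4, nat_lit 5, nat_lit 3, nat_lit 4, nat_lit 2, nat_lit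 3, nat_lit 8, nat_lit 0, nat_lit 1, nat_lit 2, nat_lit 3, nat_lit 4, nat_lit 5, nat_lit 6, nat_lit 7, nat_lit 0, nat_lit 1, nat_lit 2, nat_lit 3, nat_lit 4, nat_lit 5, nat_lit 1, nat_lit 4, nat_lit 3, nat_lit 2, nat_lit 8, nat_lit 3, nat_lit 8, nat_lit 10, nat_lit 0, nat_lit 15, nat_lit 16, nat_lit 8, nat_lit 18] (Rl.cmp (nat_lit 6515) (nat_lit 6536)))) (FT.node (nat_lit 6539) (FT.leaf (Fct.mk false (nat_lit 38) (nat_lit 0) (nat_lit 38) [nat_lit 0, nat_lit 1, nat_lit 2, nat_lit 3, nat_lit 4, nat_lit 5, nat_lit 6, nat_lit 7, nat_lit 5, nat_lit 3, nat_lit 4, nat_lit 1, nat_lit 2, nat_lit 3, nat_lit 8, nat_lit 0, nat_lit 1, nat_lit 2, nat_lit 3, nat_lit 4, nat_lit 5, nat_lit 1, nat_lit 2, nat_lit 0, nat_lit 1, nat_lit 3, nat_lit 2, nat_lit 8, nat_lit 3, nat_lit 8, nat_lit 10, nat_lit 16, nat_lit 8, nat_lit 18, nat_lit 16] (Rl.cmp (nat_lit 6518)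 (nat_lit 6537)))) (FT.leaf (Fct.mk false (nat_lit 38) (nat_lit 0) (nat_lit 38) [nat_lit 3, nat_lit 8, nat_lit 7, nat_lit 6, nat_lit 5, nat_lit 2, nat_lit 3, nat_lit 4, nat_lit 1, nat_lit 2, nat_lit 3, nat_lit 8, nat_lit 0, nat_lit 1, nat_lit 2, nat_lit 3, nat_lit 4, nat_lit 5, nat_lit 6, nat_lit 7, nat_lit 2, nat_lit 3, nat_lit 8, nat_lit 1, nat_lit 2, nat_lit 3, nat_lit 4, nat_lit 5, nat_lit 1, nat_lit 2, nat_lit 0, nat_lit 1, nat_lit 9, nat_lit 4, nat_lit 3, nat_lit 2, nat_lit 8, nat_lit 3, nat_lit 11, nat_lit 9, nat_lit 10, nat_lit 2, nat_lit 8, nat_lit 10, nat_lit 1, nat_lit 16, nat_lit 8, nat_lit 12, nat_lit 15, nat_lit 18] (Rl.cmp (nat_lit 6515) (nat_lit 6538)))))) (FT.node (nat_lit 6541) (FT.leaf (Fct.mk false (nat_lit 38) (nat_lit 0) (nat_lit 38) [nat_lit 2, nat_lit 3, nat_lit 8, nat_lit 7, nat_lit 5, nat_lit 6, nat_lit 4, nat_lit 5,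 nat_lit 3, nat_lit 4, nat_lit 2, nat_lit 3, nat_lit 8, nat_lit 0, nat_lit 1, nat_lit 2, nat_lit 3, nat_lit 4, nat_lit 5, nat_lit 6, nat_lit 7, nat_lit 4, nat_lit 3, nat_lit 8, nat_lit 5, nat_lit 6, nat_lit 4, nat_lit 5, nat_lit 3, nat_lit 4, nat_lit 2, nat_lit 3, nat_lit 8, nat_lit 0, nat_lit 1, nat_lit 2, nat_lit 3, nat_lit 4, nat_lit 5, nat_lit 3, nat_lit 2, nat_lit 0, nat_lit 1, nat_lit 9, nat_lit 4, nat_lit 3, nat_lit 2, nat_lit 8, nat_lit 3, nat_lit 8, nat_lit 10, nat_lit 14, nat_lit 13, nat_lit 18] (Rl.cmp (nat_lit 6515) (nat_lit 6539)))) (FT.node (nat_lit 6542) (FT.leaf (Fct.mk false (nat_lit 38) (nat_lit 0) (nat_lit 38) [nat_lit 2, nat_lit 3, nat_lit 8, nat_lit 7, nat_lit 5, nat_lit 6, nat_lit 4, nat_lit 5, nat_lit 3, nat_lit 4, nat_lit 2, nat_lit 3, nat_lit 8, nat_lit 0, nat_lit 1, nat_lit 2, nat_lit 3, nat_lit 4, nat_lit 5, nat_lit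 6, nat_lit 7, nat_lit 3, nat_lit 8, nat_lit 4, nat_lit 5, nat_lit 3, nat_lit 4, nat_lit 2, nat_lit 3, nat_lit 8, nat_lit 0, nat_lit 1, nat_lit 2, nat_lit 3, nat_lit 4, nat_lit 5, nat_lit 3, nat_lit 2, nat_lit 1, nat_lit 9, nat_lit 4, nat_lit 3, nat_lit 2, nat_lit 8, nat_lit 3, nat_lit 14, nat_lit 13, nat_lit 18] (Rl.cmp (nat_lit 6517) (nat_lit 6540)))) (FT.leaf (Fct.mk false (nat_lit 38) (nat_lit 0) (nat_lit 38) [nat_lit 8, nat_lit 5, nat_lit 2, nat_lit 3, nat_lit 4, nat_lit 1, nat_lit 2, nat_lit 3, nat_lit 8, nat_lit 0, nat_lit 1, nat_lit 2, nat_lit 3, nat_lit 4, nat_lit 5, nat_lit 6, nat_lit 7, nat_lit 8, nat_lit 5, nat_lit 6, nat_lit 4, nat_lit 5, nat_lit 3, nat_lit 4, nat_lit 2, nat_lit 3, nat_lit 8, nat_lit 1, nat_lit 2, nat_lit 3, nat_lit 4, nat_lit 5, nat_lit 2, nat_lit 1, nat_lit 9, nat_lit 4, nat_lit 3, nat_lit 2, nat_lit 8, nat_lit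 3, nat_lit 10, nat_lit 0, nat_lit 14, nat_lit 16, nat_lit 8, nat_lit 16] (Rl.cmp (nat_lit 6515) (nat_lit 6541))))))) (FT.node (nat_lit 6546) (FT.node (nat_lit 6544) (FT.leaf (Fct.mk false (nat_lit 38) (nat_lit 0) (nat_lit 38) [nat_lit 0, nat_lit 1, nat_lit 2, nat_lit 3, nat_lit 4, nat_lit 5, nat_lit 6, nat_lit 7, nat_lit 5, nat_lit 4, nat_lit 1, nat_lit 2, nat_lit 3, nat_lit 8, nat_lit 0, nat_lit 1, nat_lit 2, nat_lit 3, nat_lit 4, nat_lit 5, nat_lit 4, nat_lit 15, nat_lit 14, nat_lit 16, nat_lit 8, nat_lit 19, nat_lit 16] (Rl.cmp (nat_lit 6515) (nat_lit 6542)))) (FT.node (nat_lit 6545) (FT.leaf (Fct.mk false (nat_lit 38) (nat_lit 0) (nat_lit 38) [nat_lit 8, nat_lit 3, nat_lit 4, nat_lit 2, nat_lit 3, nat_lit 8, nat_lit 5, nat_lit 6, nat_lit 4, nat_lit 5, nat_lit 3, nat_lit 4, nat_lit 2, nat_lit 3, nat_lit 8, nat_lit 0, nat_lit 1, nat_lit 2,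 nat_lit 3, nat_lit 4, nat_lit 5, nat_lit 6, nat_lit 7, nat_lit 5, nat_lit 4, nat_lit 1, nat_lit 2, nat_lit 3, nat_lit 8, nat_lit 0, nat_lit 1, nat_lit 2, nat_lit 3, nat_lit 4, nat_lit 5, nat_lit 1, nat_lit 2, nat_lit 8, nat_lit 3, nat_lit 8, nat_lit 10, nat_lit 1, nat_lit 15, nat_lit 16, nat_lit 8, nat_lit 18] (Rl.cmp (nat_lit 6518) (nat_lit 6543)))) (FT.leaf (Fct.mk false (nat_lit 38) (nat_lit 0) (nat_lit 38) [nat_lit 3, nat_lit 8, nat_lit 0, nat_lit 1, nat_lit 2, nat_lit 3, nat_lit 4, nat_lit 5, nat_lit 6, nat_lit 7, nat_lit 3, nat_lit 8, nat_lit 1, nat_lit 2, nat_lit 3, nat_lit 4, nat_lit 5, nat_lit 4, nat_lit 3, nat_lit 2, nat_lit 8, nat_lit 3, nat_lit 10, nat_lit 0, nat_lit 15, nat_lit 14] (Rl.cmp (nat_lit 6515) (nat_lit 6544)))))) (FT.node (nat_lit 6548) (FT.node (nat_lit 6547) (FT.leaf (Fct.mk false (nat_lit 38) (nat_lit 0) (nat_lit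 38) [nat_lit 8, nat_lit 3, nat_lit 4, nat_lit 1, nat_lit 2, nat_lit 3, nat_lit 8, nat_lit 0, nat_lit 1, nat_lit 2, nat_lit 3, nat_lit 4, nat_lit 5, nat_lit 6, nat_lit 7, nat_lit 4, nat_lit 5, nat_lit 2, nat_lit 3, nat_lit 4, nat_lit 1, nat_lit 2, nat_lit 3, nat_lit 8, nat_lit 0, nat_lit 1, nat_lit 2, nat_lit 3, nat_lit 4, nat_lit 5, nat_lit 10, nat_lit 0, nat_lit 8] (Rl.cmp (nat_lit 6518) (nat_lit 6545)))) (FT.leaf (Fct.mk false (nat_lit 38) (nat_lit 0) (nat_lit 38) [nat_lit 3, nat_lit 8, nat_lit 7, nat_lit 6, nat_lit 4, nat_lit 5, nat_lit 3, nat_lit 4, nat_lit 1, nat_lit 2, nat_lit 3, nat_lit 8, nat_lit 0, nat_lit 1, nat_lit 2, nat_lit 3, nat_lit 4, nat_lit 5, nat_lit 6, nat_lit 7, nat_lit 6, nat_lit 4, nat_lit 5, nat_lit 2, nat_lit 3, nat_lit 4, nat_lit 1, nat_lit 2, nat_lit 3, nat_lit 8, nat_lit 0, nat_lit 1, nat_lit 2, nat_lit 3, nat_lit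 4, nat_lit 5, nat_lit 2, nat_lit 1, nat_lit 8, nat_lit 3, nat_lit 2, nat_lit 0, nat_lit 1, nat_lit 9, nat_lit 4, nat_lit 3, nat_lit 2, nat_lit 8, nat_lit 3, nat_lit 10, nat_lit 0, nat_lit 8, nat_lit 12, nat_lit 15, nat_lit 16, nat_lit 8, nat_lit 19] (Rl.cmp (nat_lit 6515) (nat_lit 6546))))) (FT.node (nat_lit 6549) (FT.leaf (Fct.mk false (nat_lit 38) (nat_lit 0) (nat_lit 38) [nat_lit 3, nat_lit 8, nat_lit 7, nat_lit 6, nat_lit 4, nat_lit 5, nat_lit 3, nat_lit 4, nat_lit 1, nat_lit 2, nat_lit 3, nat_lit 8, nat_lit 0, nat_lit 1, nat_lit 2, nat_lit 3, nat_lit 4, nat_lit 5, nat_lit 6, nat_lit 7, nat_lit 8, nat_lit 5, nat_lit 6, nat_lit 4, nat_lit 5, nat_lit 2, nat_lit 3, nat_lit 4, nat_lit 1, nat_lit 2, nat_lit 3, nat_lit 8, nat_lit 0, nat_lit 1, nat_lit 2, nat_lit 3, nat_lit 4, nat_lit 5, nat_lit 1, nat_lit 3, nat_lit 2, nat_lit 0, nat_lit 1, nat_lit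 9, nat_lit 4, nat_lit 3, nat_lit 2, nat_lit 8, nat_lit 3, nat_lit 10, nat_lit 0, nat_lit 8, nat_lit 12, nat_lit 15, nat_lit 18] (Rl.cmp (nat_lit 6518) (nat_lit 6547)))) (FT.leaf (Fct.mk false (nat_lit 38) (nat_lit 0) (nat_lit 38) [nat_lit 8, nat_lit 4, nat_lit 5, nat_lit 3, nat_lit 4, nat_lit 2, nat_lit 3, nat_lit 8, nat_lit 0, nat_lit 1, nat_lit 2, nat_lit 3, nat_lit 4, nat_lit 5, nat_lit 6, nat_lit 7, nat_lit 6, nat_lit 4, nat_lit 5, nat_lit 3, nat_lit 4, nat_lit 2, nat_lit 3, nat_lit 8, nat_lit 1, nat_lit 2, nat_lit 3, nat_lit 4, nat_lit 5, nat_lit 11, nat_lit 1, nat_lit 14, nat_lit 13] (Rl.cmp (nat_lit 6515) (nat_lit 6548)))))))))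

/-- some facts -/
noncomputable def ftc131 : FT := FT.node (nat_lit 6566) (FT.node (nat_lit 6558) (FT.node (nat_lit 6554) (FT.node (nat_lit 6552) (FT.node (nat_lit 6551) (FT.leaf (Fct.mk false (nat_lit 38) (nat_lit 0) (nat_lit 38) [nat_lit 8, nat_lit 3, nat_lit 4, nat_lit 2, nat_lit 3, nat_lit 8, nat_lit 0, nat_lit 1, nat_lit 2, nat_lit 3, nat_lit 4, nat_lit 5, nat_lit 6, nat_lit 7, nat_lit 9, nat_lit 4, nat_lit 8, nat_lit 10, nat_lit 15, nat_lit 19, nat_lit 16] (Rl.cmp (nat_lit 6515) (nat_lit 6549)))) (FT.leaf (Fct.mk true (nat_lit 38) (nat_lit 1) (nat_lit 33) [nat_lit 8, nat_lit 3, nat_lit 4, nat_lit 5, nat_lit 6, nat_lit 7, nat_lit 2, nat_lit 3, nat_lit 4, nat_lit 1, nat_lit 2, nat_lit 3, nat_lit 8, nat_lit 0, nat_lit 1, nat_lit 2, nat_lit 3, nat_lit 4, nat_lit 5, nat_lit 8, nat_lit 3, nat_lit 2, nat_lit 1, nat_lit 9, nat_lit 4, nat_lit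 3, nat_lit 2, nat_lit 8, nat_lit 3, nat_lit 1, nat_lit 12, nat_lit 15, nat_lit 14, nat_lit 16, nat_lit 8, nat_lit 18] (Rl.t1 (nat_lit 6516) (nat_lit 6550))))) (FT.node (nat_lit 6553) (FT.leaf (Fct.mk true (nat_lit 1) (nat_lit 50) (nat_lit 2) [nat_lit 7, nat_lit 6, nat_lit 5, nat_lit 4, nat_lit 1, nat_lit 2, nat_lit 3, nat_lit 8, nat_lit 0, nat_lit 1, nat_lit 2, nat_lit 3, nat_lit 4, nat_lit 5, nat_lit 6, nat_lit 7, nat_lit 2, nat_lit 3, nat_lit 8, nat_lit 6, nat_lit 4, nat_lit 5, nat_lit 3, nat_lit 4, nat_lit 2, nat_lit 3, nat_lit 8, nat_lit 0, nat_lit 1, nat_lit 2, nat_lit 3, nat_lit 4, nat_lit 5, nat_lit 3, nat_lit 2, nat_lit 1, nat_lit 8, nat_lit 3, nat_lit 2, nat_lit 0, nat_lit 1, nat_lit 4, nat_lit 3, nat_lit 2, nat_lit 8, nat_lit 3, nat_lit 11, nat_lit 2, nat_lit 10, nat_lit 1, nat_lit 16, nat_lit 14, nat_lit 16, nat_lit 8, nat_lit 19]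 (Rl.t2 (nat_lit 182) (nat_lit 2337)))) (FT.leaf (Fct.mk true (nat_lit 1) (nat_lit 1227) (nat_lit 4) [nat_lit 1, nat_lit 2, nat_lit 3, nat_lit 8, nat_lit 4, nat_lit 5, nat_lit 3, nat_lit 4, nat_lit 2, nat_lit 3, nat_lit 8, nat_lit 6, nat_lit 7, nat_lit 5, nat_lit 6, nat_lit 4, nat_lit 5, nat_lit 3, nat_lit 4, nat_lit 2, nat_lit 3, nat_lit 8, nat_lit 0, nat_lit 1, nat_lit 2, nat_lit 3, nat_lit 4, nat_lit 5, nat_lit 6, nat_lit 7, nat_lit 2, nat_lit 3, nat_lit 4, nat_lit 1, nat_lit 2, nat_lit 3, nat_lit 8, nat_lit 0, nat_lit 1, nat_lit 2, nat_lit 3, nat_lit 4, nat_lit 5, nat_lit 0, nat_lit 1, nat_lit 3, nat_lit 2, nat_lit 8, nat_lit 3, nat_lit 0, nat_lit 2, nat_lit 15] (Rl.t2 (nat_lit 537) (nat_lit 2281)))))) (FT.node (nat_lit 6556) (FT.node (nat_lit 6555) (FT.leaf (Fct.mk true (nat_lit 2) (nat_lit 430) (nat_lit 4) [nat_lit 6, nat_lit 5, nat_lit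 4, nat_lit 3, nat_lit 8, nat_lit 2, nat_lit 3, nat_lit 4, nat_lit 1, nat_lit 2, nat_lit 3, nat_lit 8, nat_lit 5, nat_lit 6, nat_lit 4, nat_lit 5, nat_lit 3, nat_lit 4, nat_lit 2, nat_lit 3, nat_lit 8, nat_lit 1, nat_lit 2, nat_lit 3, nat_lit 4, nat_lit 5, nat_lit 8, nat_lit 4, nat_lit 3, nat_lit 2, nat_lit 1, nat_lit 9, nat_lit 4, nat_lit 3, nat_lit 2, nat_lit 8, nat_lit 3, nat_lit 2, nat_lit 8, nat_lit 10, nat_lit 1, nat_lit 12, nat_lit 8, nat_lit 16, nat_lit 14, nat_lit 16, nat_lit 8, nat_lit 19, nat_lit 16] (Rl.t2 (nat_lit 649) (nat_lit 1967)))) (FT.leaf (Fct.mk true (nat_lit 2) (nat_lit 16164) (nat_lit 2) [nat_lit 6, nat_lit 0, nat_lit 2] (Rl.t2 (nat_lit 951) (nat_lit 2054))))) (FT.node (nat_lit 6557) (FT.leaf (Fct.mk true (nat_lit 2) (nat_lit 80) (nat_lit 5) [nat_lit 6, nat_lit 4, nat_lit 5, nat_lit 3, nat_lit 4, nat_lit 2, nat_lit 3,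 nat_lit 8, nat_lit 1, nat_lit 2, nat_lit 3, nat_lit 4, nat_lit 5, nat_lit 2, nat_lit 1, nat_lit 8, nat_lit 4, nat_lit 3, nat_lit 2, nat_lit 0, nat_lit 1, nat_lit 9, nat_lit 4, nat_lit 3, nat_lit 2, nat_lit 8, nat_lit 3, nat_lit 10, nat_lit 0, nat_lit 12, nat_lit 15, nat_lit 14, nat_lit 16, nat_lit 8] (Rl.t2 (nat_lit 1272) (nat_lit 2425)))) (FT.leaf (Fct.mk true (nat_lit 2) (nat_lit 16165) (nat_lit 4) [nat_lit 5, nat_lit 4, nat_lit 3, nat_lit 8, nat_lit 6, nat_lit 7, nat_lit 5, nat_lit 6, nat_lit 4, nat_lit 5, nat_lit 3, nat_lit 4, nat_lit 1, nat_lit 2, nat_lit 3, nat_lit 8, nat_lit 0, nat_lit 1, nat_lit 2, nat_lit 3, nat_lit 4, nat_lit 5, nat_lit 6, nat_lit 7, nat_lit 8, nat_lit 5, nat_lit 3, nat_lit 4, nat_lit 2, nat_lit 3, nat_lit 8, nat_lit 0, nat_lit 1, nat_lit 2, nat_lit 3, nat_lit 4, nat_lit 5, nat_lit 1, nat_lit 3, nat_lit 2, nat_lit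 0, nat_lit 1, nat_lit 9, nat_lit 4, nat_lit 3, nat_lit 2, nat_lit 8, nat_lit 3, nat_lit 9, nat_lit 10, nat_lit 2, nat_lit 8, nat_lit 10, nat_lit 1, nat_lit 12, nat_lit 15, nat_lit 13, nat_lit 12, nat_lit 16] (Rl.t2 (nat_lit 2333) (nat_lit 2281))))))) (FT.node (nat_lit 6562) (FT.node (nat_lit 6560) (FT.node (nat_lit 6559) (FT.leaf (Fct.mk true (nat_lit 2) (nat_lit 640) (nat_lit 4) [nat_lit 8, nat_lit 4, nat_lit 5, nat_lit 3, nat_lit 4, nat_lit 1, nat_lit 2, nat_lit 3, nat_lit 8, nat_lit 6, nat_lit 7, nat_lit 5, nat_lit 6, nat_lit 4, nat_lit 5, nat_lit 3, nat_lit 4, nat_lit 2, nat_lit 3, nat_lit 8, nat_lit 1, nat_lit 2, nat_lit 3, nat_lit 4, nat_lit 5, nat_lit 6, nat_lit 7, nat_lit 8, nat_lit 2, nat_lit 3, nat_lit 4, nat_lit 1, nat_lit 2, nat_lit 3, nat_lit 8, nat_lit 5, nat_lit 6, nat_lit 4, nat_lit 5, nat_lit 3, nat_lit 4, nat_lit 2, nat_lit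 3, nat_lit 8, nat_lit 1, nat_lit 2, nat_lit 3, nat_lit 4, nat_lit 5, nat_lit 1, nat_lit 3, nat_lit 2, nat_lit 8, nat_lit 3, nat_lit 1, nat_lit 0, nat_lit 2, nat_lit 12, nat_lit 8, nat_lit 16, nat_lit 14, nat_lit 13, nat_lit 18, nat_lit 16] (Rl.t2 (nat_lit 2369) (nat_lit 2281)))) (FT.leaf (Fct.mk true (nat_lit 4) (nat_lit 2283) (nat_lit 4) [nat_lit 2, nat_lit 3, nat_lit 8, nat_lit 4, nat_lit 5, nat_lit 3, nat_lit 4, nat_lit 2, nat_lit 3, nat_lit 8, nat_lit 6, nat_lit 7, nat_lit 5, nat_lit 6, nat_lit 4, nat_lit 5, nat_lit 3, nat_lit 4, nat_lit 2, nat_lit 3, nat_lit 8, nat_lit 1, nat_lit 2, nat_lit 3, nat_lit 4, nat_lit 5, nat_lit 6, nat_lit 7, nat_lit 8, nat_lit 4, nat_lit 5, nat_lit 3, nat_lit 4, nat_lit 1, nat_lit 2, nat_lit 3, nat_lit 8, nat_lit 0, nat_lit 1, nat_lit 2, nat_lit 3, nat_lit 4, nat_lit 5, nat_lit 2, nat_lit 1, nat_lit 8, nat_lit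 3, nat_lit 2, nat_lit 0, nat_lit 1, nat_lit 9, nat_lit 4, nat_lit 3, nat_lit 2, nat_lit 8, nat_lit 3, nat_lit 10, nat_lit 1, nat_lit 16, nat_lit 12, nat_lit 15, nat_lit 14, nat_lit 13, nat_lit 12] (Rl.t2 (nat_lit 578) (nat_lit 2281))))) (FT.node (nat_lit 6561) (FT.leaf (Fct.mk true (nat_lit 4) (nat_lit 20) (nat_lit 4) [nat_lit 8, nat_lit 3, nat_lit 4, nat_lit 2, nat_lit 3, nat_lit 8, nat_lit 5, nat_lit 6, nat_lit 4, nat_lit 5, nat_lit 3, nat_lit 4, nat_lit 2, nat_lit 3, nat_lit 8, nat_lit 1, nat_lit 2, nat_lit 3, nat_lit 4, nat_lit 5, nat_lit 8, nat_lit 3, nat_lit 2, nat_lit 1, nat_lit 4, nat_lit 3, nat_lit 2, nat_lit 8, nat_lit 3, nat_lit 8, nat_lit 10, nat_lit 1, nat_lit 8, nat_lit 16, nat_lit 14, nat_lit 8, nat_lit 19, nat_lit 16] (Rl.t2 (nat_lit 668) (nat_lit 1967)))) (FT.leaf (Fct.mk true (nat_lit 4) (nat_lit 13) (nat_lit 2) [nat_lit 5,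 nat_lit 4, nat_lit 3, nat_lit 8, nat_lit 1, nat_lit 2, nat_lit 3, nat_lit 4, nat_lit 5, nat_lit 8, nat_lit 4, nat_lit 3, nat_lit 2, nat_lit 0, nat_lit 1, nat_lit 9, nat_lit 4, nat_lit 3, nat_lit 2, nat_lit 8, nat_lit 3, nat_lit 8, nat_lit 10, nat_lit 9, nat_lit 2, nat_lit 8, nat_lit 16, nat_lit 15, nat_lit 14, nat_lit 17, nat_lit 18, nat_lit 16] (Rl.t2 (nat_lit 811) (nat_lit 2013)))))) (FT.node (nat_lit 6564) (FT.node (nat_lit 6563) (FT.leaf (Fct.mk true (nat_lit 4) (nat_lit 71) (nat_lit 4) [nat_lit 6, nat_lit 3, nat_lit 4, nat_lit 5, nat_lit 2, nat_lit 3, nat_lit 4, nat_lit 1, nat_lit 2, nat_lit 3, nat_lit 8, nat_lit 0, nat_lit 1, nat_lit 2, nat_lit 3, nat_lit 4, nat_lit 5, nat_lit 3, nat_lit 8, nat_lit 4, nat_lit 3, nat_lit 2, nat_lit 0, nat_lit 1, nat_lit 9, nat_lit 4, nat_lit 3, nat_lit 2, nat_lit 8, nat_lit 3, nat_lit 2, nat_lit 10, nat_lit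 1, nat_lit 8, nat_lit 12, nat_lit 15, nat_lit 14, nat_lit 17] (Rl.t2 (nat_lit 1084) (nat_lit 1941)))) (FT.leaf (Fct.mk true (nat_lit 4) (nat_lit 118) (nat_lit 4) [nat_lit 8, nat_lit 4, nat_lit 5, nat_lit 3, nat_lit 4, nat_lit 1, nat_lit 2, nat_lit 3, nat_lit 8, nat_lit 0, nat_lit 1, nat_lit 2, nat_lit 3, nat_lit 4, nat_lit 5, nat_lit 4, nat_lit 3, nat_lit 2, nat_lit 1, nat_lit 8, nat_lit 3, nat_lit 2, nat_lit 0, nat_lit 1, nat_lit 4, nat_lit 3, nat_lit 2, nat_lit 8, nat_lit 3, nat_lit 11, nat_lit 2, nat_lit 16, nat_lit 15, nat_lit 14, nat_lit 13, nat_lit 12, nat_lit 16] (Rl.t2 (nat_lit 1394) (nat_lit 1792))))) (FT.node (nat_lit 6565) (FT.leaf (Fct.mk true (nat_lit 4) (nat_lit 151) (nat_lit 4) [nat_lit 8, nat_lit 6, nat_lit 5, nat_lit 3, nat_lit 4, nat_lit 2, nat_lit 3, nat_lit 8, nat_lit 0, nat_lit 1, nat_lit 2, nat_lit 3, nat_lit 4, nat_lit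 5, nat_lit 1, nat_lit 2, nat_lit 8, nat_lit 3, nat_lit 11, nat_lit 1, nat_lit 8, nat_lit 12, nat_lit 15, nat_lit 14, nat_lit 16, nat_lit 8, nat_lit 16] (Rl.t2 (nat_lit 1397) (nat_lit 1792)))) (FT.leaf (Fct.mk true (nat_lit 4) (nat_lit 72) (nat_lit 4) [nat_lit 8, nat_lit 3, nat_lit 4, nat_lit 5, nat_lit 1, nat_lit 3, nat_lit 2, nat_lit 0, nat_lit 1, nat_lit 9, nat_lit 4, nat_lit 3, nat_lit 2, nat_lit 8, nat_lit 3, nat_lit 11, nat_lit 9, nat_lit 10, nat_lit 2, nat_lit 8, nat_lit 10, nat_lit 1, nat_lit 16, nat_lit 12, nat_lit 15, nat_lit 14, nat_lit 12, nat_lit 16] (Rl.t2 (nat_lit 1796) (nat_lit 1941)))))))) (FT.node (nat_lit 6574) (FT.node (nat_lit 6570) (FT.node (nat_lit 6568) (FT.node (nat_lit 6567) (FT.leaf (Fct.mk true (nat_lit 4) (nat_lit 232) (nat_lit 5) [nat_lit 8, nat_lit 3, nat_lit 4, nat_lit 5, nat_lit 6, nat_lit 7, nat_lit 5, nat_lit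 4, nat_lit 3, nat_lit 8, nat_lit 0, nat_lit 1, nat_lit 2, nat_lit 3, nat_lit 4, nat_lit 5, nat_lit 3, nat_lit 2, nat_lit 1, nat_lit 4, nat_lit 3, nat_lit 2, nat_lit 0, nat_lit 1, nat_lit 9, nat_lit 4, nat_lit 3, nat_lit 2, nat_lit 8, nat_lit 3, nat_lit 2, nat_lit 8, nat_lit 10, nat_lit 1, nat_lit 16, nat_lit 14, nat_lit 17] (Rl.t2 (nat_lit 2293) (nat_lit 2091)))) (FT.leaf (Fct.mk true (nat_lit 4) (nat_lit 126) (nat_lit 5) [nat_lit 4, nat_lit 5, nat_lit 3, nat_lit 2, nat_lit 1, nat_lit 8, nat_lit 3, nat_lit 2, nat_lit 0, nat_lit 1, nat_lit 4, nat_lit 3, nat_lit 2, nat_lit 8, nat_lit 3, nat_lit 1, nat_lit 0, nat_lit 2, nat_lit 17, nat_lit 12, nat_lit 16] (Rl.t2 (nat_lit 2378) (nat_lit 2425))))) (FT.node (nat_lit 6569) (FT.leaf (Fct.mk true (nat_lit 4) (nat_lit 2583) (nat_lit 4) [nat_lit 6, nat_lit 5, nat_lit 4, nat_lit 3, nat_lit 8, nat_lit 2,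 nat_lit 3, nat_lit 4, nat_lit 1, nat_lit 2, nat_lit 3, nat_lit 8, nat_lit 5, nat_lit 6, nat_lit 4, nat_lit 5, nat_lit 3, nat_lit 4, nat_lit 2, nat_lit 3, nat_lit 8, nat_lit 1, nat_lit 2, nat_lit 3, nat_lit 4, nat_lit 5, nat_lit 6, nat_lit 7, nat_lit 3, nat_lit 8, nat_lit 2, nat_lit 3, nat_lit 4, nat_lit 1, nat_lit 2, nat_lit 3, nat_lit 8, nat_lit 5, nat_lit 6, nat_lit 4, nat_lit 5, nat_lit 3, nat_lit 4, nat_lit 2, nat_lit 3, nat_lit 8, nat_lit 1, nat_lit 2, nat_lit 3, nat_lit 4, nat_lit 5, nat_lit 4, nat_lit 3, nat_lit 2, nat_lit 8, nat_lit 3, nat_lit 2, nat_lit 8, nat_lit 10, nat_lit 1, nat_lit 8, nat_lit 16, nat_lit 14, nat_lit 19] (Rl.t2 (nat_lit 2394) (nat_lit 2281)))) (FT.leaf (Fct.mk true (nat_lit 4) (nat_lit 4338) (nat_lit 4) [nat_lit 8, nat_lit 1, nat_lit 2, nat_lit 3, nat_lit 4, nat_lit 5, nat_lit 6, nat_lit 7, nat_lit 3, nat_lit 8,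 nat_lit 5, nat_lit 6, nat_lit 4, nat_lit 5, nat_lit 3, nat_lit 4, nat_lit 2, nat_lit 3, nat_lit 8, nat_lit 1, nat_lit 2, nat_lit 3, nat_lit 4, nat_lit 5, nat_lit 2, nat_lit 3, nat_lit 8, nat_lit 4, nat_lit 3, nat_lit 2, nat_lit 1, nat_lit 9, nat_lit 4, nat_lit 3, nat_lit 2, nat_lit 8, nat_lit 3, nat_lit 9, nat_lit 2, nat_lit 12, nat_lit 15, nat_lit 17, nat_lit 12, nat_lit 19, nat_lit 16] (Rl.t2 (nat_lit 2398) (nat_lit 2049)))))) (FT.node (nat_lit 6572) (FT.node (nat_lit 6571) (FT.leaf (Fct.mk true (nat_lit 4) (nat_lit 440) (nat_lit 4) [nat_lit 5, nat_lit 4, nat_lit 3, nat_lit 8, nat_lit 6, nat_lit 7, nat_lit 5, nat_lit 6, nat_lit 4, nat_lit 5, nat_lit 3, nat_lit 4, nat_lit 2, nat_lit 3, nat_lit 8, nat_lit 1, nat_lit 2, nat_lit 3, nat_lit 4, nat_lit 5, nat_lit 6, nat_lit 7, nat_lit 3, nat_lit 8, nat_lit 2, nat_lit 3, nat_lit 4, nat_lit 5, nat_lit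 2, nat_lit 3, nat_lit 8, nat_lit 4, nat_lit 3, nat_lit 2, nat_lit 1, nat_lit 9, nat_lit 4, nat_lit 3, nat_lit 2, nat_lit 8, nat_lit 3, nat_lit 8, nat_lit 10, nat_lit 1, nat_lit 16, nat_lit 8, nat_lit 12, nat_lit 15, nat_lit 16, nat_lit 8, nat_lit 19, nat_lit 16] (Rl.t2 (nat_lit 2403) (nat_lit 2281)))) (FT.leaf (Fct.mk true (nat_lit 4) (nat_lit 2289) (nat_lit 2) [nat_lit 4, nat_lit 5, nat_lit 3, nat_lit 4, nat_lit 2, nat_lit 3, nat_lit 8, nat_lit 1, nat_lit 2, nat_lit 3, nat_lit 4, nat_lit 5, nat_lit 6, nat_lit 7, nat_lit 4, nat_lit 3, nat_lit 8, nat_lit 5, nat_lit 6, nat_lit 4, nat_lit 5, nat_lit 3, nat_lit 4, nat_lit 2, nat_lit 3, nat_lit 8, nat_lit 1, nat_lit 2, nat_lit 3, nat_lit 4, nat_lit 5, nat_lit 3, nat_lit 10, nat_lit 2, nat_lit 8, nat_lit 10, nat_lit 1, nat_lit 14, nat_lit 12, nat_lit 16] (Rl.t2 (nat_lit 2422) (nat_lit 2337))))) (FT.node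 (nat_lit 6573) (FT.leaf (Fct.mk true (nat_lit 5) (nat_lit 231) (nat_lit 4) [nat_lit 3, nat_lit 4, nat_lit 2, nat_lit 3, nat_lit 8, nat_lit 0, nat_lit 1, nat_lit 2, nat_lit 3, nat_lit 4, nat_lit 5, nat_lit 3, nat_lit 2, nat_lit 1, nat_lit 9, nat_lit 4, nat_lit 3, nat_lit 2, nat_lit 8, nat_lit 3, nat_lit 11, nat_lit 10, nat_lit 1, nat_lit 12, nat_lit 15, nat_lit 14, nat_lit 16, nat_lit 8, nat_lit 19, nat_lit 16] (Rl.t2 (nat_lit 1773) (nat_lit 1976)))) (FT.leaf (Fct.mk true (nat_lit 5) (nat_lit 71) (nat_lit 2) [nat_lit 7, nat_lit 6, nat_lit 5, nat_lit 2, nat_lit 3, nat_lit 4, nat_lit 1, nat_lit 2, nat_lit 3, nat_lit 8, nat_lit 0, nat_lit 1, nat_lit 2, nat_lit 3, nat_lit 4, nat_lit 5, nat_lit 6, nat_lit 7, nat_lit 4, nat_lit 3, nat_lit 8, nat_lit 5, nat_lit 6, nat_lit 4, nat_lit 5, nat_lit 3, nat_lit 4, nat_lit 2, nat_lit 3, nat_lit 8, nat_lit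 0, nat_lit 1, nat_lit 2, nat_lit 3, nat_lit 4, nat_lit 5, nat_lit 3, nat_lit 2, nat_lit 1, nat_lit 4, nat_lit 3, nat_lit 2, nat_lit 8, nat_lit 3, nat_lit 11, nat_lit 9, nat_lit 10, nat_lit 2, nat_lit 8, nat_lit 10, nat_lit 1, nat_lit 8, nat_lit 16, nat_lit 15, nat_lit 14, nat_lit 13, nat_lit 18, nat_lit 16] (Rl.t2 (nat_lit 1860) (nat_lit 2337))))))) (FT.node (nat_lit 6578) (FT.node (nat_lit 6576) (FT.node (nat_lit 6575) (FT.leaf (Fct.mk true (nat_lit 5) (nat_lit 79) (nat_lit 4) [nat_lit 8, nat_lit 6, nat_lit 5, nat_lit 3, nat_lit 4, nat_lit 2, nat_lit 3, nat_lit 8, nat_lit 0, nat_lit 1, nat_lit 2, nat_lit 3, nat_lit 4, nat_lit 5, nat_lit 1, nat_lit 2, nat_lit 8, nat_lit 3, nat_lit 0, nat_lit 17, nat_lit 16] (Rl.t2 (nat_lit 1863) (nat_lit 1792)))) (FT.leaf (Fct.mk true (nat_lit 5) (nat_lit 2227) (nat_lit 4) [nat_lit 2, nat_lit 3, nat_lit 8,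 nat_lit 4, nat_lit 5, nat_lit 3, nat_lit 4, nat_lit 2, nat_lit 3, nat_lit 8, nat_lit 6, nat_lit 7, nat_lit 5, nat_lit 6, nat_lit 4, nat_lit 5, nat_lit 3, nat_lit 4, nat_lit 2, nat_lit 3, nat_lit 8, nat_lit 1, nat_lit 2, nat_lit 3, nat_lit 4, nat_lit 5, nat_lit 6, nat_lit 7, nat_lit 8, nat_lit 3, nat_lit 4, nat_lit 2, nat_lit 3, nat_lit 8, nat_lit 1, nat_lit 2, nat_lit 3, nat_lit 4, nat_lit 5, nat_lit 3, nat_lit 8, nat_lit 4, nat_lit 3, nat_lit 2, nat_lit 0, nat_lit 1, nat_lit 9, nat_lit 4, nat_lit 3, nat_lit 2, nat_lit 8, nat_lit 3, nat_lit 11, nat_lit 9, nat_lit 10, nat_lit 2, nat_lit 8, nat_lit 10, nat_lit 1, nat_lit 12, nat_lit 15, nat_lit 17, nat_lit 19] (Rl.t2 (nat_lit 1865) (nat_lit 2281))))) (FT.node (nat_lit 6577) (FT.leaf (Fct.mk true (nat_lit 5) (nat_lit 227) (nat_lit 5) [nat_lit 8, nat_lit 4, nat_lit 5, nat_lit 3, nat_lit 4, nat_lit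 2, nat_lit 3, nat_lit 8, nat_lit 1, nat_lit 2, nat_lit 3, nat_lit 4, nat_lit 5, nat_lit 8, nat_lit 3, nat_lit 2, nat_lit 0, nat_lit 1, nat_lit 4, nat_lit 3, nat_lit 2, nat_lit 8, nat_lit 3, nat_lit 9, nat_lit 10, nat_lit 2, nat_lit 8, nat_lit 10, nat_lit 1, nat_lit 16, nat_lit 15, nat_lit 14, nat_lit 13, nat_lit 12] (Rl.t2 (nat_lit 2098) (nat_lit 2425)))) (FT.leaf (Fct.mk true (nat_lit 5) (nat_lit 2594) (nat_lit 5) [nat_lit 3, nat_lit 8, nat_lit 6, nat_lit 7, nat_lit 5, nat_lit 6, nat_lit 4, nat_lit 5, nat_lit 3, nat_lit 4, nat_lit 2, nat_lit 3, nat_lit 8, nat_lit 0, nat_lit 1, nat_lit 2, nat_lit 3, nat_lit 4, nat_lit 5, nat_lit 6, nat_lit 7, nat_lit 1, nat_lit 2, nat_lit 3, nat_lit 8, nat_lit 4, nat_lit 5, nat_lit 3, nat_lit 4, nat_lit 2, nat_lit 3, nat_lit 8, nat_lit 1, nat_lit 2, nat_lit 3, nat_lit 4, nat_lit 5, nat_lit 3, nat_lit 2, nat_lit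 1, nat_lit 4, nat_lit 3, nat_lit 2, nat_lit 8, nat_lit 3, nat_lit 10, nat_lit 16, nat_lit 12, nat_lit 15, nat_lit 14, nat_lit 17, nat_lit 12, nat_lit 19, nat_lit 16] (Rl.t2 (nat_lit 2496) (nat_lit 2091)))))) (FT.node (nat_lit 6580) (FT.node (nat_lit 6579) (FT.leaf (Fct.mk true (nat_lit 5) (nat_lit 1083) (nat_lit 4) [nat_lit 5, nat_lit 2, nat_lit 3, nat_lit 4, nat_lit 1, nat_lit 2, nat_lit 3, nat_lit 8, nat_lit 6, nat_lit 7, nat_lit 5, nat_lit 6, nat_lit 4, nat_lit 5, nat_lit 3, nat_lit 4, nat_lit 2, nat_lit 3, nat_lit 8, nat_lit 1, nat_lit 2, nat_lit 3, nat_lit 4, nat_lit 5, nat_lit 6, nat_lit 7, nat_lit 3, nat_lit 8, nat_lit 6, nat_lit 4, nat_lit 5, nat_lit 3, nat_lit 4, nat_lit 2, nat_lit 3, nat_lit 8, nat_lit 0, nat_lit 1, nat_lit 2, nat_lit 3, nat_lit 4, nat_lit 5, nat_lit 3, nat_lit 2, nat_lit 1, nat_lit 8, nat_lit 3, nat_lit 2, nat_lit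 0, nat_lit 1, nat_lit 4, nat_lit 3, nat_lit 2, nat_lit 8, nat_lit 3, nat_lit 2, nat_lit 10, nat_lit 1, nat_lit 16, nat_lit 15, nat_lit 14, nat_lit 13, nat_lit 18] (Rl.t2 (nat_lit 2501) (nat_lit 2049)))) (FT.leaf (Fct.mk true (nat_lit 25) (nat_lit 25) (nat_lit 4) [nat_lit 8, nat_lit 5, nat_lit 6, nat_lit 4, nat_lit 5, nat_lit 3, nat_lit 4, nat_lit 1, nat_lit 2, nat_lit 3, nat_lit 8, nat_lit 0, nat_lit 1, nat_lit 2, nat_lit 3, nat_lit 4, nat_lit 5, nat_lit 8, nat_lit 10, nat_lit 1, nat_lit 17, nat_lit 19] (Rl.t2 (nat_lit 1271) (nat_lit 1941))))) (FT.node (nat_lit 6581) (FT.leaf (Fct.mk true (nat_lit 25) (nat_lit 37) (nat_lit 5) [nat_lit 4, nat_lit 5, nat_lit 2, nat_lit 3, nat_lit 4, nat_lit 1, nat_lit 2, nat_lit 3, nat_lit 8, nat_lit 0, nat_lit 1, nat_lit 2, nat_lit 3, nat_lit 4, nat_lit 5, nat_lit 2, nat_lit 1, nat_lit 4, nat_lit 3, nat_lit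 2, nat_lit 8, nat_lit 3, nat_lit 9, nat_lit 10, nat_lit 2, nat_lit 8, nat_lit 10, nat_lit 1, nat_lit 8, nat_lit 16, nat_lit 15, nat_lit 14, nat_lit 12, nat_lit 18] (Rl.t2 (nat_lit 2113) (nat_lit 2425)))) (FT.leaf (Fct.mk true (nat_lit 25) (nat_lit 142) (nat_lit 2) [nat_lit 8, nat_lit 7, nat_lit 6, nat_lit 5, nat_lit 3, nat_lit 4, nat_lit 1, nat_lit 2, nat_lit 3, nat_lit 8, nat_lit 0, nat_lit 1, nat_lit 2, nat_lit 3, nat_lit 4, nat_lit 5, nat_lit 6, nat_lit 7, nat_lit 4, nat_lit 2, nat_lit 3, nat_lit 8, nat_lit 5, nat_lit 6, nat_lit 4, nat_lit 5, nat_lit 3, nat_lit 4, nat_lit 2, nat_lit 3, nat_lit 8, nat_lit 1, nat_lit 2, nat_lit 3, nat_lit 4, nat_lit 5, nat_lit 2, nat_lit 8, nat_lit 3, nat_lit 2, nat_lit 8, nat_lit 10, nat_lit 1, nat_lit 8, nat_lit 16, nat_lit 15, nat_lit 14, nat_lit 13, nat_lit 16] (Rl.t2 (nat_lit 2142) (nat_lit 2337))))))))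

/-- the facts -/
noncomputable def ft : FT := FT.node (nat_lit 3300) (FT.node (nat_lit 1650) (FT.node (nat_lit 800) (FT.node (nat_lit 400) (FT.node (nat_lit 200) (FT.node (nat_lit 100) (FT.node (nat_lit 50) (ftc0) (ftc1)) (FT.node (nat_lit 150) (ftc2) (ftc3))) (FT.node (nat_lit 300) (FT.node (nat_lit 250) (ftc4) (ftc5)) (FT.node (nat_lit 350) (ftc6) (ftc7)))) (FT.node (nat_lit 600) (FT.node (nat_lit 500) (FT.node (nat_lit 450) (ftc8) (ftc9)) (FT.node (nat_lit 550) (ftc10) (ftc11))) (FT.node (nat_lit 700) (FT.node (nat_lit 650) (ftc12) (ftc13)) (FT.node (nat_lit 750) (ftc14) (ftc15))))) (FT.node (nat_lit 1200) (FT.node (nat_lit 1000) (FT.node (nat_lit 900) (FT.node (nat_lit 850) (ftc16) (ftc17)) (FT.node (nat_lit 950) (ftc18) (ftc19))) (FT.node (nat_lit 1100) (FT.node (nat_lit 1050) (ftc20) (ftc21)) (FT.node (nat_lit 1150) (ftc22) (ftc23))))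 (FT.node (nat_lit 1400) (FT.node (nat_lit 1300) (FT.node (nat_lit 1250) (ftc24) (ftc25)) (FT.node (nat_lit 1350) (ftc26) (ftc27))) (FT.node (nat_lit 1500) (FT.node (nat_lit 1450) (ftc28) (ftc29)) (FT.node (nat_lit 1550) (ftc30) (FT.node (nat_lit 1600) (ftc31) (ftc32))))))) (FT.node (nat_lit 2450) (FT.node (nat_lit 2050) (FT.node (nat_lit 1850) (FT.node (nat_lit 1750) (FT.node (nat_lit 1700) (ftc33) (ftc34)) (FT.node (nat_lit 1800) (ftc35) (ftc36))) (FT.node (nat_lit 1950) (FT.node (nat_lit 1900) (ftc37) (ftc38)) (FT.node (nat_lit 2000) (ftc39) (ftc40)))) (FT.node (nat_lit 2250) (FT.node (nat_lit 2150) (FT.node (nat_lit 2100) (ftc41) (ftc42)) (FT.node (nat_lit 2200) (ftc43) (ftc44))) (FT.node (nat_lit 2350) (FT.node (nat_lit 2300) (ftc45) (ftc46)) (FT.node (nat_lit 2400) (ftc47) (ftc48))))) (FT.node (nat_lit 2850) (FT.node (nat_lit 2650) (FT.node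 (nat_lit 2550) (FT.node (nat_lit 2500) (ftc49) (ftc50)) (FT.node (nat_lit 2600) (ftc51) (ftc52))) (FT.node (nat_lit 2750) (FT.node (nat_lit 2700) (ftc53) (ftc54)) (FT.node (nat_lit 2800) (ftc55) (ftc56)))) (FT.node (nat_lit 3050) (FT.node (nat_lit 2950) (FT.node (nat_lit 2900) (ftc57) (ftc58)) (FT.node (nat_lit 3000) (ftc59) (ftc60))) (FT.node (nat_lit 3150) (FT.node (nat_lit 3100) (ftc61) (ftc62)) (FT.node (nat_lit 3200) (ftc63) (FT.node (nat_lit 3250) (ftc64) (ftc65)))))))) (FT.node (nat_lit 4950) (FT.node (nat_lit 4100) (FT.node (nat_lit 3700) (FT.node (nat_lit 3500) (FT.node (nat_lit 3400) (FT.node (nat_lit 3350) (ftc66) (ftc67)) (FT.node (nat_lit 3450) (ftc68) (ftc69))) (FT.node (nat_lit 3600) (FT.node (nat_lit 3550) (ftc70) (ftc71)) (FT.node (nat_lit 3650) (ftc72) (ftc73)))) (FT.node (nat_lit 3900) (FT.node (nat_lit 3800) (FT.node (nat_lit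 3750) (ftc74) (ftc75)) (FT.node (nat_lit 3850) (ftc76) (ftc77))) (FT.node (nat_lit 4000) (FT.node (nat_lit 3950) (ftc78) (ftc79)) (FT.node (nat_lit 4050) (ftc80) (ftc81))))) (FT.node (nat_lit 4500) (FT.node (nat_lit 4300) (FT.node (nat_lit 4200) (FT.node (nat_lit 4150) (ftc82) (ftc83)) (FT.node (nat_lit 4250) (ftc84) (ftc85))) (FT.node (nat_lit 4400) (FT.node (nat_lit 4350) (ftc86) (ftc87)) (FT.node (nat_lit 4450) (ftc88) (ftc89)))) (FT.node (nat_lit 4700) (FT.node (nat_lit 4600) (FT.node (nat_lit 4550) (ftc90) (ftc91)) (FT.node (nat_lit 4650) (ftc92) (ftc93))) (FT.node (nat_lit 4800) (FT.node (nat_lit 4750) (ftc94) (ftc95)) (FT.node (nat_lit 4850) (ftc96) (FT.node (nat_lit 4900) (ftc97) (ftc98))))))) (FT.node (nat_lit 5750) (FT.node (nat_lit 5350) (FT.node (nat_lit 5150) (FT.node (nat_lit 5050) (FT.node (nat_lit 5000) (ftc99) (ftc100)) (FT.node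 (nat_lit 5100) (ftc101) (ftc102))) (FT.node (nat_lit 5250) (FT.node (nat_lit 5200) (ftc103) (ftc104)) (FT.node (nat_lit 5300) (ftc105) (ftc106)))) (FT.node (nat_lit 5550) (FT.node (nat_lit 5450) (FT.node (nat_lit 5400) (ftc107) (ftc108)) (FT.node (nat_lit 5500) (ftc109) (ftc110))) (FT.node (nat_lit 5650) (FT.node (nat_lit 5600) (ftc111) (ftc112)) (FT.node (nat_lit 5700) (ftc113) (ftc114))))) (FT.node (nat_lit 6150) (FT.node (nat_lit 5950) (FT.node (nat_lit 5850) (FT.node (nat_lit 5800) (ftc115) (ftc116)) (FT.node (nat_lit 5900) (ftc117) (ftc118))) (FT.node (nat_lit 6050) (FT.node (nat_lit 6000) (ftc119) (ftc120)) (FT.node (nat_lit 6100) (ftc121) (ftc122)))) (FT.node (nat_lit 6350) (FT.node (nat_lit 6250) (FT.node (nat_lit 6200) (ftc123) (ftc124)) (FT.node (nat_lit 6300) (ftc125) (ftc126))) (FT.node (nat_lit 6450) (FT.node (nat_lit 6400) (ftc127)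 (ftc128)) (FT.node (nat_lit 6500) (ftc129) (FT.node (nat_lit 6550) (ftc130) (ftc131))))))))

/-- the enumeration -/
noncomputable def d : DC where
  n := nat_lit 130560
  la := fun l a b => blt b (nat_lit 130560) && Nat.beq (frc (pt a) (fun v => blk (evL R l) v (nat_lit 9))) (frc (pt b) (fun v => blk (fun p => p) v (nat_lit 9)))
  m := nat_lit 255
  R := R
  base := [nat_lit 0, nat_lit 243, nat_lit 226, nat_lit 135, nat_lit 115, nat_lit 96, nat_lit 40, nat_lit 234]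
  invl := fun c => c
  path := fun i => pathL.getD i []
  F := ft.get
  rels := fun ρ => relsL.getD ρ ([], [])

/-- the number of facts -/
def NF : ℕ := nat_lit 6582

/-- the names of the double cosets -/
def Lv : List ℕ := [nat_lit 0, nat_lit 1, nat_lit 2, nat_lit 4, nat_lit 5, nat_lit 25, nat_lit 32, nat_lit 33, nat_lit 34, nat_lit 35, nat_lit 36, nat_lit 37, nat_lit 38]

/-- the letter of the generator `i` under `h` -/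
def c1 : ℕ := nat_lit 130559

/-- the stabilisers -/
def kgL : List KG := [[([nat_lit 0], [nat_lit 0], nat_lit 0), ([nat_lit 1], [nat_lit 1], nat_lit 1), ([nat_lit 2], [nat_lit 2], nat_lit 2), ([nat_lit 3], [nat_lit 3], nat_lit 3), ([nat_lit 4], [nat_lit 4], nat_lit 4), ([nat_lit 5], [nat_lit 5], nat_lit 5), ([nat_lit 6], [nat_lit 6], nat_lit 6), ([nat_lit 7], [nat_lit 7], nat_lit 7), ([nat_lit 8], [nat_lit 8], nat_lit 8)], [([nat_lit 3], [nat_lit 3], nat_lit 13), ([nat_lit 20], [nat_lit 21], nat_lit 15), ([nat_lit 22], [nat_lit 23], nat_lit 17), ([nat_lit 24], [nat_lit 25], nat_lit 19), ([nat_lit 26], [nat_lit 27], nat_lit 21), ([nat_lit 28], [nat_lit 29], nat_lit 23), ([nat_lit 30], [nat_lit 31], nat_lit 25), ([nat_lit 32], [nat_lit 33], nat_lit 27), ([nat_lit 34], [nat_lit 34], nat_lit 2063)], [([nat_lit 35], [nat_lit 35], nat_lit 84), ([nat_lit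 36], [nat_lit 37], nat_lit 86), ([nat_lit 38], [nat_lit 39], nat_lit 87), ([nat_lit 40], [nat_lit 41], nat_lit 88), ([nat_lit 42], [nat_lit 43], nat_lit 168), ([nat_lit 44], [nat_lit 45], nat_lit 172), ([nat_lit 46], [nat_lit 46], nat_lit 173), ([nat_lit 47], [nat_lit 47], nat_lit 300), ([nat_lit 48], [nat_lit 49], nat_lit 1850), ([nat_lit 50], [nat_lit 50], nat_lit 2019), ([nat_lit 51], [nat_lit 52], nat_lit 2330), ([nat_lit 53], [nat_lit 54], nat_lit 2340)], [], [([nat_lit 55], [nat_lit 55], nat_lit 234), ([nat_lit 22], [nat_lit 23], nat_lit 239), ([nat_lit 1], [nat_lit 1], nat_lit 240), ([nat_lit 10], [nat_lit 10], nat_lit 241), ([nat_lit 56], [nat_lit 57], nat_lit 243), ([nat_lit 7], [nat_lit 7], nat_lit 263), ([nat_lit 58], [nat_lit 59], nat_lit 312), ([nat_lit 60], [nat_lit 61], nat_lit 1995), ([nat_lit 62], [nat_lit 63], nat_lit 2284),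 ([nat_lit 64], [nat_lit 65], nat_lit 2372)], [([nat_lit 66], [nat_lit 66], nat_lit 470), ([nat_lit 1], [nat_lit 1], nat_lit 472), ([nat_lit 67], [nat_lit 67], nat_lit 488), ([nat_lit 68], [nat_lit 68], nat_lit 493), ([nat_lit 69], [nat_lit 70], nat_lit 511), ([nat_lit 71], [nat_lit 72], nat_lit 1754), ([nat_lit 73], [nat_lit 73], nat_lit 1859), ([nat_lit 74], [nat_lit 75], nat_lit 2094), ([nat_lit 76], [nat_lit 77], nat_lit 2491)], [], [], [], [], [], [], [], [], [], [], [], [], [], [], [], [], [], [], [], [([nat_lit 78], [nat_lit 78], nat_lit 1231), ([nat_lit 79], [nat_lit 79], nat_lit 1237), ([nat_lit 80], [nat_lit 80], nat_lit 1244), ([nat_lit 81], [nat_lit 81], nat_lit 1247), ([nat_lit 82], [nat_lit 82], nat_lit 1256), ([nat_lit 83], [nat_lit 84], nat_lit 1258), ([nat_lit 85], [nat_lit 85], nat_lit 1672), ([nat_lit 86], [nat_lit 86], nat_lit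 1813), ([nat_lit 87], [nat_lit 88], nat_lit 2004), ([nat_lit 89], [nat_lit 90], nat_lit 2117), ([nat_lit 91], [nat_lit 91], nat_lit 2467)], [], [], [], [], [], [], [([nat_lit 4], [nat_lit 4], nat_lit 2995), ([nat_lit 92], [nat_lit 93], nat_lit 3004), ([nat_lit 94], [nat_lit 95], nat_lit 3010), ([nat_lit 96], [nat_lit 97], nat_lit 3047), ([nat_lit 98], [nat_lit 99], nat_lit 3456)], [([nat_lit 100], [nat_lit 100], nat_lit 4400), ([nat_lit 101], [nat_lit 102], nat_lit 4402), ([nat_lit 103], [nat_lit 104], nat_lit 4456), ([nat_lit 105], [nat_lit 106], nat_lit 4605)], [([nat_lit 107], [nat_lit 107], nat_lit 5717), ([nat_lit 108], [nat_lit 108], nat_lit 5725), ([nat_lit 109], [nat_lit 110], nat_lit 5730), ([nat_lit 111], [nat_lit 112], nat_lit 5742), ([nat_lit 113], [nat_lit 114], nat_lit 5746)], [([nat_lit 115], [nat_lit 116], nat_lit 5794), ([nat_lit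 117], [nat_lit 118], nat_lit 5795), ([nat_lit 119], [nat_lit 120], nat_lit 5796), ([nat_lit 121], [nat_lit 122], nat_lit 5797), ([nat_lit 123], [nat_lit 124], nat_lit 5798), ([nat_lit 125], [nat_lit 125], nat_lit 5799)], [([nat_lit 126], [nat_lit 127], nat_lit 5804), ([nat_lit 128], [nat_lit 129], nat_lit 5806), ([nat_lit 130], [nat_lit 131], nat_lit 5810), ([nat_lit 132], [nat_lit 133], nat_lit 5814)], [([nat_lit 134], [nat_lit 135], nat_lit 6106), ([nat_lit 136], [nat_lit 136], nat_lit 6107), ([nat_lit 137], [nat_lit 138], nat_lit 6110)], [([nat_lit 139], [nat_lit 140], nat_lit 6515), ([nat_lit 141], [nat_lit 141], nat_lit 6517), ([nat_lit 142], [nat_lit 142], nat_lit 6518)]]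

/-- the stabiliser of a name -/
def kg (r : ℕ) : KG := kgL.getD r []

/-- the generators of the stabiliser of the first letter -/
def s9kg : KG := [([nat_lit 0], [nat_lit 0], nat_lit 0), ([nat_lit 1], [nat_lit 1], nat_lit 0), ([nat_lit 2], [nat_lit 2], nat_lit 0), ([nat_lit 3], [nat_lit 3], nat_lit 0), ([nat_lit 4], [nat_lit 4], nat_lit 0), ([nat_lit 5], [nat_lit 5], nat_lit 0), ([nat_lit 6], [nat_lit 6], nat_lit 0), ([nat_lit 7], [nat_lit 7], nat_lit 0)]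

/-- a level of a chain -/
noncomputable def tblv0x0 : TT := .leaf (nat_lit 0x2010000fd0000fe01020000f40000fd0c060000f30000fc0a050000f20000fb02020000f10000fa02010000f10000f908040000ef0000f806030000ee0000f704020000f00000f606030000ed0000f500000000000000f40b070000fb0000f309060000f80000f201000000f40000f103030000f90000f007050000f70000ef05040000f60000ee05080000f60000ed01030000f40000ec0a070000f20000eb08060000ef0000ea02030000f10000e904040000f00000e804080000f00000e706050000ee0000e606080000ee0000e502040000ec0000e402080000ec0000e309070000ea0000e207060000e60000e103040000e90000e003080000e90000df05050000e80000de05080000e80000dd07080000e60000dc03050000e40000db03080000e40000da08070000e10000d906060000de0000d808080000e10000d704050000e00000d604080000e00000d506030000dd0000d406080000de0000d304060000db0000d204030000da0000d104080000db0000d006010000c40000cf0e0500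00c10000ce07070000d80000cd09080000d90000cc05060000d60000cb07080000d80000ca05030000d50000c905080000d60000c807030000d30000c705070000d20000c605080000d20000c505020000d10000c405030000d00000c307010000b70000c20d040000b20000c106070000cb0000c008080000cd0000bf06080000cb0000be08030000ca0000bd06020000c90000bc06030000c80000bb08040000c70000ba06080000c60000b906030000c50000b806020000c30000b706040000c30000b608010000a90000b508040000c20000b40a020000a40000b30c030000a20000b20e040000a10000b107080000c00000b009030000bf0000af07030000be0000ae09040000bd0000ad07020000bb0000ac07040000bb0000ab07030000b90000aa07020000b80000a907040000b80000a807040000b70000a709010000980000a609040000b50000a509030000b40000a40b020000920000a30b080000b30000a20d0300008d0000a10f0400008b0000a00a050000ad00009f08030000b000009e0a040000af00009d08020000ae00009c08040000ae00009b08040000ac00009a08050000a8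00009908020000aa00009808040000aa00009708040000a900009608030000a70000950a050000a50000940a040000a60000930a030000a50000920a080000a40000910e0300007a0000900c050000a300008f0c0200007d00008e0c080000a300008d0e0300007800008c0e0300007700008b0b0500009d00008a090500009b000089090200009e000088090400009e000087090400009c000086090300009a000085090500009700008409050000960000830904000098000082090300009600008109080000950000800b0500009300007f0b0500009200007e0b0300009300007d0b0800009200007c0f0300006300007b0d0400008f00007a0d0500008e0000790d0800008f0000780d0800008e0000770f030000600000760c0600008a0000750a050000870000740a050000860000730a040000880000720a030000860000710a080000850000700a0600008400006f0a0500008200006e0a0500008100006d0a0300008200006c0a0800008100006b0c0400007e00006a0c0600007f0000690c0500007d0000680c0800007e0000670c0800007d0000661204000050000065100600007b0000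640e040000790000630e0800007a0000620e060000790000610e08000079000060100300004d00005f0b0600007400005e0b0500007200005d0b0500007100005c0b0300007200005b0b0800007100005a0b0400006d0000590b0600006e0000580b0500006c0000570b0800006d0000560b0800006c0000550d040000680000540d0800006a0000530d060000680000520d0800006800005111050000640000500f0600006300004f0f0800006300004e0f0800006100004d0c0400005c00004c0c0600005d00004b0c0500005b00004a0c0800005c0000490c0800005b0000480c040000570000470c080000590000460c060000570000450c080000570000440e030000530000430e060000540000420e080000540000410e08000052000040100500004f00003f100800004f00003e0d0400004a00003d0d0800004c00003c0d0600004a00003b0d0800004a00003a0d030000460000390d060000470000380d080000470000370d080000450000360f030000410000350f050000420000340f08000042000033110800003f0000320e0300003c0000310e0600003d0000300e0800003d00002f0e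0800003b00002e0e0200003900002d0e0300003700002c0e0500003800002b0e0800003800002a100300003300002910080000340000280f020000310000270f0300002f0000260f050000300000250f080000300000240f0200002c0000230f0300002a0000220f0800002b0000211103000028000020100100002700001f100200002600001e100300002400001d100800002500001c100200002200001b100300002100001a1204000020000019110100001e000018110200001d000017110300001c000016110200001a000015110400001a0000141201000017000013120200001600001212040000160000111204000015000010130100001200000f130400001200000e130300001000000d140400000f00000c140300000e00000b140800000d00000a150300000c000009150800000b000008160200000900000716080000090000061708000007000005180300000500000419040000040000031a050000030000021b060000020000011c07000001000000)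
/-- a level of a chain -/
noncomputable def lv0x0 : Lvl where
  b := nat_lit 244
  n := nat_lit 255
  t := fun k => TT.fld tblv0x0 (nat_lit 64) (nat_lit 255) (nat_lit 18446744073709551615) k
  next := [.mul (.inv (.mul (.lt (nat_lit 6)) (.mul (.lt (nat_lit 5)) (.mul (.lt (nat_lit 4)) (.mul (.lt (nat_lit 1)) (.mul (.lt (nat_lit 2)) (.mul (.lt (nat_lit 3)) (.mul (.lt (nat_lit 8)) (.mul (.lt (nat_lit 7)) (.mul (.lt (nat_lit 6)) (.mul (.lt (nat_lit 5)) (.mul (.lt (nat_lit 4)) (.lt (nat_lit 3)))))))))))))) (.mul (.lt (nat_lit 2)) (.mul (.lt (nat_lit 6)) (.mul (.lt (nat_lit 5)) (.mul (.lt (nat_lit 4)) (.mul (.lt (nat_lit 1)) (.mul (.lt (nat_lit 2)) (.mul (.lt (nat_lit 3)) (.mul (.lt (nat_lit 8)) (.mul (.lt (nat_lit 7)) (.mul (.lt (nat_lit 6)) (.mul (.lt (nat_lit 5)) (.mul (.lt (nat_lit 4)) (.lt (nat_lit 3)))))))))))))), .mul (.inv (.mul (.lt (nat_lit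 4)) (.mul (.lt (nat_lit 1)) (.mul (.lt (nat_lit 2)) (.mul (.lt (nat_lit 3)) (.mul (.lt (nat_lit 8)) (.mul (.lt (nat_lit 7)) (.mul (.lt (nat_lit 6)) (.mul (.lt (nat_lit 5)) (.mul (.lt (nat_lit 4)) (.lt (nat_lit 3)))))))))))) (.mul (.lt (nat_lit 6)) (.mul (.lt (nat_lit 4)) (.mul (.lt (nat_lit 1)) (.mul (.lt (nat_lit 2)) (.mul (.lt (nat_lit 3)) (.mul (.lt (nat_lit 8)) (.mul (.lt (nat_lit 7)) (.mul (.lt (nat_lit 6)) (.mul (.lt (nat_lit 5)) (.mul (.lt (nat_lit 4)) (.lt (nat_lit 3)))))))))))), .mul (.inv (.mul (.lt (nat_lit 3)) (.mul (.lt (nat_lit 4)) (.mul (.lt (nat_lit 2)) (.mul (.lt (nat_lit 3)) (.mul (.lt (nat_lit 8)) (.mul (.lt (nat_lit 5)) (.mul (.lt (nat_lit 6)) (.mul (.lt (nat_lit 4)) (.mul (.lt (nat_lit 5)) (.mul (.lt (nat_lit 3)) (.mul (.lt (nat_lit 4)) (.mul (.lt (nat_lit 2)) (.mul (.lt (nat_lit 3)) (.mul (.lt (nat_lit 8)) (.mul (.lt (nat_lit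 7)) (.mul (.lt (nat_lit 6)) (.mul (.lt (nat_lit 5)) (.mul (.lt (nat_lit 4)) (.mul (.lt (nat_lit 3)) (.lt (nat_lit 0)))))))))))))))))))))) (.mul (.lt (nat_lit 5)) (.mul (.lt (nat_lit 3)) (.mul (.lt (nat_lit 4)) (.mul (.lt (nat_lit 2)) (.mul (.lt (nat_lit 3)) (.mul (.lt (nat_lit 8)) (.mul (.lt (nat_lit 5)) (.mul (.lt (nat_lit 6)) (.mul (.lt (nat_lit 4)) (.mul (.lt (nat_lit 5)) (.mul (.lt (nat_lit 3)) (.mul (.lt (nat_lit 4)) (.mul (.lt (nat_lit 2)) (.mul (.lt (nat_lit 3)) (.mul (.lt (nat_lit 8)) (.mul (.lt (nat_lit 7)) (.mul (.lt (nat_lit 6)) (.mul (.lt (nat_lit 5)) (.mul (.lt (nat_lit 4)) (.mul (.lt (nat_lit 3)) (.lt (nat_lit 0)))))))))))))))))))))), .mul (.inv (.mul (.lt (nat_lit 6)) (.mul (.lt (nat_lit 5)) (.mul (.lt (nat_lit 4)) (.mul (.lt (nat_lit 3)) (.mul (.lt (nat_lit 8)) (.mul (.lt (nat_lit 7)) (.mul (.lt (nat_lit 6)) (.mul (.lt (nat_lit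 5)) (.mul (.lt (nat_lit 4)) (.mul (.lt (nat_lit 3)) (.mul (.lt (nat_lit 1)) (.lt (nat_lit 0)))))))))))))) (.mul (.lt (nat_lit 7)) (.mul (.lt (nat_lit 6)) (.mul (.lt (nat_lit 5)) (.mul (.lt (nat_lit 4)) (.mul (.lt (nat_lit 3)) (.mul (.lt (nat_lit 8)) (.mul (.lt (nat_lit 7)) (.mul (.lt (nat_lit 6)) (.mul (.lt (nat_lit 5)) (.mul (.lt (nat_lit 4)) (.mul (.lt (nat_lit 3)) (.mul (.lt (nat_lit 1)) (.lt (nat_lit 0)))))))))))))), .mul (.inv (.mul (.lt (nat_lit 5)) (.mul (.lt (nat_lit 4)) (.mul (.lt (nat_lit 1)) (.mul (.lt (nat_lit 2)) (.mul (.lt (nat_lit 3)) (.mul (.lt (nat_lit 8)) (.mul (.lt (nat_lit 7)) (.mul (.lt (nat_lit 6)) (.mul (.lt (nat_lit 5)) (.mul (.lt (nat_lit 4)) (.lt (nat_lit 3))))))))))))) (.mul (.lt (nat_lit 4)) (.mul (.lt (nat_lit 5)) (.mul (.lt (nat_lit 4)) (.mul (.lt (nat_lit 1)) (.mul (.lt (nat_lit 2)) (.mul (.lt (nat_lit 3)) (.mul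 (.lt (nat_lit 8)) (.mul (.lt (nat_lit 7)) (.mul (.lt (nat_lit 6)) (.mul (.lt (nat_lit 5)) (.mul (.lt (nat_lit 4)) (.lt (nat_lit 3))))))))))))), .mul (.inv (.mul (.lt (nat_lit 3)) (.mul (.lt (nat_lit 8)) (.mul (.lt (nat_lit 5)) (.mul (.lt (nat_lit 6)) (.mul (.lt (nat_lit 4)) (.mul (.lt (nat_lit 5)) (.mul (.lt (nat_lit 3)) (.mul (.lt (nat_lit 4)) (.mul (.lt (nat_lit 1)) (.mul (.lt (nat_lit 2)) (.mul (.lt (nat_lit 3)) (.mul (.lt (nat_lit 8)) (.mul (.lt (nat_lit 7)) (.mul (.lt (nat_lit 6)) (.mul (.lt (nat_lit 5)) (.mul (.lt (nat_lit 4)) (.lt (nat_lit 3))))))))))))))))))) (.mul (.lt (nat_lit 0)) (.mul (.lt (nat_lit 3)) (.mul (.lt (nat_lit 8)) (.mul (.lt (nat_lit 5)) (.mul (.lt (nat_lit 6)) (.mul (.lt (nat_lit 4)) (.mul (.lt (nat_lit 5)) (.mul (.lt (nat_lit 3)) (.mul (.lt (nat_lit 4)) (.mul (.lt (nat_lit 1)) (.mul (.lt (nat_lit 2)) (.mul (.lt (nat_lit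 3)) (.mul (.lt (nat_lit 8)) (.mul (.lt (nat_lit 7)) (.mul (.lt (nat_lit 6)) (.mul (.lt (nat_lit 5)) (.mul (.lt (nat_lit 4)) (.lt (nat_lit 3))))))))))))))))))), .mul (.inv (.mul (.lt (nat_lit 4)) (.mul (.lt (nat_lit 3)) (.mul (.lt (nat_lit 8)) (.mul (.lt (nat_lit 5)) (.mul (.lt (nat_lit 6)) (.mul (.lt (nat_lit 4)) (.mul (.lt (nat_lit 5)) (.mul (.lt (nat_lit 3)) (.mul (.lt (nat_lit 4)) (.mul (.lt (nat_lit 2)) (.mul (.lt (nat_lit 3)) (.mul (.lt (nat_lit 8)) (.mul (.lt (nat_lit 7)) (.mul (.lt (nat_lit 6)) (.mul (.lt (nat_lit 5)) (.mul (.lt (nat_lit 4)) (.lt (nat_lit 3))))))))))))))))))) (.mul (.lt (nat_lit 6)) (.mul (.lt (nat_lit 4)) (.mul (.lt (nat_lit 3)) (.mul (.lt (nat_lit 8)) (.mul (.lt (nat_lit 5)) (.mul (.lt (nat_lit 6)) (.mul (.lt (nat_lit 4)) (.mul (.lt (nat_lit 5)) (.mul (.lt (nat_lit 3)) (.mul (.lt (nat_lit 4)) (.mul (.lt (nat_lit 2))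 (.mul (.lt (nat_lit 3)) (.mul (.lt (nat_lit 8)) (.mul (.lt (nat_lit 7)) (.mul (.lt (nat_lit 6)) (.mul (.lt (nat_lit 5)) (.mul (.lt (nat_lit 4)) (.lt (nat_lit 3))))))))))))))))))), .mul (.inv (.mul (.lt (nat_lit 6)) (.mul (.lt (nat_lit 5)) (.mul (.lt (nat_lit 4)) (.mul (.lt (nat_lit 3)) (.mul (.lt (nat_lit 8)) (.mul (.lt (nat_lit 7)) (.mul (.lt (nat_lit 6)) (.mul (.lt (nat_lit 5)) (.mul (.lt (nat_lit 4)) (.mul (.lt (nat_lit 3)) (.lt (nat_lit 0))))))))))))) (.mul (.lt (nat_lit 3)) (.mul (.lt (nat_lit 6)) (.mul (.lt (nat_lit 5)) (.mul (.lt (nat_lit 4)) (.mul (.lt (nat_lit 3)) (.mul (.lt (nat_lit 8)) (.mul (.lt (nat_lit 7)) (.mul (.lt (nat_lit 6)) (.mul (.lt (nat_lit 5)) (.mul (.lt (nat_lit 4)) (.mul (.lt (nat_lit 3)) (.lt (nat_lit 0)))))))))))))]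

/-- a level of a chain -/
noncomputable def tblv0x1 : TT := .leaf (nat_lit 0x50000007e0000fe04060000780000fd03050000640000f902050000700000f6040500006a0000f103050000740000ee03050000750000ed03020000750000ec040700007a0000e604050000780000e502070000710000e402020000700000e305040000770000e105070000760000dc010300006b0000db010700006b0000da06010000730000d906040000720000d705060000760000d402040000710000d200000000000000d003070000630000cf070100006e0000cc060000006d0000c9060700006d0000c7030100006c0000c6010400006b0000c5020700005e0000c4020000005e0000c207040000670000bd07070000680000bb07020000670000ba02010000650000b9010600006b0000b703000000560000b503020000630000b4040600005c0000b308010000620000af08040000610000ae08040000600000ad08020000610000ab02060000650000a9020200005e0000a7040000004c0000a6040200005d0000a505060000530000a3050300005b0000a2090700005800009f090100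005900009e090100005800009d090400005700009b030600005f000098030200005600009605070000530000940502000054000093060700005200008f060600004900008e060300005200008d0a0700004e00008a0a0700004d0000890a0100004d0000870906000057000085040700004b000083040200004c000082060700004900007f070200004800007a0707000047000079070700004600007807030000470000770b040000450000750b070000430000740a0600004d0000710a03000042000070050700004000006e070400003f000069080200003d000063080200003c000062080400003d000061080700003b0000600c0400003900005e090500003300005c0b0600004300005b090700002600005a0604000036000058090400003400004f090200003100004e090400003100004d080500003c00004c0a0500002a00004a080500003e0000490a0700001e00004809060000330000430a0700002b00003f0a0400002a00003e090500003100003d070500004800003c0b0500002200003b090500003400003a0a050000500000390a0600002a0000350b070000220000320a05000029000030080500003d00002f0a0500002b00002e0b0500004500002c0b06000022000029060500004a0000270b0700001a00002509050000320000240c0500003a0000220c07000016000020050500004100001f070500003f00001e0a0700001300001c0d0700001200001a0d02000011000019060500003600001808050000350000170e0200000d000014070500002c000013090700000a000012080700000800000f0a0200000700000e0f0600000900000d090200000600000c100300000400000a0a060000030000070b03000001000005)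
/-- a level of a chain -/
noncomputable def lv0x1 : Lvl where
  b := nat_lit 208
  n := nat_lit 128
  t := fun k => TT.fld tblv0x1 (nat_lit 64) (nat_lit 255) (nat_lit 18446744073709551615) k
  next := [.mul (.inv (.mul (.lt (nat_lit 1)) (.mul (.lt (nat_lit 4)) (.mul (.lt (nat_lit 7)) (.mul (.lt (nat_lit 5)) (.mul (.lt (nat_lit 2)) (.lt (nat_lit 7)))))))) (.mul (.lt (nat_lit 7)) (.mul (.lt (nat_lit 1)) (.mul (.lt (nat_lit 4)) (.mul (.lt (nat_lit 7)) (.mul (.lt (nat_lit 5)) (.mul (.lt (nat_lit 2)) (.lt (nat_lit 7)))))))), .mul (.inv (.mul (.lt (nat_lit 4)) (.mul (.lt (nat_lit 2)) (.mul (.lt (nat_lit 7)) (.mul (.lt (nat_lit 6)) (.mul (.lt (nat_lit 2)) (.mul (.lt (nat_lit 0)) (.mul (.lt (nat_lit 6)) (.mul (.lt (nat_lit 1)) (.lt (nat_lit 4))))))))))) (.mul (.lt (nat_lit 0)) (.mul (.lt (nat_lit 4)) (.mul (.lt (nat_lit 2)) (.mul (.lt (nat_lit 7))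 (.mul (.lt (nat_lit 6)) (.mul (.lt (nat_lit 2)) (.mul (.lt (nat_lit 0)) (.mul (.lt (nat_lit 6)) (.mul (.lt (nat_lit 1)) (.lt (nat_lit 4))))))))))), .mul (.inv (.mul (.lt (nat_lit 4)) (.mul (.lt (nat_lit 7)) (.mul (.lt (nat_lit 2)) (.mul (.lt (nat_lit 6)) (.mul (.lt (nat_lit 1)) (.lt (nat_lit 4)))))))) (.mul (.lt (nat_lit 1)) (.mul (.lt (nat_lit 4)) (.mul (.lt (nat_lit 7)) (.mul (.lt (nat_lit 2)) (.mul (.lt (nat_lit 6)) (.mul (.lt (nat_lit 1)) (.lt (nat_lit 4)))))))), .mul (.inv (.mul (.lt (nat_lit 2)) (.mul (.lt (nat_lit 7)) (.lt (nat_lit 3))))) (.mul (.lt (nat_lit 0)) (.mul (.lt (nat_lit 2)) (.mul (.lt (nat_lit 7)) (.lt (nat_lit 3))))), .mul (.inv (.mul (.lt (nat_lit 1)) (.mul (.lt (nat_lit 4)) (.lt (nat_lit 3))))) (.mul (.lt (nat_lit 5)) (.mul (.lt (nat_lit 1)) (.mul (.lt (nat_lit 4)) (.lt (nat_lit 3))))), .mul (.inv (.mul (.lt (nat_lit 7))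 (.mul (.lt (nat_lit 0)) (.lt (nat_lit 6))))) (.mul (.lt (nat_lit 1)) (.mul (.lt (nat_lit 7)) (.mul (.lt (nat_lit 0)) (.lt (nat_lit 6))))), .mul (.inv (.mul (.lt (nat_lit 2)) (.mul (.lt (nat_lit 7)) (.mul (.lt (nat_lit 6)) (.mul (.lt (nat_lit 4)) (.mul (.lt (nat_lit 2)) (.mul (.lt (nat_lit 7)) (.mul (.lt (nat_lit 3)) (.mul (.lt (nat_lit 6)) (.mul (.lt (nat_lit 2)) (.mul (.lt (nat_lit 0)) (.mul (.lt (nat_lit 6)) (.mul (.lt (nat_lit 1)) (.lt (nat_lit 4))))))))))))))) (.mul (.lt (nat_lit 0)) (.mul (.lt (nat_lit 2)) (.mul (.lt (nat_lit 7)) (.mul (.lt (nat_lit 5)) (.mul (.lt (nat_lit 4)) (.mul (.lt (nat_lit 7)) (.mul (.lt (nat_lit 1)) (.mul (.lt (nat_lit 4)) (.mul (.lt (nat_lit 2)) (.mul (.lt (nat_lit 7)) (.mul (.lt (nat_lit 6)) (.mul (.lt (nat_lit 5)) (.mul (.lt (nat_lit 2)) (.mul (.lt (nat_lit 7)) (.lt (nat_lit 3)))))))))))))))), .mul (.inv (.mul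 (.lt (nat_lit 4)) (.mul (.lt (nat_lit 7)) (.mul (.lt (nat_lit 1)) (.mul (.lt (nat_lit 4)) (.mul (.lt (nat_lit 2)) (.mul (.lt (nat_lit 7)) (.mul (.lt (nat_lit 6)) (.mul (.lt (nat_lit 5)) (.mul (.lt (nat_lit 2)) (.mul (.lt (nat_lit 7)) (.lt (nat_lit 3))))))))))))) (.mul (.lt (nat_lit 1)) (.mul (.lt (nat_lit 4)) (.mul (.lt (nat_lit 7)) (.mul (.lt (nat_lit 1)) (.mul (.lt (nat_lit 4)) (.mul (.lt (nat_lit 2)) (.mul (.lt (nat_lit 7)) (.mul (.lt (nat_lit 6)) (.mul (.lt (nat_lit 5)) (.mul (.lt (nat_lit 2)) (.mul (.lt (nat_lit 7)) (.lt (nat_lit 3)))))))))))))]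

/-- a level of a chain -/
noncomputable def tblv0x2 : TT := .leaf (nat_lit 0x4060000080000fc06070000360000fa05060000310000f7040500003a0000f203060000050000eb05070000300000ea050600003b0000e7040700002e0000e205010000320000df06040000230000de040600002c0000dd05060000340000d6040000002d0000d5040000002c0000d1040500002e0000ca03060000200000c103040000130000bf030500002a0000be03050000280000b8040600002d0000b202040000180000b005060000300000ac02060000040000aa040700001b0000a805060000320000a4040600001b00009a0307000013000097050000001c000095050600001e00008c050600002500007e020500001800007c05060000010000760405000016000073020700000f00006f040500001400006d030500001300006b040600002f00006a04060000020000680100000010000066020700000d000064030200002a00005d0405000011000059030600000300005702030000180000550406000006000054030600000700004700000000000000400103000010000036030600000a0000340101000010000033040500000900002d020600000f00002b020300000d00002a0302000013000023030200000500001d020200000f000015030200000a000010020600000d00000b01060000100000090206000018000004030600002a00000304060000160000010505000001000000)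
/-- a level of a chain -/
noncomputable def lv0x2 : Lvl where
  b := nat_lit 64
  n := nat_lit 63
  t := fun k => TT.fld tblv0x2 (nat_lit 64) (nat_lit 255) (nat_lit 18446744073709551615) k
  next := [.mul (.inv (.mul (.lt (nat_lit 6)) (.mul (.lt (nat_lit 3)) (.lt (nat_lit 1))))) (.mul (.lt (nat_lit 2)) (.mul (.lt (nat_lit 6)) (.mul (.lt (nat_lit 3)) (.lt (nat_lit 1))))), .mul (.inv (.mul (.lt (nat_lit 5)) (.lt (nat_lit 0)))) (.mul (.lt (nat_lit 1)) (.mul (.lt (nat_lit 5)) (.lt (nat_lit 0)))), .mul (.inv (.mul (.lt (nat_lit 7)) (.mul (.lt (nat_lit 3)) (.lt (nat_lit 0))))) (.mul (.lt (nat_lit 1)) (.mul (.lt (nat_lit 6)) (.lt (nat_lit 6)))), .mul (.inv (.mul (.lt (nat_lit 4)) (.lt (nat_lit 0)))) (.mul (.lt (nat_lit 0)) (.mul (.lt (nat_lit 4)) (.lt (nat_lit 0)))), .mul (.inv (.lt (nat_lit 0))) (.mul (.lt (nat_lit 7)) (.lt (nat_lit 0))), .mul (.inv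 (.mul (.lt (nat_lit 6)) (.mul (.lt (nat_lit 2)) (.lt (nat_lit 3))))) (.mul (.lt (nat_lit 4)) (.mul (.lt (nat_lit 6)) (.mul (.lt (nat_lit 2)) (.lt (nat_lit 3))))), .mul (.inv (.mul (.lt (nat_lit 5)) (.mul (.lt (nat_lit 4)) (.lt (nat_lit 0))))) (.mul (.lt (nat_lit 6)) (.mul (.lt (nat_lit 5)) (.mul (.lt (nat_lit 6)) (.mul (.lt (nat_lit 2)) (.lt (nat_lit 3)))))), .mul (.inv (.mul (.lt (nat_lit 7)) (.mul (.lt (nat_lit 5)) (.mul (.lt (nat_lit 3)) (.lt (nat_lit 0)))))) (.mul (.lt (nat_lit 6)) (.mul (.lt (nat_lit 6)) (.mul (.lt (nat_lit 0)) (.mul (.lt (nat_lit 5)) (.mul (.lt (nat_lit 4)) (.lt (nat_lit 0)))))))]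

/-- a level of a chain -/
noncomputable def tblv0x3 : TT := .leaf (nat_lit 0x3060000130000fb020700000a0000f500000000000000f303060000040000f0020600000a0000ef030000001e0000e0020600000c0000d802030000100000d3010500001d0000cd03070000030000bc02040000100000b6020700000c0000b1020500000a0000a003070000070000860303000019000081010600001d0000800200000017000072020300001700006c0307000004000067010700001d00005f020400000c000052010200001d00005103040000040000500206000017000046020000000c000038030600000f0000370307000015000031020100000a000028020200000a000026030400000700001b03010000030000110303000004000008)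
/-- a level of a chain -/
noncomputable def lv0x3 : Lvl where
  b := nat_lit 243
  n := nat_lit 32
  t := fun k => TT.fld tblv0x3 (nat_lit 64) (nat_lit 255) (nat_lit 18446744073709551615) k
  next := [.mul (.inv (.mul (.lt (nat_lit 3)) (.mul (.lt (nat_lit 1)) (.lt (nat_lit 2))))) (.mul (.lt (nat_lit 4)) (.mul (.lt (nat_lit 1)) (.mul (.lt (nat_lit 2)) (.lt (nat_lit 2))))), .mul (.inv (.mul (.lt (nat_lit 7)) (.lt (nat_lit 2)))) (.mul (.lt (nat_lit 6)) (.lt (nat_lit 6))), .mul (.inv (.mul (.lt (nat_lit 4)) (.lt (nat_lit 6)))) (.mul (.lt (nat_lit 7)) (.mul (.lt (nat_lit 3)) (.mul (.lt (nat_lit 6)) (.lt (nat_lit 7))))), .mul (.inv (.mul (.lt (nat_lit 3)) (.lt (nat_lit 6)))) (.mul (.lt (nat_lit 1)) (.mul (.lt (nat_lit 3)) (.lt (nat_lit 6)))), .mul (.inv (.one)) (.mul (.lt (nat_lit 4)) (.one)), .mul (.inv (.mul (.lt (nat_lit 3)) (.mul (.lt (nat_lit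 1)) (.lt (nat_lit 2))))) (.mul (.lt (nat_lit 1)) (.mul (.lt (nat_lit 3)) (.mul (.lt (nat_lit 1)) (.lt (nat_lit 2))))), .mul (.inv (.mul (.lt (nat_lit 4)) (.lt (nat_lit 7)))) (.mul (.lt (nat_lit 6)) (.mul (.lt (nat_lit 1)) (.mul (.lt (nat_lit 2)) (.lt (nat_lit 2))))), .mul (.inv (.mul (.lt (nat_lit 0)) (.lt (nat_lit 5)))) (.mul (.lt (nat_lit 2)) (.mul (.lt (nat_lit 4)) (.mul (.lt (nat_lit 0)) (.lt (nat_lit 7)))))]

/-- a level of a chain -/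
noncomputable def tblv0x4 : TT := .leaf (nat_lit 0x10400000a0000ea030200000c0000e702030000040000d502060000050000d100000000000000ca010100000a0000a80206000009000076020400000900006b0207000005000068010300000a000047010200000a00003402010000040000230205000004000010020100000500000b0202000009000003)
/-- a level of a chain -/
noncomputable def lv0x4 : Lvl where
  b := nat_lit 202
  n := nat_lit 15
  t := fun k => TT.fld tblv0x4 (nat_lit 64) (nat_lit 255) (nat_lit 18446744073709551615) k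
  next := [.mul (.inv (.lt (nat_lit 2))) (.mul (.lt (nat_lit 0)) (.mul (.lt (nat_lit 6)) (.lt (nat_lit 1)))), .mul (.inv (.lt (nat_lit 3))) (.mul (.lt (nat_lit 7)) (.mul (.lt (nat_lit 1)) (.lt (nat_lit 3)))), .mul (.inv (.lt (nat_lit 4))) (.mul (.lt (nat_lit 5)) (.lt (nat_lit 4))), .mul (.inv (.one)) (.mul (.lt (nat_lit 2)) (.mul (.lt (nat_lit 6)) (.lt (nat_lit 1)))), .mul (.inv (.mul (.lt (nat_lit 6)) (.lt (nat_lit 3)))) (.mul (.lt (nat_lit 5)) (.mul (.lt (nat_lit 6)) (.lt (nat_lit 3)))), .mul (.inv (.mul (.lt (nat_lit 6)) (.lt (nat_lit 3)))) (.mul (.lt (nat_lit 7)) (.lt (nat_lit 4))), .mul (.inv (.lt (nat_lit 1))) (.mul (.lt (nat_lit 7)) (.mul (.lt (nat_lit 1)) (.lt (nat_lit 2)))), .mul (.inv (.mul (.lt (nat_lit 1)) (.lt (nat_lit 3)))) (.mul (.lt (nat_lit 7)) (.mul (.lt (nat_lit 2)) (.mul (.lt (nat_lit 3)) (.lt (nat_lit 2)))))]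

/-- a level of a chain -/
noncomputable def tblv0x5 : TT := .leaf (nat_lit 0xf501020000070000e001030000070000d802060000020000860104000007000051010100000700005002010000060000260105000007000008)
/-- a level of a chain -/
noncomputable def lv0x5 : Lvl where
  b := nat_lit 245
  n := nat_lit 8
  t := fun k => TT.fld tblv0x5 (nat_lit 64) (nat_lit 255) (nat_lit 18446744073709551615) k
  next := [.mul (.inv (.lt (nat_lit 1))) (.mul (.lt (nat_lit 5)) (.lt (nat_lit 1))), .mul (.inv (.lt (nat_lit 5))) (.mul (.lt (nat_lit 1)) (.mul (.lt (nat_lit 6)) (.lt (nat_lit 1)))), .mul (.inv (.lt (nat_lit 1))) (.mul (.lt (nat_lit 0)) (.lt (nat_lit 1))), .mul (.inv (.lt (nat_lit 4))) (.mul (.lt (nat_lit 3)) (.mul (.lt (nat_lit 6)) (.lt (nat_lit 1)))), .mul (.inv (.mul (.lt (nat_lit 1)) (.lt (nat_lit 2)))) (.mul (.lt (nat_lit 7)) (.mul (.lt (nat_lit 1)) (.lt (nat_lit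 2))))]

/-- a level of a chain -/
noncomputable def tblv0x6 : TT := .leaf (nat_lit 0x1010000010000cf00000000000000740103000001000019)
/-- a level of a chain -/
noncomputable def lv0x6 : Lvl where
  b := nat_lit 116
  n := nat_lit 3
  t := fun k => TT.fld tblv0x6 (nat_lit 64) (nat_lit 255) (nat_lit 18446744073709551615) k
  next := [.mul (.inv (.lt (nat_lit 3))) (.mul (.lt (nat_lit 1)) (.lt (nat_lit 1)))]

/-- a level of a chain -/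
noncomputable def tblv0x7 : TT := .leaf (nat_lit 0x1000000000000da000000000000000d)
/-- a level of a chain -/
noncomputable def lv0x7 : Lvl where
  b := nat_lit 13
  n := nat_lit 2
  t := fun k => TT.fld tblv0x7 (nat_lit 64) (nat_lit 255) (nat_lit 18446744073709551615) k
  next := []

/-- a level of a chain -/
noncomputable def tblv1x0 : TT := .leaf (nat_lit 0x3060000c80000f504000000d10000ed02060000bf0000e704010000cb0000e504050000cc0000e303030000cf0000df03060000b40000dd05030000bd0000dc05060000af0000da02010000bf0000d703060000a50000d503020000cf0000d404060000a40000d304050000c70000d105030000b80000d005060000ac0000cf040800001c0000ce03070000c80000cc01040000960000ca04030000cb0000c904060000920000c804040000cb0000c704010000a00000c504060000a00000c405050000bd0000c304050000a30000c203080000270000c1020600006c0000bf03000000a50000be02000000bf0000bd040600009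30000bc04040000c70000bb04040000c60000ba050300009d0000b904050000b50000b8050600008d0000b705030000ab0000b604050000930000b504060000890000b4040600009a0000b3030700006e0000b2040700006d0000b1040200007e0000b002070000bf0000af02030000bf0000ae03020000b40000ad030600007d0000ac05010000910000ab05070000bb0000aa03050000a50000a9050300009c0000a805060000780000a7040500007f0000a604040000750000a505050000910000a403040000860000a303080000320000a204080000540000a103080000430000a0000000000000009f03030000b600009e03070000b400009d030400006a00009c030100007d00009b040600006800009a040300008b000099040500009500009805070000af000097040300008900009605040000ba00009503010000860000940506000049000093030500007d000092040700005d0000910305000043000090020500005300008f040600005800008e040800004100008d040700004500008c020300004c00008b04070000a400008a030100006a00008903030000a600008803070000a5000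087020400005300008604020000a3000085060700009f000084040300007500008305000000630000820405000092000081020800006c000080050600003900007f030500006a00007e040500006900007d050800006b00007c040700009a00007b040000008700007a040500004100007904060000a90000780208000053000077030800007d0000760107000096000075040700009200007402000000530000730306000032000072030000007d0000710305000077000070050700009000006f050300005f00006e040500008000006d04070000a000006c040700003b00006b040200007500006a04010000580000690405000054000068040800007e000067030100006e00006604070000870000650307000086000064040600005b000063040800007f00006203050000320000610304000082000060050800009100005f040700008000005e030600002700005d010300009600005c040700009300005b050700003100005a05020000640000590503000049000058050500006b000057030700002e00005601080000960000550407000089000054040700002c000053040700008b0000520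408000092000051040500001c000050040000005b00004f030400006e00004e040600006d00004d020200005300004c030200002700004b030700007d00004a040500004d000049020500004c000048050700007800004703080000b60000460505000055000045030200002e0000440408000095000043040700007500004203030000230000410501000044000040050200005c00003f04080000a300003e040700006800003d040700001d00003c020300006c00003b040500003b00003a03080000a6000039050700006400003802080000bf000037050400001800003603080000a5000035050700006100003405080000bd0000330406000045000032040500003d0000310207000053000030040000001d00002f060500002d00002e04080000c000002d020400004c00002c060700005000002b040400001100002a050600004800002904080000c70000280405000030000027030500002e0000260307000043000025060400000d00002403080000c8000023040600003b00002204080000cb0000210406000038000020050500002400001f030500002300001e050600003100001d050200000800001c050100001900001b030600002e00001a040600002c000019040500001a00001805050000190000170505000018000016040100001100001503080000cf00001406050000120000130405000011000012040600001d00001104080000d1000010050500000c00000f050000000200000e040600001a00000d060000000100000c040500000b00000b05050000070000090505000004000007)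
/-- a level of a chain -/
noncomputable def lv1x0 : Lvl where
  b := nat_lit 159
  n := nat_lit 210
  t := fun k => TT.fld tblv1x0 (nat_lit 64) (nat_lit 255) (nat_lit 18446744073709551615) k
  next := [.mul (.inv (.mul (.lt (nat_lit 8)) (.mul (.lt (nat_lit 7)) (.lt (nat_lit 3))))) (.mul (.lt (nat_lit 1)) (.mul (.lt (nat_lit 8)) (.mul (.lt (nat_lit 7)) (.lt (nat_lit 3))))), .mul (.inv (.mul (.lt (nat_lit 2)) (.lt (nat_lit 3)))) (.mul (.lt (nat_lit 7)) (.mul (.lt (nat_lit 2)) (.mul (.lt (nat_lit 6)) (.mul (.lt (nat_lit 4)) (.lt (nat_lit 3)))))), .mul (.inv (.mul (.lt (nat_lit 7)) (.mul (.lt (nat_lit 2)) (.mul (.lt (nat_lit 8)) (.lt (nat_lit 4)))))) (.mul (.lt (nat_lit 6)) (.mul (.lt (nat_lit 7)) (.mul (.lt (nat_lit 8)) (.lt (nat_lit 4))))), .mul (.inv (.mul (.lt (nat_lit 5)) (.mul (.lt (nat_lit 3)) (.mul (.lt (nat_lit 7)) (.lt (nat_lit 4))))))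 (.mul (.lt (nat_lit 1)) (.mul (.lt (nat_lit 5)) (.mul (.lt (nat_lit 3)) (.mul (.lt (nat_lit 7)) (.lt (nat_lit 4)))))), .mul (.inv (.mul (.lt (nat_lit 5)) (.mul (.lt (nat_lit 8)) (.mul (.lt (nat_lit 6)) (.lt (nat_lit 4)))))) (.mul (.lt (nat_lit 3)) (.mul (.lt (nat_lit 6)) (.mul (.lt (nat_lit 5)) (.mul (.lt (nat_lit 8)) (.lt (nat_lit 4))))))]

/-- a level of a chain -/
noncomputable def tblv1x1 : TT := .leaf (nat_lit 0x4030000500000f504040000570000ed03030000450000e705040000550000e5040300003c0000dd06030000340000d4020400000e0000d003030000310000ce050300002d0000cc03030000530000c8030000004a0000c504000000330000c304030000230000bf04030000390000be040400003e0000bb02040000490000b801040000140000b705010000120000b6050300001d0000af03040000450000ae02030000490000ac050100002d0000ab030400000d0000a903040000410000a8020400001a0000a7020300001a0000a0050300001800009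d030300003700009c040400003c00009b030300004100009a0404000013000096040000001c000095030400002e0000940401000020000090020400003600008f010300001400008b040300002f000086050300003a0000850300000053000084050400003a000081020000000e000080030400003700007e030400004000007a020300000e000077040300003300007405030000380000710403000052000070030400002900006f020000004900006e030100004000006b040100003300006a0404000039000066040000002f000065040400002300005e030300002900005d040300002800005a040400002800005803000000290000570400000019000050040300001900004b040300002000004a030000004100004704040000200000450102000014000044030100004100003f040300001c00003d050300001f00003b030300004000003a040400001c0000380000000000000037030200000d00003604000000390000340503000025000030020300003600002f040300001300002e010000001400002c020100003600002a030300002e000026030300000d0000240304000053000023030100002e000022040100001600001f040400005000001e040300000900001d040400004f00001b050400004c000017040200000200000f030100001000000c040100000c0000090504000059000007)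
/-- a level of a chain -/
noncomputable def lv1x1 : Lvl where
  b := nat_lit 55
  n := nat_lit 90
  t := fun k => TT.fld tblv1x1 (nat_lit 64) (nat_lit 255) (nat_lit 18446744073709551615) k
  next := [.mul (.inv (.mul (.lt (nat_lit 0)) (.mul (.lt (nat_lit 4)) (.mul (.lt (nat_lit 3)) (.lt (nat_lit 2)))))) (.mul (.lt (nat_lit 1)) (.mul (.lt (nat_lit 0)) (.mul (.lt (nat_lit 4)) (.lt (nat_lit 2))))), .mul (.inv (.mul (.lt (nat_lit 3)) (.mul (.lt (nat_lit 4)) (.lt (nat_lit 0))))) (.mul (.lt (nat_lit 1)) (.mul (.lt (nat_lit 3)) (.mul (.lt (nat_lit 4)) (.lt (nat_lit 0))))), .mul (.inv (.mul (.lt (nat_lit 3)) (.lt (nat_lit 4)))) (.mul (.lt (nat_lit 2)) (.mul (.lt (nat_lit 3)) (.mul (.lt (nat_lit 0)) (.lt (nat_lit 4))))), .mul (.inv (.mul (.lt (nat_lit 1)) (.mul (.lt (nat_lit 0)) (.mul (.lt (nat_lit 4)) (.lt (nat_lit 0)))))) (.mul (.lt (nat_lit 4)) (.mul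 (.lt (nat_lit 4)) (.mul (.lt (nat_lit 3)) (.lt (nat_lit 2))))), .mul (.inv (.mul (.lt (nat_lit 4)) (.mul (.lt (nat_lit 3)) (.mul (.lt (nat_lit 0)) (.lt (nat_lit 4)))))) (.mul (.lt (nat_lit 1)) (.mul (.lt (nat_lit 4)) (.mul (.lt (nat_lit 3)) (.mul (.lt (nat_lit 3)) (.mul (.lt (nat_lit 4)) (.lt (nat_lit 2)))))))]

/-- a level of a chain -/
noncomputable def tblv1x2 : TT := .leaf (nat_lit 0x3030000110000ed02040000070000e702020000050000d4010400000c0000ce02030000070000c3030100001d0000b7010100000c0000af04040000000000ae02010000070000a0020200000700009c030200000e0000950204000008000090020300000500008f030300000100007e020300001900007702030000080000710204000019000070020100000500006b030400001b0000660000000000000057030400000e000050020400000500003b030400001d00003a010200000c000036010300000c0000260304000013000022010000000c00001f040300001a00001e030300001600001b020200001900000f02010000080000090303000013000007)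
/-- a level of a chain -/
noncomputable def lv1x2 : Lvl where
  b := nat_lit 87
  n := nat_lit 32
  t := fun k => TT.fld tblv1x2 (nat_lit 64) (nat_lit 255) (nat_lit 18446744073709551615) k
  next := [.mul (.inv (.mul (.lt (nat_lit 1)) (.lt (nat_lit 2)))) (.mul (.lt (nat_lit 2)) (.mul (.lt (nat_lit 4)) (.lt (nat_lit 3)))), .mul (.inv (.one)) (.mul (.lt (nat_lit 3)) (.mul (.lt (nat_lit 3)) (.mul (.lt (nat_lit 1)) (.mul (.lt (nat_lit 2)) (.lt (nat_lit 0)))))), .mul (.inv (.mul (.lt (nat_lit 2)) (.lt (nat_lit 3)))) (.mul (.lt (nat_lit 0)) (.mul (.lt (nat_lit 3)) (.lt (nat_lit 1)))), .mul (.inv (.mul (.lt (nat_lit 3)) (.lt (nat_lit 1)))) (.mul (.lt (nat_lit 4)) (.mul (.lt (nat_lit 1)) (.mul (.lt (nat_lit 2)) (.lt (nat_lit 0))))), .mul (.inv (.lt (nat_lit 1))) (.mul (.lt (nat_lit 3)) (.mul (.lt (nat_lit 4)) (.mul (.lt (nat_lit 3)) (.lt (nat_lit 3)))))]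

/-- a level of a chain -/
noncomputable def tblv1x3 : TT := .leaf (nat_lit 0x10100000000006001020000000000510000000000000035)
/-- a level of a chain -/
noncomputable def lv1x3 : Lvl where
  b := nat_lit 53
  n := nat_lit 3
  t := fun k => TT.fld tblv1x3 (nat_lit 64) (nat_lit 255) (nat_lit 18446744073709551615) k
  next := [.mul (.inv (.lt (nat_lit 1))) (.mul (.lt (nat_lit 4)) (.lt (nat_lit 1)))]

/-- a level of a chain -/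
noncomputable def tblv1x4 : TT := .leaf (nat_lit 0x1000000000000990000000000000083)
/-- a level of a chain -/
noncomputable def lv1x4 : Lvl where
  b := nat_lit 131
  n := nat_lit 2
  t := fun k => TT.fld tblv1x4 (nat_lit 64) (nat_lit 255) (nat_lit 18446744073709551615) k
  next := []

/-- a level of a chain -/
noncomputable def tblv2x0 : TT := .leaf (nat_lit 0x30900006d0000fd020a00004e0000fa04010000a40000f8020900004e0000f4040a00008e0000f203050000ae0000f1040a0000700000ef030800005c0000ec03070000790000eb040a0000810000ea020a0000420000e9040a00000f0000e6030a00001e0000e4020800004e0000e3040a00009e0000e2040a0000120000e1030a0000370000e0020a0000230000df04070000750000de040a0000600000dc010b00001c0000db03070000ae0000da040a00001f0000d9040a0000720000d8040a0000530000d7030b0000180000d6020a00002e0000d5030a00000e0000d302090000ab0000d203080000410000d102070000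ab0000d0040a0000930000cd040a00003a0000cc030b0000320000cb04080000a40000ca03040000ae0000c903000000510000c8040a00006f0000c7020b0000500000c6020b00004e0000c5030800006d0000c4030b0000bc0000c3030a00008a0000c2040a0000890000c1030b0000490000c0040a0000050000bf030b0000470000be040a00005f0000bd030a0000380000bc03060000a10000bb030a00007e0000ba03040000990000b903010000980000b802080000ab0000b7030b0000250000b6040a0000960000b5030a00007c0000b4040a00006c0000b3030a00007b0000b204050000650000b104040000930000b004070000630000af03060000980000ae040a00006e0000ad040b0000480000ac02060000ab0000ab040800006b0000aa020b00002e0000a9020b0000420000a8030500007c0000a7020a0000ab0000a604050000560000a5030b0000790000a404050000630000a3030a0000100000a204040000750000a104030000650000a0030500007e00009e030a00005100009d030600004c00009c030b00003c00009b030600006900009a0205000023000099030b00001d00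0098030b00005d000097030800007b00009602000000ab000095030a0000a3000093040a000015000092040a00006b000091030a00009900008e030500007900008d030a00004c00008b030600006d000089030b0000190000880306000099000087030b0000b500008603070000510000850204000050000084020500002d000083030500008a000082030700004c000081030b000043000080030200007900007d040800008700007c030a000007000077030600005d0000740305000027000073030b0000be000072030b000033000071020b00003d000070010000001c00006f020800002d00006e010500001c00006d030000009900006c020b00002300006b030a000040000066030a0000a1000065020600005000005e030800002700005d020a00003900005c040b00002100005b030b00001e00005a030a0000270000590203000023000058010800001c000057020500005000005602050000ab000055030a000098000050020700004e00004c010600001c00004b020700003900004a020a00002d000049030b000013000048010400001c000047020400004e0000460203000050000045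0208000023000044040a00001b00003f010a00001c00003d020600004e00003c020600002300003b020400003d00003a020300004e0000390209000039000038010900001c000037010200001c000036040a00008c000034040a00004d00003203080000ae000031020200003d000030020800003d00002f020a00005000002e020100004e00002d020900002300002c030900009900002b010100001c00002a040a00000a000028030a00004100002703040000270000260306000010000025020700002d000024020200003900002300000000000000220300000007000021040a00005a000020020200003400001e020500003400001d030b00003e00001c020500004200001b030500001000001a030a0000690000190207000050000017030b0000ae000016030b000036000015020b0000390000140306000007000012020b000034000011040100000a000010040a00009b00000f040b0000af00000e030b00004100000d040a00009100000c030b00003b00000b020b00002d00000a040a000017000009030b000027000008040b0000a4000007050a000046000006040a000008000005040a000052000004040a00005e000003)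
/-- a level of a chain -/
noncomputable def lv2x0 : Lvl where
  b := nat_lit 34
  n := nat_lit 192
  t := fun k => TT.fld tblv2x0 (nat_lit 64) (nat_lit 255) (nat_lit 18446744073709551615) k
  next := [.mul (.inv (.mul (.lt (nat_lit 1)) (.mul (.lt (nat_lit 11)) (.mul (.lt (nat_lit 5)) (.lt (nat_lit 0)))))) (.mul (.lt (nat_lit 6)) (.mul (.lt (nat_lit 11)) (.mul (.lt (nat_lit 10)) (.lt (nat_lit 2))))), .mul (.inv (.mul (.lt (nat_lit 10)) (.mul (.lt (nat_lit 6)) (.mul (.lt (nat_lit 11)) (.lt (nat_lit 0)))))) (.mul (.lt (nat_lit 0)) (.mul (.lt (nat_lit 10)) (.mul (.lt (nat_lit 6)) (.mul (.lt (nat_lit 11)) (.lt (nat_lit 0)))))), .mul (.inv (.mul (.lt (nat_lit 10)) (.mul (.lt (nat_lit 6)) (.mul (.lt (nat_lit 7)) (.lt (nat_lit 11)))))) (.mul (.lt (nat_lit 7)) (.mul (.lt (nat_lit 10)) (.mul (.lt (nat_lit 11)) (.mul (.lt (nat_lit 9)) (.lt (nat_lit 5)))))),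 .mul (.inv (.mul (.lt (nat_lit 5)) (.lt (nat_lit 1)))) (.mul (.lt (nat_lit 11)) (.mul (.lt (nat_lit 11)) (.mul (.lt (nat_lit 5)) (.lt (nat_lit 0)))))]

/-- a level of a chain -/
noncomputable def tblv2x1 : TT := .leaf (nat_lit 0x40000002b0000f8040200000c0000ef04000000180000e103030000000000de02020000060000db050300003d0000d903020000230000d703020000100000d300000000000000d0040200001d0000cc04010000180000cb04010000220000c105020000270000c004000000010000be02000000060000bd03010000130000bb03000000230000b803030000080000b704020000390000b504020000030000b203000000000000b003030000310000af04020000210000ad03020000040000ab040200002b0000aa050000002c0000a8030100003b0000a704030000210000a602000000090000a503020000000000a403020000310000a3040300003900009d050200001100009c050000003400009703000000080000930100000037000091040000002e00008e040000002f00008d050000003f00008803000000310000860203000006000085040000000e000081050100002400007704020000120000720202000009000070030000001000006c040000001d00006b020300001c00006505030000110000550300000004000050030000003b00003403010000100000280201000006000025040200002e00001c010300003700001a020000001c000014030200003b000012010200003700000e040000000d00000d020100000900000a03010000000000090300000013000006030000000b000004020200001c000003)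
/-- a level of a chain -/
noncomputable def lv2x1 : Lvl where
  b := nat_lit 208
  n := nat_lit 64
  t := fun k => TT.fld tblv2x1 (nat_lit 64) (nat_lit 255) (nat_lit 18446744073709551615) k
  next := [.mul (.inv (.mul (.lt (nat_lit 0)) (.mul (.lt (nat_lit 0)) (.mul (.lt (nat_lit 0)) (.mul (.lt (nat_lit 2)) (.lt (nat_lit 0))))))) (.mul (.lt (nat_lit 3)) (.mul (.lt (nat_lit 2)) (.mul (.lt (nat_lit 0)) (.mul (.lt (nat_lit 0)) (.mul (.lt (nat_lit 0)) (.lt (nat_lit 0))))))), .mul (.inv (.mul (.lt (nat_lit 2)) (.mul (.lt (nat_lit 2)) (.lt (nat_lit 2))))) (.mul (.lt (nat_lit 1)) (.mul (.lt (nat_lit 2)) (.mul (.lt (nat_lit 2)) (.lt (nat_lit 2))))), .mul (.inv (.mul (.lt (nat_lit 0)) (.mul (.lt (nat_lit 3)) (.lt (nat_lit 0))))) (.mul (.lt (nat_lit 2)) (.mul (.lt (nat_lit 0)) (.mul (.lt (nat_lit 0)) (.mul (.lt (nat_lit 0)) (.mul (.lt (nat_lit 2)) (.lt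 (nat_lit 0))))))), .mul (.inv (.mul (.lt (nat_lit 1)) (.lt (nat_lit 2)))) (.mul (.lt (nat_lit 0)) (.mul (.lt (nat_lit 2)) (.mul (.lt (nat_lit 0)) (.mul (.lt (nat_lit 0)) (.lt (nat_lit 0))))))]

/-- a level of a chain -/
noncomputable def tblv2x2 : TT := .leaf (nat_lit 0xc203030000020000b402000000000000b103000000060000a202030000000000a101030000080000a00202000000000092020100000000008b010000000800007d)
/-- a level of a chain -/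
noncomputable def lv2x2 : Lvl where
  b := nat_lit 194
  n := nat_lit 9
  t := fun k => TT.fld tblv2x2 (nat_lit 64) (nat_lit 255) (nat_lit 18446744073709551615) k
  next := [.mul (.inv (.mul (.lt (nat_lit 3)) (.mul (.lt (nat_lit 2)) (.lt (nat_lit 0))))) (.mul (.lt (nat_lit 0)) (.mul (.lt (nat_lit 3)) (.lt (nat_lit 0)))), .mul (.inv (.mul (.lt (nat_lit 3)) (.mul (.lt (nat_lit 2)) (.lt (nat_lit 0))))) (.mul (.lt (nat_lit 1)) (.mul (.lt (nat_lit 0)) (.mul (.lt (nat_lit 0)) (.lt (nat_lit 0))))), .mul (.inv (.lt (nat_lit 3))) (.mul (.lt (nat_lit 1)) (.lt (nat_lit 3)))]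

/-- a level of a chain -/
noncomputable def tblv2x3 : TT := .leaf (nat_lit 0x1020000010000cb01000000010000c0000000000000009c0101000001000088)
/-- a level of a chain -/
noncomputable def lv2x3 : Lvl where
  b := nat_lit 156
  n := nat_lit 4
  t := fun k => TT.fld tblv2x3 (nat_lit 64) (nat_lit 255) (nat_lit 18446744073709551615) k
  next := []

/-- a level of a chain -/
noncomputable def tblv4x0 : TT := .leaf (nat_lit 0x2090000390000fb04080000090000f9030900001a0000f803080000290000f502090000230000f300000000000000f203080000410000f1030800000b0000f0030700004a0000ef04080000260000ed01050000660000eb020400001d0000ea040800003a0000e903090000160000e8030000004a0000e7030900000b0000e603040000570000e503050000600000e201010000660000e103080000470000e002090000240000df04080000330000dd02050000590000d903090000320000d8040700004d0000d7030900003b0000d50309000047000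0d403080000160000d303090000200000cd03070000060000cc03050000480000cb03040000290000ca03090000410000c902080000240000c8030800001a0000c7020900001d0000c002040000240000bf040800000f0000be03080000340000bd03080000210000bb03090000290000ba03040000410000b002080000610000af03060000290000ae03070000290000ad03090000210000ac030300004a0000ab040900000f00009f020600002400009e030800005500009d010600006600009c040600002600009b040900003300009a030800003000008a030700006b00008902060000610000880306000021000087020700001d000086040400004900008502040000000000750207000000000074030800003200007303050000320000720206000059000071030400000600005e030800006000005d020800003900005c030600005500005b030900003400005a030800002c00004c020700006100004b010800006600004a0104000066000049030900001e000048020800005900003d020100001d00003c030700005500003b020500002300003a010000006600003103030000250000300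30500002000002f020800001d00002e040900002d000027020500001d00002602090000610000250208000023000024030400006b00001f030400004800001e030800002000001d030700001e00001c0309000018000018030800004800001703070000180000160308000006000013030600001a0000120309000017000011020700002400000f030600001600000e030800001e00000c040600001300000b03070000210000090209000059000008030700004800000702060000000000060307000034000005030400002500000403000000250000030109000066000002)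
/-- a level of a chain -/
noncomputable def lv4x0 : Lvl where
  b := nat_lit 242
  n := nat_lit 108
  t := fun k => TT.fld tblv4x0 (nat_lit 64) (nat_lit 255) (nat_lit 18446744073709551615) k
  next := [.mul (.inv (.mul (.lt (nat_lit 4)) (.mul (.lt (nat_lit 7)) (.lt (nat_lit 5))))) (.mul (.lt (nat_lit 2)) (.mul (.lt (nat_lit 4)) (.mul (.lt (nat_lit 7)) (.lt (nat_lit 5))))), .mul (.inv (.mul (.lt (nat_lit 6)) (.lt (nat_lit 1)))) (.mul (.lt (nat_lit 8)) (.mul (.lt (nat_lit 8)) (.mul (.lt (nat_lit 8)) (.mul (.lt (nat_lit 5)) (.lt (nat_lit 1)))))), .mul (.inv (.mul (.lt (nat_lit 1)) (.lt (nat_lit 0)))) (.mul (.lt (nat_lit 8)) (.mul (.lt (nat_lit 9)) (.mul (.lt (nat_lit 8)) (.lt (nat_lit 0))))), .mul (.inv (.mul (.lt (nat_lit 7)) (.lt (nat_lit 9)))) (.mul (.lt (nat_lit 0)) (.mul (.lt (nat_lit 7)) (.lt (nat_lit 9))))]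

/-- a level of a chain -/
noncomputable def tblv4x1 : TT := .leaf (nat_lit 0x3020000070000f902020000040000f501010000020000f304010000170000f1040300001e0000f003020000110000ef03020000140000ed040200000c0000e903010000220000e603030000220000d3040200001a0000cd030000000e0000cc030200000a0000c804020000120000c702010000090000c002010000040000bf040200000d0000bb030300000a0000b002020000210000af030100000700009e010300000200008a0203000009000074030100000a00005d030200001500004a030200000e000024020200000900001d01000000020000170403000018000013020200000f00000e030100001100000c040300000d00000b01020000020000090303000015000008000000000000000702030000210000060400000003000002)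
/-- a level of a chain -/
noncomputable def lv4x1 : Lvl where
  b := nat_lit 7
  n := nat_lit 36
  t := fun k => TT.fld tblv4x1 (nat_lit 64) (nat_lit 255) (nat_lit 18446744073709551615) k
  next := [.mul (.inv (.lt (nat_lit 3))) (.mul (.lt (nat_lit 2)) (.mul (.lt (nat_lit 2)) (.mul (.lt (nat_lit 3)) (.mul (.lt (nat_lit 2)) (.lt (nat_lit 0)))))), .mul (.inv (.mul (.lt (nat_lit 3)) (.mul (.lt (nat_lit 2)) (.mul (.lt (nat_lit 2)) (.lt (nat_lit 1)))))) (.mul (.lt (nat_lit 1)) (.mul (.lt (nat_lit 2)) (.mul (.lt (nat_lit 3)) (.mul (.lt (nat_lit 2)) (.lt (nat_lit 0)))))), .mul (.inv (.mul (.lt (nat_lit 2)) (.mul (.lt (nat_lit 1)) (.mul (.lt (nat_lit 2)) (.lt (nat_lit 0)))))) (.mul (.lt (nat_lit 3)) (.mul (.lt (nat_lit 2)) (.mul (.lt (nat_lit 1)) (.mul (.lt (nat_lit 2)) (.lt (nat_lit 0))))))]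

/-- a level of a chain -/
noncomputable def tblv4x2 : TT := .leaf (nat_lit 0x1010000020000b400000000000000a701020000020000a40100000002000095)
/-- a level of a chain -/
noncomputable def lv4x2 : Lvl where
  b := nat_lit 167
  n := nat_lit 4
  t := fun k => TT.fld tblv4x2 (nat_lit 64) (nat_lit 255) (nat_lit 18446744073709551615) k
  next := []

/-- a level of a chain -/
noncomputable def tblv5x0 : TT := .leaf (nat_lit 0x20500004a0000f502050000550000ed03050000300000e701020000720000e503070000450000df00000000000000dc020600006a0000da03060000600000d103060000770000d003040000760000cf030700001c0000ce030600003c0000cc02070000630000ca01050000720000c5030500005d0000c403060000760000c302050000470000c203070000150000c102040000470000be030400005d0000bd01040000720000bc03070000760000ba030500003c0000b902050000740000b8020400006a0000b7030800001f0000b50207000055000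0b4040400002f0000b202060000470000ae03060000300000ad020400004a0000ac03070000600000ab030700001f0000aa03040000710000a901000000720000a802070000740000a7040800004d0000a6020700004a0000a402040000740000a303060000360000a203080000760000a104040000160000a0030500005b00009f030500006b00009b030500004400009a010300007200009904050000250000980308000054000097010700007200009504040000410000910205000063000090020400005500008f030800006b00008e030800006000008d030800007700008c0304000045000089030400003c0000880404000062000086030500005100008502080000470000840304000036000080030500001d00007c040700000800007b030500005900007a0408000064000079020800006a0000780408000026000075040600004b0000730306000045000071040600004800006f020500002400006b020700006a00006a0305000015000067040400001100006504070000050000630404000048000061030700003c00005f030800003100005e030400003000005c020700002400005a0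307000077000059030500001c000056030800005f0000540108000072000053040400000500004e040700004800004d040500000c00004b030700001d000049020800002400004804080000690000470208000074000046020800004a0000430308000067000040030800005b00003e040400000c00003d040600004f00003c040500001100003b030800001c00003a0208000055000039040800006e000036030800006500003203040000310000310308000015000030040500001600002f030400001f00002e030800003c000027030500001f000026030800001d0000250406000005000023040400004200001f040800003a00001e030800005200001b0408000040000019040800002f000018030800005d000015040800004c00001404040000080000110405000005000010030800003000000d0406000008000007)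
/-- a level of a chain -/
noncomputable def lv5x0 : Lvl where
  b := nat_lit 220
  n := nat_lit 120
  t := fun k => TT.fld tblv5x0 (nat_lit 64) (nat_lit 255) (nat_lit 18446744073709551615) k
  next := [.mul (.inv (.mul (.lt (nat_lit 8)) (.mul (.lt (nat_lit 5)) (.lt (nat_lit 7))))) (.mul (.lt (nat_lit 2)) (.mul (.lt (nat_lit 8)) (.mul (.lt (nat_lit 5)) (.lt (nat_lit 7))))), .mul (.inv (.mul (.lt (nat_lit 4)) (.mul (.lt (nat_lit 5)) (.mul (.lt (nat_lit 8)) (.lt (nat_lit 0)))))) (.mul (.lt (nat_lit 6)) (.mul (.lt (nat_lit 8)) (.mul (.lt (nat_lit 5)) (.lt (nat_lit 3))))), .mul (.inv (.mul (.lt (nat_lit 5)) (.mul (.lt (nat_lit 8)) (.mul (.lt (nat_lit 8)) (.lt (nat_lit 0)))))) (.mul (.lt (nat_lit 8)) (.mul (.lt (nat_lit 4)) (.mul (.lt (nat_lit 8)) (.mul (.lt (nat_lit 5)) (.lt (nat_lit 2)))))), .mul (.inv (.mul (.lt (nat_lit 5)) (.mul (.lt (nat_lit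 7)) (.lt (nat_lit 4))))) (.mul (.lt (nat_lit 8)) (.mul (.lt (nat_lit 8)) (.mul (.lt (nat_lit 5)) (.lt (nat_lit 2)))))]

/-- a level of a chain -/
noncomputable def tblv5x1 : TT := .leaf (nat_lit 0x10300000e0000930000000000000082010000000e00007d020000000f00006c010100000e000069020300000b000058020200000f000052010200000e000045020200000d00004103030000070000370203000008000035030000000700002c030000000000002802020000080000210302000007000020020300000d00001a)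
/-- a level of a chain -/
noncomputable def lv5x1 : Lvl where
  b := nat_lit 130
  n := nat_lit 16
  t := fun k => TT.fld tblv5x1 (nat_lit 64) (nat_lit 255) (nat_lit 18446744073709551615) k
  next := [.mul (.inv (.mul (.lt (nat_lit 2)) (.lt (nat_lit 2)))) (.mul (.lt (nat_lit 1)) (.mul (.lt (nat_lit 2)) (.lt (nat_lit 0))))]

/-- a level of a chain -/
noncomputable def tblv5x2 : TT := .leaf (nat_lit 0x1000000000000e90000000000000008)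
/-- a level of a chain -/
noncomputable def lv5x2 : Lvl where
  b := nat_lit 8
  n := nat_lit 2
  t := fun k => TT.fld tblv5x2 (nat_lit 64) (nat_lit 255) (nat_lit 18446744073709551615) k
  next := []

/-- a level of a chain -/
noncomputable def tblv25x0 : TT := .leaf (nat_lit 0x3070000270000fd01070000200000fa020900006f0000f803050000860000f4020700006c0000f203060000320000f103080000860000ef020900001d0000ec02080000690000ea020700000f0000e9020400006c0000e6020500008e0000e4020700001d0000e3020600006c0000e1020600001d0000e0020500006f0000df020800008e0000de03090000590000dc050a00001c0000db020100006f0000da03080000780000d8020800006f0000d7050a0000170000d6020a00000f0000d502090000690000d3050a0000280000d2020900005a0000d1050a0000210000cb020a00006c0000ca030500007c0000c9030500005f0000c7030a0000840000c601000000200000c4050a00000a0000c3020500005a0000c20109000020000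0c1030a0000810000c0020200005a0000bd010a0000200000bc050a0000080000bb030500007a0000ba050a0000130000b8030900003f0000b503030000580000b4030900005f0000b3030300005c0000b2030700008d0000b1050a00000e0000ae020900008e0000ad030a0000750000aa050a0000150000a7020800000f0000a5020800006c0000a401080000200000a3020900000f0000a2020500006c0000a1040a00007200009e040a00001a00009a020a00008e000099050a00001e000096030a000059000092020300005a000091030600008d00008d0307000078000089040a000025000086040900006b0000840306000080000083030a0000800000820507000056000080030700003d00007f030500005900007c040500002400007b040700003b000079030a0000520000760509000057000074030500003f000073030a000083000072050a000034000070040900004300006f040900004a00006e020700006f00006d050a00003800006b020a00005a000069030a00006a000064030a00005c000061040a00004900005f040600003300005e040800000200005d020700006900005c0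50300005600005a0308000080000059040900002e0000580309000006000057020500000f000056040a00008a000055030500003d000054040a000062000051030a00007f00004e030500005500004c040500003300004b040a00003300004a030900007a000049040a00008c000048040800004c000047020a00006f0000460509000001000045030900003d000044030a00007a000042030a000058000040040a00007b00003e040000001a00003d000000000000003c040800004600003b040900002300003a0105000020000039040800007000003804090000700000370308000006000036040a0000890000350307000080000031040800005e000030040500001a00002f040900003c00002e030a00007c00002d040900003b00002c040a00003500002b030800003d00002a030a00008700002901010000200000270405000011000026040a00002d00002504030000330000240407000033000023040800006b000022040800002400001e040900002400001d040800003b00001b020a00001d00001a0409000002000017040a000018000016040a00002a000010030a00003200000e040a00004400000a040a00004d000008)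
/-- a level of a chain -/
noncomputable def lv25x0 : Lvl where
  b := nat_lit 60
  n := nat_lit 144
  t := fun k => TT.fld tblv25x0 (nat_lit 64) (nat_lit 255) (nat_lit 18446744073709551615) k
  next := [.mul (.inv (.mul (.lt (nat_lit 3)) (.mul (.lt (nat_lit 10)) (.mul (.lt (nat_lit 8)) (.mul (.lt (nat_lit 10)) (.lt (nat_lit 5))))))) (.mul (.lt (nat_lit 5)) (.mul (.lt (nat_lit 7)) (.mul (.lt (nat_lit 10)) (.mul (.lt (nat_lit 8)) (.mul (.lt (nat_lit 10)) (.lt (nat_lit 5))))))), .mul (.inv (.mul (.lt (nat_lit 10)) (.mul (.lt (nat_lit 5)) (.mul (.lt (nat_lit 7)) (.lt (nat_lit 1)))))) (.mul (.lt (nat_lit 2)) (.mul (.lt (nat_lit 10)) (.mul (.lt (nat_lit 5)) (.lt (nat_lit 7))))), .mul (.inv (.mul (.lt (nat_lit 8)) (.lt (nat_lit 1)))) (.mul (.lt (nat_lit 4)) (.mul (.lt (nat_lit 2)) (.lt (nat_lit 8)))), .mul (.inv (.mul (.lt (nat_lit 7)) (.lt (nat_lit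 10)))) (.mul (.lt (nat_lit 0)) (.mul (.lt (nat_lit 7)) (.mul (.lt (nat_lit 10)) (.lt (nat_lit 0))))), .mul (.inv (.mul (.lt (nat_lit 10)) (.mul (.lt (nat_lit 6)) (.mul (.lt (nat_lit 5)) (.lt (nat_lit 1)))))) (.mul (.lt (nat_lit 4)) (.mul (.lt (nat_lit 10)) (.mul (.lt (nat_lit 6)) (.lt (nat_lit 5))))), .mul (.inv (.mul (.lt (nat_lit 5)) (.lt (nat_lit 8)))) (.mul (.lt (nat_lit 2)) (.mul (.lt (nat_lit 5)) (.mul (.lt (nat_lit 8)) (.lt (nat_lit 0))))), .mul (.inv (.mul (.lt (nat_lit 5)) (.mul (.lt (nat_lit 10)) (.lt (nat_lit 8))))) (.mul (.lt (nat_lit 4)) (.mul (.lt (nat_lit 7)) (.mul (.lt (nat_lit 10)) (.lt (nat_lit 8))))), .mul (.inv (.mul (.lt (nat_lit 9)) (.mul (.lt (nat_lit 10)) (.lt (nat_lit 5))))) (.mul (.lt (nat_lit 8)) (.mul (.lt (nat_lit 10)) (.mul (.lt (nat_lit 8)) (.mul (.lt (nat_lit 7)) (.lt (nat_lit 1))))))]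

/-- a level of a chain -/
noncomputable def tblv25x1 : TT := .leaf (nat_lit 0x3070000170000ef03000000080000ea03060000080000dc01060000060000db03070000140000d7030300000d0000d203070000120000c301000000060000b802000000020000b3040700001e0000b2040700001d0000a302060000020000a1020700001c00009a0203000018000086020600001c00007f0200000001000070040700000300006e030000000d000069020700001800005a030700000b00005802000000180000540300000013000051040700000a00004702070000010000440306000013000042000000000000004003070000110000380407000007000036030600000d000035010700000600002c0101000006000029040700000e000022)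
/-- a level of a chain -/
noncomputable def lv25x1 : Lvl where
  b := nat_lit 64
  n := nat_lit 32
  t := fun k => TT.fld tblv25x1 (nat_lit 64) (nat_lit 255) (nat_lit 18446744073709551615) k
  next := [.mul (.inv (.mul (.lt (nat_lit 6)) (.lt (nat_lit 7)))) (.mul (.lt (nat_lit 3)) (.mul (.lt (nat_lit 0)) (.mul (.lt (nat_lit 7)) (.lt (nat_lit 1))))), .mul (.inv (.mul (.lt (nat_lit 7)) (.lt (nat_lit 6)))) (.mul (.lt (nat_lit 6)) (.mul (.lt (nat_lit 6)) (.mul (.lt (nat_lit 7)) (.lt (nat_lit 0))))), .mul (.inv (.mul (.lt (nat_lit 7)) (.mul (.lt (nat_lit 0)) (.mul (.lt (nat_lit 7)) (.lt (nat_lit 1)))))) (.mul (.lt (nat_lit 2)) (.mul (.lt (nat_lit 7)) (.mul (.lt (nat_lit 0)) (.mul (.lt (nat_lit 7)) (.lt (nat_lit 1)))))), .mul (.inv (.mul (.lt (nat_lit 7)) (.mul (.lt (nat_lit 6)) (.mul (.lt (nat_lit 7)) (.lt (nat_lit 0)))))) (.mul (.lt (nat_lit 5))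 (.mul (.lt (nat_lit 7)) (.mul (.lt (nat_lit 0)) (.mul (.lt (nat_lit 7)) (.lt (nat_lit 6)))))), .mul (.inv (.mul (.lt (nat_lit 6)) (.mul (.lt (nat_lit 7)) (.lt (nat_lit 1))))) (.mul (.lt (nat_lit 1)) (.mul (.lt (nat_lit 6)) (.mul (.lt (nat_lit 7)) (.lt (nat_lit 1))))), .mul (.inv (.mul (.lt (nat_lit 0)) (.mul (.lt (nat_lit 7)) (.lt (nat_lit 1))))) (.mul (.lt (nat_lit 5)) (.mul (.lt (nat_lit 0)) (.mul (.lt (nat_lit 7)) (.lt (nat_lit 1)))))]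

/-- a level of a chain -/
noncomputable def tblv25x2 : TT := .leaf (nat_lit 0x1020000020000be00000000000000b701000000020000ab0105000002000081)
/-- a level of a chain -/
noncomputable def lv25x2 : Lvl where
  b := nat_lit 183
  n := nat_lit 4
  t := fun k => TT.fld tblv25x2 (nat_lit 64) (nat_lit 255) (nat_lit 18446744073709551615) k
  next := [.mul (.inv (.lt (nat_lit 5))) (.mul (.lt (nat_lit 0)) (.lt (nat_lit 2)))]

/-- a level of a chain -/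
noncomputable def tblv25x3 : TT := .leaf (nat_lit 0x100000000000097000000000000001c)
/-- a level of a chain -/
noncomputable def lv25x3 : Lvl where
  b := nat_lit 28
  n := nat_lit 2
  t := fun k => TT.fld tblv25x3 (nat_lit 64) (nat_lit 255) (nat_lit 18446744073709551615) k
  next := []

/-- a level of a chain -/
noncomputable def tblv32x0 : TT := .leaf (nat_lit 0x4030000010000fc030000003a0000f6040400003e0000f305010000330000f203040000190000f002040000060000ee04030000310000ed04010000300000ea030200002a0000e9040000003b0000e8030100002e0000e704020000310000e5040100003e0000e303040000110000e0030300003a0000dd030100003a0000da03020000110000cd02020000250000c7050100003d0000c604020000230000c203030000140000bf02040000100000ba04020000300000b704010000320000b4040200001f0000b103020000140000b0010400000c0000ac03020000160000a903040000140000a703010000160000a105030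0002800009c020000002500009a0304000018000096040100002f00008e040100001700008a0401000023000086050200001e00008402010000100000770202000006000075020300000b000074030100001100006e020400000b00006d030100001900006c020100000b00005d030000001600005904040000260000490201000006000048010300000c00003f040100003100003c0502000004000032030300001a0000250000000000000022010200000c000021040100001500001d040300002600001b04030000000000180304000020000017010100000c000013050300001e00000b040100000100000a050100001e000009040200000d00000603020000190000020301000018000001)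
/-- a level of a chain -/
noncomputable def lv32x0 : Lvl where
  b := nat_lit 34
  n := nat_lit 64
  t := fun k => TT.fld tblv32x0 (nat_lit 64) (nat_lit 255) (nat_lit 18446744073709551615) k
  next := [.mul (.inv (.mul (.lt (nat_lit 3)) (.mul (.lt (nat_lit 2)) (.mul (.lt (nat_lit 2)) (.lt (nat_lit 1)))))) (.mul (.lt (nat_lit 1)) (.mul (.lt (nat_lit 4)) (.mul (.lt (nat_lit 0)) (.lt (nat_lit 4))))), .mul (.inv (.lt (nat_lit 3))) (.mul (.lt (nat_lit 0)) (.lt (nat_lit 3))), .mul (.inv (.lt (nat_lit 1))) (.mul (.lt (nat_lit 3)) (.lt (nat_lit 1))), .mul (.inv (.mul (.lt (nat_lit 4)) (.mul (.lt (nat_lit 1)) (.lt (nat_lit 1))))) (.mul (.lt (nat_lit 3)) (.mul (.lt (nat_lit 4)) (.mul (.lt (nat_lit 3)) (.lt (nat_lit 2)))))]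

/-- a level of a chain -/
noncomputable def tblv32x1 : TT := .leaf (nat_lit 0xf6010100000b0000ee03020000030000ed010200000b0000e903000000050000e5010000000b0000e002020000060000b702030000060000a7020000000600009c0200000008000086020300000a000049010300000b00003c)
/-- a level of a chain -/
noncomputable def lv32x1 : Lvl where
  b := nat_lit 246
  n := nat_lit 12
  t := fun k => TT.fld tblv32x1 (nat_lit 64) (nat_lit 255) (nat_lit 18446744073709551615) k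
  next := [.mul (.inv (.lt (nat_lit 2))) (.mul (.lt (nat_lit 1)) (.lt (nat_lit 0)))]

/-- a level of a chain -/
noncomputable def tblv32x2 : TT := .leaf (nat_lit 0xc701000000010000b4)
/-- a level of a chain -/
noncomputable def lv32x2 : Lvl where
  b := nat_lit 199
  n := nat_lit 2
  t := fun k => TT.fld tblv32x2 (nat_lit 64) (nat_lit 255) (nat_lit 18446744073709551615) k
  next := []

/-- a level of a chain -/
noncomputable def tblv33x0 : TT := .leaf (nat_lit 0x40100003e0000fe030200000d0000fc05000000290000fb04010000720000fa050200002c0000f9030000006f0000f6050200005f0000f503020000570000f3020300006c0000ee05030000590000ea05020000420000e6010200005e0000e504000000530000e4030000004e0000e305030000250000e205030000140000dd05010000000000dc03000000570000da040300003d0000d7030100006f0000d6020000006c0000d504030000360000d305020000210000d205020000250000d10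40200003b0000cf00000000000000cd050300000a0000c905020000500000c2050300003a0000c005030000130000bd04010000760000bc04000000490000ba020200006c0000b705000000090000b506010000600000b4050000005f0000b3030200006f0000b205020000770000af02030000200000ad04030000660000ab040200000b0000a802020000200000a7040300006a0000a305010000250000a0060000005200009d010100005e00009c030200004e00009a05000000190000990500000030000098040100002f000097040000001d0000960503000040000095050000001400009404030000760000930302000028000092040200005300008e050200002900008d030300006300008c030300004e00008b04010000700000860301000051000085040200007200008405010000450000830501000014000081050100002d000080030300000d00007a04000000040000730502000019000071030000001c00006d040100004100006a0501000030000069040300005300006803030000280000670502000016000065040000003e0000640403000041000063050300002900006004010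0001d00005f040300004900005e020100006c00005c050300000000005a050300005f000053040000003d000051040000002f000050050100005f00004e050000000700004c040300000b000049010000005e0000480503000058000047040100003d0000410302000051000040020300004a00003e040100000c00003a0303000051000036040300000c0000320501000029000030050100006b00002d040100005300002b040200001d00002904020000050000210403000070000020040200004900001e050200004d00001c050000004d00001b050200001400001a060300006d0000180201000020000016030200001c00001303010000630000120402000076000011040200000c000010050200001500000f040200003600000e040200001a00000d030000005100000c030300005700000b050100004000000a0501000001000006040300001d0000040400000076000000)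
/-- a level of a chain -/
noncomputable def lv33x0 : Lvl where
  b := nat_lit 205
  n := nat_lit 120
  t := fun k => TT.fld tblv33x0 (nat_lit 64) (nat_lit 255) (nat_lit 18446744073709551615) k
  next := [.mul (.inv (.mul (.lt (nat_lit 1)) (.mul (.lt (nat_lit 2)) (.mul (.lt (nat_lit 0)) (.mul (.lt (nat_lit 3)) (.mul (.lt (nat_lit 2)) (.lt (nat_lit 0)))))))) (.mul (.lt (nat_lit 3)) (.mul (.lt (nat_lit 2)) (.mul (.lt (nat_lit 1)) (.mul (.lt (nat_lit 3)) (.mul (.lt (nat_lit 0)) (.lt (nat_lit 2))))))), .mul (.inv (.mul (.lt (nat_lit 0)) (.mul (.lt (nat_lit 3)) (.mul (.lt (nat_lit 2)) (.mul (.lt (nat_lit 3)) (.lt (nat_lit 1))))))) (.mul (.lt (nat_lit 3)) (.mul (.lt (nat_lit 3)) (.mul (.lt (nat_lit 0)) (.mul (.lt (nat_lit 3)) (.mul (.lt (nat_lit 2)) (.lt (nat_lit 0))))))), .mul (.inv (.mul (.lt (nat_lit 1)) (.mul (.lt (nat_lit 3)) (.mul (.lt (nat_lit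 2)) (.mul (.lt (nat_lit 3)) (.lt (nat_lit 0))))))) (.mul (.lt (nat_lit 0)) (.mul (.lt (nat_lit 3)) (.mul (.lt (nat_lit 0)) (.mul (.lt (nat_lit 2)) (.mul (.lt (nat_lit 1)) (.lt (nat_lit 0))))))), .mul (.inv (.mul (.lt (nat_lit 0)) (.mul (.lt (nat_lit 2)) (.mul (.lt (nat_lit 1)) (.mul (.lt (nat_lit 3)) (.mul (.lt (nat_lit 0)) (.lt (nat_lit 2)))))))) (.mul (.lt (nat_lit 2)) (.mul (.lt (nat_lit 0)) (.mul (.lt (nat_lit 3)) (.mul (.lt (nat_lit 2)) (.mul (.lt (nat_lit 3)) (.lt (nat_lit 2)))))))]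

/-- a level of a chain -/
noncomputable def tblv33x1 : TT := .leaf (nat_lit 0x2000000010000e302020000050000c001030000000000b4020200000900009d02030000010000990102000000000092010000000000008e02020000010000650203000006000041020000000600002901010000000000120000000000000006)
/-- a level of a chain -/
noncomputable def lv33x1 : Lvl where
  b := nat_lit 6
  n := nat_lit 12
  t := fun k => TT.fld tblv33x1 (nat_lit 64) (nat_lit 255) (nat_lit 18446744073709551615) k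
  next := []

/-- a level of a chain -/
noncomputable def tblv34x0 : TT := .leaf (nat_lit 0x30400002e0000fe04040000470000fd04020000860000f403040000450000ec04010000830000e4040100006e0000e3040300005f0000db050000005b0000da04030000380000d203010000640000d103040000040000d004040000170000cf04030000070000ce04040000380000c604030000690000c5050200007e0000c404040000610000c304040000080000c204030000440000c103020000030000b9010000000a0000b8030200000b0000b7050100006c0000b604020000730000b503000000640000b404010000860000b304030000520000b2020300004e0000b103010000200000aa03000000180000a9030400003e0000a8040000007d0000a7040400002c0000a6040300002f0000a502040000720000a404010000000000a304040000140000a2030100001c0000a104030000590000a0030400003b0000990300000020000098040200001a000097040400006e0000960404000058000095020300003c000094030300003b000093030300001800009204040000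690000910303000003000090050100000600008f050100007900008e040200002f00008d030400001800008c050100002b00008b030400005a000084030100003b000083010300000a000082030300001c0000810502000063000080030100004300007f030300005a00007e050200002b00007d040200005200007c030200001c00007b010200000a00007a020100004e0000790303000064000078020400004e0000770404000030000076040400002300006f040200005e00006e040300001900006d020200003c00006c040400006a00006b010400000a00006a0200000046000069040300004f0000680302000043000067030400006400006603020000270000650401000052000064040100005e000063040300006e000062040400007d0000610402000071000060040100004d00005f03040000240000590302000022000058020300001f0000570300000003000056030000000b000055040400001900005403030000100000530303000043000052030100002e000051020100003c000050040000005200004f040400001a00004e020000001f00004d0302000045000047020200001f00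004604030000730000450204000046000044010100000a000043040400002800004204000000470000410203000072000040030300004500003f030300002400003e03040000220000390201000072000038030000003e000037040300006100003603020000200000350304000003000034030100006b0000330402000083000032040100001400002d020000004e00002c050000001100002b030400001000002a04030000680000290401000058000028020400001f00002300000000000000220300000022000021030200002e000020030400002000001b040000001900001a030000006b000019020300004600001502020000720000140304000027000010040100001900000d030300000b00000a)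
/-- a level of a chain -/
noncomputable def lv34x0 : Lvl where
  b := nat_lit 34
  n := nat_lit 135
  t := fun k => TT.fld tblv34x0 (nat_lit 64) (nat_lit 255) (nat_lit 18446744073709551615) k
  next := [.mul (.inv (.mul (.lt (nat_lit 4)) (.mul (.lt (nat_lit 3)) (.lt (nat_lit 2))))) (.mul (.lt (nat_lit 3)) (.mul (.lt (nat_lit 4)) (.mul (.lt (nat_lit 3)) (.mul (.lt (nat_lit 0)) (.lt (nat_lit 1)))))), .mul (.inv (.mul (.lt (nat_lit 0)) (.mul (.lt (nat_lit 2)) (.lt (nat_lit 0))))) (.mul (.lt (nat_lit 1)) (.mul (.lt (nat_lit 4)) (.mul (.lt (nat_lit 1)) (.lt (nat_lit 4))))), .mul (.inv (.mul (.lt (nat_lit 0)) (.mul (.lt (nat_lit 2)) (.mul (.lt (nat_lit 3)) (.lt (nat_lit 0)))))) (.mul (.lt (nat_lit 3)) (.mul (.lt (nat_lit 2)) (.mul (.lt (nat_lit 4)) (.lt (nat_lit 2))))), .mul (.inv (.mul (.lt (nat_lit 2)) (.mul (.lt (nat_lit 4)) (.mul (.lt (nat_lit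 3)) (.lt (nat_lit 1)))))) (.mul (.lt (nat_lit 4)) (.mul (.lt (nat_lit 0)) (.mul (.lt (nat_lit 4)) (.mul (.lt (nat_lit 3)) (.mul (.lt (nat_lit 1)) (.lt (nat_lit 0)))))))]

/-- a level of a chain -/
noncomputable def tblv34x1 : TT := .leaf (nat_lit 0x30100000c0000fb04010000040000fa02020000180000f904010000300000f804010000270000f6040200002c0000f304010000110000ef030200002e0000ee02010000180000ed04010000210000e904000000210000e503000000060000e1030100003d0000e002000000180000df040300000f0000de03030000260000d903010000140000d7020000000e0000d504020000040000d403000000010000d3030100001d0000cc03020000190000cb04010000250000c003010000010000be03010000370000bd02000000200000bc030100002e0000bb04010000030000b0040100002f0000af03020000320000ad03030000140000ab010100001000009d030300001a00009c0300000032000089020100001b000088040100003400008601020000100000850203000018000075020300001b0000740103000010000072030300003d000070050000003900005c030000003700004c020200000e00004b030000001900004a0403000030000049030100000600003d000000000000003c030100002600003a010000001000002f040100000f0000270201000020000025040300000400001e050100002900001d040300001100001c0401000005000013040000003f000012020100000e00000e030000000c000009030000002e0000060302000001000004040100002c00000302030000200000010400000013000000)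
/-- a level of a chain -/
noncomputable def lv34x1 : Lvl where
  b := nat_lit 60
  n := nat_lit 64
  t := fun k => TT.fld tblv34x1 (nat_lit 64) (nat_lit 255) (nat_lit 18446744073709551615) k
  next := [.mul (.inv (.mul (.lt (nat_lit 3)) (.mul (.lt (nat_lit 1)) (.mul (.lt (nat_lit 0)) (.lt (nat_lit 1)))))) (.mul (.lt (nat_lit 0)) (.mul (.lt (nat_lit 1)) (.mul (.lt (nat_lit 1)) (.lt (nat_lit 3))))), .mul (.inv (.mul (.lt (nat_lit 0)) (.mul (.lt (nat_lit 1)) (.lt (nat_lit 1))))) (.mul (.lt (nat_lit 3)) (.mul (.lt (nat_lit 2)) (.mul (.lt (nat_lit 0)) (.mul (.lt (nat_lit 0)) (.lt (nat_lit 0)))))), .mul (.inv (.mul (.lt (nat_lit 1)) (.mul (.lt (nat_lit 2)) (.mul (.lt (nat_lit 3)) (.lt (nat_lit 1)))))) (.mul (.lt (nat_lit 3)) (.mul (.lt (nat_lit 0)) (.mul (.lt (nat_lit 1)) (.lt (nat_lit 3))))), .mul (.inv (.lt (nat_lit 3))) (.mul (.lt (nat_lit 0))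 (.mul (.lt (nat_lit 1)) (.mul (.lt (nat_lit 3)) (.mul (.lt (nat_lit 2)) (.lt (nat_lit 0))))))]

/-- a level of a chain -/
noncomputable def tblv34x2 : TT := .leaf (nat_lit 0x30200000b0000ec030100000f0000ce020100000e0000c5010300000c0000b6010000000c0000b4020200000e0000b1010100000c000099030100000b000080000000000000007d020000001000007c020200001000007a030300000a000079010200000c000078020000000800005f030300000b0000570201000010000052030000000a00004e02000000110000430203000008000033020300001000002d0201000008000010)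
/-- a level of a chain -/
noncomputable def lv34x2 : Lvl where
  b := nat_lit 125
  n := nat_lit 21
  t := fun k => TT.fld tblv34x2 (nat_lit 64) (nat_lit 255) (nat_lit 18446744073709551615) k
  next := []

/-- a level of a chain -/
noncomputable def tblv35x0 : TT := .leaf (nat_lit 0x4050000b70000fe04050000c40000fd04040000e70000fc04010000e90000fb03040000dd0000f904020000e00000f703000000500000f503000000c10000f403000000d70000f304010000e00000f202050000980000f104020000d20000f004020000e90000ef04020000e80000ee03020000500000ed03010000a80000ec03000000b00000eb03000000e50000ea02050000aa0000e904040000bc0000e804050000930000e704020000e10000e6040100002f0000e504000000bc0000e402010000980000e203020000e50000e104040000af0000e004050000a00000df04040000e90000de03050000540000dd04010000750000dc04000000de0000db04020000950000da03050000a40000d904050000700000d804040000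e10000d603050000640000d504030000b50000d403050000680000d304020000800000d1040200009c0000d004040000d60000cf04000000750000ce03040000b00000cd04040000890000cc040500005b0000cb020200007e0000ca030500007a0000c903050000780000c803030000500000c704040000df0000c6030100009e0000c504040000de0000c405040000ef0000c304040000e80000c2040000002f0000c103040000a40000c0050100001f0000bf03020000910000be03000000910000bd04010000de0000bc03030000410000bb040300003a0000ba020000003f0000b903000000a10000b804040000e00000b7040500003e0000b504050000330000b404050000800000b201030000210000b003020000270000af020000007e0000ae040400002f0000ad04010000bc0000ac04050000510000ab020200003f0000aa04050000340000a904000000950000a8020500002b0000a703030000a40000a6050500001f0000a5020500003f0000a404000000e90000a303010000500000a205030000ad0000a104040000460000a0040400009c00009f010100002100009e040100001500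009d040400003a00009b03000000a800009a040000009c00009903030000b00000980301000025000097020400007e00009604030000bf00009504040000be00009404040000430000930305000027000092040500001d000091040500007500009004000000e000008f03010000d700008e040200007500008d040200003a00008c040300003e00008b040100003d00008a05000000730000890404000092000088040100001c00008704020000de00008603020000a8000085030100005f0000840105000021000083040400005500008203030000e50000810405000017000080020300002b00007f030300009e00007e020300009800007d050100007300007c020200009800007b03010000e500007a03010000b0000079040200002f000078040300003400007705020000040000760304000025000075040000004d00007404020000bc000073040300007000007204020000d6000071040400007400006f040300003500006e04040000bf00006d02030000aa00006c040400007500006b040300008000006a030400005400006902040000980000680404000080000067040100004d000066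050000008300006504000000c40000640200000098000063040400007f0000610504000097000060040400005100005f030400002d00005e040000003e00005d04020000af00005c040000007000005b040100009c00005a04030000950000590301000064000058020300003f0000570404000095000056040000003d0000550303000025000054020100007e0000530303000078000052040000001c00005103020000a400005003020000d700004f050400001a00004e040000000d00004d040000006500004b040000003400004a0401000095000049030000005f000048030300002d000047030400004100004603010000540000450400000015000044020300007e000043040400001b0000420100000021000041030400007600004003020000b000003f050000000f00003e050000002c00003d030200009e00003c040100004300003b030000002500003a040500000b00003904040000150000380300000019000037030400005f00003603010000270000350502000052000034040200004d0000330500000004000032030000009e0000310402000070000030020000002b00002f0404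00003800002e010200002100002c050200004200002b040400000a00002a040200003d000029020400003f00002805010000b8000027020100003f00002604020000340000250302000076000024050200006b000023000000000000002204040000330000210402000015000020040300009c00001f030300005f00001e030200005f00001d030200002d00001c040200003e00001b020400002b00001a05040000040000190303000076000018040400004d0000170302000025000016040200005b0000150504000003000014040400003d000013050000005800001205040000140000110400000043000010050100006d00000f030400002700000e040100006500000d030000005400000c030000007800000b060400000200000a03030000540000090503000004000008050000009a0000070503000003000006040100000b0000050402000008000004050100000f00000305010000040000020604000001000001)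
/-- a level of a chain -/
noncomputable def lv35x0 : Lvl where
  b := nat_lit 34
  n := nat_lit 240
  t := fun k => TT.fld tblv35x0 (nat_lit 64) (nat_lit 255) (nat_lit 18446744073709551615) k
  next := [.mul (.inv (.mul (.lt (nat_lit 0)) (.mul (.lt (nat_lit 4)) (.mul (.lt (nat_lit 1)) (.mul (.lt (nat_lit 1)) (.lt (nat_lit 0))))))) (.mul (.lt (nat_lit 3)) (.mul (.lt (nat_lit 0)) (.mul (.lt (nat_lit 4)) (.mul (.lt (nat_lit 0)) (.mul (.lt (nat_lit 1)) (.lt (nat_lit 0))))))), .mul (.inv (.mul (.lt (nat_lit 3)) (.mul (.lt (nat_lit 4)) (.mul (.lt (nat_lit 0)) (.lt (nat_lit 1)))))) (.mul (.lt (nat_lit 4)) (.mul (.lt (nat_lit 4)) (.mul (.lt (nat_lit 2)) (.mul (.lt (nat_lit 1)) (.lt (nat_lit 0)))))), .mul (.inv (.mul (.lt (nat_lit 1)) (.mul (.lt (nat_lit 1)) (.mul (.lt (nat_lit 1)) (.lt (nat_lit 5)))))) (.mul (.lt (nat_lit 0)) (.mul (.lt (nat_lit 5))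 (.mul (.lt (nat_lit 2)) (.mul (.lt (nat_lit 0)) (.lt (nat_lit 5)))))), .mul (.inv (.mul (.lt (nat_lit 1)) (.mul (.lt (nat_lit 0)) (.mul (.lt (nat_lit 1)) (.mul (.lt (nat_lit 3)) (.lt (nat_lit 0))))))) (.mul (.lt (nat_lit 3)) (.mul (.lt (nat_lit 2)) (.mul (.lt (nat_lit 4)) (.mul (.lt (nat_lit 0)) (.lt (nat_lit 2))))))]

/-- a level of a chain -/
noncomputable def tblv35x1 : TT := .leaf (nat_lit 0x3000000500000fe010200001c0000fb05010000380000f904030000510000f404000000090000f3040200006f0000ef04030000470000ee04020000120000ed03000000180000e9030200001b0000e5040000005e0000e103010000610000e0050000004b0000df05010000480000de020000006e0000db030100001b0000d903010000500000d503030000570000d403030000610000d305030000550000d104030000540000d004010000660000cf030300001b0000cc040000003b0000cb020200004c0000c104020000320000c0040300003b0000be03010000180000bd03000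000610000bc040200005d0000bb03020000060000b8020100006e0000b7050000005a0000b504020000490000b2030000001b0000b0010000001c0000af04020000090000ad04000000640000ab030000002f0000aa04000000660000a803020000170000a703030000170000a604030000530000a503030000500000a4040100005e0000a3040000000000009d0503000020000097050000002a000091040100002c000090040000002600008e040000005400008d040000006700008c0301000057000089030300002b00008804000000470000860402000060000085020300006e000083040100003b000081040300006600007e040100000700007b030300002e0000770300000006000076040000000b0000750400000059000074020000001f000072020100001f00006f040200001500006b030300003700006a020200006e0000690401000053000067020300004c000065030200002e000061050100003c00005c030000002e000055030200002f000054050300005a00005304000000050000510403000005000050030300002900004f040200005100004d010100001c00004b040000006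000004a030200002b0000490000000000000045020000004c000041040100001500003e010300001c00003d020200001f00003c020300001f00003a04020000010000390300000029000038040200000c0000360401000021000034030100002b00002f040200006600002c04010000670000270403000002000025040200003300001e040300005900001d030100001700001c030300000600001b050200000d000014030100002f0000130200000019000012030000002b00000e020100004c00000d030200002900000a04010000050000090402000021000006030200001800000403000000080000030301000006000001)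
/-- a level of a chain -/
noncomputable def lv35x1 : Lvl where
  b := nat_lit 69
  n := nat_lit 112
  t := fun k => TT.fld tblv35x1 (nat_lit 64) (nat_lit 255) (nat_lit 18446744073709551615) k
  next := [.mul (.inv (.mul (.lt (nat_lit 3)) (.mul (.lt (nat_lit 3)) (.lt (nat_lit 1))))) (.mul (.lt (nat_lit 0)) (.mul (.lt (nat_lit 0)) (.mul (.lt (nat_lit 0)) (.lt (nat_lit 3))))), .mul (.inv (.mul (.lt (nat_lit 2)) (.mul (.lt (nat_lit 3)) (.mul (.lt (nat_lit 3)) (.mul (.lt (nat_lit 0)) (.lt (nat_lit 0))))))) (.mul (.lt (nat_lit 1)) (.mul (.lt (nat_lit 0)) (.mul (.lt (nat_lit 3)) (.mul (.lt (nat_lit 1)) (.lt (nat_lit 0)))))), .mul (.inv (.mul (.lt (nat_lit 1)) (.lt (nat_lit 2)))) (.mul (.lt (nat_lit 3)) (.mul (.lt (nat_lit 2)) (.mul (.lt (nat_lit 0)) (.mul (.lt (nat_lit 1)) (.lt (nat_lit 2)))))), .mul (.inv (.mul (.lt (nat_lit 2)) (.mul (.lt (nat_lit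 1)) (.mul (.lt (nat_lit 3)) (.lt (nat_lit 1)))))) (.mul (.lt (nat_lit 1)) (.mul (.lt (nat_lit 2)) (.mul (.lt (nat_lit 0)) (.mul (.lt (nat_lit 1)) (.lt (nat_lit 0))))))]

/-- a level of a chain -/
noncomputable def tblv35x2 : TT := .leaf (nat_lit 0x10000000a0000f903000000160000f404010000030000ee030300000c0000ed03030000260000e902000000200000de03020000070000d503000000110000d4020200002f0000d1020300002f0000cc030100001c0000cb04030000250000c003030000270000b702010000200000b503030000110000ad010300000a0000ab03030000220000a6030100001100009d030200001c00009702020000010000910203000015000090030300001600008e040200002b00008c030200002a000088040300001d000083020200001500007e010200000a00007b0200000015000076030000001c00006b020100002f000065020000002f00005c04030000230000550303000012000053040300000800004f030100000700004d020100001500004b030200002700004a000000000000003c030000001b0000390300000012000034020300000100002f0403000028000025030000000700001d030300001c0000140302000012000012040300000f00000a010100000a0000060202000020000003)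
/-- a level of a chain -/
noncomputable def lv35x2 : Lvl where
  b := nat_lit 60
  n := nat_lit 48
  t := fun k => TT.fld tblv35x2 (nat_lit 64) (nat_lit 255) (nat_lit 18446744073709551615) k
  next := [.mul (.inv (.one)) (.mul (.lt (nat_lit 2)) (.mul (.lt (nat_lit 3)) (.mul (.lt (nat_lit 2)) (.mul (.lt (nat_lit 2)) (.lt (nat_lit 1)))))), .mul (.inv (.mul (.lt (nat_lit 1)) (.lt (nat_lit 2)))) (.mul (.lt (nat_lit 3)) (.mul (.lt (nat_lit 3)) (.mul (.lt (nat_lit 1)) (.mul (.lt (nat_lit 2)) (.lt (nat_lit 1)))))), .mul (.inv (.mul (.lt (nat_lit 3)) (.mul (.lt (nat_lit 2)) (.lt (nat_lit 0))))) (.mul (.lt (nat_lit 2)) (.mul (.lt (nat_lit 1)) (.mul (.lt (nat_lit 0)) (.lt (nat_lit 0))))), .mul (.inv (.mul (.lt (nat_lit 1)) (.lt (nat_lit 0)))) (.mul (.lt (nat_lit 3)) (.mul (.lt (nat_lit 0)) (.mul (.lt (nat_lit 3)) (.lt (nat_lit 2)))))]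

/-- a level of a chain -/
noncomputable def tblv35x3 : TT := .leaf (nat_lit 0x2030000060000e800000000000000e702030000080000e2010000000e0000c7020300000c0000b403030000090000ae020100000c000096010200000e00008b0403000002000079010100000e000059010300000e000056020200000c00004e0303000004000030030200000900002e02020000060000160303000001000010)
/-- a level of a chain -/
noncomputable def lv35x3 : Lvl where
  b := nat_lit 231
  n := nat_lit 16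
  t := fun k => TT.fld tblv35x3 (nat_lit 64) (nat_lit 255) (nat_lit 18446744073709551615) k
  next := []

/-- a level of a chain -/
noncomputable def tblv36x0 : TT := .leaf (nat_lit 0x5030000750000fc050300006d0000f3050300002c0000eb05020000780000e204000000770000d905030000710000cd04030000490000cc04030000540000c603030000230000c0040100006c0000bf040200005a0000b9040300000d0000b0040000006b0000af040200004e0000aa040300003a0000a6040100003f0000a0050300003100009e040200006b00009d040300001c000098030000005c000097030300002e000093040300001500008e040000005e00008b050000007100008a0400000064000088050000004d00008703020000470000840303000024000082040200003d00007f040300000e00007d050100004d00007b050300003200007904020000270000770301000024000076040100003b00007502020000510000740402000064000072030100004700006f040300001f00006e050100007400006c0400000028000069030300004300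006805000000690000660301000023000065050000002c000064040300002700006301030000210000610400000017000060040100001c00005f030300000a00005e040300000b00005d050000005b00005b040000005a0000580403000016000057030200002e00005505030000370000540201000051000052040000003f0000510203000029000050040200003e00004f020100002900004e040200001f00004d050200005900004b050300003900004a0300000043000048030100005c000047030200005c000045050000001d00004403000000230000420301000043000041040200005e000040040300007700003f040000001f00003e050000006700003d050200004d00003b030000002400003a040000004e0000380402000016000037040000000d0000360403000005000035030000004500003402030000510000330301000008000032040300005e000030040200001c00002f040200002d00002e010000002100002c030000004700002b030300005c00002a0400000027000029040200003400002802000000290000260200000051000025040000002d0000240000000000000023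040100001a000022030100000a0000210403000056000020040100005e00001e030000001300001d040000001500001c030000002e00001b050200001400001a0301000013000019030300004500001803020000430000170300000008000016040100000d000015020100000c000014040300002f000013040000001c00001203020000080000110401000018000010030000000a00000f030200002400000e010200002100000d030200000a00000c020200002900000b050100000200000a020000000c000009040300003f000008040300002800000703020000000000060500000007000005050000000200000404030000340000030303000013000002020300000c000001)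
/-- a level of a chain -/
noncomputable def lv36x0 : Lvl where
  b := nat_lit 35
  n := nat_lit 128
  t := fun k => TT.fld tblv36x0 (nat_lit 64) (nat_lit 255) (nat_lit 18446744073709551615) k
  next := [.mul (.inv (.mul (.lt (nat_lit 2)) (.mul (.lt (nat_lit 0)) (.lt (nat_lit 2))))) (.mul (.lt (nat_lit 3)) (.mul (.lt (nat_lit 3)) (.mul (.lt (nat_lit 3)) (.mul (.lt (nat_lit 2)) (.lt (nat_lit 3)))))), .mul (.inv (.mul (.lt (nat_lit 3)) (.lt (nat_lit 3)))) (.mul (.lt (nat_lit 1)) (.mul (.lt (nat_lit 0)) (.mul (.lt (nat_lit 1)) (.mul (.lt (nat_lit 2)) (.lt (nat_lit 0)))))), .mul (.inv (.mul (.lt (nat_lit 3)) (.mul (.lt (nat_lit 2)) (.lt (nat_lit 3))))) (.mul (.lt (nat_lit 1)) (.mul (.lt (nat_lit 0)) (.mul (.lt (nat_lit 3)) (.mul (.lt (nat_lit 2)) (.lt (nat_lit 3)))))), .mul (.inv (.mul (.lt (nat_lit 3)) (.mul (.lt (nat_lit 0)) (.mul (.lt (nat_lit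 1)) (.mul (.lt (nat_lit 2)) (.lt (nat_lit 0))))))) (.mul (.lt (nat_lit 0)) (.mul (.lt (nat_lit 3)) (.mul (.lt (nat_lit 2)) (.mul (.lt (nat_lit 1)) (.mul (.lt (nat_lit 0)) (.lt (nat_lit 0)))))))]

/-- a level of a chain -/
noncomputable def tblv36x1 : TT := .leaf (nat_lit 0x3010000010000bf020100000c0000b003020000180000af02010000150000a6030200001600009e020200001500009d0100000014000098000000000000008a0201000006000087020300000c000082030300001800007f030300000a00007d03000000160000740300000013000064030300000b00005701030000140000540200000015000050020300000600004f040200000e00004b0200000006000047030000000300003f010100001400003b0401000004000030030100001800002502020000060000050302000008000004020200000c0000030303000016000002)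
/-- a level of a chain -/
noncomputable def lv36x1 : Lvl where
  b := nat_lit 138
  n := nat_lit 28
  t := fun k => TT.fld tblv36x1 (nat_lit 64) (nat_lit 255) (nat_lit 18446744073709551615) k
  next := [.mul (.inv (.mul (.lt (nat_lit 2)) (.mul (.lt (nat_lit 0)) (.lt (nat_lit 1))))) (.mul (.lt (nat_lit 3)) (.mul (.lt (nat_lit 0)) (.mul (.lt (nat_lit 2)) (.lt (nat_lit 1))))), .mul (.inv (.mul (.lt (nat_lit 2)) (.mul (.lt (nat_lit 2)) (.lt (nat_lit 0))))) (.mul (.lt (nat_lit 1)) (.mul (.lt (nat_lit 2)) (.mul (.lt (nat_lit 1)) (.lt (nat_lit 0))))), .mul (.inv (.mul (.lt (nat_lit 1)) (.mul (.lt (nat_lit 2)) (.lt (nat_lit 3))))) (.mul (.lt (nat_lit 3)) (.mul (.lt (nat_lit 0)) (.mul (.lt (nat_lit 2)) (.lt (nat_lit 0))))), .mul (.inv (.mul (.lt (nat_lit 2)) (.mul (.lt (nat_lit 0)) (.mul (.lt (nat_lit 1)) (.lt (nat_lit 1)))))) (.mul (.lt (nat_lit 1))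 (.mul (.lt (nat_lit 3)) (.mul (.lt (nat_lit 3)) (.lt (nat_lit 1)))))]

/-- a level of a chain -/
noncomputable def tblv36x2 : TT := .leaf (nat_lit 0x1000000010000df02030000050000b801030000010000a801010000010000a400000000000000900102000001000086)
/-- a level of a chain -/
noncomputable def lv36x2 : Lvl where
  b := nat_lit 144
  n := nat_lit 6
  t := fun k => TT.fld tblv36x2 (nat_lit 64) (nat_lit 255) (nat_lit 18446744073709551615) k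
  next := []

/-- a level of a chain -/
noncomputable def tblv37x0 : TT := .leaf (nat_lit 0x3000000700000fe08020000600000fb01000000670000f907020000570000f807020000410000f209020000340000ee080200003e0000ed020000006f0000ec01020000670000e908000000730000e808020000470000e709020000100000e602020000750000e202000000750000e108020000130000de050000004a0000da00000000000000d806010000460000d50a020000720000d4070000003f0000d006000000520000cf060000001b0000cc09000000390000c807020000440000c7030000006b0000c6070200003a0000c506010000420000c2030200006a0000c007020000530000bf07000000570000be090200002e0000bd07020000660000b6060200001c0000b506020000460000b304020000120000b2040200005f0000ab060100001b0000aa050100004a0000a805010000490000a7060000002a0000a406000000680000a307020000300000a1070100001d0000a0060200001b00009e090200006e00009d040200002900009b040200005c00009a06020000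2a0000990700000062000098050200003b000096080000001e00009306020000110000920600000051000090050200005400008f060200000c00008c050000002100008a0600000042000089070200001f000088050200002100008608020000220000830402000038000080060100001c00007f080200005800007e03020000700000770602000026000075070000005d000073090000002e000070080200003200006c060200002700006b0702000017000069020200006f000066060100002700006506020000520000630802000064000062080200005a000060080200007300005b070100003300005a0500000049000059030200006b0000570502000002000056050200004a000054050000003b000053080200005e000051070200001a00004f070200002000004d070000005600004c040000002900004a0601000028000049060200004000004507020000160000420602000028000040050200004900003f050200005500003b060000001100003903020000310000370a0200000a00003506020000510000340600000026000031060000000b00002f080200003600002d070200002f00002a0300000031000029050100003b000027080000001300002406020000040000210900000025000020060200004200001c0501000002000018050000000200001409000000100000130502000006000011060000000c000010070200005d00000f040000001900000e080000000100000a05000000060000090702000043000008040200001900000707020000500000040702000056000000)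
/-- a level of a chain -/
noncomputable def lv37x0 : Lvl where
  b := nat_lit 216
  n := nat_lit 120
  t := fun k => TT.fld tblv37x0 (nat_lit 64) (nat_lit 255) (nat_lit 18446744073709551615) k
  next := [.mul (.inv (.mul (.lt (nat_lit 2)) (.mul (.lt (nat_lit 2)) (.mul (.lt (nat_lit 1)) (.mul (.lt (nat_lit 2)) (.mul (.lt (nat_lit 2)) (.mul (.lt (nat_lit 2)) (.mul (.lt (nat_lit 0)) (.lt (nat_lit 0)))))))))) (.mul (.lt (nat_lit 0)) (.mul (.lt (nat_lit 2)) (.mul (.lt (nat_lit 0)) (.mul (.lt (nat_lit 2)) (.mul (.lt (nat_lit 2)) (.mul (.lt (nat_lit 2)) (.mul (.lt (nat_lit 2)) (.mul (.lt (nat_lit 0)) (.lt (nat_lit 0)))))))))), .mul (.inv (.mul (.lt (nat_lit 2)) (.mul (.lt (nat_lit 2)) (.mul (.lt (nat_lit 0)) (.mul (.lt (nat_lit 0)) (.mul (.lt (nat_lit 2)) (.mul (.lt (nat_lit 2)) (.lt (nat_lit 0))))))))) (.mul (.lt (nat_lit 1)) (.mul (.lt (nat_lit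 0)) (.mul (.lt (nat_lit 0)) (.mul (.lt (nat_lit 2)) (.mul (.lt (nat_lit 2)) (.mul (.lt (nat_lit 0)) (.mul (.lt (nat_lit 2)) (.lt (nat_lit 2))))))))), .mul (.inv (.mul (.lt (nat_lit 2)) (.mul (.lt (nat_lit 0)) (.mul (.lt (nat_lit 2)) (.mul (.lt (nat_lit 2)) (.mul (.lt (nat_lit 1)) (.mul (.lt (nat_lit 2)) (.mul (.lt (nat_lit 2)) (.mul (.lt (nat_lit 2)) (.lt (nat_lit 0))))))))))) (.mul (.lt (nat_lit 0)) (.mul (.lt (nat_lit 2)) (.mul (.lt (nat_lit 2)) (.mul (.lt (nat_lit 2)) (.mul (.lt (nat_lit 1)) (.mul (.lt (nat_lit 2)) (.mul (.lt (nat_lit 2)) (.mul (.lt (nat_lit 2)) (.lt (nat_lit 0)))))))))), .mul (.inv (.mul (.lt (nat_lit 2)) (.mul (.lt (nat_lit 2)) (.mul (.lt (nat_lit 2)) (.mul (.lt (nat_lit 2)) (.mul (.lt (nat_lit 2)) (.mul (.lt (nat_lit 0)) (.lt (nat_lit 0))))))))) (.mul (.lt (nat_lit 0)) (.mul (.lt (nat_lit 2)) (.mul (.lt (nat_lit 2)) (.mul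 (.lt (nat_lit 2)) (.mul (.lt (nat_lit 2)) (.mul (.lt (nat_lit 2)) (.mul (.lt (nat_lit 0)) (.lt (nat_lit 0)))))))))]

/-- a level of a chain -/
noncomputable def tblv37x1 : TT := .leaf (nat_lit 0x2010000080000fb03010000090000f903030000040000f200000000000000e802020000030000e102020000070000de02030000080000cc030200000e0000a403010000040000a0020300000100009302010000030000900101000010000077010000001000007502020000010000650203000003000054020100000700004f0102000010000040020000000100002901030000100000180200000008000007)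
/-- a level of a chain -/
noncomputable def lv37x1 : Lvl where
  b := nat_lit 232
  n := nat_lit 20
  t := fun k => TT.fld tblv37x1 (nat_lit 64) (nat_lit 255) (nat_lit 18446744073709551615) k
  next := [.mul (.inv (.mul (.lt (nat_lit 3)) (.lt (nat_lit 1)))) (.mul (.lt (nat_lit 1)) (.mul (.lt (nat_lit 2)) (.lt (nat_lit 2)))), .mul (.inv (.mul (.lt (nat_lit 2)) (.lt (nat_lit 3)))) (.mul (.lt (nat_lit 3)) (.mul (.lt (nat_lit 1)) (.mul (.lt (nat_lit 1)) (.lt (nat_lit 0))))), .mul (.inv (.mul (.lt (nat_lit 1)) (.lt (nat_lit 1)))) (.mul (.lt (nat_lit 2)) (.mul (.lt (nat_lit 3)) (.lt (nat_lit 1)))), .mul (.inv (.mul (.lt (nat_lit 2)) (.mul (.lt (nat_lit 2)) (.lt (nat_lit 0))))) (.mul (.lt (nat_lit 3)) (.mul (.lt (nat_lit 2)) (.mul (.lt (nat_lit 2)) (.lt (nat_lit 0)))))]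

/-- a level of a chain -/
noncomputable def tblv37x2 : TT := .leaf (nat_lit 0x2020000000000fd00000000000000e301020000040000bb010300000400008101010000040000440100000004000030)
/-- a level of a chain -/
noncomputable def lv37x2 : Lvl where
  b := nat_lit 227
  n := nat_lit 6
  t := fun k => TT.fld tblv37x2 (nat_lit 64) (nat_lit 255) (nat_lit 18446744073709551615) k
  next := []

/-- a level of a chain -/
noncomputable def tblv38x0 : TT := .leaf (nat_lit 0x8020000860000fe09020000710000fd070000002c0000fc08010000d30000fb07000000ef0000fa020000006e0000f905000000da0000f8080000007b0000f708020000fa0000f6080200009f0000f504000000b70000f40a000000060000f30a0200008f0000f209000000980000f106000000100000f0060200006a0000ef09000000200000ee04020000890000ed0a010000a90000ec080000001a0000eb09000000500000ea09010000420000e905020000310000e8090100002a0000e7070000000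80000e607000000150000e509020000dc0000e409000000430000e3090000009b0000e201010000220000e10a000000730000e0060200008d0000df02020000e10000de07020000c90000dd08000000050000dc06020000bc0000db04000000750000da04010000750000d905020000da0000d803010000f90000d70a020000ea0000d6080000009f0000d509000000f70000d4070000006b0000d306000000720000d208010000fc0000d107020000270000d005000000c40000cf08020000ac0000ce06020000760000cd03000000f90000cc080000009a0000cb09020000460000ca06000000f80000c9080100007b0000c809020000c80000c707010000580000c608020000c20000c504010000cc0000c40a010000560000c307000000f00000c207000000680000c109020000600000c0070100006b0000bf09000000ba0000be08020000530000bd05000000820000bc08000000d00000bb080000002f0000ba09020000550000b904020000b70000b803000000de0000b707000000700000b60a000000a90000b507020000f00000b4070100001c0000b3060100006a0000b207020000d2000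0b10b000000aa0000b005010000da0000af080100004f0000ae0a000000650000ad07000000cd0000ac070200008c0000ab0a020000660000aa09020000f70000a907000000900000a803020000f90000a70a0100004d0000a607020000810000a50a020000e90000a409000000fe0000a304000000d70000a20a020000e70000a108010000860000a0070100002c00009f010000002200009e09000000ae00009d070000005800009c080200009a00009b070100006800009a080200005a00009908010000e5000098090000005e0000970a000000170000960a020000f1000095050000003400009408000000b10000930a010000c0000092060200005c00009106020000cf00009009000000d500008f070000002600008e05000000f400008d06000000d800008c080100009c00008b060000007c00008a030000002e00008905000000000000880400000089000087070000002700008609000000780000850600000033000084090200007e000083040200002800008206000000880000810900000036000080070100002700007f08010000c100007e06000000cf00007d05020000a200007c0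70200004400007b05020000c400007a0c0100003c00007908000000e50000780a010000f10000770501000034000076030200003f0000750702000026000074090000007e000073050000005f00007208000000ac00007106020000f8000070040200002300006f010200002200006e0b0000007700006d06010000d800006c06000000af00006b05000000ed00006a08020000bf000069060200003300006805020000f400006709000000d100006609020000a000006508010000fa0000640a02000051000063090000006000006208000000160000610800000057000060040000000100005f08000000ab00005e0b0000003000005d05000000a200005c080200005400005b07010000c900005a08020000e600005906020000af0000580701000015000057090000005500005608000000b6000055070000004700005407000000df0000530b000000b500005209000000f600005108000000dd000050070200000800004f090200006100004e090200004200004d04000000cc00004c09010000ce00004b090200009800004a0a020000a300004909010000fe000048060200007200004708010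000b6000046020200009e00004506010000f8000044080000005a000043080000000c000042080200000b00004105000000b800004002000000e100003f08000000a500003e08020000fc00003d0b020000e000003c070200001300003b05000000d900003a0a020000be000039050200005f00003807010000ef00003708010000dd0000360400000028000035040000002b000034050000001100003309000000cb00003204010000280000310a02000097000030070200008a00002f020100009e00002e090000004200002d060000004000002c030000004500002b080200007f00002a0802000057000029030000003f000028060000006a00002706000000670000260c0000006d000025050100008700002403010000de0000230000000000000022070200006c00002108010000ab0000200b020000c300001f080000003b00001e09000000bb00001d060200004000001c08000000c100001b070200007d00001a09010000bb0000190a0100008300001809000000a00000170700000091000016060200003a0000150602000024000014060000007600001308010000b400001204020000cc0000110502000034000010090000003d00000f07000000db00000e040200002b00000d070200002c00000c070100008c00000b08020000c600000a0401000001000009060000007a0000080602000088000007090200006400000607010000db0000050a0000004a0000040702000084000003080200008e000002030200002e000001040100002b000000)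
/-- a level of a chain -/
noncomputable def lv38x0 : Lvl where
  b := nat_lit 34
  n := nat_lit 255
  t := fun k => TT.fld tblv38x0 (nat_lit 64) (nat_lit 255) (nat_lit 18446744073709551615) k
  next := [.mul (.inv (.mul (.lt (nat_lit 0)) (.mul (.lt (nat_lit 2)) (.mul (.lt (nat_lit 0)) (.mul (.lt (nat_lit 0)) (.mul (.lt (nat_lit 0)) (.mul (.lt (nat_lit 2)) (.mul (.lt (nat_lit 0)) (.mul (.lt (nat_lit 2)) (.lt (nat_lit 1))))))))))) (.mul (.lt (nat_lit 1)) (.mul (.lt (nat_lit 0)) (.mul (.lt (nat_lit 2)) (.mul (.lt (nat_lit 0)) (.mul (.lt (nat_lit 0)) (.mul (.lt (nat_lit 0)) (.mul (.lt (nat_lit 2)) (.mul (.lt (nat_lit 0)) (.mul (.lt (nat_lit 2)) (.lt (nat_lit 1))))))))))), .mul (.inv (.mul (.lt (nat_lit 2)) (.mul (.lt (nat_lit 0)) (.mul (.lt (nat_lit 0)) (.mul (.lt (nat_lit 2)) (.mul (.lt (nat_lit 0)) (.mul (.lt (nat_lit 0)) (.lt (nat_lit 2)))))))))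 (.mul (.lt (nat_lit 0)) (.mul (.lt (nat_lit 2)) (.mul (.lt (nat_lit 0)) (.mul (.lt (nat_lit 1)) (.mul (.lt (nat_lit 2)) (.mul (.lt (nat_lit 0)) (.mul (.lt (nat_lit 2)) (.mul (.lt (nat_lit 0)) (.mul (.lt (nat_lit 0)) (.lt (nat_lit 1))))))))))), .mul (.inv (.mul (.lt (nat_lit 2)) (.mul (.lt (nat_lit 1)) (.mul (.lt (nat_lit 0)) (.mul (.lt (nat_lit 0)) (.mul (.lt (nat_lit 2)) (.mul (.lt (nat_lit 0)) (.mul (.lt (nat_lit 2)) (.lt (nat_lit 1)))))))))) (.mul (.lt (nat_lit 1)) (.mul (.lt (nat_lit 0)) (.mul (.lt (nat_lit 0)) (.mul (.lt (nat_lit 2)) (.mul (.lt (nat_lit 0)) (.mul (.lt (nat_lit 2)) (.mul (.lt (nat_lit 0)) (.mul (.lt (nat_lit 0)) (.lt (nat_lit 2)))))))))), .mul (.inv (.mul (.lt (nat_lit 1)) (.mul (.lt (nat_lit 2)) (.mul (.lt (nat_lit 0)) (.mul (.lt (nat_lit 0)) (.mul (.lt (nat_lit 0)) (.mul (.lt (nat_lit 2)) (.mul (.lt (nat_lit 0)) (.mul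 (.lt (nat_lit 1)) (.lt (nat_lit 0))))))))))) (.mul (.lt (nat_lit 0)) (.mul (.lt (nat_lit 0)) (.mul (.lt (nat_lit 0)) (.mul (.lt (nat_lit 2)) (.mul (.lt (nat_lit 0)) (.mul (.lt (nat_lit 2)) (.mul (.lt (nat_lit 0)) (.mul (.lt (nat_lit 2)) (.mul (.lt (nat_lit 0)) (.lt (nat_lit 1)))))))))))]

/-- a level of a chain -/
noncomputable def tblv38x1 : TT := .leaf (nat_lit 0x50300004b0000fe05020000260000fb04000000430000fa04030000130000f903030000360000f8060100002d0000f602000000540000f404000000030000f305020000310000ef050300002a0000ee04030000090000ed040100004d0000e9050100001b0000e505030000060000e104030000490000e004030000110000df030100006c0000de050200005e0000db03000000050000d9020100002f0000d702020000370000d5040000007b0000d406030000610000d303010000790000d105030000420000d0030200006c0000cf02030000370000cc030000006b0000cb05020000140000c105000000230000c00502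00004c0000be04030000030000bd05010000330000bc040300007b0000bb05020000170000b8030300006c0000b7040300006d0000b504020000280000b2040000001c0000b0040100007b0000af060300005f0000ad040000004d0000ab06030000320000aa010100000c0000a805030000230000a705000000140000a6040200006f0000a5050300000a0000a404010000180000a3020300005400009d030300000500009c0400000016000097040000002800009304020000010000910302000005000090050100007000008e050000003300008d040100000300008c060100001f0000890303000020000088030200000800008604020000680000850301000036000083050200001a000081040300004300007e050100007400007b0401000049000077020000002f000076040000000100007504030000660000740500000010000072050100007d000070010000000c00006f020200005400006e040200000900006c050300003f00006b040300000100006a050300003100006904010000640000680402000002000067010300000c000065040100006d000061050100000600005c05010000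4f000055020300002f0000540401000001000053050100005a0000510301000065000050040100001100004f040100000b00004d050200001b00004c030100000500004b040300004100004a050000004200004905010000780000450201000054000041050100004b00003e040100001d00003d030300002b00003c030300006b00003a04030000160000390402000044000038040300001c0000360300000020000034040300000400002f030300000800002c030100002b00002a0401000016000029030000002b000028050100003b000027030200006b000025040100005c00001e040100002800001d040200004100001c050200002300001b000000000000001a03010000200000140403000064000013030100003c000012020100003700000e040300000200000d040100000200000a020200002f0000090300000065000006030100004e00000403010000080000030302000020000001050100004c000000)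
/-- a level of a chain -/
noncomputable def lv38x1 : Lvl where
  b := nat_lit 26
  n := nat_lit 128
  t := fun k => TT.fld tblv38x1 (nat_lit 64) (nat_lit 255) (nat_lit 18446744073709551615) k
  next := [.mul (.inv (.mul (.lt (nat_lit 1)) (.mul (.lt (nat_lit 0)) (.mul (.lt (nat_lit 3)) (.mul (.lt (nat_lit 1)) (.lt (nat_lit 0))))))) (.mul (.lt (nat_lit 3)) (.mul (.lt (nat_lit 3)) (.mul (.lt (nat_lit 0)) (.mul (.lt (nat_lit 3)) (.lt (nat_lit 0)))))), .mul (.inv (.mul (.lt (nat_lit 3)) (.mul (.lt (nat_lit 3)) (.mul (.lt (nat_lit 1)) (.mul (.lt (nat_lit 0)) (.mul (.lt (nat_lit 2)) (.lt (nat_lit 0)))))))) (.mul (.lt (nat_lit 1)) (.mul (.lt (nat_lit 1)) (.mul (.lt (nat_lit 1)) (.mul (.lt (nat_lit 0)) (.mul (.lt (nat_lit 1)) (.mul (.lt (nat_lit 3)) (.lt (nat_lit 0)))))))), .mul (.inv (.mul (.lt (nat_lit 3)) (.mul (.lt (nat_lit 3)) (.mul (.lt (nat_lit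 2)) (.mul (.lt (nat_lit 1)) (.lt (nat_lit 0))))))) (.mul (.lt (nat_lit 1)) (.mul (.lt (nat_lit 1)) (.mul (.lt (nat_lit 3)) (.mul (.lt (nat_lit 3)) (.lt (nat_lit 3)))))), .mul (.inv (.mul (.lt (nat_lit 3)) (.mul (.lt (nat_lit 0)) (.mul (.lt (nat_lit 2)) (.lt (nat_lit 3)))))) (.mul (.lt (nat_lit 0)) (.mul (.lt (nat_lit 1)) (.mul (.lt (nat_lit 1)) (.mul (.lt (nat_lit 3)) (.lt (nat_lit 1))))))]

/-- a level of a chain -/
noncomputable def tblv38x2 : TT := .leaf (nat_lit 0x20000000d0000bd01000000060000b802030000040000b502010000000000a4030000000e00009c020300000d000091030100000e000085020300000000007b0000000000000070020100000d000061010300000600004d030300000b000045030000000c000036030000000500001e0101000006000001)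
/-- a level of a chain -/
noncomputable def lv38x2 : Lvl where
  b := nat_lit 112
  n := nat_lit 15
  t := fun k => TT.fld tblv38x2 (nat_lit 64) (nat_lit 255) (nat_lit 18446744073709551615) k
  next := [.mul (.inv (.lt (nat_lit 0))) (.mul (.lt (nat_lit 1)) (.mul (.lt (nat_lit 3)) (.lt (nat_lit 0)))), .mul (.inv (.mul (.lt (nat_lit 3)) (.lt (nat_lit 1)))) (.mul (.lt (nat_lit 2)) (.mul (.lt (nat_lit 0)) (.lt (nat_lit 0)))), .mul (.inv (.mul (.lt (nat_lit 0)) (.mul (.lt (nat_lit 1)) (.lt (nat_lit 0))))) (.mul (.lt (nat_lit 2)) (.mul (.lt (nat_lit 1)) (.lt (nat_lit 0))))]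

/-- a level of a chain -/
noncomputable def tblv38x3 : TT := .leaf (nat_lit 0xbd010000000300009c01010000030000610102000003000045)
/-- a level of a chain -/
noncomputable def lv38x3 : Lvl where
  b := nat_lit 189
  n := nat_lit 4
  t := fun k => TT.fld tblv38x3 (nat_lit 64) (nat_lit 255) (nat_lit 18446744073709551615) k
  next := []

/-- a level of a chain -/
noncomputable def tblvSx0 : TT := .leaf (nat_lit 0x70300007c0000f5060400007a0000ed05040000770000e705050000760000e503040000750000e304040000730000df04050000710000dd04020000710000dc020500006f0000da05060000760000d7030500006a0000d503050000690000d403030000690000d301050000660000d101030000660000d003050000650000cf06070000740000cc04060000710000ca02050000600000c902030000600000c802010000600000c7020600006f0000c5020500005c0000c400000000000000c3020100005c0000c2050700006c0000bf030600006a0000be0306000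0690000bd03050000530000bc01000000660000bb03040000690000ba03070000680000b901060000660000b801020000660000b701040000660000b603060000650000b503040000650000b4050200004b0000b304070000630000b004070000620000af02060000600000ae040600005f0000ad02020000600000ac02040000600000ab020700005d0000aa020600005c0000a9020600005b0000a8020400005c0000a7040700005a0000a604060000590000a504030000590000a406060000580000a3050500005400009f030700005500009e050700005400009d030600005300009c030600005200009b030400005300009a030500004f0000990307000050000098030700004f000097030600004e000096030300004e000095050500004c000094050700004c000093050600004b000092090300002a000090070500004a00008f070700004a00008e060700004900008a04050000450000890407000046000088040700004500008704060000440000860403000044000085040700004300008404050000400000830407000040000082040600003f000081060700003e00007f060500003c0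0007e060700003c00007d0a0700003b00007b080400003a00007a080700003a00007907060000380000750507000037000074050500003400007305070000340000720506000033000071050600003200006f050700003100006e050500002f00006d050700002f00006c070400002d00006a070600002e000069070700002d0000680d0400000f0000650b0600002b000064090700002a0000630906000029000061060600002700005e060700002600005d060500002400005c060700002400005b060400002100005906060000220000580607000021000057080700001f000054080600001d0000520c0500001b0000500a0600001a00004f070400001600004c070600001700004b070700001600004a0707000014000047070600001200004509060000110000420b0500000e00003f080700000d00003d080600000b00003b080600000a0000380a050000080000340906000006000030090500000400002b0a05000002000025)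
/-- a level of a chain -/
noncomputable def lvSx0 : Lvl where
  b := nat_lit 195
  n := nat_lit 126
  t := fun k => TT.fld tblvSx0 (nat_lit 64) (nat_lit 255) (nat_lit 18446744073709551615) k
  next := [.mul (.inv (.mul (.lt (nat_lit 6)) (.mul (.lt (nat_lit 4)) (.mul (.lt (nat_lit 1)) (.lt (nat_lit 2)))))) (.mul (.lt (nat_lit 0)) (.mul (.lt (nat_lit 6)) (.mul (.lt (nat_lit 4)) (.mul (.lt (nat_lit 1)) (.lt (nat_lit 2)))))), .mul (.inv (.mul (.lt (nat_lit 6)) (.mul (.lt (nat_lit 1)) (.lt (nat_lit 2))))) (.mul (.lt (nat_lit 3)) (.mul (.lt (nat_lit 6)) (.mul (.lt (nat_lit 1)) (.lt (nat_lit 2))))), .mul (.inv (.mul (.lt (nat_lit 6)) (.mul (.lt (nat_lit 7)) (.mul (.lt (nat_lit 5)) (.mul (.lt (nat_lit 6)) (.mul (.lt (nat_lit 2)) (.mul (.lt (nat_lit 3)) (.mul (.lt (nat_lit 4)) (.mul (.lt (nat_lit 1)) (.lt (nat_lit 2))))))))))) (.mul (.lt (nat_lit 5))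 (.mul (.lt (nat_lit 6)) (.mul (.lt (nat_lit 7)) (.mul (.lt (nat_lit 5)) (.mul (.lt (nat_lit 6)) (.mul (.lt (nat_lit 2)) (.mul (.lt (nat_lit 3)) (.mul (.lt (nat_lit 4)) (.mul (.lt (nat_lit 1)) (.lt (nat_lit 2))))))))))), .mul (.inv (.mul (.lt (nat_lit 6)) (.mul (.lt (nat_lit 7)) (.mul (.lt (nat_lit 5)) (.mul (.lt (nat_lit 6)) (.mul (.lt (nat_lit 4)) (.mul (.lt (nat_lit 2)) (.lt (nat_lit 0))))))))) (.mul (.lt (nat_lit 7)) (.mul (.lt (nat_lit 6)) (.mul (.lt (nat_lit 7)) (.mul (.lt (nat_lit 5)) (.mul (.lt (nat_lit 6)) (.mul (.lt (nat_lit 4)) (.mul (.lt (nat_lit 2)) (.lt (nat_lit 0))))))))), .mul (.inv (.mul (.lt (nat_lit 7)) (.mul (.lt (nat_lit 5)) (.mul (.lt (nat_lit 6)) (.mul (.lt (nat_lit 4)) (.lt (nat_lit 0))))))) (.mul (.lt (nat_lit 3)) (.mul (.lt (nat_lit 7)) (.mul (.lt (nat_lit 5)) (.mul (.lt (nat_lit 6)) (.mul (.lt (nat_lit 4)) (.lt (nat_lit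 0))))))), .mul (.inv (.mul (.lt (nat_lit 6)) (.mul (.lt (nat_lit 2)) (.mul (.lt (nat_lit 3)) (.mul (.lt (nat_lit 4)) (.mul (.lt (nat_lit 1)) (.lt (nat_lit 2)))))))) (.mul (.lt (nat_lit 3)) (.mul (.lt (nat_lit 6)) (.mul (.lt (nat_lit 2)) (.mul (.lt (nat_lit 3)) (.mul (.lt (nat_lit 4)) (.mul (.lt (nat_lit 1)) (.lt (nat_lit 2)))))))), .mul (.inv (.mul (.lt (nat_lit 7)) (.mul (.lt (nat_lit 6)) (.mul (.lt (nat_lit 1)) (.lt (nat_lit 0)))))) (.mul (.lt (nat_lit 5)) (.mul (.lt (nat_lit 7)) (.mul (.lt (nat_lit 6)) (.mul (.lt (nat_lit 1)) (.lt (nat_lit 0))))))]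

/-- a level of a chain -/
noncomputable def tblvSx1 : TT := .leaf (nat_lit 0x4040000390000f503040000350000e703060000360000e504040000310000df020600002f0000da020100002d0000d7020600002d0000d4040400002c0000d3020600002a0000cf03020000360000cc03060000260000c905040000240000c801010000230000c501060000230000c401000000230000bd030600001f0000ba020200002f0000b901050000230000b5030600001b0000b404060000180000b3020200002d0000af020500002d0000ae06040000150000ac04060000160000ab00000000000000a9020400002f0000a802060000140000a7020500001d0000a6020300002d00009f030500002700009e0102000023000098030400002b00009702050000140000940205000013000092040100000a000090030100001b00008f030300002700008a030500001f000089050600000900008501030000230000830104000023000081030500000c00007f030500000b00007d050100000700007b04010000120000790405000017000074040600001c00006f020300001d00006e020400001d00006c030500000800006a040100001600005c0204000014000059040500000300005404060000110000520606000010000050050100000e00004a030400000c000047030600000b0000450506000007000034040600000300002b)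
/-- a level of a chain -/
noncomputable def lvSx1 : Lvl where
  b := nat_lit 169
  n := nat_lit 60
  t := fun k => TT.fld tblvSx1 (nat_lit 64) (nat_lit 255) (nat_lit 18446744073709551615) k
  next := [.mul (.inv (.mul (.lt (nat_lit 6)) (.mul (.lt (nat_lit 5)) (.lt (nat_lit 3))))) (.mul (.lt (nat_lit 4)) (.mul (.lt (nat_lit 6)) (.mul (.lt (nat_lit 5)) (.lt (nat_lit 3))))), .mul (.inv (.mul (.lt (nat_lit 3)) (.lt (nat_lit 0)))) (.mul (.lt (nat_lit 4)) (.mul (.lt (nat_lit 3)) (.lt (nat_lit 0)))), .mul (.inv (.mul (.lt (nat_lit 5)) (.mul (.lt (nat_lit 3)) (.lt (nat_lit 2))))) (.mul (.lt (nat_lit 6)) (.mul (.lt (nat_lit 5)) (.mul (.lt (nat_lit 3)) (.lt (nat_lit 2))))), .mul (.inv (.mul (.lt (nat_lit 5)) (.mul (.lt (nat_lit 4)) (.lt (nat_lit 2))))) (.mul (.lt (nat_lit 1)) (.mul (.lt (nat_lit 5)) (.mul (.lt (nat_lit 4)) (.lt (nat_lit 2))))), .mul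 (.inv (.mul (.lt (nat_lit 1)) (.mul (.lt (nat_lit 5)) (.lt (nat_lit 3))))) (.mul (.lt (nat_lit 5)) (.mul (.lt (nat_lit 1)) (.mul (.lt (nat_lit 5)) (.lt (nat_lit 3)))))]

/-- a level of a chain -/
noncomputable def tblvSx2 : TT := .leaf (nat_lit 0x2030000160000f5010000000f0000df03030000120000da010300000f0000d703040000170000d302010000160000cf040300000b0000b903040000120000b300000000000000ae02040000160000ac02030000090000a804040000150000a703020000120000a6020400001400009f010100000f0000920204000009000090040400000b000079030300000200006f050400001100006e010400000f00005c030400000d00005902020000090000520304000002000050040400000600002b)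
/-- a level of a chain -/
noncomputable def lvSx2 : Lvl where
  b := nat_lit 174
  n := nat_lit 24
  t := fun k => TT.fld tblvSx2 (nat_lit 64) (nat_lit 255) (nat_lit 18446744073709551615) k
  next := [.mul (.inv (.mul (.lt (nat_lit 3)) (.mul (.lt (nat_lit 2)) (.mul (.lt (nat_lit 1)) (.lt (nat_lit 0)))))) (.mul (.lt (nat_lit 1)) (.mul (.lt (nat_lit 3)) (.mul (.lt (nat_lit 2)) (.mul (.lt (nat_lit 1)) (.lt (nat_lit 0))))))]

/-- a level of a chain -/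
noncomputable def tblvSx3 : TT := .leaf (nat_lit 0x430100000001000020)
/-- a level of a chain -/
noncomputable def lvSx3 : Lvl where
  b := nat_lit 67
  n := nat_lit 2
  t := fun k => TT.fld tblvSx3 (nat_lit 64) (nat_lit 255) (nat_lit 18446744073709551615) k
  next := []

/-- the chains of the stabilisers -/
noncomputable def klsL : List (List Lvl) := [[lv0x0, lv0x1, lv0x2, lv0x3, lv0x4, lv0x5, lv0x6, lv0x7], [lv1x0, lv1x1, lv1x2, lv1x3, lv1x4], [lv2x0, lv2x1, lv2x2, lv2x3], [], [lv4x0, lv4x1, lv4x2], [lv5x0, lv5x1, lv5x2], [], [], [], [], [], [], [], [], [], [], [], [], [], [], [], [], [], [], [], [lv25x0, lv25x1, lv25x2, lv25x3], [], [], [], [], [], [], [lv32x0, lv32x1, lv32x2], [lv33x0, lv33x1], [lv34x0, lv34x1, lv34x2], [lv35x0, lv35x1, lv35x2, lv35x3], [lv36x0, lv36x1, lv36x2], [lv37x0, lv37x1, lv37x2], [lv38x0, lv38x1, lv38x2, lv38x3]]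

/-- the chain of the stabiliser of a name -/
noncomputable def kls (r : ℕ) : List Lvl := klsL.getD r []

/-- the chain of the stabiliser of the first letter -/
noncomputable def s9ls : List Lvl := [lvSx0, lvSx1, lvSx2, lvSx3]

/-- the first level of the chain -/
def next0 : List PE := [.lt (nat_lit 0), .lt (nat_lit 1), .lt (nat_lit 2), .lt (nat_lit 3), .lt (nat_lit 4), .lt (nat_lit 5), .lt (nat_lit 6), .lt (nat_lit 8)]

/-- a level of the chain -/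
noncomputable def tblvU0 : TT := .leaf (nat_lit 0x10600007e0000fc00000000000000f3010500007e0000eb020400007d0000e2030300007c0000d9040200007b0000cd040700007b0000cc06000000770000c6050100007a0000c0050700007a0000bf07070000780000b906070000770000b006030000760000af08030000750000aa0a0100006d0000a610040000690000a0070300007400009e070400007300009d090200007200009809040000720000970b040000710000930d0200006200008e0f0300005f00008b080500006e00008a080200006f000088080400006f0000870a0500006c0000840a0400006d0000820c0500006b00007f0c0300006b00007d100300005200007b0e0500006a0000790e0700006a00007710030000500000760906000068000075090500006600007409040000670000720b0600006500006f0b0500006400006e0b0300006400006c0d060000630000690d050000620000680d07000062000066130400004500006511060000610000640f040000600000630f060000600000610f07000060000060110300004200005f0a0600005c00005e0a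0500005b00005d0a0300005b00005b0c060000590000580c050000580000570c070000580000550e040000560000540e060000560000520e070000560000511205000053000050100600005200004f100700005200004e100700005100004d0b0600004d00004b0b0500004c00004a0b0700004c0000480d0400004a0000470d0600004a0000450d0700004a0000440f060000480000420f070000480000410f07000047000040110500004400003f110700004400003e0c0400004000003d0c0600004000003b0c0700004000003a0e0600003e0000380e0700003e0000370e0700003d000036100300003a000035100500003b000034100700003b00003312070000380000320d060000360000300d0700003600002f0d0700003500002e0f0300003200002c0f0500003300002b0f0700003300002a110300002e000029110700002f0000280e0300002b0000260e0500002c0000250e0700002c00002410020000290000231003000027000022100700002800002112030000250000200f0200002400001e0f0300002200001d0f0700002300001c110200002000001b110300001f00001a130400001e000019100100001d000018100200001c000017100300001b000016120200001900001512040000190000141101000016000013110200001500001211040000150000111304000014000010120100001100000f120400001100000e140300000f00000d130400000e00000c130300000d00000b150700000c00000a140300000b000009140700000a0000081502000008000007150700000800000616070000060000051703000004000004180400000300000319050000020000021a06000001000001)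
/-- a level of the chain -/
noncomputable def lvU0 : Lvl where
  b := nat_lit 243
  n := nat_lit 128
  t := fun k => TT.fld tblvU0 (nat_lit 64) (nat_lit 255) (nat_lit 18446744073709551615) k
  next := [.mul (.inv (.mul (.lt (nat_lit 7)) (.mul (.lt (nat_lit 3)) (.mul (.lt (nat_lit 4)) (.mul (.lt (nat_lit 2)) (.mul (.lt (nat_lit 3)) (.mul (.lt (nat_lit 7)) (.mul (.lt (nat_lit 0)) (.mul (.lt (nat_lit 1)) (.mul (.lt (nat_lit 2)) (.mul (.lt (nat_lit 3)) (.mul (.lt (nat_lit 4)) (.lt (nat_lit 5)))))))))))))) (.mul (.lt (nat_lit 6)) (.mul (.lt (nat_lit 7)) (.mul (.lt (nat_lit 3)) (.mul (.lt (nat_lit 4)) (.mul (.lt (nat_lit 2)) (.mul (.lt (nat_lit 3)) (.mul (.lt (nat_lit 7)) (.mul (.lt (nat_lit 0)) (.mul (.lt (nat_lit 1)) (.mul (.lt (nat_lit 2)) (.mul (.lt (nat_lit 3)) (.mul (.lt (nat_lit 4)) (.lt (nat_lit 5)))))))))))))), .mul (.inv (.mul (.lt (nat_lit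 1)) (.mul (.lt (nat_lit 2)) (.mul (.lt (nat_lit 3)) (.mul (.lt (nat_lit 7)) (.mul (.lt (nat_lit 4)) (.mul (.lt (nat_lit 5)) (.mul (.lt (nat_lit 3)) (.mul (.lt (nat_lit 4)) (.mul (.lt (nat_lit 2)) (.mul (.lt (nat_lit 3)) (.mul (.lt (nat_lit 7)) (.mul (.lt (nat_lit 1)) (.mul (.lt (nat_lit 2)) (.mul (.lt (nat_lit 3)) (.mul (.lt (nat_lit 4)) (.lt (nat_lit 5)))))))))))))))))) (.mul (.lt (nat_lit 7)) (.mul (.lt (nat_lit 1)) (.mul (.lt (nat_lit 2)) (.mul (.lt (nat_lit 3)) (.mul (.lt (nat_lit 7)) (.mul (.lt (nat_lit 4)) (.mul (.lt (nat_lit 5)) (.mul (.lt (nat_lit 3)) (.mul (.lt (nat_lit 4)) (.mul (.lt (nat_lit 2)) (.mul (.lt (nat_lit 3)) (.mul (.lt (nat_lit 7)) (.mul (.lt (nat_lit 1)) (.mul (.lt (nat_lit 2)) (.mul (.lt (nat_lit 3)) (.mul (.lt (nat_lit 4)) (.lt (nat_lit 5)))))))))))))))))), .mul (.inv (.mul (.lt (nat_lit 2)) (.mul (.lt (nat_lit 3))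 (.mul (.lt (nat_lit 4)) (.mul (.lt (nat_lit 1)) (.mul (.lt (nat_lit 2)) (.mul (.lt (nat_lit 3)) (.mul (.lt (nat_lit 7)) (.mul (.lt (nat_lit 0)) (.mul (.lt (nat_lit 1)) (.mul (.lt (nat_lit 2)) (.mul (.lt (nat_lit 3)) (.mul (.lt (nat_lit 4)) (.lt (nat_lit 5))))))))))))))) (.mul (.lt (nat_lit 3)) (.mul (.lt (nat_lit 2)) (.mul (.lt (nat_lit 3)) (.mul (.lt (nat_lit 4)) (.mul (.lt (nat_lit 1)) (.mul (.lt (nat_lit 2)) (.mul (.lt (nat_lit 3)) (.mul (.lt (nat_lit 7)) (.mul (.lt (nat_lit 0)) (.mul (.lt (nat_lit 1)) (.mul (.lt (nat_lit 2)) (.mul (.lt (nat_lit 3)) (.mul (.lt (nat_lit 4)) (.lt (nat_lit 5))))))))))))))), .mul (.inv (.mul (.lt (nat_lit 7)) (.mul (.lt (nat_lit 5)) (.mul (.lt (nat_lit 3)) (.mul (.lt (nat_lit 4)) (.mul (.lt (nat_lit 1)) (.mul (.lt (nat_lit 2)) (.mul (.lt (nat_lit 3)) (.mul (.lt (nat_lit 7)) (.mul (.lt (nat_lit 0)) (.mul (.lt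 (nat_lit 1)) (.mul (.lt (nat_lit 2)) (.mul (.lt (nat_lit 3)) (.mul (.lt (nat_lit 4)) (.lt (nat_lit 5)))))))))))))))) (.mul (.lt (nat_lit 0)) (.mul (.lt (nat_lit 7)) (.mul (.lt (nat_lit 5)) (.mul (.lt (nat_lit 3)) (.mul (.lt (nat_lit 4)) (.mul (.lt (nat_lit 1)) (.mul (.lt (nat_lit 2)) (.mul (.lt (nat_lit 3)) (.mul (.lt (nat_lit 7)) (.mul (.lt (nat_lit 0)) (.mul (.lt (nat_lit 1)) (.mul (.lt (nat_lit 2)) (.mul (.lt (nat_lit 3)) (.mul (.lt (nat_lit 4)) (.lt (nat_lit 5)))))))))))))))), .mul (.inv (.mul (.lt (nat_lit 7)) (.mul (.lt (nat_lit 5)) (.mul (.lt (nat_lit 3)) (.mul (.lt (nat_lit 4)) (.mul (.lt (nat_lit 2)) (.mul (.lt (nat_lit 3)) (.mul (.lt (nat_lit 7)) (.mul (.lt (nat_lit 1)) (.mul (.lt (nat_lit 2)) (.mul (.lt (nat_lit 3)) (.mul (.lt (nat_lit 4)) (.lt (nat_lit 5)))))))))))))) (.mul (.lt (nat_lit 2)) (.mul (.lt (nat_lit 7)) (.mul (.lt (nat_lit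 5)) (.mul (.lt (nat_lit 3)) (.mul (.lt (nat_lit 4)) (.mul (.lt (nat_lit 2)) (.mul (.lt (nat_lit 3)) (.mul (.lt (nat_lit 7)) (.mul (.lt (nat_lit 1)) (.mul (.lt (nat_lit 2)) (.mul (.lt (nat_lit 3)) (.mul (.lt (nat_lit 4)) (.lt (nat_lit 5)))))))))))))), .mul (.inv (.mul (.lt (nat_lit 4)) (.mul (.lt (nat_lit 2)) (.mul (.lt (nat_lit 3)) (.mul (.lt (nat_lit 7)) (.mul (.lt (nat_lit 5)) (.mul (.lt (nat_lit 6)) (.mul (.lt (nat_lit 4)) (.mul (.lt (nat_lit 5)) (.mul (.lt (nat_lit 3)) (.mul (.lt (nat_lit 4)) (.mul (.lt (nat_lit 2)) (.mul (.lt (nat_lit 3)) (.mul (.lt (nat_lit 7)) (.mul (.lt (nat_lit 0)) (.mul (.lt (nat_lit 1)) (.mul (.lt (nat_lit 2)) (.mul (.lt (nat_lit 3)) (.mul (.lt (nat_lit 4)) (.lt (nat_lit 5))))))))))))))))))))) (.mul (.lt (nat_lit 6)) (.mul (.lt (nat_lit 4)) (.mul (.lt (nat_lit 2)) (.mul (.lt (nat_lit 3)) (.mul (.lt (nat_lit 7)) (.mul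 (.lt (nat_lit 5)) (.mul (.lt (nat_lit 6)) (.mul (.lt (nat_lit 4)) (.mul (.lt (nat_lit 5)) (.mul (.lt (nat_lit 3)) (.mul (.lt (nat_lit 4)) (.mul (.lt (nat_lit 2)) (.mul (.lt (nat_lit 3)) (.mul (.lt (nat_lit 7)) (.mul (.lt (nat_lit 0)) (.mul (.lt (nat_lit 1)) (.mul (.lt (nat_lit 2)) (.mul (.lt (nat_lit 3)) (.mul (.lt (nat_lit 4)) (.lt (nat_lit 5))))))))))))))))))))), .mul (.inv (.mul (.lt (nat_lit 3)) (.mul (.lt (nat_lit 7)) (.mul (.lt (nat_lit 5)) (.mul (.lt (nat_lit 2)) (.mul (.lt (nat_lit 3)) (.mul (.lt (nat_lit 4)) (.mul (.lt (nat_lit 1)) (.mul (.lt (nat_lit 2)) (.mul (.lt (nat_lit 3)) (.mul (.lt (nat_lit 7)) (.mul (.lt (nat_lit 0)) (.mul (.lt (nat_lit 1)) (.mul (.lt (nat_lit 2)) (.mul (.lt (nat_lit 3)) (.mul (.lt (nat_lit 4)) (.lt (nat_lit 5)))))))))))))))))) (.mul (.lt (nat_lit 2)) (.mul (.lt (nat_lit 3)) (.mul (.lt (nat_lit 7)) (.mul (.lt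 (nat_lit 5)) (.mul (.lt (nat_lit 2)) (.mul (.lt (nat_lit 3)) (.mul (.lt (nat_lit 4)) (.mul (.lt (nat_lit 1)) (.mul (.lt (nat_lit 2)) (.mul (.lt (nat_lit 3)) (.mul (.lt (nat_lit 7)) (.mul (.lt (nat_lit 0)) (.mul (.lt (nat_lit 1)) (.mul (.lt (nat_lit 2)) (.mul (.lt (nat_lit 3)) (.mul (.lt (nat_lit 4)) (.lt (nat_lit 5))))))))))))))))))]

/-- a level of the chain -/
noncomputable def tblvU1 : TT := .leaf (nat_lit 0x20000003d0000fc010100003c0000eb00000000000000e2010400003c0000d9020600003b0000cd020300003b0000cc04020000370000c6030500003a0000c003060000390000bf05020000340000b904050000360000b004040000360000af060200002f0000aa080500002d0000a60e010000290000a0050500003300009e050100003300009d0706000032000098070200002700009709050000260000930b0600002500008e0d0400002400008b060600002f000088060500002e000087080600002c0000820a0500002000007d0c0600001e00007706000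0002e0000750706000027000072080200001a00006f090400002600006c0a050000180000690b050000170000660e040000150000640c060000160000610e0400001400005f070500002300005e080400002200005b09060000210000580a030000200000550b050000110000520d0600001000004f0d0600000f00004d080600001a00004b09030000190000480a040000180000450c0500000c0000420c0500000b0000400e0600000a00003e090400001300003b0b010000110000380b030000110000360d050000070000330a0100000d0000300a0300000d00002e0c0300000c00002a0e050000040000290b030000090000240d040000070000220c0400000500001d0e0600000400001b0d060000030000170e05000001000013)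
/-- a level of the chain -/
noncomputable def lvU1 : Lvl where
  b := nat_lit 226
  n := nat_lit 63
  t := fun k => TT.fld tblvU1 (nat_lit 64) (nat_lit 255) (nat_lit 18446744073709551615) k
  next := [.mul (.inv (.mul (.lt (nat_lit 5)) (.mul (.lt (nat_lit 6)) (.mul (.lt (nat_lit 2)) (.mul (.lt (nat_lit 5)) (.mul (.lt (nat_lit 4)) (.mul (.lt (nat_lit 6)) (.mul (.lt (nat_lit 3)) (.lt (nat_lit 4)))))))))) (.mul (.lt (nat_lit 2)) (.mul (.lt (nat_lit 5)) (.mul (.lt (nat_lit 6)) (.mul (.lt (nat_lit 2)) (.mul (.lt (nat_lit 5)) (.mul (.lt (nat_lit 4)) (.mul (.lt (nat_lit 6)) (.mul (.lt (nat_lit 3)) (.lt (nat_lit 4)))))))))), .mul (.inv (.mul (.lt (nat_lit 3)) (.mul (.lt (nat_lit 4)) (.mul (.lt (nat_lit 6)) (.mul (.lt (nat_lit 5)) (.mul (.lt (nat_lit 1)) (.mul (.lt (nat_lit 4)) (.mul (.lt (nat_lit 6)) (.mul (.lt (nat_lit 3)) (.lt (nat_lit 4)))))))))))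 (.mul (.lt (nat_lit 4)) (.mul (.lt (nat_lit 3)) (.mul (.lt (nat_lit 4)) (.mul (.lt (nat_lit 6)) (.mul (.lt (nat_lit 5)) (.mul (.lt (nat_lit 1)) (.mul (.lt (nat_lit 4)) (.mul (.lt (nat_lit 6)) (.mul (.lt (nat_lit 3)) (.lt (nat_lit 4))))))))))), .mul (.inv (.mul (.lt (nat_lit 6)) (.mul (.lt (nat_lit 3)) (.lt (nat_lit 4))))) (.mul (.lt (nat_lit 0)) (.mul (.lt (nat_lit 6)) (.mul (.lt (nat_lit 3)) (.lt (nat_lit 4))))), .mul (.inv (.mul (.lt (nat_lit 0)) (.lt (nat_lit 1)))) (.mul (.lt (nat_lit 2)) (.mul (.lt (nat_lit 0)) (.lt (nat_lit 1)))), .mul (.inv (.mul (.lt (nat_lit 5)) (.mul (.lt (nat_lit 4)) (.mul (.lt (nat_lit 6)) (.mul (.lt (nat_lit 2)) (.mul (.lt (nat_lit 5)) (.mul (.lt (nat_lit 1)) (.mul (.lt (nat_lit 4)) (.mul (.lt (nat_lit 6)) (.mul (.lt (nat_lit 3)) (.lt (nat_lit 4)))))))))))) (.mul (.lt (nat_lit 1)) (.mul (.lt (nat_lit 5)) (.mul (.lt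 (nat_lit 4)) (.mul (.lt (nat_lit 6)) (.mul (.lt (nat_lit 2)) (.mul (.lt (nat_lit 5)) (.mul (.lt (nat_lit 1)) (.mul (.lt (nat_lit 4)) (.mul (.lt (nat_lit 6)) (.mul (.lt (nat_lit 3)) (.lt (nat_lit 4)))))))))))), .mul (.inv (.mul (.lt (nat_lit 3)) (.mul (.lt (nat_lit 4)) (.mul (.lt (nat_lit 6)) (.mul (.lt (nat_lit 5)) (.mul (.lt (nat_lit 0)) (.mul (.lt (nat_lit 1)) (.mul (.lt (nat_lit 4)) (.mul (.lt (nat_lit 6)) (.mul (.lt (nat_lit 3)) (.lt (nat_lit 4)))))))))))) (.mul (.lt (nat_lit 6)) (.mul (.lt (nat_lit 3)) (.mul (.lt (nat_lit 4)) (.mul (.lt (nat_lit 6)) (.mul (.lt (nat_lit 5)) (.mul (.lt (nat_lit 0)) (.mul (.lt (nat_lit 1)) (.mul (.lt (nat_lit 4)) (.mul (.lt (nat_lit 6)) (.mul (.lt (nat_lit 3)) (.lt (nat_lit 4)))))))))))), .mul (.inv (.mul (.lt (nat_lit 4)) (.mul (.lt (nat_lit 6)) (.mul (.lt (nat_lit 5)) (.mul (.lt (nat_lit 3)) (.mul (.lt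 (nat_lit 4)) (.mul (.lt (nat_lit 6)) (.mul (.lt (nat_lit 2)) (.mul (.lt (nat_lit 5)) (.mul (.lt (nat_lit 0)) (.mul (.lt (nat_lit 1)) (.mul (.lt (nat_lit 4)) (.mul (.lt (nat_lit 6)) (.mul (.lt (nat_lit 3)) (.lt (nat_lit 4)))))))))))))))) (.mul (.lt (nat_lit 1)) (.mul (.lt (nat_lit 4)) (.mul (.lt (nat_lit 6)) (.mul (.lt (nat_lit 5)) (.mul (.lt (nat_lit 3)) (.mul (.lt (nat_lit 4)) (.mul (.lt (nat_lit 6)) (.mul (.lt (nat_lit 2)) (.mul (.lt (nat_lit 5)) (.mul (.lt (nat_lit 0)) (.mul (.lt (nat_lit 1)) (.mul (.lt (nat_lit 4)) (.mul (.lt (nat_lit 6)) (.mul (.lt (nat_lit 3)) (.lt (nat_lit 4))))))))))))))))]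

/-- a level of the chain -/
noncomputable def tblvU2 : TT := .leaf (nat_lit 0x60200001e0000fc050500001d0000eb040100001c0000d903000000180000cd03010000180000cc03000000170000c602000000160000c002050000150000bf02050000140000b901050000110000b0010400001100009d01030000110000970304000010000093070600001f00008b0000000000000087020300000e000082020400000a0000750101000011000072020600000e00006f0206000015000069060600001e00005f010200001100005e0106000011000058040600001b00004f020200000e00004b0306000018000042050600001d00003e0206000016000038040600001c0000330305000007000030030600001900002a0400000002000024)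
/-- a level of the chain -/
noncomputable def lvU2 : Lvl where
  b := nat_lit 135
  n := nat_lit 32
  t := fun k => TT.fld tblvU2 (nat_lit 64) (nat_lit 255) (nat_lit 18446744073709551615) k
  next := [.mul (.inv (.mul (.lt (nat_lit 3)) (.lt (nat_lit 1)))) (.mul (.lt (nat_lit 5)) (.mul (.lt (nat_lit 3)) (.lt (nat_lit 1)))), .mul (.inv (.mul (.lt (nat_lit 6)) (.lt (nat_lit 1)))) (.mul (.lt (nat_lit 2)) (.lt (nat_lit 3))), .mul (.inv (.mul (.lt (nat_lit 4)) (.lt (nat_lit 2)))) (.mul (.lt (nat_lit 1)) (.mul (.lt (nat_lit 4)) (.lt (nat_lit 2)))), .mul (.inv (.mul (.lt (nat_lit 0)) (.lt (nat_lit 5)))) (.mul (.lt (nat_lit 5)) (.mul (.lt (nat_lit 0)) (.lt (nat_lit 5)))), .mul (.inv (.mul (.lt (nat_lit 2)) (.mul (.lt (nat_lit 5)) (.mul (.lt (nat_lit 1)) (.mul (.lt (nat_lit 0)) (.mul (.lt (nat_lit 5)) (.lt (nat_lit 4)))))))) (.mul (.lt (nat_lit 3)) (.mul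 (.lt (nat_lit 2)) (.mul (.lt (nat_lit 5)) (.mul (.lt (nat_lit 1)) (.mul (.lt (nat_lit 0)) (.mul (.lt (nat_lit 5)) (.lt (nat_lit 4)))))))), .mul (.inv (.lt (nat_lit 2))) (.mul (.lt (nat_lit 5)) (.lt (nat_lit 2)))]

/-- a level of the chain -/
noncomputable def tblvU3 : TT := .leaf (nat_lit 0x40000000d0000f8030300000b0000de040300000a0000db02050000070000d303050000060000d004050000020000b204050000010000a7010200000300009f02040000070000990104000003000094020000000500007a0000000000000073030300000400006203000000060000590403000001000046)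
/-- a level of the chain -/
noncomputable def lvU3 : Lvl where
  b := nat_lit 115
  n := nat_lit 15
  t := fun k => TT.fld tblvU3 (nat_lit 64) (nat_lit 255) (nat_lit 18446744073709551615) k
  next := [.mul (.inv (.mul (.lt (nat_lit 4)) (.lt (nat_lit 2)))) (.mul (.lt (nat_lit 3)) (.mul (.lt (nat_lit 4)) (.lt (nat_lit 2)))), .mul (.inv (.mul (.lt (nat_lit 3)) (.mul (.lt (nat_lit 0)) (.mul (.lt (nat_lit 4)) (.lt (nat_lit 2)))))) (.mul (.lt (nat_lit 4)) (.mul (.lt (nat_lit 3)) (.mul (.lt (nat_lit 0)) (.mul (.lt (nat_lit 4)) (.lt (nat_lit 2)))))), .mul (.inv (.mul (.lt (nat_lit 3)) (.mul (.lt (nat_lit 5)) (.mul (.lt (nat_lit 4)) (.lt (nat_lit 2)))))) (.mul (.lt (nat_lit 2)) (.mul (.lt (nat_lit 3)) (.mul (.lt (nat_lit 5)) (.mul (.lt (nat_lit 4)) (.lt (nat_lit 2)))))), .mul (.inv (.mul (.lt (nat_lit 5)) (.mul (.lt (nat_lit 3)) (.mul (.lt (nat_lit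 0)) (.lt (nat_lit 4)))))) (.mul (.lt (nat_lit 2)) (.mul (.lt (nat_lit 5)) (.mul (.lt (nat_lit 3)) (.mul (.lt (nat_lit 0)) (.lt (nat_lit 4)))))), .mul (.inv (.mul (.lt (nat_lit 3)) (.mul (.lt (nat_lit 0)) (.lt (nat_lit 4))))) (.mul (.lt (nat_lit 1)) (.mul (.lt (nat_lit 3)) (.mul (.lt (nat_lit 5)) (.lt (nat_lit 2)))))]

/-- a level of the chain -/
noncomputable def tblvU4 : TT := .leaf (nat_lit 0x1000000060000790000000000000060020200000700005001010000060000350204000004000018010400000600000901030000060000060203000004000003)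
/-- a level of the chain -/
noncomputable def lvU4 : Lvl where
  b := nat_lit 96
  n := nat_lit 8
  t := fun k => TT.fld tblvU4 (nat_lit 64) (nat_lit 255) (nat_lit 18446744073709551615) k
  next := [.mul (.inv (.lt (nat_lit 4))) (.mul (.lt (nat_lit 1)) (.lt (nat_lit 4))), .mul (.inv (.mul (.lt (nat_lit 3)) (.lt (nat_lit 1)))) (.mul (.lt (nat_lit 0)) (.mul (.lt (nat_lit 3)) (.lt (nat_lit 1)))), .mul (.inv (.mul (.lt (nat_lit 2)) (.lt (nat_lit 0)))) (.mul (.lt (nat_lit 3)) (.mul (.lt (nat_lit 4)) (.lt (nat_lit 1))))]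

/-- a level of the chain -/
noncomputable def tblvU5 : TT := .leaf (nat_lit 0x10100000000006501020000000000630000000000000028)
/-- a level of the chain -/
noncomputable def lvU5 : Lvl where
  b := nat_lit 40
  n := nat_lit 3
  t := fun k => TT.fld tblvU5 (nat_lit 64) (nat_lit 255) (nat_lit 18446744073709551615) k
  next := [.mul (.inv (.one)) (.mul (.lt (nat_lit 0)) (.one))]

/-- a level of the chain -/
noncomputable def tblvU6 : TT := .leaf (nat_lit 0x1000000000000f600000000000000ea)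
/-- a level of the chain -/
noncomputable def lvU6 : Lvl where
  b := nat_lit 234
  n := nat_lit 2
  t := fun k => TT.fld tblvU6 (nat_lit 64) (nat_lit 255) (nat_lit 18446744073709551615) k
  next := []

/-- the chain -/
noncomputable def ls : List Lvl := [lvU0, lvU1, lvU2, lvU3, lvU4, lvU5, lvU6]

end Cfsg.Agent.Lib.Compute.TC.FqDC
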