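-- Checks of FqDC.
import Cfsg.Agent.Lib.Compute.TC.FqDC.Data
import Cfsg.Agent.Lib.Compute.TCSplit
import Cfsg.Agent.Lib.Compute.TC.FqU0.Data
set_option autoImplicit false
set_option maxRecDepth 1000000

set_option Elab.async false

open Cfsg.Agent.Lib.Compute.ToddCoxeterCore Cfsg.Agent.Lib.Compute.ToddCoxeterPresented Cfsg.Agent.Lib.Compute.TCFast Cfsg.Agent.Lib.Compute.TCChain Cfsg.Agent.Lib.Compute.DCoset Cfsg.Agent.Lib.Compute.BlockAct Cfsg.Agent.Lib.Compute.TCSplit

namespace Cfsg.Agent.Lib.Compute.TC.FqDC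

theorem cl8m1x0 : allFrom (fun a => d.la [nat_lit 8] a (T (nat_lit 8) a)) (nat_lit 10000) (nat_lit 80000) = true := by decide +kernel
theorem cl8m1x1 : allFrom (fun a => d.la [nat_lit 8] a (T (nat_lit 8) a)) (nat_lit 10000) (nat_lit 90000) = true := by decide +kernel
theorem cl8m1x2 : allFrom (fun a => d.la [nat_lit 8] a (T (nat_lit 8) a)) (nat_lit 10000) (nat_lit 100000) = true := by decide +kernel
theorem cl8m1x3 : allFrom (fun a => d.la [nat_lit 8] a (T (nat_lit 8) a)) (nat_lit 10000) (nat_lit 110000) = true := by decide +kernel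
theorem cl8m1x4 : allFrom (fun a => d.la [nat_lit 8] a (T (nat_lit 8) a)) (nat_lit 10000) (nat_lit 120000) = true := by decide +kernel
theorem cl8m1x5 : allFrom (fun a => d.la [nat_lit 8] a (T (nat_lit 8) a)) (nat_lit 560) (nat_lit 130000) = true := by decide +kernel
theorem cl8m1c1 : allFrom (fun a => d.la [nat_lit 8] a (T (nat_lit 8) a)) (nat_lit 20000) (nat_lit 80000) = true := join cl8m1x0 cl8m1x1 rfl rfl
theorem cl8m1c2 : allFrom (fun a => d.la [nat_lit 8] a (T (nat_lit 8) a)) (nat_lit 30000) (nat_lit 80000) = true := join cl8m1c1 cl8m1x2 rfl rfl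
theorem cl8m1c3 : allFrom (fun a => d.la [nat_lit 8] a (T (nat_lit 8) a)) (nat_lit 40000) (nat_lit 80000) = true := join cl8m1c2 cl8m1x3 rfl rfl
theorem cl8m1c4 : allFrom (fun a => d.la [nat_lit 8] a (T (nat_lit 8) a)) (nat_lit 50000) (nat_lit 80000) = true := join cl8m1c3 cl8m1x4 rfl rfl
theorem cl8m1 : allFrom (fun a => d.la [nat_lit 8] a (T (nat_lit 8) a)) (nat_lit 50560) (nat_lit 80000) = true := join cl8m1c4 cl8m1x5 rfl rfl

end Cfsg.Agent.Lib.Compute.TC.FqDC
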