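-- Checks of FqDC.
import Cfsg.Agent.Lib.Compute.TC.FqDC.Data
import Cfsg.Agent.Lib.Compute.TCSplit
import Cfsg.Agent.Lib.Compute.TC.FqU0.Data
set_option autoImplicit false
set_option maxRecDepth 1000000

set_option Elab.async false

open Cfsg.Agent.Lib.Compute.ToddCoxeterCore Cfsg.Agent.Lib.Compute.ToddCoxeterPresented Cfsg.Agent.Lib.Compute.TCFast Cfsg.Agent.Lib.Compute.TCChain Cfsg.Agent.Lib.Compute.DCoset Cfsg.Agent.Lib.Compute.BlockAct Cfsg.Agent.Lib.Compute.TCSplit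

namespace Cfsg.Agent.Lib.Compute.TC.FqDC

theorem cov3xm0x0 : allFrom (d.cov2 NF Lv (TrF (nat_lit 3)) (nat_lit 4)) (nat_lit 15000) (nat_lit 0) = true := by decide +kernel
theorem cov3xm0x1 : allFrom (d.cov2 NF Lv (TrF (nat_lit 3)) (nat_lit 4)) (nat_lit 15000) (nat_lit 15000) = true := by decide +kernel
theorem cov3xm0x2 : allFrom (d.cov2 NF Lv (TrF (nat_lit 3)) (nat_lit 4)) (nat_lit 15000) (nat_lit 30000) = true := by decide +kernel
theorem cov3xm0x3 : allFrom (d.cov2 NF Lv (TrF (nat_lit 3)) (nat_lit 4)) (nat_lit 15000) (nat_lit 45000) = true := by decide +kernel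
theorem cov3xm0x4 : allFrom (d.cov2 NF Lv (TrF (nat_lit 3)) (nat_lit 4)) (nat_lit 15000) (nat_lit 60000) = true := by decide +kernel
theorem cov3xm0x5 : allFrom (d.cov2 NF Lv (TrF (nat_lit 3)) (nat_lit 4)) (nat_lit 15000) (nat_lit 75000) = true := by decide +kernel
theorem cov3xm0c1 : allFrom (d.cov2 NF Lv (TrF (nat_lit 3)) (nat_lit 4)) (nat_lit 30000) (nat_lit 0) = true := join cov3xm0x0 cov3xm0x1 rfl rfl
theorem cov3xm0c2 : allFrom (d.cov2 NF Lv (TrF (nat_lit 3)) (nat_lit 4)) (nat_lit 45000) (nat_lit 0) = true := join cov3xm0c1 cov3xm0x2 rfl rfl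
theorem cov3xm0c3 : allFrom (d.cov2 NF Lv (TrF (nat_lit 3)) (nat_lit 4)) (nat_lit 60000) (nat_lit 0) = true := join cov3xm0c2 cov3xm0x3 rfl rfl
theorem cov3xm0c4 : allFrom (d.cov2 NF Lv (TrF (nat_lit 3)) (nat_lit 4)) (nat_lit 75000) (nat_lit 0) = true := join cov3xm0c3 cov3xm0x4 rfl rfl
theorem cov3xm0 : allFrom (d.cov2 NF Lv (TrF (nat_lit 3)) (nat_lit 4)) (nat_lit 90000) (nat_lit 0) = true := join cov3xm0c4 cov3xm0x5 rfl rfl

end Cfsg.Agent.Lib.Compute.TC.FqDC
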