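-- Checks of FqDC.
import Cfsg.Agent.Lib.Compute.TC.FqDC.Data
import Cfsg.Agent.Lib.Compute.TCSplit
import Cfsg.Agent.Lib.Compute.TC.FqU0.Data
set_option autoImplicit false
set_option maxRecDepth 1000000

set_option Elab.async false

open Cfsg.Agent.Lib.Compute.ToddCoxeterCore Cfsg.Agent.Lib.Compute.ToddCoxeterPresented Cfsg.Agent.Lib.Compute.TCFast Cfsg.Agent.Lib.Compute.TCChain Cfsg.Agent.Lib.Compute.DCoset Cfsg.Agent.Lib.Compute.BlockAct Cfsg.Agent.Lib.Compute.TCSplit

namespace Cfsg.Agent.Lib.Compute.TC.FqDC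

theorem fctm0x0 : allFrom d.chk (nat_lit 100) (nat_lit 0) = true := by decide +kernel
theorem fctm0x1 : allFrom d.chk (nat_lit 100) (nat_lit 100) = true := by decide +kernel
theorem fctm0x2 : allFrom d.chk (nat_lit 100) (nat_lit 200) = true := by decide +kernel
theorem fctm0x3 : allFrom d.chk (nat_lit 100) (nat_lit 300) = true := by decide +kernel
theorem fctm0x4 : allFrom d.chk (nat_lit 100) (nat_lit 400) = true := by decide +kernel
theorem fctm0x5 : allFrom d.chk (nat_lit 100) (nat_lit 500) = true := by decide +kernel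
theorem fctm0x6 : allFrom d.chk (nat_lit 100) (nat_lit 600) = true := by decide +kernel
theorem fctm0x7 : allFrom d.chk (nat_lit 100) (nat_lit 700) = true := by decide +kernel
theorem fctm0x8 : allFrom d.chk (nat_lit 100) (nat_lit 800) = true := by decide +kernel
theorem fctm0x9 : allFrom d.chk (nat_lit 100) (nat_lit 900) = true := by decide +kernel
theorem fctm0c1 : allFrom d.chk (nat_lit 200) (nat_lit 0) = true := join fctm0x0 fctm0x1 rfl rfl
theorem fctm0c2 : allFrom d.chk (nat_lit 300) (nat_lit 0) = true := join fctm0c1 fctm0x2 rfl rfl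
theorem fctm0c3 : allFrom d.chk (nat_lit 400) (nat_lit 0) = true := join fctm0c2 fctm0x3 rfl rfl
theorem fctm0c4 : allFrom d.chk (nat_lit 500) (nat_lit 0) = true := join fctm0c3 fctm0x4 rfl rfl
theorem fctm0c5 : allFrom d.chk (nat_lit 600) (nat_lit 0) = true := join fctm0c4 fctm0x5 rfl rfl
theorem fctm0c6 : allFrom d.chk (nat_lit 700) (nat_lit 0) = true := join fctm0c5 fctm0x6 rfl rfl
theorem fctm0c7 : allFrom d.chk (nat_lit 800) (nat_lit 0) = true := join fctm0c6 fctm0x7 rfl rfl
theorem fctm0c8 : allFrom d.chk (nat_lit 900) (nat_lit 0) = true := join fctm0c7 fctm0x8 rfl rfl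
theorem fctm0 : allFrom d.chk (nat_lit 1000) (nat_lit 0) = true := join fctm0c8 fctm0x9 rfl rfl

end Cfsg.Agent.Lib.Compute.TC.FqDC
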