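-- Checks of FqDC.
import Cfsg.Agent.Lib.Compute.TC.FqDC.Data
import Cfsg.Agent.Lib.Compute.TCSplit
import Cfsg.Agent.Lib.Compute.TC.FqU0.Data
set_option autoImplicit false
set_option maxRecDepth 1000000

set_option Elab.async false

open Cfsg.Agent.Lib.Compute.ToddCoxeterCore Cfsg.Agent.Lib.Compute.ToddCoxeterPresented Cfsg.Agent.Lib.Compute.TCFast Cfsg.Agent.Lib.Compute.TCChain Cfsg.Agent.Lib.Compute.DCoset Cfsg.Agent.Lib.Compute.BlockAct Cfsg.Agent.Lib.Compute.TCSplit

namespace Cfsg.Agent.Lib.Compute.TC.FqDC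

theorem fctm1x0 : allFrom d.chk (nat_lit 100) (nat_lit 1000) = true := by decide +kernel
theorem fctm1x1 : allFrom d.chk (nat_lit 100) (nat_lit 1100) = true := by decide +kernel
theorem fctm1x2 : allFrom d.chk (nat_lit 100) (nat_lit 1200) = true := by decide +kernel
theorem fctm1x3 : allFrom d.chk (nat_lit 100) (nat_lit 1300) = true := by decide +kernel
theorem fctm1x4 : allFrom d.chk (nat_lit 100) (nat_lit 1400) = true := by decide +kernel
theorem fctm1x5 : allFrom d.chk (nat_lit 100) (nat_lit 1500) = true := by decide +kernel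
theorem fctm1x6 : allFrom d.chk (nat_lit 100) (nat_lit 1600) = true := by decide +kernel
theorem fctm1x7 : allFrom d.chk (nat_lit 100) (nat_lit 1700) = true := by decide +kernel
theorem fctm1x8 : allFrom d.chk (nat_lit 100) (nat_lit 1800) = true := by decide +kernel
theorem fctm1x9 : allFrom d.chk (nat_lit 100) (nat_lit 1900) = true := by decide +kernel
theorem fctm1c1 : allFrom d.chk (nat_lit 200) (nat_lit 1000) = true := join fctm1x0 fctm1x1 rfl rfl
theorem fctm1c2 : allFrom d.chk (nat_lit 300) (nat_lit 1000) = true := join fctm1c1 fctm1x2 rfl rfl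
theorem fctm1c3 : allFrom d.chk (nat_lit 400) (nat_lit 1000) = true := join fctm1c2 fctm1x3 rfl rfl
theorem fctm1c4 : allFrom d.chk (nat_lit 500) (nat_lit 1000) = true := join fctm1c3 fctm1x4 rfl rfl
theorem fctm1c5 : allFrom d.chk (nat_lit 600) (nat_lit 1000) = true := join fctm1c4 fctm1x5 rfl rfl
theorem fctm1c6 : allFrom d.chk (nat_lit 700) (nat_lit 1000) = true := join fctm1c5 fctm1x6 rfl rfl
theorem fctm1c7 : allFrom d.chk (nat_lit 800) (nat_lit 1000) = true := join fctm1c6 fctm1x7 rfl rfl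
theorem fctm1c8 : allFrom d.chk (nat_lit 900) (nat_lit 1000) = true := join fctm1c7 fctm1x8 rfl rfl
theorem fctm1 : allFrom d.chk (nat_lit 1000) (nat_lit 1000) = true := join fctm1c8 fctm1x9 rfl rfl

end Cfsg.Agent.Lib.Compute.TC.FqDC
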