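-- Checks of FqDC.
import Cfsg.Agent.Lib.Compute.TC.FqDC.Data
import Cfsg.Agent.Lib.Compute.TCSplit
import Cfsg.Agent.Lib.Compute.TC.FqU0.Data
set_option autoImplicit false
set_option maxRecDepth 1000000

set_option Elab.async false

open Cfsg.Agent.Lib.Compute.ToddCoxeterCore Cfsg.Agent.Lib.Compute.ToddCoxeterPresented Cfsg.Agent.Lib.Compute.TCFast Cfsg.Agent.Lib.Compute.TCChain Cfsg.Agent.Lib.Compute.DCoset Cfsg.Agent.Lib.Compute.BlockAct Cfsg.Agent.Lib.Compute.TCSplit

namespace Cfsg.Agent.Lib.Compute.TC.FqDC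

theorem fctm2x0 : allFrom d.chk (nat_lit 100) (nat_lit 2000) = true := by decide +kernel
theorem fctm2x1 : allFrom d.chk (nat_lit 100) (nat_lit 2100) = true := by decide +kernel
theorem fctm2x2 : allFrom d.chk (nat_lit 100) (nat_lit 2200) = true := by decide +kernel
theorem fctm2x3 : allFrom d.chk (nat_lit 100) (nat_lit 2300) = true := by decide +kernel
theorem fctm2x4 : allFrom d.chk (nat_lit 100) (nat_lit 2400) = true := by decide +kernel
theorem fctm2x5 : allFrom d.chk (nat_lit 100) (nat_lit 2500) = true := by decide +kernel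
theorem fctm2x6 : allFrom d.chk (nat_lit 100) (nat_lit 2600) = true := by decide +kernel
theorem fctm2x7 : allFrom d.chk (nat_lit 100) (nat_lit 2700) = true := by decide +kernel
theorem fctm2x8 : allFrom d.chk (nat_lit 100) (nat_lit 2800) = true := by decide +kernel
theorem fctm2x9 : allFrom d.chk (nat_lit 100) (nat_lit 2900) = true := by decide +kernel
theorem fctm2c1 : allFrom d.chk (nat_lit 200) (nat_lit 2000) = true := join fctm2x0 fctm2x1 rfl rfl
theorem fctm2c2 : allFrom d.chk (nat_lit 300) (nat_lit 2000) = true := join fctm2c1 fctm2x2 rfl rfl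
theorem fctm2c3 : allFrom d.chk (nat_lit 400) (nat_lit 2000) = true := join fctm2c2 fctm2x3 rfl rfl
theorem fctm2c4 : allFrom d.chk (nat_lit 500) (nat_lit 2000) = true := join fctm2c3 fctm2x4 rfl rfl
theorem fctm2c5 : allFrom d.chk (nat_lit 600) (nat_lit 2000) = true := join fctm2c4 fctm2x5 rfl rfl
theorem fctm2c6 : allFrom d.chk (nat_lit 700) (nat_lit 2000) = true := join fctm2c5 fctm2x6 rfl rfl
theorem fctm2c7 : allFrom d.chk (nat_lit 800) (nat_lit 2000) = true := join fctm2c6 fctm2x7 rfl rfl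
theorem fctm2c8 : allFrom d.chk (nat_lit 900) (nat_lit 2000) = true := join fctm2c7 fctm2x8 rfl rfl
theorem fctm2 : allFrom d.chk (nat_lit 1000) (nat_lit 2000) = true := join fctm2c8 fctm2x9 rfl rfl

end Cfsg.Agent.Lib.Compute.TC.FqDC
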