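-- Checks of FqDC.
import Cfsg.Agent.Lib.Compute.TC.FqDC.Data
import Cfsg.Agent.Lib.Compute.TCSplit
import Cfsg.Agent.Lib.Compute.TC.FqU0.Data
set_option autoImplicit false
set_option maxRecDepth 1000000

set_option Elab.async false

open Cfsg.Agent.Lib.Compute.ToddCoxeterCore Cfsg.Agent.Lib.Compute.ToddCoxeterPresented Cfsg.Agent.Lib.Compute.TCFast Cfsg.Agent.Lib.Compute.TCChain Cfsg.Agent.Lib.Compute.DCoset Cfsg.Agent.Lib.Compute.BlockAct Cfsg.Agent.Lib.Compute.TCSplit

namespace Cfsg.Agent.Lib.Compute.TC.FqDC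

theorem fctm3x0 : allFrom d.chk (nat_lit 100) (nat_lit 3000) = true := by decide +kernel
theorem fctm3x1 : allFrom d.chk (nat_lit 100) (nat_lit 3100) = true := by decide +kernel
theorem fctm3x2 : allFrom d.chk (nat_lit 100) (nat_lit 3200) = true := by decide +kernel
theorem fctm3x3 : allFrom d.chk (nat_lit 100) (nat_lit 3300) = true := by decide +kernel
theorem fctm3x4 : allFrom d.chk (nat_lit 100) (nat_lit 3400) = true := by decide +kernel
theorem fctm3x5 : allFrom d.chk (nat_lit 100) (nat_lit 3500) = true := by decide +kernel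
theorem fctm3x6 : allFrom d.chk (nat_lit 100) (nat_lit 3600) = true := by decide +kernel
theorem fctm3x7 : allFrom d.chk (nat_lit 100) (nat_lit 3700) = true := by decide +kernel
theorem fctm3x8 : allFrom d.chk (nat_lit 100) (nat_lit 3800) = true := by decide +kernel
theorem fctm3x9 : allFrom d.chk (nat_lit 100) (nat_lit 3900) = true := by decide +kernel
theorem fctm3c1 : allFrom d.chk (nat_lit 200) (nat_lit 3000) = true := join fctm3x0 fctm3x1 rfl rfl
theorem fctm3c2 : allFrom d.chk (nat_lit 300) (nat_lit 3000) = true := join fctm3c1 fctm3x2 rfl rfl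
theorem fctm3c3 : allFrom d.chk (nat_lit 400) (nat_lit 3000) = true := join fctm3c2 fctm3x3 rfl rfl
theorem fctm3c4 : allFrom d.chk (nat_lit 500) (nat_lit 3000) = true := join fctm3c3 fctm3x4 rfl rfl
theorem fctm3c5 : allFrom d.chk (nat_lit 600) (nat_lit 3000) = true := join fctm3c4 fctm3x5 rfl rfl
theorem fctm3c6 : allFrom d.chk (nat_lit 700) (nat_lit 3000) = true := join fctm3c5 fctm3x6 rfl rfl
theorem fctm3c7 : allFrom d.chk (nat_lit 800) (nat_lit 3000) = true := join fctm3c6 fctm3x7 rfl rfl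
theorem fctm3c8 : allFrom d.chk (nat_lit 900) (nat_lit 3000) = true := join fctm3c7 fctm3x8 rfl rfl
theorem fctm3 : allFrom d.chk (nat_lit 1000) (nat_lit 3000) = true := join fctm3c8 fctm3x9 rfl rfl

end Cfsg.Agent.Lib.Compute.TC.FqDC
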