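-- Checks of FqDC.
import Cfsg.Agent.Lib.Compute.TC.FqDC.Data
import Cfsg.Agent.Lib.Compute.TCSplit
import Cfsg.Agent.Lib.Compute.TC.FqU0.Data
set_option autoImplicit false
set_option maxRecDepth 1000000

set_option Elab.async false

open Cfsg.Agent.Lib.Compute.ToddCoxeterCore Cfsg.Agent.Lib.Compute.ToddCoxeterPresented Cfsg.Agent.Lib.Compute.TCFast Cfsg.Agent.Lib.Compute.TCChain Cfsg.Agent.Lib.Compute.DCoset Cfsg.Agent.Lib.Compute.BlockAct Cfsg.Agent.Lib.Compute.TCSplit

namespace Cfsg.Agent.Lib.Compute.TC.FqDC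

theorem fctm4x0 : allFrom d.chk (nat_lit 100) (nat_lit 4000) = true := by decide +kernel
theorem fctm4x1 : allFrom d.chk (nat_lit 100) (nat_lit 4100) = true := by decide +kernel
theorem fctm4x2 : allFrom d.chk (nat_lit 100) (nat_lit 4200) = true := by decide +kernel
theorem fctm4x3 : allFrom d.chk (nat_lit 100) (nat_lit 4300) = true := by decide +kernel
theorem fctm4x4 : allFrom d.chk (nat_lit 100) (nat_lit 4400) = true := by decide +kernel
theorem fctm4x5 : allFrom d.chk (nat_lit 100) (nat_lit 4500) = true := by decide +kernel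
theorem fctm4x6 : allFrom d.chk (nat_lit 100) (nat_lit 4600) = true := by decide +kernel
theorem fctm4x7 : allFrom d.chk (nat_lit 100) (nat_lit 4700) = true := by decide +kernel
theorem fctm4x8 : allFrom d.chk (nat_lit 100) (nat_lit 4800) = true := by decide +kernel
theorem fctm4x9 : allFrom d.chk (nat_lit 100) (nat_lit 4900) = true := by decide +kernel
theorem fctm4c1 : allFrom d.chk (nat_lit 200) (nat_lit 4000) = true := join fctm4x0 fctm4x1 rfl rfl
theorem fctm4c2 : allFrom d.chk (nat_lit 300) (nat_lit 4000) = true := join fctm4c1 fctm4x2 rfl rfl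
theorem fctm4c3 : allFrom d.chk (nat_lit 400) (nat_lit 4000) = true := join fctm4c2 fctm4x3 rfl rfl
theorem fctm4c4 : allFrom d.chk (nat_lit 500) (nat_lit 4000) = true := join fctm4c3 fctm4x4 rfl rfl
theorem fctm4c5 : allFrom d.chk (nat_lit 600) (nat_lit 4000) = true := join fctm4c4 fctm4x5 rfl rfl
theorem fctm4c6 : allFrom d.chk (nat_lit 700) (nat_lit 4000) = true := join fctm4c5 fctm4x6 rfl rfl
theorem fctm4c7 : allFrom d.chk (nat_lit 800) (nat_lit 4000) = true := join fctm4c6 fctm4x7 rfl rfl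
theorem fctm4c8 : allFrom d.chk (nat_lit 900) (nat_lit 4000) = true := join fctm4c7 fctm4x8 rfl rfl
theorem fctm4 : allFrom d.chk (nat_lit 1000) (nat_lit 4000) = true := join fctm4c8 fctm4x9 rfl rfl

end Cfsg.Agent.Lib.Compute.TC.FqDC
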