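-- Checks of FqDC.
import Cfsg.Agent.Lib.Compute.TC.FqDC.Data
import Cfsg.Agent.Lib.Compute.TCSplit
import Cfsg.Agent.Lib.Compute.TC.FqU0.Data
set_option autoImplicit false
set_option maxRecDepth 1000000

set_option Elab.async false

open Cfsg.Agent.Lib.Compute.ToddCoxeterCore Cfsg.Agent.Lib.Compute.ToddCoxeterPresented Cfsg.Agent.Lib.Compute.TCFast Cfsg.Agent.Lib.Compute.TCChain Cfsg.Agent.Lib.Compute.DCoset Cfsg.Agent.Lib.Compute.BlockAct Cfsg.Agent.Lib.Compute.TCSplit

namespace Cfsg.Agent.Lib.Compute.TC.FqDC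

theorem fctm5x0 : allFrom d.chk (nat_lit 100) (nat_lit 5000) = true := by decide +kernel
theorem fctm5x1 : allFrom d.chk (nat_lit 100) (nat_lit 5100) = true := by decide +kernel
theorem fctm5x2 : allFrom d.chk (nat_lit 100) (nat_lit 5200) = true := by decide +kernel
theorem fctm5x3 : allFrom d.chk (nat_lit 100) (nat_lit 5300) = true := by decide +kernel
theorem fctm5x4 : allFrom d.chk (nat_lit 100) (nat_lit 5400) = true := by decide +kernel
theorem fctm5x5 : allFrom d.chk (nat_lit 100) (nat_lit 5500) = true := by decide +kernel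
theorem fctm5x6 : allFrom d.chk (nat_lit 100) (nat_lit 5600) = true := by decide +kernel
theorem fctm5x7 : allFrom d.chk (nat_lit 100) (nat_lit 5700) = true := by decide +kernel
theorem fctm5x8 : allFrom d.chk (nat_lit 100) (nat_lit 5800) = true := by decide +kernel
theorem fctm5x9 : allFrom d.chk (nat_lit 100) (nat_lit 5900) = true := by decide +kernel
theorem fctm5c1 : allFrom d.chk (nat_lit 200) (nat_lit 5000) = true := join fctm5x0 fctm5x1 rfl rfl
theorem fctm5c2 : allFrom d.chk (nat_lit 300) (nat_lit 5000) = true := join fctm5c1 fctm5x2 rfl rfl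
theorem fctm5c3 : allFrom d.chk (nat_lit 400) (nat_lit 5000) = true := join fctm5c2 fctm5x3 rfl rfl
theorem fctm5c4 : allFrom d.chk (nat_lit 500) (nat_lit 5000) = true := join fctm5c3 fctm5x4 rfl rfl
theorem fctm5c5 : allFrom d.chk (nat_lit 600) (nat_lit 5000) = true := join fctm5c4 fctm5x5 rfl rfl
theorem fctm5c6 : allFrom d.chk (nat_lit 700) (nat_lit 5000) = true := join fctm5c5 fctm5x6 rfl rfl
theorem fctm5c7 : allFrom d.chk (nat_lit 800) (nat_lit 5000) = true := join fctm5c6 fctm5x7 rfl rfl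
theorem fctm5c8 : allFrom d.chk (nat_lit 900) (nat_lit 5000) = true := join fctm5c7 fctm5x8 rfl rfl
theorem fctm5 : allFrom d.chk (nat_lit 1000) (nat_lit 5000) = true := join fctm5c8 fctm5x9 rfl rfl

end Cfsg.Agent.Lib.Compute.TC.FqDC
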