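-- Checks of FqDC.
import Cfsg.Agent.Lib.Compute.TC.FqDC.Data
import Cfsg.Agent.Lib.Compute.TCSplit
import Cfsg.Agent.Lib.Compute.TC.FqU0.Data
set_option autoImplicit false
set_option maxRecDepth 1000000

set_option Elab.async false

open Cfsg.Agent.Lib.Compute.ToddCoxeterCore Cfsg.Agent.Lib.Compute.ToddCoxeterPresented Cfsg.Agent.Lib.Compute.TCFast Cfsg.Agent.Lib.Compute.TCChain Cfsg.Agent.Lib.Compute.DCoset Cfsg.Agent.Lib.Compute.BlockAct Cfsg.Agent.Lib.Compute.TCSplit

namespace Cfsg.Agent.Lib.Compute.TC.FqDC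

theorem fctm6x0 : allFrom d.chk (nat_lit 100) (nat_lit 6000) = true := by decide +kernel
theorem fctm6x1 : allFrom d.chk (nat_lit 100) (nat_lit 6100) = true := by decide +kernel
theorem fctm6x2 : allFrom d.chk (nat_lit 100) (nat_lit 6200) = true := by decide +kernel
theorem fctm6x3 : allFrom d.chk (nat_lit 100) (nat_lit 6300) = true := by decide +kernel
theorem fctm6x4 : allFrom d.chk (nat_lit 100) (nat_lit 6400) = true := by decide +kernel
theorem fctm6x5 : allFrom d.chk (nat_lit 82) (nat_lit 6500) = true := by decide +kernel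
theorem fctm6c1 : allFrom d.chk (nat_lit 200) (nat_lit 6000) = true := join fctm6x0 fctm6x1 rfl rfl
theorem fctm6c2 : allFrom d.chk (nat_lit 300) (nat_lit 6000) = true := join fctm6c1 fctm6x2 rfl rfl
theorem fctm6c3 : allFrom d.chk (nat_lit 400) (nat_lit 6000) = true := join fctm6c2 fctm6x3 rfl rfl
theorem fctm6c4 : allFrom d.chk (nat_lit 500) (nat_lit 6000) = true := join fctm6c3 fctm6x4 rfl rfl
theorem fctm6 : allFrom d.chk (nat_lit 582) (nat_lit 6000) = true := join fctm6c4 fctm6x5 rfl rfl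

end Cfsg.Agent.Lib.Compute.TC.FqDC
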