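-- Checks of FqDC.
import Cfsg.Agent.Lib.Compute.TC.FqDC.Data
import Cfsg.Agent.Lib.Compute.TCSplit
import Cfsg.Agent.Lib.Compute.TC.FqU0.Data
set_option autoImplicit false
set_option maxRecDepth 1000000

set_option Elab.async false

open Cfsg.Agent.Lib.Compute.ToddCoxeterCore Cfsg.Agent.Lib.Compute.ToddCoxeterPresented Cfsg.Agent.Lib.Compute.TCFast Cfsg.Agent.Lib.Compute.TCChain Cfsg.Agent.Lib.Compute.DCoset Cfsg.Agent.Lib.Compute.BlockAct Cfsg.Agent.Lib.Compute.TCSplit

namespace Cfsg.Agent.Lib.Compute.TC.FqDC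

theorem keAll : Lv.all (fun r => d.keChk NF r (kg r)) = true := by decide +kernel

theorem chAll : Lv.all (fun r => chainChk (nat_lit 255) (kls r) (d.evK (kg r))) = true := by decide +kernel

theorem posAll : Lv.all (fun r => Nat.ble 1 ((kls r).map (·.n)).prod) = true := by decide +kernel

theorem sumEq : (Lv.map (fun s => nat_lit 47377612800 / ((kls s).map (·.n)).prod)).sum = nat_lit 86316516 := by decide +kernel

theorem s9Chain : chainChk (nat_lit 255) s9ls (d.evK s9kg) = true := by decide +kernel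

theorem s9Prod : (s9ls.map (·.n)).prod = nat_lit 362880 := by decide +kernel

theorem fix0 : fixAll (ev0 Cfsg.Agent.Lib.Compute.TC.FqU0.cfg) 0 next0 = true := by decide +kernel

theorem chainOK : chainChk Cfsg.Agent.Lib.Compute.TC.FqU0.cfg.N ls (evN (ev0 Cfsg.Agent.Lib.Compute.TC.FqU0.cfg) next0) = true := by decide +kernel

theorem prodEq : Cfsg.Agent.Lib.Compute.TC.FqU0.cfg.N * (ls.map (·.n)).prod = 47377612800 := by decide +kernel

theorem baseEq : 0 :: ls.map (·.b) = d.base := by decide +kernel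


end Cfsg.Agent.Lib.Compute.TC.FqDC
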