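-- Checks of FqDC.
import Cfsg.Agent.Lib.Compute.TC.FqDC.Data
import Cfsg.Agent.Lib.Compute.TCSplit
import Cfsg.Agent.Lib.Compute.TC.FqU0.Data
set_option autoImplicit false
set_option maxRecDepth 1000000

set_option Elab.async false

open Cfsg.Agent.Lib.Compute.ToddCoxeterCore Cfsg.Agent.Lib.Compute.ToddCoxeterPresented Cfsg.Agent.Lib.Compute.TCFast Cfsg.Agent.Lib.Compute.TCChain Cfsg.Agent.Lib.Compute.DCoset Cfsg.Agent.Lib.Compute.BlockAct Cfsg.Agent.Lib.Compute.TCSplit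

namespace Cfsg.Agent.Lib.Compute.TC.FqDC

theorem ptlm0x0 : allFrom (ptChk pt (nat_lit 255) (nat_lit 9)) (nat_lit 20000) (nat_lit 0) = true := by decide +kernel
theorem ptlm0x1 : allFrom (ptChk pt (nat_lit 255) (nat_lit 9)) (nat_lit 20000) (nat_lit 20000) = true := by decide +kernel
theorem ptlm0x2 : allFrom (ptChk pt (nat_lit 255) (nat_lit 9)) (nat_lit 20000) (nat_lit 40000) = true := by decide +kernel
theorem ptlm0x3 : allFrom (ptChk pt (nat_lit 255) (nat_lit 9)) (nat_lit 20000) (nat_lit 60000) = true := by decide +kernel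
theorem ptlm0x4 : allFrom (ptChk pt (nat_lit 255) (nat_lit 9)) (nat_lit 20000) (nat_lit 80000) = true := by decide +kernel
theorem ptlm0x5 : allFrom (ptChk pt (nat_lit 255) (nat_lit 9)) (nat_lit 20000) (nat_lit 100000) = true := by decide +kernel
theorem ptlm0x6 : allFrom (ptChk pt (nat_lit 255) (nat_lit 9)) (nat_lit 10560) (nat_lit 120000) = true := by decide +kernel
theorem ptlm0c1 : allFrom (ptChk pt (nat_lit 255) (nat_lit 9)) (nat_lit 40000) (nat_lit 0) = true := join ptlm0x0 ptlm0x1 rfl rfl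
theorem ptlm0c2 : allFrom (ptChk pt (nat_lit 255) (nat_lit 9)) (nat_lit 60000) (nat_lit 0) = true := join ptlm0c1 ptlm0x2 rfl rfl
theorem ptlm0c3 : allFrom (ptChk pt (nat_lit 255) (nat_lit 9)) (nat_lit 80000) (nat_lit 0) = true := join ptlm0c2 ptlm0x3 rfl rfl
theorem ptlm0c4 : allFrom (ptChk pt (nat_lit 255) (nat_lit 9)) (nat_lit 100000) (nat_lit 0) = true := join ptlm0c3 ptlm0x4 rfl rfl
theorem ptlm0c5 : allFrom (ptChk pt (nat_lit 255) (nat_lit 9)) (nat_lit 120000) (nat_lit 0) = true := join ptlm0c4 ptlm0x5 rfl rfl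
theorem ptlm0 : allFrom (ptChk pt (nat_lit 255) (nat_lit 9)) (nat_lit 130560) (nat_lit 0) = true := join ptlm0c5 ptlm0x6 rfl rfl

end Cfsg.Agent.Lib.Compute.TC.FqDC
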