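-- Checks of FqDC.
import Cfsg.Agent.Lib.Compute.TC.FqDC.Data
import Cfsg.Agent.Lib.Compute.TCSplit
import Cfsg.Agent.Lib.Compute.TC.FqU0.Data
set_option autoImplicit false
set_option maxRecDepth 1000000

set_option Elab.async false

open Cfsg.Agent.Lib.Compute.ToddCoxeterCore Cfsg.Agent.Lib.Compute.ToddCoxeterPresented Cfsg.Agent.Lib.Compute.TCFast Cfsg.Agent.Lib.Compute.TCChain Cfsg.Agent.Lib.Compute.DCoset Cfsg.Agent.Lib.Compute.BlockAct Cfsg.Agent.Lib.Compute.TCSplit

namespace Cfsg.Agent.Lib.Compute.TC.FqDC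

theorem slpm0x0 : allFrom (fun j => SE.chk R (nat_lit 255) (fun i a => ev0 Cfsg.Agent.Lib.Compute.TC.FqU0.cfg i true a) j (Es.getD j (.prod []))) (nat_lit 25) (nat_lit 0) = true := by decide +kernel
theorem slpm0x1 : allFrom (fun j => SE.chk R (nat_lit 255) (fun i a => ev0 Cfsg.Agent.Lib.Compute.TC.FqU0.cfg i true a) j (Es.getD j (.prod []))) (nat_lit 25) (nat_lit 25) = true := by decide +kernel
theorem slpm0x2 : allFrom (fun j => SE.chk R (nat_lit 255) (fun i a => ev0 Cfsg.Agent.Lib.Compute.TC.FqU0.cfg i true a) j (Es.getD j (.prod []))) (nat_lit 25) (nat_lit 50) = true := by decide +kernel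
theorem slpm0x3 : allFrom (fun j => SE.chk R (nat_lit 255) (fun i a => ev0 Cfsg.Agent.Lib.Compute.TC.FqU0.cfg i true a) j (Es.getD j (.prod []))) (nat_lit 25) (nat_lit 75) = true := by decide +kernel
theorem slpm0x4 : allFrom (fun j => SE.chk R (nat_lit 255) (fun i a => ev0 Cfsg.Agent.Lib.Compute.TC.FqU0.cfg i true a) j (Es.getD j (.prod []))) (nat_lit 25) (nat_lit 100) = true := by decide +kernel
theorem slpm0x5 : allFrom (fun j => SE.chk R (nat_lit 255) (fun i a => ev0 Cfsg.Agent.Lib.Compute.TC.FqU0.cfg i true a) j (Es.getD j (.prod []))) (nat_lit 18) (nat_lit 125) = true := by decide +kernel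
theorem slpm0c1 : allFrom (fun j => SE.chk R (nat_lit 255) (fun i a => ev0 Cfsg.Agent.Lib.Compute.TC.FqU0.cfg i true a) j (Es.getD j (.prod []))) (nat_lit 50) (nat_lit 0) = true := join slpm0x0 slpm0x1 rfl rfl
theorem slpm0c2 : allFrom (fun j => SE.chk R (nat_lit 255) (fun i a => ev0 Cfsg.Agent.Lib.Compute.TC.FqU0.cfg i true a) j (Es.getD j (.prod []))) (nat_lit 75) (nat_lit 0) = true := join slpm0c1 slpm0x2 rfl rfl
theorem slpm0c3 : allFrom (fun j => SE.chk R (nat_lit 255) (fun i a => ev0 Cfsg.Agent.Lib.Compute.TC.FqU0.cfg i true a) j (Es.getD j (.prod []))) (nat_lit 100) (nat_lit 0) = true := join slpm0c2 slpm0x3 rfl rfl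
theorem slpm0c4 : allFrom (fun j => SE.chk R (nat_lit 255) (fun i a => ev0 Cfsg.Agent.Lib.Compute.TC.FqU0.cfg i true a) j (Es.getD j (.prod []))) (nat_lit 125) (nat_lit 0) = true := join slpm0c3 slpm0x4 rfl rfl
theorem slpm0 : allFrom (fun j => SE.chk R (nat_lit 255) (fun i a => ev0 Cfsg.Agent.Lib.Compute.TC.FqU0.cfg i true a) j (Es.getD j (.prod []))) (nat_lit 143) (nat_lit 0) = true := join slpm0c4 slpm0x5 rfl rfl

end Cfsg.Agent.Lib.Compute.TC.FqDC
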