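-- Checks of FqDC.
import Cfsg.Agent.Lib.Compute.TC.FqDC.Data
import Cfsg.Agent.Lib.Compute.TCSplit
import Cfsg.Agent.Lib.Compute.TC.FqU0.Data
set_option autoImplicit false
set_option maxRecDepth 1000000

set_option Elab.async false

open Cfsg.Agent.Lib.Compute.ToddCoxeterCore Cfsg.Agent.Lib.Compute.ToddCoxeterPresented Cfsg.Agent.Lib.Compute.TCFast Cfsg.Agent.Lib.Compute.TCChain Cfsg.Agent.Lib.Compute.DCoset Cfsg.Agent.Lib.Compute.BlockAct Cfsg.Agent.Lib.Compute.TCSplit

namespace Cfsg.Agent.Lib.Compute.TC.FqDC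

theorem srtm0x0 : allFrom (srtChk pt (nat_lit 9)) (nat_lit 20000) (nat_lit 1) = true := by decide +kernel
theorem srtm0x1 : allFrom (srtChk pt (nat_lit 9)) (nat_lit 20000) (nat_lit 20001) = true := by decide +kernel
theorem srtm0x2 : allFrom (srtChk pt (nat_lit 9)) (nat_lit 20000) (nat_lit 40001) = true := by decide +kernel
theorem srtm0x3 : allFrom (srtChk pt (nat_lit 9)) (nat_lit 20000) (nat_lit 60001) = true := by decide +kernel
theorem srtm0x4 : allFrom (srtChk pt (nat_lit 9)) (nat_lit 20000) (nat_lit 80001) = true := by decide +kernel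
theorem srtm0x5 : allFrom (srtChk pt (nat_lit 9)) (nat_lit 20000) (nat_lit 100001) = true := by decide +kernel
theorem srtm0x6 : allFrom (srtChk pt (nat_lit 9)) (nat_lit 10558) (nat_lit 120001) = true := by decide +kernel
theorem srtm0c1 : allFrom (srtChk pt (nat_lit 9)) (nat_lit 40000) (nat_lit 1) = true := join srtm0x0 srtm0x1 rfl rfl
theorem srtm0c2 : allFrom (srtChk pt (nat_lit 9)) (nat_lit 60000) (nat_lit 1) = true := join srtm0c1 srtm0x2 rfl rfl
theorem srtm0c3 : allFrom (srtChk pt (nat_lit 9)) (nat_lit 80000) (nat_lit 1) = true := join srtm0c2 srtm0x3 rfl rfl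
theorem srtm0c4 : allFrom (srtChk pt (nat_lit 9)) (nat_lit 100000) (nat_lit 1) = true := join srtm0c3 srtm0x4 rfl rfl
theorem srtm0c5 : allFrom (srtChk pt (nat_lit 9)) (nat_lit 120000) (nat_lit 1) = true := join srtm0c4 srtm0x5 rfl rfl
theorem srtm0 : allFrom (srtChk pt (nat_lit 9)) (nat_lit 130558) (nat_lit 1) = true := join srtm0c5 srtm0x6 rfl rfl

end Cfsg.Agent.Lib.Compute.TC.FqDC
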