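-- Assembly of the checks of FqDC.
import Cfsg.Agent.Lib.Compute.TC.FqDC.Slp0
import Cfsg.Agent.Lib.Compute.TC.FqDC.Ptl0
import Cfsg.Agent.Lib.Compute.TC.FqDC.Srt0
import Cfsg.Agent.Lib.Compute.TC.FqDC.Dfr0
import Cfsg.Agent.Lib.Compute.TC.FqDC.Cl00
import Cfsg.Agent.Lib.Compute.TC.FqDC.Cl01
import Cfsg.Agent.Lib.Compute.TC.FqDC.Cl10
import Cfsg.Agent.Lib.Compute.TC.FqDC.Cl11
import Cfsg.Agent.Lib.Compute.TC.FqDC.Cl20
import Cfsg.Agent.Lib.Compute.TC.FqDC.Cl21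
import Cfsg.Agent.Lib.Compute.TC.FqDC.Cl30
import Cfsg.Agent.Lib.Compute.TC.FqDC.Cl31
import Cfsg.Agent.Lib.Compute.TC.FqDC.Cl40
import Cfsg.Agent.Lib.Compute.TC.FqDC.Cl41
import Cfsg.Agent.Lib.Compute.TC.FqDC.Cl50
import Cfsg.Agent.Lib.Compute.TC.FqDC.Cl51
import Cfsg.Agent.Lib.Compute.TC.FqDC.Cl60
import Cfsg.Agent.Lib.Compute.TC.FqDC.Cl61
import Cfsg.Agent.Lib.Compute.TC.FqDC.Cl70
import Cfsg.Agent.Lib.Compute.TC.FqDC.Cl71
import Cfsg.Agent.Lib.Compute.TC.FqDC.Cl80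
import Cfsg.Agent.Lib.Compute.TC.FqDC.Cl81
import Cfsg.Agent.Lib.Compute.TC.FqDC.Trn0
import Cfsg.Agent.Lib.Compute.TC.FqDC.Fct0
import Cfsg.Agent.Lib.Compute.TC.FqDC.Fct1
import Cfsg.Agent.Lib.Compute.TC.FqDC.Fct2
import Cfsg.Agent.Lib.Compute.TC.FqDC.Fct3
import Cfsg.Agent.Lib.Compute.TC.FqDC.Fct4
import Cfsg.Agent.Lib.Compute.TC.FqDC.Fct5
import Cfsg.Agent.Lib.Compute.TC.FqDC.Fct6
import Cfsg.Agent.Lib.Compute.TC.FqDC.Cov0x0
import Cfsg.Agent.Lib.Compute.TC.FqDC.Cov0x1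
import Cfsg.Agent.Lib.Compute.TC.FqDC.Cov1x0
import Cfsg.Agent.Lib.Compute.TC.FqDC.Cov1x1
import Cfsg.Agent.Lib.Compute.TC.FqDC.Cov2x0
import Cfsg.Agent.Lib.Compute.TC.FqDC.Cov2x1
import Cfsg.Agent.Lib.Compute.TC.FqDC.Cov3x0
import Cfsg.Agent.Lib.Compute.TC.FqDC.Cov3x1
import Cfsg.Agent.Lib.Compute.TC.FqDC.Cov4x0
import Cfsg.Agent.Lib.Compute.TC.FqDC.Cov4x1
import Cfsg.Agent.Lib.Compute.TC.FqDC.Cov5x0
import Cfsg.Agent.Lib.Compute.TC.FqDC.Cov5x1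
import Cfsg.Agent.Lib.Compute.TC.FqDC.Cov6x0
import Cfsg.Agent.Lib.Compute.TC.FqDC.Cov6x1
import Cfsg.Agent.Lib.Compute.TC.FqDC.Cov7x0
import Cfsg.Agent.Lib.Compute.TC.FqDC.Cov7x1
import Cfsg.Agent.Lib.Compute.TC.FqDC.Cov8x0
import Cfsg.Agent.Lib.Compute.TC.FqDC.Cov8x1
import Cfsg.Agent.Lib.Compute.TC.FqDC.Cov9x0
import Cfsg.Agent.Lib.Compute.TC.FqDC.Cov9x1
import Cfsg.Agent.Lib.Compute.TC.FqDC.Cov10x0
import Cfsg.Agent.Lib.Compute.TC.FqDC.Cov10x1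
import Cfsg.Agent.Lib.Compute.TC.FqDC.Cov11x0
import Cfsg.Agent.Lib.Compute.TC.FqDC.Cov11x1
import Cfsg.Agent.Lib.Compute.TC.FqDC.Cov12x0
import Cfsg.Agent.Lib.Compute.TC.FqDC.Cov12x1
import Cfsg.Agent.Lib.Compute.TC.FqDC.Kc
set_option autoImplicit false
set_option maxRecDepth 1000000

set_option Elab.async false

open Cfsg.Agent.Lib.Compute.ToddCoxeterCore Cfsg.Agent.Lib.Compute.ToddCoxeterPresented Cfsg.Agent.Lib.Compute.TCFast Cfsg.Agent.Lib.Compute.TCChain Cfsg.Agent.Lib.Compute.DCoset Cfsg.Agent.Lib.Compute.BlockAct Cfsg.Agent.Lib.Compute.TCSplit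

namespace Cfsg.Agent.Lib.Compute.TC.FqDC

theorem slpAll : allFrom (fun j => SE.chk R (nat_lit 255) (fun i a => ev0 Cfsg.Agent.Lib.Compute.TC.FqU0.cfg i true a) j (Es.getD j (.prod []))) (nat_lit 143) (nat_lit 0) = true := slpm0
theorem ptlAll : allFrom (ptChk pt (nat_lit 255) (nat_lit 9)) (nat_lit 130560) (nat_lit 0) = true := ptlm0
theorem srtAll : allFrom (srtChk pt (nat_lit 9)) (nat_lit 130558) (nat_lit 1) = true := srtm0
theorem dfrAll : allFrom (difChk pt (nat_lit 9)) (nat_lit 130559) (nat_lit 1) = true := dfrm0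
theorem cl0All : allFrom (fun a => d.la [nat_lit 0] a (T (nat_lit 0) a)) (nat_lit 130560) (nat_lit 0) = true := join cl0m0 cl0m1 rfl rfl
theorem cl1All : allFrom (fun a => d.la [nat_lit 1] a (T (nat_lit 1) a)) (nat_lit 130560) (nat_lit 0) = true := join cl1m0 cl1m1 rfl rfl
theorem cl2All : allFrom (fun a => d.la [nat_lit 2] a (T (nat_lit 2) a)) (nat_lit 130560) (nat_lit 0) = true := join cl2m0 cl2m1 rfl rfl
theorem cl3All : allFrom (fun a => d.la [nat_lit 3] a (T (nat_lit 3) a)) (nat_lit 130560) (nat_lit 0) = true := join cl3m0 cl3m1 rfl rfl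
theorem cl4All : allFrom (fun a => d.la [nat_lit 4] a (T (nat_lit 4) a)) (nat_lit 130560) (nat_lit 0) = true := join cl4m0 cl4m1 rfl rfl
theorem cl5All : allFrom (fun a => d.la [nat_lit 5] a (T (nat_lit 5) a)) (nat_lit 130560) (nat_lit 0) = true := join cl5m0 cl5m1 rfl rfl
theorem cl6All : allFrom (fun a => d.la [nat_lit 6] a (T (nat_lit 6) a)) (nat_lit 130560) (nat_lit 0) = true := join cl6m0 cl6m1 rfl rfl
theorem cl7All : allFrom (fun a => d.la [nat_lit 7] a (T (nat_lit 7) a)) (nat_lit 130560) (nat_lit 0) = true := join cl7m0 cl7m1 rfl rfl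
theorem cl8All : allFrom (fun a => d.la [nat_lit 8] a (T (nat_lit 8) a)) (nat_lit 130560) (nat_lit 0) = true := join cl8m0 cl8m1 rfl rfl
theorem trnAll : allFrom (paChk T pa (nat_lit 130560) (nat_lit 9)) (nat_lit 130560) (nat_lit 0) = true := trnm0
theorem fctAllc1 : allFrom d.chk (nat_lit 2000) (nat_lit 0) = true := join fctm0 fctm1 rfl rfl
theorem fctAllc2 : allFrom d.chk (nat_lit 3000) (nat_lit 0) = true := join fctAllc1 fctm2 rfl rfl
theorem fctAllc3 : allFrom d.chk (nat_lit 4000) (nat_lit 0) = true := join fctAllc2 fctm3 rfl rfl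
theorem fctAllc4 : allFrom d.chk (nat_lit 5000) (nat_lit 0) = true := join fctAllc3 fctm4 rfl rfl
theorem fctAllc5 : allFrom d.chk (nat_lit 6000) (nat_lit 0) = true := join fctAllc4 fctm5 rfl rfl
theorem fctAll : allFrom d.chk (nat_lit 6582) (nat_lit 0) = true := join fctAllc5 fctm6 rfl rfl
theorem cov0All : allFrom (d.cov2 NF Lv (TrF (nat_lit 0)) (nat_lit 0)) (nat_lit 130560) (nat_lit 0) = true := join cov0xm0 cov0xm1 rfl rfl
theorem cov1All : allFrom (d.cov2 NF Lv (TrF (nat_lit 1)) (nat_lit 1)) (nat_lit 130560) (nat_lit 0) = true := join cov1xm0 cov1xm1 rfl rfl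
theorem cov2All : allFrom (d.cov2 NF Lv (TrF (nat_lit 2)) (nat_lit 2)) (nat_lit 130560) (nat_lit 0) = true := join cov2xm0 cov2xm1 rfl rfl
theorem cov3All : allFrom (d.cov2 NF Lv (TrF (nat_lit 3)) (nat_lit 4)) (nat_lit 130560) (nat_lit 0) = true := join cov3xm0 cov3xm1 rfl rfl
theorem cov4All : allFrom (d.cov2 NF Lv (TrF (nat_lit 4)) (nat_lit 5)) (nat_lit 130560) (nat_lit 0) = true := join cov4xm0 cov4xm1 rfl rfl
theorem cov5All : allFrom (d.cov2 NF Lv (TrF (nat_lit 5)) (nat_lit 25)) (nat_lit 130560) (nat_lit 0) = true := join cov5xm0 cov5xm1 rfl rfl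
theorem cov6All : allFrom (d.cov2 NF Lv (TrF (nat_lit 6)) (nat_lit 32)) (nat_lit 130560) (nat_lit 0) = true := join cov6xm0 cov6xm1 rfl rfl
theorem cov7All : allFrom (d.cov2 NF Lv (TrF (nat_lit 7)) (nat_lit 33)) (nat_lit 130560) (nat_lit 0) = true := join cov7xm0 cov7xm1 rfl rfl
theorem cov8All : allFrom (d.cov2 NF Lv (TrF (nat_lit 8)) (nat_lit 34)) (nat_lit 130560) (nat_lit 0) = true := join cov8xm0 cov8xm1 rfl rfl
theorem cov9All : allFrom (d.cov2 NF Lv (TrF (nat_lit 9)) (nat_lit 35)) (nat_lit 130560) (nat_lit 0) = true := join cov9xm0 cov9xm1 rfl rfl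
theorem cov10All : allFrom (d.cov2 NF Lv (TrF (nat_lit 10)) (nat_lit 36)) (nat_lit 130560) (nat_lit 0) = true := join cov10xm0 cov10xm1 rfl rfl
theorem cov11All : allFrom (d.cov2 NF Lv (TrF (nat_lit 11)) (nat_lit 37)) (nat_lit 130560) (nat_lit 0) = true := join cov11xm0 cov11xm1 rfl rfl
theorem cov12All : allFrom (d.cov2 NF Lv (TrF (nat_lit 12)) (nat_lit 38)) (nat_lit 130560) (nat_lit 0) = true := join cov12xm0 cov12xm1 rfl rfl

theorem nEq : d.n = 130560 := by decide +kernel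

theorem covAll : ∀ r ∈ Lv, ∃ Tr : ℕ → ℕ → ℕ, ∀ c, c < d.n → d.cov2 NF Lv Tr r c = true := by
  intro r hr
  simp only [Lv, List.mem_cons, List.not_mem_nil, or_false] at hr
  rcases hr with rfl | rfl | rfl | rfl | rfl | rfl | rfl | rfl | rfl | rfl | rfl | rfl | rfl
  exacts [⟨TrF (nat_lit 0), fun c hc => allFrom_spec cov0All c (Nat.zero_le _) (lt_of_lt_of_eq hc (by rw [Nat.zero_add]; exact nEq))⟩,
    ⟨TrF (nat_lit 1), fun c hc => allFrom_spec cov1All c (Nat.zero_le _) (lt_of_lt_of_eq hc (by rw [Nat.zero_add]; exact nEq))⟩,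
    ⟨TrF (nat_lit 2), fun c hc => allFrom_spec cov2All c (Nat.zero_le _) (lt_of_lt_of_eq hc (by rw [Nat.zero_add]; exact nEq))⟩,
    ⟨TrF (nat_lit 3), fun c hc => allFrom_spec cov3All c (Nat.zero_le _) (lt_of_lt_of_eq hc (by rw [Nat.zero_add]; exact nEq))⟩,
    ⟨TrF (nat_lit 4), fun c hc => allFrom_spec cov4All c (Nat.zero_le _) (lt_of_lt_of_eq hc (by rw [Nat.zero_add]; exact nEq))⟩,
    ⟨TrF (nat_lit 5), fun c hc => allFrom_spec cov5All c (Nat.zero_le _) (lt_of_lt_of_eq hc (by rw [Nat.zero_add]; exact nEq))⟩,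
    ⟨TrF (nat_lit 6), fun c hc => allFrom_spec cov6All c (Nat.zero_le _) (lt_of_lt_of_eq hc (by rw [Nat.zero_add]; exact nEq))⟩,
    ⟨TrF (nat_lit 7), fun c hc => allFrom_spec cov7All c (Nat.zero_le _) (lt_of_lt_of_eq hc (by rw [Nat.zero_add]; exact nEq))⟩,
    ⟨TrF (nat_lit 8), fun c hc => allFrom_spec cov8All c (Nat.zero_le _) (lt_of_lt_of_eq hc (by rw [Nat.zero_add]; exact nEq))⟩,
    ⟨TrF (nat_lit 9), fun c hc => allFrom_spec cov9All c (Nat.zero_le _) (lt_of_lt_of_eq hc (by rw [Nat.zero_add]; exact nEq))⟩,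
    ⟨TrF (nat_lit 10), fun c hc => allFrom_spec cov10All c (Nat.zero_le _) (lt_of_lt_of_eq hc (by rw [Nat.zero_add]; exact nEq))⟩,
    ⟨TrF (nat_lit 11), fun c hc => allFrom_spec cov11All c (Nat.zero_le _) (lt_of_lt_of_eq hc (by rw [Nat.zero_add]; exact nEq))⟩,
    ⟨TrF (nat_lit 12), fun c hc => allFrom_spec cov12All c (Nat.zero_le _) (lt_of_lt_of_eq hc (by rw [Nat.zero_add]; exact nEq))⟩]

end Cfsg.Agent.Lib.Compute.TC.FqDC
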