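-- Checks of FqDC.
import Cfsg.Agent.Lib.Compute.TC.FqDC.Data
import Cfsg.Agent.Lib.Compute.TCSplit
import Cfsg.Agent.Lib.Compute.TC.FqU0.Data
set_option autoImplicit false
set_option maxRecDepth 1000000

set_option Elab.async false

open Cfsg.Agent.Lib.Compute.ToddCoxeterCore Cfsg.Agent.Lib.Compute.ToddCoxeterPresented Cfsg.Agent.Lib.Compute.TCFast Cfsg.Agent.Lib.Compute.TCChain Cfsg.Agent.Lib.Compute.DCoset Cfsg.Agent.Lib.Compute.BlockAct Cfsg.Agent.Lib.Compute.TCSplit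

namespace Cfsg.Agent.Lib.Compute.TC.FqDC

theorem cov10xm1x0 : allFrom (d.cov2 NF Lv (TrF (nat_lit 10)) (nat_lit 36)) (nat_lit 15000) (nat_lit 90000) = true := by decide +kernel
theorem cov10xm1x1 : allFrom (d.cov2 NF Lv (TrF (nat_lit 10)) (nat_lit 36)) (nat_lit 15000) (nat_lit 105000) = true := by decide +kernel
theorem cov10xm1x2 : allFrom (d.cov2 NF Lv (TrF (nat_lit 10)) (nat_lit 36)) (nat_lit 10560) (nat_lit 120000) = true := by decide +kernel
theorem cov10xm1c1 : allFrom (d.cov2 NF Lv (TrF (nat_lit 10)) (nat_lit 36)) (nat_lit 30000) (nat_lit 90000) = true := join cov10xm1x0 cov10xm1x1 rfl rfl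
theorem cov10xm1 : allFrom (d.cov2 NF Lv (TrF (nat_lit 10)) (nat_lit 36)) (nat_lit 40560) (nat_lit 90000) = true := join cov10xm1c1 cov10xm1x2 rfl rfl

end Cfsg.Agent.Lib.Compute.TC.FqDC
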